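import Groth.Agent.Lib.Helper29.FibHomSmooth
import Mathlib.AlgebraicGeometry.ZariskisMainTheorem

/-!
# Helper library (helper29): the quasi-finite locus of a homomorphism of group schemes is a union
of fibres and is detected fibrewise (SGA3 VI_B 2.5 for quasi-finiteness)

* `quasiFiniteAt_descend`: quasi-finiteness at a point descends along arbitrary base change
* `main5315`
-/

set_option autoImplicit false
set_option maxHeartbeats 1600000
universe u
open CategoryTheory CategoryTheory.Limits MonoidalCategory CartesianMonoidalCategory MonObj GrpObj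
  AlgebraicGeometry

namespace Groth.Agent.Lib.Helper29.FibHomSmooth

open Groth.Agent.Lib.Helper29 Groth.Agent.Lib.Helper29.IsogFib Groth.Agent.Lib.Helper14
  Groth.Agent.Lib.Helper8

theorem qfAt_iff {X Y : Scheme.{u}} (f : X ⟶ Y) [LocallyOfFiniteType f] (x : X) (y : Y)
    (hxy : f x = y) :
    f.QuasiFiniteAt x ↔ IsOpen ({(f.fiberHomeo y).symm ⟨x, hxy⟩} : Set (f.fiber y)) := by
  subst hxy
  exact Scheme.Hom.quasiFiniteAt_iff_isOpen_singleton_asFiber

theorem quasiFiniteAt_descend {X' X Y' Y : Scheme.{u}} {g' : X' ⟶ X} {f' : X' ⟶ Y'} {f : X ⟶ Y}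
    {g : Y' ⟶ Y} (h : IsPullback g' f' f g) [LocallyOfFiniteType f] (x' : X')
    (hx' : f'.QuasiFiniteAt x') : f.QuasiFiniteAt (g' x') := by
  haveI : LocallyOfFiniteType f' :=
    MorphismProperty.of_isPullback (P := @LocallyOfFiniteType) h inferInstance
  have hxy : f (g' x') = g (f' x') := by
    rw [← Scheme.Hom.comp_apply, h.w, Scheme.Hom.comp_apply]
  rw [qfAt_iff f (g' x') (g (f' x')) hxy]
  rw [qfAt_iff f' x' (f' x') rfl] at hx'
  obtain ⟨φ, hpb, hφι⟩ : ∃ φ : f'.fiber (f' x') ⟶ f.fiber (g (f' x')),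
      IsPullback φ (f'.fiberToSpecResidueField (f' x')) (f.fiberToSpecResidueField (g (f' x')))
        (Spec.map (g.residueFieldMap (f' x'))) ∧
      φ ≫ f.fiberι (g (f' x')) = f'.fiberι (f' x') ≫ g' :=
    ⟨_, isPullback_fiberToSpecResidueField_of_isPullback h (f' x'), pullback.lift_fst _ _ _⟩
  haveI : UniversallyOpen (Spec.map (g.residueFieldMap (f' x'))) := inferInstance
  haveI hφo : UniversallyOpen φ :=
    MorphismProperty.of_isPullback (P := @UniversallyOpen) hpb.flip inferInstance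
  have hpt : φ ((f'.fiberHomeo (f' x')).symm ⟨x', rfl⟩) =
      (f.fiberHomeo (g (f' x'))).symm ⟨g' x', hxy⟩ := by
    apply (f.fiberι (g (f' x'))).isEmbedding.injective
    have e1 := congrArg
      (fun ψ : f'.fiber (f' x') ⟶ X => ψ ((f'.fiberHomeo (f' x')).symm ⟨x', rfl⟩)) hφι
    simp only [Scheme.Hom.comp_apply, Scheme.Hom.fiberι_fiberHomeo_symm] at e1
    simp only [Scheme.Hom.fiberι_fiberHomeo_symm]
    exact e1
  rw [← hpt, ← Set.image_singleton]
  exact φ.isOpenMap _ hx'

theorem mem_Loc_lqf_iff {X Y : Scheme.{u}} (f : X ⟶ Y) [LocallyOfFiniteType f] (x : X) :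
    x ∈ Loc @LocallyQuasiFinite f ↔ f.QuasiFiniteAt x := by
  constructor
  · rintro ⟨W, hxW, hW⟩
    haveI := hW
    have := (W.ι ≫ f).quasiFiniteAt ⟨x, hxW⟩
    rw [Scheme.Hom.quasiFiniteAt_comp_iff_of_isOpenImmersion] at this
    exact this
  · intro hx
    exact ⟨f.quasiFiniteLocus, hx, inferInstance⟩

theorem Loc_lqf_descend {X' X Y' Y : Scheme.{u}} {g' : X' ⟶ X} {f' : X' ⟶ Y'} {f : X ⟶ Y}
    {g : Y' ⟶ Y} (h : IsPullback g' f' f g) [LocallyOfFiniteType f] (x' : X')
    (hx' : x' ∈ Loc @LocallyQuasiFinite f') : g' x' ∈ Loc @LocallyQuasiFinite f := by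
  haveI : LocallyOfFiniteType f' :=
    MorphismProperty.of_isPullback (P := @LocallyOfFiniteType) h inferInstance
  rw [mem_Loc_lqf_iff] at hx' ⊢
  exact quasiFiniteAt_descend h x' hx'

section grp

variable {S : Scheme.{u}} {G H : Over S} [GrpObj G] [GrpObj H] (u : G ⟶ H) [IsMonHom u]

theorem Loc_lqf_homog [LocallyOfFiniteType u.left] (x y : G.left)
    (hxy : G.hom x = G.hom y) (hx : x ∈ Loc @LocallyQuasiFinite u.left) :
    y ∈ Loc @LocallyQuasiFinite u.left := by
  obtain ⟨z, hz1, hz2⟩ := GrpdCM.exists_preimage_of_isPullback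
    (GrpDim.isPullback_snd_mul_left G) x y hxy
  have hz : z ∈ Loc @LocallyQuasiFinite (G ◁ u).left :=
    Loc_baseChange @LocallyQuasiFinite (sq1 u) z (by rw [hz1]; exact hx)
  have := Loc_lqf_descend (sq2 u) z hz
  rwa [hz2] at this

theorem lqf_mem_Loc_of_fibre [LocallyOfFiniteType u.left] (x : G.left)
    (hx : LocallyQuasiFinite ((Over.pullback (S.fromSpecResidueField (G.hom x))).map u).left) :
    x ∈ Loc @LocallyQuasiFinite u.left := by
  have hs : H.hom (u.left x) = G.hom x := by rw [← Scheme.Hom.comp_apply, Over.w u]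
  have hx' : LocallyQuasiFinite
      ((Over.pullback (S.fromSpecResidueField (H.hom (u.left x)))).map u).left := by
    rw [hs]; exact hx
  have h1 : LocallyQuasiFinite (pullback.snd u.left (H.hom.fiberι (H.hom (u.left x)))) :=
    (snd_fibre_iff u @LocallyQuasiFinite _).2 hx'
  obtain ⟨h', hh'⟩ : u.left x ∈ Set.range (H.hom.fiberι (H.hom (u.left x))) := by
    rw [Scheme.Hom.range_fiberι]; rfl
  obtain ⟨z, hz1, hz2⟩ := Scheme.Pullback.exists_preimage_pullback (f := u.left)
    (g := H.hom.fiberι (H.hom (u.left x))) x h' hh'.symm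
  have := Loc_lqf_descend (IsPullback.of_hasPullback u.left (H.hom.fiberι (H.hom (u.left x)))) z
    (mem_Loc_of @LocallyQuasiFinite h1 z)
  rwa [hz1] at this

end grp

theorem main5315 (S : Scheme.{u}) (G H : Over S) [GrpObj G] [GrpObj H] (u : G ⟶ H)
    [IsMonHom u] [LocallyOfFiniteType u.left]
    (hG : ∀ s : S, LocallyOfFiniteType (G.hom.fiberToSpecResidueField s)) :
    IsOpen {s : S | LocallyQuasiFinite ((Over.pullback (S.fromSpecResidueField s)).map u).left} ∧
    {x : G.left | ∃ W : G.left.Opens, x ∈ W ∧ LocallyQuasiFinite (W.ι ≫ u.left)} =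
      G.hom.base ⁻¹'
        {s : S | LocallyQuasiFinite ((Over.pullback (S.fromSpecResidueField s)).map u).left} := by
  exact assemble G
    (fun s => LocallyQuasiFinite ((Over.pullback (S.fromSpecResidueField s)).map u).left)
    (Loc @LocallyQuasiFinite u.left) (isOpen_Loc _ _)
    (fun x hx => fibre_of_mem_Loc u @LocallyQuasiFinite (Loc_lqf_homog u) x hx)
    (fun x hx => lqf_mem_Loc_of_fibre u x hx)

end Groth.Agent.Lib.Helper29.FibHomSmooth
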