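import Mathlib

/-!
# (D) for helper1's S14335: Krull's height theorem for a family indexed by `Fin r`
-/

set_option autoImplicit false
universe u

namespace Groth.Agent.Lib.Helper29.CIDimD

/-- (D) [Mathlib only] Krull's height theorem in the form needed. -/
theorem height_le_of_mem_minimalPrimes_span_range {A : Type u} [CommRing A] [IsNoetherianRing A]
    (r : ℕ) (g : Fin r → A) (p : Ideal A) (hp : p ∈ (Ideal.span (Set.range g)).minimalPrimes) :
    p.height ≤ r := by
  classical
  have hfin : (Set.range g).Finite := Set.finite_range g
  have h1 : p.height ≤ ((Set.range g).ncard : ℕ∞) :=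
    Ideal.height_le_card_of_mem_minimalPrimes_span hfin hp
  refine h1.trans ?_
  have h2 : (Set.range g).ncard ≤ r := by
    have h3 : (Set.range g).ncard ≤ (Set.univ : Set (Fin r)).ncard := by
      rw [← Set.image_univ]
      exact Set.ncard_image_le Set.finite_univ
    rwa [Set.ncard_univ, Nat.card_eq_fintype_card, Fintype.card_fin] at h3
  exact_mod_cast h2

end Groth.Agent.Lib.Helper29.CIDimD
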