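import Groth.Agent.Lib.Helper29.TorsorMisc
import Groth.Prelude.Def_NonAbH2
import Mathlib.AlgebraicGeometry.AffineSpace

/-!
# Helper library (helper29): descent of global functions (invariant functions on torsors)

* `fn s : X ⟶ A1`: the morphism to the affine line attached to a global function, `val` its inverse.
* `appTop_injective_of_epi`, `exists_appTop_eq`: sheaf property of `𝒪` along effective epimorphisms.
* `main16127`: functions on the base of a principal bundle are the invariant functions.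
* `main18859`: functions on the base of an fpqc torsor are the invariant functions.
-/

set_option autoImplicit false
set_option maxHeartbeats 1600000
universe u
open CategoryTheory CategoryTheory.Limits AlgebraicGeometry MonoidalCategory CartesianMonoidalCategory

namespace Groth.Agent.Lib.Helper29.InvFun

noncomputable section

/-- The affine line over `ℤ`. -/
abbrev A1 : Scheme.{u} := Spec (CommRingCat.of (MvPolynomial PUnit.{u+1} (ULift.{u} ℤ)))

/-- The morphism to the affine line attached to a global function. -/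
def fn {X : Scheme.{u}} (s : Γ(X, ⊤)) : X ⟶ A1.{u} :=
  (AffineSpace.toSpecMvPolyIntEquiv PUnit.{u+1}).symm (fun _ => s)

/-- The global function attached to a morphism to the affine line. -/
def val {X : Scheme.{u}} (ψ : X ⟶ A1.{u}) : Γ(X, ⊤) :=
  AffineSpace.toSpecMvPolyIntEquiv PUnit.{u+1} ψ PUnit.unit

theorem val_fn {X : Scheme.{u}} (s : Γ(X, ⊤)) : val (fn s) = s := by
  unfold val fn
  rw [Equiv.apply_symm_apply]

theorem fn_val {X : Scheme.{u}} (ψ : X ⟶ A1.{u}) : fn (val ψ) = ψ := by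
  unfold val fn
  apply (AffineSpace.toSpecMvPolyIntEquiv PUnit.{u+1}).injective
  rw [Equiv.apply_symm_apply]

theorem val_comp {X Y : Scheme.{u}} (f : X ⟶ Y) (ψ : Y ⟶ A1.{u}) :
    val (f ≫ ψ) = f.appTop (val ψ) :=
  AffineSpace.toSpecMvPolyIntEquiv_comp _ f ψ _

theorem comp_fn {X Y : Scheme.{u}} (f : X ⟶ Y) (s : Γ(Y, ⊤)) : f ≫ fn s = fn (f.appTop s) := by
  rw [← fn_val (f ≫ fn s), val_comp, val_fn]

theorem fn_injective {X : Scheme.{u}} : Function.Injective (fn (X := X)) := fun s t h => by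
  rw [← val_fn s, ← val_fn t, h]

theorem appTop_injective_of_epi {X Y : Scheme.{u}} (f : X ⟶ Y) [Epi f] :
    Function.Injective f.appTop := by
  intro s t h
  apply fn_injective
  rw [← cancel_epi f, comp_fn, comp_fn, h]

theorem exists_appTop_eq {X Y R : Scheme.{u}} (f : X ⟶ Y) [EffectiveEpi f] {p₁ p₂ : R ⟶ X}
    (sq : IsPullback p₁ p₂ f f) (s : Γ(X, ⊤)) (h : p₁.appTop s = p₂.appTop s) :
    ∃ t : Γ(Y, ⊤), f.appTop t = s := by
  have hcompat : ∀ {Z : Scheme.{u}} (g₁ g₂ : Z ⟶ X), g₁ ≫ f = g₂ ≫ f →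
      g₁ ≫ fn s = g₂ ≫ fn s := by
    intro Z g₁ g₂ hg
    have e1 : sq.lift g₁ g₂ hg ≫ p₁ = g₁ := sq.lift_fst _ _ _
    have e2 : sq.lift g₁ g₂ hg ≫ p₂ = g₂ := sq.lift_snd _ _ _
    have e3 : p₁ ≫ fn s = p₂ ≫ fn s := by rw [comp_fn, comp_fn, h]
    calc g₁ ≫ fn s = (sq.lift g₁ g₂ hg ≫ p₁) ≫ fn s := by rw [e1]
      _ = (sq.lift g₁ g₂ hg ≫ p₂) ≫ fn s := by rw [Category.assoc, Category.assoc, e3]
      _ = g₂ ≫ fn s := by rw [e2]
  refine ⟨val (EffectiveEpi.desc f (fn s) (fun g₁ g₂ hg => hcompat g₁ g₂ hg)), ?_⟩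
  rw [← val_comp, EffectiveEpi.fac, val_fn]

theorem fpqc_isSheafFor' {U : Scheme.{u}} (Y : Scheme.{u}) {ι : Type*} {V : ι → Scheme.{u}}
    (π : ∀ i, V i ⟶ U) (hπ : Presieve.ofArrows V π ∈ Scheme.fpqcPrecoverage U) :
    Presieve.IsSheafFor (yoneda.obj Y) (Presieve.ofArrows V π) := by
  have hsh : Presieve.IsSheaf Scheme.fpqcTopology (yoneda.obj Y) :=
    GrothendieckTopology.Subcanonical.isSheaf_of_isRepresentable (J := Scheme.fpqcTopology)
      (yoneda.obj Y)
  rw [Presieve.isSheafFor_iff_generate]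
  exact hsh _ (Precoverage.generate_mem_toGrothendieck hπ)

/-- morphisms of schemes glue along fpqc covering families (any index universe) -/
theorem fpqc_glue' {U : Scheme.{u}} (Y : Scheme.{u}) {ι : Type*} {V : ι → Scheme.{u}}
    (π : ∀ i, V i ⟶ U) (hπ : Presieve.ofArrows V π ∈ Scheme.fpqcPrecoverage U)
    (ψ : ∀ i, V i ⟶ Y)
    (hcompat : ∀ (i j : ι) (Z : Scheme.{u}) (p : Z ⟶ V i) (q : Z ⟶ V j),
      p ≫ π i = q ≫ π j → p ≫ ψ i = q ≫ ψ j) :
    ∃ g : U ⟶ Y, ∀ i, π i ≫ g = ψ i := by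
  have hs := (Presieve.isSheafFor_arrows_iff _ _).mp (fpqc_isSheafFor' Y π hπ)
  obtain ⟨t, ht, -⟩ := hs ψ (fun i j Z gi gj comm => hcompat i j Z gi gj comm)
  exact ⟨t, ht⟩

theorem fpqc_sep' {U : Scheme.{u}} (Y : Scheme.{u}) {ι : Type*} {V : ι → Scheme.{u}}
    (π : ∀ i, V i ⟶ U) (hπ : Presieve.ofArrows V π ∈ Scheme.fpqcPrecoverage U)
    (g g' : U ⟶ Y) (h : ∀ i, π i ≫ g = π i ≫ g') : g = g' := by
  apply (fpqc_isSheafFor' Y π hπ).isSeparatedFor.ext
  rintro Z p ⟨i⟩
  exact h i

end

theorem main16127 (k : Type u) [Field k] [IsAlgClosed k]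
    (G X Y : Over (Spec (CommRingCat.of k))) [GrpObj G] [Smooth G.hom] [QuasiCompact G.hom]
    [IsReduced X.left] [IsSeparated X.hom] [LocallyOfFiniteType X.hom] [QuasiCompact X.hom]
    [IsReduced Y.left] [IsSeparated Y.hom] [LocallyOfFiniteType Y.hom] [QuasiCompact Y.hom]
    (a : AlgGrp.Action G X) (f : X ⟶ Y) [Flat f.left] [Surjective f.left]
    (hsq : IsPullback a.act.left (snd G X).left f.left f.left) :
    Function.Injective (f.left.appTop) ∧
      Set.range (f.left.appTop) =
        {s : Γ(X.left, ⊤) | a.act.left.appTop s = (snd G X).left.appTop s} := by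
  haveI : QuasiCompact (f.left ≫ Y.hom) := by rw [Over.w f]; infer_instance
  haveI : QuasiCompact f.left := QuasiCompact.of_comp f.left Y.hom
  refine ⟨appTop_injective_of_epi f.left, ?_⟩
  ext s
  constructor
  · rintro ⟨t, rfl⟩
    show a.act.left.appTop (f.left.appTop t) = (snd G X).left.appTop (f.left.appTop t)
    have e : ∀ (p : (G ⊗ X).left ⟶ X.left),
        p.appTop (f.left.appTop t) = (p ≫ f.left).appTop t := fun p => rfl
    rw [e, e, hsq.w]
  · intro hs
    exact exists_appTop_eq f.left hsq s hs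

theorem main18859 {S : Scheme.{u}} {G X : Over S}
    [GrpObj G] (a : AlgGrp.Action G X) (ha : NonAbH1.IsTorsorFor Scheme.fpqcPrecoverage a) :
    Function.Injective X.hom.appTop.hom ∧
      ∀ s : Γ(X.left, ⊤), s ∈ Set.range X.hom.appTop.hom ↔
        a.act.left.appTop.hom s = (CartesianMonoidalCategory.snd G X).left.appTop.hom s := by
  obtain ⟨hps, R, hR, hsec⟩ := ha
  obtain ⟨J, Z, g, rfl⟩ := R.exists_eq_ofArrows
  choose σ hσ using fun i => hsec (g i) ⟨i⟩
  haveI : IsIso (lift a.act (snd G X)) := hps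
  have key : ∀ (s : Γ(X.left, ⊤)), a.act.left.appTop s = (snd G X).left.appTop s →
      ∀ {W : Scheme.{u}} (x₁ x₂ : W ⟶ X.left), x₁ ≫ X.hom = x₂ ≫ X.hom →
        x₁ ≫ fn s = x₂ ≫ fn s := by
    intro s hs W x₁ x₂ hx
    let W' : Over S := Over.mk (x₁ ≫ X.hom)
    let y₁ : W' ⟶ X := Over.homMk x₁ rfl
    let y₂ : W' ⟶ X := Over.homMk x₂ hx.symm
    let w : W' ⟶ G ⊗ X := lift y₁ y₂ ≫ inv (lift a.act (snd G X))
    have hw1 : w ≫ a.act = y₁ := by
      calc w ≫ a.act = w ≫ (lift a.act (snd G X) ≫ fst X X) := by rw [lift_fst]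
        _ = y₁ := by
          show (lift y₁ y₂ ≫ inv (lift a.act (snd G X))) ≫ (lift a.act (snd G X) ≫ fst X X) = y₁
          rw [Category.assoc, IsIso.inv_hom_id_assoc, lift_fst]
    have hw2 : w ≫ snd G X = y₂ := by
      calc w ≫ snd G X = w ≫ (lift a.act (snd G X) ≫ snd X X) := by rw [lift_snd]
        _ = y₂ := by
          show (lift y₁ y₂ ≫ inv (lift a.act (snd G X))) ≫ (lift a.act (snd G X) ≫ snd X X) = y₂
          rw [Category.assoc, IsIso.inv_hom_id_assoc, lift_snd]
    have e1 : w.left ≫ a.act.left = x₁ := congrArg (fun k => k.left) hw1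
    have e2 : w.left ≫ (snd G X).left = x₂ := congrArg (fun k => k.left) hw2
    have e3 : a.act.left ≫ fn s = (snd G X).left ≫ fn s := by rw [comp_fn, comp_fn, hs]
    calc x₁ ≫ fn s = (w.left ≫ a.act.left) ≫ fn s := by rw [e1]
      _ = (w.left ≫ (snd G X).left) ≫ fn s := by rw [Category.assoc, Category.assoc, e3]
      _ = x₂ ≫ fn s := by rw [e2]
  refine ⟨?_, ?_⟩
  · intro t t' h
    have h' : X.hom.appTop t = X.hom.appTop t' := h
    apply fn_injective
    refine fpqc_sep' _ g hR (fn t) (fn t') (fun i => ?_)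
    rw [← hσ i, Category.assoc, Category.assoc, comp_fn X.hom, comp_fn X.hom, h']
  · intro s
    constructor
    · rintro ⟨t, rfl⟩
      show a.act.left.appTop (X.hom.appTop t) = (snd G X).left.appTop (X.hom.appTop t)
      have e : ∀ (p : (G ⊗ X).left ⟶ X.left),
          p.appTop (X.hom.appTop t) = (p ≫ X.hom).appTop t := fun p => rfl
      rw [e, e, Over.w a.act, Over.w (snd G X)]
    · intro hs
      have hs' : a.act.left.appTop s = (snd G X).left.appTop s := hs
      obtain ⟨ψ, hψ⟩ := fpqc_glue' A1.{u} g hR (fun i => σ i ≫ fn s) (fun i j W p q hpq => by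
        rw [← Category.assoc, ← Category.assoc]
        exact key s hs' (p ≫ σ i) (q ≫ σ j)
          (by rw [Category.assoc, Category.assoc, hσ i, hσ j, hpq]))
      refine ⟨val ψ, ?_⟩
      show X.hom.appTop (val ψ) = s
      rw [← val_comp]
      have hcovX : Presieve.ofArrows (fun i => pullback X.hom (g i))
          (fun i => pullback.fst X.hom (g i)) ∈ Scheme.fpqcPrecoverage X.left :=
        Precoverage.mem_coverings_of_isPullback g hR X.hom (fun i => pullback.fst X.hom (g i))
          (fun i => pullback.snd X.hom (g i)) (fun i => IsPullback.of_hasPullback X.hom (g i))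
      have hfin : X.hom ≫ ψ = fn s := by
        refine fpqc_sep' A1.{u} (fun i => pullback.fst X.hom (g i)) hcovX _ _ (fun i => ?_)
        rw [← Category.assoc, pullback.condition, Category.assoc, hψ i, ← Category.assoc]
        exact key s hs' (pullback.snd X.hom (g i) ≫ σ i) (pullback.fst X.hom (g i))
          (by rw [Category.assoc, hσ i, pullback.condition])
      rw [hfin, val_fn]

end Groth.Agent.Lib.Helper29.InvFun
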