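import Mathlib
import Groth.Prelude.Def_QuotSh
import Groth.Agent.Lib.Helper29.InvFun
import Groth.Agent.Lib.Helper10.QuotShRep

/-!
# Helper library (helper29): unpacking `QuotSh.IsQuotient`

For a precoverage `K` on schemes whose topology on `Over S` is subcanonical:
* `sec`, `sec_bijective`, `sec_map`, `sec_repMap`: sections of `h_V = QuotSh.rep K V` are points of `V`.
* `exists_lift_of_epi`, `exists_cover_lift`: if `h_U ⟶ h_M` is an epimorphism of sheaves, points of `M` lift
  locally to `U`.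
* `epi_repMap_of_cover`: a covering morphism induces an epimorphism of representable sheaves.
* `exists_rel_of_quotπ_eq`, `exists_cover_rel`: for a pre-equivalence relation `s, t : R ⇉ U` on points, two points
  of `U` with the same image in the quotient sheaf are locally related.
* `isKernelPair_of_isQuotient`, `isQuotient_of_isKernelPair`, `existsUnique_desc`.
(The construction of the presheaf quotient follows helper15's `ToposQuot`, here for an arbitrary precoverage.)
-/

set_option autoImplicit false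
set_option maxHeartbeats 1600000
universe u
open CategoryTheory CategoryTheory.Limits AlgebraicGeometry Opposite

namespace Groth.Agent.Lib.Helper29.QuotUnpack

noncomputable section

/-! ### Sections of representable sheaves -/

section Rep

variable (K : Precoverage Scheme.{u}) {S : Scheme.{u}}

/-- the lifted representable presheaf of `V` -/
abbrev P (V : Over S) : (Over S)ᵒᵖ ⥤ Type (u + 1) := yoneda.obj V ⋙ uliftFunctor.{u + 1, u}

/-- the section of `h_V` over `T` attached to a `T`-point of `V` -/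
def sec {T V : Over S} (x : T ⟶ V) : (QuotSh.rep K V).obj.obj (op T) :=
  (toSheafify (QuotSh.J K S) (P V)).app (op T) (ULift.up x : ULift.{u + 1, u} (T ⟶ V))

theorem sec_map {T T' V : Over S} (g : T' ⟶ T) (x : T ⟶ V) :
    (QuotSh.rep K V).obj.map g.op (sec K x) = sec K (g ≫ x) := by
  have h := NatTrans.naturality_apply (toSheafify (QuotSh.J K S) (P V)) g.op
    (ULift.up x : ULift.{u + 1, u} (T ⟶ V))
  exact h.symm

theorem sec_repMap {T V W : Over S} (f : V ⟶ W) (x : T ⟶ V) :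
    (QuotSh.repMap K f).hom.app (op T) (sec K x) = sec K (x ≫ f) := by
  have h := toSheafify_naturality (QuotSh.J K S)
    (Functor.whiskerRight (yoneda.map f) uliftFunctor.{u + 1, u})
  have h2 := congrArg (fun η : P V ⟶ sheafify (QuotSh.J K S) (P W) =>
    η.app (op T) (ULift.up x : ULift.{u + 1, u} (T ⟶ V))) h
  exact h2.symm

theorem repMap_comp {V W X : Over S} (f : V ⟶ W) (g : W ⟶ X) :
    QuotSh.repMap K (f ≫ g) = QuotSh.repMap K f ≫ QuotSh.repMap K g :=
  (H10QS.repF K).map_comp f g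

theorem isSheaf_P [(QuotSh.J K S).Subcanonical] (V : Over S) :
    Presheaf.IsSheaf (QuotSh.J K S) (P V) :=
  ((QuotSh.J K S).uliftYoneda.{u + 1}.obj V).property

theorem sec_bijective [(QuotSh.J K S).Subcanonical] (T V : Over S) :
    Function.Bijective (sec K : (T ⟶ V) → (QuotSh.rep K V).obj.obj (op T)) := by
  haveI := isIso_toSheafify (QuotSh.J K S) (isSheaf_P K V)
  have hb := (isIso_iff_bijective ((toSheafify (QuotSh.J K S) (P V)).app (op T))).1 inferInstance
  constructor
  · intro x y h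
    have h' : (toSheafify (QuotSh.J K S) (P V)).app (op T)
        (ULift.up x : ULift.{u + 1, u} (T ⟶ V)) =
        (toSheafify (QuotSh.J K S) (P V)).app (op T)
        (ULift.up y : ULift.{u + 1, u} (T ⟶ V)) := h
    exact congrArg ULift.down (hb.1 h')
  · intro y
    obtain ⟨⟨x⟩, hx⟩ := hb.2 y
    exact ⟨x, hx⟩

theorem mem_J_of_cover {T : Over S} {κ : Type*} (V : κ → Over S) (ψ : ∀ l, V l ⟶ T)
    (hcov : Presieve.ofArrows (fun l => (V l).left) (fun l => (ψ l).left) ∈ K.coverings T.left) :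
    Sieve.ofArrows V ψ ∈ QuotSh.J K S T := by
  rw [GrothendieckTopology.mem_over_iff, Sieve.overEquiv_ofArrows]
  exact Precoverage.generate_mem_toGrothendieck hcov

/-- a covering sieve of `T` in `Over S` contains a covering family of `T.left` -/
theorem exists_cover_of_mem [K.IsStableUnderComposition] [K.IsStableUnderBaseChange] [K.HasPullbacks]
    [K.HasIsos] {T : Over S} (R' : Sieve T) (hR' : R' ∈ QuotSh.J K S T) :
    ∃ (ι : Type (u + 1)) (Y : ι → Scheme.{u}) (c : ∀ l, Y l ⟶ T.left),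
      Presieve.ofArrows Y c ∈ K.coverings T.left ∧
      ∀ l, R' (Over.homMk (c l) rfl : Over.mk (c l ≫ T.hom) ⟶ T) := by
  have hR'' : Sieve.overEquiv T R' ∈ K.toGrothendieck T.left := hR'
  obtain ⟨P', hP', hle⟩ := Precoverage.mem_toGrothendieck_iff_of_isStableUnderComposition.mp hR''
  obtain ⟨ι, Y, c, rfl⟩ := P'.exists_eq_ofArrows
  exact ⟨ι, Y, c, hP', fun l => (Sieve.overEquiv_iff _ _).mp (hle _ _ (Presieve.ofArrows.mk l))⟩

/-- points lift locally along an epimorphism of representable sheaves (sieve form) -/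
theorem exists_lift_of_epi [(QuotSh.J K S).Subcanonical] {U M : Over S} (q : U ⟶ M)
    (hq : Epi (QuotSh.repMap K q)) {T : Over S} (y : T ⟶ M) :
    ∃ R' ∈ QuotSh.J K S T, ∀ ⦃T' : Over S⦄ (g : T' ⟶ T), R' g →
      ∃ x : T' ⟶ U, x ≫ q = g ≫ y := by
  haveI : Sheaf.IsLocallySurjective (QuotSh.repMap K q) :=
    (Sheaf.isLocallySurjective_iff_epi _).2 hq
  refine ⟨_, Presheaf.imageSieve_mem (QuotSh.J K S) (QuotSh.repMap K q).hom (sec K y), ?_⟩
  intro T' g hg
  obtain ⟨t, ht⟩ := hg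
  obtain ⟨x, rfl⟩ := (sec_bijective K T' U).2 t
  exact ⟨x, (sec_bijective K T' M).1 ((sec_repMap K q x).symm.trans (ht.trans (sec_map K g y)))⟩

/-- points lift locally along an epimorphism of representable sheaves (covering family form) -/
theorem exists_cover_lift [K.IsStableUnderComposition] [K.IsStableUnderBaseChange] [K.HasPullbacks]
    [K.HasIsos] [(QuotSh.J K S).Subcanonical] {U M : Over S} (q : U ⟶ M)
    (hq : Epi (QuotSh.repMap K q)) {T : Over S} (y : T ⟶ M) :
    ∃ (ι : Type (u + 1)) (Y : ι → Scheme.{u}) (c : ∀ l, Y l ⟶ T.left),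
      Presieve.ofArrows Y c ∈ K.coverings T.left ∧
      ∀ l, ∃ x : Y l ⟶ U.left, x ≫ q.left = c l ≫ y.left := by
  obtain ⟨R', hR', h⟩ := exists_lift_of_epi K q hq y
  obtain ⟨ι, Y, c, hc, hmem⟩ := exists_cover_of_mem K R' hR'
  refine ⟨ι, Y, c, hc, fun l => ?_⟩
  obtain ⟨x, hx⟩ := h _ (hmem l)
  exact ⟨x.left, congrArg (fun k => k.left) hx⟩

/-- a covering morphism induces an epimorphism of representable sheaves -/
theorem epi_repMap_of_cover [K.IsStableUnderBaseChange] [(QuotSh.J K S).Subcanonical]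
    {Z T : Over S} (p : Z ⟶ T)
    (hp : Presieve.ofArrows (fun _ : PUnit.{1} => Z.left) (fun _ => p.left) ∈ K.coverings T.left) :
    Epi (QuotSh.repMap K p) := by
  rw [← Sheaf.isLocallySurjective_iff_epi]
  constructor
  intro W y'
  obtain ⟨y, rfl⟩ := (sec_bijective K W T).2 y'
  have hpb : IsPullback (pullback.fst y p).left (pullback.snd y p).left y.left p.left :=
    (IsPullback.of_hasPullback y p).map (Over.forget S)
  have hcov : Presieve.ofArrows (fun _ : PUnit.{1} => (pullback y p).left)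
      (fun _ => (pullback.fst y p).left) ∈ K.coverings W.left :=
    Precoverage.mem_coverings_of_isPullback (fun _ : PUnit.{1} => p.left) hp y.left
      (fun _ => (pullback.fst y p).left) (fun _ => (pullback.snd y p).left) (fun _ => hpb)
  have hmem := mem_J_of_cover K (fun _ : PUnit.{1} => pullback y p) (fun _ => pullback.fst y p) hcov
  refine (QuotSh.J K S).superset_covering ?_ hmem
  rintro W' g ⟨W'', h, k, ⟨_⟩, rfl⟩
  refine ⟨sec K (h ≫ pullback.snd y p), ?_⟩
  rw [sec_repMap, sec_map]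
  congr 1
  rw [Category.assoc, Category.assoc, pullback.condition]

theorem epi_repMap_of_isQuotient {R U M : Over S} (s t : R ⟶ U) (q : U ⟶ M)
    (hq : QuotSh.IsQuotient K s t q) : Epi (QuotSh.repMap K q) := by
  obtain ⟨w, hiso⟩ := hq
  haveI := hiso
  have hπd : QuotSh.quotπ K s t ≫ QuotSh.quotDesc K q w = QuotSh.repMap K q := by
    unfold QuotSh.quotπ QuotSh.quotDesc
    exact coequalizer.π_desc _ _
  haveI : Epi (QuotSh.quotπ K s t) :=
    show Epi (coequalizer.π (QuotSh.repMap K s) (QuotSh.repMap K t)) from inferInstance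
  rw [← hπd]
  exact epi_comp _ _

end Rep

/-! ### The presheaf quotient (after helper15's `ToposQuot`) -/

section Quot

variable {K : Precoverage Scheme.{u}} {S : Scheme.{u}} {R₁ U₁ : QuotSh.Sh K S} (s₁ t₁ : R₁ ⟶ U₁)

/-- The relation on sections of `U₁` over `T` defined by the sections of `R₁`. -/
def secRel (T : (Over S)ᵒᵖ) (a b : U₁.obj.obj T) : Prop :=
  ∃ r : R₁.obj.obj T, s₁.hom.app T r = a ∧ t₁.hom.app T r = b

theorem secRel_map {T T' : (Over S)ᵒᵖ} (g : T ⟶ T') {a b : U₁.obj.obj T}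
    (h : secRel s₁ t₁ T a b) : secRel s₁ t₁ T' (U₁.obj.map g a) (U₁.obj.map g b) := by
  obtain ⟨r, rfl, rfl⟩ := h
  exact ⟨R₁.obj.map g r, NatTrans.naturality_apply s₁.hom g r, NatTrans.naturality_apply t₁.hom g r⟩

/-- The presheaf quotient `T ↦ U₁(T)/R₁(T)`. -/
def quotPre : (Over S)ᵒᵖ ⥤ Type (u + 1) where
  obj T := Quot (secRel s₁ t₁ T)
  map {T T'} g := TypeCat.ofHom (Quot.map (U₁.obj.map g) (fun _ _ h => secRel_map s₁ t₁ g h))
  map_id T := by
    ext x : 3
    induction x using Quot.ind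
    simp [Quot.map]
  map_comp f g := by
    ext x : 3
    induction x using Quot.ind
    simp [Quot.map]

/-- The projection of presheaves. -/
def toQuotPre : U₁.obj ⟶ quotPre s₁ t₁ where
  app T := TypeCat.ofHom (Quot.mk _)
  naturality T T' g := by
    ext x : 3
    rfl

/-- The sheafification of the presheaf quotient. -/
def quotSh : QuotSh.Sh K S :=
  (presheafToSheaf (QuotSh.J K S) (Type (u + 1))).obj (quotPre s₁ t₁)

/-- `U₁ ⟶ (U₁/R₁)^sh`. -/
def toQuotSh : U₁ ⟶ quotSh s₁ t₁ :=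
  ObjectProperty.homMk (toQuotPre s₁ t₁ ≫ toSheafify (QuotSh.J K S) (quotPre s₁ t₁))

theorem toQuotSh_condition : s₁ ≫ toQuotSh s₁ t₁ = t₁ ≫ toQuotSh s₁ t₁ := by
  apply Sheaf.hom_ext
  ext T r
  change (toSheafify (QuotSh.J K S) (quotPre s₁ t₁)).app T (Quot.mk _ (s₁.hom.app T r)) =
    (toSheafify (QuotSh.J K S) (quotPre s₁ t₁)).app T (Quot.mk _ (t₁.hom.app T r))
  congr 1
  exact Quot.sound ⟨r, rfl, rfl⟩

/-- For a pre-equivalence relation on sections, two sections of `U₁` with the same image in the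
coequalizer are locally related. -/
theorem exists_secRel_of_π_eq
    (hE : ∀ T : Over S, _root_.Equivalence (secRel s₁ t₁ (op T))) {T : Over S}
    (a b : U₁.obj.obj (op T))
    (hab : (coequalizer.π s₁ t₁).hom.app (op T) a = (coequalizer.π s₁ t₁).hom.app (op T) b) :
    ∃ R' ∈ QuotSh.J K S T, ∀ ⦃T' : Over S⦄ (g : T' ⟶ T), R' g →
      secRel s₁ t₁ (op T') (U₁.obj.map g.op a) (U₁.obj.map g.op b) := by
  have w := toQuotSh_condition s₁ t₁
  have hfac : coequalizer.π s₁ t₁ ≫ coequalizer.desc (toQuotSh s₁ t₁) w = toQuotSh s₁ t₁ :=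
    coequalizer.π_desc _ _
  have e : ∀ x : U₁.obj.obj (op T),
      (coequalizer.desc (toQuotSh s₁ t₁) w).hom.app (op T)
        ((coequalizer.π s₁ t₁).hom.app (op T) x) = (toQuotSh s₁ t₁).hom.app (op T) x :=
    fun x => congrArg (fun φ : U₁ ⟶ quotSh s₁ t₁ => φ.hom.app (op T) x) hfac
  have h2 : (toQuotSh s₁ t₁).hom.app (op T) a = (toQuotSh s₁ t₁).hom.app (op T) b :=
    (e a).symm.trans ((congrArg (fun x => (coequalizer.desc (toQuotSh s₁ t₁) w).hom.app (op T) x)
      hab).trans (e b))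
  have h3 : (toSheafify (QuotSh.J K S) (quotPre s₁ t₁)).app (op T)
      ((toQuotPre s₁ t₁).app (op T) a) =
      (toSheafify (QuotSh.J K S) (quotPre s₁ t₁)).app (op T)
      ((toQuotPre s₁ t₁).app (op T) b) := h2
  have h4 := Presheaf.equalizerSieve_mem (QuotSh.J K S)
    (toSheafify (QuotSh.J K S) (quotPre s₁ t₁)) _ _ h3
  refine ⟨_, h4, ?_⟩
  intro T' g hg
  have h5 : Quot.mk (secRel s₁ t₁ (op T')) (U₁.obj.map g.op a) =
      Quot.mk (secRel s₁ t₁ (op T')) (U₁.obj.map g.op b) := hg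
  exact ((hE T').eqvGen_iff).1 (Quot.eqvGen_exact h5)

end Quot

/-! ### Quotients of schemes -/

section Sch

variable (K : Precoverage Scheme.{u}) {S : Scheme.{u}} {R U : Over S} (s t : R ⟶ U)

/-- the relation on `T`-points of `U` defined by the `T`-points of `R` -/
def PtRel (T : Over S) (a b : T ⟶ U) : Prop := ∃ r : T ⟶ R, r ≫ s = a ∧ r ≫ t = b

variable [(QuotSh.J K S).Subcanonical]

theorem secRel_sec_iff {T : Over S} (a b : T ⟶ U) :
    secRel (QuotSh.repMap K s) (QuotSh.repMap K t) (op T) (sec K a) (sec K b) ↔ PtRel s t T a b := by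
  constructor
  · rintro ⟨r', h1, h2⟩
    obtain ⟨r, rfl⟩ := (sec_bijective K T R).2 r'
    rw [sec_repMap] at h1 h2
    exact ⟨r, (sec_bijective K T U).1 h1, (sec_bijective K T U).1 h2⟩
  · rintro ⟨r, h1, h2⟩
    exact ⟨sec K r, by rw [sec_repMap, h1], by rw [sec_repMap, h2]⟩

theorem secRel_equivalence (hE : ∀ T : Over S, _root_.Equivalence (PtRel s t T)) (T : Over S) :
    _root_.Equivalence (secRel (QuotSh.repMap K s) (QuotSh.repMap K t) (op T)) := by
  refine ⟨fun a' => ?_, fun {a' b'} h => ?_, fun {a' b' c'} h1 h2 => ?_⟩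
  · obtain ⟨a, rfl⟩ := (sec_bijective K T U).2 a'
    exact (secRel_sec_iff K s t a a).2 ((hE T).refl a)
  · obtain ⟨a, rfl⟩ := (sec_bijective K T U).2 a'
    obtain ⟨b, rfl⟩ := (sec_bijective K T U).2 b'
    exact (secRel_sec_iff K s t b a).2 ((hE T).symm ((secRel_sec_iff K s t a b).1 h))
  · obtain ⟨a, rfl⟩ := (sec_bijective K T U).2 a'
    obtain ⟨b, rfl⟩ := (sec_bijective K T U).2 b'
    obtain ⟨c, rfl⟩ := (sec_bijective K T U).2 c'
    exact (secRel_sec_iff K s t a c).2
      ((hE T).trans ((secRel_sec_iff K s t a b).1 h1) ((secRel_sec_iff K s t b c).1 h2))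

/-- two points of `U` with the same image in the quotient sheaf are locally related (sieve form) -/
theorem exists_rel_of_quotπ_eq (hE : ∀ T : Over S, _root_.Equivalence (PtRel s t T)) {T : Over S}
    (a b : T ⟶ U)
    (hab : (QuotSh.quotπ K s t).hom.app (op T) (sec K a) =
      (QuotSh.quotπ K s t).hom.app (op T) (sec K b)) :
    ∃ R' ∈ QuotSh.J K S T, ∀ ⦃T' : Over S⦄ (g : T' ⟶ T), R' g → PtRel s t T' (g ≫ a) (g ≫ b) := by
  obtain ⟨R', hR', h⟩ := exists_secRel_of_π_eq (QuotSh.repMap K s) (QuotSh.repMap K t)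
    (secRel_equivalence K s t hE) (sec K a) (sec K b) hab
  refine ⟨R', hR', fun T' g hg => ?_⟩
  have h' := h g hg
  rw [sec_map, sec_map] at h'
  exact (secRel_sec_iff K s t _ _).1 h'

variable {s t}

theorem quotπ_eq_of_comp_eq {M : Over S} {q : U ⟶ M} (hq : QuotSh.IsQuotient K s t q) {T : Over S}
    (a b : T ⟶ U) (h : a ≫ q = b ≫ q) :
    (QuotSh.quotπ K s t).hom.app (op T) (sec K a) =
      (QuotSh.quotπ K s t).hom.app (op T) (sec K b) := by
  obtain ⟨w, hiso⟩ := hq
  haveI := hiso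
  have hπd : QuotSh.quotπ K s t ≫ QuotSh.quotDesc K q w = QuotSh.repMap K q := by
    unfold QuotSh.quotπ QuotSh.quotDesc
    exact coequalizer.π_desc _ _
  have e : QuotSh.quotπ K s t = QuotSh.repMap K q ≫ inv (QuotSh.quotDesc K q w) := by
    rw [← hπd, Category.assoc, IsIso.hom_inv_id, Category.comp_id]
  have e' : ∀ x : T ⟶ U, (QuotSh.quotπ K s t).hom.app (op T) (sec K x) =
      (inv (QuotSh.quotDesc K q w)).hom.app (op T) (sec K (x ≫ q)) := by
    intro x
    rw [← sec_repMap]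
    exact congrArg (fun φ : QuotSh.rep K U ⟶ QuotSh.quot K s t => φ.hom.app (op T) (sec K x)) e
  rw [e' a, e' b, h]

/-- gluing a locally defined relation witness, using joint monomorphy -/
theorem glue_of_jointlyMono
    (hmono : ∀ ⦃W : Over S⦄ (f g : W ⟶ R), f ≫ s = g ≫ s → f ≫ t = g ≫ t → f = g)
    {T : Over S} (R' : Sieve T) (hR' : R' ∈ QuotSh.J K S T) (a b : T ⟶ U)
    (h : ∀ ⦃T' : Over S⦄ (g : T' ⟶ T), R' g → PtRel s t T' (g ≫ a) (g ≫ b)) : PtRel s t T a b := by
  have hshR : Presieve.IsSheaf (QuotSh.J K S) (yoneda.obj R) :=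
    GrothendieckTopology.Subcanonical.isSheaf_of_isRepresentable (J := QuotSh.J K S) (yoneda.obj R)
  have hshU : Presieve.IsSheaf (QuotSh.J K S) (yoneda.obj U) :=
    GrothendieckTopology.Subcanonical.isSheaf_of_isRepresentable (J := QuotSh.J K S) (yoneda.obj U)
  have h' : ∀ ⦃T' : Over S⦄ (g : T' ⟶ T), R' g →
      ∃ r : T' ⟶ R, r ≫ s = g ≫ a ∧ r ≫ t = g ≫ b := h
  choose r hr1 hr2 using h'
  let x : Presieve.FamilyOfElements (yoneda.obj R) R'.arrows := fun T' g hg => r g hg
  have hx : x.Compatible := by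
    intro Y₁ Y₂ Z g₁ g₂ f₁ f₂ h₁ h₂ comm
    show g₁ ≫ r f₁ h₁ = g₂ ≫ r f₂ h₂
    apply hmono
    · rw [Category.assoc, Category.assoc, hr1, hr1, ← Category.assoc, ← Category.assoc, comm]
    · rw [Category.assoc, Category.assoc, hr2, hr2, ← Category.assoc, ← Category.assoc, comm]
  obtain ⟨ρ, hρ, -⟩ := hshR R' hR' x hx
  have hρ' : ∀ ⦃T' : Over S⦄ (g : T' ⟶ T) (hg : R' g), g ≫ ρ = r g hg := fun T' g hg => hρ g hg
  refine ⟨ρ, ?_, ?_⟩
  · apply (hshU R' hR').isSeparatedFor.ext
    intro T' g hg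
    show g ≫ ρ ≫ s = g ≫ a
    rw [← Category.assoc, hρ' g hg]
    exact hr1 g hg
  · apply (hshU R' hR').isSeparatedFor.ext
    intro T' g hg
    show g ≫ ρ ≫ t = g ≫ b
    rw [← Category.assoc, hρ' g hg]
    exact hr2 g hg

/-- two points of `U` with the same image in `M` are locally related (covering family form) -/
theorem exists_cover_rel [K.IsStableUnderComposition] [K.IsStableUnderBaseChange] [K.HasPullbacks]
    [K.HasIsos] {M : Over S} {q : U ⟶ M} (hq : QuotSh.IsQuotient K s t q)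
    (hE : ∀ T : Over S, _root_.Equivalence (PtRel s t T)) {Z : Scheme.{u}} (x₁ x₂ : Z ⟶ U.left)
    (h : x₁ ≫ q.left = x₂ ≫ q.left) :
    ∃ (ι : Type (u + 1)) (W : ι → Scheme.{u}) (d : ∀ m, W m ⟶ Z),
      Presieve.ofArrows W d ∈ K.coverings Z ∧
      ∀ m, ∃ r : W m ⟶ R.left, r ≫ s.left = d m ≫ x₁ ∧ r ≫ t.left = d m ≫ x₂ := by
  have hx2 : x₂ ≫ U.hom = x₁ ≫ U.hom := by
    rw [← Over.w q, ← Category.assoc, ← Category.assoc, h]
  let T : Over S := Over.mk (x₁ ≫ U.hom)
  let a : T ⟶ U := Over.homMk x₁ rfl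
  let b : T ⟶ U := Over.homMk x₂ hx2
  have hab : a ≫ q = b ≫ q := by
    ext
    exact h
  obtain ⟨R', hR', hrel⟩ := exists_rel_of_quotπ_eq K s t hE a b (quotπ_eq_of_comp_eq K hq a b hab)
  obtain ⟨ι, W, d, hd, hmem⟩ := exists_cover_of_mem K R' hR'
  refine ⟨ι, W, d, hd, fun m => ?_⟩
  obtain ⟨r, hr1, hr2⟩ := hrel _ (hmem m)
  exact ⟨r.left, congrArg (fun k => k.left) hr1, congrArg (fun k => k.left) hr2⟩

end Sch

end

end Groth.Agent.Lib.Helper29.QuotUnpack
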