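import Groth.Prelude.Def_NonAbH2
import Groth.Prelude.Def_RedSub
import Mathlib.AlgebraicGeometry.Morphisms.FlatDescent
import Mathlib.AlgebraicGeometry.Morphisms.LocalFlatDescent
import Mathlib.AlgebraicGeometry.Sites.Fpqc
import Mathlib.AlgebraicGeometry.Sites.QuasiCompact
import Mathlib.RingTheory.Flat.FaithfullyFlat.Basic

/-!
# Helper library (helper29): descent of morphism properties along fpqc covering families, and torsors

* `flat_descendsAlong_fpqc`, `quasiCompact_descendsAlong_fpqc`: flatness and quasi-compactness descend along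
  surjective flat quasi-compact morphisms.
* `of_fpqc`: a property of morphisms which is stable under base change, Zariski local on the target and descends
  along fpqc morphisms can be checked after base change to the members of an fpqc covering family.
* `snd_of_section`: for a pseudo-torsor `X` under `G`, the base change of `X ⟶ S` along any `S' ⟶ S` over which `X`
  has a section inherits every base-change-stable property of `G ⟶ S`.
-/

set_option autoImplicit false
set_option maxHeartbeats 1600000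
universe u
open CategoryTheory CategoryTheory.Limits AlgebraicGeometry MonoidalCategory CartesianMonoidalCategory
  MorphismProperty MonObj

namespace Groth.Agent.Lib.Helper29.TorsorDesc

/-! ### Flatness and quasi-compactness descend -/

theorem flat_codescendsAlong_faithfullyFlat :
    RingHom.CodescendsAlong RingHom.Flat RingHom.FaithfullyFlat := by
  refine .mk _ RingHom.Flat.respectsIso fun R S T _ _ _ _ _ h h' ↦ ?_
  rw [RingHom.flat_algebraMap_iff] at h' ⊢
  rw [RingHom.faithfullyFlat_algebraMap_iff] at h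
  exact Module.Flat.of_flat_tensorProduct R T S

instance flat_descendsAlong_fpqc :
    MorphismProperty.DescendsAlong @Flat.{u} (@Surjective ⊓ @Flat ⊓ @QuasiCompact) :=
  HasRingHomProperty.descendsAlong_flat flat_codescendsAlong_faithfullyFlat

instance quasiCompact_descendsAlong :
    DescendsAlong @QuasiCompact (@Surjective ⊓ @QuasiCompact : MorphismProperty Scheme.{u}) where
  of_isPullback {A X Y Z fst snd f g} h hf hfst := by
    have hfs : Surjective f := hf.1
    have hfq : QuasiCompact f := hf.2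
    have hsnd : Surjective snd := MorphismProperty.of_isPullback h hfs
    have hfstq : QuasiCompact fst := hfst
    constructor
    intro U hU hUc
    have h1 : IsCompact (f ⁻¹' U) := QuasiCompact.isCompact_preimage _ hU hUc
    have h2 : IsCompact (fst ⁻¹' (f ⁻¹' U)) :=
      QuasiCompact.isCompact_preimage (f := fst) _ (hU.preimage f.continuous) h1
    have h3 : g ⁻¹' U = snd '' (fst ⁻¹' (f ⁻¹' U)) := by
      have hw : ∀ a, f (fst a) = g (snd a) := fun a ↦ by
        rw [← Scheme.Hom.comp_apply, ← Scheme.Hom.comp_apply, h.w]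
      ext y
      constructor
      · intro hy
        obtain ⟨a, rfl⟩ := snd.surjective y
        refine ⟨a, ?_, rfl⟩
        show f (fst a) ∈ U
        rw [hw a]
        exact hy
      · rintro ⟨a, ha, rfl⟩
        show g (snd a) ∈ U
        rw [← hw a]
        exact ha
    rw [h3]
    exact h2.image snd.continuous

instance quasiCompact_descendsAlong_fpqc :
    DescendsAlong @QuasiCompact
      (@Surjective ⊓ @Flat ⊓ @QuasiCompact : MorphismProperty Scheme.{u}) :=
  DescendsAlong.of_le (Q := (@Surjective ⊓ @QuasiCompact : MorphismProperty Scheme.{u}))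
    (fun _ _ _ h ↦ ⟨h.1.1, h.2⟩)

/-! ### Pasting -/

section Pasting

variable (P : MorphismProperty Scheme.{u})

theorem snd_congr {X S T : Scheme.{u}} (f : X ⟶ S) {g g' : T ⟶ S} (e : g = g') :
    P (pullback.snd f g) ↔ P (pullback.snd f g') := by
  subst e
  exact Iff.rfl

theorem snd_comp_iff [P.RespectsIso] {X S T T' : Scheme.{u}} (f : X ⟶ S) (g : T ⟶ S) (h : T' ⟶ T) :
    P (pullback.snd f (h ≫ g)) ↔ P (pullback.snd (pullback.snd f g) h) := by
  rw [← pullbackLeftPullbackSndIso_hom_snd f g h, P.cancel_left_of_respectsIso]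

theorem snd_comp [P.IsStableUnderBaseChange] {X S T T' : Scheme.{u}} (f : X ⟶ S) (g : T ⟶ S)
    (h : T' ⟶ T) (H : P (pullback.snd f g)) : P (pullback.snd f (h ≫ g)) := by
  rw [snd_comp_iff P]
  exact P.pullback_snd _ _ H

end Pasting

/-! ### Descent along fpqc covering families -/

section FamilyDescent

variable (P : MorphismProperty Scheme.{u}) [P.IsStableUnderBaseChange] [IsZariskiLocalAtTarget P]
  [P.DescendsAlong (@Surjective ⊓ @Flat ⊓ @QuasiCompact : MorphismProperty Scheme.{u})]

theorem of_propQCCover {X S : Scheme.{u}} (f : X ⟶ S)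
    (𝒰 : Scheme.Cover.{u} (Scheme.propQCPrecoverage @Flat) S)
    (h : ∀ i, P (pullback.snd f (𝒰.f i))) : P f := by
  wlog hS : IsAffine S generalizing X S
  · rw [IsZariskiLocalAtTarget.iff_of_openCover (P := P) S.affineCover]
    intro j
    refine this (pullback.snd f (S.affineCover.f j)) (𝒰.pullback₁ (S.affineCover.f j)) (fun i => ?_)
      (by infer_instance)
    change P (pullback.snd (pullback.snd f (S.affineCover.f j))
      (pullback.fst (S.affineCover.f j) (𝒰.f i)))
    rw [← snd_comp_iff P]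
    exact (snd_congr P f pullback.condition).mpr (snd_comp P f _ _ (h i))
  obtain ⟨𝒱, φ, hfin, hopen⟩ : ∃ (𝒱 : Scheme.AffineCover.{u} @Flat S) (φ : 𝒱.cover ⟶ 𝒰.forgetQc),
      Finite 𝒱.I₀ ∧ ∀ j, IsOpenImmersion (φ.h₀ j) := QuasiCompactCover.exists_hom 𝒰.forgetQc
  let p : (∐ fun j : 𝒱.I₀ => Spec (𝒱.X j)) ⟶ S := Sigma.desc (fun j => 𝒱.f j)
  have hp1 : Surjective p := by
    refine ⟨fun x => ?_⟩
    obtain ⟨y, hy⟩ := 𝒱.covers x
    refine ⟨Sigma.ι (fun j : 𝒱.I₀ => Spec (𝒱.X j)) (𝒱.idx x) y, ?_⟩
    rw [← Scheme.Hom.comp_apply, Sigma.ι_desc]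
    exact hy
  have hp2 : Flat p := by
    rw [IsZariskiLocalAtSource.iff_of_openCover (P := @Flat)
      (sigmaOpenCover (fun j : 𝒱.I₀ => Spec (𝒱.X j)))]
    intro j
    change Flat (Sigma.ι (fun j : 𝒱.I₀ => Spec (𝒱.X j)) j ≫ p)
    rw [Sigma.ι_desc]
    exact 𝒱.map_prop j
  have hp3 : QuasiCompact p := (quasiCompact_iff_compactSpace p).mpr inferInstance
  have hPp : P (pullback.snd f p) := by
    rw [IsZariskiLocalAtTarget.iff_of_openCover (P := P)
      (sigmaOpenCover (fun j : 𝒱.I₀ => Spec (𝒱.X j)))]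
    intro j
    change P (pullback.snd (pullback.snd f p) (Sigma.ι (fun j : 𝒱.I₀ => Spec (𝒱.X j)) j))
    rw [← snd_comp_iff P]
    have e : Sigma.ι (fun j : 𝒱.I₀ => Spec (𝒱.X j)) j ≫ p = φ.h₀ j ≫ 𝒰.f (φ.s₀ j) := by
      rw [Sigma.ι_desc]
      exact (φ.w₀ j).symm
    exact (snd_congr P f e).mpr (snd_comp P f _ _ (h _))
  exact MorphismProperty.of_isPullback_of_descendsAlong (P := P)
    (Q := (@Surjective ⊓ @Flat ⊓ @QuasiCompact : MorphismProperty Scheme.{u}))
    (IsPullback.of_hasPullback f p).flip ⟨⟨hp1, hp2⟩, hp3⟩ hPp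

instance isLocalAtTarget_propQC : P.IsLocalAtTarget (Scheme.propQCPrecoverage @Flat) :=
  MorphismProperty.IsLocalAtTarget.mk_of_small.{u}
    (fun 𝒰 hf i => P.pullback_snd _ _ hf) (fun 𝒰 h => of_propQCCover P _ 𝒰 h)

theorem of_fpqc {X S : Scheme.{u}} (f : X ⟶ S) {R : Presieve S}
    (hR : R ∈ Scheme.fpqcPrecoverage S)
    (h : ∀ {U : Scheme.{u}} (g : U ⟶ S), R g → P (pullback.snd f g)) : P f :=
  MorphismProperty.IsLocalAtTarget.of_forall_pullbackSnd (P := P)
    (K := Scheme.propQCPrecoverage @Flat) hR (fun {U g _} hg => h g hg)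

end FamilyDescent

/-! ### Torsors -/

section Torsor

variable {S : Scheme.{u}} {G X : Over S} [GrpObj G]

theorem surjective_of_grp (G : Over S) [GrpObj G] : Surjective G.hom := by
  have e : η[G].left ≫ G.hom = 𝟙 S := Over.w η[G]
  refine ⟨fun x => ⟨η[G].left x, ?_⟩⟩
  rw [← Scheme.Hom.comp_apply, e]
  rfl

theorem snd_self_of_pseudoTorsor (P : MorphismProperty Scheme.{u}) [P.IsStableUnderBaseChange]
    (a : AlgGrp.Action G X) (hX : IsIso (lift a.act (snd G X))) (hG : P G.hom) :
    P (pullback.snd X.hom X.hom) := by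
  have h1 : P (pullback.snd G.hom X.hom) := P.pullback_snd _ _ hG
  have h2 : lift a.act (snd G X) ≫ snd X X = snd G X := lift_snd _ _
  have h3 : (lift a.act (snd G X)).left ≫ pullback.snd X.hom X.hom = pullback.snd G.hom X.hom :=
    congrArg (fun k => k.left) h2
  haveI : IsIso (lift a.act (snd G X)).left :=
    (inferInstance : IsIso ((Over.forget S).map (lift a.act (snd G X))))
  rw [← P.cancel_left_of_respectsIso (lift a.act (snd G X)).left, h3]
  exact h1

theorem snd_of_section (P : MorphismProperty Scheme.{u}) [P.IsStableUnderBaseChange]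
    (a : AlgGrp.Action G X) (hX : IsIso (lift a.act (snd G X))) (hG : P G.hom)
    {S' : Scheme.{u}} (f : S' ⟶ S) (s : S' ⟶ X.left) (hs : s ≫ X.hom = f) :
    P (pullback.snd X.hom f) := by
  subst hs
  exact snd_comp P X.hom X.hom s (snd_self_of_pseudoTorsor P a hX hG)

theorem hom_of_isTorsorFor_fpqc (P : MorphismProperty Scheme.{u}) [P.IsStableUnderBaseChange]
    [IsZariskiLocalAtTarget P]
    [P.DescendsAlong (@Surjective ⊓ @Flat ⊓ @QuasiCompact : MorphismProperty Scheme.{u})]
    (a : AlgGrp.Action G X) (h : NonAbH1.IsTorsorFor Scheme.fpqcPrecoverage a) (hG : P G.hom) :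
    P X.hom := by
  obtain ⟨hps, R, hR, hsec⟩ := h
  refine of_fpqc P X.hom hR (fun {U} g hg => ?_)
  obtain ⟨s, hs⟩ := hsec g hg
  exact snd_of_section P a hps hG g s hs

theorem main12837 {S : Scheme.{u}}
    (G X : Over S) [GrpObj G] [Flat G.hom] [LocallyOfFinitePresentation G.hom] (a : AlgGrp.Action G X)
    (h : NonAbH1.IsTorsorFor Scheme.fpqcPrecoverage a) :
    NonAbH1.IsTorsorFor Scheme.fppfPrecoverage a := by
  have h1 : Surjective X.hom := hom_of_isTorsorFor_fpqc @Surjective a h (surjective_of_grp G)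
  have h2 : Flat X.hom := hom_of_isTorsorFor_fpqc @Flat a h inferInstance
  have h3 : LocallyOfFinitePresentation X.hom :=
    hom_of_isTorsorFor_fpqc @LocallyOfFinitePresentation a h inferInstance
  refine ⟨h.1, Presieve.singleton X.hom, Scheme.Hom.singleton_mem_fppfPrecoverage X.hom, ?_⟩
  rintro S' f ⟨⟩
  exact ⟨𝟙 _, Category.id_comp _⟩

theorem main6003 {S : Scheme.{u}}
    (G X : Over S) [GrpObj G] [Flat G.hom] [QuasiCompact G.hom] (a : AlgGrp.Action G X) :
    NonAbH1.IsTorsorFor Scheme.fpqcPrecoverage a ↔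
      (NonAbH1.IsPseudoTorsorSch a ∧ Surjective X.hom ∧ Flat X.hom ∧ QuasiCompact X.hom) := by
  constructor
  · intro h
    exact ⟨h.1, hom_of_isTorsorFor_fpqc @Surjective a h (surjective_of_grp G),
      hom_of_isTorsorFor_fpqc @Flat a h inferInstance,
      hom_of_isTorsorFor_fpqc @QuasiCompact a h inferInstance⟩
  · rintro ⟨hps, h1, h2, h3⟩
    refine ⟨hps, Presieve.singleton X.hom, Scheme.Hom.singleton_mem_fpqcPrecoverage X.hom, ?_⟩
    rintro S' f ⟨⟩
    exact ⟨𝟙 _, Category.id_comp _⟩

theorem main5234 {S : Scheme.{u}} {G X : Over S} [GrpObj G]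
    (a : AlgGrp.Action G X)
    [Flat G.hom] [Surjective G.hom] [LocallyOfFinitePresentation G.hom]
    (hX : IsIso (lift a.act (snd G X))) :
    RedSub.IsTorsor a ↔
      ∃ S' : Over S, Surjective S'.hom ∧ Flat S'.hom ∧ LocallyOfFinitePresentation S'.hom ∧
        Nonempty (S' ⟶ X) := by
  constructor
  · rintro ⟨h1, h2, h3, -⟩
    exact ⟨X, h1, h2, h3, ⟨𝟙 X⟩⟩
  · rintro ⟨S', h1, h2, h3, ⟨s⟩⟩
    have key : ∀ (P : MorphismProperty Scheme.{u}) [P.IsStableUnderBaseChange]
        [P.DescendsAlong
          (@Surjective ⊓ @Flat ⊓ @LocallyOfFinitePresentation : MorphismProperty Scheme.{u})],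
        P G.hom → P X.hom := by
      intro P _ _ hG
      have hP : P (pullback.snd X.hom S'.hom) := snd_of_section P a hX hG S'.hom s.left (Over.w s)
      exact MorphismProperty.of_isPullback_of_descendsAlong (P := P)
        (Q := (@Surjective ⊓ @Flat ⊓ @LocallyOfFinitePresentation : MorphismProperty Scheme.{u}))
        (IsPullback.of_hasPullback X.hom S'.hom).flip ⟨⟨h1, h2⟩, h3⟩ hP
    exact ⟨key @Surjective inferInstance, key @Flat inferInstance,
      key @LocallyOfFinitePresentation inferInstance, hX⟩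

end Torsor

end Groth.Agent.Lib.Helper29.TorsorDesc
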