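import Mathlib
import Groth.Agent.Lib.Helper14.DenseSmooth
import Groth.Agent.Lib.Helper11.KPts2

/-!
# Generic smoothness for separable function field extensions (helper29)
-/

set_option autoImplicit false
set_option maxHeartbeats 1600000
set_option linter.style.haveILetI false
universe u

open CategoryTheory CategoryTheory.Limits AlgebraicGeometry

namespace Groth.Agent.Lib.Helper29.GenSmooth

/-- the smooth locus of a geometrically reduced scheme locally of finite type over a field is
dense. -/
theorem dense_smoothLocus_field (k : Type u) [Field k] {F : Scheme.{u}}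
    (f' : F ⟶ Spec (CommRingCat.of k)) [LocallyOfFinitePresentation f']
    [GeometricallyReduced f'] : Dense (f'.smoothLocus : Set F) := by
  haveI : IsReduced F := Groth.Agent.Lib.Helper11.KPts.isReduced_of_geometricallyReduced k f'
  obtain ⟨U, hU, hsm⟩ :=
    (Groth.Agent.Lib.Helper14.DenseSmooth.geomReduced_iff_dense_smooth k f').mp inferInstance
  haveI := hsm
  exact hU.mono (Groth.Agent.Lib.Helper14.DenseSmooth.le_smoothLocus_of_smooth f' U)

theorem main7775 (X Y : Scheme.{u}) [IsIntegral X] [IsIntegral Y]
    (f : X ⟶ Y) [IsDominant f] [LocallyOfFinitePresentation f]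
    (hsep : GeometricallyReduced (f.fiberToSpecResidueField (f.base (genericPoint X)))) :
    Dense (f.smoothLocus : Set X) := by
  -- the image of the generic point
  have hgen : f.base (genericPoint X) = genericPoint Y := by
    have h1 : IsGenericPoint (f.base (genericPoint X)) (closure (f.base '' Set.univ)) :=
      (genericPoint_spec X).image f.continuous
    have h2 : closure (f.base '' Set.univ) = Set.univ := by
      rw [Set.image_univ]
      exact f.denseRange.closure_range
    rw [h2] at h1
    exact h1.eq (genericPoint_spec Y)
  rw [hgen] at hsep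
  -- flatness of `Spec κ(η) ⟶ Y`
  have hbij : Function.Bijective (Y.residue (genericPoint Y)).hom :=
    ⟨(Y.residue (genericPoint Y)).hom.injective, Y.residue_surjective (genericPoint Y)⟩
  haveI : Flat (Spec.map (Y.residue (genericPoint Y))) := by
    rw [HasRingHomProperty.Spec_iff (P := @Flat)]
    exact RingHom.Flat.of_bijective hbij
  haveI : Flat (Y.fromSpecResidueField (genericPoint Y)) := by
    unfold Scheme.fromSpecResidueField
    infer_instance
  -- the generic fibre
  haveI := hsep
  haveI : LocallyOfFinitePresentation (f.fiberToSpecResidueField (genericPoint Y)) :=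
    MorphismProperty.pullback_snd (P := @LocallyOfFinitePresentation) _ _ inferInstance
  have hd := dense_smoothLocus_field (Y.residueField (genericPoint Y))
    (f.fiberToSpecResidueField (genericPoint Y))
  have hsq : IsPullback (f.fiberι (genericPoint Y)) (f.fiberToSpecResidueField (genericPoint Y))
      f (Y.fromSpecResidueField (genericPoint Y)) := IsPullback.of_hasPullback _ _
  obtain ⟨pt⟩ : Nonempty ↥(Spec (Y.residueField (genericPoint Y))) := inferInstance
  obtain ⟨q, -, -⟩ := Scheme.exists_preimage_of_isPullback hsq (genericPoint X) pt
    (by rw [Scheme.fromSpecResidueField_apply]; exact hgen)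
  haveI : Nonempty ↥(f.fiber (genericPoint Y)) := ⟨q⟩
  obtain ⟨x', hx'⟩ := hd.nonempty
  have hmem : (f.fiberι (genericPoint Y)) x' ∈ f.smoothLocus :=
    (Groth.Agent.Lib.Helper8.SmoothLocusBC.mem_smoothLocus_iff_of_isPullback f
      (Y.fromSpecResidueField (genericPoint Y)) (f.fiberToSpecResidueField (genericPoint Y))
      (f.fiberι (genericPoint Y)) hsq (Or.inr inferInstance) x').mp hx'
  exact f.smoothLocus.isOpen.dense ⟨_, hmem⟩

end Groth.Agent.Lib.Helper29.GenSmooth
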