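import Groth.Agent.Lib.Helper29.ExtGrp
import Groth.Agent.Lib.Helper6.GrpHomFlat
import Groth.Agent.Lib.Helper1.GrpSchField
import Groth.Agent.Lib.Helper22.SmoothRed

/-!
# Helper library (helper29): isogenies of smooth group schemes are detected fibrewise

* `geomRed_of_smooth`: smooth morphisms have geometrically reduced fibres
* `fibre_sq`: the square comparing `f` with its base change `(Over.pullback t).map f`
* `core`: a flat quasi-finite homomorphism of algebraic groups over a field with connected
  target is finite and surjective
* `main7815`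
(uses helper6's `GrpHomFlat.main7800`, helper1's `isClosed_range_of_eq_closure_inter`,
helper14's critère de platitude par fibres through helper6.)
-/

set_option autoImplicit false
set_option maxHeartbeats 1600000
universe u
open CategoryTheory CategoryTheory.Limits MonoidalCategory CartesianMonoidalCategory MonObj GrpObj
  AlgebraicGeometry

namespace Groth.Agent.Lib.Helper29.IsogFib

open Groth.Agent.Lib.Helper29

theorem geomRed_of_smooth {X Y : Scheme.{u}} (f : X ⟶ Y) [Smooth f] : GeometricallyReduced f := by
  refine ⟨fun K _ y Z fst snd h => ?_⟩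
  haveI : Smooth snd := MorphismProperty.of_isPullback (P := @Smooth) h inferInstance
  exact Groth.Agent.Lib.Helper22.SmoothRed.isReduced_of_smooth snd

theorem fibre_sq {S T : Scheme.{u}} (t : T ⟶ S) {G H : Over S} (f : G ⟶ H) :
    IsPullback (pullback.fst G.hom t) ((Over.pullback t).map f).left f.left
      (pullback.fst H.hom t) := by
  have e1 : ((Over.pullback t).map f).left ≫ pullback.snd H.hom t = pullback.snd G.hom t :=
    pullback.lift_snd _ _ _
  have e2 : pullback.fst G.hom t ≫ f.left =
      ((Over.pullback t).map f).left ≫ pullback.fst H.hom t := (pullback.lift_fst _ _ _).symm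
  refine IsPullback.of_bot ?_ e2 (IsPullback.of_hasPullback H.hom t)
  rw [e1, Over.w f]
  exact IsPullback.of_hasPullback G.hom t

/-- A flat, locally quasi-finite homomorphism from a quasi-compact algebraic group to a connected
separated algebraic group over a field is finite and surjective. -/
theorem core {k : Type u} [Field k] (A B : Over (Spec (CommRingCat.of k))) [GrpObj A] [GrpObj B]
    [LocallyOfFiniteType A.hom] [QuasiCompact A.hom] [Nonempty A.left]
    [LocallyOfFiniteType B.hom] [IsSeparated B.hom] [ConnectedSpace B.left]
    (φ : A ⟶ B) [IsMonHom φ] [Flat φ.left] [LocallyQuasiFinite φ.left] :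
    IsFinite φ.left ∧ Surjective φ.left := by
  haveI : IsLocallyNoetherian (Spec (CommRingCat.of k)) := inferInstance
  haveI hBn : IsLocallyNoetherian B.left := LocallyOfFiniteType.isLocallyNoetherian B.hom
  have hw : φ.left ≫ B.hom = A.hom := Over.w φ
  haveI : LocallyOfFiniteType (φ.left ≫ B.hom) := by rw [hw]; infer_instance
  haveI hlft : LocallyOfFiniteType φ.left := locallyOfFiniteType_of_comp φ.left B.hom
  haveI hlfp : LocallyOfFinitePresentation φ.left := inferInstance
  haveI : UniversallyOpen φ.left := inferInstance
  have hopen : IsOpen (Set.range φ.left) := φ.left.isOpenMap.isOpen_range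
  have hclosed : IsClosed (Set.range φ.left) :=
    Groth.Agent.Lib.Helper1.GrpSchLib.isClosed_range_of_eq_closure_inter φ _ hopen
      (Set.inter_eq_right.2 subset_closure).symm
  have hne : (Set.range φ.left).Nonempty :=
    ⟨_, ⟨(Nonempty.some inferInstance : A.left), rfl⟩⟩
  have huniv : Set.range φ.left = Set.univ := IsClopen.eq_univ ⟨hclosed, hopen⟩ hne
  haveI hsurj : Surjective φ.left := ⟨Set.range_eq_univ.mp huniv⟩
  refine ⟨?_, hsurj⟩
  -- the kernel
  have hker0 := IsPullback.of_hasPullback φ η[B]
  have hker : AlgGrp.IsKernel (pullback.fst φ η[B]) φ := by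
    have hu : pullback.snd φ η[B] = toUnit _ := toUnit_unique _ _
    rw [hu] at hker0
    exact hker0
  have sqN : IsPullback (pullback.fst φ η[B]).left (pullback φ η[B]).hom φ.left (η[B]).left :=
    hker.map (Over.forget _)
  haveI : QuasiCompact φ.left := AssocBundle.quasiCompact_left φ
  haveI : LocallyQuasiFinite (pullback φ η[B]).hom :=
    MorphismProperty.of_isPullback (P := @LocallyQuasiFinite) sqN inferInstance
  haveI : QuasiCompact (pullback φ η[B]).hom :=
    MorphismProperty.of_isPullback (P := @QuasiCompact) sqN inferInstance
  haveI : IsLocallyArtinian (Spec (CommRingCat.of k)) := inferInstance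
  have hNfin : IsFinite (pullback φ η[B]).hom := IsFinite.of_locallyQuasiFinite _
  haveI : MorphismProperty.DescendsAlong @IsFinite
      (@Surjective ⊓ @Flat ⊓ @QuasiCompact : MorphismProperty Scheme.{u}) :=
    Groth.Agent.Lib.Helper1.descendsAlong_fpqc_of_affineAnd @IsFinite
      RingHom.Finite (inferInstanceAs (HasAffineProperty @IsFinite
        (fun X _ f _ ↦ IsAffine X ∧ RingHom.Finite (f.appTop).hom)))
      RingHom.finite_respectsIso RingHom.Finite.codescendsAlong_faithfullyFlat
  exact ExtGrp.prop_of_kernel @IsFinite (pullback.fst φ η[B]) φ hker hNfin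

theorem fibre_finite_surjective {k : Type u} [Field k] {S : Scheme.{u}}
    (t : Spec (CommRingCat.of k) ⟶ S) (G H : Over S) [GrpObj G] [GrpObj H]
    [Smooth G.hom] [IsSeparated G.hom] [QuasiCompact G.hom] [GeometricallyConnected G.hom]
    [Smooth H.hom] [IsSeparated H.hom] [QuasiCompact H.hom] [GeometricallyConnected H.hom]
    (f : G ⟶ H) [IsMonHom f] [Flat f.left] [LocallyQuasiFinite f.left] :
    IsFinite ((Over.pullback t).map f).left ∧ Surjective ((Over.pullback t).map f).left := by
  have hsq := fibre_sq t f
  haveI : Flat ((Over.pullback t).map f).left :=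
    MorphismProperty.of_isPullback (P := @Flat) hsq inferInstance
  haveI : LocallyQuasiFinite ((Over.pullback t).map f).left :=
    MorphismProperty.of_isPullback (P := @LocallyQuasiFinite) hsq inferInstance
  haveI : LocallyOfFiniteType ((Over.pullback t).obj G).hom := by
    show LocallyOfFiniteType (pullback.snd G.hom t)
    infer_instance
  haveI : QuasiCompact ((Over.pullback t).obj G).hom := by
    show QuasiCompact (pullback.snd G.hom t)
    infer_instance
  haveI : LocallyOfFiniteType ((Over.pullback t).obj H).hom := by
    show LocallyOfFiniteType (pullback.snd H.hom t)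
    infer_instance
  haveI : IsSeparated ((Over.pullback t).obj H).hom := by
    show IsSeparated (pullback.snd H.hom t)
    infer_instance
  haveI : ConnectedSpace ((Over.pullback t).obj H).left :=
    (inferInstance : GeometricallyConnected H.hom).geometrically_connectedSpace t
      (pullback.fst H.hom t) (pullback.snd H.hom t) (IsPullback.of_hasPullback H.hom t)
  haveI : ConnectedSpace ((Over.pullback t).obj G).left :=
    (inferInstance : GeometricallyConnected G.hom).geometrically_connectedSpace t
      (pullback.fst G.hom t) (pullback.snd G.hom t) (IsPullback.of_hasPullback G.hom t)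
  exact core _ _ ((Over.pullback t).map f)

theorem main7815 {S : Scheme.{u}} (G H : Over S) [GrpObj G] [GrpObj H]
    [Smooth G.hom] [IsSeparated G.hom] [QuasiCompact G.hom] [GeometricallyConnected G.hom]
    [Smooth H.hom] [IsSeparated H.hom] [QuasiCompact H.hom] [GeometricallyConnected H.hom]
    (f : G ⟶ H) [IsMonHom f] :
    (Flat f.left ∧ LocallyQuasiFinite f.left ∧ LocallyOfFinitePresentation f.left) ↔
      ∀ s : S, IsFinite (pullback.snd f.left (H.hom.fiberι s)) ∧
        Surjective (pullback.snd f.left (H.hom.fiberι s)) := by
  constructor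
  · rintro ⟨h1, h2, h3⟩ s
    haveI := h1
    haveI := h2
    obtain ⟨hfin, hsurj⟩ :=
      fibre_finite_surjective (k := S.residueField s) (S.fromSpecResidueField s) G H f
    have hsq : IsPullback (pullback.fst G.hom (S.fromSpecResidueField s))
        ((Over.pullback (S.fromSpecResidueField s)).map f).left f.left (H.hom.fiberι s) :=
      fibre_sq (S.fromSpecResidueField s) f
    have hiso : hsq.isoPullback.hom ≫ pullback.snd f.left (H.hom.fiberι s) =
        ((Over.pullback (S.fromSpecResidueField s)).map f).left := hsq.isoPullback_hom_snd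
    constructor
    · exact (MorphismProperty.cancel_left_of_respectsIso @IsFinite hsq.isoPullback.hom _).mp
        (by rw [hiso]; exact hfin)
    · exact (MorphismProperty.cancel_left_of_respectsIso @Surjective hsq.isoPullback.hom _).mp
        (by rw [hiso]; exact hsurj)
  · intro hyp
    haveI : GeometricallyReduced H.hom := geomRed_of_smooth H.hom
    have hsurj : Surjective f.left := by
      refine ⟨fun h => ?_⟩
      obtain ⟨h', hh'⟩ : h ∈ Set.range (H.hom.fiberι (H.hom h)) := by
        rw [Scheme.Hom.range_fiberι]; rfl
      obtain ⟨p, hp⟩ := (hyp (H.hom h)).2.surj h'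
      refine ⟨pullback.fst f.left (H.hom.fiberι (H.hom h)) p, ?_⟩
      rw [← Scheme.Hom.comp_apply, pullback.condition, Scheme.Hom.comp_apply, hp, hh']
    haveI := hsurj
    haveI : LocallyOfFinitePresentation (f.left ≫ H.hom) := by rw [Over.w f]; infer_instance
    haveI hlfp : LocallyOfFinitePresentation f.left :=
      Groth.Agent.Lib.Helper14.LCF.locallyOfFinitePresentation_of_comp f.left H.hom
    have hflat : Flat f.left := (Groth.Agent.Lib.Helper6.GrpHomFlat.main7800 G H f).1
    refine ⟨hflat, ?_, hlfp⟩
    refine LocallyQuasiFinite.of_finite_preimage_singleton f.left (fun h => ?_)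
    obtain ⟨h', hh'⟩ : h ∈ Set.range (H.hom.fiberι (H.hom h)) := by
      rw [Scheme.Hom.range_fiberι]; rfl
    haveI := (hyp (H.hom h)).1
    have hfin : ((pullback.snd f.left (H.hom.fiberι (H.hom h))) ⁻¹' {h'}).Finite :=
      (pullback.snd f.left (H.hom.fiberι (H.hom h))).finite_preimage_singleton h'
    refine (hfin.image (fun z => pullback.fst f.left (H.hom.fiberι (H.hom h)) z)).subset ?_
    intro x hx
    obtain ⟨z, hz1, hz2⟩ := Scheme.Pullback.exists_preimage_pullback (f := f.left)
      (g := H.hom.fiberι (H.hom h)) x h' (by rw [hh']; exact hx)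
    exact ⟨z, hz2, hz1⟩

end Groth.Agent.Lib.Helper29.IsogFib
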