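import Groth.Agent.Lib.Helper29.IsogFib

/-!
# Helper library (helper29): flat ⇔ surjective for homomorphisms of abelian schemes

* `surj_core`: a flat homomorphism of algebraic groups over a field with connected target is
  surjective
* `surjective_of_fibrewise`: a morphism of `S`-schemes which is surjective on every fibre is
  surjective
* `main19659`
-/

set_option autoImplicit false
set_option maxHeartbeats 1600000
universe u
open CategoryTheory CategoryTheory.Limits MonoidalCategory CartesianMonoidalCategory MonObj GrpObj
  AlgebraicGeometry

namespace Groth.Agent.Lib.Helper29.IsogFib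

theorem surj_core {k : Type u} [Field k] (A B : Over (Spec (CommRingCat.of k))) [GrpObj A]
    [GrpObj B] [LocallyOfFiniteType A.hom] [Nonempty A.left]
    [LocallyOfFiniteType B.hom] [ConnectedSpace B.left]
    (φ : A ⟶ B) [IsMonHom φ] [Flat φ.left] : Surjective φ.left := by
  haveI : IsLocallyNoetherian (Spec (CommRingCat.of k)) := inferInstance
  haveI hBn : IsLocallyNoetherian B.left := LocallyOfFiniteType.isLocallyNoetherian B.hom
  have hw : φ.left ≫ B.hom = A.hom := Over.w φ
  haveI : LocallyOfFiniteType (φ.left ≫ B.hom) := by rw [hw]; infer_instance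
  haveI hlft : LocallyOfFiniteType φ.left := locallyOfFiniteType_of_comp φ.left B.hom
  haveI hlfp : LocallyOfFinitePresentation φ.left := inferInstance
  haveI : UniversallyOpen φ.left := inferInstance
  have hopen : IsOpen (Set.range φ.left) := φ.left.isOpenMap.isOpen_range
  have hclosed : IsClosed (Set.range φ.left) :=
    Groth.Agent.Lib.Helper1.GrpSchLib.isClosed_range_of_eq_closure_inter φ _ hopen
      (Set.inter_eq_right.2 subset_closure).symm
  have hne : (Set.range φ.left).Nonempty :=
    ⟨_, ⟨(Nonempty.some inferInstance : A.left), rfl⟩⟩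
  have huniv : Set.range φ.left = Set.univ := IsClopen.eq_univ ⟨hclosed, hopen⟩ hne
  exact ⟨Set.range_eq_univ.mp huniv⟩

theorem surjective_of_fibrewise {S : Scheme.{u}} {G H : Over S} (f : G ⟶ H)
    (h : ∀ s : S, Surjective ((Over.pullback (S.fromSpecResidueField s)).map f).left) :
    Surjective f.left := by
  refine ⟨fun b => ?_⟩
  obtain ⟨b', hb'⟩ : b ∈ Set.range (H.hom.fiberι (H.hom b)) := by
    rw [Scheme.Hom.range_fiberι]; rfl
  obtain ⟨a', ha'⟩ := (h (H.hom b)).surj b'
  refine ⟨pullback.fst G.hom (S.fromSpecResidueField (H.hom b)) a', ?_⟩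
  rw [← Scheme.Hom.comp_apply, (fibre_sq (S.fromSpecResidueField (H.hom b)) f).w,
    Scheme.Hom.comp_apply, ha']
  exact hb'

theorem main19659 {S : Scheme.{u}} (A B : Over S) [GrpObj A] [IsProper A.hom] [Smooth A.hom]
    [GeometricallyConnected A.hom]
    [GrpObj B] [IsProper B.hom] [Smooth B.hom] [GeometricallyConnected B.hom]
    (f : A ⟶ B) [IsMonHom f] :
    Flat f.left ↔ Surjective f.left := by
  constructor
  · intro hf
    haveI := hf
    refine surjective_of_fibrewise f (fun s => ?_)
    have hsq := fibre_sq (S.fromSpecResidueField s) f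
    haveI : Flat ((Over.pullback (S.fromSpecResidueField s)).map f).left :=
      MorphismProperty.of_isPullback (P := @Flat) hsq inferInstance
    haveI : LocallyOfFiniteType ((Over.pullback (S.fromSpecResidueField s)).obj A).hom := by
      show LocallyOfFiniteType (pullback.snd A.hom (S.fromSpecResidueField s))
      infer_instance
    haveI : LocallyOfFiniteType ((Over.pullback (S.fromSpecResidueField s)).obj B).hom := by
      show LocallyOfFiniteType (pullback.snd B.hom (S.fromSpecResidueField s))
      infer_instance
    haveI : ConnectedSpace ((Over.pullback (S.fromSpecResidueField s)).obj B).left :=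
      inferInstanceAs (ConnectedSpace (B.hom.fiber s))
    haveI : ConnectedSpace ((Over.pullback (S.fromSpecResidueField s)).obj A).left :=
      inferInstanceAs (ConnectedSpace (A.hom.fiber s))
    exact surj_core (k := S.residueField s) _ _ ((Over.pullback (S.fromSpecResidueField s)).map f)
  · intro hf
    haveI := hf
    haveI : GeometricallyReduced B.hom := geomRed_of_smooth B.hom
    exact (Groth.Agent.Lib.Helper6.GrpHomFlat.main7800 A B f).1

end Groth.Agent.Lib.Helper29.IsogFib
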