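import Groth.Agent.Lib.Helper29.QuotMain
import Groth.Agent.Lib.Helper22.ActionPts
import Groth.Prelude.Def_W4bk4git07Quot

/-!
# Helper library (helper29): fppf quotients are geometric quotients; faithfully flat homomorphisms

* `fnO`: sections over an open as morphisms to the affine line; `resLE_comp_fnO`.
* `sections_of_local`: functions on the base are the invariant functions, for a morphism with fpqc-local sections
  whose fibres are fpqc-locally orbits.
* `univSubmersive_of_local`: a morphism with fppf-local sections is universally submersive.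
* `main16684`, `main17794`.
-/

set_option autoImplicit false
set_option maxHeartbeats 1600000
universe u
open CategoryTheory CategoryTheory.Limits AlgebraicGeometry Opposite MonoidalCategory
  CartesianMonoidalCategory MonObj

namespace Groth.Agent.Lib.Helper29.QuotGeom

open Groth.Agent.Lib.Helper29.QuotUnpack Groth.Agent.Lib.Helper29.QuotMain Groth.Agent.Lib.Helper29
  Groth.Agent.Lib.Helper29.InvFun Groth.Agent.Lib

noncomputable section

/-! ### Sections over opens as morphisms to the affine line -/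

/-- the morphism to the affine line attached to a section over an open -/
def fnO {Z : Scheme.{u}} (W : Z.Opens) (f : Γ(Z, W)) : W.toScheme ⟶ A1.{u} :=
  fn (W.topIso.inv f)

theorem topIso_hom_inv {Z : Scheme.{u}} (W : Z.Opens) (f : Γ(Z, W)) :
    W.topIso.hom (W.topIso.inv f) = f :=
  congrArg (fun φ : Γ(Z, W) ⟶ Γ(Z, W) => φ f) W.topIso.inv_hom_id

theorem topIso_inv_hom {Z : Scheme.{u}} (W : Z.Opens) (s : Γ(W.toScheme, ⊤)) :
    W.topIso.inv (W.topIso.hom s) = s :=
  congrArg (fun φ : Γ(W.toScheme, ⊤) ⟶ Γ(W.toScheme, ⊤) => φ s) W.topIso.hom_inv_id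

theorem fnO_injective {Z : Scheme.{u}} (W : Z.Opens) : Function.Injective (fnO W) := by
  intro f g h
  have h' : fn (W.topIso.inv f) = fn (W.topIso.inv g) := h
  have h1 : W.topIso.inv f = W.topIso.inv g := fn_injective h'
  calc f = W.topIso.hom (W.topIso.inv f) := (topIso_hom_inv W f).symm
    _ = W.topIso.hom (W.topIso.inv g) := by rw [h1]
    _ = g := topIso_hom_inv W g

theorem fnO_surjective {Z : Scheme.{u}} (W : Z.Opens) (φ : W.toScheme ⟶ A1.{u}) :
    ∃ f, fnO W f = φ := by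
  refine ⟨W.topIso.hom (val φ), ?_⟩
  unfold fnO
  rw [topIso_inv_hom, fn_val]

theorem resLE_comp_fnO {Z Z' : Scheme.{u}} (h : Z' ⟶ Z) (W : Z.Opens) (W' : Z'.Opens)
    (e : W' ≤ h ⁻¹ᵁ W) (f : Γ(Z, W)) :
    h.resLE W W' e ≫ fnO W f = fnO W' (h.appLE W W' e f) := by
  unfold fnO
  rw [comp_fn]
  congr 1
  show (h.resLE W W' e).app ⊤ (W.topIso.inv f) = W'.topIso.inv (h.appLE W W' e f)
  rw [Scheme.Hom.resLE_app_top]
  show W'.topIso.inv (h.appLE W W' e (W.topIso.hom (W.topIso.inv f))) =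
    W'.topIso.inv (h.appLE W W' e f)
  rw [topIso_hom_inv]

/-! ### Functions on the base -/

section Sections

variable {X₀ Y₀ Z₀ : Scheme.{u}} (q₀ : X₀ ⟶ Y₀) (σ p₂ : Z₀ ⟶ X₀) (U : Y₀.Opens)

set_option quotPrecheck false in
local notation "VV" => (q₀ ⁻¹ᵁ U)
set_option quotPrecheck false in
local notation "WW" => (σ ⁻¹ᵁ (q₀ ⁻¹ᵁ U) ⊓ p₂ ⁻¹ᵁ (q₀ ⁻¹ᵁ U))

theorem sections_of_local (hw : σ ≫ q₀ = p₂ ≫ q₀)
    {I₀ : Type (u + 1)} {Yc : I₀ → Scheme.{u}} (c : ∀ l, Yc l ⟶ Y₀)
    (hc : Presieve.ofArrows Yc c ∈ Scheme.fpqcPrecoverage Y₀)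
    (x : ∀ l, Yc l ⟶ X₀) (hx : ∀ l, x l ≫ q₀ = c l)
    (hLR : ∀ {Z : Scheme.{u}} (x₁ x₂ : Z ⟶ X₀), x₁ ≫ q₀ = x₂ ≫ q₀ →
      ∃ (κ : Type (u + 1)) (W : κ → Scheme.{u}) (d : ∀ m, W m ⟶ Z),
        Presieve.ofArrows W d ∈ Scheme.fpqcPrecoverage Z ∧
        ∀ m, ∃ r : W m ⟶ Z₀, r ≫ σ = d m ≫ x₁ ∧ r ≫ p₂ = d m ≫ x₂) :
    Function.Injective (q₀.app U) ∧ Set.range (q₀.app U) =
      {g | σ.appLE VV WW inf_le_left g = p₂.appLE VV WW inf_le_right g} := by
  -- the restricted morphisms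
  obtain ⟨qU, F1, F3, F5⟩ : ∃ qU : (VV).toScheme ⟶ U.toScheme,
      qU ≫ U.ι = (VV).ι ≫ q₀ ∧
      (∀ f : Γ(Y₀, U), qU ≫ fnO U f = fnO VV (q₀.app U f)) ∧
      IsPullback qU (VV).ι U.ι q₀ := by
    refine ⟨q₀.resLE U VV le_rfl, Scheme.Hom.resLE_comp_ι q₀ le_rfl, fun f => ?_, ?_⟩
    · rw [resLE_comp_fnO, Scheme.Hom.appLE_eq_app]
    · rw [Scheme.Hom.resLE_eq_morphismRestrict]
      exact isPullback_morphismRestrict q₀ U
  obtain ⟨σW, G1, G3⟩ : ∃ σW : (WW).toScheme ⟶ (VV).toScheme, σW ≫ (VV).ι = (WW).ι ≫ σ ∧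
      ∀ g : Γ(X₀, VV), σW ≫ fnO VV g = fnO WW (σ.appLE VV WW inf_le_left g) :=
    ⟨σ.resLE VV WW inf_le_left, Scheme.Hom.resLE_comp_ι σ inf_le_left,
      fun g => resLE_comp_fnO σ VV WW inf_le_left g⟩
  obtain ⟨pW, H1, H3⟩ : ∃ pW : (WW).toScheme ⟶ (VV).toScheme, pW ≫ (VV).ι = (WW).ι ≫ p₂ ∧
      ∀ g : Γ(X₀, VV), pW ≫ fnO VV g = fnO WW (p₂.appLE VV WW inf_le_right g) :=
    ⟨p₂.resLE VV WW inf_le_right, Scheme.Hom.resLE_comp_ι p₂ inf_le_right,
      fun g => resLE_comp_fnO p₂ VV WW inf_le_right g⟩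
  have INV : ∀ g : Γ(X₀, VV), (σ.appLE VV WW inf_le_left g = p₂.appLE VV WW inf_le_right g) ↔
      σW ≫ fnO VV g = pW ≫ fnO VV g := by
    intro g
    rw [G3, H3]
    exact ⟨fun h => by rw [h], fun h => fnO_injective _ h⟩
  -- the covering of `U`
  have hcovU : Presieve.ofArrows (fun l => pullback U.ι (c l)) (fun l => pullback.fst U.ι (c l)) ∈
      Scheme.fpqcPrecoverage U.toScheme :=
    Precoverage.mem_coverings_of_isPullback c hc U.ι (fun l => pullback.fst U.ι (c l))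
      (fun l => pullback.snd U.ι (c l)) (fun l => IsPullback.of_hasPullback U.ι (c l))
  have hξ : ∀ l, ∃ ξ : pullback U.ι (c l) ⟶ (VV).toScheme, ξ ≫ qU = pullback.fst U.ι (c l) :=
    fun l => ⟨F5.lift (pullback.fst U.ι (c l)) (pullback.snd U.ι (c l) ≫ x l)
      (by rw [Category.assoc, hx l]; exact pullback.condition), F5.lift_fst _ _ _⟩
  choose ξ hξ1 using hξ
  -- invariant functions are constant on the fibres of `q`
  have KEY : ∀ (g : Γ(X₀, VV)), σW ≫ fnO VV g = pW ≫ fnO VV g →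
      ∀ {Z : Scheme.{u}} (v₁ v₂ : Z ⟶ (VV).toScheme), v₁ ≫ qU = v₂ ≫ qU →
        v₁ ≫ fnO VV g = v₂ ≫ fnO VV g := by
    intro g hg Z v₁ v₂ hv
    have hxq : (v₁ ≫ (VV).ι) ≫ q₀ = (v₂ ≫ (VV).ι) ≫ q₀ := by
      rw [Category.assoc, Category.assoc, ← F1, ← Category.assoc, ← Category.assoc, hv]
    obtain ⟨κ, Wd, d, hd, hr⟩ := hLR (v₁ ≫ (VV).ι) (v₂ ≫ (VV).ι) hxq
    refine fpqc_sep' A1.{u} d hd _ _ (fun m => ?_)
    obtain ⟨r, hr1, hr2⟩ := hr m
    have hrange : Set.range r ⊆ Set.range (WW).ι := by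
      rintro _ ⟨w', rfl⟩
      rw [Scheme.Opens.range_ι]
      have h1 : σ (r w') ∈ VV := by
        have e1 : σ (r w') = (VV).ι (v₁ (d m w')) :=
          calc σ (r w') = (r ≫ σ) w' := (Scheme.Hom.comp_apply r σ w').symm
            _ = (d m ≫ v₁ ≫ (VV).ι) w' := by rw [hr1]
            _ = (VV).ι (v₁ (d m w')) := by rw [Scheme.Hom.comp_apply, Scheme.Hom.comp_apply]
        rw [e1]
        exact (v₁ (d m w')).2
      have h2 : p₂ (r w') ∈ VV := by
        have e1 : p₂ (r w') = (VV).ι (v₂ (d m w')) :=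
          calc p₂ (r w') = (r ≫ p₂) w' := (Scheme.Hom.comp_apply r p₂ w').symm
            _ = (d m ≫ v₂ ≫ (VV).ι) w' := by rw [hr2]
            _ = (VV).ι (v₂ (d m w')) := by rw [Scheme.Hom.comp_apply, Scheme.Hom.comp_apply]
        rw [e1]
        exact (v₂ (d m w')).2
      exact ⟨h1, h2⟩
    obtain ⟨ρ, hρ⟩ : ∃ ρ : Wd m ⟶ (WW).toScheme, ρ ≫ (WW).ι = r :=
      ⟨IsOpenImmersion.lift (WW).ι r hrange, IsOpenImmersion.lift_fac _ _ _⟩
    have e1 : d m ≫ v₁ = ρ ≫ σW := by
      rw [← cancel_mono (VV).ι, Category.assoc, Category.assoc, G1, ← Category.assoc ρ, hρ, hr1]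
    have e2 : d m ≫ v₂ = ρ ≫ pW := by
      rw [← cancel_mono (VV).ι, Category.assoc, Category.assoc, H1, ← Category.assoc ρ, hρ, hr2]
    rw [← Category.assoc, ← Category.assoc, e1, e2, Category.assoc, Category.assoc, hg]
  refine ⟨fun f f' hff => ?_, ?_⟩
  · apply fnO_injective U
    refine fpqc_sep' A1.{u} (fun l => pullback.fst U.ι (c l)) hcovU _ _ (fun l => ?_)
    have hqq : qU ≫ fnO U f = qU ≫ fnO U f' := by rw [F3, F3, hff]
    calc pullback.fst U.ι (c l) ≫ fnO U f = ξ l ≫ qU ≫ fnO U f := by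
          rw [← Category.assoc, hξ1 l]
      _ = ξ l ≫ qU ≫ fnO U f' := by rw [hqq]
      _ = pullback.fst U.ι (c l) ≫ fnO U f' := by rw [← Category.assoc, hξ1 l]
  · ext g
    simp only [Set.mem_range, Set.mem_setOf_eq]
    constructor
    · rintro ⟨f, rfl⟩
      rw [INV, ← F3]
      have hqq : σW ≫ qU = pW ≫ qU := by
        rw [← cancel_mono U.ι, Category.assoc, Category.assoc, F1, ← Category.assoc,
          ← Category.assoc, G1, H1, Category.assoc, Category.assoc, hw]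
      rw [← Category.assoc, ← Category.assoc, hqq]
    · intro hg'
      have hg := (INV g).1 hg'
      obtain ⟨φ, hφ⟩ := fpqc_glue' A1.{u} (fun l => pullback.fst U.ι (c l)) hcovU
        (fun l => ξ l ≫ fnO VV g)
        (fun l l' Z p p' hpp => by
          rw [← Category.assoc, ← Category.assoc]
          exact KEY g hg (p ≫ ξ l) (p' ≫ ξ l')
            (by rw [Category.assoc, Category.assoc, hξ1, hξ1, hpp]))
      have hcovV : Presieve.ofArrows (fun l => pullback qU (pullback.fst U.ι (c l)))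
          (fun l => pullback.fst qU (pullback.fst U.ι (c l))) ∈
          Scheme.fpqcPrecoverage (VV).toScheme :=
        Precoverage.mem_coverings_of_isPullback (fun l => pullback.fst U.ι (c l)) hcovU qU
          (fun l => pullback.fst qU (pullback.fst U.ι (c l)))
          (fun l => pullback.snd qU (pullback.fst U.ι (c l)))
          (fun l => IsPullback.of_hasPullback qU (pullback.fst U.ι (c l)))
      have hfin : qU ≫ φ = fnO VV g := by
        refine fpqc_sep' A1.{u} (fun l => pullback.fst qU (pullback.fst U.ι (c l))) hcovV _ _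
          (fun l => ?_)
        rw [← Category.assoc, pullback.condition, Category.assoc, hφ l, ← Category.assoc]
        exact (KEY g hg (pullback.fst qU (pullback.fst U.ι (c l)))
          (pullback.snd qU (pullback.fst U.ι (c l)) ≫ ξ l)
          (by rw [Category.assoc, hξ1, pullback.condition])).symm
      obtain ⟨f, hf⟩ := fnO_surjective U φ
      refine ⟨f, fnO_injective VV ?_⟩
      rw [← F3, hf, hfin]

end Sections

/-! ### Universally submersive -/

theorem univSubmersive_of_local {X₀ Y₀ : Scheme.{u}} (q₀ : X₀ ⟶ Y₀)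
    {I₀ : Type (u + 1)} {Yc : I₀ → Scheme.{u}} (c : ∀ l, Yc l ⟶ Y₀)
    (hc : Presieve.ofArrows Yc c ∈ Scheme.fppfPrecoverage Y₀)
    (x : ∀ l, Yc l ⟶ X₀) (hx : ∀ l, x l ≫ q₀ = c l) : GIT.IsUnivSubmersive q₀ := by
  intro X' Y' i₁ i₂ f' hpb
  have hcov' : Presieve.ofArrows (fun l => pullback i₂ (c l)) (fun l => pullback.fst i₂ (c l)) ∈
      Scheme.fppfPrecoverage Y' :=
    Precoverage.mem_coverings_of_isPullback c hc i₂ (fun l => pullback.fst i₂ (c l))
      (fun l => pullback.snd i₂ (c l)) (fun l => IsPullback.of_hasPullback i₂ (c l))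
  obtain ⟨hs', hP'⟩ :=
    (Scheme.ofArrows_mem_precoverage_iff (P := @Flat ⊓ @LocallyOfFinitePresentation)).mp hcov'
  have hξ : ∀ l, ∃ ξ : pullback i₂ (c l) ⟶ X', ξ ≫ f' = pullback.fst i₂ (c l) := fun l =>
    ⟨hpb.lift (pullback.fst i₂ (c l)) (pullback.snd i₂ (c l) ≫ x l)
      (by rw [Category.assoc, hx l]; exact pullback.condition), hpb.lift_fst _ _ _⟩
  choose ξ hξ1 using hξ
  have key : Topology.IsQuotientMap (f' : X' → Y') := by
    rw [Topology.isQuotientMap_iff, Topology.isCoinducing_iff]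
    refine ⟨fun V => ⟨fun hV => ?_, fun hV => hV.preimage f'.continuous⟩, fun y' => ?_⟩
    · have hV' : V = ⋃ l, (pullback.fst i₂ (c l)) '' ((pullback.fst i₂ (c l)) ⁻¹' V) := by
        ext y'
        simp only [Set.mem_iUnion, Set.mem_image, Set.mem_preimage]
        constructor
        · intro hy
          obtain ⟨l, p, hp⟩ := hs' y'
          exact ⟨l, p, by rw [hp]; exact hy, hp⟩
        · rintro ⟨l, p, hp1, rfl⟩
          exact hp1
      rw [hV']
      refine isOpen_iUnion fun l => ?_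
      haveI : Flat (pullback.fst i₂ (c l)) := (hP' l).1
      haveI : LocallyOfFinitePresentation (pullback.fst i₂ (c l)) := (hP' l).2
      apply (pullback.fst i₂ (c l)).isOpenMap
      have e : (pullback.fst i₂ (c l)) ⁻¹' V = (ξ l) ⁻¹' (f' ⁻¹' V) := by
        ext p
        simp only [Set.mem_preimage]
        rw [← Scheme.Hom.comp_apply, hξ1 l]
      rw [e]
      exact (hV.preimage (ξ l).continuous)
    · obtain ⟨l, p, hp⟩ := hs' y'
      refine ⟨ξ l p, ?_⟩
      rw [← Scheme.Hom.comp_apply, hξ1 l]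
      exact hp
  exact key

/-! ### Group actions -/

theorem ptRel_act_equivalence {S : Scheme.{u}} {G X : Over S} [GrpObj G] (a : AlgGrp.Action G X)
    (T : Over S) : _root_.Equivalence (PtRel a.act (snd G X) T) := by
  have hr : ∀ {y : T ⟶ X} (r : T ⟶ G ⊗ X), r ≫ snd G X = y → lift (r ≫ fst G X) y = r := by
    intro y r h
    apply CartesianMonoidalCategory.hom_ext
    · rw [lift_fst]
    · rw [lift_snd, h]
  refine ⟨fun x => ⟨lift (1 : T ⟶ G) x, Helper22.pt_one_smul a x, lift_snd _ _⟩, ?_, ?_⟩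
  · rintro x y ⟨r, h1, h2⟩
    refine ⟨lift (r ≫ fst G X)⁻¹ x, ?_, lift_snd _ _⟩
    have hx : x = Helper22.smul a (r ≫ fst G X) y := by
      rw [Helper22.smul_def, hr r h2, h1]
    show Helper22.smul a (r ≫ fst G X)⁻¹ x = y
    rw [hx, Helper22.pt_inv_smul_smul]
  · rintro x y z ⟨r₁, h1, h2⟩ ⟨r₂, h3, h4⟩
    refine ⟨lift ((r₁ ≫ fst G X) * (r₂ ≫ fst G X)) z, ?_, lift_snd _ _⟩
    have hx : x = Helper22.smul a (r₁ ≫ fst G X) y := by
      rw [Helper22.smul_def, hr r₁ h2, h1]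
    have hy : y = Helper22.smul a (r₂ ≫ fst G X) z := by
      rw [Helper22.smul_def, hr r₂ h4, h3]
    show Helper22.smul a ((r₁ ≫ fst G X) * (r₂ ≫ fst G X)) z = x
    rw [Helper22.pt_mul_smul, ← hy, ← hx]

theorem main16684 {S : Scheme.{u}} (G X Y : Over S) [GrpObj G]
    (a : AlgGrp.Action G X) (q : X ⟶ Y)
    (hq : QuotSh.IsQuotient Scheme.fppfPrecoverage a.act (snd G X) q) :
    GIT.IsGeomQuot a q := by
  haveI := fppf_hasPullbacks.{u}
  haveI := fppf_hasIsos.{u}
  have w : a.act ≫ q = snd G X ≫ q := hq.choose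
  have hepi := epi_repMap_of_isQuotient Scheme.fppfPrecoverage a.act (snd G X) q hq
  have hE := ptRel_act_equivalence a
  obtain ⟨I₀, Yc, c, hc, hx⟩ := exists_cover_lift Scheme.fppfPrecoverage q hepi (𝟙 Y)
  have hx' : ∀ l, ∃ x : Yc l ⟶ X.left, x ≫ q.left = c l := fun l => by
    obtain ⟨x, hx⟩ := hx l
    exact ⟨x, hx.trans (Category.comp_id _)⟩
  choose x hx'' using hx'
  have hcq : Presieve.ofArrows Yc c ∈ Scheme.fpqcPrecoverage Y.left :=
    Scheme.fppfPrecoverage_le_fpqcPrecoverage _ hc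
  have hLR : ∀ {Z : Scheme.{u}} (x₁ x₂ : Z ⟶ X.left), x₁ ≫ q.left = x₂ ≫ q.left →
      ∃ (κ : Type (u + 1)) (W : κ → Scheme.{u}) (d : ∀ m, W m ⟶ Z),
        Presieve.ofArrows W d ∈ Scheme.fppfPrecoverage Z ∧
        ∀ m, ∃ r : W m ⟶ (G ⊗ X).left, r ≫ a.act.left = d m ≫ x₁ ∧
          r ≫ (snd G X).left = d m ≫ x₂ :=
    fun x₁ x₂ h => exists_cover_rel Scheme.fppfPrecoverage hq hE x₁ x₂ h
  refine ⟨w, ?_, ?_, ?_, ?_⟩
  · exact (surjective_of_cover q.left c hc (fun l => ⟨x l, hx'' l⟩)).surj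
  · intro z
    obtain ⟨κ, W, d, hd, hr⟩ :=
      hLR (pullback.fst q.left q.left) (pullback.snd q.left q.left) pullback.condition
    obtain ⟨hds, -⟩ :=
      (Scheme.ofArrows_mem_precoverage_iff (P := @Flat ⊓ @LocallyOfFinitePresentation)).mp hd
    obtain ⟨m, z', hz'⟩ := hds z
    obtain ⟨r, hr1, hr2⟩ := hr m
    refine ⟨r z', ?_⟩
    have e : r ≫ GIT.PsiY a q w = d m := by
      unfold GIT.PsiY
      apply pullback.hom_ext
      · rw [Category.assoc, pullback.lift_fst]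
        exact hr1
      · rw [Category.assoc, pullback.lift_snd]
        exact hr2
    show (GIT.PsiY a q w) (r z') = z
    rw [← Scheme.Hom.comp_apply, e]
    exact hz'
  · exact univSubmersive_of_local q.left c hc x hx''
  · intro U
    exact sections_of_local q.left a.act.left (snd G X).left U (GIT.IsInvariant.left w) c hcq x hx''
      (fun x₁ x₂ h => by
        obtain ⟨κ, W, d, hd, hr⟩ := hLR x₁ x₂ h
        exact ⟨κ, W, d, Scheme.fppfPrecoverage_le_fpqcPrecoverage _ hd, hr⟩)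

/-! ### Faithfully flat homomorphisms -/

/-- Cancellation for local finite presentation (after helper8's `RelFiberSmoothSch`). -/
theorem lfp_of_comp {X Y S : Scheme.{u}} (f : X ⟶ Y) (g : Y ⟶ S)
    [LocallyOfFiniteType g] [LocallyOfFinitePresentation (f ≫ g)] :
    LocallyOfFinitePresentation f := by
  have hQ : RingHom.StableUnderCompositionWithLocalizationAwaySource
      @RingHom.FinitePresentation := by
    intro R S T _ _ _ _ r _ f hf
    refine hf.comp ?_
    rw [RingHom.finitePresentation_algebraMap]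
    exact IsLocalization.Away.finitePresentation r
  rw [HasRingHomProperty.iff_exists_appLE (P := @LocallyOfFinitePresentation) hQ]
  intro x
  obtain ⟨_, ⟨W, hW, rfl⟩, hxW, -⟩ :=
    S.isBasis_affineOpens.exists_subset_of_mem_open (Set.mem_univ (g (f x))) isOpen_univ
  obtain ⟨_, ⟨U, hU, rfl⟩, hxU, hUW⟩ :=
    Y.isBasis_affineOpens.exists_subset_of_mem_open hxW (W.2.preimage g.continuous)
  obtain ⟨_, ⟨V, hV, rfl⟩, hxV, hVU⟩ :=
    X.isBasis_affineOpens.exists_subset_of_mem_open hxU (U.2.preimage f.continuous)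
  replace hUW : U ≤ g ⁻¹ᵁ W := hUW
  replace hVU : V ≤ f ⁻¹ᵁ U := hVU
  refine ⟨⟨U, hU⟩, ⟨V, hV⟩, hxV, hVU, ?_⟩
  have hVW : V ≤ (f ≫ g) ⁻¹ᵁ W := fun y hy => hUW (hVU hy)
  have h1 : ((f ≫ g).appLE W V hVW).hom.FinitePresentation :=
    (f ≫ g).finitePresentation_appLE hW hV hVW
  have h2 : (f ≫ g).appLE W V hVW = g.appLE W U hUW ≫ f.appLE U V hVU := by
    rw [Scheme.Hom.appLE_comp_appLE]
  rw [h2] at h1
  exact RingHom.FinitePresentation.of_comp_finiteType _ h1 (g.finiteType_appLE hW hU hUW)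

theorem isPullback_of_isKernel {S : Scheme.{u}} {G H N : Over S} [GrpObj G] [GrpObj H] (f : G ⟶ H)
    [IsMonHom f] (i : N ⟶ G) (hi : AlgGrp.IsKernel i f) :
    IsPullback (fst G N) ((G ◁ i) ≫ μ[G]) f f := by
  have hi' : IsPullback i (toUnit N) f η[H] := hi
  have hm : (G ◁ i) ≫ μ[G] = fst G N * (snd G N ≫ i) := by
    rw [MonObj.mul_eq_mul, MonObj.comp_mul, whiskerLeft_fst, whiskerLeft_snd]
  have hif : ∀ {T : Over S} (n : T ⟶ N), (n ≫ i) ≫ f = 1 := by
    intro T n
    rw [Category.assoc, hi'.w, ← Category.assoc, toUnit_unique (n ≫ toUnit N) (toUnit T),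
      Hom.one_def]
  have hmul : ∀ {T : Over S} (a : T ⟶ G) (n : T ⟶ N), (a * (n ≫ i)) ≫ f = a ≫ f := by
    intro T a n
    rw [MonObj.mul_comp, hif n, _root_.mul_one]
  have hw : fst G N ≫ f = ((G ◁ i) ≫ μ[G]) ≫ f := by
    rw [hm, hmul]
  have hker : ∀ {T : Over S} (a b : T ⟶ G), a ≫ f = b ≫ f → ∃ n : T ⟶ N, n ≫ i = a⁻¹ * b := by
    intro T a b h
    have h1 : (a⁻¹ * b) ≫ f = toUnit T ≫ η[H] := by
      rw [MonObj.mul_comp, GrpObj.inv_comp, h, inv_mul_cancel, Hom.one_def]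
    exact ⟨hi'.lift (a⁻¹ * b) (toUnit T) h1, hi'.lift_fst _ _ _⟩
  have hmono : ∀ {T : Over S} (n n' : T ⟶ N), n ≫ i = n' ≫ i → n = n' := by
    intro T n n' h
    exact hi'.hom_ext h (toUnit_unique _ _)
  refine ⟨⟨hw⟩, ⟨PullbackCone.IsLimit.mk hw
    (fun c => lift c.fst (Classical.choose (hker c.fst c.snd c.condition))) ?_ ?_ ?_⟩⟩
  · intro c
    exact lift_fst _ _
  · intro c
    have hn := Classical.choose_spec (hker c.fst c.snd c.condition)
    rw [hm, MonObj.comp_mul, lift_fst, ← Category.assoc, lift_snd, hn, mul_inv_cancel_left]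
  · intro c m h1 h2
    have hn := Classical.choose_spec (hker c.fst c.snd c.condition)
    apply CartesianMonoidalCategory.hom_ext
    · rw [lift_fst]
      exact h1
    · rw [lift_snd]
      apply hmono
      rw [hn, ← h1, ← h2, hm, MonObj.comp_mul, inv_mul_cancel_left, Category.assoc]

theorem main17794 {S : Scheme.{u}} {G H N : Over S} [GrpObj G] [GrpObj H] (f : G ⟶ H) [IsMonHom f]
    [LocallyOfFinitePresentation G.hom] [QuasiCompact G.hom] [QuasiSeparated G.hom]
    [LocallyOfFinitePresentation H.hom] [QuasiCompact H.hom] [QuasiSeparated H.hom]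
    (i : N ⟶ G) (hi : AlgGrp.IsKernel i f) :
    (Flat f.left ∧ Surjective f.left) ↔
      (Epi (QuotSh.repMap Scheme.fppfPrecoverage f) ∧ Flat N.hom) := by
  have hi' : IsPullback i (toUnit N) f η[H] := hi
  constructor
  · rintro ⟨hf1, hf2⟩
    haveI := hf1
    haveI := hf2
    haveI : LocallyOfFinitePresentation (f.left ≫ H.hom) := by
      rw [Over.w f]
      infer_instance
    haveI : LocallyOfFinitePresentation f.left := lfp_of_comp f.left H.hom
    refine ⟨epi_repMap_of_cover _ f ?_, ?_⟩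
    · rw [Presieve.ofArrows_pUnit]
      exact Scheme.Hom.singleton_mem_fppfPrecoverage f.left
    · have h1 : Flat (toUnit N).left :=
        MorphismProperty.of_isPullback (P := @Flat) (hi'.map (Over.forget S)) hf1
      have h3 : (toUnit N).left = N.hom :=
        (Category.comp_id _).symm.trans (Over.w (toUnit N))
      rwa [h3] at h1
  · rintro ⟨hepi, hN⟩
    haveI := hN
    haveI := fppf_hasPullbacks.{u}
    haveI := fppf_hasIsos.{u}
    obtain ⟨I₀, Yc, c, hc, hx⟩ := exists_cover_lift Scheme.fppfPrecoverage f hepi (𝟙 H)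
    have hx' : ∀ l, ∃ x : Yc l ⟶ G.left, x ≫ f.left = c l := fun l => by
      obtain ⟨x, hx⟩ := hx l
      exact ⟨x, hx.trans (Category.comp_id _)⟩
    have hcq : Presieve.ofArrows Yc c ∈ Scheme.fpqcPrecoverage H.left :=
      Scheme.fppfPrecoverage_le_fpqcPrecoverage _ hc
    have hsq : IsPullback ((G ◁ i) ≫ μ[G]).left (fst G N).left f.left f.left :=
      ((isPullback_of_isKernel f i hi).map (Over.forget S)).flip
    have hfst : Flat (fst G N).left := by
      show Flat (pullback.fst G.hom N.hom)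
      infer_instance
    exact ⟨prop_of_localSections @Flat f.left (snd_of_isPullback @Flat hsq hfst) c hcq hx',
      surjective_of_cover f.left c hc hx'⟩

end

end Groth.Agent.Lib.Helper29.QuotGeom
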