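import Groth.Agent.Lib.Helper29.TorsorDesc
import Groth.Agent.Lib.Helper1.Descent
import Mathlib.RingTheory.Finiteness.Descent
import Mathlib.AlgebraicGeometry.Morphisms.Etale
import Mathlib.AlgebraicGeometry.Morphisms.Smooth
import Mathlib.AlgebraicGeometry.Morphisms.Finite

/-!
# Helper library (helper29): properties of `G ⟶ S` inherited by fpqc torsors
-/

set_option autoImplicit false
set_option maxHeartbeats 1600000
universe u
open CategoryTheory CategoryTheory.Limits AlgebraicGeometry MonoidalCategory CartesianMonoidalCategory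
  MorphismProperty MonObj

namespace Groth.Agent.Lib.Helper29.TorsorProps

open Groth.Agent.Lib.Helper29.TorsorDesc

theorem main6004 {S : Scheme.{u}}
    (G X : Over S) [GrpObj G] [IsAffineHom G.hom] [Flat G.hom] (a : AlgGrp.Action G X)
    (h : NonAbH1.IsTorsorFor Scheme.fpqcPrecoverage a) :
    IsAffineHom X.hom ∧ Flat X.hom := by
  haveI : MorphismProperty.DescendsAlong @IsAffineHom
      (@Surjective ⊓ @Flat ⊓ @QuasiCompact : MorphismProperty Scheme.{u}) := Groth.Agent.S0082.result
  exact ⟨hom_of_isTorsorFor_fpqc @IsAffineHom a h inferInstance,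
    hom_of_isTorsorFor_fpqc @Flat a h inferInstance⟩

theorem main18860 {S : Scheme.{u}} {G X : Over S} [GrpObj G]
    (a : AlgGrp.Action G X) (ha : NonAbH1.IsTorsorFor Scheme.fpqcPrecoverage a) :
    (LocallyOfFiniteType G.hom → LocallyOfFiniteType X.hom) ∧ (QuasiCompact G.hom → QuasiCompact X.hom) ∧
      (IsFinite G.hom → IsFinite X.hom) ∧ (Smooth G.hom → Smooth X.hom) ∧ (Etale G.hom → Etale X.hom) := by
  haveI : MorphismProperty.DescendsAlong @IsFinite
      (@Surjective ⊓ @Flat ⊓ @QuasiCompact : MorphismProperty Scheme.{u}) :=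
    Groth.Agent.Lib.Helper1.descendsAlong_fpqc_of_affineAnd @IsFinite
      RingHom.Finite (inferInstanceAs (HasAffineProperty @IsFinite
        (fun X _ f _ ↦ IsAffine X ∧ RingHom.Finite (f.appTop).hom)))
      RingHom.finite_respectsIso RingHom.Finite.codescendsAlong_faithfullyFlat
  exact ⟨fun hG => hom_of_isTorsorFor_fpqc @LocallyOfFiniteType a ha hG,
    fun hG => hom_of_isTorsorFor_fpqc @QuasiCompact a ha hG,
    fun hG => hom_of_isTorsorFor_fpqc @IsFinite a ha hG,
    fun hG => hom_of_isTorsorFor_fpqc @Smooth a ha hG,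
    fun hG => hom_of_isTorsorFor_fpqc @Etale a ha hG⟩

end Groth.Agent.Lib.Helper29.TorsorProps
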