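import Groth.Agent.Lib.Helper29.SGA3Quot
import Groth.Agent.Lib.Helper29.QuotGeom
import Groth.Agent.Lib.Helper29.TorsorProps
import Groth.Agent.Lib.Helper11.SepFibre
import Groth.Agent.Lib.Helper11.GeomSep
import Groth.Agent.Lib.Helper11.BcLevels

/-!
# Helper library (helper29): extensions of algebraic groups (affine / smooth / connected)

* `geomConn_of_sepClosedIn` (argument of helper11, reproduced from their library lemmas)
* `geomConn_of_section`: a connected `k`-scheme with a rational point is geometrically connected
* `geomConn_of_isPullback_of_surjective`: geometric connectedness descends along surjections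
* `main7982`
-/

set_option autoImplicit false
set_option maxHeartbeats 1600000
universe u

namespace Groth.Agent.Lib.Helper29.ExtGrp

section GeomConn

open CategoryTheory CategoryTheory.Limits AlgebraicGeometry
open Groth.Agent.Lib.Helper11.FBaseLib Groth.Agent.Lib.Helper11.FBaseLib2
  Groth.Agent.Lib.Helper11.BcLevels Groth.Agent.Lib.Helper11.GeomSep
  Groth.Agent.Lib.Helper11.SepFibre

/-- `k` separably closed in `κ(x)` and `X` connected imply geometrically connected
(helper11's argument, assembled from their library). -/
theorem geomConn_of_sepClosedIn {k : Type u} [Field k] {X : Scheme.{u}}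
    [ConnectedSpace X] (f : X ⟶ Spec (CommRingCat.of k)) (x : X) (φ : k →+* X.residueField x)
    (hφ : Spec.map (CommRingCat.ofHom φ) = X.fromSpecResidueField x ≫ f)
    (hsc : letI := φ.toAlgebra
      ∀ a : X.residueField x, IsSeparable k a → a ∈ Set.range (algebraMap k (X.residueField x))) :
    GeometricallyConnected f := by
  letI := φ.toAlgebra
  have hsub := fibre_subsingleton f x φ hφ (SeparableClosure k)
    (subsingleton_primeSpectrum_tensor hsc (SeparableClosure k))
  haveI : ConnectedSpace ↥(FBase.bc f (SeparableClosure k)) := by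
    obtain ⟨y₀, hy₀⟩ := (FBase.bcπ f (SeparableClosure k)).surjective x
    refine connectedSpace_iff_connectedComponent.mpr ⟨y₀, ?_⟩
    rw [Set.eq_univ_iff_forall]
    intro y
    obtain ⟨z, hz, hzx⟩ := exists_mem_connectedComponent_of_isAlgebraic f (SeparableClosure k) y x
    have hzy : z = y₀ := hsub hzx hy₀
    rw [hzy] at hz
    rw [← connectedComponent_eq hz]
    exact mem_connectedComponent
  exact geometricallyConnected_of_sepClosure f

theorem geomConn_of_section {k : Type u} [Field k] {X : Scheme.{u}} [ConnectedSpace X]
    (f : X ⟶ Spec (CommRingCat.of k)) (e : Spec (CommRingCat.of k) ⟶ X)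
    (he : e ≫ f = 𝟙 _) : GeometricallyConnected f := by
  obtain ⟨⟨x, ψ⟩, rfl⟩ := (Scheme.SpecToEquivOfField k X).symm.surjective e
  change (Spec.map ψ ≫ X.fromSpecResidueField x) ≫ f = 𝟙 _ at he
  obtain ⟨φ', hφ'⟩ : ∃ φ' : CommRingCat.of k ⟶ X.residueField x,
      Spec.map φ' = X.fromSpecResidueField x ≫ f := ⟨Spec.preimage _, Spec.map_preimage _⟩
  have h1 : φ' ≫ ψ = 𝟙 _ := by
    apply Spec.map_inj.mp
    rw [Spec.map_comp, hφ', Spec.map_id, ← Category.assoc]
    exact he
  refine geomConn_of_sepClosedIn f x φ'.hom ?_ ?_
  · rw [CommRingCat.ofHom_hom]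
    exact hφ'
  · intro a _
    refine ⟨ψ.hom a, ?_⟩
    show φ'.hom (ψ.hom a) = a
    apply ψ.hom.injective
    exact congrArg (fun g : CommRingCat.of k ⟶ CommRingCat.of k => g.hom (ψ.hom a)) h1

theorem geomConn_of_isPullback_of_surjective {A A' E Y : Scheme.{u}} {a : A' ⟶ A} {f' : A' ⟶ E}
    {f : A ⟶ Y} {q : E ⟶ Y} (sq : IsPullback a f' f q) [Surjective q]
    [GeometricallyConnected f'] : GeometricallyConnected f := by
  refine ⟨fun K _ y Z fst snd h => ?_⟩
  obtain ⟨pt⟩ : Nonempty (Spec (CommRingCat.of K)) := inferInstance
  obtain ⟨e0, he0⟩ := q.surjective (y pt)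
  obtain ⟨z, -, -⟩ := Scheme.Pullback.exists_preimage_pullback (f := q) (g := y) e0 pt he0
  obtain ⟨y', hy'⟩ : ∃ y' : Spec (CommRingCat.of ((pullback q y).residueField z)) ⟶ E,
      y' = (pullback q y).fromSpecResidueField z ≫ pullback.fst q y := ⟨_, rfl⟩
  obtain ⟨r, hr⟩ : ∃ r : Spec (CommRingCat.of ((pullback q y).residueField z)) ⟶
      Spec (CommRingCat.of K),
      r = (pullback q y).fromSpecResidueField z ≫ pullback.snd q y := ⟨_, rfl⟩
  have hyr : y' ≫ q = r ≫ y := by
    rw [hy', hr, Category.assoc, Category.assoc, pullback.condition]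
  haveI : Subsingleton (Spec (CommRingCat.of K)) := inferInstance
  haveI : Surjective r := ⟨Function.surjective_to_subsingleton _⟩
  have big : IsPullback (pullback.fst snd r ≫ fst) (pullback.snd snd r) f (r ≫ y) :=
    (IsPullback.of_hasPullback snd r).paste_horiz h
  have hl : (pullback.fst snd r ≫ fst) ≫ f = (pullback.snd snd r ≫ y') ≫ q := by
    rw [Category.assoc, h.w, ← Category.assoc, pullback.condition, Category.assoc, Category.assoc,
      hyr]
  have big' : IsPullback (sq.lift _ _ hl ≫ a) (pullback.snd snd r) f (y' ≫ q) := by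
    rw [sq.lift_fst, hyr]
    exact big
  have key : IsPullback (sq.lift _ _ hl) (pullback.snd snd r) f' y' :=
    IsPullback.of_right big' (sq.lift_snd _ _ hl) sq
  haveI : ConnectedSpace ↥(pullback snd r) :=
    (GeometricallyConnected.geometrically_connectedSpace (f := f')) y' _ _ key
  exact (pullback.fst snd r).surjective.connectedSpace (pullback.fst snd r).continuous

end GeomConn

section Main

open CategoryTheory CategoryTheory.Limits AlgebraicGeometry MonoidalCategory
  CartesianMonoidalCategory MonObj GrpObj
open Groth.Agent.Lib.Helper29 Groth.Agent.Lib.Helper29.AssocBundle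
  Groth.Agent.Lib.Helper29.SGA3Quot

theorem main7982 (k : Type u) [Field k]
    (N G Q : Over (Spec (CommRingCat.of k))) [GrpObj N] [GrpObj G] [GrpObj Q]
    [LocallyOfFiniteType N.hom] [QuasiCompact N.hom] [LocallyOfFiniteType G.hom] [QuasiCompact G.hom]
    [LocallyOfFiniteType Q.hom] [QuasiCompact Q.hom]
    (i : N ⟶ G) (q : G ⟶ Q) [IsMonHom i] [IsMonHom q] [Flat q.left] [Surjective q.left]
    (hker : AlgGrp.IsKernel i q) :
    (IsAffine N.left → IsAffine Q.left → IsAffine G.left) ∧
    (Smooth N.hom → Smooth Q.hom → Smooth G.hom) ∧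
    (ConnectedSpace N.left → ConnectedSpace Q.left → ConnectedSpace G.left) := by
  have sq0 := QuotGeom.isPullback_of_isKernel q i hker
  have sq : IsPullback ((G ◁ i) ≫ μ[G]).left (fst G N).left q.left q.left :=
    sq0.flip.map (Over.forget _)
  haveI : IsLocallyNoetherian (Spec (CommRingCat.of k)) := inferInstance
  haveI hQn : IsLocallyNoetherian Q.left := LocallyOfFiniteType.isLocallyNoetherian Q.hom
  have hw : q.left ≫ Q.hom = G.hom := Over.w q
  haveI : LocallyOfFiniteType (q.left ≫ Q.hom) := by rw [hw]; infer_instance
  haveI hqlft : LocallyOfFiniteType q.left := locallyOfFiniteType_of_comp q.left Q.hom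
  haveI hqlfp : LocallyOfFinitePresentation q.left := inferInstance
  refine ⟨fun hN hQ => ?_, fun hN hQ => ?_, fun hN hQ => ?_⟩
  · haveI := hN
    haveI := hQ
    haveI : IsAffineHom N.hom := inferInstance
    have hfst : IsAffineHom (fst G N).left := by
      show IsAffineHom (pullback.fst G.hom N.hom)
      exact MorphismProperty.pullback_fst (P := @IsAffineHom) G.hom N.hom inferInstance
    haveI : MorphismProperty.DescendsAlong @IsAffineHom
        (@Surjective ⊓ @Flat ⊓ @QuasiCompact : MorphismProperty Scheme.{u}) :=
      Groth.Agent.S0082.result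
    have hq : IsAffineHom q.left :=
      (ocovFppf q inferInstance inferInstance hqlfp).prop_of_base_change @IsAffineHom q.left _ _
        sq hfst
    haveI := hq
    haveI : IsAffineHom Q.hom := inferInstance
    haveI : IsAffineHom G.hom := by rw [← hw]; infer_instance
    exact isAffine_of_isAffineHom G.hom
  · haveI := hN
    haveI := hQ
    have hfst : Smooth (fst G N).left := by
      show Smooth (pullback.fst G.hom N.hom)
      infer_instance
    have hq : Smooth q.left :=
      (ocovFppf q inferInstance inferInstance hqlfp).prop_of_base_change @Smooth q.left _ _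
        sq hfst
    haveI := hq
    rw [← hw]
    infer_instance
  · haveI := hN
    haveI := hQ
    haveI hNg : GeometricallyConnected N.hom :=
      geomConn_of_section N.hom η[N].left (Over.w η[N])
    haveI hfst : GeometricallyConnected (fst G N).left := by
      show GeometricallyConnected (pullback.fst G.hom N.hom)
      infer_instance
    haveI : GeometricallyConnected q.left := geomConn_of_isPullback_of_surjective sq
    haveI : UniversallyOpen q.left := inferInstance
    exact GeometricallyConnected.connectedSpace q.left q.left.isOpenMap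

theorem main11424 (k : Type u) [Field k] [IsAlgClosed k]
    (G H Q : Over (Spec (CommRingCat.of k))) [GrpObj G] [Smooth G.hom] [QuasiCompact G.hom]
    [GrpObj H] (h : H ⟶ G) [IsMonHom h] [IsClosedImmersion h.left] [Smooth H.hom] [IsAffine H.left]
    [GrpObj Q] [LocallyOfFiniteType Q.hom] [QuasiCompact Q.hom]
    (q : G ⟶ Q) [IsMonHom q] [Surjective q.left] [Flat q.left] (hk : AlgGrp.IsKernel h q) :
    IsAffineHom q.left := by
  have sq0 := QuotGeom.isPullback_of_isKernel q h hk
  have sq : IsPullback ((G ◁ h) ≫ μ[G]).left (fst G H).left q.left q.left :=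
    sq0.flip.map (Over.forget _)
  haveI : IsLocallyNoetherian (Spec (CommRingCat.of k)) := inferInstance
  haveI hQn : IsLocallyNoetherian Q.left := LocallyOfFiniteType.isLocallyNoetherian Q.hom
  have hw : q.left ≫ Q.hom = G.hom := Over.w q
  haveI : LocallyOfFiniteType G.hom := inferInstance
  haveI : LocallyOfFiniteType (q.left ≫ Q.hom) := by rw [hw]; infer_instance
  haveI hqlft : LocallyOfFiniteType q.left := locallyOfFiniteType_of_comp q.left Q.hom
  haveI hqlfp : LocallyOfFinitePresentation q.left := inferInstance
  haveI : IsAffineHom H.hom := inferInstance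
  have hfst : IsAffineHom (fst G H).left := by
    show IsAffineHom (pullback.fst G.hom H.hom)
    exact MorphismProperty.pullback_fst (P := @IsAffineHom) G.hom H.hom inferInstance
  haveI : MorphismProperty.DescendsAlong @IsAffineHom
      (@Surjective ⊓ @Flat ⊓ @QuasiCompact : MorphismProperty Scheme.{u}) :=
    Groth.Agent.S0082.result
  exact (ocovFppf q inferInstance inferInstance hqlfp).prop_of_base_change @IsAffineHom q.left _ _
    sq hfst

/-- for a flat surjective homomorphism `q` of algebraic groups over a field with kernel `N`,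
a property of `N → Spec k` that is stable under base change and descends along fpqc coverings
holds for `q`. -/
theorem prop_of_kernel {k : Type u} [Field k] (P : MorphismProperty Scheme.{u})
    [P.IsStableUnderBaseChange] [IsZariskiLocalAtTarget P]
    [P.DescendsAlong (@Surjective ⊓ @Flat ⊓ @QuasiCompact : MorphismProperty Scheme.{u})]
    {N G Q : Over (Spec (CommRingCat.of k))} [GrpObj G] [GrpObj Q]
    [LocallyOfFiniteType G.hom] [LocallyOfFiniteType Q.hom]
    (i : N ⟶ G) (q : G ⟶ Q) [IsMonHom q] [Flat q.left] [Surjective q.left]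
    (hker : AlgGrp.IsKernel i q) (hP : P N.hom) : P q.left := by
  have sq0 := QuotGeom.isPullback_of_isKernel q i hker
  have sq : IsPullback ((G ◁ i) ≫ μ[G]).left (fst G N).left q.left q.left :=
    sq0.flip.map (Over.forget _)
  haveI : IsLocallyNoetherian (Spec (CommRingCat.of k)) := inferInstance
  haveI hQn : IsLocallyNoetherian Q.left := LocallyOfFiniteType.isLocallyNoetherian Q.hom
  have hw : q.left ≫ Q.hom = G.hom := Over.w q
  haveI : LocallyOfFiniteType (q.left ≫ Q.hom) := by rw [hw]; infer_instance
  haveI hqlft : LocallyOfFiniteType q.left := locallyOfFiniteType_of_comp q.left Q.hom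
  haveI hqlfp : LocallyOfFinitePresentation q.left := inferInstance
  have hfst : P (fst G N).left := by
    show P (pullback.fst G.hom N.hom)
    exact MorphismProperty.pullback_fst (P := P) G.hom N.hom hP
  exact (ocovFppf q inferInstance inferInstance hqlfp).prop_of_base_change P q.left _ _ sq hfst

end Main

end Groth.Agent.Lib.Helper29.ExtGrp
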