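import Mathlib

/-!
# Helper29: an abstract descent lemma along a "base change" endofunctor (for S9074)
-/

set_option autoImplicit false
set_option maxHeartbeats 1600000
universe u
open CategoryTheory CategoryTheory.Limits Opposite

namespace Groth.Agent.Lib.Helper29.WS9074A

variable {D : Type u} [SmallCategory D]

/-- restriction of sections -/
abbrev rs (G : Dᵒᵖ ⥤ AddCommGrpCat.{u}) {A B : D} (k : A ⟶ B) :
    G.obj (op B) →+ G.obj (op A) := (G.map k.op).hom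

lemma rs_comp (G : Dᵒᵖ ⥤ AddCommGrpCat.{u}) {A B E : D} (k : A ⟶ B) (l : B ⟶ E)
    (x : G.obj (op E)) : rs G (k ≫ l) x = rs G k (rs G l x) := by
  change (G.map (k ≫ l).op).hom x = _
  rw [op_comp, G.map_comp]
  rfl

lemma rs_id (G : Dᵒᵖ ⥤ AddCommGrpCat.{u}) (A : D) (x : G.obj (op A)) : rs G (𝟙 A) x = x := by
  change (G.map (𝟙 A).op).hom x = _
  rw [op_id, G.map_id]
  rfl

lemma rs_nat {G H : Dᵒᵖ ⥤ AddCommGrpCat.{u}} (φ : G ⟶ H) {A B : D} (k : A ⟶ B)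
    (x : G.obj (op B)) :
    (φ.app (op A)).hom (rs G k x) = rs H k ((φ.app (op B)).hom x) :=
  ConcreteCategory.congr_hom (φ.naturality k.op) x

variable (K : GrothendieckTopology D) (Ψ : D ⥤ D) (c : Ψ ⟶ 𝟭 D)

/-- the component of `c` with its codomain simplified -/
abbrev cc (T : D) : Ψ.obj T ⟶ T := c.app T

lemma cc_nat {T T' : D} (k : T' ⟶ T) : Ψ.map k ≫ cc Ψ c T = cc Ψ c T' ≫ k := c.naturality k

/-- `Ψ T → T` is a covering with "kernel pair" `Ψ Ψ T ⇉ Ψ T`. -/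
structure DescData : Prop where
  cover : ∀ T : D, Sieve.ofArrows (fun _ : PUnit.{u + 1} => Ψ.obj T) (fun _ => cc Ψ c T) ∈ K T
  pair : ∀ (T R : D) (h1 h2 : R ⟶ Ψ.obj T), h1 ≫ cc Ψ c T = h2 ≫ cc Ψ c T →
    ∃ m : R ⟶ Ψ.obj (Ψ.obj T), m ≫ Ψ.map (cc Ψ c T) = h1 ∧ m ≫ cc Ψ c (Ψ.obj T) = h2

variable {K Ψ c}

lemma descent_inj (hd : DescData K Ψ c) (G : Dᵒᵖ ⥤ AddCommGrpCat.{u}) (hG : Presheaf.IsSheaf K G)
    (T : D) (y y' : G.obj (op T)) (hy : rs G (cc Ψ c T) y = rs G (cc Ψ c T) y') : y = y' := by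
  have hP' := (Presheaf.isSheaf_iff_isSheaf_forget K G (forget AddCommGrpCat.{u})).1 hG
  have hsep := (Presieve.IsSheaf.isSeparated ((isSheaf_iff_isSheaf_of_type K _).1 hP')) _
    (hd.cover T)
  refine hsep.ext (t₁ := y) (t₂ := y') ?_
  intro R g hg
  obtain ⟨_, a, rfl⟩ := (Sieve.mem_ofArrows_iff _ _ _).1 hg
  change rs G (a ≫ cc Ψ c T) y = rs G (a ≫ cc Ψ c T) y'
  rw [rs_comp, rs_comp, hy]

lemma descent (hd : DescData K Ψ c) (G : Dᵒᵖ ⥤ AddCommGrpCat.{u}) (hG : Presheaf.IsSheaf K G)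
    (T : D) (x : G.obj (op (Ψ.obj T)))
    (hx : rs G (Ψ.map (cc Ψ c T)) x = rs G (cc Ψ c (Ψ.obj T)) x) :
    ∃ y : G.obj (op T), rs G (cc Ψ c T) y = x := by
  have hP' := (Presheaf.isSheaf_iff_isSheaf_forget K G (forget AddCommGrpCat.{u})).1 hG
  have hsh := (isSheaf_iff_isSheaf_of_type K _).1 hP'
  have hsf := hsh _ (hd.cover T)
  have key : ∀ (R : D) (h1 h2 : R ⟶ Ψ.obj T), h1 ≫ cc Ψ c T = h2 ≫ cc Ψ c T →
      rs G h1 x = rs G h2 x := by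
    intro R h1 h2 h12
    obtain ⟨m, hm1, hm2⟩ := hd.pair T R h1 h2 h12
    rw [← hm1, ← hm2, rs_comp, rs_comp, hx]
  have ex : ∀ {R : D} (g : R ⟶ T),
      (Sieve.ofArrows (fun _ : PUnit.{u + 1} => Ψ.obj T) (fun _ => cc Ψ c T)).arrows g →
      ∃ a : R ⟶ Ψ.obj T, g = a ≫ cc Ψ c T := by
    intro R g hg
    obtain ⟨_, a, ha⟩ := (Sieve.mem_ofArrows_iff _ _ _).1 hg
    exact ⟨a, ha⟩
  let fam : Presieve.FamilyOfElements (G ⋙ forget AddCommGrpCat.{u})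
      (Sieve.ofArrows (fun _ : PUnit.{u + 1} => Ψ.obj T) (fun _ => cc Ψ c T)).arrows :=
    fun R g hg => rs G (ex g hg).choose x
  have hc : fam.Compatible := by
    intro Y₁ Y₂ Z g₁ g₂ f₁ f₂ h₁ h₂ comm
    change rs G g₁ (rs G (ex f₁ h₁).choose x) = rs G g₂ (rs G (ex f₂ h₂).choose x)
    rw [← rs_comp, ← rs_comp]
    apply key
    rw [Category.assoc, Category.assoc, ← (ex f₁ h₁).choose_spec, ← (ex f₂ h₂).choose_spec]
    exact comm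
  have hmem : (Sieve.ofArrows (fun _ : PUnit.{u + 1} => Ψ.obj T) (fun _ => cc Ψ c T)).arrows
      (cc Ψ c T) :=
    (Sieve.mem_ofArrows_iff _ _ _).2 ⟨PUnit.unit, 𝟙 _, (Category.id_comp _).symm⟩
  refine ⟨hsf.amalgamate fam hc, ?_⟩
  have h1 := hsf.valid_glue hc (cc Ψ c T) hmem
  refine (Eq.trans ?_ h1).trans ?_
  · rfl
  · change rs G (ex (cc Ψ c T) hmem).choose x = x
    have h2 := key _ (ex (cc Ψ c T) hmem).choose (𝟙 _)
      ((ex (cc Ψ c T) hmem).choose_spec.symm.trans (Category.id_comp _).symm)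
    rw [h2, rs_id]

/-- **Descent of liftability**: in a left exact sequence `F1 → F2 → F3` of sheaves for the
finer topology `K`, a section `s` of `F3` over `z` whose restriction to `Ψ z` lifts to `F2` lifts
locally for `K'`, provided the cokernel `Q` of `F1 → F1 ∘ Ψ` for `K'` is still a `K`-sheaf. -/
theorem lift_on_cover (hd : DescData K Ψ c) (K' : GrothendieckTopology D)
    {F1 F2 F3 Q : Dᵒᵖ ⥤ AddCommGrpCat.{u}}
    (sh2 : Presheaf.IsSheaf K F2) (sh3 : Presheaf.IsSheaf K F3) (shQ : Presheaf.IsSheaf K Q)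
    (i : F1 ⟶ F2) (p : F2 ⟶ F3)
    (E1 : ∀ (T : D) (a : F1.obj (op T)), (p.app (op T)).hom ((i.app (op T)).hom a) = 0)
    (E2 : ∀ (T : D), Function.Injective (i.app (op T)).hom)
    (E3 : ∀ (T : D) (b : F2.obj (op T)), (p.app (op T)).hom b = 0 →
      ∃ a, (i.app (op T)).hom a = b)
    (π : Ψ.op ⋙ F1 ⟶ Q)
    (SE1 : ∀ (T : D) (a : F1.obj (op T)), (π.app (op T)).hom (rs F1 (cc Ψ c T) a) = 0)
    (SE2 : ∀ (T : D) (g : F1.obj (op (Ψ.obj T))), (π.app (op T)).hom g = 0 →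
      ∃ a, rs F1 (cc Ψ c T) a = g)
    (LS : ∀ (T : D) (q : Q.obj (op T)), ∃ R ∈ K' T, ∀ ⦃T' : D⦄ (r : T' ⟶ T), R r →
      ∃ g : F1.obj (op (Ψ.obj T')), (π.app (op T')).hom g = rs Q r q)
    (z : D) (s : F3.obj (op z)) (t : F2.obj (op (Ψ.obj z)))
    (ht : (p.app (op (Ψ.obj z))).hom t = rs F3 (cc Ψ c z) s) :
    ∃ R ∈ K' z, ∀ ⦃z' : D⦄ (r : z' ⟶ z), R r →
      ∃ a : F2.obj (op z'), (p.app (op z')).hom a = rs F3 r s := by
  have πnat : ∀ {A B : D} (k : A ⟶ B) (x : F1.obj (op (Ψ.obj B))),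
      (π.app (op A)).hom (rs F1 (Ψ.map k) x) = rs Q k ((π.app (op B)).hom x) :=
    fun k x => rs_nat π k x
  have inat : ∀ {A B : D} (k : A ⟶ B) (x : F1.obj (op B)),
      (i.app (op A)).hom (rs F1 k x) = rs F2 k ((i.app (op B)).hom x) := fun k x => rs_nat i k x
  have pnat : ∀ {A B : D} (k : A ⟶ B) (x : F2.obj (op B)),
      (p.app (op A)).hom (rs F2 k x) = rs F3 k ((p.app (op B)).hom x) := fun k x => rs_nat p k x
  have pt : ∀ {A : D} (k : A ⟶ Ψ.obj z),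
      (p.app (op A)).hom (rs F2 k t) = rs F3 (k ≫ cc Ψ c z) s := by
    intro A k
    rw [pnat, ht, ← rs_comp]
  -- Step 1: the Čech cocycle `γ`
  have hγ0 : (p.app (op (Ψ.obj (Ψ.obj z)))).hom
      (rs F2 (Ψ.map (cc Ψ c z)) t - rs F2 (cc Ψ c (Ψ.obj z)) t) = 0 := by
    rw [map_sub, pt, pt, cc_nat, sub_self]
  obtain ⟨γ, hγ⟩ := E3 _ _ hγ0
  have iγ : ∀ {A : D} (k : A ⟶ Ψ.obj (Ψ.obj z)), (i.app (op A)).hom (rs F1 k γ) =
      rs F2 (k ≫ Ψ.map (cc Ψ c z)) t - rs F2 (k ≫ cc Ψ c (Ψ.obj z)) t := by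
    intro A k
    rw [inat, hγ, map_sub, ← rs_comp, ← rs_comp]
  -- Step 2: its class in `Q` satisfies the descent condition
  have m1 : Ψ.map (Ψ.map (cc Ψ c z)) ≫ Ψ.map (cc Ψ c z) =
      Ψ.map (cc Ψ c (Ψ.obj z)) ≫ Ψ.map (cc Ψ c z) := by
    rw [← Ψ.map_comp, ← Ψ.map_comp, cc_nat]
  have m2 : Ψ.map (Ψ.map (cc Ψ c z)) ≫ cc Ψ c (Ψ.obj z) =
      cc Ψ c (Ψ.obj (Ψ.obj z)) ≫ Ψ.map (cc Ψ c z) := cc_nat Ψ c _
  have m3 : Ψ.map (cc Ψ c (Ψ.obj z)) ≫ cc Ψ c (Ψ.obj z) =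
      cc Ψ c (Ψ.obj (Ψ.obj z)) ≫ cc Ψ c (Ψ.obj z) := cc_nat Ψ c _
  have e : rs F1 (Ψ.map (Ψ.map (cc Ψ c z))) γ =
      rs F1 (Ψ.map (cc Ψ c (Ψ.obj z))) γ - rs F1 (cc Ψ c (Ψ.obj (Ψ.obj z))) γ := by
    apply E2
    rw [map_sub, iγ, iγ, iγ, m1, m2, m3]
    abel
  have hx : rs Q (Ψ.map (cc Ψ c z)) ((π.app (op (Ψ.obj z))).hom γ) =
      rs Q (cc Ψ c (Ψ.obj z)) ((π.app (op (Ψ.obj z))).hom γ) := by
    refine (πnat _ _).symm.trans (Eq.trans ?_ (πnat _ _))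
    rw [e, map_sub, SE1, sub_zero]
  -- Step 3: descend to a section `q` of `Q` over `z`
  obtain ⟨q, hq⟩ := descent hd Q shQ z _ hx
  -- Step 4: lift `q` locally for `K'`
  obtain ⟨R, hR, hRl⟩ := LS z q
  refine ⟨R, hR, fun z' r hr => ?_⟩
  obtain ⟨g, hg⟩ := hRl r hr
  have h1 : (π.app (op (Ψ.obj z'))).hom
      (rs F1 (Ψ.map (cc Ψ c z')) g - rs F1 (Ψ.map (Ψ.map r)) γ) = 0 := by
    rw [map_sub, πnat, πnat, hg, ← hq, ← rs_comp, ← rs_comp, cc_nat, sub_self]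
  obtain ⟨b, hb⟩ := SE2 _ _ h1
  have m4 : Ψ.map (Ψ.map r) ≫ Ψ.map (cc Ψ c z) = Ψ.map (cc Ψ c z') ≫ Ψ.map r := by
    rw [← Ψ.map_comp, ← Ψ.map_comp, cc_nat]
  have m5 : Ψ.map (Ψ.map r) ≫ cc Ψ c (Ψ.obj z) = cc Ψ c (Ψ.obj z') ≫ Ψ.map r := cc_nat Ψ c _
  have hb' : rs F2 (cc Ψ c (Ψ.obj z')) ((i.app (op (Ψ.obj z'))).hom b) =
      rs F2 (Ψ.map (cc Ψ c z')) ((i.app (op (Ψ.obj z'))).hom g) -
        (rs F2 (Ψ.map (cc Ψ c z') ≫ Ψ.map r) t - rs F2 (cc Ψ c (Ψ.obj z') ≫ Ψ.map r) t) := by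
    rw [← inat, hb, map_sub, inat, iγ, m4, m5]
  have h2 : rs F2 (Ψ.map (cc Ψ c z')) (rs F2 (Ψ.map r) t - (i.app (op (Ψ.obj z'))).hom g) =
      rs F2 (cc Ψ c (Ψ.obj z')) (rs F2 (Ψ.map r) t - (i.app (op (Ψ.obj z'))).hom b) := by
    rw [map_sub, map_sub, hb', ← rs_comp, ← rs_comp]
    abel
  obtain ⟨m, hm1, hm2⟩ := hd.pair z' (Ψ.obj z') (𝟙 _) (𝟙 _) rfl
  have h3 : rs F2 (Ψ.map r) t - (i.app (op (Ψ.obj z'))).hom g =
      rs F2 (Ψ.map r) t - (i.app (op (Ψ.obj z'))).hom b := by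
    have h := congrArg (fun w => rs F2 m w) h2
    beta_reduce at h
    rw [← rs_comp, ← rs_comp, hm1, hm2, rs_id, rs_id] at h
    exact h
  have h4 : rs F2 (Ψ.map (cc Ψ c z')) (rs F2 (Ψ.map r) t - (i.app (op (Ψ.obj z'))).hom g) =
      rs F2 (cc Ψ c (Ψ.obj z')) (rs F2 (Ψ.map r) t - (i.app (op (Ψ.obj z'))).hom g) := by
    rw [h2, ← h3]
  obtain ⟨a, ha⟩ := descent hd F2 sh2 z' _ h4
  refine ⟨a, ?_⟩
  apply descent_inj hd F3 sh3 z'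
  rw [← pnat, ha, map_sub, pt, E1, sub_zero, ← rs_comp, cc_nat]

end Groth.Agent.Lib.Helper29.WS9074A
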