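import Mathlib
import Groth.Prelude.Def_CohSite
import Groth.Prelude.Def_FreeSh
import Groth.Prelude.Def_CechEdge
import Groth.Agent.Lib.Helper29.WS9074A

/-!
# Helper29: sections, `H^0`, `H^1` and short exact sequences of abelian sheaves (for S9074)
-/

set_option autoImplicit false
set_option maxHeartbeats 1600000
universe u
open CategoryTheory CategoryTheory.Limits Opposite CategoryTheory.Abelian

noncomputable section

namespace Groth.Agent.Lib.Helper29.WS9074B

open Groth.Agent.Lib.Helper29.WS9074A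

variable {D : Type u} [SmallCategory D] {K : GrothendieckTopology D}

lemma evalGen_comp {U : D} {M N : Sheaf K AddCommGrpCat.{u}} (h : CohCx.freeSheaf K U ⟶ M)
    (f : M ⟶ N) :
    CohFree.evalGen K U N (h ≫ f) = (f.hom.app (op U)).hom (CohFree.evalGen K U M h) := rfl

lemma ofSect_comp {M N : Sheaf K AddCommGrpCat.{u}} (f : M ⟶ N) (U : D)
    (s : M.obj.obj (op U)) :
    CohFree.ofSect K U M s ≫ f = CohFree.ofSect K U N ((f.hom.app (op U)).hom s) := by
  apply (CohFree.homEquivSect K U N).injective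
  rw [CohFree.homEquivSect_apply, CohFree.homEquivSect_apply, evalGen_comp,
    CohFree.evalGen_ofSect, CohFree.evalGen_ofSect]

lemma ofSect_zero (M : Sheaf K AddCommGrpCat.{u}) (U : D) : CohFree.ofSect K U M 0 = 0 :=
  (CohFree.homEquivSect K U M).symm.map_zero

lemma freeSheafMap_ofSect (F : Sheaf K AddCommGrpCat.{u}) {U V : D} (g : V ⟶ U)
    (s : F.obj.obj (op U)) :
    CohCx.freeSheafMap K g ≫ CohFree.ofSect K U F s =
      CohFree.ofSect K V F ((F.obj.map g.op).hom s) := by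
  apply (CohFree.homEquivSect K V F).injective
  rw [CohFree.homEquivSect_apply, CohFree.homEquivSect_apply,
    CohFree.evalGen_freeSheafMap_comp, CohFree.evalGen_ofSect, CohFree.evalGen_ofSect]

lemma app_injective_of_mono {M N : Sheaf K AddCommGrpCat.{u}} (f : M ⟶ N) [Mono f] (U : D) :
    Function.Injective (f.hom.app (op U)).hom := by
  rw [injective_iff_map_eq_zero]
  intro a ha
  have h1 : CohFree.ofSect K U M a ≫ f = 0 ≫ f := by
    rw [ofSect_comp, ha, ofSect_zero, zero_comp]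
  have h2 := (cancel_mono f).1 h1
  have h3 := congrArg (CohFree.evalGen K U M) h2
  rw [CohFree.evalGen_ofSect, map_zero] at h3
  exact h3

lemma sec_zero (S : ShortComplex (Sheaf K AddCommGrpCat.{u})) (U : D)
    (a : S.X₁.obj.obj (op U)) :
    (S.g.hom.app (op U)).hom ((S.f.hom.app (op U)).hom a) = 0 := by
  have h := congrArg (fun φ => CohFree.evalGen K U S.X₃ (CohFree.ofSect K U S.X₁ a ≫ φ)) S.zero
  beta_reduce at h
  rw [comp_zero, map_zero, ← Category.assoc, evalGen_comp, evalGen_comp,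
    CohFree.evalGen_ofSect] at h
  exact h

lemma sec_exact (S : ShortComplex (Sheaf K AddCommGrpCat.{u})) (hS : S.Exact) [Mono S.f] (U : D)
    (b : S.X₂.obj.obj (op U)) (hb : (S.g.hom.app (op U)).hom b = 0) :
    ∃ a, (S.f.hom.app (op U)).hom a = b := by
  have h0 : CohFree.ofSect K U S.X₂ b ≫ S.g = 0 := by rw [ofSect_comp, hb, ofSect_zero]
  refine ⟨CohFree.evalGen K U S.X₁ (hS.lift _ h0), ?_⟩
  rw [← evalGen_comp, hS.lift_f, CohFree.evalGen_ofSect]

lemma mono_of_app_injective {M N : Sheaf K AddCommGrpCat.{u}} (f : M ⟶ N)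
    (hf : ∀ U : D, Function.Injective (f.hom.app (op U)).hom) : Mono f := by
  haveI : ∀ X, Mono (f.hom.app X) := fun X => (AddCommGrpCat.mono_iff_injective _).2 (hf X.unop)
  haveI : Mono f.hom := NatTrans.mono_of_mono_app f.hom
  exact (sheafToPresheaf K AddCommGrpCat.{u}).mono_of_mono_map
    (show Mono ((sheafToPresheaf K AddCommGrpCat.{u}).map f) from this)

lemma imageSieve_mem_of_epi {M N : Sheaf K AddCommGrpCat.{u}} (f : M ⟶ N) [Epi f] (U : D)
    (x : N.obj.obj (op U)) : Presheaf.imageSieve f.hom x ∈ K U := by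
  have h1 := (Sheaf.isLocallySurjective_iff_epi' AddCommGrpCat.{u} f).2 inferInstance
  have hloc : Presheaf.IsLocallySurjective K f.hom := h1
  exact hloc.imageSieve_mem _

lemma epi_of_imageSieve_mem {M N : Sheaf K AddCommGrpCat.{u}} (f : M ⟶ N)
    (hf : ∀ (U : D) (x : N.obj.obj (op U)), Presheaf.imageSieve f.hom x ∈ K U) : Epi f :=
  (Sheaf.isLocallySurjective_iff_epi' AddCommGrpCat.{u} f).1 ⟨fun {U} x => hf U x⟩

/-- a section which locally lies in a subsheaf lies in it. -/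
lemma exists_of_locally {I G : Sheaf K AddCommGrpCat.{u}} (m : I ⟶ G) [Mono m] (U : D)
    (x : G.obj.obj (op U)) (R : Sieve U) (hR : R ∈ K U)
    (hloc : ∀ ⦃V : D⦄ (g : V ⟶ U), R g →
      ∃ y : I.obj.obj (op V), (m.hom.app (op V)).hom y = rs G.obj g x) :
    ∃ σ : I.obj.obj (op U), (m.hom.app (op U)).hom σ = x := by
  have minj := app_injective_of_mono m
  have hI' := (Presheaf.isSheaf_iff_isSheaf_forget K I.obj (forget AddCommGrpCat.{u})).1 I.property
  have hIs := (isSheaf_iff_isSheaf_of_type K _).1 hI'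
  have hG' := (Presheaf.isSheaf_iff_isSheaf_forget K G.obj (forget AddCommGrpCat.{u})).1 G.property
  have hGs := (isSheaf_iff_isSheaf_of_type K _).1 hG'
  let fam : Presieve.FamilyOfElements (I.obj ⋙ forget AddCommGrpCat.{u}) R.arrows :=
    fun V g hg => (hloc g hg).choose
  have hfam : ∀ {V : D} (g : V ⟶ U) (hg : R g),
      (m.hom.app (op V)).hom (fam g hg) = rs G.obj g x :=
    fun g hg => (hloc g hg).choose_spec
  have hc : fam.Compatible := by
    intro Y₁ Y₂ Z g₁ g₂ f₁ f₂ h₁ h₂ comm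
    apply minj Z
    change (m.hom.app (op Z)).hom (rs I.obj g₁ (fam f₁ h₁)) =
      (m.hom.app (op Z)).hom (rs I.obj g₂ (fam f₂ h₂))
    rw [rs_nat m.hom, rs_nat m.hom, hfam f₁ h₁, hfam f₂ h₂, ← rs_comp, ← rs_comp, comm]
  have hσ : ∀ {V : D} (g : V ⟶ U) (hg : R g),
      rs I.obj g ((hIs R hR).amalgamate fam hc) = fam g hg :=
    fun g hg => (hIs R hR).valid_glue hc g hg
  refine ⟨(hIs R hR).amalgamate fam hc, ?_⟩
  refine ((Presieve.IsSheaf.isSeparated hGs) R hR).ext ?_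
  intro V g hg
  change rs G.obj g ((m.hom.app (op U)).hom ((hIs R hR).amalgamate fam hc)) = rs G.obj g x
  rw [← rs_nat m.hom, hσ g hg, hfam g hg]

/-! ### `H^0` and the connecting map -/

lemma sectH0_eq (U : D) (F : Sheaf K AddCommGrpCat.{u}) (s : F.obj.obj (op U)) :
    CechEdge.sectH0 K U F s = Ext.mk₀ (CohFree.ofSect K U F s) := rfl

/-- the class in `H^1(U, S.X₁)` of a section of `S.X₃` over `U`. -/
def theta {S : ShortComplex (Sheaf K AddCommGrpCat.{u})} (hS : S.ShortExact) (U : D)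
    (σ : S.X₃.obj.obj (op U)) : CohSite.HU S.X₁ (0 + 1) U :=
  (Ext.mk₀ (CohFree.ofSect K U S.X₃ σ)).comp hS.extClass (rfl : 0 + 1 = 0 + 1)

lemma res_theta {S : ShortComplex (Sheaf K AddCommGrpCat.{u})} (hS : S.ShortExact) {U V : D}
    (g : V ⟶ U) (σ : S.X₃.obj.obj (op U)) :
    CohSite.res S.X₁ (0 + 1) g (theta hS U σ) = theta hS V ((S.X₃.obj.map g.op).hom σ) := by
  change (Ext.mk₀ (CohCx.freeSheafMap K g)).comp
    ((Ext.mk₀ (CohFree.ofSect K U S.X₃ σ)).comp hS.extClass (rfl : 0 + 1 = 0 + 1))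
      (zero_add (0 + 1)) =
    (Ext.mk₀ (CohFree.ofSect K V S.X₃ ((S.X₃.obj.map g.op).hom σ))).comp hS.extClass
      (rfl : 0 + 1 = 0 + 1)
  refine (Ext.comp_assoc _ _ _ (zero_add 0) rfl (by simp)).symm.trans ?_
  rw [Ext.mk₀_comp_mk₀, freeSheafMap_ofSect]

lemma exists_lift_of_theta_eq_zero {S : ShortComplex (Sheaf K AddCommGrpCat.{u})}
    (hS : S.ShortExact) (U : D) (σ : S.X₃.obj.obj (op U)) (h0 : theta hS U σ = 0) :
    ∃ t : S.X₂.obj.obj (op U), (S.g.hom.app (op U)).hom t = σ := by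
  obtain ⟨x₂, hx₂⟩ := Ext.covariant_sequence_exact₃ _ hS
    (Ext.mk₀ (CohFree.ofSect K U S.X₃ σ)) (rfl : 0 + 1 = 0 + 1) h0
  obtain ⟨φ, rfl⟩ := (Ext.mk₀_bijective _ _).2 x₂
  rw [Ext.mk₀_comp_mk₀] at hx₂
  have h1 := (Ext.mk₀_bijective _ _).1 hx₂
  refine ⟨CohFree.evalGen K U S.X₂ φ, ?_⟩
  rw [← evalGen_comp, h1, CohFree.evalGen_ofSect]

end Groth.Agent.Lib.Helper29.WS9074B
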