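import Mathlib
import Groth.Prelude.Def_SiteCmp
import Groth.Agent.Lib.Helper5.SiteCmpKill
import Groth.Agent.Lib.Helper29.WS9074B

/-!
# Helper29: local liftability over a `P`-covering (for S9074)
-/

set_option autoImplicit false
set_option maxHeartbeats 1600000
universe u
open CategoryTheory CategoryTheory.Limits Opposite CategoryTheory.Abelian

noncomputable section

namespace Groth.Agent.Lib.Helper29.WS9074C

open Groth.Agent.Lib.Helper29.WS9074A Groth.Agent.Lib.Helper29.WS9074B
open Groth.Agent.Lib.Helper5.SiteCmpKill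

variable {C : Type u} [SmallCategory C] {W Y : C} (f : W ⟶ Y) [HasPullbacksAlong f]

/-- `T ↦ T ×_Y W` on `Over Y`. -/
abbrev Psi : Over Y ⥤ Over Y := Over.pullback f ⋙ Over.map f

/-- the projection `T ×_Y W → T`. -/
abbrev cPsi : Psi f ⟶ 𝟭 (Over Y) := (Over.mapPullbackAdj f).counit

lemma cc_left (T : Over Y) : (cc (Psi f) (cPsi f) T).left = pullback.fst T.hom f := by
  simp [cc]

lemma Psi_map_left_fst {T T' : Over Y} (k : T' ⟶ T) :
    ((Psi f).map k).left ≫ pullback.fst T.hom f = pullback.fst T'.hom f ≫ k.left := by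
  simp only [Functor.comp_map, Over.map_map_left, Over.pullback_map_left]
  exact pullback.lift_fst _ _ _

lemma Psi_map_left_snd {T T' : Over Y} (k : T' ⟶ T) :
    ((Psi f).map k).left ≫ pullback.snd T.hom f = pullback.snd T'.hom f := by
  simp only [Functor.comp_map, Over.map_map_left, Over.pullback_map_left]
  exact pullback.lift_snd _ _ _

lemma descData (J : GrothendieckTopology C)
    (hcov : Sieve.ofArrows (fun _ : PUnit.{u + 1} => W) (fun _ => f) ∈ J Y) :
    DescData (J.over Y) (Psi f) (cPsi f) where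
  cover T := by
    rw [GrothendieckTopology.mem_over_iff, Sieve.overEquiv_ofArrows]
    refine J.superset_covering ?_ (J.pullback_stable T.hom hcov)
    intro R g hg
    have hg' : (Sieve.ofArrows (fun _ : PUnit.{u + 1} => W) (fun _ => f)) (g ≫ T.hom) := hg
    obtain ⟨_, a, ha⟩ := (Sieve.mem_ofArrows_iff _ _ _).1 hg'
    refine (Sieve.mem_ofArrows_iff _ _ _).2 ⟨PUnit.unit, pullback.lift g a ha, ?_⟩
    change g = pullback.lift g a ha ≫ (cc (Psi f) (cPsi f) T).left
    rw [cc_left]
    exact (pullback.lift_fst _ _ _).symm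
  pair T R h1 h2 h12 := by
    have e12 : h1.left ≫ pullback.fst T.hom f = h2.left ≫ pullback.fst T.hom f := by
      have h : (h1 ≫ cc (Psi f) (cPsi f) T).left = (h2 ≫ cc (Psi f) (cPsi f) T).left := by
        rw [h12]
      rw [Over.comp_left, Over.comp_left, cc_left] at h
      exact h
    have w1 : h1.left ≫ pullback.snd T.hom f ≫ f = R.hom := by
      have := Over.w h1
      simpa using this
    have w2 : h2.left ≫ pullback.snd T.hom f ≫ f = R.hom := by
      have := Over.w h2
      simpa using this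
    have hcond : h2.left ≫ ((Psi f).obj T).hom = (h1.left ≫ pullback.snd T.hom f) ≫ f := by
      rw [Category.assoc, w1]
      exact w2
    let l : R.left ⟶ ((Psi f).obj ((Psi f).obj T)).left :=
      pullback.lift h2.left (h1.left ≫ pullback.snd T.hom f) hcond
    have hl_fst : l ≫ pullback.fst ((Psi f).obj T).hom f = h2.left := pullback.lift_fst _ _ _
    have hl_snd : l ≫ pullback.snd ((Psi f).obj T).hom f = h1.left ≫ pullback.snd T.hom f :=
      pullback.lift_snd _ _ _
    have hl_w : l ≫ ((Psi f).obj ((Psi f).obj T)).hom = R.hom := by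
      change l ≫ pullback.snd ((Psi f).obj T).hom f ≫ f = R.hom
      rw [← Category.assoc, hl_snd, Category.assoc]
      exact w1
    refine ⟨Over.homMk l hl_w, ?_, ?_⟩
    · apply Over.OverMorphism.ext
      rw [Over.comp_left]
      change l ≫ ((Psi f).map (cc (Psi f) (cPsi f) T)).left = h1.left
      apply pullback.hom_ext
      · rw [Category.assoc, Psi_map_left_fst, ← Category.assoc, hl_fst, cc_left]
        exact e12.symm
      · rw [Category.assoc, Psi_map_left_snd]
        exact hl_snd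
    · apply Over.OverMorphism.ext
      rw [Over.comp_left, cc_left]
      exact hl_fst

/-- the unit `G → G(- ×_Y W)`. -/
def unitPhi (K : GrothendieckTopology C) (G : Sheaf (K.over Y) AddCommGrpCat.{u}) :
    G ⟶ (CohSite.push (K.over Y) (K.over Y) (Psi f)).obj G :=
  ObjectProperty.homMk
    { app := fun T => G.obj.map ((cc (Psi f) (cPsi f) T.unop).op)
      naturality := fun T T' k => by
        change G.obj.map k ≫ G.obj.map _ = G.obj.map _ ≫ G.obj.map ((Psi f).map k.unop).op
        rw [← G.obj.map_comp, ← G.obj.map_comp]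
        congr 1
        exact congrArg Quiver.Hom.op (cc_nat (Psi f) (cPsi f) k.unop).symm }

lemma unitPhi_app (K : GrothendieckTopology C) (G : Sheaf (K.over Y) AddCommGrpCat.{u})
    (T : Over Y) (a : G.obj.obj (op T)) :
    ((unitPhi f K G).hom.app (op T)).hom a = rs G.obj (cc (Psi f) (cPsi f) T) a := rfl

variable {J J' : GrothendieckTopology C} (h : J' ≤ J)

/-- `ε_{Y,*}` -/
abbrev epsY (Y : C) : Sheaf (J.over Y) AddCommGrpCat.{u} ⥤ Sheaf (J'.over Y) AddCommGrpCat.{u} :=
  SiteCmp.epsSh (SiteCmp.over_le h Y) AddCommGrpCat.{u}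

lemma preservesFiniteLimits_eps (Y : C) : PreservesFiniteLimits (epsY h Y) := by
  haveI := SiteCmp.idContinuous (SiteCmp.over_le h Y)
  have : PreservesLimitsOfSize.{0, 0} ((𝟭 (Over Y)).sheafPushforwardContinuous
      AddCommGrpCat.{u} (J'.over Y) (J.over Y)) :=
    ((𝟭 (Over Y)).sheafAdjunctionContinuous AddCommGrpCat.{u}
      (J'.over Y) (J.over Y)).rightAdjoint_preservesLimits
  exact PreservesLimitsOfSize.preservesFiniteLimits.{0, 0} _

set_option backward.isDefEq.respectTransparency false in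
/-- **Key step**: a global section of `S.X₃` which lifts, locally for `J'`, on a `J`-covering
`W → Y` lifts locally for `J'` on `Y`, when `R¹f_*` and the cokernel of the unit are `J`-sheaves. -/
theorem claim2 (hcov : Sieve.ofArrows (fun _ : PUnit.{u + 1} => W) (fun _ => f) ∈ J Y)
    (S : ShortComplex (Sheaf (J.over Y) AddCommGrpCat.{u})) (hS : S.ShortExact)
    (hsep : Presheaf.IsSheaf (J.over Y) (((fstar J' f).rightDerived (0 + 1)).obj
      ((jinv J' f).obj ((epsY h Y).obj S.X₁))).obj)
    (hQ : Presheaf.IsSheaf (J.over Y) (cokernel (unitPhi f J' ((epsY h Y).obj S.X₁))).obj)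
    (st : ∀ T : Over Y, S.X₃.obj.obj (op T))
    (hst : ∀ ⦃T T' : Over Y⦄ (k : T' ⟶ T), (S.X₃.obj.map k.op).hom (st T) = st T')
    (R : Sieve (Over.mk f)) (hR : R ∈ (J'.over Y) (Over.mk f))
    (hlift : ∀ ⦃T : Over Y⦄ (g : T ⟶ Over.mk f), R g →
      ∃ t : S.X₂.obj.obj (op T), (S.g.hom.app (op T)).hom t = st T) :
    ∃ R' ∈ J' Y, ∀ ⦃T : C⦄ (g : T ⟶ Y), R' g →
      ∃ t : S.X₂.obj.obj (op (Over.mk g)),
        (S.g.hom.app (op (Over.mk g))).hom t = st (Over.mk g) := by
  classical
  haveI : PreservesFiniteLimits (epsY h Y) := preservesFiniteLimits_eps h Y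
  haveI := hS.mono_f
  have hS'ex : (S.map (epsY h Y)).Exact :=
    hS.exact.map_of_mono_of_preservesKernel (epsY h Y) hS.mono_f inferInstance
  haveI hmono' : Mono (S.map (epsY h Y)).f :=
    mono_of_app_injective _ (fun T => app_injective_of_mono S.f T)
  -- the image sequence
  let SI : ShortComplex (Sheaf (J'.over Y) AddCommGrpCat.{u}) :=
    ShortComplex.mk (S.map (epsY h Y)).f (cokernel.π (S.map (epsY h Y)).f) (cokernel.condition _)
  have hSI : SI.ShortExact :=
    ShortComplex.ShortExact.mk' (ShortComplex.exact_cokernel (S.map (epsY h Y)).f) hmono'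
      (inferInstanceAs (Epi (cokernel.π (S.map (epsY h Y)).f)))
  let m : SI.X₃ ⟶ (S.map (epsY h Y)).X₃ :=
    cokernel.desc (S.map (epsY h Y)).f (S.map (epsY h Y)).g (S.map (epsY h Y)).zero
  haveI : Mono m := (S.map (epsY h Y)).exact_iff_mono_cokernel_desc.1 hS'ex
  have minj := app_injective_of_mono m
  have hm : ∀ (T : Over Y) (b : S.X₂.obj.obj (op T)),
      (m.hom.app (op T)).hom ((SI.g.hom.app (op T)).hom b) = (S.g.hom.app (op T)).hom b := by
    intro T b
    have := congrArg (fun φ => (φ.hom.app (op T)).hom b)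
      (cokernel.π_desc (S.map (epsY h Y)).f (S.map (epsY h Y)).g (S.map (epsY h Y)).zero)
    exact this
  have hmres : ∀ {T T' : Over Y} (k : T' ⟶ T) (σ : SI.X₃.obj.obj (op T))
      (hσ : (m.hom.app (op T)).hom σ = st T),
      (m.hom.app (op T')).hom ((SI.X₃.obj.map k.op).hom σ) = st T' := by
    intro T T' k σ hσ
    refine (rs_nat m.hom k σ).trans ?_
    rw [hσ]
    exact hst k
  -- the section of the image
  obtain ⟨σ, hσ⟩ : ∃ σ : SI.X₃.obj.obj (op (Over.mk f)),
      (m.hom.app (op (Over.mk f))).hom σ = st (Over.mk f) := by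
    refine exists_of_locally m (Over.mk f) (st (Over.mk f)) R hR ?_
    intro T g hg
    obtain ⟨t, ht⟩ := hlift g hg
    refine ⟨(SI.g.hom.app (op T)).hom t, ?_⟩
    rw [hm, ht]
    exact (hst g).symm
  -- its class
  have hθ : ∀ (W' : C) (p q : W' ⟶ W) (hW : IsPullback p q f f),
      CohSite.res ((epsY h Y).obj S.X₁) (0 + 1)
          (Over.homMk p rfl : Over.mk (p ≫ f) ⟶ Over.mk f) (theta hSI (Over.mk f) σ) =
        CohSite.res ((epsY h Y).obj S.X₁) (0 + 1)
          (Over.homMk q hW.w.symm : Over.mk (p ≫ f) ⟶ Over.mk f) (theta hSI (Over.mk f) σ) := by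
    intro W' p q hW
    have e1 := res_theta hSI (Over.homMk p rfl : Over.mk (p ≫ f) ⟶ Over.mk f) σ
    have e2 := res_theta hSI (Over.homMk q hW.w.symm : Over.mk (p ≫ f) ⟶ Over.mk f) σ
    refine e1.trans (Eq.trans ?_ e2.symm)
    congr 1
    apply minj
    exact (hmres _ σ hσ).trans (hmres _ σ hσ).symm
  obtain ⟨ι, Z, g, hZ, hkill⟩ := Groth.Agent.Lib.Helper5.SiteCmpKill.main J' f
    ((epsY h Y).obj S.X₁) 0 J hcov hsep (theta hSI (Over.mk f) σ) hθ
  -- the cokernel of the unit
  let u' := unitPhi f J' ((epsY h Y).obj S.X₁)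
  haveI hu' : Mono u' := mono_of_app_injective u' (fun T a a' haa' =>
    descent_inj (descData f J hcov) S.X₁.obj S.X₁.property T a a' haa')
  let SQ : ShortComplex (Sheaf (J'.over Y) AddCommGrpCat.{u}) :=
    ShortComplex.mk u' (cokernel.π u') (cokernel.condition u')
  have hSQ : SQ.Exact := ShortComplex.exact_cokernel u'
  haveI : Mono SQ.f := hu'
  -- the sieve of liftability
  let R' : Sieve Y :=
    { arrows := fun T g => ∃ t : S.X₂.obj.obj (op (Over.mk g)),
        (S.g.hom.app (op (Over.mk g))).hom t = st (Over.mk g)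
      downward_closed := by
        rintro T T' g ⟨t, ht⟩ k
        refine ⟨(S.X₂.obj.map (Over.homMk k rfl : Over.mk (k ≫ g) ⟶ Over.mk g).op).hom t, ?_⟩
        refine (rs_nat S.g.hom (Over.homMk k rfl : Over.mk (k ≫ g) ⟶ Over.mk g) t).trans ?_
        rw [ht]
        exact hst _ }
  refine ⟨R', ?_, fun T g hg => hg⟩
  refine J'.transitive hZ R' ?_
  intro T' g' hg'
  obtain ⟨i, a, rfl⟩ := (Sieve.mem_ofArrows_iff _ _ _).1 hg'
  rw [Sieve.pullback_comp]
  apply J'.pullback_stable
  -- work over `Z i`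
  have hk := hkill i _ _ _ (IsPullback.of_hasPullback (g i) f)
  have hk' := (res_theta hSI (Over.homMk (pullback.snd (g i) f) rfl :
    Over.mk (pullback.snd (g i) f ≫ f) ⟶ Over.mk f) σ).symm.trans hk
  obtain ⟨t, ht⟩ := exists_lift_of_theta_eq_zero hSI _ _ hk'
  have ht' : (S.g.hom.app (op ((Psi f).obj (Over.mk (g i))))).hom t =
      st ((Psi f).obj (Over.mk (g i))) := by
    refine (hm _ t).symm.trans ?_
    rw [ht]
    exact hmres _ σ hσ
  obtain ⟨Ri, hRi, hRil⟩ := lift_on_cover (descData f J hcov) (J'.over Y)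
    (F1 := S.X₁.obj) (F2 := S.X₂.obj) (F3 := S.X₃.obj) (Q := (cokernel u').obj)
    S.X₂.property S.X₃.property hQ S.f.hom S.g.hom
    (fun T a => sec_zero S T a) (fun T => app_injective_of_mono S.f T)
    (fun T b hb => sec_exact S hS.exact T b hb)
    (cokernel.π u').hom
    (fun T a => sec_zero SQ T a)
    (fun T b hb => sec_exact SQ hSQ T b hb)
    (fun T q => ⟨Presheaf.imageSieve (cokernel.π u').hom q,
      imageSieve_mem_of_epi (cokernel.π u') T q, fun T' r hr => hr⟩)
    (Over.mk (g i)) (st (Over.mk (g i))) t (ht'.trans (hst _).symm)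
  refine J'.superset_covering ?_ ((GrothendieckTopology.mem_over_iff _ _).1 hRi)
  intro T0 r0 hr0
  rw [Sieve.overEquiv_iff] at hr0
  obtain ⟨a, ha⟩ := hRil _ hr0
  exact ⟨a, ha.trans (hst _)⟩

end Groth.Agent.Lib.Helper29.WS9074C
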