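import Mathlib
import Groth.Prelude.Def_SiteCmp
import Groth.Prelude.Def_WeakSerre
import Groth.Agent.Lib.Helper29.WS9074C

/-!
# Helper29: the inverse image of `A'_X` under `ε_{X,*}` is a weak Serre subcategory (S9074)
-/

set_option autoImplicit false
set_option maxHeartbeats 1600000
universe u
open CategoryTheory CategoryTheory.Limits Opposite CategoryTheory.Abelian

noncomputable section

namespace Groth.Agent.Lib.Helper29.WS9074D

open Groth.Agent.Lib.Helper29.WS9074A Groth.Agent.Lib.Helper29.WS9074B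
  Groth.Agent.Lib.Helper29.WS9074C
open Groth.Agent.Lib.Helper5.SiteCmpKill

variable {C : Type u} [SmallCategory C] {J J' : GrothendieckTopology C} (h : J' ≤ J)

/-! ### cokernels -/

set_option backward.isDefEq.respectTransparency false in
lemma cokernel_closed
    (A' : ∀ X : C, ObjectProperty (Sheaf (J'.over X) AddCommGrpCat.{u}))
    [∀ X : C, WSerre.IsWeakSerre (A' X)]
    (h3 : ∀ (X : C) (F' : Sheaf (J'.over X) AddCommGrpCat.{u}), A' X F' →
      Presheaf.IsSheaf (J.over X) F'.obj)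
    (X : C) {F G : Sheaf (J.over X) AddCommGrpCat.{u}} (φ : F ⟶ G) (k : CokernelCofork φ)
    (hk : IsColimit k) (hF : A' X ((epsY h X).obj F)) (hG : A' X ((epsY h X).obj G)) :
    A' X ((epsY h X).obj k.pt) := by
  have hQ' : A' X (cokernel ((epsY h X).map φ)) := (A' X).prop_cokernel _ hF hG
  have hsh := h3 X _ hQ'
  let QK : Sheaf (J.over X) AddCommGrpCat.{u} := ⟨(cokernel ((epsY h X).map φ)).obj, hsh⟩
  let πK : G ⟶ QK := ObjectProperty.homMk (cokernel.π ((epsY h X).map φ)).hom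
  have wK : φ ≫ πK = 0 := by
    apply Sheaf.hom_ext_iff.2
    have := congrArg (fun ψ => ψ.hom) (cokernel.condition ((epsY h X).map φ))
    exact this
  have hQK : IsColimit (CokernelCofork.ofπ πK wK) := by
    refine CokernelCofork.IsColimit.ofπ πK wK
      (fun {H} g' eq' => ObjectProperty.homMk
        (cokernel.desc ((epsY h X).map φ) ((epsY h X).map g')
          (by rw [← Functor.map_comp, eq', Functor.map_zero])).hom) ?_ ?_
    · intro H g' eq'
      apply Sheaf.hom_ext_iff.2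
      have := congrArg (fun ψ => ψ.hom) (cokernel.π_desc ((epsY h X).map φ) ((epsY h X).map g')
        (by rw [← Functor.map_comp, eq', Functor.map_zero]))
      exact this
    · intro H g' eq' m hm
      apply Sheaf.hom_ext_iff.2
      let m' : cokernel ((epsY h X).map φ) ⟶ (epsY h X).obj H := ObjectProperty.homMk m.hom
      have h1 : cokernel.π ((epsY h X).map φ) ≫ m' = (epsY h X).map g' := by
        apply Sheaf.hom_ext_iff.2
        have := congrArg (fun ψ => ψ.hom) hm
        exact this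
      have h2 : m' = cokernel.desc ((epsY h X).map φ) ((epsY h X).map g')
          (by rw [← Functor.map_comp, eq', Functor.map_zero]) := by
        rw [← cancel_epi (cokernel.π ((epsY h X).map φ)), h1, cokernel.π_desc]
      have := congrArg (fun ψ => ψ.hom) h2
      exact this
  let e : k.pt ≅ QK := hk.coconePointUniqueUpToIso hQK
  have hQK' : A' X ((epsY h X).obj QK) := hQ'
  exact (A' X).prop_of_iso ((epsY h X).mapIso e).symm hQK'

/-! ### the key step with the hypotheses on `A'` -/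

theorem claim3 (P : MorphismProperty C)
    (A' : ∀ X : C, ObjectProperty (Sheaf (J'.over X) AddCommGrpCat.{u}))
    [∀ X : C, WSerre.IsWeakSerre (A' X)]
    (h1 : ∀ ⦃X Y : C⦄ (f : X ⟶ Y), P f → ∀ ⦃Y' : C⦄ (g : Y' ⟶ Y),
      ∃ (W : C) (p : W ⟶ Y') (q : W ⟶ X), IsPullback p q g f ∧ P p)
    (h2 : ∀ ⦃X Y : C⦄ (f : X ⟶ Y) (F' : Sheaf (J'.over Y) AddCommGrpCat.{u}), A' Y F' →
      A' X ((CohSite.push (J'.over Y) (J'.over X) (Over.map f)).obj F'))
    (h3 : ∀ (X : C) (F' : Sheaf (J'.over X) AddCommGrpCat.{u}), A' X F' →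
      Presheaf.IsSheaf (J.over X) F'.obj)
    (h4 : ∀ ⦃X Y : C⦄ (f : X ⟶ Y)
      [((Over.map f).sheafPushforwardCocontinuous AddCommGrpCat.{u} (J'.over X) (J'.over Y)).Additive],
      P f → ∀ (F' : Sheaf (J'.over X) AddCommGrpCat.{u}), A' X F' → ∀ i : ℕ,
        A' Y ((((Over.map f).sheafPushforwardCocontinuous AddCommGrpCat.{u} (J'.over X)
          (J'.over Y)).rightDerived i).obj F'))
    {W Y : C} (f : W ⟶ Y) (hf : P f)
    (hcov : Sieve.ofArrows (fun _ : PUnit.{u + 1} => W) (fun _ => f) ∈ J Y)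
    (S : ShortComplex (Sheaf (J.over Y) AddCommGrpCat.{u})) (hS : S.ShortExact)
    (hA : A' Y ((epsY h Y).obj S.X₁))
    (st : ∀ T : Over Y, S.X₃.obj.obj (op T))
    (hst : ∀ ⦃T T' : Over Y⦄ (k : T' ⟶ T), (S.X₃.obj.map k.op).hom (st T) = st T')
    (R : Sieve (Over.mk f)) (hR : R ∈ (J'.over Y) (Over.mk f))
    (hlift : ∀ ⦃T : Over Y⦄ (g : T ⟶ Over.mk f), R g →
      ∃ t : S.X₂.obj.obj (op T), (S.g.hom.app (op T)).hom t = st T) :
    ∃ R' ∈ J' Y, ∀ ⦃T : C⦄ (g : T ⟶ Y), R' g →
      ∃ t : S.X₂.obj.obj (op (Over.mk g)),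
        (S.g.hom.app (op (Over.mk g))).hom t = st (Over.mk g) := by
  haveI : HasPullbacksAlong f := fun {W'} g => by
    obtain ⟨W'', p, q, hpb, -⟩ := h1 f hf g
    exact hpb.hasPullback
  have hj := h2 f _ hA
  have hsep := h3 Y _ (h4 f hf _ hj (0 + 1))
  have h0 := h4 f hf _ hj 0
  have hΦ : A' Y ((CohSite.push (J'.over Y) (J'.over Y) (Psi f)).obj ((epsY h Y).obj S.X₁)) :=
    (A' Y).prop_of_iso
      (((fstar J' f).rightDerivedZeroIsoSelf.app ((jinv J' f).obj ((epsY h Y).obj S.X₁))) ≪≫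
        (compIso J' f).app ((epsY h Y).obj S.X₁)) h0
  have hQ := h3 Y _ ((A' Y).prop_cokernel (unitPhi f J' ((epsY h Y).obj S.X₁)) hA hΦ)
  exact claim2 f h hcov S hS hsep hQ st hst R hR hlift

end Groth.Agent.Lib.Helper29.WS9074D
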