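import Mathlib
import Groth.Prelude.Def_SiteCmp
import Groth.Prelude.Def_WeakSerre
import Groth.Agent.Lib.Helper29.WS9074D

/-!
# Helper29: S9074, the main theorem
-/

set_option autoImplicit false
set_option maxHeartbeats 1600000
universe u
open CategoryTheory CategoryTheory.Limits Opposite CategoryTheory.Abelian

noncomputable section

namespace Groth.Agent.Lib.Helper29.WS9074E

open Groth.Agent.Lib.Helper29.WS9074A Groth.Agent.Lib.Helper29.WS9074B
  Groth.Agent.Lib.Helper29.WS9074C Groth.Agent.Lib.Helper29.WS9074D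
open Groth.Agent.Lib.Helper5.SiteCmpKill

variable {C : Type u} [SmallCategory C] {J J' : GrothendieckTopology C} (h : J' ≤ J)

instance preservesFiniteLimits_jinv (K : GrothendieckTopology C) {Y X : C} (y : Y ⟶ X) :
    PreservesFiniteLimits (jinv K y) := by
  have : PreservesLimitsOfSize.{0, 0} (jinv K y) :=
    ((Over.map y).sheafAdjunctionContinuous AddCommGrpCat.{u}
      (K.over Y) (K.over X)).rightAdjoint_preservesLimits
  exact PreservesLimitsOfSize.preservesFiniteLimits.{0, 0} _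

set_option backward.isDefEq.respectTransparency false in
/-- `ε_*` of an epimorphism with kernel in `A` is locally surjective for the coarser topology. -/
theorem imageSieve_mem_eps (P : MorphismProperty C)
    (A' : ∀ X : C, ObjectProperty (Sheaf (J'.over X) AddCommGrpCat.{u}))
    [∀ X : C, WSerre.IsWeakSerre (A' X)]
    (h1 : ∀ ⦃X Y : C⦄ (f : X ⟶ Y), P f → ∀ ⦃Y' : C⦄ (g : Y' ⟶ Y),
      ∃ (W : C) (p : W ⟶ Y') (q : W ⟶ X), IsPullback p q g f ∧ P p)
    (h2 : ∀ ⦃X Y : C⦄ (f : X ⟶ Y) (F' : Sheaf (J'.over Y) AddCommGrpCat.{u}), A' Y F' →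
      A' X ((CohSite.push (J'.over Y) (J'.over X) (Over.map f)).obj F'))
    (h3 : ∀ (X : C) (F' : Sheaf (J'.over X) AddCommGrpCat.{u}), A' X F' →
      Presheaf.IsSheaf (J.over X) F'.obj)
    (h4 : ∀ ⦃X Y : C⦄ (f : X ⟶ Y)
      [((Over.map f).sheafPushforwardCocontinuous AddCommGrpCat.{u} (J'.over X) (J'.over Y)).Additive],
      P f → ∀ (F' : Sheaf (J'.over X) AddCommGrpCat.{u}), A' X F' → ∀ i : ℕ,
        A' Y ((((Over.map f).sheafPushforwardCocontinuous AddCommGrpCat.{u} (J'.over X)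
          (J'.over Y)).rightDerived i).obj F'))
    (h5 : ∀ (U : C) (S : Sieve U), S ∈ J U → ∃ (ι : Type u) (V : ι → C) (v : ∀ j, V j ⟶ U),
      Sieve.ofArrows V v ∈ J' U ∧ ∀ j, ∃ (W : C) (w : W ⟶ V j), P w ∧
        Sieve.ofArrows (fun _ : PUnit.{u + 1} => W) (fun _ => w) ∈ J (V j) ∧
        ∃ (κ : Type u) (Wk : κ → C) (wk : ∀ k, Wk k ⟶ W), Sieve.ofArrows Wk wk ∈ J' W ∧
          ∀ k, S.arrows (wk k ≫ w ≫ v j))
    (X : C) (S : ShortComplex (Sheaf (J.over X) AddCommGrpCat.{u})) (hS : S.ShortExact)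
    (hA : A' X ((epsY h X).obj S.X₁)) (U : Over X) (s : S.X₃.obj.obj (op U)) :
    Presheaf.imageSieve ((epsY h X).map S.g).hom s ∈ (J'.over X) U := by
  haveI := hS.epi_g
  have hL := imageSieve_mem_of_epi S.g U s
  have hL' := (GrothendieckTopology.mem_over_iff J _).1 hL
  obtain ⟨ι, V, v, hV, hdata⟩ := h5 U.left _ hL'
  rw [GrothendieckTopology.mem_over_iff]
  refine J'.transitive hV _ ?_
  intro T' g' hg'
  obtain ⟨j, a, rfl⟩ := (Sieve.mem_ofArrows_iff _ _ _).1 hg'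
  rw [Sieve.pullback_comp]
  apply J'.pullback_stable
  obtain ⟨W, w, hw, hwcov, κ, Wk, wk, hWk, hWkS⟩ := hdata j
  -- restrict to `V j`
  let y : V j ⟶ X := v j ≫ U.hom
  have hSy : (S.map (jinv J y)).ShortExact := hS.map_of_exact (jinv J y)
  have hAy : A' (V j) ((epsY h (V j)).obj (S.map (jinv J y)).X₁) := h2 y _ hA
  let arr : ∀ T : Over (V j), (Over.map y).obj T ⟶ U := fun T =>
    Over.homMk (T.hom ≫ v j) (by simp [y])
  have harr : ∀ ⦃T T' : Over (V j)⦄ (k : T' ⟶ T), (Over.map y).map k ≫ arr T = arr T' := by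
    intro T T' k
    apply Over.OverMorphism.ext
    simp [arr]
  let st : ∀ T : Over (V j), (S.map (jinv J y)).X₃.obj.obj (op T) :=
    fun T => rs S.X₃.obj (arr T) s
  have hst : ∀ ⦃T T' : Over (V j)⦄ (k : T' ⟶ T),
      ((S.map (jinv J y)).X₃.obj.map k.op).hom (st T) = st T' := by
    intro T T' k
    change rs S.X₃.obj ((Over.map y).map k) (rs S.X₃.obj (arr T) s) = rs S.X₃.obj (arr T') s
    rw [← rs_comp, harr]
  let R : Sieve (Over.mk w) := (Sieve.overEquiv (Over.mk w)).symm (Sieve.ofArrows Wk wk)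
  have hR : R ∈ (J'.over (V j)) (Over.mk w) := by
    rw [GrothendieckTopology.mem_over_iff]
    have hRe : Sieve.overEquiv (Over.mk w) R = Sieve.ofArrows Wk wk :=
      (Sieve.overEquiv (Over.mk w)).apply_symm_apply _
    rw [hRe]
    exact hWk
  have hlift : ∀ ⦃T : Over (V j)⦄ (g : T ⟶ Over.mk w), R g →
      ∃ t : (S.map (jinv J y)).X₂.obj.obj (op T),
        ((S.map (jinv J y)).g.hom.app (op T)).hom t = st T := by
    intro T g hg
    have hg' : (Sieve.ofArrows Wk wk) g.left := (Sieve.overEquiv_symm_iff _ g).1 hg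
    obtain ⟨k, a, ha⟩ := (Sieve.mem_ofArrows_iff _ _ _).1 hg'
    have hS0 := hWkS k
    rw [Sieve.overEquiv_iff] at hS0
    obtain ⟨t0, ht0⟩ := hS0
    have hw' : g.left ≫ w = T.hom := Over.w g
    have hb : a ≫ ((wk k ≫ w ≫ v j) ≫ U.hom) = ((Over.map y).obj T).hom := by
      simp only [Over.map_obj_hom, y]
      rw [← hw', ha]
      simp
    let b : (Over.map y).obj T ⟶ Over.mk ((wk k ≫ w ≫ v j) ≫ U.hom) := Over.homMk a hb
    have hbarr : b ≫ (Over.homMk (wk k ≫ w ≫ v j) :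
        Over.mk ((wk k ≫ w ≫ v j) ≫ U.hom) ⟶ U) = arr T := by
      apply Over.OverMorphism.ext
      change a ≫ (wk k ≫ w ≫ v j) = T.hom ≫ v j
      rw [← hw', ha]
      simp
    refine ⟨rs S.X₂.obj b t0, ?_⟩
    refine (rs_nat S.g.hom b t0).trans ?_
    refine (congrArg (rs S.X₃.obj b) ht0).trans ?_
    refine (rs_comp S.X₃.obj b _ s).symm.trans ?_
    exact congrArg (fun k => rs S.X₃.obj k s) hbarr
  obtain ⟨R', hR', hR'l⟩ := claim3 h P A' h1 h2 h3 h4 w hw hwcov (S.map (jinv J y)) hSy hAy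
    st hst R hR hlift
  refine J'.superset_covering ?_ hR'
  intro T g hg
  obtain ⟨t, ht⟩ := hR'l g hg
  change (Sieve.overEquiv U (Presheaf.imageSieve ((epsY h X).map S.g).hom s)) (g ≫ v j)
  rw [Sieve.overEquiv_iff]
  let e : Over.mk ((g ≫ v j) ≫ U.hom) ⟶ (Over.map y).obj (Over.mk g) :=
    Over.homMk (𝟙 T) (by simp [y])
  have he : e ≫ arr (Over.mk g) =
      (Over.homMk (g ≫ v j) : Over.mk ((g ≫ v j) ≫ U.hom) ⟶ U) := by
    apply Over.OverMorphism.ext
    simp [e, arr]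
  refine ⟨rs S.X₂.obj e t, ?_⟩
  exact ((rs_nat S.g.hom e t).trans ((congrArg (rs S.X₃.obj e) ht).trans
    ((rs_comp S.X₃.obj e (arr (Over.mk g)) s).symm.trans
      (congrArg (fun k => rs S.X₃.obj k s) he))))

set_option backward.isDefEq.respectTransparency false in
theorem main9074 (P : MorphismProperty C)
    (A' : ∀ X : C, ObjectProperty (Sheaf (J'.over X) AddCommGrpCat.{u}))
    [∀ X : C, WSerre.IsWeakSerre (A' X)]
    (h1 : ∀ ⦃X Y : C⦄ (f : X ⟶ Y), P f → ∀ ⦃Y' : C⦄ (g : Y' ⟶ Y),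
      ∃ (W : C) (p : W ⟶ Y') (q : W ⟶ X), IsPullback p q g f ∧ P p)
    (h2 : ∀ ⦃X Y : C⦄ (f : X ⟶ Y) (F' : Sheaf (J'.over Y) AddCommGrpCat.{u}), A' Y F' →
      A' X ((CohSite.push (J'.over Y) (J'.over X) (Over.map f)).obj F'))
    (h3 : ∀ (X : C) (F' : Sheaf (J'.over X) AddCommGrpCat.{u}), A' X F' →
      Presheaf.IsSheaf (J.over X) F'.obj)
    (h4 : ∀ ⦃X Y : C⦄ (f : X ⟶ Y)
      [((Over.map f).sheafPushforwardCocontinuous AddCommGrpCat.{u} (J'.over X) (J'.over Y)).Additive],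
      P f → ∀ (F' : Sheaf (J'.over X) AddCommGrpCat.{u}), A' X F' → ∀ i : ℕ,
        A' Y ((((Over.map f).sheafPushforwardCocontinuous AddCommGrpCat.{u} (J'.over X)
          (J'.over Y)).rightDerived i).obj F'))
    (h5 : ∀ (U : C) (S : Sieve U), S ∈ J U → ∃ (ι : Type u) (V : ι → C) (v : ∀ j, V j ⟶ U),
      Sieve.ofArrows V v ∈ J' U ∧ ∀ j, ∃ (W : C) (w : W ⟶ V j), P w ∧
        Sieve.ofArrows (fun _ : PUnit.{u + 1} => W) (fun _ => w) ∈ J (V j) ∧
        ∃ (κ : Type u) (Wk : κ → C) (wk : ∀ k, Wk k ⟶ W), Sieve.ofArrows Wk wk ∈ J' W ∧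
          ∀ k, S.arrows (wk k ≫ w ≫ v j))
    (X : C) :
    WSerre.IsWeakSerre ((A' X).inverseImage
      (SiteCmp.epsSh (SiteCmp.over_le h X) AddCommGrpCat.{u})) := by
  haveI : PreservesFiniteLimits (epsY h X) := preservesFiniteLimits_eps h X
  have hzero : ((A' X).inverseImage (epsY h X)).ContainsZero := inferInstance
  have hker : ((A' X).inverseImage (epsY h X)).IsClosedUnderKernels := ⟨by
    rintro _ ⟨φ, k, hk, hf⟩
    exact (A' X).prop_of_isLimit_kernelFork (KernelFork.mapIsLimit k hk (epsY h X)) hf.1 hf.2⟩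
  have hcoker : ((A' X).inverseImage (epsY h X)).IsClosedUnderCokernels := ⟨by
    rintro _ ⟨φ, k, hk, hf⟩
    exact cokernel_closed h A' h3 X φ k hk hf.1 hf.2⟩
  have hext : ((A' X).inverseImage (epsY h X)).IsClosedUnderExtensions := ⟨by
    intro S hS h₁ h₃
    haveI := hS.mono_f
    have hepi : Epi ((epsY h X).map S.g) := epi_of_imageSieve_mem _
      (fun U s => imageSieve_mem_eps h P A' h1 h2 h3 h4 h5 X S hS h₁ U s)
    have hmono : Mono ((epsY h X).map S.f) :=
      mono_of_app_injective _ (fun T => app_injective_of_mono S.f T)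
    have hS' : (S.map (epsY h X)).ShortExact := ShortComplex.ShortExact.mk'
      (hS.exact.map_of_mono_of_preservesKernel (epsY h X) hS.mono_f inferInstance) hmono hepi
    exact (A' X).prop_X₂_of_shortExact hS' h₁ h₃⟩
  exact @WSerre.IsWeakSerre.mk _ _ _ _ hzero hker hcoker hext

end Groth.Agent.Lib.Helper29.WS9074E
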