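import Mathlib
import Groth.Prelude.Def_SiteCmp
import Groth.Prelude.Def_WeakSerre
import Groth.Agent.Lib.Helper2.GSS.DimShift
import Groth.Agent.Lib.Helper2.GSS.DimShiftIff
import Groth.Agent.Lib.Helper29.WS9074D

/-!
# Helper29: `R^i f_{τ',*} ε_* ≅ ε_* R^i f_{τ,*}` in a range (S9079)
-/

set_option autoImplicit false
set_option maxHeartbeats 1600000
universe u
open CategoryTheory CategoryTheory.Limits Opposite CategoryTheory.Abelian

noncomputable section

namespace Groth.Agent.Lib.Helper29.WS9079A

open Groth.Agent.Lib.Helper29.WS9074A Groth.Agent.Lib.Helper29.WS9074B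
  Groth.Agent.Lib.Helper29.WS9074C Groth.Agent.Lib.Helper29.WS9074D
open Groth.Agent.Lib.Helper5.SiteCmpKill
open Groth.Agent.Lib.Helper2.RDBridge Groth.Agent.Lib.Helper2.GSS Groth.Agent.Lib.Helper2.DimShiftIff

variable {C : Type u} [SmallCategory C] {J J' : GrothendieckTopology C} (h : J' ≤ J)

set_option backward.isDefEq.respectTransparency false in
/-- `ε_*` preserves injectives. -/
lemma injective_eps (X : C) (I : Sheaf (J.over X) AddCommGrpCat.{u}) [Injective I] :
    Injective ((epsY h X).obj I) := by
  have h1 := Groth.Agent.Lib.Helper5.OverExtZero.injective_presheaf_of_injective_sheaf (J.over X) I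
  exact Groth.Agent.Lib.Helper5.OverExtZero.injective_sheaf_of_injective_presheaf (J'.over X) _ h1

set_option backward.isDefEq.respectTransparency false in
/-- if the cokernel for the coarse topology is a sheaf for the fine one, it is the cokernel there. -/
lemma cokernel_eps (X : C) {F G : Sheaf (J.over X) AddCommGrpCat.{u}} (φ : F ⟶ G)
    (hsh : Presheaf.IsSheaf (J.over X) (cokernel ((epsY h X).map φ)).obj) :
    Nonempty ((epsY h X).obj (cokernel φ) ≅ cokernel ((epsY h X).map φ)) := by
  let QK : Sheaf (J.over X) AddCommGrpCat.{u} := ⟨(cokernel ((epsY h X).map φ)).obj, hsh⟩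
  let πK : G ⟶ QK := ObjectProperty.homMk (cokernel.π ((epsY h X).map φ)).hom
  have wK : φ ≫ πK = 0 := by
    apply Sheaf.hom_ext_iff.2
    have := congrArg (fun ψ => ψ.hom) (cokernel.condition ((epsY h X).map φ))
    exact this
  have hQK : IsColimit (CokernelCofork.ofπ πK wK) := by
    refine CokernelCofork.IsColimit.ofπ πK wK
      (fun {H} g' eq' => ObjectProperty.homMk
        (cokernel.desc ((epsY h X).map φ) ((epsY h X).map g')
          (by rw [← Functor.map_comp, eq', Functor.map_zero])).hom) ?_ ?_
    · intro H g' eq'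
      apply Sheaf.hom_ext_iff.2
      have := congrArg (fun ψ => ψ.hom) (cokernel.π_desc ((epsY h X).map φ) ((epsY h X).map g')
        (by rw [← Functor.map_comp, eq', Functor.map_zero]))
      exact this
    · intro H g' eq' m hm
      apply Sheaf.hom_ext_iff.2
      let m' : cokernel ((epsY h X).map φ) ⟶ (epsY h X).obj H := ObjectProperty.homMk m.hom
      have h1 : cokernel.π ((epsY h X).map φ) ≫ m' = (epsY h X).map g' := by
        apply Sheaf.hom_ext_iff.2
        have := congrArg (fun ψ => ψ.hom) hm
        exact this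
      have h2 : m' = cokernel.desc ((epsY h X).map φ) ((epsY h X).map g')
          (by rw [← Functor.map_comp, eq', Functor.map_zero]) := by
        rw [← cancel_epi (cokernel.π ((epsY h X).map φ)), h1, cokernel.π_desc]
      have := congrArg (fun ψ => ψ.hom) h2
      exact this
  let e : cokernel φ ≅ QK := (cokernelIsCokernel φ).coconePointUniqueUpToIso hQK
  let e' : (epsY h X).obj QK ≅ cokernel ((epsY h X).map φ) := Iso.refl _
  exact ⟨(epsY h X).mapIso e ≪≫ e'⟩

variable {X Y : C} (f : X ⟶ Y) [HasPullbacksAlong f]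

set_option backward.isDefEq.respectTransparency false in
/-- `f_{τ',*} ε_{X,*} ≅ ε_{Y,*} f_{τ,*}`. -/
def kappa : epsY h X ⋙ fstar J' f ≅ fstar J f ⋙ epsY h Y :=
  Functor.isoWhiskerLeft (epsY h X) (fstarIso J' f) ≪≫
    (NatIso.ofComponents (fun _ => Iso.refl _) :
      epsY h X ⋙ CohSite.push (J'.over X) (J'.over Y) (Over.pullback f) ≅
        CohSite.push (J.over X) (J.over Y) (Over.pullback f) ⋙ epsY h Y) ≪≫
    Functor.isoWhiskerRight (fstarIso J f).symm (epsY h Y)

/-- the same with `R^0`. -/
def Theta : epsY h X ⋙ (fstar J' f).rightDerived 0 ≅ fstar J f ⋙ epsY h Y :=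
  Functor.isoWhiskerLeft (epsY h X) (fstar J' f).rightDerivedZeroIsoSelf ≪≫ kappa h f

set_option backward.isDefEq.respectTransparency false in
theorem key : ∀ (i : ℕ) (F : Sheaf (J.over X) AddCommGrpCat.{u}),
    (∀ j : ℕ, 1 ≤ j → j ≤ i → IsZero (((epsY h X).rightDerived j).obj F)) →
    Presheaf.IsSheaf (J.over Y) (((fstar J' f).rightDerived i).obj ((epsY h X).obj F)).obj →
    Nonempty (((fstar J' f).rightDerived i).obj ((epsY h X).obj F) ≅
      (epsY h Y).obj (((fstar J f).rightDerived i).obj F)) := by
  intro i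
  induction i with
  | zero =>
    intro F _ _
    exact ⟨(Theta h f).app F ≪≫
      (epsY h Y).mapIso (((fstar J f).rightDerivedZeroIsoSelf.app F).symm)⟩
  | succ i ih =>
    intro F ha hb
    haveI := preservesFiniteLimits_eps h X
    have hS := injSC_shortExact F
    have hS' : ((injSC F).map (epsY h X)).ShortExact :=
      shortExact_map_of_isZero (epsY h X) _ hS (ha 1 le_rfl (by omega))
    haveI : Injective ((injSC F).map (epsY h X)).X₂ := injective_eps h X _
    rcases i with _ | i
    · -- degree one
      obtain ⟨δ', z1', z2', z3', -, e2', e3'⟩ := rightDerived_les' (fstar J' f) _ hS' 0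
      have hδ' : Epi δ' := e3'.epi_f
        ((Functor.isZero_rightDerived_obj_injective_succ _ 0 _).eq_of_tgt _ _)
      obtain ⟨δ, z1, z2, z3, -, e2, e3⟩ := rightDerived_les' (fstar J f) _ hS 0
      have hδ : Epi δ := e3.epi_f
        ((Functor.isZero_rightDerived_obj_injective_succ _ 0 _).eq_of_tgt _ _)
      obtain ⟨a1⟩ := nonempty_iso_X₃ (ShortComplex.mk _ _ z2')
        (ShortComplex.mk ((epsY h Y).map ((fstar J f).map (injSC F).g)) (cokernel.π _)
          (cokernel.condition _))
        e2' (ShortComplex.exact_cokernel _) hδ' (inferInstanceAs (Epi (cokernel.π _)))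
        ((Theta h f).app (injSC F).X₂) ((Theta h f).app (injSC F).X₃)
        ((Theta h f).hom.naturality (injSC F).g).symm
      have hsh : Presheaf.IsSheaf (J.over Y)
          (cokernel ((epsY h Y).map ((fstar J f).map (injSC F).g))).obj :=
        (Presheaf.isSheaf_of_iso_iff ((sheafToPresheaf _ _).mapIso a1)).1 hb
      obtain ⟨a2⟩ := cokernel_eps h Y ((fstar J f).map (injSC F).g) hsh
      obtain ⟨a3⟩ := nonempty_iso_X₃ (ShortComplex.mk _ _ z2)
        (ShortComplex.mk ((fstar J f).map (injSC F).g) (cokernel.π _) (cokernel.condition _))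
        e2 (ShortComplex.exact_cokernel _) hδ (inferInstanceAs (Epi (cokernel.π _)))
        ((fstar J f).rightDerivedZeroIsoSelf.app _) ((fstar J f).rightDerivedZeroIsoSelf.app _)
        ((fstar J f).rightDerivedZeroIsoSelf.hom.naturality (injSC F).g).symm
      exact ⟨a1 ≪≫ a2.symm ≪≫ (epsY h Y).mapIso a3.symm⟩
    · -- degree `i + 2`
      obtain ⟨e1⟩ := nonempty_iso_of_isZero (fstar J' f) _ hS' (i + 1)
        (Functor.isZero_rightDerived_obj_injective_succ _ i _)
        (Functor.isZero_rightDerived_obj_injective_succ _ (i + 1) _)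
      obtain ⟨e2⟩ := nonempty_iso_of_isZero (fstar J f) _ hS (i + 1)
        (Functor.isZero_rightDerived_obj_injective_succ _ i _)
        (Functor.isZero_rightDerived_obj_injective_succ _ (i + 1) _)
      have haQ : ∀ j : ℕ, 1 ≤ j → j ≤ i + 1 →
          IsZero (((epsY h X).rightDerived j).obj (injSC F).X₃) := by
        intro j hj1 hj2
        obtain ⟨j', rfl⟩ : ∃ j', j = j' + 1 := ⟨j - 1, by omega⟩
        obtain ⟨e⟩ := nonempty_iso_of_isZero (epsY h X) _ hS (j' + 1)
          (Functor.isZero_rightDerived_obj_injective_succ _ j' _)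
          (Functor.isZero_rightDerived_obj_injective_succ _ (j' + 1) _)
        exact IsZero.of_iso (ha (j' + 2) (by omega) (by omega)) e
      have hbQ : Presheaf.IsSheaf (J.over Y)
          (((fstar J' f).rightDerived (i + 1)).obj ((epsY h X).obj (injSC F).X₃)).obj :=
        (Presheaf.isSheaf_of_iso_iff ((sheafToPresheaf _ _).mapIso e1)).2 hb
      obtain ⟨e3⟩ := ih (injSC F).X₃ haQ hbQ
      exact ⟨e1.symm ≪≫ e3 ≪≫ (epsY h Y).mapIso e2⟩

end Groth.Agent.Lib.Helper29.WS9079A
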