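import Mathlib
import Groth.Prelude.Def_AlgGrp
import Groth.Agent.Lib.Helper14.HomogDim
import Groth.Agent.Lib.Helper14.GrpDim
import Groth.Agent.Lib.Helper26.RegularSch
import Groth.Agent.Lib.Helper15.IrrStalk
import Groth.Agent.Lib.Helper6.ConnDim2
import Groth.Agent.Lib.Helper9.RegLocal

/-!
# Identity components of smooth group schemes of the same dimension (helper29)

* `isIrreducible_connectedComponent`: connected components of a scheme smooth over a field are irreducible.
* `dim_eq_fibreDimAt`: the dimension of a group scheme locally of finite type over a field.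
* `main18027`.
-/

set_option autoImplicit false
set_option maxHeartbeats 1600000
set_option linter.style.haveILetI false
universe u

open CategoryTheory CategoryTheory.Limits MonoidalCategory CartesianMonoidalCategory MonObj
  AlgebraicGeometry

namespace Groth.Agent.Lib.Helper29.IdCompDim

/-- connected components of a scheme smooth over a field are irreducible -/
theorem isIrreducible_connectedComponent (k : Type u) [Field k] {X : Scheme.{u}}
    (f : X ⟶ Spec (CommRingCat.of k)) [Smooth f] (x : X) :
    IsIrreducible (connectedComponent x) := by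
  haveI : IsLocallyNoetherian X := LocallyOfFiniteType.isLocallyNoetherian f
  have hd : ∀ y : X, (nilradical (X.presheaf.stalk y)).IsPrime := by
    intro y
    haveI := Groth.Agent.Lib.Helper26.RegularSch.isRegularLocalRing_stalk_of_smooth_field k f y
    haveI := Groth.Agent.Lib.Helper9.RegLocal.isDomain_of_isRegularLocalRing (X.presheaf.stalk y)
    rw [nilradical_eq_zero]
    exact Ideal.isPrime_bot
  have hd' := (Groth.Agent.Lib.Helper15.NT.pairwiseDisjoint_irreducibleComponents_iff_nilradical_isPrime
    X).mpr hd
  have h3 : ∀ x : X, IsIrreducible (connectedComponent x) :=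
    ((Groth.Agent.Lib.Helper15.NT.irreducibleComponents_open_tfae
      (Groth.Agent.Lib.Helper15.NT.exists_noetherian_nhds_of_isLocallyNoetherian X)).out 3 2).mp hd'
  exact h3 x

theorem natCast_ne_top (m : ℕ) : ((m : ℕ) : WithBot ℕ∞) ≠ ⊤ := by
  intro h
  have h2 : ((m : ℕ∞) : WithBot ℕ∞) = ((⊤ : ℕ∞) : WithBot ℕ∞) := h
  exact ENat.natCast_ne_top m (WithBot.coe_injective h2)

section

variable (k : Type u) [Field k] (G : Over (Spec (CommRingCat.of k))) [GrpObj G]
  [LocallyOfFiniteType G.hom]

theorem fibreDimAt_const (z e : ↥G.left) :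
    FlatMor.fibreDimAt G.hom z = FlatMor.fibreDimAt G.hom e := by
  haveI : Subsingleton ↥(Spec (CommRingCat.of k)) :=
    inferInstanceAs (Subsingleton (PrimeSpectrum k))
  exact Groth.Agent.Lib.Helper14.GrpDim.fibreDimAt_eq_of_hom_eq G z e (Subsingleton.elim _ _)

theorem dim_eq_fibreDimAt (e : ↥G.left) :
    topologicalKrullDim ↥G.left = FlatMor.fibreDimAt G.hom e := by
  haveI : Subsingleton ↥(Spec (CommRingCat.of k)) :=
    inferInstanceAs (Subsingleton (PrimeSpectrum k))
  rw [Groth.Agent.Lib.Helper9.topologicalKrullDim_eq_iSup_localDim]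
  have hconst : ∀ z : ↥G.left, FlatMor.localDim ↥G.left z = FlatMor.fibreDimAt G.hom e := by
    intro z
    rw [← Groth.Agent.Lib.Helper14.HomogDim.fibreDimAt_eq_localDim_of_subsingleton G.hom z,
      fibreDimAt_const k G z e]
  haveI : Nonempty ↥G.left := ⟨e⟩
  simp_rw [hconst]
  exact ciSup_const

theorem dim_connectedComponent (e : ↥G.left) :
    topologicalKrullDim ↥(connectedComponent e) = FlatMor.fibreDimAt G.hom e := by
  haveI : Subsingleton ↥(Spec (CommRingCat.of k)) :=
    inferInstanceAs (Subsingleton (PrimeSpectrum k))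
  obtain ⟨fG, hfG⟩ : ∃ fG : G.left ⟶ Spec (CommRingCat.of k), fG = G.hom := ⟨_, rfl⟩
  haveI : LocallyOfFiniteType fG := hfG ▸ inferInstance
  haveI : IsLocallyNoetherian G.left := LocallyOfFiniteType.isLocallyNoetherian fG
  exact Groth.Agent.Lib.Helper14.HomogDim.dim_connectedComponent_eq G.hom _
    (fun z => fibreDimAt_const k G z e) e

theorem fibreDimAt_ne_top (e : ↥G.left) : FlatMor.fibreDimAt G.hom e ≠ ⊤ := by
  obtain ⟨U, m, hxU, hUm⟩ :=
    Groth.Agent.Lib.Helper12.ChevalleyCor.exists_opens_fibreDimAt_le G.hom e
  exact ne_top_of_le_ne_top (natCast_ne_top m) (hUm e hxU)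

end

theorem main18027 (k : Type u) [Field k]
    (G H : Over (Spec (CommRingCat.of k))) [GrpObj G] [GrpObj H]
    [Smooth G.hom] [Smooth H.hom] (u : G ⟶ H) [IsMonHom u] [IsClosedImmersion u.left]
    (hdim : topologicalKrullDim ↥G.left = topologicalKrullDim ↥H.left)
    (t : ↥((𝟙_ (Over (Spec (CommRingCat.of k)))).left)) :
    ⇑u.left.base '' connectedComponent (η[G].left.base t) =
      connectedComponent (η[H].left.base t) := by
  obtain ⟨fH, hfH⟩ : ∃ fH : H.left ⟶ Spec (CommRingCat.of k), fH = H.hom := ⟨_, rfl⟩
  haveI : Smooth fH := hfH ▸ inferInstance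
  obtain ⟨eG, heG⟩ : ∃ eG : ↥G.left, eG = (η[G]).left t := ⟨_, rfl⟩
  obtain ⟨eH, heH⟩ : ∃ eH : ↥H.left, eH = (η[H]).left t := ⟨_, rfl⟩
  have hue : u.left eG = eH := by
    rw [heG, heH, ← Scheme.Hom.comp_apply, ← Over.comp_left, IsMonHom.one_hom]
  have hCG := dim_connectedComponent k G eG
  have hCH := dim_connectedComponent k H eH
  have hδ : FlatMor.fibreDimAt G.hom eG = FlatMor.fibreDimAt H.hom eH := by
    rw [← dim_eq_fibreDimAt k G eG, ← dim_eq_fibreDimAt k H eH]
    exact hdim
  have hfin : topologicalKrullDim ↥(connectedComponent eH) ≠ ⊤ := by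
    rw [hCH]
    exact fibreDimAt_ne_top k H eH
  have hirr : IsIrreducible (connectedComponent eH) := isIrreducible_connectedComponent k fH eH
  have hsub : u.left '' connectedComponent eG ⊆ connectedComponent eH := by
    have hpre : _root_.IsPreconnected (u.left '' connectedComponent eG) :=
      isPreconnected_connectedComponent.image _ u.left.continuous.continuousOn
    exact hpre.subset_connectedComponent ⟨eG, mem_connectedComponent, hue⟩
  have hcl : IsClosed (u.left '' connectedComponent eG) :=
    u.left.isClosedEmbedding.isClosedMap _ isClosed_connectedComponent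
  have hge : topologicalKrullDim ↥(connectedComponent eG) ≤
      topologicalKrullDim ↥(u.left '' connectedComponent eG) := by
    let f : ↥(connectedComponent eG) → ↥(u.left '' connectedComponent eG) :=
      fun c => ⟨u.left c.1, ⟨c.1, c.2, rfl⟩⟩
    have hfc : Continuous f :=
      Continuous.subtype_mk (u.left.continuous.comp continuous_subtype_val) _
    have hgc : Continuous (fun y : ↥(u.left '' connectedComponent eG) => (y.1 : ↥H.left)) :=
      continuous_subtype_val
    have hf : Topology.IsInducing f := by
      refine Topology.IsInducing.of_comp hfc hgc ?_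
      exact u.left.isClosedEmbedding.isEmbedding.isInducing.comp Topology.IsInducing.subtypeVal
    exact hf.topologicalKrullDim_le
  have hmain : u.left '' connectedComponent eG = connectedComponent eH := by
    by_contra hne
    have hlt := Groth.Agent.Lib.Helper6.ConnDim2.dim_lt_of_ssubset hirr hcl hsub hne hfin
    rw [hCH, ← hδ, ← hCG] at hlt
    exact absurd (lt_of_le_of_lt hge hlt) (lt_irrefl _)
  rw [heG, heH] at hmain
  exact hmain

end Groth.Agent.Lib.Helper29.IdCompDim
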