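import Mathlib

/-!
# Descent of "integrally closed domain" along faithfully flat ring maps
-/

set_option autoImplicit false
universe u v

namespace Groth.Agent.Lib.Helper29.NormalDescent

variable {R : Type u} {S : Type v} [CommRing R] [CommRing S] [Algebra R S]

lemma algebraMap_injective_of_faithfullyFlat [Module.FaithfullyFlat R S] :
    Function.Injective (algebraMap R S) := by
  rw [injective_iff_map_eq_zero]
  intro x hx
  have h0 := Ideal.comap_map_eq_self_of_faithfullyFlat (B := S) (⊥ : Ideal R)
  have hx' : x ∈ ((⊥ : Ideal R).map (algebraMap R S)).comap (algebraMap R S) := by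
    rw [Ideal.mem_comap, Ideal.map_bot, Ideal.mem_bot]; exact hx
  rw [h0] at hx'; simpa using hx'

/-- If `R → S` is faithfully flat and `S` is an integrally closed domain, then so is `R`. -/
theorem isDomain_and_isIntegrallyClosed [Module.FaithfullyFlat R S] [IsDomain S]
    [IsIntegrallyClosed S] : IsDomain R ∧ IsIntegrallyClosed R := by
  have hinj := algebraMap_injective_of_faithfullyFlat (R := R) (S := S)
  haveI hdom : IsDomain R := hinj.isDomain (algebraMap R S)
  refine ⟨hdom, ?_⟩
  rw [isIntegrallyClosed_iff (FractionRing R)]
  intro x hx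
  obtain ⟨a, b, hb, rfl⟩ := IsFractionRing.div_surjective (A := R) x
  have hb0 : b ≠ 0 := nonZeroDivisors.ne_zero hb
  have hφb : algebraMap R S b ≠ 0 := fun h => hb0 (hinj (by rw [h, map_zero]))
  -- the induced map on fraction fields
  let ψ : FractionRing R →+* FractionRing S :=
    IsFractionRing.map hinj
  have hψ : (algebraMap S (FractionRing S)).comp (algebraMap R S) =
      ψ.comp (algebraMap R (FractionRing R)) := by
    ext r
    simp [ψ, IsFractionRing.map]
  have hint : IsIntegral S (ψ (algebraMap R (FractionRing R) a / algebraMap R (FractionRing R) b)) :=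
    IsIntegral.map_of_comp_eq (algebraMap R S) ψ hψ hx
  obtain ⟨s, hs⟩ := (isIntegrallyClosed_iff (FractionRing S)).mp inferInstance hint
  have hψa : ∀ r : R, ψ (algebraMap R (FractionRing R) r) =
      algebraMap S (FractionRing S) (algebraMap R S r) := by
    intro r
    have := congrArg (fun f => f r) hψ
    simpa using this.symm
  rw [map_div₀, hψa, hψa] at hs
  have hbL : algebraMap S (FractionRing S) (algebraMap R S b) ≠ 0 := by
    intro h
    exact hφb (IsFractionRing.injective S (FractionRing S) (by rw [h, map_zero]))
  have h1 : algebraMap R S a = algebraMap R S b * s := by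
    apply IsFractionRing.injective S (FractionRing S)
    rw [map_mul, hs, mul_div_cancel₀ _ hbL]
  have h2 : a ∈ Ideal.span {b} := by
    rw [← Ideal.comap_map_eq_self_of_faithfullyFlat (B := S) (Ideal.span {b}), Ideal.mem_comap,
      Ideal.map_span, Set.image_singleton, Ideal.mem_span_singleton]
    exact ⟨s, h1⟩
  obtain ⟨r, hr⟩ := Ideal.mem_span_singleton.mp h2
  refine ⟨r, ?_⟩
  have hbK : algebraMap R (FractionRing R) b ≠ 0 := by
    intro h
    exact hb0 (IsFractionRing.injective R (FractionRing R) (by rw [h, map_zero]))
  rw [hr, map_mul, mul_div_cancel_left₀ _ hbK]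

end Groth.Agent.Lib.Helper29.NormalDescent
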