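import Mathlib

/-!
# The diagonal of a group object is a base change of its unit (helper29, for helper14's S5318)
-/

set_option autoImplicit false
universe v u

open CategoryTheory CategoryTheory.Limits MonoidalCategory CartesianMonoidalCategory MonObj

namespace Groth.Agent.Lib.Helper29.DiagUnit

variable {C : Type u} [Category.{v} C] [CartesianMonoidalCategory C] (G : C) [GrpObj G]

/-- `(a, b) ↦ a⁻¹ b` on `T`-points. -/
theorem comp_div {T : C} (s : T ⟶ G ⊗ G) :
    s ≫ lift (fst G G ≫ ι[G]) (snd G G) ≫ μ[G] = (s ≫ fst G G)⁻¹ * (s ≫ snd G G) := by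
  rw [Hom.mul_def, Hom.inv_def, ← Category.assoc, comp_lift, Category.assoc]

theorem isPullback_diag_unit :
    IsPullback (lift (𝟙 G) (𝟙 G)) (toUnit G) (lift (fst G G ≫ ι[G]) (snd G G) ≫ μ[G]) η[G] := by
  have hw : lift (𝟙 G) (𝟙 G) ≫ lift (fst G G ≫ ι[G]) (snd G G) ≫ μ[G] = toUnit G ≫ η[G] := by
    rw [comp_div, lift_fst, lift_snd, inv_mul_cancel, Hom.one_def]
  have key : ∀ s : PullbackCone (lift (fst G G ≫ ι[G]) (snd G G) ≫ μ[G]) η[G],
      s.fst ≫ fst G G = s.fst ≫ snd G G := by
    intro s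
    have h := s.condition
    rw [comp_div] at h
    have h1 : s.snd ≫ η[G] = (1 : s.pt ⟶ G) := by
      rw [Hom.one_def]
      congr 1
      exact toUnit_unique _ _
    rw [h1, inv_mul_eq_one] at h
    exact h
  refine IsPullback.mk ⟨hw⟩ ⟨PullbackCone.IsLimit.mk _ (fun s => s.fst ≫ fst G G) ?_ ?_ ?_⟩
  · intro s
    apply CartesianMonoidalCategory.hom_ext
    · rw [Category.assoc, lift_fst, Category.comp_id]
    · rw [Category.assoc, lift_snd, Category.comp_id, key s]
  · intro s
    exact toUnit_unique _ _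
  · intro s m h1 _
    have h := h1 =≫ fst G G
    rw [Category.assoc, lift_fst, Category.comp_id] at h
    exact h

end Groth.Agent.Lib.Helper29.DiagUnit
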