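import Mathlib
import Groth.Prelude.Def_ProEtS
import Groth.Prelude.Def_PBC
import Groth.Agent.Lib.Helper5.ProEtQcqs
import Groth.Agent.Lib.Helper1.WeaklyEtaleLib

/-!
# w-contractible affine objects of the pro-étale site and clopen refinements (helper29)

For an affine object `U` of `X_proet`: `Γ(U)` is w-contractible iff every covering sieve of `U`
contains the inclusions of a finite clopen decomposition of `U`.
-/

set_option autoImplicit false
set_option linter.style.haveILetI false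
set_option linter.unusedSectionVars false
set_option maxHeartbeats 1600000

universe u

open CategoryTheory CategoryTheory.Limits AlgebraicGeometry Opposite TensorProduct

namespace Groth.Agent.Lib.Helper29.ProEtClopen

open Groth.Agent.Lib.Helper5.ProEtQcqs

/-- A weakly étale algebra gives a weakly étale morphism of spectra. -/
lemma weaklyEtale_SpecMap (A B : Type u) [CommRing A] [CommRing B] [Algebra A B]
    [Algebra.WeaklyEtale A B] : WeaklyEtale (Spec.map (CommRingCat.ofHom (algebraMap A B))) := by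
  refine ⟨?_, ?_⟩
  · rw [Flat.SpecMap_iff]
    exact (RingHom.flat_algebraMap_iff).mpr inferInstance
  · rw [diagonal_SpecMap]
    have : Flat (Spec.map (CommRingCat.ofHom
        (Algebra.TensorProduct.lmul' A : B ⊗[A] B →ₐ[A] B).toRingHom)) :=
      Flat.SpecMap_iff.mpr (Algebra.WeaklyEtale.flat_lmul' A B)
    infer_instance

set_option backward.isDefEq.respectTransparency.types false in
/-- A covering sieve of a qcqs object is refined by a finite jointly surjective family of affine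
objects. -/
lemma exists_affine_refinement {X : Scheme.{u}} (U : X.ProEt) [CompactSpace U.left]
    [QuasiSeparatedSpace U.left] (S : Sieve U) (hS : S ∈ Scheme.ProEt.topology X U) :
    ∃ (ι : Type (u + 1)) (_ : Finite ι) (W : ι → X.ProEt) (a : ∀ j, W j ⟶ U),
      (∀ j, IsAffine (W j).left) ∧ (∀ x : U.left, ∃ j, x ∈ Set.range (a j).left) ∧
      ∀ j, S.arrows (a j) := by
  obtain ⟨R, hR, hle⟩ := h2a X U S hS
  obtain ⟨𝒰, 𝒱, f, hfin, heq⟩ := h2b X U R hR
  have hmem : ∀ i : 𝒰.I₀, ∃ (Z : X.ProEt) (h : (toSch X).obj Z = 𝒰.X i) (g : Z ⟶ U),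
      R g ∧ (toSch X).map g = eqToHom h ≫ 𝒰.f i := by
    intro i
    have : (R.map (toSch X)) (𝒰.f i) := by
      rw [heq]
      exact ⟨i⟩
    exact Presieve.map_iff.1 this
  choose Z hZ g hg1 hg2 using hmem
  haveI : ∀ j, WeaklyEtale (𝒱.f j) := fun j => 𝒱.map_prop j
  let W : 𝒱.I₀ → X.ProEt := fun j => Scheme.ProEt.mk (𝒱.f j ≫ U.hom)
  let a : ∀ j, W j ⟶ U := fun j => MorphismProperty.Over.homMk (𝒱.f j) rfl trivial
  refine ⟨𝒱.I₀, hfin, W, a, ?_, ?_, ?_⟩
  · intro j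
    change IsAffine (Spec (𝒱.X j))
    infer_instance
  · intro x
    exact ⟨𝒱.idx x, 𝒱.covers x⟩
  · intro j
    have hw : f.h₀ j ≫ 𝒰.f (f.s₀ j) = 𝒱.f j := f.w₀ j
    have hgl : (g (f.s₀ j)).left = eqToHom (hZ (f.s₀ j)) ≫ 𝒰.f (f.s₀ j) := hg2 (f.s₀ j)
    have hZhom : (g (f.s₀ j)).left ≫ U.hom = (Z (f.s₀ j)).hom :=
      MorphismProperty.Over.w (g (f.s₀ j))
    have key : (f.h₀ j ≫ eqToHom (hZ (f.s₀ j)).symm) ≫ (g (f.s₀ j)).left = 𝒱.f j := by
      rw [hgl]
      exact (eqToHom_aux (f.h₀ j) (hZ (f.s₀ j)) (𝒰.f (f.s₀ j))).trans hw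
    let k : W j ⟶ Z (f.s₀ j) :=
      MorphismProperty.Over.homMk (f.h₀ j ≫ eqToHom (hZ (f.s₀ j)).symm) (by
        change (f.h₀ j ≫ eqToHom _) ≫ (Z (f.s₀ j)).hom = 𝒱.f j ≫ U.hom
        rw [← hZhom, ← Category.assoc]
        exact congrArg (fun t => t ≫ U.hom) key) trivial
    have hak : a j = k ≫ g (f.s₀ j) := by
      apply MorphismProperty.Over.Hom.ext
      exact key.symm
    change S.arrows (a j)
    rw [hak]
    exact S.downward_closed (hle _ _ (hg1 _)) k

/-- Reindexed version over `Fin n`. -/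
lemma exists_affine_refinement_fin {X : Scheme.{u}} (U : X.ProEt) [CompactSpace U.left]
    [QuasiSeparatedSpace U.left] (S : Sieve U) (hS : S ∈ Scheme.ProEt.topology X U) :
    ∃ (n : ℕ) (W : Fin n → X.ProEt) (a : ∀ k, W k ⟶ U),
      (∀ k, IsAffine (W k).left) ∧ (∀ x : U.left, ∃ k, x ∈ Set.range (a k).left) ∧
      ∀ k, S.arrows (a k) := by
  obtain ⟨ι, hfin, W, a, h1, h2, h3⟩ := exists_affine_refinement U S hS
  obtain ⟨n, ⟨e⟩⟩ := Finite.exists_equiv_fin ι
  refine ⟨n, fun k => W (e.symm k), fun k => a (e.symm k), fun k => h1 _, fun x => ?_,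
    fun k => h3 _⟩
  obtain ⟨j, hj⟩ := h2 x
  refine ⟨e j, ?_⟩
  show x ∈ Set.range (a (e.symm (e j))).left
  rw [e.symm_apply_apply]
  exact hj

set_option backward.isDefEq.respectTransparency.types false in
theorem forward {X : Scheme.{u}} (U : X.ProEt) [IsAffine U.left]
    (hA : EtPBC.IsWContractible ↥(Γ(U.left, ⊤))) (R : Sieve U)
    (hR : R ∈ Scheme.ProEt.topology X U) :
    ∃ (n : ℕ) (W : Fin n → U.left.Opens),
        (∀ k, IsClopen ((W k : Set ↥U.left))) ∧
        Pairwise (fun k l => Disjoint (W k : Set ↥U.left) (W l)) ∧ (⋃ k, (W k : Set ↥U.left)) = Set.univ ∧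
        ∀ k, R.arrows (MorphismProperty.Over.homMk (W k).ι : Scheme.ProEt.mk ((W k).ι ≫ U.hom) ⟶ U) := by
  obtain ⟨n, V, a, hVaff, hcov, hRa⟩ := exists_affine_refinement_fin U R hR
  have hwe : ∀ k, WeaklyEtale (a k).left := fun k => by
    haveI : WeaklyEtale ((a k).left ≫ U.hom) := by
      rw [MorphismProperty.Over.w (a k)]; infer_instance
    exact WeaklyEtale.of_comp (a k).left U.hom
  let g : Fin n → Scheme.{u} := fun k => (V k).left
  haveI : ∀ k, IsAffine (g k) := hVaff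
  let q : (∐ g) ⟶ U.left := Sigma.desc (fun k => (a k).left)
  have hιq : ∀ k, Sigma.ι g k ≫ q = (a k).left := fun k => Sigma.ι_desc _ _
  haveI : WeaklyEtale q := IsZariskiLocalAtSource.sigmaDesc (P := @WeaklyEtale) hwe
  haveI : IsAffine (∐ g) := inferInstance
  have hqsurj : Function.Surjective q := by
    intro x
    obtain ⟨k, y, hy⟩ := hcov x
    refine ⟨Sigma.ι g k y, ?_⟩
    rw [← Scheme.Hom.comp_apply, hιq]
    exact hy
  -- ring level
  let φ : Γ(U.left, ⊤) ⟶ Γ(∐ g, ⊤) := q.appTop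
  letI : Algebra ↥Γ(U.left, ⊤) ↥Γ(∐ g, ⊤) := φ.hom.toAlgebra
  have hnat : (∐ g).isoSpec.hom ≫ Spec.map φ = q ≫ U.left.isoSpec.hom :=
    Scheme.isoSpec_hom_naturality q
  have hSpecφ : Spec.map φ = (∐ g).isoSpec.inv ≫ q ≫ U.left.isoSpec.hom := by
    rw [← hnat, Iso.inv_hom_id_assoc]
  haveI : WeaklyEtale (Spec.map φ) := by rw [hSpecφ]; infer_instance
  haveI hweAlg : Algebra.WeaklyEtale ↥Γ(U.left, ⊤) ↥Γ(∐ g, ⊤) :=
    Groth.Agent.Lib.Helper1.WeaklyEtale.algebra_weaklyEtale_of_SpecMap φ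
  haveI : Module.Flat ↥Γ(U.left, ⊤) ↥Γ(∐ g, ⊤) := inferInstance
  have hsurjSpec : Function.Surjective
      (PrimeSpectrum.comap (algebraMap ↥Γ(U.left, ⊤) ↥Γ(∐ g, ⊤))) := by
    intro p
    obtain ⟨y, hy⟩ := hqsurj (U.left.isoSpec.inv p)
    refine ⟨(∐ g).isoSpec.hom y, ?_⟩
    change (Spec.map φ) ((∐ g).isoSpec.hom y) = p
    have h1 : (Spec.map φ) ((∐ g).isoSpec.hom y) = U.left.isoSpec.hom (q y) := by
      rw [← Scheme.Hom.comp_apply, ← Scheme.Hom.comp_apply, hnat]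
    rw [h1, hy, ← Scheme.Hom.comp_apply, Iso.inv_hom_id]
    rfl
  have hff : Module.FaithfullyFlat ↥Γ(U.left, ⊤) ↥Γ(∐ g, ⊤) :=
    Module.FaithfullyFlat.of_comap_surjective hsurjSpec
  obtain ⟨r⟩ := hA ↥Γ(∐ g, ⊤) hff hweAlg
  let ρ : Γ(∐ g, ⊤) ⟶ Γ(U.left, ⊤) := CommRingCat.ofHom r.toRingHom
  have hρ : φ ≫ ρ = 𝟙 _ := by
    refine CommRingCat.hom_ext (RingHom.ext fun b => ?_)
    show r (algebraMap ↥Γ(U.left, ⊤) ↥Γ(∐ g, ⊤) b) = b
    rw [r.commutes]
    rfl
  let s : U.left ⟶ ∐ g := U.left.isoSpec.hom ≫ Spec.map ρ ≫ (∐ g).isoSpec.inv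
  have hs : s ≫ q = 𝟙 U.left := by
    have h2 : (∐ g).isoSpec.inv ≫ q = Spec.map φ ≫ U.left.isoSpec.inv :=
      (Scheme.isoSpec_inv_naturality q).symm
    calc s ≫ q = U.left.isoSpec.hom ≫ Spec.map ρ ≫ ((∐ g).isoSpec.inv ≫ q) := by
          simp only [s, Category.assoc]
      _ = U.left.isoSpec.hom ≫ (Spec.map ρ ≫ Spec.map φ) ≫ U.left.isoSpec.inv := by
          rw [h2]; simp only [Category.assoc]
      _ = 𝟙 U.left := by
          rw [← Spec.map_comp, hρ, Spec.map_id, Category.id_comp, Iso.hom_inv_id]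
  -- the clopen pieces
  let W : Fin n → U.left.Opens := fun k => s ⁻¹ᵁ (Sigma.ι g k).opensRange
  have hmemW : ∀ k (x : U.left), x ∈ W k ↔ ∃ y, Sigma.ι g k y = s x := fun k x => Iff.rfl
  have hdisj : Pairwise (fun k l => Disjoint (W k : Set ↥U.left) (W l)) := by
    intro k l hkl
    refine Set.disjoint_left.mpr fun x hxk hxl => ?_
    obtain ⟨y, hy⟩ := (hmemW k x).mp hxk
    obtain ⟨y', hy'⟩ := (hmemW l x).mp hxl
    have := (sigmaι_eq_iff g k l y y').mp (hy.trans hy'.symm)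
    exact hkl (congrArg Sigma.fst this)
  have hcoverpt : ∀ x : U.left, ∃ k, x ∈ W k := by
    intro x
    obtain ⟨k, y, hy⟩ := (sigmaOpenCover g).exists_eq (s x)
    exact ⟨k, (hmemW k x).mpr ⟨y, hy⟩⟩
  have hcoverset : (⋃ k, (W k : Set ↥U.left)) = Set.univ :=
    Set.eq_univ_of_forall fun x => by
      obtain ⟨k, hk⟩ := hcoverpt x
      exact Set.mem_iUnion.mpr ⟨k, hk⟩
  have hclosed : ∀ k, IsClosed ((W k : Set ↥U.left)) := fun k => by
    rw [← isOpen_compl_iff]
    have : ((W k : Set ↥U.left))ᶜ = ⋃ l, ⋃ (_ : l ≠ k), (W l : Set ↥U.left) := by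
      ext x
      simp only [Set.mem_compl_iff, Set.mem_iUnion, SetLike.mem_coe]
      constructor
      · intro hx
        obtain ⟨l, hl⟩ := hcoverpt x
        exact ⟨l, fun h => hx (h ▸ hl), hl⟩
      · rintro ⟨l, hlk, hl⟩ hxk
        exact Set.disjoint_left.mp (hdisj hlk) hl hxk
    rw [this]
    exact isOpen_iUnion fun l => isOpen_iUnion fun _ => (W l).isOpen
  refine ⟨n, W, fun k => ⟨hclosed k, (W k).isOpen⟩, hdisj, hcoverset, fun k => ?_⟩
  have hrange : Set.range ((W k).ι ≫ s) ⊆ Set.range (Sigma.ι g k) := by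
    rintro _ ⟨y, rfl⟩
    rw [Scheme.Hom.comp_apply]
    have h1 : (W k).ι y ∈ Set.range (W k).ι := ⟨y, rfl⟩
    rw [Scheme.Opens.range_ι] at h1
    exact (hmemW k _).mp h1
  let κ0 : ↑(W k) ⟶ g k := IsOpenImmersion.lift (Sigma.ι g k) ((W k).ι ≫ s) hrange
  have hκ0 : κ0 ≫ Sigma.ι g k = (W k).ι ≫ s := IsOpenImmersion.lift_fac _ _ _
  have hκ1 : κ0 ≫ (a k).left = (W k).ι := by
    rw [← hιq k, ← Category.assoc, hκ0, Category.assoc, hs, Category.comp_id]
  let κ : Scheme.ProEt.mk ((W k).ι ≫ U.hom) ⟶ V k :=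
    MorphismProperty.Over.homMk κ0 (by
      change κ0 ≫ (V k).hom = (W k).ι ≫ U.hom
      rw [← MorphismProperty.Over.w (a k), ← Category.assoc, hκ1]) trivial
  have hfac : (MorphismProperty.Over.homMk (W k).ι :
      Scheme.ProEt.mk ((W k).ι ≫ U.hom) ⟶ U) = κ ≫ a k := by
    apply MorphismProperty.Over.Hom.ext
    exact hκ1.symm
  rw [hfac]
  exact R.downward_closed (hRa k) κ

set_option backward.isDefEq.respectTransparency.types false in
theorem backward {X : Scheme.{u}} (U : X.ProEt) [IsAffine U.left]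
    (H : ∀ R ∈ Scheme.ProEt.topology X U, ∃ (n : ℕ) (W : Fin n → U.left.Opens),
        (∀ k, IsClopen ((W k : Set ↥U.left))) ∧
        Pairwise (fun k l => Disjoint (W k : Set ↥U.left) (W l)) ∧ (⋃ k, (W k : Set ↥U.left)) = Set.univ ∧
        ∀ k, R.arrows (MorphismProperty.Over.homMk (W k).ι : Scheme.ProEt.mk ((W k).ι ≫ U.hom) ⟶ U)) :
    EtPBC.IsWContractible ↥(Γ(U.left, ⊤)) := by
  intro B _ _ hff hwe
  haveI := hwe
  haveI := hff
  let φ : Γ(U.left, ⊤) ⟶ CommRingCat.of B := CommRingCat.ofHom (algebraMap ↥Γ(U.left, ⊤) B)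
  haveI : WeaklyEtale (Spec.map φ) := weaklyEtale_SpecMap ↥Γ(U.left, ⊤) B
  let q : Spec (CommRingCat.of B) ⟶ U.left := Spec.map φ ≫ U.left.isoSpec.inv
  haveI : WeaklyEtale q := inferInstance
  have hqsurj : Function.Surjective q := by
    intro x
    obtain ⟨p, hp⟩ := PrimeSpectrum.comap_surjective_of_faithfullyFlat
      (A := ↥Γ(U.left, ⊤)) (B := B) (U.left.isoSpec.hom x)
    refine ⟨p, ?_⟩
    show (Spec.map φ ≫ U.left.isoSpec.inv) p = x
    rw [Scheme.Hom.comp_apply]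
    have h1 : (Spec.map φ) p = U.left.isoSpec.hom x := hp
    rw [h1, ← Scheme.Hom.comp_apply, Iso.hom_inv_id]
    rfl
  haveI : QuasiCompact q := inferInstance
  let 𝒱 : Scheme.AffineCover weMP.{u} U.left :=
    { I₀ := Unit
      X := fun _ => CommRingCat.of B
      f := fun _ => q
      idx := fun _ => ()
      covers := fun x => hqsurj x
      map_prop := fun _ => (inferInstance : WeaklyEtale q) }
  let VV : X.ProEt := Scheme.ProEt.mk (q ≫ U.hom)
  let gg : VV ⟶ U := MorphismProperty.Over.homMk q rfl trivial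
  have hcov : Sieve.generate (Presieve.ofArrows (fun _ : Unit => VV) (fun _ => gg)) ∈
      Scheme.ProEt.topology X U := by
    apply Precoverage.generate_mem_toGrothendieck
    change (Presieve.ofArrows (fun _ : Unit => VV) (fun _ => gg)).map (toSch X) ∈
      Scheme.proetalePrecoverage U.left
    rw [Presieve.map_ofArrows]
    haveI : ∀ j, QuasiCompact (𝒱.cover.f j) := fun j => (inferInstance : QuasiCompact q)
    haveI : Finite 𝒱.cover.I₀ := (inferInstance : Finite Unit)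
    have hqc : QuasiCompactCover 𝒱.cover.toPreZeroHypercover := QuasiCompactCover.of_finite
    exact ⟨Scheme.presieve₀_mem_qcPrecoverage_iff.2 hqc, 𝒱.cover.mem₀⟩
  obtain ⟨n, W, hclopen, hdisj, hcover, hW⟩ := H _ hcov
  have hex : ∀ k, ∃ h : Scheme.ProEt.mk ((W k).ι ≫ U.hom) ⟶ VV, h.left ≫ q = (W k).ι := by
    intro k
    obtain ⟨Z, h, g', hg', hcomp⟩ := hW k
    obtain ⟨i⟩ := hg'
    refine ⟨h, ?_⟩
    have := congrArg (fun t => t.left) hcomp
    exact this
  choose hh hh_spec using hex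
  have hWcover : TopologicalSpace.IsOpenCover W := by
    apply TopologicalSpace.IsOpenCover.mk
    apply TopologicalSpace.Opens.ext
    rw [TopologicalSpace.Opens.coe_iSup, hcover]
    rfl
  let 𝒲 : U.left.OpenCover := U.left.openCoverOfIsOpenCover W hWcover
  have hcompat : ∀ k l, pullback.fst (𝒲.f k) (𝒲.f l) ≫ (hh k).left =
      pullback.snd (𝒲.f k) (𝒲.f l) ≫ (hh l).left := by
    intro k l
    rcases eq_or_ne k l with rfl | hkl
    · have : pullback.fst (𝒲.f k) (𝒲.f k) = pullback.snd (𝒲.f k) (𝒲.f k) := by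
        rw [← cancel_mono (𝒲.f k)]
        exact pullback.condition
      rw [this]
    · haveI : IsEmpty ↑(pullback (𝒲.f k) (𝒲.f l)) := by
        refine ⟨fun z => ?_⟩
        have h1 : (pullback.fst (𝒲.f k) (𝒲.f l) ≫ 𝒲.f k) z ∈ (W k : Set ↥U.left) := by
          rw [Scheme.Hom.comp_apply]
          have h0 : (W k).ι ((pullback.fst (𝒲.f k) (𝒲.f l)) z) ∈ Set.range (W k).ι := ⟨_, rfl⟩
          rw [Scheme.Opens.range_ι] at h0
          exact h0
        have h2 : (pullback.fst (𝒲.f k) (𝒲.f l) ≫ 𝒲.f k) z ∈ (W l : Set ↥U.left) := by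
          rw [pullback.condition, Scheme.Hom.comp_apply]
          have h0 : (W l).ι ((pullback.snd (𝒲.f k) (𝒲.f l)) z) ∈ Set.range (W l).ι := ⟨_, rfl⟩
          rw [Scheme.Opens.range_ι] at h0
          exact h0
        exact Set.disjoint_left.mp (hdisj hkl) h1 h2
      exact (isInitialOfIsEmpty (X := pullback (𝒲.f k) (𝒲.f l))).hom_ext _ _
  let s : U.left ⟶ Spec (CommRingCat.of B) :=
    𝒲.glueMorphisms (fun k => ((hh k).left : 𝒲.X k ⟶ Spec (CommRingCat.of B))) hcompat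
  have hs : s ≫ q = 𝟙 U.left := by
    refine 𝒲.hom_ext _ _ (fun k => ?_)
    rw [← Category.assoc, Scheme.Cover.ι_glueMorphisms, Category.comp_id]
    exact hh_spec k
  let s' : Spec Γ(U.left, ⊤) ⟶ Spec (CommRingCat.of B) := U.left.isoSpec.inv ≫ s
  let ρ : CommRingCat.of B ⟶ Γ(U.left, ⊤) := Spec.preimage s'
  have hρ1 : Spec.map ρ = s' := Spec.map_preimage s'
  have hρ : φ ≫ ρ = 𝟙 _ := by
    apply Spec.map_injective
    rw [Spec.map_comp, hρ1, Spec.map_id]
    have hφq : Spec.map φ = q ≫ U.left.isoSpec.hom := by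
      simp only [q, Category.assoc, Iso.inv_hom_id, Category.comp_id]
    rw [hφq]
    simp only [s', Category.assoc]
    rw [← Category.assoc s q, hs, Category.id_comp, Iso.inv_hom_id]
  refine ⟨{ ρ.hom with commutes' := fun a => ?_ }⟩
  exact ConcreteCategory.congr_hom hρ a

theorem main0757 {X : Scheme.{u}} (U : X.ProEt)
    [IsAffine U.left] :
    EtPBC.IsWContractible ↥(Γ(U.left, ⊤)) ↔
      ∀ R ∈ Scheme.ProEt.topology X U, ∃ (n : ℕ) (W : Fin n → U.left.Opens),
        (∀ k, IsClopen ((W k : Set ↥U.left))) ∧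
        Pairwise (fun k l => Disjoint (W k : Set ↥U.left) (W l)) ∧ (⋃ k, (W k : Set ↥U.left)) = Set.univ ∧
        ∀ k, R.arrows (MorphismProperty.Over.homMk (W k).ι : Scheme.ProEt.mk ((W k).ι ≫ U.hom) ⟶ U) :=
  ⟨fun hA R hR => forward U hA R hR, fun H => backward U H⟩

end Groth.Agent.Lib.Helper29.ProEtClopen
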