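import Mathlib
import Groth.Prelude.Def_ProEtS
import Groth.Prelude.Def_PBC
import Groth.Agent.Lib.Helper29.ProEtClopen

/-!
# w-contractible rings and weakly contractible objects of the pro-étale site (helper29)

For an affine object `U` of `X_proet`: `Γ(U)` is w-contractible iff `U` is weakly contractible
(every epimorphism of sheaves of sets is surjective on `U`-sections).
-/

set_option autoImplicit false
set_option linter.style.haveILetI false
set_option linter.unusedSectionVars false
set_option maxHeartbeats 1600000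

universe u

open CategoryTheory CategoryTheory.Limits AlgebraicGeometry Opposite TensorProduct

namespace Groth.Agent.Lib.Helper29.ProEtWC

open Groth.Agent.Lib.Helper5.ProEtQcqs Groth.Agent.Lib.Helper29.ProEtClopen

/-- A scheme-level section of `Spec B → U'` gives a ring retraction. -/
lemma nonempty_retraction_of_section (U' : Scheme.{u}) [IsAffine U'] (B : Type u) [CommRing B]
    [Algebra ↥Γ(U', ⊤) B] (s : U' ⟶ Spec (CommRingCat.of B))
    (hs : s ≫ (Spec.map (CommRingCat.ofHom (algebraMap ↥Γ(U', ⊤) B)) ≫ U'.isoSpec.inv) = 𝟙 U') :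
    Nonempty (B →ₐ[↥Γ(U', ⊤)] ↥Γ(U', ⊤)) := by
  set φ : Γ(U', ⊤) ⟶ CommRingCat.of B := CommRingCat.ofHom (algebraMap ↥Γ(U', ⊤) B) with hφ
  let s' : Spec Γ(U', ⊤) ⟶ Spec (CommRingCat.of B) := U'.isoSpec.inv ≫ s
  let ρ : CommRingCat.of B ⟶ Γ(U', ⊤) := Spec.preimage s'
  have hρ1 : Spec.map ρ = s' := Spec.map_preimage s'
  have hρ : φ ≫ ρ = 𝟙 _ := by
    apply Spec.map_injective
    rw [Spec.map_comp, hρ1, Spec.map_id]
    calc s' ≫ Spec.map φ
        = U'.isoSpec.inv ≫ (s ≫ (Spec.map φ ≫ U'.isoSpec.inv)) ≫ U'.isoSpec.hom := by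
          simp only [s', Category.assoc, Iso.inv_hom_id, Category.comp_id]
      _ = 𝟙 _ := by rw [hs, Category.id_comp, Iso.inv_hom_id]
  refine ⟨{ ρ.hom with commutes' := fun a => ?_ }⟩
  exact ConcreteCategory.congr_hom hρ a

set_option backward.isDefEq.respectTransparency.types false in
/-- A surjective weakly étale morphism from an affine scheme generates a covering sieve. -/
lemma generate_singleton_mem {X : Scheme.{u}} (U : X.ProEt) [IsAffine U.left]
    (B : CommRingCat.{u}) (q : Spec B ⟶ U.left) [WeaklyEtale q] (hqsurj : Function.Surjective q) :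
    Sieve.generate (Presieve.ofArrows (fun _ : Unit => Scheme.ProEt.mk (q ≫ U.hom))
      (fun _ => (MorphismProperty.Over.homMk q rfl trivial :
        Scheme.ProEt.mk (q ≫ U.hom) ⟶ U))) ∈ Scheme.ProEt.topology X U := by
  haveI : QuasiCompact q := inferInstance
  let 𝒱 : Scheme.AffineCover weMP.{u} U.left :=
    { I₀ := Unit
      X := fun _ => B
      f := fun _ => q
      idx := fun _ => ()
      covers := fun x => hqsurj x
      map_prop := fun _ => (inferInstance : WeaklyEtale q) }
  apply Precoverage.generate_mem_toGrothendieck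
  change (Presieve.ofArrows (fun _ : Unit => Scheme.ProEt.mk (q ≫ U.hom))
      (fun _ => (MorphismProperty.Over.homMk q rfl trivial :
        Scheme.ProEt.mk (q ≫ U.hom) ⟶ U))).map (toSch X) ∈
      Scheme.proetalePrecoverage U.left
  rw [Presieve.map_ofArrows]
  haveI : ∀ j, QuasiCompact (𝒱.cover.f j) := fun j => (inferInstance : QuasiCompact q)
  haveI : Finite 𝒱.cover.I₀ := (inferInstance : Finite Unit)
  have hqc : QuasiCompactCover 𝒱.cover.toPreZeroHypercover := QuasiCompactCover.of_finite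
  exact ⟨Scheme.presieve₀_mem_qcPrecoverage_iff.2 hqc, 𝒱.cover.mem₀⟩

set_option backward.isDefEq.respectTransparency.types false in
theorem wc_backward {X : Scheme.{u}} (U : X.ProEt) [IsAffine U.left] (h : ProEtS.IsWC U) :
    EtPBC.IsWContractible ↥(Γ(U.left, ⊤)) := by
  intro B _ _ hff hwe
  haveI := hwe
  haveI := hff
  haveI : WeaklyEtale (Spec.map (CommRingCat.ofHom (algebraMap ↥Γ(U.left, ⊤) B))) :=
    weaklyEtale_SpecMap ↥Γ(U.left, ⊤) B
  let q : Spec (CommRingCat.of B) ⟶ U.left :=
    Spec.map (CommRingCat.ofHom (algebraMap ↥Γ(U.left, ⊤) B)) ≫ U.left.isoSpec.inv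
  haveI : WeaklyEtale q := inferInstance
  have hqsurj : Function.Surjective q := by
    intro x
    obtain ⟨p, hp⟩ := PrimeSpectrum.comap_surjective_of_faithfullyFlat
      (A := ↥Γ(U.left, ⊤)) (B := B) (U.left.isoSpec.hom x)
    refine ⟨p, ?_⟩
    show (Spec.map (CommRingCat.ofHom (algebraMap ↥Γ(U.left, ⊤) B)) ≫ U.left.isoSpec.inv) p = x
    rw [Scheme.Hom.comp_apply]
    have h1 : (Spec.map (CommRingCat.ofHom (algebraMap ↥Γ(U.left, ⊤) B))) p =
        U.left.isoSpec.hom x := hp
    rw [h1, ← Scheme.Hom.comp_apply, Iso.hom_inv_id]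
    rfl
  let VV : X.ProEt := Scheme.ProEt.mk (q ≫ U.hom)
  let gg : VV ⟶ U := MorphismProperty.Over.homMk q rfl trivial
  have hcov : Sieve.generate (Presieve.ofArrows (fun _ : Unit => VV) (fun _ => gg)) ∈
      Scheme.ProEt.topology X U := generate_singleton_mem U (CommRingCat.of B) q hqsurj
  let F : Sheaf (Scheme.ProEt.topology X) (Type (u + 1)) :=
    (GrothendieckTopology.uliftYoneda.{u + 1} (Scheme.ProEt.topology X)).obj VV
  let G : Sheaf (Scheme.ProEt.topology X) (Type (u + 1)) :=
    (GrothendieckTopology.uliftYoneda.{u + 1} (Scheme.ProEt.topology X)).obj U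
  let ψ : F ⟶ G := (GrothendieckTopology.uliftYoneda.{u + 1} (Scheme.ProEt.topology X)).map gg
  haveI : Sheaf.IsLocallySurjective ψ := by
    refine ⟨fun {T} t => ?_⟩
    let t' : ULift.{u + 1} (T ⟶ U) := t
    refine (Scheme.ProEt.topology X).superset_covering ?_
      ((Scheme.ProEt.topology X).pullback_stable t'.down hcov)
    intro T' f hf
    obtain ⟨Z, h', g', hg', hcomp⟩ := hf
    obtain ⟨i⟩ := hg'
    refine ⟨(ULift.up h' : ULift.{u + 1} (T' ⟶ VV)), ?_⟩
    exact ULift.ext _ _ hcomp
  have hepi : Epi ψ := inferInstance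
  obtain ⟨h0', hh0⟩ := h F G ψ hepi (ULift.up (𝟙 U) : ULift.{u + 1} (U ⟶ U))
  let h0 : U ⟶ VV := (h0' : ULift.{u + 1} (U ⟶ VV)).down
  have hsec : h0 ≫ gg = 𝟙 U := congrArg (fun z : ULift.{u + 1} (U ⟶ U) => z.down) hh0
  have hsec' : h0.left ≫ q = 𝟙 U.left := congrArg (fun t => t.left) hsec
  exact nonempty_retraction_of_section U.left B h0.left hsec'

set_option backward.isDefEq.respectTransparency.types false in
theorem wc_forward {X : Scheme.{u}} (U : X.ProEt) [IsAffine U.left]
    (hA : EtPBC.IsWContractible ↥(Γ(U.left, ⊤))) : ProEtS.IsWC U := by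
  intro F G φ hepi t
  haveI : HasSheafify (Scheme.ProEt.topology X) (Type (u + 1)) := inferInstance
  haveI hls : Sheaf.IsLocallySurjective φ := (Sheaf.isLocallySurjective_iff_epi φ).mpr hepi
  have hmem : Presheaf.imageSieve φ.hom t ∈ Scheme.ProEt.topology X U :=
    Presheaf.imageSieve_mem (Scheme.ProEt.topology X) φ.hom t
  obtain ⟨n, W, hclopen, hdisj, hcover, hW⟩ := forward U hA _ hmem
  let Wob : Fin n → X.ProEt := fun k => Scheme.ProEt.mk ((W k).ι ≫ U.hom)
  let ιk : ∀ k, Wob k ⟶ U := fun k => MorphismProperty.Over.homMk (W k).ι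
  have hW' : ∀ k, ∃ t' : F.obj.obj (op (Wob k)),
      φ.hom.app (op (Wob k)) t' = G.obj.map (ιk k).op t := fun k => hW k
  choose sk hsk using hW'
  -- the clopen pieces form a covering
  have hcompactW : ∀ k, CompactSpace ↥(W k) := fun k =>
    isCompact_iff_compactSpace.mp (hclopen k).1.isCompact
  have hcovers : ∀ x : U.left, ∃ k, ∃ y : ↥(W k : Scheme.{u}), (W k).ι y = x := by
    intro x
    have hx : x ∈ ⋃ k, (W k : Set ↥U.left) := by rw [hcover]; trivial
    obtain ⟨k, hk⟩ := Set.mem_iUnion.mp hx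
    have hk' : x ∈ Set.range (W k).ι := by rw [Scheme.Opens.range_ι]; exact hk
    obtain ⟨y, hy⟩ := hk'
    exact ⟨k, y, hy⟩
  let 𝒞 : Scheme.Cover (Scheme.precoverage weMP.{u}) U.left :=
    Scheme.Cover.mkOfCovers (Fin n) (fun k => ((W k : U.left.Opens) : Scheme.{u}))
      (fun k => (W k).ι) hcovers (fun k => (inferInstance : WeaklyEtale (W k).ι))
  have hcovW : Sieve.generate (Presieve.ofArrows Wob ιk) ∈ Scheme.ProEt.topology X U := by
    apply Precoverage.generate_mem_toGrothendieck
    change (Presieve.ofArrows Wob ιk).map (toSch X) ∈ Scheme.proetalePrecoverage U.left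
    rw [Presieve.map_ofArrows]
    haveI : ∀ k, QuasiCompact (𝒞.f k) := fun k => by
      haveI : CompactSpace ↥((W k : U.left.Opens) : Scheme.{u}) := hcompactW k
      exact quasiCompact_of_compactSpace (W k).ι
    haveI : Finite 𝒞.I₀ := (inferInstance : Finite (Fin n))
    have hqc : QuasiCompactCover 𝒞.toPreZeroHypercover := QuasiCompactCover.of_finite
    exact ⟨Scheme.presieve₀_mem_qcPrecoverage_iff.2 hqc, 𝒞.mem₀⟩
  have hFsh : Presieve.IsSheaf (Scheme.ProEt.topology X) F.obj :=
    (isSheaf_iff_isSheaf_of_type _ _).1 F.2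
  have hGsh : Presieve.IsSheaf (Scheme.ProEt.topology X) G.obj :=
    (isSheaf_iff_isSheaf_of_type _ _).1 G.2
  have hF : Presieve.IsSheafFor F.obj (Presieve.ofArrows Wob ιk) :=
    (Presieve.isSheafFor_iff_generate _).mpr (hFsh _ hcovW)
  have hG : Presieve.IsSheafFor G.obj (Presieve.ofArrows Wob ιk) :=
    (Presieve.isSheafFor_iff_generate _).mpr (hGsh _ hcovW)
  have hcompat : Presieve.Arrows.Compatible F.obj ιk sk := by
    intro i j Z gi gj hij
    rcases eq_or_ne i j with rfl | hne
    · have hgg : gi = gj := by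
        apply MorphismProperty.Over.Hom.ext
        have h1 : gi.left ≫ (W i).ι = gj.left ≫ (W i).ι := congrArg (fun t => t.left) hij
        exact (cancel_mono (W i).ι).mp h1
      rw [hgg]
    · haveI : IsEmpty Z.left := by
        refine ⟨fun z => ?_⟩
        have h1 : gi.left ≫ (W i).ι = gj.left ≫ (W j).ι := congrArg (fun t => t.left) hij
        have hzi : (gi.left ≫ (W i).ι) z ∈ (W i : Set ↥U.left) := by
          rw [Scheme.Hom.comp_apply]
          have h0 : (W i).ι (gi.left z) ∈ Set.range (W i).ι := ⟨_, rfl⟩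
          rw [Scheme.Opens.range_ι] at h0
          exact h0
        have hzj : (gi.left ≫ (W i).ι) z ∈ (W j : Set ↥U.left) := by
          rw [h1, Scheme.Hom.comp_apply]
          have h0 : (W j).ι (gj.left z) ∈ Set.range (W j).ι := ⟨_, rfl⟩
          rw [Scheme.Opens.range_ι] at h0
          exact h0
        exact Set.disjoint_left.mp (hdisj hne) hzi hzj
      have hbot : (⊥ : Sieve Z) ∈ Scheme.ProEt.topology X Z := Scheme.ProEt.bot_mem_topology Z
      exact (hFsh.isSeparated _ hbot).ext (fun Y f hf => False.elim hf)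
  obtain ⟨s, hs, -⟩ := (Presieve.isSheafFor_arrows_iff _ _).mp hF sk hcompat
  refine ⟨s, ?_⟩
  refine hG.isSeparatedFor.ext (fun Y f hf => ?_)
  obtain ⟨k⟩ := hf
  have hnat := NatTrans.naturality_apply φ.hom (ιk k).op s
  have hsk' : F.obj.map (ιk k).op s = sk k := hs k
  rw [← hnat, hsk']
  exact hsk k

theorem main0715 {X : Scheme.{u}} (U : X.ProEt) [IsAffine U.left] :
    EtPBC.IsWContractible ↥(Γ(U.left, ⊤)) ↔ ProEtS.IsWC U :=
  ⟨fun hA => wc_forward U hA, fun h => wc_backward U h⟩

end Groth.Agent.Lib.Helper29.ProEtWC
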