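import Mathlib
import Groth.Prelude.Def_PBC

/-!
# w-contractibility of localizations along specializations (helper29)

If `A` is w-contractible and `B = S⁻¹A` has image in `Spec A` the set of generalizations of
`V(E)` for a finite set `E`, then `B` is w-contractible.  Proof: for a faithfully flat weakly
étale `B`-algebra `C`, the `A`-algebra `C × ∏_{f ∈ E} A_f` is faithfully flat weakly étale, so has
a retraction; the idempotent `r (0, 1)` lies in the ideal generated by `E`, hence dies in `B`.
-/

set_option autoImplicit false
set_option linter.style.haveILetI false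
set_option linter.unusedSectionVars false
set_option maxHeartbeats 1600000

open TensorProduct

universe u

namespace Groth.Agent.Lib.Helper29.WContrLoc

/-- A binary product of flat modules is flat. -/
theorem flat_prod_module (R : Type*) (M N : Type*) [CommRing R] [AddCommGroup M] [AddCommGroup N]
    [Module R M] [Module R N] [Module.Flat R M] [Module.Flat R N] : Module.Flat R (M × N) := by
  rw [Module.Flat.iff_lTensor_preserves_injective_linearMap]
  intro Q Q' _ _ _ _ f hf
  rw [injective_iff_map_eq_zero]
  intro x hx
  have h1 : (LinearMap.fst R M N).rTensor Q x = 0 := by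
    have hinj : Function.Injective (f.lTensor M) :=
      Module.Flat.lTensor_preserves_injective_linearMap f hf
    have key : (f.lTensor M).comp ((LinearMap.fst R M N).rTensor Q) =
        ((LinearMap.fst R M N).rTensor Q').comp (f.lTensor (M × N)) := by
      rw [LinearMap.lTensor_comp_rTensor, LinearMap.rTensor_comp_lTensor]
    have h := LinearMap.congr_fun key x
    rw [LinearMap.comp_apply, LinearMap.comp_apply, hx, map_zero] at h
    exact hinj (h.trans (map_zero _).symm)
  have h2 : (LinearMap.snd R M N).rTensor Q x = 0 := by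
    have hinj : Function.Injective (f.lTensor N) :=
      Module.Flat.lTensor_preserves_injective_linearMap f hf
    have key : (f.lTensor N).comp ((LinearMap.snd R M N).rTensor Q) =
        ((LinearMap.snd R M N).rTensor Q').comp (f.lTensor (M × N)) := by
      rw [LinearMap.lTensor_comp_rTensor, LinearMap.rTensor_comp_lTensor]
    have h := LinearMap.congr_fun key x
    rw [LinearMap.comp_apply, LinearMap.comp_apply, hx, map_zero] at h
    exact hinj (h.trans (map_zero _).symm)
  have h3 : ∀ y : (M × N) ⊗[R] Q,
      y = (LinearMap.inl R M N).rTensor Q ((LinearMap.fst R M N).rTensor Q y) +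
        (LinearMap.inr R M N).rTensor Q ((LinearMap.snd R M N).rTensor Q y) := by
    intro y
    induction y using TensorProduct.induction_on with
    | zero => simp only [map_zero, add_zero]
    | tmul a q =>
      simp only [LinearMap.rTensor_tmul, LinearMap.fst_apply, LinearMap.snd_apply,
        LinearMap.inl_apply, LinearMap.inr_apply]
      rw [← TensorProduct.add_tmul, Prod.mk_add_mk, add_zero, zero_add]
    | add y₁ y₂ h₁ h₂ =>
      simp only [map_add]
      rw [add_add_add_comm, ← h₁, ← h₂]
  rw [h3 x, h1, h2, map_zero, map_zero, add_zero]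

/-- The product of two flat ring homs out of the same ring is flat. -/
theorem ringHom_flat_prod {P S T : Type*} [CommRing P] [CommRing S] [CommRing T]
    {g₁ : P →+* S} {g₂ : P →+* T} (h₁ : g₁.Flat) (h₂ : g₂.Flat) : (g₁.prod g₂).Flat := by
  letI := g₁.toAlgebra
  letI := g₂.toAlgebra
  haveI : Module.Flat P S := h₁
  haveI : Module.Flat P T := h₂
  have hfl : Module.Flat P (S × T) := flat_prod_module P S T
  have e : (g₁.prod g₂).toAlgebra = (inferInstance : Algebra P (S × T)) :=
    Algebra.algebra_ext _ _ (fun r => rfl)
  show @Module.Flat P (S × T) _ _ (g₁.prod g₂).toAlgebra.toModule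
  rw [e]
  exact hfl

theorem flat_fst (S T : Type*) [CommRing S] [CommRing T] : (RingHom.fst S T).Flat := by
  letI := (RingHom.fst S T).toAlgebra
  show Module.Flat (S × T) S
  exact IsLocalization.flat S (Submonoid.powers ((1, 0) : S × T))

theorem flat_snd (S T : Type*) [CommRing S] [CommRing T] : (RingHom.snd S T).Flat := by
  letI := (RingHom.snd S T).toAlgebra
  show Module.Flat (S × T) T
  exact IsLocalization.flat T (Submonoid.powers ((0, 1) : S × T))

/-- A binary product of weakly étale algebras is weakly étale. -/
theorem weaklyEtale_prod (R S T : Type u) [CommRing R] [CommRing S] [CommRing T]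
    [Algebra R S] [Algebra R T] [Algebra.WeaklyEtale R S] [Algebra.WeaklyEtale R T] :
    Algebra.WeaklyEtale R (S × T) := by
  have hfst' : (AlgHom.fst R S T).Flat := flat_fst S T
  have hsnd' : (AlgHom.snd R S T).Flat := flat_snd S T
  have h1 : ((Algebra.TensorProduct.lmul' R (S := S)).toRingHom.comp
      (Algebra.TensorProduct.map (AlgHom.fst R S T) (AlgHom.fst R S T)).toRingHom).Flat :=
    RingHom.Flat.comp (RingHom.Flat.tensorProductMap hfst' hfst')
      (Algebra.WeaklyEtale.flat_lmul' R S)
  have h2 : ((Algebra.TensorProduct.lmul' R (S := T)).toRingHom.comp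
      (Algebra.TensorProduct.map (AlgHom.snd R S T) (AlgHom.snd R S T)).toRingHom).Flat :=
    RingHom.Flat.comp (RingHom.Flat.tensorProductMap hsnd' hsnd')
      (Algebra.WeaklyEtale.flat_lmul' R T)
  have heq : (Algebra.TensorProduct.lmul' R (S := S × T)).toRingHom =
      RingHom.prod ((Algebra.TensorProduct.lmul' R (S := S)).toRingHom.comp
        (Algebra.TensorProduct.map (AlgHom.fst R S T) (AlgHom.fst R S T)).toRingHom)
        ((Algebra.TensorProduct.lmul' R (S := T)).toRingHom.comp
        (Algebra.TensorProduct.map (AlgHom.snd R S T) (AlgHom.snd R S T)).toRingHom) := by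
    refine RingHom.ext fun x => ?_
    induction x using TensorProduct.induction_on with
    | zero => simp only [map_zero]
    | tmul a b =>
      simp only [AlgHom.toRingHom_eq_coe, RingHom.coe_coe, Algebra.TensorProduct.lmul'_apply_tmul,
        RingHom.prod_apply, RingHom.coe_comp, Function.comp_apply,
        Algebra.TensorProduct.map_tmul, AlgHom.fst_apply, AlgHom.snd_apply]
      rfl
    | add x y hx hy => simp only [map_add, hx, hy]
  haveI : Module.Flat R (S × T) := flat_prod_module R S T
  refine ⟨inferInstance, ?_⟩
  show (Algebra.TensorProduct.lmul' R (S := S × T)).toRingHom.Flat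
  rw [heq]
  exact ringHom_flat_prod h1 h2

/-- A localization is weakly étale. -/
theorem weaklyEtale_of_isLocalization {A B : Type u} [CommRing A] [CommRing B] [Algebra A B]
    (S : Submonoid A) [IsLocalization S B] : Algebra.WeaklyEtale A B := by
  haveI : Module.Flat A B := IsLocalization.flat B S
  refine ⟨inferInstance, ?_⟩
  apply RingHom.Flat.of_bijective
  exact IsLocalization.bijective_linearMap_mul' S B

/-- The finite product of the localizations `A_f`, `f ∈ E`. -/
abbrev DD (A : Type u) [CommRing A] (E : Finset A) : Type u :=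
  (f : E) → Localization.Away (f : A)

theorem main0707 (A B : Type u) [CommRing A] [CommRing B]
    [Algebra A B] (S : Submonoid A) [IsLocalization S B] (E : Finset A)
    (hB : Set.range (PrimeSpectrum.comap (algebraMap A B)) =
      {x | ∃ z : PrimeSpectrum A, z ∈ PrimeSpectrum.zeroLocus (R := A) E ∧ x ⤳ z})
    (hA : EtPBC.IsWContractible A) : EtPBC.IsWContractible B := by
  classical
  intro C _ _ hff hwe
  letI : Algebra A C := ((algebraMap B C).comp (algebraMap A B)).toAlgebra
  haveI : IsScalarTower A B C := IsScalarTower.of_algebraMap_eq (fun _ => rfl)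
  haveI : Algebra.WeaklyEtale A B := weaklyEtale_of_isLocalization S
  haveI : Algebra.WeaklyEtale B C := hwe
  haveI : Algebra.WeaklyEtale A C := Algebra.WeaklyEtale.trans A B C
  haveI : Module.FaithfullyFlat B C := hff
  haveI : ∀ f : E, Algebra.Etale A (Localization.Away (f : A)) :=
    fun f => Algebra.Etale.of_isLocalizationAway (f : A)
  haveI : Algebra.Etale A (DD A E) := inferInstance
  haveI : Algebra.WeaklyEtale A (DD A E) := inferInstance
  haveI : Algebra.WeaklyEtale A (C × DD A E) := weaklyEtale_prod A C (DD A E)
  haveI : Module.Flat A (C × DD A E) := inferInstance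
  have hsurj : Function.Surjective (PrimeSpectrum.comap (algebraMap A (C × DD A E))) := by
    intro p
    by_cases hp : p ∈ Set.range (PrimeSpectrum.comap (algebraMap A B))
    · obtain ⟨Q, rfl⟩ := hp
      obtain ⟨Q', rfl⟩ := PrimeSpectrum.comap_surjective_of_faithfullyFlat (A := B) (B := C) Q
      refine ⟨PrimeSpectrum.comap (RingHom.fst C (DD A E)) Q', ?_⟩
      rw [← PrimeSpectrum.comap_comp_apply, ← PrimeSpectrum.comap_comp_apply]
      rfl
    · have hpE : p ∉ PrimeSpectrum.zeroLocus (R := A) E := by
        intro hpE
        apply hp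
        rw [hB]
        exact ⟨p, hpE, specializes_rfl⟩
      rw [PrimeSpectrum.mem_zeroLocus, Set.not_subset] at hpE
      obtain ⟨f, hfE, hfp⟩ := hpE
      have hpb : p ∈ Set.range (PrimeSpectrum.comap (algebraMap A (Localization.Away f))) := by
        rw [PrimeSpectrum.localization_away_comap_range (Localization.Away f) f]
        exact hfp
      obtain ⟨Q, rfl⟩ := hpb
      have hcomp : ((Pi.evalRingHom (fun g : E => Localization.Away (g : A))
          ⟨f, Finset.mem_coe.mp hfE⟩).comp (RingHom.snd C (DD A E))).comp
          (algebraMap A (C × DD A E)) = algebraMap A (Localization.Away f) :=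
        RingHom.ext fun a => rfl
      refine ⟨PrimeSpectrum.comap ((Pi.evalRingHom (fun g : E => Localization.Away (g : A))
        ⟨f, Finset.mem_coe.mp hfE⟩).comp (RingHom.snd C (DD A E))) Q, ?_⟩
      rw [← PrimeSpectrum.comap_comp_apply, hcomp]
  have hffA : Module.FaithfullyFlat A (C × DD A E) :=
    Module.FaithfullyFlat.of_comap_surjective hsurj
  obtain ⟨r⟩ := hA (C × DD A E) hffA inferInstance
  -- the idempotent `r (0, 1)` lies in the ideal generated by `E`
  have hsingle : ∀ f : E, r ((0 : C), (Pi.single f (1 : Localization.Away (f : A)) : DD A E)) ∈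
      Ideal.span (E : Set A) := by
    intro f
    have h1 : ((0 : C), (Pi.single f (1 : Localization.Away (f : A)) : DD A E)) =
        (f : A) • ((0 : C), (Pi.single f
          (IsLocalization.Away.invSelf (S := Localization.Away (f : A)) (f : A)) : DD A E)) := by
      rw [Prod.smul_mk, smul_zero, ← Pi.single_smul, Algebra.smul_def,
        IsLocalization.Away.mul_invSelf]
    rw [h1, map_smul, smul_eq_mul]
    exact Ideal.mul_mem_right _ _ (Ideal.subset_span f.2)
  have h01 : r ((0 : C), (1 : DD A E)) ∈ Ideal.span (E : Set A) := by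
    let ψ : DD A E →+ A := (r.toRingHom.toAddMonoidHom).comp (AddMonoidHom.inr C (DD A E))
    have h1 : (1 : DD A E) = ∑ f : E, Pi.single f (1 : Localization.Away (f : A)) :=
      (Finset.univ_sum_single (1 : DD A E)).symm
    have h2 : r ((0 : C), (1 : DD A E)) =
        ψ (∑ f : E, (Pi.single f (1 : Localization.Away (f : A)) : DD A E)) := by
      rw [← h1]; rfl
    rw [h2, map_sum]
    exact Ideal.sum_mem _ (fun f _ => hsingle f)
  have hidem : r ((0 : C), (1 : DD A E)) * r ((0 : C), (1 : DD A E)) =
      r ((0 : C), (1 : DD A E)) := by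
    rw [← map_mul, Prod.mk_mul_mk, mul_zero, mul_one]
  have h2 : r ((1 : C), (0 : DD A E)) + r ((0 : C), (1 : DD A E)) = 1 := by
    rw [← map_add, Prod.mk_add_mk, add_zero, zero_add, ← Prod.one_eq_mk, map_one]
  -- the image of `r (0, 1)` in `B` is zero
  have hf0 : algebraMap A B (r ((0 : C), (1 : DD A E))) = 0 := by
    set f := r ((0 : C), (1 : DD A E)) with hf
    have hnil : IsNilpotent (algebraMap A B f) := by
      rw [nilpotent_iff_mem_prime]
      intro Q hQ
      have hpW : PrimeSpectrum.comap (algebraMap A B) ⟨Q, hQ⟩ ∈
          Set.range (PrimeSpectrum.comap (algebraMap A B)) := ⟨_, rfl⟩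
      rw [hB] at hpW
      obtain ⟨z, hz, hpz⟩ := hpW
      have hzI : Ideal.span (E : Set A) ≤ z.asIdeal :=
        Ideal.span_le.mpr ((PrimeSpectrum.mem_zeroLocus _ _).mp hz)
      have hle : (PrimeSpectrum.comap (algebraMap A B) ⟨Q, hQ⟩).asIdeal ≤ z.asIdeal :=
        (PrimeSpectrum.le_iff_specializes _ _).mpr hpz
      by_contra hfQ
      have hfp : f ∉ (PrimeSpectrum.comap (algebraMap A B) ⟨Q, hQ⟩).asIdeal := hfQ
      have h1f : (1 - f) ∈ (PrimeSpectrum.comap (algebraMap A B) ⟨Q, hQ⟩).asIdeal := by
        have h0 : f * (1 - f) ∈ (PrimeSpectrum.comap (algebraMap A B) ⟨Q, hQ⟩).asIdeal := by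
          rw [mul_sub, mul_one, hidem, sub_self]; exact Ideal.zero_mem _
        exact ((PrimeSpectrum.comap (algebraMap A B) ⟨Q, hQ⟩).2.mem_or_mem h0).resolve_left hfp
      apply z.2.ne_top
      rw [Ideal.eq_top_iff_one]
      have : (1 : A) = f + (1 - f) := by ring
      rw [this]
      exact add_mem (hzI h01) (hle h1f)
    obtain ⟨n, hn⟩ := hnil
    have hidB : IsIdempotentElem (algebraMap A B f) := by
      change algebraMap A B f * algebraMap A B f = algebraMap A B f
      rw [← map_mul, hidem]
    rcases n with _ | n
    · rw [pow_zero] at hn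
      have : (algebraMap A B f) = algebraMap A B f * 1 := (mul_one _).symm
      rw [this, hn, mul_zero]
    · rw [hidB.pow_succ_eq] at hn
      exact hn
  have h10 : algebraMap A B (r ((1 : C), (0 : DD A E))) = 1 := by
    rw [← map_one (algebraMap A B), ← h2, map_add, hf0, add_zero]
  let ρ : C →+* B :=
    { toFun := fun c => algebraMap A B (r (c, (0 : DD A E)))
      map_one' := h10
      map_mul' := fun c c' => by
        rw [← map_mul, ← map_mul, Prod.mk_mul_mk, mul_zero]
      map_zero' := by
        rw [← Prod.zero_eq_mk, map_zero, map_zero]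
      map_add' := fun c c' => by
        rw [← map_add, ← map_add, Prod.mk_add_mk, add_zero] }
  have hρ : ρ.comp (algebraMap B C) = RingHom.id B := by
    apply IsLocalization.ringHom_ext S
    ext a
    change algebraMap A B (r (algebraMap A C a, (0 : DD A E))) = algebraMap A B a
    have h3 : (algebraMap A C a, (0 : DD A E)) = a • ((1 : C), (0 : DD A E)) := by
      rw [Prod.smul_mk, smul_zero, Algebra.smul_def, mul_one]
    rw [h3, map_smul, smul_eq_mul, map_mul, h10, mul_one]
  exact ⟨{ ρ with commutes' := fun b => congrArg (fun g => g b) hρ }⟩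

end Groth.Agent.Lib.Helper29.WContrLoc
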