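import Mathlib
import Groth.Prelude.Def_ProEtW
import Groth.Agent.Lib.Helper2.Spectral

/-!
# Fibre products of spectral spaces with profinite spaces over `π₀` (helper29)

* `connectedComponent_eq_iInter_isClopen'`: in a compact, prespectral, quasi-separated space the
  connected component of a point is the intersection of its clopen neighbourhoods;
* `t2Space_connectedComponents`: `π₀` of such a space is Hausdorff;
* `spectralSpace_prod`: spectral × profinite is spectral;
* `main0703`, `main0704`: the milestone statements S0703, S0704.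
-/

set_option autoImplicit false
set_option linter.style.haveILetI false
universe u

namespace Groth.Agent.Lib.Helper29.SpecProd

open Topology Set TopologicalSpace

section qcomp

variable {X : Type u} [TopologicalSpace X]

theorem exists_clopen_disjoint (x : X) {K : Set X} (hK : IsCompact K)
    (h : K ∩ ⋂ s : { s : Set X // IsClopen s ∧ x ∈ s }, (s : Set X) = ∅) :
    ∃ Z : Set X, IsClopen Z ∧ x ∈ Z ∧ K ∩ Z = ∅ := by
  obtain ⟨fin, hfin⟩ := hK.elim_finite_subfamily_closed
    (fun s : { s : Set X // IsClopen s ∧ x ∈ s } => (s : Set X)) (fun s => s.2.1.1) h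
  exact ⟨⋂ i ∈ fin, (i : Set X), isClopen_biInter_finset fun i _ => i.2.1,
    mem_iInter₂.2 fun i _ => i.2.2, hfin⟩

/-- In a compact prespectral quasi-separated space, connected components are quasi-components. -/
theorem connectedComponent_eq_iInter_isClopen' [CompactSpace X] [PrespectralSpace X]
    [QuasiSeparatedSpace X] (x : X) :
    connectedComponent x = ⋂ s : { s : Set X // IsClopen s ∧ x ∈ s }, (s : Set X) := by
  apply Subset.antisymm connectedComponent_subset_iInter_isClopen
  refine IsPreconnected.subset_connectedComponent ?_ (mem_iInter.2 fun s => s.2.2)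
  have hs : IsClosed (⋂ s : { s : Set X // IsClopen s ∧ x ∈ s }, (s : Set X)) :=
    isClosed_iInter fun s => s.2.1.1
  rw [isPreconnected_iff_subset_of_fully_disjoint_closed hs]
  intro a b ha hb hab ab_disj
  have hxS : x ∈ ⋂ s : { s : Set X // IsClopen s ∧ x ∈ s }, (s : Set X) :=
    mem_iInter.2 fun s => s.2.2
  obtain ⟨u, huc, huo, hau, hub⟩ := PrespectralSpace.exists_isCompact_and_isOpen_between
    ha.isCompact hb.isOpen_compl (fun p hp hpb => Set.disjoint_left.1 ab_disj hp hpb)
  obtain ⟨v, hvc, hvo, hbv, hva⟩ := PrespectralSpace.exists_isCompact_and_isOpen_between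
    hb.isCompact ha.isOpen_compl (fun p hp hpa => Set.disjoint_left.1 ab_disj hpa hp)
  have h1 : (u ∩ v) ∩ ⋂ s : { s : Set X // IsClopen s ∧ x ∈ s }, (s : Set X) = ∅ := by
    rw [Set.eq_empty_iff_forall_notMem]
    rintro p ⟨⟨hpu, hpv⟩, hpS⟩
    rcases hab hpS with hpa | hpb
    · exact hva hpv hpa
    · exact hub hpu hpb
  obtain ⟨Z₀, hZ₀, hxZ₀, hZ₀e⟩ :=
    exists_clopen_disjoint x (huc.inter_of_isOpen hvc huo hvo) h1
  have h2 : (u ∪ v)ᶜ ∩ ⋂ s : { s : Set X // IsClopen s ∧ x ∈ s }, (s : Set X) = ∅ := by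
    rw [Set.eq_empty_iff_forall_notMem]
    rintro p ⟨hp, hpS⟩
    apply hp
    rcases hab hpS with hpa | hpb
    · exact Or.inl (hau hpa)
    · exact Or.inr (hbv hpb)
  obtain ⟨Z₁, hZ₁, hxZ₁, hZ₁e⟩ :=
    exists_clopen_disjoint x (huo.union hvo).isClosed_compl.isCompact h2
  have hZ : IsClopen (Z₀ ∩ Z₁) := hZ₀.inter hZ₁
  have hcov : Z₀ ∩ Z₁ ⊆ (u ∩ Z₀) ∪ (v ∩ Z₀) := by
    rintro p ⟨hp0, hp1⟩
    have hpuv : p ∈ u ∪ v := by
      by_contra hn
      have hmem : p ∈ (u ∪ v)ᶜ ∩ Z₁ := ⟨hn, hp1⟩
      rw [hZ₁e] at hmem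
      exact hmem
    rcases hpuv with hpu | hpv
    · exact Or.inl ⟨hpu, hp0⟩
    · exact Or.inr ⟨hpv, hp0⟩
  have hdisj : Disjoint (u ∩ Z₀) (v ∩ Z₀) := by
    rw [Set.disjoint_left]
    rintro p ⟨hpu, hp0⟩ ⟨hpv, _⟩
    have hmem : p ∈ (u ∩ v) ∩ Z₀ := ⟨⟨hpu, hpv⟩, hp0⟩
    rw [hZ₀e] at hmem
    exact hmem
  have H1 := isClopen_inter_of_disjoint_cover_clopen hZ hcov (huo.inter hZ₀.isOpen)
    (hvo.inter hZ₀.isOpen) hdisj
  have H2 := isClopen_inter_of_disjoint_cover_clopen hZ (by rw [Set.union_comm]; exact hcov)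
    (hvo.inter hZ₀.isOpen) (huo.inter hZ₀.isOpen) hdisj.symm
  by_cases hxu : x ∈ u
  · left
    have hSu : (⋂ s : { s : Set X // IsClopen s ∧ x ∈ s }, (s : Set X)) ⊆ u := by
      intro p hp
      have hmem := mem_iInter.1 hp ⟨(Z₀ ∩ Z₁) ∩ (u ∩ Z₀), H1, ⟨⟨hxZ₀, hxZ₁⟩, hxu, hxZ₀⟩⟩
      exact hmem.2.1
    intro p hp
    rcases hab hp with hpa | hpb
    · exact hpa
    · exact absurd hpb (hub (hSu hp))
  · right
    have hxv : x ∈ v := by
      rcases hab hxS with hxa | hxb
      · exact absurd (hau hxa) hxu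
      · exact hbv hxb
    have hSv : (⋂ s : { s : Set X // IsClopen s ∧ x ∈ s }, (s : Set X)) ⊆ v := by
      intro p hp
      have hmem := mem_iInter.1 hp ⟨(Z₀ ∩ Z₁) ∩ (v ∩ Z₀), H2, ⟨⟨hxZ₀, hxZ₁⟩, hxv, hxZ₀⟩⟩
      exact hmem.2.1
    intro p hp
    rcases hab hp with hpa | hpb
    · exact absurd hpa (hva (hSv hp))
    · exact hpb

/-- `π₀` of a compact prespectral quasi-separated (e.g. spectral) space is Hausdorff. -/
theorem t2Space_connectedComponents [CompactSpace X] [PrespectralSpace X]
    [QuasiSeparatedSpace X] : T2Space (ConnectedComponents X) := by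
  refine ⟨ConnectedComponents.surjective_coe.forall₂.2 fun a b ne => ?_⟩
  rw [ConnectedComponents.coe_ne_coe] at ne
  have h := connectedComponent_disjoint ne
  rw [connectedComponent_eq_iInter_isClopen' b, disjoint_iff_inter_eq_empty] at h
  obtain ⟨U, V, hU, ha, hb, rfl⟩ : ∃ (U : Set X) (V : Set (ConnectedComponents X)),
      IsClopen U ∧ connectedComponent a ∩ U = ∅ ∧ connectedComponent b ⊆ U ∧ (↑) ⁻¹' V = U := by
    have h :=
      (isClosed_connectedComponent (α := X)).isCompact.elim_finite_subfamily_closed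
        _ (fun s : { s : Set X // IsClopen s ∧ b ∈ s } => s.2.1.1) h
    obtain ⟨fin_a, ha⟩ := h
    set U : Set X := ⋂ (i : { s // IsClopen s ∧ b ∈ s }) (_ : i ∈ fin_a), i
    have hU : IsClopen U := isClopen_biInter_finset fun i _ => i.2.1
    exact ⟨U, (↑) '' U, hU, ha, subset_iInter₂ fun s _ => s.2.1.connectedComponent_subset s.2.2,
      (connectedComponents_preimage_image U).symm ▸ hU.biUnion_connectedComponent_eq⟩
  rw [ConnectedComponents.isQuotientMap_coe.isClopen_preimage] at hU
  refine ⟨Vᶜ, V, hU.compl.isOpen, hU.isOpen, ?_, hb mem_connectedComponent, disjoint_compl_left⟩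
  exact fun h => flip Set.Nonempty.ne_empty ha ⟨a, mem_connectedComponent, h⟩

end qcomp

section prod

variable {X : Type u} [TopologicalSpace X] {T : Type u} [TopologicalSpace T]

theorem quasiSober_prod [QuasiSober X] [T2Space T] : QuasiSober (X × T) := by
  refine ⟨fun {S} hS hSc => ?_⟩
  obtain ⟨⟨x₁, t₀⟩, hp⟩ := hS.nonempty
  have hsub : ∀ p ∈ S, p.2 = t₀ := by
    intro p hp'
    have hirr : IsPreirreducible (Prod.snd '' S) :=
      hS.isPreirreducible.image _ continuous_snd.continuousOn
    exact hirr.subsingleton ⟨p, hp', rfl⟩ ⟨(x₁, t₀), hp, rfl⟩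
  have hcont : Continuous (fun x : X => (x, t₀)) := by fun_prop
  have hS₁c : IsClosed ((fun x : X => (x, t₀)) ⁻¹' S) := hSc.preimage hcont
  have hS₁eq : (fun x : X => (x, t₀)) ⁻¹' S = Prod.fst '' S := by
    ext x
    constructor
    · intro hx
      exact ⟨(x, t₀), hx, rfl⟩
    · rintro ⟨p, hp', rfl⟩
      show (p.1, t₀) ∈ S
      rw [← hsub p hp']
      exact hp'
  have hS₁i : IsIrreducible ((fun x : X => (x, t₀)) ⁻¹' S) := by
    rw [hS₁eq]
    exact hS.image _ continuous_fst.continuousOn
  obtain ⟨x₀, hx₀⟩ := QuasiSober.sober hS₁i hS₁c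
  refine ⟨(x₀, t₀), ?_⟩
  show closure {(x₀, t₀)} = S
  rw [← Set.singleton_prod_singleton, closure_prod_eq, hx₀.def, closure_singleton]
  ext ⟨x, t⟩
  constructor
  · rintro ⟨hx, ht⟩
    rw [Set.mem_singleton_iff] at ht
    subst ht
    exact hx
  · intro h
    have ht : t = t₀ := hsub _ h
    subst ht
    exact ⟨h, rfl⟩

theorem spectralSpace_prod [SpectralSpace X] [CompactSpace T] [T2Space T]
    [TotallyDisconnectedSpace T] : SpectralSpace (X × T) := by
  let ι := {U : Set X // IsOpen U ∧ IsCompact U} × {V : Set T // IsClopen V}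
  let b : ι → Set (X × T) := fun i => (i.1 : Set X) ×ˢ (i.2 : Set T)
  have hrange : Set.range b
      = Set.image2 (· ×ˢ ·) {U : Set X | IsOpen U ∧ IsCompact U} {V : Set T | IsClopen V} := by
    ext W
    constructor
    · rintro ⟨i, rfl⟩
      exact ⟨i.1.1, i.1.2, i.2.1, i.2.2, rfl⟩
    · rintro ⟨U, hU, V, hV, rfl⟩
      exact ⟨(⟨U, hU⟩, ⟨V, hV⟩), rfl⟩
  have hbasis : IsTopologicalBasis (Set.range b) := by
    rw [hrange]
    exact (PrespectralSpace.isTopologicalBasis (X := X)).prod isTopologicalBasis_isClopen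
  have hcomp : ∀ i j, IsCompact (b i ∩ b j) := by
    intro i j
    show IsCompact (((i.1 : Set X) ×ˢ (i.2 : Set T)) ∩ ((j.1 : Set X) ×ˢ (j.2 : Set T)))
    rw [Set.prod_inter_prod]
    exact (i.1.2.2.inter_of_isOpen j.1.2.2 i.1.2.1 j.1.2.1).prod
      (i.2.2.1.inter j.2.2.1).isCompact
  have hqs : QuasiSober (X × T) := quasiSober_prod
  have hqsep : QuasiSeparatedSpace (X × T) := QuasiSeparatedSpace.of_isTopologicalBasis hbasis hcomp
  have hpre : PrespectralSpace (X × T) :=
    PrespectralSpace.of_isTopologicalBasis' hbasis (fun i => by simpa using hcomp i i)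
  exact { (inferInstance : T0Space (X × T)), (inferInstance : CompactSpace (X × T)),
    hqs, hqsep, hpre with }

end prod

section fibre

variable (X T : Type u) [TopologicalSpace X] [TopologicalSpace T] [CompactSpace T] [T2Space T]
  [TotallyDisconnectedSpace T]

theorem isClosed_fibreProd [CompactSpace X] [PrespectralSpace X] [QuasiSeparatedSpace X]
    (g : C(T, ConnectedComponents X)) :
    IsClosed {p : X × T | ConnectedComponents.mk p.1 = g p.2} := by
  haveI : T2Space (ConnectedComponents X) := t2Space_connectedComponents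
  exact isClosed_eq (ConnectedComponents.continuous_coe.comp continuous_fst)
    (g.continuous.comp continuous_snd)

theorem main0703 [SpectralSpace X] (g : C(T, ConnectedComponents X)) :
    SpectralSpace {p : X × T // ConnectedComponents.mk p.1 = g p.2} ∧
      ∃ e : ConnectedComponents {p : X × T // ConnectedComponents.mk p.1 = g p.2} ≃ₜ T,
        ∀ y : {p : X × T // ConnectedComponents.mk p.1 = g p.2},
          e (ConnectedComponents.mk y) = y.1.2 := by
  haveI : SpectralSpace (X × T) := spectralSpace_prod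
  have hclosed := isClosed_fibreProd X T g
  have hemb : IsClosedEmbedding
      (Subtype.val : {p : X × T // ConnectedComponents.mk p.1 = g p.2} → X × T) :=
    hclosed.isClosedEmbedding_subtypeVal
  haveI hY : SpectralSpace {p : X × T // ConnectedComponents.mk p.1 = g p.2} :=
    Groth.Agent.Lib.Helper2.spectralSpace_of_isClosedEmbedding hemb
  refine ⟨hY, ?_⟩
  have hq : Continuous (fun y : {p : X × T // ConnectedComponents.mk p.1 = g p.2} => y.1.2) :=
    continuous_snd.comp continuous_subtype_val
  have hsurj : Function.Surjective hq.connectedComponentsLift := by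
    intro t
    obtain ⟨x, hx⟩ := ConnectedComponents.surjective_coe (g t)
    refine ⟨ConnectedComponents.mk ⟨(x, t), hx⟩, ?_⟩
    rw [Continuous.connectedComponentsLift_apply_coe]
  have hinj : Function.Injective hq.connectedComponentsLift := by
    intro a b hab
    obtain ⟨y, rfl⟩ := ConnectedComponents.surjective_coe a
    obtain ⟨y', rfl⟩ := ConnectedComponents.surjective_coe b
    rw [Continuous.connectedComponentsLift_apply_coe,
      Continuous.connectedComponentsLift_apply_coe] at hab
    rw [ConnectedComponents.coe_eq_coe']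
    -- the fibre over `t = y'.1.2` is connected
    haveI : PreconnectedSpace (connectedComponent y'.1.1) :=
      isPreconnected_iff_preconnectedSpace.1 isPreconnected_connectedComponent
    have hmemC : ∀ c : connectedComponent y'.1.1,
        ConnectedComponents.mk (c : X) = g y'.1.2 := by
      intro c
      rw [← y'.2]
      exact ConnectedComponents.coe_eq_coe'.2 c.2
    let φ : connectedComponent y'.1.1 → {p : X × T // ConnectedComponents.mk p.1 = g p.2} :=
      fun c => ⟨((c : X), y'.1.2), hmemC c⟩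
    have hφ : Continuous φ :=
      Continuous.subtype_mk (continuous_subtype_val.prodMk continuous_const) _
    have hpre : IsPreconnected (Set.range φ) := isPreconnected_range hφ
    have hy' : y' ∈ Set.range φ := ⟨⟨y'.1.1, mem_connectedComponent⟩, rfl⟩
    have hyC : y.1.1 ∈ connectedComponent y'.1.1 := by
      rw [← ConnectedComponents.coe_eq_coe']
      have e1 : ConnectedComponents.mk y.1.1 = g y.1.2 := y.2
      have e2 : ConnectedComponents.mk y'.1.1 = g y'.1.2 := y'.2
      rw [e1, e2]
      exact congrArg g hab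
    have hy : y ∈ Set.range φ := by
      refine ⟨⟨y.1.1, hyC⟩, ?_⟩
      apply Subtype.ext
      apply Prod.ext
      · rfl
      · exact hab.symm
    exact hpre.subset_connectedComponent hy' hy
  let e₀ : ConnectedComponents {p : X × T // ConnectedComponents.mk p.1 = g p.2} ≃ T :=
    Equiv.ofBijective _ ⟨hinj, hsurj⟩
  have he₀ : Continuous e₀ := hq.connectedComponentsLift_continuous
  refine ⟨he₀.homeoOfEquivCompactToT2, fun y => ?_⟩
  show hq.connectedComponentsLift (ConnectedComponents.mk y) = y.1.2
  exact hq.connectedComponentsLift_apply_coe y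

theorem main0704 (hX : ProEtW.IsWLocal X) (g : C(T, ConnectedComponents X)) :
    ProEtW.IsWLocal {p : X × T // ConnectedComponents.mk p.1 = g p.2} ∧
      ProEtW.IsWLocalMap
        (fun y : {p : X × T // ConnectedComponents.mk p.1 = g p.2} => y.1.1) ∧
      ProEtW.closedPoints {p : X × T // ConnectedComponents.mk p.1 = g p.2} =
        (fun y : {p : X × T // ConnectedComponents.mk p.1 = g p.2} => y.1.1) ⁻¹'
          ProEtW.closedPoints X := by
  obtain ⟨hXs, hXc, hXu⟩ := hX
  haveI := hXs
  have hclosed := isClosed_fibreProd X T g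
  have hemb : IsClosedEmbedding
      (Subtype.val : {p : X × T // ConnectedComponents.mk p.1 = g p.2} → X × T) :=
    hclosed.isClosedEmbedding_subtypeVal
  have hYs := (main0703 X T g).1
  have hcp : ∀ y : {p : X × T // ConnectedComponents.mk p.1 = g p.2},
      IsClosed ({y} : Set {p : X × T // ConnectedComponents.mk p.1 = g p.2})
        ↔ IsClosed ({y.1.1} : Set X) := by
    intro y
    constructor
    · intro hy
      have h1 : IsClosed (Subtype.val ''
          ({y} : Set {p : X × T // ConnectedComponents.mk p.1 = g p.2})) :=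
        hemb.isClosedMap _ hy
      rw [Set.image_singleton] at h1
      have hcont : Continuous (fun x : X => (x, y.1.2)) := by fun_prop
      have h2 : IsClosed ((fun x : X => (x, y.1.2)) ⁻¹' {y.1}) := h1.preimage hcont
      convert h2 using 1
      ext x
      simp only [Set.mem_singleton_iff, Set.mem_preimage]
      constructor
      · rintro rfl
        rfl
      · intro h
        exact congrArg Prod.fst h
    · intro hx
      have h1 : IsClosed (({y.1.1} : Set X) ×ˢ ({y.1.2} : Set T)) := hx.prod isClosed_singleton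
      have h2 : IsClosed ((Subtype.val :
          {p : X × T // ConnectedComponents.mk p.1 = g p.2} → X × T) ⁻¹'
            (({y.1.1} : Set X) ×ˢ ({y.1.2} : Set T))) := h1.preimage continuous_subtype_val
      convert h2 using 1
      ext z
      simp only [Set.mem_singleton_iff, Set.mem_preimage, Set.mem_prod]
      constructor
      · rintro rfl
        exact ⟨rfl, rfl⟩
      · rintro ⟨h1, h2⟩
        exact Subtype.ext (Prod.ext h1 h2)
  have hcp' : ProEtW.closedPoints {p : X × T // ConnectedComponents.mk p.1 = g p.2} =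
      (fun y : {p : X × T // ConnectedComponents.mk p.1 = g p.2} => y.1.1) ⁻¹'
        ProEtW.closedPoints X := by
    ext y
    exact hcp y
  have hcont1 : Continuous
      (fun y : {p : X × T // ConnectedComponents.mk p.1 = g p.2} => y.1.1) :=
    continuous_fst.comp continuous_subtype_val
  have hmap : ProEtW.IsWLocalMap
      (fun y : {p : X × T // ConnectedComponents.mk p.1 = g p.2} => y.1.1) := by
    refine ⟨⟨hcont1, ?_⟩, fun y hy => (hcp y).1 hy⟩
    intro U _ hUc
    have e : (fun y : {p : X × T // ConnectedComponents.mk p.1 = g p.2} => y.1.1) ⁻¹' U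
        = Subtype.val ⁻¹' (U ×ˢ (Set.univ : Set T)) := by
      ext y
      simp
    rw [e]
    exact hemb.isCompact_preimage (hUc.prod isCompact_univ)
  refine ⟨⟨hYs, ?_, ?_⟩, hmap, hcp'⟩
  · have e : {y : {p : X × T // ConnectedComponents.mk p.1 = g p.2} | IsClosed ({y} : Set _)}
        = (fun y : {p : X × T // ConnectedComponents.mk p.1 = g p.2} => y.1.1) ⁻¹'
          {x : X | IsClosed ({x} : Set X)} := by
      ext y
      exact hcp y
    rw [e]
    exact hXc.preimage hcont1
  · intro y
    obtain ⟨x₀, ⟨hx₀c, hx₀s⟩, hx₀u⟩ := hXu y.1.1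
    have hmem : ConnectedComponents.mk x₀ = g y.1.2 := by
      rw [← y.2, ConnectedComponents.coe_eq_coe']
      have hpre : IsPreconnected (closure ({y.1.1} : Set X)) := isPreconnected_singleton.closure
      exact hpre.subset_connectedComponent (subset_closure rfl) hx₀s.mem_closure
    refine ⟨⟨(x₀, y.1.2), hmem⟩, ⟨(hcp _).2 hx₀c, ?_⟩, ?_⟩
    · rw [← hemb.isInducing.specializes_iff]
      show (y.1.1, y.1.2) ⤳ (x₀, y.1.2)
      rw [specializes_prod]
      exact ⟨hx₀s, specializes_rfl⟩
    · rintro z ⟨hzc, hzs⟩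
      have hzs' : (y.1.1, y.1.2) ⤳ (z.1.1, z.1.2) := hemb.isInducing.specializes_iff.2 hzs
      rw [specializes_prod] at hzs'
      have ht : y.1.2 = z.1.2 := specializes_iff_eq.1 hzs'.2
      have hx : z.1.1 = x₀ := hx₀u z.1.1 ⟨(hcp z).1 hzc, hzs'.1⟩
      exact Subtype.ext (Prod.ext hx ht.symm)

end fibre

end Groth.Agent.Lib.Helper29.SpecProd
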