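import Mathlib
import Groth.Prelude.Def_PBC
import Groth.Agent.Lib.Helper29.SpecProd

/-!
# Ind-Zariski quotients cut out by idempotents (helper29)

For a closed subset `T` of `π₀(Spec A)`, the quotient of `A` by the ideal generated by the
`1 - e`, `e` idempotent with `mk ⁻¹' T ⊆ D(e)`, is an ind-Zariski quotient of `A` whose spectrum is
the preimage of `T`.
-/

set_option autoImplicit false
set_option linter.style.haveILetI false
set_option linter.unusedSectionVars false

universe u

open CategoryTheory CategoryTheory.Limits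

namespace Groth.Agent.Lib.Helper29.IndZarQuot

/-! ### general lemmas on `Under R` -/

lemma under_w_apply {R : CommRingCat.{u}} {X Y : Under R} (f : X ⟶ Y) (a : R) :
    f.right.hom (X.hom.hom a) = Y.hom.hom a := by
  have h := Under.w f
  have h2 := congrArg (fun φ : R ⟶ Y.right => φ.hom a) h
  exact h2

lemma under_hom_ext {R : CommRingCat.{u}} {X Y : Under R}
    (hX : Function.Surjective X.hom.hom) (f g : X ⟶ Y) : f = g := by
  apply Under.UnderMorphism.ext
  apply CommRingCat.hom_ext
  apply RingHom.ext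
  intro x
  obtain ⟨a, rfl⟩ := hX x
  exact (under_w_apply f a).trans (under_w_apply g a).symm

section

variable (A : Type u) [CommRing A] (Z : Set (PrimeSpectrum A))

/-- Idempotents whose basic open contains `Z`. -/
def Idx : Type u :=
  {e : A // IsIdempotentElem e ∧ ∀ x ∈ Z, e ∉ x.asIdeal}

instance : Preorder (Idx A Z) where
  le a b := a.1 * b.1 = b.1
  le_refl a := a.2.1
  le_trans a b c hab hbc := by
    change a.1 * c.1 = c.1
    change a.1 * b.1 = b.1 at hab
    change b.1 * c.1 = c.1 at hbc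
    calc a.1 * c.1 = a.1 * (b.1 * c.1) := by rw [hbc]
      _ = (a.1 * b.1) * c.1 := by ring
      _ = c.1 := by rw [hab, hbc]

instance : Nonempty (Idx A Z) :=
  ⟨⟨1, IsIdempotentElem.one, fun x _ h => x.isPrime.ne_top ((Ideal.eq_top_iff_one _).mpr h)⟩⟩

instance : IsDirectedOrder (Idx A Z) :=
  ⟨fun a b => ⟨⟨a.1 * b.1, a.2.1.mul b.2.1, fun x hx h =>
      (x.isPrime.mem_or_mem h).elim (a.2.2 x hx) (b.2.2 x hx)⟩,
    (by change a.1 * (a.1 * b.1) = a.1 * b.1; rw [← mul_assoc, a.2.1.eq]),
    (by change b.1 * (a.1 * b.1) = a.1 * b.1; rw [mul_left_comm, b.2.1.eq])⟩⟩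

/-- The ideal generated by the complementary idempotents. -/
def idl : Ideal A := Ideal.span (Set.range fun j : Idx A Z => 1 - j.1)

lemma one_sub_mem_idl (j : Idx A Z) : 1 - j.1 ∈ idl A Z :=
  Ideal.subset_span ⟨j, rfl⟩

lemma span_le_idl (j : Idx A Z) : Ideal.span {1 - j.1} ≤ idl A Z := by
  rw [Ideal.span_singleton_le_iff_mem]
  exact one_sub_mem_idl A Z j

lemma span_le_of_le {i j : Idx A Z} (h : i ≤ j) :
    Ideal.span {1 - i.1} ≤ Ideal.span {1 - j.1} := by
  rw [Ideal.span_singleton_le_iff_mem, Ideal.mem_span_singleton']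
  refine ⟨1 - i.1, ?_⟩
  have h' : i.1 * j.1 = j.1 := h
  linear_combination h'

/-- The objects of the diagram. -/
def Dobj (j : Idx A Z) : Under (CommRingCat.of A) :=
  Under.mk (CommRingCat.ofHom (Ideal.Quotient.mk (Ideal.span {1 - j.1})))

lemma Dobj_surj (j : Idx A Z) : Function.Surjective (Dobj A Z j).hom.hom :=
  Ideal.Quotient.mk_surjective

/-- A morphism of `Under` objects from a ring hom. -/
def mkHom {S S' : Type u} [CommRing S] [CommRing S'] (f : A →+* S) (f' : A →+* S')
    (g : S →+* S') (h : g.comp f = f') :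
    (Under.mk (CommRingCat.ofHom f) : Under (CommRingCat.of A)) ⟶
      Under.mk (CommRingCat.ofHom f') :=
  Under.homMk (CommRingCat.ofHom g) (by
    subst h
    rfl)

/-- The diagram. -/
def D : Idx A Z ⥤ Under (CommRingCat.of A) where
  obj j := Dobj A Z j
  map {i j} f := mkHom A _ _ (Ideal.Quotient.factor (span_le_of_le A Z (leOfHom f)))
    (RingHom.ext fun _ => rfl)
  map_id i := under_hom_ext (Dobj_surj A Z i) _ _
  map_comp f g := under_hom_ext (Dobj_surj A Z _) _ _

/-- The cocone. -/
def coc : Cocone (D A Z) where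
  pt := Under.mk (CommRingCat.ofHom (algebraMap A (A ⧸ idl A Z)))
  ι :=
    { app := fun j => mkHom A _ _ (Ideal.Quotient.factor (span_le_idl A Z j))
        (RingHom.ext fun _ => rfl)
      naturality := fun i j f => under_hom_ext (Dobj_surj A Z i) _ _ }

lemma pt_surj : Function.Surjective (coc A Z).pt.hom.hom :=
  Ideal.Quotient.mk_surjective

/-- The structure map of a cocone point as a ring hom out of `A`. -/
def sHom (s : Cocone (D A Z)) : A →+* s.pt.right := s.pt.hom.hom

lemma idl_le_ker (s : Cocone (D A Z)) : idl A Z ≤ RingHom.ker (sHom A Z s) := by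
  unfold idl
  rw [Ideal.span_le]
  rintro _ ⟨j, rfl⟩
  change (1 - j.1) ∈ RingHom.ker (sHom A Z s)
  rw [RingHom.mem_ker]
  have h := under_w_apply (s.ι.app j) (1 - j.1)
  have h0 : Ideal.Quotient.mk (Ideal.span {1 - j.1}) (1 - j.1) = 0 :=
    Ideal.Quotient.eq_zero_iff_mem.mpr (Ideal.mem_span_singleton_self _)
  have h3 : (s.ι.app j).right.hom (Ideal.Quotient.mk (Ideal.span {1 - j.1}) (1 - j.1)) =
      sHom A Z s (1 - j.1) := h
  rw [← h3, h0]
  exact map_zero _

/-- The descent morphism. -/
def descHom (s : Cocone (D A Z)) : (coc A Z).pt ⟶ s.pt :=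
  Under.homMk (CommRingCat.ofHom (Ideal.Quotient.lift (idl A Z) (sHom A Z s)
      (fun _ ha => RingHom.mem_ker.mp (idl_le_ker A Z s ha))))
    (by
      apply CommRingCat.hom_ext
      apply RingHom.ext
      intro x
      rfl)

/-- The cocone is colimiting. -/
def isCol : IsColimit (coc A Z) where
  desc s := descHom A Z s
  fac s j := under_hom_ext (Dobj_surj A Z j) _ _
  uniq s m _ := under_hom_ext (pt_surj A Z) _ _

end

section

variable (A : Type u) [CommRing A]

lemma isLocalIso_quot (e : A) (he : IsIdempotentElem e) :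
    letI := (Ideal.Quotient.mk (Ideal.span {1 - e})).toAlgebra
    Algebra.IsLocalIso A (A ⧸ Ideal.span {1 - e}) := by
  letI alg : Algebra A (A ⧸ Ideal.span {1 - e}) :=
    (Ideal.Quotient.mk (Ideal.span {1 - e})).toAlgebra
  have h1 : IsLocalization.Away e (A ⧸ Ideal.span {1 - e}) :=
    IsLocalization.away_of_isIdempotentElem he Ideal.mk_ker Ideal.Quotient.mk_surjective
  haveI : Algebra.IsStandardOpenImmersion A (A ⧸ Ideal.span {1 - e}) := ⟨e, h1⟩
  infer_instance

lemma zeroLocus_idl (T : Set (_root_.ConnectedComponents (PrimeSpectrum A))) (hT : IsClosed T) :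
    PrimeSpectrum.zeroLocus (idl A (_root_.ConnectedComponents.mk ⁻¹' T) : Set A) =
      _root_.ConnectedComponents.mk ⁻¹' T := by
  haveI : T2Space (_root_.ConnectedComponents (PrimeSpectrum A)) :=
    Groth.Agent.Lib.Helper29.SpecProd.t2Space_connectedComponents
  ext x
  rw [PrimeSpectrum.mem_zeroLocus]
  constructor
  · intro hx
    by_contra hxZ
    have hxT : (_root_.ConnectedComponents.mk x) ∈ Tᶜ := hxZ
    obtain ⟨W, hW, hxW, hWT⟩ := compact_exists_isClopen_in_isOpen hT.isOpen_compl hxT
    have hV : IsClopen (_root_.ConnectedComponents.mk ⁻¹' Wᶜ : Set (PrimeSpectrum A)) :=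
      hW.compl.preimage _root_.ConnectedComponents.continuous_coe
    obtain ⟨e, he, hVe⟩ := PrimeSpectrum.isClopen_iff.mp hV
    have hmem : ∀ y : PrimeSpectrum A,
        y ∈ (_root_.ConnectedComponents.mk ⁻¹' Wᶜ : Set (PrimeSpectrum A)) ↔ e ∉ y.asIdeal := by
      intro y
      rw [hVe]
      exact PrimeSpectrum.mem_basicOpen e y
    let j : Idx A (_root_.ConnectedComponents.mk ⁻¹' T) :=
      ⟨e, he, fun y hy => (hmem y).mp (fun hyW => hWT hyW hy)⟩
    have h1 : 1 - e ∈ x.asIdeal := hx (one_sub_mem_idl A _ j)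
    have h2 : e ∈ x.asIdeal := by
      by_contra h
      exact ((hmem x).mpr h) hxW
    have h3 : (1 : A) ∈ x.asIdeal := by
      have := x.asIdeal.add_mem h1 h2
      simpa using this
    exact x.isPrime.ne_top ((Ideal.eq_top_iff_one _).mpr h3)
  · intro hx
    have hle : idl A (_root_.ConnectedComponents.mk ⁻¹' T) ≤ x.asIdeal := by
      unfold idl
      rw [Ideal.span_le]
      rintro _ ⟨j, rfl⟩
      have hj : j.1 ∉ x.asIdeal := j.2.2 x hx
      have h0 : j.1 * (1 - j.1) ∈ x.asIdeal := by
        have h00 : j.1 * (1 - j.1) = 0 := by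
          have := j.2.1.eq
          rw [mul_sub, mul_one, this, sub_self]
        rw [h00]; exact x.asIdeal.zero_mem
      exact (x.isPrime.mem_or_mem h0).resolve_left hj
    exact hle

theorem main0698 (T : Set (_root_.ConnectedComponents (PrimeSpectrum A))) (hT : IsClosed T) :
    ∃ (B : Type u) (_ : CommRing B) (_ : Algebra A B),
      EtPBC.IsIndZariski A B ∧ Function.Surjective (algebraMap A B) ∧
      Topology.IsEmbedding (PrimeSpectrum.comap (algebraMap A B)) ∧
      Set.range (PrimeSpectrum.comap (algebraMap A B)) = _root_.ConnectedComponents.mk ⁻¹' T := by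
  have hs : Function.Surjective (algebraMap A (A ⧸ idl A (_root_.ConnectedComponents.mk ⁻¹' T))) :=
    Ideal.Quotient.mk_surjective
  refine ⟨A ⧸ idl A (_root_.ConnectedComponents.mk ⁻¹' T), inferInstance, inferInstance, ?_, hs, ?_, ?_⟩
  · unfold EtPBC.IsIndZariski
    exact ⟨Idx A _, inferInstance, inferInstance, D A _, coc A _, isCol A _,
      fun j => isLocalIso_quot A j.1 j.2.1, ⟨Iso.refl _⟩⟩
  · exact (PrimeSpectrum.isClosedEmbedding_comap_of_surjective _ _ hs).isEmbedding
  · rw [_root_.range_comap_of_surjective _ _ hs]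
    have hk : RingHom.ker (algebraMap A (A ⧸ idl A (_root_.ConnectedComponents.mk ⁻¹' T))) =
        idl A (_root_.ConnectedComponents.mk ⁻¹' T) := Ideal.mk_ker
    rw [hk]
    exact zeroLocus_idl A T hT

end

end Groth.Agent.Lib.Helper29.IndZarQuot
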