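import Mathlib
import Groth.Agent.Lib.Helper29.SpecProd
import Groth.Agent.Lib.Helper29.IndZarQuot

/-!
# The spectrum of the ring of locally constant functions `T → A` (helper29)

For a profinite space `T` the spectrum of `LocallyConstant T A` is `Spec A × T`; we construct the
comparison map `psi`, prove that it is a bijective embedding, and cut out the fibre product with
`T` over `π₀ (Spec A)` by idempotents.
-/

set_option autoImplicit false
set_option linter.style.haveILetI false
set_option linter.unusedSectionVars false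
set_option maxHeartbeats 1600000

universe u

open Topology

namespace Groth.Agent.Lib.Helper29.LCSpec

open Groth.Agent.Lib.Helper29.IndZarQuot

variable {A : Type u} [CommRing A] {T : Type u} [TopologicalSpace T]

lemma chi_mem {U : Set T} (hU : IsClopen U) {t : T} (ht : t ∈ U) :
    LocallyConstant.charFn A hU t = 1 := by
  rw [LocallyConstant.coe_charFn, Set.indicator_of_mem ht]
  rfl

lemma chi_notMem {U : Set T} (hU : IsClopen U) {t : T} (ht : t ∉ U) :
    LocallyConstant.charFn A hU t = 0 := by
  rw [LocallyConstant.coe_charFn, Set.indicator_of_notMem ht]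

lemma chi_mul_compl {U : Set T} (hU : IsClopen U) :
    LocallyConstant.charFn A hU * LocallyConstant.charFn A hU.compl = 0 := by
  ext t
  have h1 : (LocallyConstant.charFn A hU * LocallyConstant.charFn A hU.compl) t =
      LocallyConstant.charFn A hU t * LocallyConstant.charFn A hU.compl t := rfl
  rw [h1]
  by_cases ht : t ∈ U
  · rw [chi_notMem hU.compl (fun h => h ht), mul_zero]
    rfl
  · rw [chi_notMem hU ht, zero_mul]
    rfl

section compact

variable [CompactSpace T]

lemma exists_pt (x : PrimeSpectrum (LocallyConstant T A)) :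
    ∃ t : T, ∀ (U : Set T) (hU : IsClopen U), t ∈ U →
      LocallyConstant.charFn A hU ∉ x.asIdeal := by
  by_contra h
  push_neg at h
  choose U hU htU hmem using h
  obtain ⟨s, hs⟩ := CompactSpace.elim_nhds_subcover U (fun t => (hU t).isOpen.mem_nhds (htU t))
  have hprod : ∏ t ∈ s, (1 - LocallyConstant.charFn A (hU t)) = 0 := by
    ext t'
    have ht' : t' ∈ ⋃ t ∈ s, U t := by
      rw [hs]
      exact Set.mem_univ t'
    simp only [Set.mem_iUnion, exists_prop] at ht'
    obtain ⟨t, hts, ht't⟩ := ht'
    have h1 : (∏ t ∈ s, (1 - LocallyConstant.charFn A (hU t))) t' =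
        ∏ t ∈ s, (1 - LocallyConstant.charFn A (hU t) t') :=
      map_prod (LocallyConstant.evalRingHom (Y := A) t')
        (fun t => 1 - LocallyConstant.charFn A (hU t)) s
    rw [h1]
    have h2 : (1 - LocallyConstant.charFn A (hU t) t') = 0 := by
      rw [chi_mem (hU t) ht't, sub_self]
    rw [Finset.prod_eq_zero hts h2]
    rfl
  have h1 : Ideal.Quotient.mk x.asIdeal (∏ t ∈ s, (1 - LocallyConstant.charFn A (hU t))) = 1 := by
    rw [map_prod]
    apply Finset.prod_eq_one
    intro t _
    rw [map_sub, map_one, Ideal.Quotient.eq_zero_iff_mem.mpr (hmem t), sub_zero]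
  rw [hprod, map_zero] at h1
  have h2 : (1 : LocallyConstant T A) ∈ x.asIdeal := by
    rw [← Ideal.Quotient.eq_zero_iff_mem, map_one]
    exact h1.symm
  exact x.isPrime.ne_top ((Ideal.eq_top_iff_one _).mpr h2)

/-- The `T`-coordinate of a prime of `LocallyConstant T A`. -/
noncomputable def tau (x : PrimeSpectrum (LocallyConstant T A)) : T :=
  Classical.choose (exists_pt x)

lemma tau_spec (x : PrimeSpectrum (LocallyConstant T A)) {U : Set T} (hU : IsClopen U)
    (h : tau x ∈ U) : LocallyConstant.charFn A hU ∉ x.asIdeal :=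
  Classical.choose_spec (exists_pt x) U hU h

lemma chi_notMem_iff (x : PrimeSpectrum (LocallyConstant T A)) {U : Set T} (hU : IsClopen U) :
    LocallyConstant.charFn A hU ∉ x.asIdeal ↔ tau x ∈ U := by
  constructor
  · intro h
    by_contra hn
    have h2 := tau_spec x hU.compl hn
    have h3 : LocallyConstant.charFn A hU * LocallyConstant.charFn A hU.compl ∈ x.asIdeal := by
      rw [chi_mul_compl]
      exact x.asIdeal.zero_mem
    rcases x.isPrime.mem_or_mem h3 with h4 | h4
    · exact h h4
    · exact h2 h4
  · exact tau_spec x hU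

/-- Key lemma: membership in a prime only depends on the value at `tau`. -/
lemma mem_iff (x : PrimeSpectrum (LocallyConstant T A)) (f : LocallyConstant T A) :
    f ∈ x.asIdeal ↔ algebraMap A (LocallyConstant T A) (f (tau x)) ∈ x.asIdeal := by
  have hU : IsClopen (f ⁻¹' {f (tau x)}) := f.isLocallyConstant.isClopen_fiber _
  have hχ := tau_spec x hU rfl
  have h0 : (f - algebraMap A (LocallyConstant T A) (f (tau x))) *
      LocallyConstant.charFn A hU = 0 := by
    ext t
    have h1 : ((f - algebraMap A (LocallyConstant T A) (f (tau x))) *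
        LocallyConstant.charFn A hU) t = (f t - f (tau x)) * LocallyConstant.charFn A hU t := rfl
    rw [h1]
    by_cases ht : t ∈ f ⁻¹' {f (tau x)}
    · have h2 : f t = f (tau x) := ht
      rw [h2, sub_self, zero_mul]
      rfl
    · rw [chi_notMem hU ht, mul_zero]
      rfl
  have hsub : f - algebraMap A (LocallyConstant T A) (f (tau x)) ∈ x.asIdeal := by
    have h3 : (f - algebraMap A (LocallyConstant T A) (f (tau x))) *
        LocallyConstant.charFn A hU ∈ x.asIdeal := by
      rw [h0]
      exact x.asIdeal.zero_mem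
    exact (x.isPrime.mem_or_mem h3).resolve_right hχ
  constructor
  · intro hf
    have := x.asIdeal.sub_mem hf hsub
    rwa [sub_sub_cancel] at this
  · intro hc
    have := x.asIdeal.add_mem hsub hc
    rwa [sub_add_cancel] at this

/-- The comparison map `Spec (LocallyConstant T A) → Spec A × T`. -/
noncomputable def psi (x : PrimeSpectrum (LocallyConstant T A)) : PrimeSpectrum A × T :=
  (PrimeSpectrum.comap (algebraMap A (LocallyConstant T A)) x, tau x)

lemma mem_iff' (x : PrimeSpectrum (LocallyConstant T A)) (f : LocallyConstant T A) :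
    f ∈ x.asIdeal ↔ f (psi x).2 ∈ (psi x).1.asIdeal := mem_iff x f

lemma psi_injective : Function.Injective (psi (A := A) (T := T)) := by
  intro x y hxy
  apply PrimeSpectrum.ext
  ext f
  rw [mem_iff' x f, mem_iff' y f, hxy]

/-- The open subset of the product corresponding to `D(f)`. -/
def W (f : LocallyConstant T A) : Set (PrimeSpectrum A × T) := {p | f p.2 ∉ p.1.asIdeal}

lemma isOpen_W (f : LocallyConstant T A) : IsOpen (W f) := by
  rw [isOpen_iff_forall_mem_open]
  intro p hp
  refine ⟨(PrimeSpectrum.basicOpen (f p.2) : Set (PrimeSpectrum A)) ×ˢ (f ⁻¹' {f p.2}),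
    ?_, ?_, ?_⟩
  · rintro ⟨p', t'⟩ ⟨h1, h2⟩
    change f t' ∉ p'.asIdeal
    have h3 : f t' = f p.2 := h2
    rw [h3]
    exact h1
  · exact (PrimeSpectrum.basicOpen _).isOpen.prod (f.isLocallyConstant.isOpen_fiber _)
  · exact ⟨hp, rfl⟩

lemma psi_mem_W_iff (x : PrimeSpectrum (LocallyConstant T A)) (f : LocallyConstant T A) :
    psi x ∈ W f ↔ f ∉ x.asIdeal := (mem_iff' x f).not.symm

/-- The inverse of `psi`. -/
def Phi (p : PrimeSpectrum A × T) : PrimeSpectrum (LocallyConstant T A) :=
  PrimeSpectrum.comap (LocallyConstant.evalRingHom p.2) p.1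

lemma mem_Phi (p : PrimeSpectrum A × T) (f : LocallyConstant T A) :
    f ∈ (Phi p).asIdeal ↔ f p.2 ∈ p.1.asIdeal := Iff.rfl

end compact

section profinite

variable [CompactSpace T] [T2Space T] [TotallyDisconnectedSpace T]

lemma continuous_tau : Continuous (tau (A := A) (T := T)) := by
  rw [(isTopologicalBasis_isClopen (X := T)).continuous_iff]
  intro U hU
  have hU' : IsClopen U := hU
  have h : tau (A := A) ⁻¹' U =
      (PrimeSpectrum.basicOpen (LocallyConstant.charFn A hU') : Set _) := by
    ext x
    rw [Set.mem_preimage, ← chi_notMem_iff x hU']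
    rfl
  rw [h]
  exact (PrimeSpectrum.basicOpen _).isOpen

lemma continuous_psi : Continuous (psi (A := A) (T := T)) :=
  (PrimeSpectrum.continuous_comap _).prodMk continuous_tau

lemma isInducing_psi : IsInducing (psi (A := A) (T := T)) := by
  rw [isInducing_iff_nhds]
  intro x
  apply le_antisymm
  · exact (continuous_psi.tendsto x).le_comap
  · intro O hO
    rw [mem_nhds_iff] at hO
    obtain ⟨O', hO'O, hO'open, hxO'⟩ := hO
    obtain ⟨_, ⟨f, rfl⟩, hxf, hfO⟩ :=
      PrimeSpectrum.isTopologicalBasis_basic_opens.exists_subset_of_mem_open hxO' hO'open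
    rw [Filter.mem_comap]
    refine ⟨W f, (isOpen_W f).mem_nhds ((psi_mem_W_iff x f).mpr hxf), ?_⟩
    intro y hy
    exact hO'O (hfO ((psi_mem_W_iff y f).mp hy))

lemma isEmbedding_psi : IsEmbedding (psi (A := A) (T := T)) :=
  ⟨isInducing_psi, psi_injective⟩

lemma tau_Phi (p : PrimeSpectrum A × T) : tau (Phi p) = p.2 := by
  by_contra hne
  obtain ⟨V, hV, hmemV, hsub⟩ := compact_exists_isClopen_in_isOpen
    (isOpen_compl_singleton (x := p.2)) (show tau (Phi p) ∈ ({p.2}ᶜ : Set T) from hne)
  have h1 := tau_spec (Phi p) hV hmemV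
  apply h1
  rw [mem_Phi, chi_notMem hV (fun h => hsub h rfl)]
  exact p.1.asIdeal.zero_mem

lemma psi_Phi (p : PrimeSpectrum A × T) : psi (Phi p) = p := by
  apply Prod.ext
  · apply PrimeSpectrum.ext
    ext a
    exact Iff.rfl
  · exact tau_Phi p

lemma psi_surjective : Function.Surjective (psi (A := A) (T := T)) :=
  fun p => ⟨Phi p, psi_Phi p⟩

/-- The fibre product inside `Spec A × T`. -/
def Zset (g : C(T, _root_.ConnectedComponents (PrimeSpectrum A))) : Set (PrimeSpectrum A × T) :=
  {p | _root_.ConnectedComponents.mk p.1 = g p.2}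

/-- Its preimage in `Spec (LocallyConstant T A)`. -/
def Zp (g : C(T, _root_.ConnectedComponents (PrimeSpectrum A))) :
    Set (PrimeSpectrum (LocallyConstant T A)) := psi ⁻¹' Zset g

lemma idl_le_of_mem {R : Type u} [CommRing R] (Z : Set (PrimeSpectrum R)) (x : PrimeSpectrum R)
    (hx : x ∈ Z) : idl R Z ≤ x.asIdeal := by
  unfold idl
  rw [Ideal.span_le]
  rintro _ ⟨j, rfl⟩
  have hj : j.1 ∉ x.asIdeal := j.2.2 x hx
  have h0 : j.1 * (1 - j.1) ∈ x.asIdeal := by
    have h00 : j.1 * (1 - j.1) = 0 := by
      have := j.2.1.eq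
      rw [mul_sub, mul_one, this, sub_self]
    rw [h00]
    exact x.asIdeal.zero_mem
  exact (x.isPrime.mem_or_mem h0).resolve_left hj

lemma zeroLocus_idl_Zp (g : C(T, _root_.ConnectedComponents (PrimeSpectrum A))) :
    PrimeSpectrum.zeroLocus (idl (LocallyConstant T A) (Zp g) : Set (LocallyConstant T A)) =
      Zp g := by
  haveI : T2Space (_root_.ConnectedComponents (PrimeSpectrum A)) :=
    Groth.Agent.Lib.Helper29.SpecProd.t2Space_connectedComponents
  ext x
  rw [PrimeSpectrum.mem_zeroLocus]
  constructor
  · intro hx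
    by_contra hxZ
    have hne : _root_.ConnectedComponents.mk (psi x).1 ∈
        ({g (psi x).2}ᶜ : Set (_root_.ConnectedComponents (PrimeSpectrum A))) := hxZ
    obtain ⟨C, hC, hpC, hCsub⟩ := compact_exists_isClopen_in_isOpen
      (isOpen_compl_singleton (x := g (psi x).2)) hne
    have hV : IsClopen (_root_.ConnectedComponents.mk ⁻¹' C : Set (PrimeSpectrum A)) :=
      hC.preimage _root_.ConnectedComponents.continuous_coe
    obtain ⟨ε, hε, hVε⟩ := PrimeSpectrum.isClopen_iff.mp hV
    have hmemε : ∀ y : PrimeSpectrum A,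
        _root_.ConnectedComponents.mk y ∈ C ↔ ε ∉ y.asIdeal := by
      intro y
      have h1 : y ∈ (_root_.ConnectedComponents.mk ⁻¹' C : Set (PrimeSpectrum A)) ↔
          ε ∉ y.asIdeal := by
        rw [hVε]
        exact PrimeSpectrum.mem_basicOpen ε y
      exact h1
    have hU : IsClopen (g ⁻¹' C) := hC.preimage g.continuous
    set e : LocallyConstant T A :=
      algebraMap A (LocallyConstant T A) ε * LocallyConstant.charFn A hU +
        algebraMap A (LocallyConstant T A) (1 - ε) * LocallyConstant.charFn A hU.compl with he_def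
    have he_mem : ∀ s ∈ g ⁻¹' C, e s = ε := by
      intro s hs
      have h1 : e s = ε * LocallyConstant.charFn A hU s +
          (1 - ε) * LocallyConstant.charFn A hU.compl s := rfl
      rw [h1, chi_mem hU hs, chi_notMem hU.compl (fun h => h hs)]
      ring
    have he_notMem : ∀ s ∉ g ⁻¹' C, e s = 1 - ε := by
      intro s hs
      have h1 : e s = ε * LocallyConstant.charFn A hU s +
          (1 - ε) * LocallyConstant.charFn A hU.compl s := rfl
      rw [h1, chi_notMem hU hs, chi_mem hU.compl hs]
      ring
    have he : IsIdempotentElem e := by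
      ext s
      have h1 : (e * e) s = e s * e s := rfl
      rw [h1]
      by_cases hs : s ∈ g ⁻¹' C
      · rw [he_mem s hs]
        exact hε
      · rw [he_notMem s hs]
        exact hε.one_sub
    have hmem : ∀ y ∈ Zp g, e ∉ y.asIdeal := by
      intro y hy
      have hy' : _root_.ConnectedComponents.mk (psi y).1 = g (psi y).2 := hy
      rw [mem_iff' y e]
      by_cases hs : (psi y).2 ∈ g ⁻¹' C
      · rw [he_mem _ hs]
        have h2 : _root_.ConnectedComponents.mk (psi y).1 ∈ C := by
          rw [hy']
          exact hs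
        exact (hmemε _).mp h2
      · rw [he_notMem _ hs]
        have h2 : ¬ _root_.ConnectedComponents.mk (psi y).1 ∈ C := by
          rw [hy']
          exact hs
        have h3 : ε ∈ (psi y).1.asIdeal := by
          by_contra h
          exact h2 ((hmemε _).mpr h)
        intro h4
        have h5 : (1 : A) ∈ (psi y).1.asIdeal := by
          have := (psi y).1.asIdeal.add_mem h4 h3
          rwa [sub_add_cancel] at this
        exact (psi y).1.isPrime.ne_top ((Ideal.eq_top_iff_one _).mpr h5)
    let j : Idx (LocallyConstant T A) (Zp g) := ⟨e, he, hmem⟩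
    have h1 : 1 - e ∈ x.asIdeal := hx (one_sub_mem_idl _ _ j)
    have h2 : e ∈ x.asIdeal := by
      rw [mem_iff' x e]
      have hs : (psi x).2 ∉ g ⁻¹' C := fun h => hCsub h rfl
      rw [he_notMem _ hs]
      have h3 : ε ∉ (psi x).1.asIdeal := (hmemε _).mp hpC
      have h4 : ε * (1 - ε) ∈ (psi x).1.asIdeal := by
        have h00 : ε * (1 - ε) = 0 := by
          rw [mul_sub, mul_one, hε.eq, sub_self]
        rw [h00]
        exact (psi x).1.asIdeal.zero_mem
      exact ((psi x).1.isPrime.mem_or_mem h4).resolve_left h3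
    have h3 : (1 : LocallyConstant T A) ∈ x.asIdeal := by
      have := x.asIdeal.add_mem h1 h2
      rwa [sub_add_cancel] at this
    exact x.isPrime.ne_top ((Ideal.eq_top_iff_one _).mpr h3)
  · intro hx
    exact idl_le_of_mem (Zp g) x hx

end profinite

end Groth.Agent.Lib.Helper29.LCSpec
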