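import Mathlib
import Groth.Prelude.Def_PBC
import Groth.Agent.Lib.Helper29.IndZarQuot

/-!
# Quotients of `LocallyConstant T A` by idempotents are ind-Zariski over `A` (helper29)

For a compact space `T` and a set `Z` of primes of `LocallyConstant T A`, the quotient of
`LocallyConstant T A` by the ideal generated by the `1 - e`, `e` idempotent with `Z ⊆ D(e)`, is a
filtered colimit of the local isomorphisms `A → (P → A) ⧸ (1 - e)`, `P` a discrete quotient of `T`.
-/

set_option autoImplicit false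
set_option linter.style.haveILetI false
set_option linter.unusedSectionVars false
set_option maxHeartbeats 1600000

universe u

open CategoryTheory CategoryTheory.Limits

namespace Groth.Agent.Lib.Helper29.LCIndZar

open Groth.Agent.Lib.Helper29.IndZarQuot

/-- A cocone over a filtered diagram of rings under `R` is a colimit as soon as it is one on
underlying sets (copied from Helper8). -/
noncomputable def isColimitOfConcrete {R : CommRingCat.{u}} {J : Type u} [SmallCategory J]
    [IsFiltered J] (D : J ⥤ Under R) (c : Cocone D)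
    (hsurj : ∀ x : c.pt.right, ∃ (j : J) (y : (D.obj j).right), x = (c.ι.app j).right y)
    (hinj : ∀ (i j : J) (x : (D.obj i).right) (y : (D.obj j).right),
      (c.ι.app i).right x = (c.ι.app j).right y →
        ∃ (k : J) (f : i ⟶ k) (g : j ⟶ k), (D.map f).right x = (D.map g).right y) :
    IsColimit c := by
  have : ReflectsColimit D (Under.forget R ⋙ forget CommRingCat) :=
    reflectsColimit_of_reflectsIsomorphisms _ _
  apply isColimitOfReflects (Under.forget R ⋙ forget CommRingCat)
  exact Types.FilteredColimit.isColimitOf _ _ hsurj hinj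

lemma exists_of_mem_idl {R : Type u} [CommRing R] (Z : Set (PrimeSpectrum R)) {f : R}
    (hf : f ∈ idl R Z) : ∃ j : Idx R Z, f * j.1 = 0 := by
  unfold idl at hf
  refine Submodule.span_induction (p := fun x _ => ∃ j : Idx R Z, x * j.1 = 0) ?_ ?_ ?_ ?_ hf
  · rintro _ ⟨j, rfl⟩
    exact ⟨j, by rw [sub_mul, one_mul, j.2.1.eq, sub_self]⟩
  · exact ⟨Classical.arbitrary _, zero_mul _⟩
  · rintro x y _ _ ⟨j, hj⟩ ⟨j', hj'⟩
    refine ⟨⟨j.1 * j'.1, j.2.1.mul j'.2.1, fun x hx h =>
      (x.isPrime.mem_or_mem h).elim (j.2.2 x hx) (j'.2.2 x hx)⟩, ?_⟩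
    change (x + y) * (j.1 * j'.1) = 0
    linear_combination j'.1 * hj + j.1 * hj'
  · rintro a x _ ⟨j, hj⟩
    exact ⟨j, by rw [smul_eq_mul, mul_assoc, hj, mul_zero]⟩

variable (A : Type u) [CommRing A] (T : Type u) [TopologicalSpace T] [CompactSpace T]
  (Z : Set (PrimeSpectrum (LocallyConstant T A)))

/-- Pull back a function on a discrete quotient to a locally constant function. -/
def pull (P : DiscreteQuotient T) : (P → A) →+* LocallyConstant T A where
  toFun h := ⟨fun t => h (P.proj t),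
    (IsLocallyConstant.of_discrete h).comp_continuous P.proj_continuous⟩
  map_one' := rfl
  map_mul' _ _ := rfl
  map_zero' := rfl
  map_add' _ _ := rfl

lemma pull_apply (P : DiscreteQuotient T) (h : P → A) (t : T) :
    pull A T P h t = h (P.proj t) := rfl

/-- Restriction along a refinement of discrete quotients. -/
def res {P P' : DiscreteQuotient T} (hle : P' ≤ P) : (P → A) →+* (P' → A) :=
  Pi.ringHom fun c' => Pi.evalRingHom (fun _ => A) (DiscreteQuotient.ofLE hle c')

lemma res_apply {P P' : DiscreteQuotient T} (hle : P' ≤ P) (h : P → A) (c' : P') :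
    res A T hle h c' = h (DiscreteQuotient.ofLE hle c') := rfl

lemma pull_res {P P' : DiscreteQuotient T} (hle : P' ≤ P) (h : P → A) :
    pull A T P' (res A T hle h) = pull A T P h := by
  ext t
  change h (DiscreteQuotient.ofLE hle (P'.proj t)) = h (P.proj t)
  rw [DiscreteQuotient.ofLE_proj]

/-- The index category: a discrete quotient and an idempotent function on it. -/
structure Idx2 where
  P : DiscreteQuotient T
  e : P → A
  idem : IsIdempotentElem e
  mem : ∀ x ∈ Z, pull A T P e ∉ x.asIdeal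

variable {A T Z}

lemma Idx2.idem_apply (j : Idx2 A T Z) (c : j.P) : j.e c * j.e c = j.e c :=
  congrFun j.idem.eq c

instance : Preorder (Idx2 A T Z) where
  le j j' := j'.P ≤ j.P ∧
    ∀ t, j.e (j.P.proj t) * j'.e (j'.P.proj t) = j'.e (j'.P.proj t)
  le_refl j := ⟨le_rfl, fun t => j.idem_apply _⟩
  le_trans a b c hab hbc := ⟨hbc.1.trans hab.1, fun t => by
    have h1 := hab.2 t
    have h2 := hbc.2 t
    calc a.e (a.P.proj t) * c.e (c.P.proj t)
        = a.e (a.P.proj t) * (b.e (b.P.proj t) * c.e (c.P.proj t)) := by rw [h2]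
      _ = (a.e (a.P.proj t) * b.e (b.P.proj t)) * c.e (c.P.proj t) := by ring
      _ = c.e (c.P.proj t) := by rw [h1, h2]⟩

instance : Nonempty (Idx2 A T Z) :=
  ⟨⟨⊤, 1, IsIdempotentElem.one, fun x _ h =>
    x.isPrime.ne_top ((Ideal.eq_top_iff_one _).mpr (by rwa [map_one] at h))⟩⟩

/-- Upper bounds. -/
def Idx2.sup (a b : Idx2 A T Z) : Idx2 A T Z where
  P := a.P ⊓ b.P
  e := res A T inf_le_left a.e * res A T inf_le_right b.e
  idem := (a.idem.map _).mul (b.idem.map _)
  mem x hx h := by
    rw [map_mul, pull_res, pull_res] at h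
    exact (x.isPrime.mem_or_mem h).elim (a.mem x hx) (b.mem x hx)

lemma Idx2.sup_e_apply (a b : Idx2 A T Z) (t : T) :
    (a.sup b).e ((a.sup b).P.proj t) = a.e (a.P.proj t) * b.e (b.P.proj t) := by
  change a.e (DiscreteQuotient.ofLE _ ((a.P ⊓ b.P).proj t)) *
    b.e (DiscreteQuotient.ofLE _ ((a.P ⊓ b.P).proj t)) = _
  rw [DiscreteQuotient.ofLE_proj, DiscreteQuotient.ofLE_proj]

lemma Idx2.le_sup_left (a b : Idx2 A T Z) : a ≤ a.sup b := by
  refine ⟨inf_le_left, fun t => ?_⟩
  rw [Idx2.sup_e_apply, ← mul_assoc, a.idem_apply]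

lemma Idx2.le_sup_right (a b : Idx2 A T Z) : b ≤ a.sup b := by
  refine ⟨inf_le_right, fun t => ?_⟩
  rw [Idx2.sup_e_apply, mul_left_comm, b.idem_apply]

instance : IsDirectedOrder (Idx2 A T Z) :=
  ⟨fun a b => ⟨a.sup b, a.le_sup_left b, a.le_sup_right b⟩⟩

variable (A T Z)

/-- The objects of the diagram. -/
def Dobj2 (j : Idx2 A T Z) : Under (CommRingCat.of A) :=
  Under.mk (CommRingCat.ofHom
    ((Ideal.Quotient.mk (Ideal.span {1 - j.e})).comp (algebraMap A (j.P → A))))

lemma res_mul_eq {j j' : Idx2 A T Z} (h : j ≤ j') : res A T h.1 j.e * j'.e = j'.e := by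
  funext c'
  obtain ⟨t, rfl⟩ := j'.P.proj_surjective c'
  change j.e (DiscreteQuotient.ofLE h.1 (j'.P.proj t)) * j'.e (j'.P.proj t) = _
  rw [DiscreteQuotient.ofLE_proj]
  exact h.2 t

lemma res_span_le {j j' : Idx2 A T Z} (h : j ≤ j') :
    Ideal.span {1 - j.e} ≤ (Ideal.span {1 - j'.e}).comap (res A T h.1) := by
  rw [Ideal.span_singleton_le_iff_mem, Ideal.mem_comap, Ideal.mem_span_singleton']
  refine ⟨res A T h.1 (1 - j.e), ?_⟩
  have h' := res_mul_eq A T Z h
  rw [map_sub, map_one]
  linear_combination h'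

/-- The transition maps. -/
def Dmap {j j' : Idx2 A T Z} (h : j ≤ j') : Dobj2 A T Z j ⟶ Dobj2 A T Z j' :=
  mkHom A _ _ (Ideal.quotientMap _ (res A T h.1) (res_span_le A T Z h))
    (RingHom.ext fun _ => rfl)

lemma under_hom_ext2 (j : Idx2 A T Z) {X : Under (CommRingCat.of A)}
    (f g : Dobj2 A T Z j ⟶ X)
    (h : ∀ x : j.P → A, f.right.hom (Ideal.Quotient.mk (Ideal.span {1 - j.e}) x) =
      g.right.hom (Ideal.Quotient.mk (Ideal.span {1 - j.e}) x)) : f = g := by
  apply Under.UnderMorphism.ext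
  apply CommRingCat.hom_ext
  apply RingHom.ext
  intro x
  obtain ⟨x, rfl⟩ := Ideal.Quotient.mk_surjective x
  exact h x

/-- The diagram. -/
def D2 : Idx2 A T Z ⥤ Under (CommRingCat.of A) where
  obj j := Dobj2 A T Z j
  map f := Dmap A T Z (leOfHom f)
  map_id j := under_hom_ext2 A T Z j _ _ fun x => by
    change Ideal.Quotient.mk _ (res A T _ x) = Ideal.Quotient.mk _ x
    congr 1
    funext c
    exact congrArg x (DiscreteQuotient.ofLE_refl_apply c)
  map_comp f g := under_hom_ext2 A T Z _ _ _ fun x => by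
    change Ideal.Quotient.mk _ (res A T _ x) = Ideal.Quotient.mk _ (res A T _ (res A T _ x))
    congr 1
    funext c
    exact congrArg x (DiscreteQuotient.ofLE_ofLE _ _ c).symm

lemma pull_span_le (j : Idx2 A T Z) :
    Ideal.span {1 - j.e} ≤ (idl (LocallyConstant T A) Z).comap (pull A T j.P) := by
  rw [Ideal.span_singleton_le_iff_mem, Ideal.mem_comap, map_sub, map_one]
  exact one_sub_mem_idl _ _ ⟨pull A T j.P j.e, j.idem.map _, j.mem⟩

/-- The cocone maps. -/
def cocMap (j : Idx2 A T Z) : Dobj2 A T Z j ⟶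
    Under.mk (CommRingCat.ofHom
      (algebraMap A (LocallyConstant T A ⧸ idl (LocallyConstant T A) Z))) :=
  mkHom A _ _ (Ideal.quotientMap _ (pull A T j.P) (pull_span_le A T Z j))
    (RingHom.ext fun _ => rfl)

/-- The cocone. -/
def coc2 : Cocone (D2 A T Z) where
  pt := Under.mk (CommRingCat.ofHom
      (algebraMap A (LocallyConstant T A ⧸ idl (LocallyConstant T A) Z)))
  ι :=
    { app := fun j => cocMap A T Z j
      naturality := fun i j f => under_hom_ext2 A T Z i _ _ fun x => by
        change Ideal.Quotient.mk _ (pull A T _ (res A T _ x)) = Ideal.Quotient.mk _ (pull A T _ x)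
        rw [pull_res] }

/-- The cocone is colimiting. -/
noncomputable def isCol2 : IsColimit (coc2 A T Z) := by
  apply isColimitOfConcrete
  · intro x
    obtain ⟨f, rfl⟩ := Ideal.Quotient.mk_surjective
      (I := idl (LocallyConstant T A) Z) x
    refine ⟨⟨f.discreteQuotient, 1, IsIdempotentElem.one, fun x _ h =>
      x.isPrime.ne_top ((Ideal.eq_top_iff_one _).mpr (by rwa [map_one] at h))⟩,
      Ideal.Quotient.mk _ (⇑f.lift), ?_⟩
    change Ideal.Quotient.mk _ f = Ideal.Quotient.mk _ (pull A T f.discreteQuotient ⇑f.lift)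
    congr 1
  · intro i j x y hxy
    obtain ⟨h, rfl⟩ := Ideal.Quotient.mk_surjective (I := Ideal.span {1 - i.e}) x
    obtain ⟨h', rfl⟩ := Ideal.Quotient.mk_surjective (I := Ideal.span {1 - j.e}) y
    change Ideal.Quotient.mk (idl (LocallyConstant T A) Z) (pull A T i.P h) =
      Ideal.Quotient.mk (idl (LocallyConstant T A) Z) (pull A T j.P h') at hxy
    rw [Ideal.Quotient.eq] at hxy
    obtain ⟨e₁, h0⟩ := exists_of_mem_idl Z hxy
    let j₁ : Idx2 A T Z :=
      { P := e₁.1.discreteQuotient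
        e := ⇑e₁.1.lift
        idem := by
          funext c
          obtain ⟨t, rfl⟩ := e₁.1.discreteQuotient.proj_surjective c
          exact DFunLike.congr_fun e₁.2.1.eq t
        mem := fun x hx => by
          have hp1 : pull A T e₁.1.discreteQuotient ⇑e₁.1.lift = e₁.1 :=
            LocallyConstant.ext fun t => rfl
          rw [hp1]
          exact e₁.2.2 x hx }
    obtain ⟨k, hik, hjk, h1k⟩ : ∃ k : Idx2 A T Z, i ≤ k ∧ j ≤ k ∧ j₁ ≤ k :=
      ⟨(i.sup j).sup j₁, (i.le_sup_left j).trans ((i.sup j).le_sup_left j₁),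
        (i.le_sup_right j).trans ((i.sup j).le_sup_left j₁), (i.sup j).le_sup_right j₁⟩
    refine ⟨k, homOfLE hik, homOfLE hjk, ?_⟩
    change Ideal.Quotient.mk (Ideal.span {1 - k.e}) (res A T hik.1 h) =
      Ideal.Quotient.mk (Ideal.span {1 - k.e}) (res A T hjk.1 h')
    have hk0 : (res A T hik.1 h - res A T hjk.1 h') * k.e = 0 := by
      funext c
      obtain ⟨t, rfl⟩ := k.P.proj_surjective c
      change (h (DiscreteQuotient.ofLE hik.1 (k.P.proj t)) -
        h' (DiscreteQuotient.ofLE hjk.1 (k.P.proj t))) * k.e (k.P.proj t) = 0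
      rw [DiscreteQuotient.ofLE_proj, DiscreteQuotient.ofLE_proj]
      have h0t : (h (i.P.proj t) - h' (j.P.proj t)) * j₁.e (j₁.P.proj t) = 0 :=
        DFunLike.congr_fun h0 t
      rw [← h1k.2 t, ← mul_assoc, h0t, zero_mul]
    rw [Ideal.Quotient.eq, Ideal.mem_span_singleton']
    refine ⟨res A T hik.1 h - res A T hjk.1 h', ?_⟩
    linear_combination (-1 : k.P → A) * hk0

lemma isLocalIso_obj (j : Idx2 A T Z) :
    @Algebra.IsLocalIso A ((j.P → A) ⧸ Ideal.span {1 - j.e}) _ _
      ((Ideal.Quotient.mk (Ideal.span {1 - j.e})).comp (algebraMap A (j.P → A))).toAlgebra := by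
  letI alg1 : Algebra (j.P → A) ((j.P → A) ⧸ Ideal.span {1 - j.e}) :=
    (Ideal.Quotient.mk _).toAlgebra
  letI alg2 : Algebra A ((j.P → A) ⧸ Ideal.span {1 - j.e}) :=
    ((Ideal.Quotient.mk (Ideal.span {1 - j.e})).comp (algebraMap A (j.P → A))).toAlgebra
  haveI : @IsScalarTower A (j.P → A) ((j.P → A) ⧸ Ideal.span {1 - j.e})
      Algebra.toSMul alg1.toSMul alg2.toSMul :=
    IsScalarTower.of_algebraMap_eq (fun a => rfl)
  haveI h1 : Algebra.IsLocalIso A (j.P → A) :=
    Algebra.IsLocalIso.pi_of_finite A (fun _ : j.P => A)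
  haveI h2 : Algebra.IsLocalIso (j.P → A) ((j.P → A) ⧸ Ideal.span {1 - j.e}) :=
    isLocalIso_quot (j.P → A) j.e j.idem
  exact Algebra.IsLocalIso.trans A (j.P → A) _

theorem isIndZariski_quot :
    EtPBC.IsIndZariski A (LocallyConstant T A ⧸ idl (LocallyConstant T A) Z) := by
  unfold EtPBC.IsIndZariski
  exact ⟨Idx2 A T Z, inferInstance, inferInstance, D2 A T Z, coc2 A T Z, isCol2 A T Z,
    fun j => isLocalIso_obj A T Z j, ⟨Iso.refl _⟩⟩

end Groth.Agent.Lib.Helper29.LCIndZar
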