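import Mathlib
import Groth.Prelude.Def_PBC
import Groth.Agent.Lib.Helper29.LCIndZar

/-!
# The w-localization of `A` along a map `c : T → Spec A` is ind-Zariski (helper29)

For a compact space `T` and `c : T → Spec A`, the localization of `LocallyConstant T A` at the
multiplicative set of the `f` with `f t ∉ c t` for all `t` is a filtered colimit of the local
isomorphisms `A → (P → A)_s`, `P` a discrete quotient of `T`.
-/

set_option autoImplicit false
set_option linter.style.haveILetI false
set_option linter.unusedSectionVars false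
set_option maxHeartbeats 1600000

universe u

open CategoryTheory CategoryTheory.Limits

namespace Groth.Agent.Lib.Helper29.WLocAlg

open Groth.Agent.Lib.Helper29.IndZarQuot Groth.Agent.Lib.Helper29.LCIndZar

variable (A : Type u) [CommRing A] (T : Type u) [TopologicalSpace T] [CompactSpace T]
  (c : T → PrimeSpectrum A)

lemma res_proj {P P' : DiscreteQuotient T} (hle : P' ≤ P) (h : P → A) (t : T) :
    res A T hle h (P'.proj t) = h (P.proj t) := by
  change h (DiscreteQuotient.ofLE hle (P'.proj t)) = h (P.proj t)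
  rw [DiscreteQuotient.ofLE_proj]

/-- The multiplicative set of functions not vanishing along `c`. -/
def Sc : Submonoid (LocallyConstant T A) where
  carrier := {f | ∀ t, f t ∉ (c t).asIdeal}
  one_mem' := fun t h => (c t).isPrime.ne_top ((Ideal.eq_top_iff_one _).mpr h)
  mul_mem' := fun {f g} hf hg t h =>
    ((c t).isPrime.mem_or_mem (show f t * g t ∈ (c t).asIdeal from h)).elim (hf t) (hg t)

lemma mem_Sc {f : LocallyConstant T A} : f ∈ Sc A T c ↔ ∀ t, f t ∉ (c t).asIdeal := Iff.rfl

/-- The w-localization along `c`. -/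
abbrev Bc : Type u := Localization (Sc A T c)

/-- The index category. -/
structure Idx3 where
  P : DiscreteQuotient T
  s : P → A
  mem : ∀ t, s (P.proj t) ∉ (c t).asIdeal

variable {A T c}

instance : Preorder (Idx3 A T c) where
  le j j' := j'.P ≤ j.P ∧
    ∃ u : j'.P → A, ∀ t, j'.s (j'.P.proj t) = j.s (j.P.proj t) * u (j'.P.proj t)
  le_refl j := ⟨le_rfl, 1, fun t => (mul_one _).symm⟩
  le_trans a b d hab hbd := ⟨hbd.1.trans hab.1, by
    obtain ⟨u, hu⟩ := hab.2
    obtain ⟨v, hv⟩ := hbd.2
    refine ⟨res A T hbd.1 u * v, fun t => ?_⟩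
    rw [hv t, hu t]
    change _ = a.s (a.P.proj t) * (res A T hbd.1 u (d.P.proj t) * v (d.P.proj t))
    rw [res_proj, mul_assoc]⟩

instance : Nonempty (Idx3 A T c) :=
  ⟨⟨⊤, 1, fun t h => (c t).isPrime.ne_top ((Ideal.eq_top_iff_one _).mpr h)⟩⟩

/-- Upper bounds. -/
def Idx3.sup (a b : Idx3 A T c) : Idx3 A T c where
  P := a.P ⊓ b.P
  s := res A T inf_le_left a.s * res A T inf_le_right b.s
  mem t := by
    change res A T inf_le_left a.s ((a.P ⊓ b.P).proj t) *
      res A T inf_le_right b.s ((a.P ⊓ b.P).proj t) ∉ _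
    rw [res_proj, res_proj]
    exact fun h => ((c t).isPrime.mem_or_mem h).elim (a.mem t) (b.mem t)

lemma Idx3.sup_s_apply (a b : Idx3 A T c) (t : T) :
    (a.sup b).s ((a.sup b).P.proj t) = a.s (a.P.proj t) * b.s (b.P.proj t) := by
  change res A T inf_le_left a.s ((a.P ⊓ b.P).proj t) *
      res A T inf_le_right b.s ((a.P ⊓ b.P).proj t) = _
  rw [res_proj, res_proj]

lemma Idx3.le_sup_left (a b : Idx3 A T c) : a ≤ a.sup b := by
  refine ⟨inf_le_left, res A T inf_le_right b.s, fun t => ?_⟩
  rw [Idx3.sup_s_apply]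
  change _ = a.s (a.P.proj t) * res A T inf_le_right b.s ((a.P ⊓ b.P).proj t)
  rw [res_proj]

lemma Idx3.le_sup_right (a b : Idx3 A T c) : b ≤ a.sup b := by
  refine ⟨inf_le_right, res A T inf_le_left a.s, fun t => ?_⟩
  rw [Idx3.sup_s_apply]
  change _ = b.s (b.P.proj t) * res A T inf_le_left a.s ((a.P ⊓ b.P).proj t)
  rw [res_proj, mul_comm]

instance : IsDirectedOrder (Idx3 A T c) :=
  ⟨fun a b => ⟨a.sup b, a.le_sup_left b, a.le_sup_right b⟩⟩

variable (A T c)

/-- The objects of the diagram. -/
def Dobj3 (j : Idx3 A T c) : Under (CommRingCat.of A) :=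
  Under.mk (CommRingCat.ofHom
    ((algebraMap (j.P → A) (Localization.Away j.s)).comp (algebraMap A (j.P → A))))

lemma isUnit_res {j j' : Idx3 A T c} (h : j ≤ j') :
    IsUnit (((algebraMap (j'.P → A) (Localization.Away j'.s)).comp (res A T h.1)) j.s) := by
  obtain ⟨u, hu⟩ := h.2
  have h1 : res A T h.1 j.s * u = j'.s := by
    funext c'
    obtain ⟨t, rfl⟩ := j'.P.proj_surjective c'
    rw [hu t]
    change res A T h.1 j.s (j'.P.proj t) * u (j'.P.proj t) = _
    rw [res_proj]
  have h2 : IsUnit (algebraMap (j'.P → A) (Localization.Away j'.s) j'.s) :=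
    IsLocalization.Away.algebraMap_isUnit j'.s
  have h3 : algebraMap (j'.P → A) (Localization.Away j'.s) (res A T h.1 j.s) *
      algebraMap (j'.P → A) (Localization.Away j'.s) u =
      algebraMap (j'.P → A) (Localization.Away j'.s) j'.s := by
    rw [← map_mul, h1]
  have h4 : IsUnit (algebraMap (j'.P → A) (Localization.Away j'.s) (res A T h.1 j.s) *
      algebraMap (j'.P → A) (Localization.Away j'.s) u) := by
    rw [h3]
    exact h2
  exact isUnit_of_mul_isUnit_left h4

/-- The transition maps as ring homs. -/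
noncomputable def trHom {j j' : Idx3 A T c} (h : j ≤ j') :
    Localization.Away j.s →+* Localization.Away j'.s :=
  IsLocalization.Away.lift j.s (isUnit_res A T c h)

lemma trHom_apply {j j' : Idx3 A T c} (h : j ≤ j') (x : j.P → A) :
    trHom A T c h (algebraMap (j.P → A) (Localization.Away j.s) x) =
      algebraMap (j'.P → A) (Localization.Away j'.s) (res A T h.1 x) := by
  unfold trHom
  rw [IsLocalization.Away.lift_eq]
  rfl

/-- The transition maps. -/
noncomputable def Dmap3 {j j' : Idx3 A T c} (h : j ≤ j') : Dobj3 A T c j ⟶ Dobj3 A T c j' :=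
  mkHom A _ _ (trHom A T c h) (RingHom.ext fun a => by
    change trHom A T c h
      (algebraMap (j.P → A) (Localization.Away j.s) (algebraMap A (j.P → A) a)) =
      algebraMap (j'.P → A) (Localization.Away j'.s) (algebraMap A (j'.P → A) a)
    rw [trHom_apply]
    rfl)

lemma Dmap3_apply {j j' : Idx3 A T c} (h : j ≤ j') (x : j.P → A) :
    (Dmap3 A T c h).right.hom (algebraMap (j.P → A) (Localization.Away j.s) x) =
      algebraMap (j'.P → A) (Localization.Away j'.s) (res A T h.1 x) :=
  trHom_apply A T c h x

lemma under_hom_ext3 (j : Idx3 A T c) {X : Under (CommRingCat.of A)}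
    (f g : Dobj3 A T c j ⟶ X)
    (h : ∀ x : j.P → A, f.right.hom (algebraMap (j.P → A) (Localization.Away j.s) x) =
      g.right.hom (algebraMap (j.P → A) (Localization.Away j.s) x)) : f = g := by
  apply Under.UnderMorphism.ext
  apply CommRingCat.hom_ext
  exact IsLocalization.ringHom_ext (Submonoid.powers j.s) (S := Localization.Away j.s)
    (RingHom.ext h)

/-- The diagram. -/
noncomputable def D3 : Idx3 A T c ⥤ Under (CommRingCat.of A) where
  obj j := Dobj3 A T c j
  map f := Dmap3 A T c (leOfHom f)
  map_id j := under_hom_ext3 A T c j _ _ fun x => by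
    rw [Dmap3_apply]
    change _ = algebraMap (j.P → A) (Localization.Away j.s) x
    congr 1
    funext c'
    exact congrArg x (DiscreteQuotient.ofLE_refl_apply c')
  map_comp {i j k} f g := under_hom_ext3 A T c _ _ _ fun x => by
    rw [Dmap3_apply]
    change _ = (Dmap3 A T c (leOfHom g)).right.hom
      ((Dmap3 A T c (leOfHom f)).right.hom (algebraMap (i.P → A) (Localization.Away i.s) x))
    rw [Dmap3_apply, Dmap3_apply]
    congr 1
    funext c'
    exact congrArg x (DiscreteQuotient.ofLE_ofLE _ _ c').symm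

lemma isUnit_pull (j : Idx3 A T c) :
    IsUnit (((algebraMap (LocallyConstant T A) (Bc A T c)).comp (pull A T j.P)) j.s) :=
  IsLocalization.map_units (Bc A T c) (⟨pull A T j.P j.s, j.mem⟩ : Sc A T c)

/-- The cocone maps as ring homs. -/
noncomputable def cocHom (j : Idx3 A T c) : Localization.Away j.s →+* Bc A T c :=
  IsLocalization.Away.lift j.s (isUnit_pull A T c j)

lemma cocHom_apply (j : Idx3 A T c) (x : j.P → A) :
    cocHom A T c j (algebraMap (j.P → A) (Localization.Away j.s) x) =
      algebraMap (LocallyConstant T A) (Bc A T c) (pull A T j.P x) := by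
  unfold cocHom
  rw [IsLocalization.Away.lift_eq]
  rfl

lemma cocHom_mk' (j : Idx3 A T c) (x : j.P → A) :
    cocHom A T c j (IsLocalization.mk' (Localization.Away j.s) x
      ⟨j.s, Submonoid.mem_powers j.s⟩) =
      IsLocalization.mk' (Bc A T c) (pull A T j.P x) (⟨pull A T j.P j.s, j.mem⟩ : Sc A T c) := by
  rw [eq_comm, IsLocalization.mk'_eq_iff_eq_mul]
  have hy := IsLocalization.mk'_spec (Localization.Away j.s) x ⟨j.s, Submonoid.mem_powers j.s⟩
  have h1 := congrArg (cocHom A T c j) hy
  rw [map_mul, cocHom_apply, cocHom_apply] at h1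
  exact h1.symm

/-- The cocone maps. -/
noncomputable def cocMap3 (j : Idx3 A T c) : Dobj3 A T c j ⟶
    Under.mk (CommRingCat.ofHom (algebraMap A (Bc A T c))) :=
  mkHom A _ _ (cocHom A T c j) (RingHom.ext fun a => by
    change cocHom A T c j
      (algebraMap (j.P → A) (Localization.Away j.s) (algebraMap A (j.P → A) a)) =
      algebraMap A (Bc A T c) a
    rw [cocHom_apply, IsScalarTower.algebraMap_apply A (LocallyConstant T A) (Bc A T c)]
    rfl)

lemma cocMap3_apply (j : Idx3 A T c) (x : j.P → A) :
    (cocMap3 A T c j).right.hom (algebraMap (j.P → A) (Localization.Away j.s) x) =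
      algebraMap (LocallyConstant T A) (Bc A T c) (pull A T j.P x) :=
  cocHom_apply A T c j x

/-- The cocone. -/
noncomputable def coc3 : Cocone (D3 A T c) where
  pt := Under.mk (CommRingCat.ofHom (algebraMap A (Bc A T c)))
  ι :=
    { app := fun j => cocMap3 A T c j
      naturality := fun i j f => under_hom_ext3 A T c i _ _ fun x => by
        change (cocMap3 A T c j).right.hom ((Dmap3 A T c (leOfHom f)).right.hom
          (algebraMap (i.P → A) (Localization.Away i.s) x)) =
          (cocMap3 A T c i).right.hom (algebraMap (i.P → A) (Localization.Away i.s) x)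
        rw [Dmap3_apply, cocMap3_apply, cocMap3_apply, pull_res] }

/-- The cocone is colimiting. -/
noncomputable def isCol3 : IsColimit (coc3 A T c) := by
  apply isColimitOfConcrete
  · intro x
    obtain ⟨f, ⟨σ, hσ⟩, rfl⟩ := IsLocalization.exists_mk'_eq (Sc A T c) (S := Bc A T c) x
    obtain ⟨P, hP⟩ : ∃ P : DiscreteQuotient T, P = f.discreteQuotient ⊓ σ.discreteQuotient :=
      ⟨_, rfl⟩
    have hP1 : P ≤ f.discreteQuotient := hP ▸ inf_le_left
    have hP2 : P ≤ σ.discreteQuotient := hP ▸ inf_le_right
    obtain ⟨f₀, hf₀d⟩ : ∃ f₀ : P → A, f₀ = res A T hP1 ⇑f.lift := ⟨_, rfl⟩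
    obtain ⟨σ₀, hσ₀d⟩ : ∃ σ₀ : P → A, σ₀ = res A T hP2 ⇑σ.lift := ⟨_, rfl⟩
    have hf₀ : pull A T P f₀ = f := by
      rw [hf₀d, pull_res]
      exact LocallyConstant.ext fun t => rfl
    have hσ₀ : pull A T P σ₀ = σ := by
      rw [hσ₀d, pull_res]
      exact LocallyConstant.ext fun t => rfl
    have hmem : ∀ t, σ₀ (P.proj t) ∉ (c t).asIdeal := by
      intro t
      have h1 : σ₀ (P.proj t) = σ t := DFunLike.congr_fun hσ₀ t
      rw [h1]
      exact hσ t
    clear hf₀d hσ₀d hP1 hP2 hP
    subst hf₀
    subst hσ₀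
    refine ⟨⟨P, σ₀, hmem⟩,
      IsLocalization.mk' (Localization.Away σ₀) f₀ ⟨σ₀, Submonoid.mem_powers σ₀⟩, ?_⟩
    exact (cocHom_mk' A T c ⟨P, σ₀, hmem⟩ f₀).symm
  · intro i j x y hxy
    obtain ⟨n, a, ha⟩ := IsLocalization.Away.surj (S := Localization.Away i.s) i.s x
    obtain ⟨m, a', ha'⟩ := IsLocalization.Away.surj (S := Localization.Away j.s) j.s y
    have hxy' : cocHom A T c i x = cocHom A T c j y := hxy
    have e1 : cocHom A T c i x *
        algebraMap (LocallyConstant T A) (Bc A T c) (pull A T i.P i.s) ^ n =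
        algebraMap (LocallyConstant T A) (Bc A T c) (pull A T i.P a) := by
      have h := congrArg (cocHom A T c i) ha
      rw [map_mul, map_pow, cocHom_apply, cocHom_apply] at h
      exact h
    have e2 : cocHom A T c j y *
        algebraMap (LocallyConstant T A) (Bc A T c) (pull A T j.P j.s) ^ m =
        algebraMap (LocallyConstant T A) (Bc A T c) (pull A T j.P a') := by
      have h := congrArg (cocHom A T c j) ha'
      rw [map_mul, map_pow, cocHom_apply, cocHom_apply] at h
      exact h
    have e3 : algebraMap (LocallyConstant T A) (Bc A T c)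
        (pull A T i.P a * pull A T j.P j.s ^ m) =
        algebraMap (LocallyConstant T A) (Bc A T c)
        (pull A T j.P a' * pull A T i.P i.s ^ n) := by
      rw [map_mul, map_mul, map_pow, map_pow, ← e1, ← e2, hxy']
      ring
    obtain ⟨⟨w, hw⟩, hw0⟩ := (IsLocalization.eq_iff_exists (Sc A T c) (Bc A T c)).mp e3
    let jw : Idx3 A T c := ⟨w.discreteQuotient, ⇑w.lift, fun t => hw t⟩
    obtain ⟨k, hik, hjk, hwk⟩ : ∃ k : Idx3 A T c, i ≤ k ∧ j ≤ k ∧ jw ≤ k :=
      ⟨(i.sup j).sup jw, (i.le_sup_left j).trans ((i.sup j).le_sup_left jw),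
        (i.le_sup_right j).trans ((i.sup j).le_sup_left jw), (i.sup j).le_sup_right jw⟩
    refine ⟨k, homOfLE hik, homOfLE hjk, ?_⟩
    change trHom A T c hik x = trHom A T c hjk y
    have ui : IsUnit (algebraMap (k.P → A) (Localization.Away k.s) (res A T hik.1 i.s)) :=
      isUnit_res A T c hik
    have uj : IsUnit (algebraMap (k.P → A) (Localization.Away k.s) (res A T hjk.1 j.s)) :=
      isUnit_res A T c hjk
    have uw : IsUnit (algebraMap (k.P → A) (Localization.Away k.s) (res A T hwk.1 jw.s)) :=
      isUnit_res A T c hwk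
    have f1 : trHom A T c hik x *
        algebraMap (k.P → A) (Localization.Away k.s) (res A T hik.1 i.s) ^ n =
        algebraMap (k.P → A) (Localization.Away k.s) (res A T hik.1 a) := by
      have h := congrArg (trHom A T c hik) ha
      rw [map_mul, map_pow, trHom_apply, trHom_apply] at h
      exact h
    have f2 : trHom A T c hjk y *
        algebraMap (k.P → A) (Localization.Away k.s) (res A T hjk.1 j.s) ^ m =
        algebraMap (k.P → A) (Localization.Away k.s) (res A T hjk.1 a') := by
      have h := congrArg (trHom A T c hjk) ha'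
      rw [map_mul, map_pow, trHom_apply, trHom_apply] at h
      exact h
    have g0 : res A T hwk.1 jw.s * (res A T hik.1 a * res A T hjk.1 j.s ^ m) =
        res A T hwk.1 jw.s * (res A T hjk.1 a' * res A T hik.1 i.s ^ n) := by
      funext c'
      obtain ⟨t, rfl⟩ := k.P.proj_surjective c'
      have h := DFunLike.congr_fun hw0 t
      simp only [Pi.mul_apply, Pi.pow_apply, res_proj]
      exact h
    have g1 := congrArg (algebraMap (k.P → A) (Localization.Away k.s)) g0
    rw [map_mul, map_mul, map_mul, map_mul, map_pow, map_pow] at g1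
    have g2 := uw.mul_left_cancel g1
    have h3 : trHom A T c hik x *
        (algebraMap (k.P → A) (Localization.Away k.s) (res A T hik.1 i.s) ^ n *
          algebraMap (k.P → A) (Localization.Away k.s) (res A T hjk.1 j.s) ^ m) =
        trHom A T c hjk y *
        (algebraMap (k.P → A) (Localization.Away k.s) (res A T hik.1 i.s) ^ n *
          algebraMap (k.P → A) (Localization.Away k.s) (res A T hjk.1 j.s) ^ m) := by
      calc _ = (trHom A T c hik x *
            algebraMap (k.P → A) (Localization.Away k.s) (res A T hik.1 i.s) ^ n) *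
            algebraMap (k.P → A) (Localization.Away k.s) (res A T hjk.1 j.s) ^ m := by ring
        _ = algebraMap (k.P → A) (Localization.Away k.s) (res A T hik.1 a) *
            algebraMap (k.P → A) (Localization.Away k.s) (res A T hjk.1 j.s) ^ m := by rw [f1]
        _ = algebraMap (k.P → A) (Localization.Away k.s) (res A T hjk.1 a') *
            algebraMap (k.P → A) (Localization.Away k.s) (res A T hik.1 i.s) ^ n := g2
        _ = (trHom A T c hjk y *
            algebraMap (k.P → A) (Localization.Away k.s) (res A T hjk.1 j.s) ^ m) *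
            algebraMap (k.P → A) (Localization.Away k.s) (res A T hik.1 i.s) ^ n := by rw [f2]
        _ = _ := by ring
    exact ((ui.pow n).mul (uj.pow m)).mul_right_cancel h3

lemma isLocalIso_obj3 (j : Idx3 A T c) :
    @Algebra.IsLocalIso A (Localization.Away j.s) _ _
      ((algebraMap (j.P → A) (Localization.Away j.s)).comp (algebraMap A (j.P → A))).toAlgebra := by
  letI alg2 : Algebra A (Localization.Away j.s) :=
    ((algebraMap (j.P → A) (Localization.Away j.s)).comp (algebraMap A (j.P → A))).toAlgebra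
  haveI : @IsScalarTower A (j.P → A) (Localization.Away j.s)
      Algebra.toSMul Algebra.toSMul alg2.toSMul :=
    IsScalarTower.of_algebraMap_eq (fun a => rfl)
  haveI h1 : Algebra.IsLocalIso A (j.P → A) :=
    Algebra.IsLocalIso.pi_of_finite A (fun _ : j.P => A)
  exact Algebra.IsLocalIso.trans A (j.P → A) _

theorem isIndZariski_Bc : EtPBC.IsIndZariski A (Bc A T c) := by
  unfold EtPBC.IsIndZariski
  exact ⟨Idx3 A T c, inferInstance, inferInstance, D3 A T c, coc3 A T c, isCol3 A T c,
    fun j => isLocalIso_obj3 A T c j, ⟨Iso.refl _⟩⟩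

end Groth.Agent.Lib.Helper29.WLocAlg
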