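import Mathlib
import Groth.Prelude.Def_ProEtW
import Groth.Agent.Lib.Helper29.LCSpec
import Groth.Agent.Lib.Helper29.WLocAlg

/-!
# The spectrum of the w-localization along `c : T → Spec A` (helper29)

`Spec (Bc A T c)` is the set of pairs `(x, t)` with `x ⤳ c t`; it is w-local with closed points the
pairs `(c t, t)`.
-/

set_option autoImplicit false
set_option linter.style.haveILetI false
set_option linter.unusedSectionVars false
set_option maxHeartbeats 1600000

universe u

open Topology

namespace Groth.Agent.Lib.Helper29.WLocSpec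

open Groth.Agent.Lib.Helper29.LCSpec Groth.Agent.Lib.Helper29.WLocAlg

variable {A : Type u} [CommRing A] {T : Type u} [TopologicalSpace T] [CompactSpace T]
  [T2Space T] [TotallyDisconnectedSpace T] (c : T → PrimeSpectrum A)

lemma disjoint_iff
    (hc : ∀ a : A, IsClopen (c ⁻¹' (PrimeSpectrum.basicOpen a : Set (PrimeSpectrum A))))
    (x' : PrimeSpectrum (LocallyConstant T A)) :
    Disjoint (Sc A T c : Set (LocallyConstant T A)) (x'.asIdeal : Set (LocallyConstant T A)) ↔
      (psi x').1 ≤ c (psi x').2 := by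
  constructor
  · intro hdisj
    change (psi x').1.asIdeal ≤ (c (psi x').2).asIdeal
    intro a ha
    by_contra hn
    have hU := hc a
    have htU : (psi x').2 ∈ c ⁻¹' (PrimeSpectrum.basicOpen a : Set (PrimeSpectrum A)) := hn
    obtain ⟨f, hf⟩ : ∃ f : LocallyConstant T A, f =
        algebraMap A (LocallyConstant T A) a * LocallyConstant.charFn A hU +
          LocallyConstant.charFn A hU.compl := ⟨_, rfl⟩
    have hf_mem : ∀ s ∈ c ⁻¹' (PrimeSpectrum.basicOpen a : Set (PrimeSpectrum A)), f s = a := by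
      intro s hs
      have h1 : f s = a * LocallyConstant.charFn A hU s + LocallyConstant.charFn A hU.compl s := by
        rw [hf]; rfl
      rw [h1, chi_mem hU hs, chi_notMem hU.compl (fun h => h hs)]
      ring
    have hf_notMem : ∀ s ∉ c ⁻¹' (PrimeSpectrum.basicOpen a : Set (PrimeSpectrum A)),
        f s = 1 := by
      intro s hs
      have h1 : f s = a * LocallyConstant.charFn A hU s + LocallyConstant.charFn A hU.compl s := by
        rw [hf]; rfl
      rw [h1, chi_notMem hU hs, chi_mem hU.compl hs]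
      ring
    have hfS : f ∈ Sc A T c := by
      intro s
      by_cases hs : s ∈ c ⁻¹' (PrimeSpectrum.basicOpen a : Set (PrimeSpectrum A))
      · rw [hf_mem s hs]
        exact hs
      · rw [hf_notMem s hs]
        exact fun h => (c s).isPrime.ne_top ((Ideal.eq_top_iff_one _).mpr h)
    have hfx : f ∈ x'.asIdeal := by
      rw [mem_iff' x' f, hf_mem _ htU]
      exact ha
    exact Set.disjoint_left.mp hdisj hfS hfx
  · intro h
    rw [Set.disjoint_left]
    intro f hfS hfx
    exact hfS _ (h ((mem_iff' x' f).mp hfx))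

/-- The comparison map `Spec (Bc A T c) → Spec A × T`. -/
noncomputable def psic (y : PrimeSpectrum (Bc A T c)) : PrimeSpectrum A × T :=
  psi (PrimeSpectrum.comap (algebraMap (LocallyConstant T A) (Bc A T c)) y)

lemma isEmbedding_psic : IsEmbedding (psic c) :=
  isEmbedding_psi.comp (PrimeSpectrum.localization_comap_isEmbedding (Bc A T c) (Sc A T c))

lemma range_psic
    (hc : ∀ a : A, IsClopen (c ⁻¹' (PrimeSpectrum.basicOpen a : Set (PrimeSpectrum A)))) :
    Set.range (psic c) = {p | p.1 ≤ c p.2} := by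
  have h1 : Set.range (psic c) = psi '' Set.range
      (PrimeSpectrum.comap (algebraMap (LocallyConstant T A) (Bc A T c))) := by
    rw [← Set.range_comp]
    rfl
  rw [h1, PrimeSpectrum.localization_comap_range (Bc A T c) (Sc A T c)]
  have h2 : {x' : PrimeSpectrum (LocallyConstant T A) |
      Disjoint (Sc A T c : Set (LocallyConstant T A)) (x'.asIdeal : Set (LocallyConstant T A))} =
      psi ⁻¹' {p | p.1 ≤ c p.2} := by
    ext x'
    exact disjoint_iff c hc x'
  rw [h2]
  exact Set.image_preimage_eq _ psi_surjective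

lemma psic_le
    (hc : ∀ a : A, IsClopen (c ⁻¹' (PrimeSpectrum.basicOpen a : Set (PrimeSpectrum A))))
    (y : PrimeSpectrum (Bc A T c)) : (psic c y).1 ≤ c (psic c y).2 := by
  have h : psic c y ∈ Set.range (psic c) := ⟨y, rfl⟩
  rw [range_psic c hc] at h
  exact h

lemma exists_psic_eq
    (hc : ∀ a : A, IsClopen (c ⁻¹' (PrimeSpectrum.basicOpen a : Set (PrimeSpectrum A))))
    (p : PrimeSpectrum A × T) (hp : p.1 ≤ c p.2) : ∃ y, psic c y = p := by
  have h : p ∈ Set.range (psic c) := by
    rw [range_psic c hc]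
    exact hp
  exact h

lemma specializes_iff (y y' : PrimeSpectrum (Bc A T c)) :
    y ⤳ y' ↔ (psic c y).1 ≤ (psic c y').1 ∧ (psic c y).2 = (psic c y').2 := by
  rw [← (isEmbedding_psic c).isInducing.specializes_iff]
  constructor
  · intro h
    exact ⟨(PrimeSpectrum.le_iff_specializes _ _).mpr (h.map continuous_fst),
      (h.map continuous_snd).eq⟩
  · rintro ⟨h1, h2⟩
    have h3 : (psic c y).2 ⤳ (psic c y').2 := h2 ▸ specializes_rfl
    exact Specializes.prod ((PrimeSpectrum.le_iff_specializes _ _).mp h1) h3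

lemma isClosed_singleton_iff
    (hc : ∀ a : A, IsClopen (c ⁻¹' (PrimeSpectrum.basicOpen a : Set (PrimeSpectrum A))))
    (y : PrimeSpectrum (Bc A T c)) :
    IsClosed ({y} : Set (PrimeSpectrum (Bc A T c))) ↔ (psic c y).1 = c (psic c y).2 := by
  constructor
  · intro hy
    obtain ⟨y₀, hy₀⟩ := exists_psic_eq c hc (c (psic c y).2, (psic c y).2) le_rfl
    have h1 : y ⤳ y₀ := by
      rw [specializes_iff, hy₀]
      exact ⟨psic_le c hc y, rfl⟩
    have h2 : y₀ ∈ closure ({y} : Set (PrimeSpectrum (Bc A T c))) :=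
      specializes_iff_mem_closure.mp h1
    rw [hy.closure_eq] at h2
    have h3 : y₀ = y := h2
    subst h3
    exact congrArg Prod.fst hy₀
  · intro h
    apply isClosed_of_closure_subset
    intro y' hy'
    have h1 : y ⤳ y' := specializes_iff_mem_closure.mpr hy'
    rw [specializes_iff] at h1
    obtain ⟨h2, h3⟩ := h1
    have h4 := psic_le c hc y'
    have h5 : (psic c y').1 = (psic c y).1 := by
      apply le_antisymm
      · rw [h, h3]
        exact h4
      · exact h2
    have h6 : psic c y' = psic c y := Prod.ext h5 h3.symm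
    exact (isEmbedding_psic c).injective h6

lemma closedPoints_eq
    (hc : ∀ a : A, IsClopen (c ⁻¹' (PrimeSpectrum.basicOpen a : Set (PrimeSpectrum A)))) :
    ProEtW.closedPoints (PrimeSpectrum (Bc A T c)) = {y | (psic c y).1 = c (psic c y).2} := by
  ext y
  exact isClosed_singleton_iff c hc y

lemma isClosed_closedPoints
    (hc : ∀ a : A, IsClopen (c ⁻¹' (PrimeSpectrum.basicOpen a : Set (PrimeSpectrum A)))) :
    IsClosed {y : PrimeSpectrum (Bc A T c) | IsClosed ({y} : Set (PrimeSpectrum (Bc A T c)))} := by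
  have hset : {y : PrimeSpectrum (Bc A T c) | IsClosed ({y} : Set (PrimeSpectrum (Bc A T c)))} =
      {y | (psic c y).1 = c (psic c y).2} := closedPoints_eq c hc
  rw [hset, ← isOpen_compl_iff, isOpen_iff_forall_mem_open]
  intro y hy
  have hy' : (psic c y).1 ≠ c (psic c y).2 := hy
  have hle := psic_le c hc y
  have hex : ∃ a, a ∈ (c (psic c y).2).asIdeal ∧ a ∉ (psic c y).1.asIdeal := by
    by_contra hcon
    push_neg at hcon
    exact hy' (le_antisymm hle (fun a ha => hcon a ha))
  obtain ⟨a, hac, hax⟩ := hex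
  have hU := (hc a).compl
  refine ⟨psic c ⁻¹' ((PrimeSpectrum.basicOpen a : Set (PrimeSpectrum A)) ×ˢ
    (c ⁻¹' (PrimeSpectrum.basicOpen a : Set (PrimeSpectrum A)))ᶜ), ?_, ?_, ?_⟩
  · intro y' hy'' hcl
    obtain ⟨h1, h2⟩ := hy''
    apply h2
    change c (psic c y').2 ∈ PrimeSpectrum.basicOpen a
    have hcl' : (psic c y').1 = c (psic c y').2 := hcl
    rw [← hcl']
    exact h1
  · exact ((PrimeSpectrum.basicOpen a).isOpen.prod hU.isOpen).preimage
      (isEmbedding_psic c).continuous
  · exact ⟨hax, fun h => h hac⟩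

theorem isWLocal
    (hc : ∀ a : A, IsClopen (c ⁻¹' (PrimeSpectrum.basicOpen a : Set (PrimeSpectrum A)))) :
    ProEtW.IsWLocal (PrimeSpectrum (Bc A T c)) := by
  refine ⟨inferInstance, isClosed_closedPoints c hc, fun y => ?_⟩
  obtain ⟨y₀, hy₀⟩ := exists_psic_eq c hc (c (psic c y).2, (psic c y).2) le_rfl
  refine ⟨y₀, ⟨?_, ?_⟩, ?_⟩
  · rw [isClosed_singleton_iff c hc, hy₀]
  · rw [specializes_iff, hy₀]
    exact ⟨psic_le c hc y, rfl⟩
  · rintro y₁ ⟨h1, h2⟩
    rw [isClosed_singleton_iff c hc] at h1
    rw [specializes_iff] at h2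
    apply (isEmbedding_psic c).injective
    rw [hy₀]
    exact Prod.ext (by rw [h1, ← h2.2]) h2.2.symm

lemma comap_eq (y : PrimeSpectrum (Bc A T c)) :
    PrimeSpectrum.comap (algebraMap A (Bc A T c)) y = (psic c y).1 := by
  apply PrimeSpectrum.ext
  ext a
  change algebraMap A (Bc A T c) a ∈ y.asIdeal ↔
    algebraMap (LocallyConstant T A) (Bc A T c) (algebraMap A (LocallyConstant T A) a) ∈ y.asIdeal
  rw [IsScalarTower.algebraMap_apply A (LocallyConstant T A) (Bc A T c)]

end Groth.Agent.Lib.Helper29.WLocSpec
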