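import Mathlib
import Groth.Prelude.Def_PBC
import Groth.Prelude.Def_ProEtW
import Groth.Agent.Lib.Helper29.WLocSpec

/-!
# The w-localization identifies local rings and is flat (helper29)
-/

set_option autoImplicit false
set_option linter.style.haveILetI false
set_option linter.unusedSectionVars false
set_option maxHeartbeats 1600000

universe u

open Topology

namespace Groth.Agent.Lib.Helper29.WLocLoc

open Groth.Agent.Lib.Helper29.LCSpec Groth.Agent.Lib.Helper29.WLocAlg
  Groth.Agent.Lib.Helper29.WLocSpec

/-- An elementwise criterion for `A_p → B_q` to be bijective. -/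
theorem bijective_localRingHom_of {A B : Type u} [CommRing A] [CommRing B] [Algebra A B]
    (q : Ideal B) [hq : q.IsPrime]
    (h1 : ∀ b : B, ∃ (a a' : A) (u : B), a' ∉ q.comap (algebraMap A B) ∧ u ∉ q ∧
      u * (b * algebraMap A B a') = u * algebraMap A B a)
    (h2 : ∀ a : A, (∃ u : B, u ∉ q ∧ u * algebraMap A B a = 0) →
      ∃ v : A, v ∉ q.comap (algebraMap A B) ∧ v * a = 0) :
    Function.Bijective
      (Localization.localRingHom (q.comap (algebraMap A B)) q (algebraMap A B) rfl) := by
  constructor
  · rw [injective_iff_map_eq_zero]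
    intro z hz
    obtain ⟨a, s, rfl⟩ := IsLocalization.exists_mk'_eq (q.comap (algebraMap A B)).primeCompl z
    rw [Localization.localRingHom_mk', IsLocalization.mk'_eq_zero_iff] at hz
    obtain ⟨⟨u, hu⟩, hu0⟩ := hz
    obtain ⟨v, hv, hva⟩ := h2 a ⟨u, hu, hu0⟩
    rw [IsLocalization.mk'_eq_zero_iff]
    exact ⟨⟨v, hv⟩, hva⟩
  · intro z
    obtain ⟨b, ⟨s, hs⟩, rfl⟩ := IsLocalization.exists_mk'_eq q.primeCompl z
    obtain ⟨a₁, a₁', u₁, ha₁', hu₁, e₁⟩ := h1 b
    obtain ⟨a₂, a₂', u₂, ha₂', hu₂, e₂⟩ := h1 s
    have ha₂ : a₂ ∉ q.comap (algebraMap A B) := by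
      intro h
      have h' : algebraMap A B a₂ ∈ q := h
      have h3 : u₂ * (s * algebraMap A B a₂') ∈ q := by
        rw [e₂]
        exact q.mul_mem_left _ h'
      rcases hq.mem_or_mem h3 with h4 | h4
      · exact hu₂ h4
      · rcases hq.mem_or_mem h4 with h5 | h5
        · exact hs h5
        · exact ha₂' h5
    have hden : a₁' * a₂ ∈ (q.comap (algebraMap A B)).primeCompl :=
      (q.comap (algebraMap A B)).primeCompl.mul_mem ha₁' ha₂
    refine ⟨IsLocalization.mk' _ (a₁ * a₂') ⟨a₁' * a₂, hden⟩, ?_⟩
    rw [Localization.localRingHom_mk', IsLocalization.eq]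
    refine ⟨⟨u₁ * u₂, q.primeCompl.mul_mem hu₁ hu₂⟩, ?_⟩
    change u₁ * u₂ * (s * algebraMap A B (a₁ * a₂')) =
      u₁ * u₂ * (algebraMap A B (a₁' * a₂) * b)
    rw [map_mul, map_mul]
    linear_combination (-(u₂ * algebraMap A B a₂)) * e₁ + (u₁ * algebraMap A B a₁) * e₂

/-- A ring map identifying local rings is flat. -/
theorem flat_of_identifies {A B : Type u} [CommRing A] [CommRing B] [Algebra A B]
    (h : EtPBC.IdentifiesLocalRings A B) : Module.Flat A B := by
  refine Module.flat_of_isLocalized_maximal B B (fun P _ => Localization.AtPrime P)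
    (fun P _ => Algebra.linearMap B (Localization.AtPrime P)) ?_
  intro P hP
  haveI : P.IsPrime := hP.isPrime
  have hb := h ⟨P, hP.isPrime⟩
  let e : Localization.AtPrime (P.comap (algebraMap A B)) ≃ₗ[A] Localization.AtPrime P :=
    LinearEquiv.ofBijective
      { toFun := Localization.localRingHom (P.comap (algebraMap A B)) P (algebraMap A B) rfl
        map_add' := map_add _
        map_smul' := fun a x => by
          simp only [RingHom.id_apply]
          rw [Algebra.smul_def, Algebra.smul_def, map_mul, Localization.localRingHom_to_map,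
            ← IsScalarTower.algebraMap_apply A B (Localization.AtPrime P)] }
      hb
  exact Module.Flat.of_linearEquiv e.symm

section Bc

variable {A : Type u} [CommRing A] {T : Type u} [TopologicalSpace T] [CompactSpace T]
  [T2Space T] [TotallyDisconnectedSpace T] (c : T → PrimeSpectrum A)

lemma algebraMap_mem_iff (y : PrimeSpectrum (Bc A T c)) (a : A) :
    algebraMap A (Bc A T c) a ∈ y.asIdeal ↔ a ∈ (psic c y).1.asIdeal := by
  rw [← comap_eq c y]
  rfl

lemma algebraMap_LC_mem_iff (y : PrimeSpectrum (Bc A T c)) (f : LocallyConstant T A) :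
    algebraMap (LocallyConstant T A) (Bc A T c) f ∈ y.asIdeal ↔
      f (psic c y).2 ∈ (psic c y).1.asIdeal :=
  mem_iff' (PrimeSpectrum.comap (algebraMap (LocallyConstant T A) (Bc A T c)) y) f

theorem identifies_Bc
    (hc : ∀ a : A, IsClopen (c ⁻¹' (PrimeSpectrum.basicOpen a : Set (PrimeSpectrum A)))) :
    EtPBC.IdentifiesLocalRings A (Bc A T c) := by
  intro y
  haveI := y.isPrime
  have hle := psic_le c hc y
  apply bijective_localRingHom_of y.asIdeal
  · intro b
    obtain ⟨f, ⟨σ, hσ⟩, rfl⟩ := IsLocalization.exists_mk'_eq (Sc A T c) (S := Bc A T c) b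
    obtain ⟨t, ht⟩ : ∃ t : T, t = (psic c y).2 := ⟨_, rfl⟩
    have hU : IsClopen ((f ⁻¹' {f t}) ∩ (σ ⁻¹' {σ t})) :=
      (f.isLocallyConstant.isClopen_fiber _).inter (σ.isLocallyConstant.isClopen_fiber _)
    have htU : t ∈ (f ⁻¹' {f t}) ∩ (σ ⁻¹' {σ t}) := ⟨rfl, rfl⟩
    refine ⟨f t, σ t, algebraMap (LocallyConstant T A) (Bc A T c) (LocallyConstant.charFn A hU),
      ?_, ?_, ?_⟩
    · intro h
      have h' : algebraMap A (Bc A T c) (σ t) ∈ y.asIdeal := h
      rw [algebraMap_mem_iff] at h'
      have h'' := hle h'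
      rw [← ht] at h''
      exact hσ t h''
    · rw [algebraMap_LC_mem_iff, ← ht, chi_mem hU htU]
      exact fun h => (psic c y).1.isPrime.ne_top ((Ideal.eq_top_iff_one _).mpr h)
    · have hA' : LocallyConstant.charFn A hU *
          (algebraMap A (LocallyConstant T A) (σ t) * f) =
          LocallyConstant.charFn A hU * (algebraMap A (LocallyConstant T A) (f t) * σ) := by
        ext s
        have h1 : (LocallyConstant.charFn A hU *
            (algebraMap A (LocallyConstant T A) (σ t) * f)) s =
            LocallyConstant.charFn A hU s * (σ t * f s) := rfl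
        have h2 : (LocallyConstant.charFn A hU *
            (algebraMap A (LocallyConstant T A) (f t) * σ)) s =
            LocallyConstant.charFn A hU s * (f t * σ s) := rfl
        rw [h1, h2]
        by_cases hs : s ∈ (f ⁻¹' {f t}) ∩ (σ ⁻¹' {σ t})
        · have h3 : f s = f t := hs.1
          have h4 : σ s = σ t := hs.2
          rw [h3, h4]
          ring
        · rw [chi_notMem hU hs, zero_mul, zero_mul]
      have hB := congrArg (algebraMap (LocallyConstant T A) (Bc A T c)) hA'
      rw [map_mul, map_mul, map_mul, map_mul] at hB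
      have hspec : IsLocalization.mk' (Bc A T c) f (⟨σ, hσ⟩ : Sc A T c) *
          algebraMap (LocallyConstant T A) (Bc A T c) σ =
          algebraMap (LocallyConstant T A) (Bc A T c) f :=
        IsLocalization.mk'_spec _ f ⟨σ, hσ⟩
      have hunit : IsUnit (algebraMap (LocallyConstant T A) (Bc A T c) σ) :=
        IsLocalization.map_units _ (⟨σ, hσ⟩ : Sc A T c)
      rw [IsScalarTower.algebraMap_apply A (LocallyConstant T A) (Bc A T c) (σ t),
        IsScalarTower.algebraMap_apply A (LocallyConstant T A) (Bc A T c) (f t)]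
      refine hunit.mul_right_cancel ?_
      calc algebraMap (LocallyConstant T A) (Bc A T c) (LocallyConstant.charFn A hU) *
            (IsLocalization.mk' (Bc A T c) f (⟨σ, hσ⟩ : Sc A T c) *
              algebraMap (LocallyConstant T A) (Bc A T c)
                (algebraMap A (LocallyConstant T A) (σ t))) *
            algebraMap (LocallyConstant T A) (Bc A T c) σ
          = algebraMap (LocallyConstant T A) (Bc A T c) (LocallyConstant.charFn A hU) *
            (algebraMap (LocallyConstant T A) (Bc A T c)
                (algebraMap A (LocallyConstant T A) (σ t)) *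
              (IsLocalization.mk' (Bc A T c) f (⟨σ, hσ⟩ : Sc A T c) *
                algebraMap (LocallyConstant T A) (Bc A T c) σ)) := by ring
        _ = algebraMap (LocallyConstant T A) (Bc A T c) (LocallyConstant.charFn A hU) *
            (algebraMap (LocallyConstant T A) (Bc A T c)
                (algebraMap A (LocallyConstant T A) (σ t)) *
              algebraMap (LocallyConstant T A) (Bc A T c) f) := by rw [hspec]
        _ = algebraMap (LocallyConstant T A) (Bc A T c) (LocallyConstant.charFn A hU) *
            (algebraMap (LocallyConstant T A) (Bc A T c)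
                (algebraMap A (LocallyConstant T A) (f t)) *
              algebraMap (LocallyConstant T A) (Bc A T c) σ) := hB
        _ = _ := by ring
  · rintro a ⟨u, hu, hu0⟩
    obtain ⟨f, ⟨σ, hσ⟩, rfl⟩ := IsLocalization.exists_mk'_eq (Sc A T c) (S := Bc A T c) u
    obtain ⟨t, ht⟩ : ∃ t : T, t = (psic c y).2 := ⟨_, rfl⟩
    have hspec : IsLocalization.mk' (Bc A T c) f (⟨σ, hσ⟩ : Sc A T c) *
        algebraMap (LocallyConstant T A) (Bc A T c) σ =
        algebraMap (LocallyConstant T A) (Bc A T c) f :=
      IsLocalization.mk'_spec _ f ⟨σ, hσ⟩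
    have hσt : σ t ∉ (psic c y).1.asIdeal := by
      intro h
      have h'' := hle h
      rw [← ht] at h''
      exact hσ t h''
    have hft : f t ∉ (psic c y).1.asIdeal := by
      intro h
      have h1 : algebraMap (LocallyConstant T A) (Bc A T c) f ∈ y.asIdeal := by
        rw [algebraMap_LC_mem_iff, ← ht]
        exact h
      rw [← hspec] at h1
      rcases y.isPrime.mem_or_mem h1 with h2 | h2
      · exact hu h2
      · rw [algebraMap_LC_mem_iff, ← ht] at h2
        exact hσt h2
    have h0 : algebraMap (LocallyConstant T A) (Bc A T c)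
        (f * algebraMap A (LocallyConstant T A) a) = 0 := by
      rw [map_mul, ← IsScalarTower.algebraMap_apply A (LocallyConstant T A) (Bc A T c), ← hspec]
      calc IsLocalization.mk' (Bc A T c) f (⟨σ, hσ⟩ : Sc A T c) *
            algebraMap (LocallyConstant T A) (Bc A T c) σ * algebraMap A (Bc A T c) a
          = algebraMap (LocallyConstant T A) (Bc A T c) σ *
            (IsLocalization.mk' (Bc A T c) f (⟨σ, hσ⟩ : Sc A T c) *
              algebraMap A (Bc A T c) a) := by ring
        _ = 0 := by rw [hu0, mul_zero]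
    rw [IsLocalization.map_eq_zero_iff (Sc A T c) (Bc A T c)] at h0
    obtain ⟨⟨w, hw⟩, hw0⟩ := h0
    have hwt : w t ∉ (psic c y).1.asIdeal := by
      intro h
      have h'' := hle h
      rw [← ht] at h''
      exact hw t h''
    refine ⟨w t * f t, ?_, ?_⟩
    · intro h
      have h' : algebraMap A (Bc A T c) (w t * f t) ∈ y.asIdeal := h
      rw [algebraMap_mem_iff] at h'
      rcases (psic c y).1.isPrime.mem_or_mem h' with h2 | h2
      · exact hwt h2
      · exact hft h2
    · have h1 : w t * (f t * a) = 0 := DFunLike.congr_fun hw0 t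
      rw [mul_assoc]
      exact h1

theorem flat_Bc
    (hc : ∀ a : A, IsClopen (c ⁻¹' (PrimeSpectrum.basicOpen a : Set (PrimeSpectrum A)))) :
    Module.Flat A (Bc A T c) :=
  flat_of_identifies (identifies_Bc c hc)

theorem faithfullyFlat_Bc
    (hc : ∀ a : A, IsClopen (c ⁻¹' (PrimeSpectrum.basicOpen a : Set (PrimeSpectrum A))))
    (hsurj : Function.Surjective c) :
    Module.FaithfullyFlat A (Bc A T c) := by
  haveI := flat_Bc c hc
  apply Module.FaithfullyFlat.of_comap_surjective
  intro x
  obtain ⟨t, rfl⟩ := hsurj x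
  obtain ⟨y, hy⟩ := exists_psic_eq c hc (c t, t) le_rfl
  refine ⟨y, ?_⟩
  rw [comap_eq c y, hy]

end Bc

end Groth.Agent.Lib.Helper29.WLocLoc
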