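import Mathlib
import Groth.Prelude.Def_PBC
import Groth.Agent.Lib.Helper29.WLocLoc

/-!
# Identifying local rings passes to quotients (helper29)

If `A → B` identifies local rings, so does `A ⧸ I → B ⧸ I B`.
-/

set_option autoImplicit false
set_option linter.style.haveILetI false
set_option linter.unusedSectionVars false
set_option maxHeartbeats 1600000

universe u

namespace Groth.Agent.Lib.Helper29.QuotLoc

open Groth.Agent.Lib.Helper29.WLocLoc

variable {A B : Type u} [CommRing A] [CommRing B] [Algebra A B] (I : Ideal A)

/-- The induced map on quotients. -/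
abbrev qMap : A ⧸ I →+* B ⧸ I.map (algebraMap A B) :=
  Ideal.quotientMap (I.map (algebraMap A B)) (algebraMap A B) Ideal.le_comap_map

theorem identifies_quot (h : EtPBC.IdentifiesLocalRings A B) :
    letI := (qMap (B := B) I).toAlgebra
    EtPBC.IdentifiesLocalRings (A ⧸ I) (B ⧸ I.map (algebraMap A B)) := by
  letI alg : Algebra (A ⧸ I) (B ⧸ I.map (algebraMap A B)) := (qMap (B := B) I).toAlgebra
  intro qbar
  haveI := qbar.isPrime
  let q : Ideal B := qbar.asIdeal.comap (Ideal.Quotient.mk (I.map (algebraMap A B)))
  haveI hqp : q.IsPrime := Ideal.comap_isPrime _ _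
  have hb := h ⟨q, hqp⟩
  have hb1 : Function.Injective
      (Localization.localRingHom (q.comap (algebraMap A B)) q (algebraMap A B) rfl) := hb.1
  have hb2 : Function.Surjective
      (Localization.localRingHom (q.comap (algebraMap A B)) q (algebraMap A B) rfl) := hb.2
  apply bijective_localRingHom_of qbar.asIdeal
  · intro bbar
    obtain ⟨b, rfl⟩ := Ideal.Quotient.mk_surjective bbar
    obtain ⟨z, hz⟩ := hb2 (algebraMap B (Localization.AtPrime q) b)
    obtain ⟨a, ⟨a', ha'⟩, rfl⟩ :=
      IsLocalization.exists_mk'_eq (q.comap (algebraMap A B)).primeCompl z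
    rw [Localization.localRingHom_mk', IsLocalization.mk'_eq_iff_eq_mul, ← map_mul,
      IsLocalization.eq_iff_exists q.primeCompl] at hz
    obtain ⟨⟨u, hu⟩, hu0⟩ := hz
    refine ⟨Ideal.Quotient.mk I a, Ideal.Quotient.mk I a', Ideal.Quotient.mk _ u, ?_, ?_, ?_⟩
    · intro hmem
      exact ha' hmem
    · exact hu
    · change Ideal.Quotient.mk _ u * (Ideal.Quotient.mk _ b *
        Ideal.Quotient.mk _ (algebraMap A B a')) =
        Ideal.Quotient.mk _ u * Ideal.Quotient.mk _ (algebraMap A B a)
      rw [← map_mul, ← map_mul, ← map_mul]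
      exact (congrArg (Ideal.Quotient.mk (I.map (algebraMap A B))) hu0).symm
  · rintro abar ⟨ubar, hubar, hu0⟩
    obtain ⟨a, rfl⟩ := Ideal.Quotient.mk_surjective abar
    obtain ⟨u, rfl⟩ := Ideal.Quotient.mk_surjective ubar
    have h1 : u * algebraMap A B a ∈ I.map (algebraMap A B) := by
      rw [← Ideal.Quotient.eq_zero_iff_mem, map_mul]
      exact hu0
    have hu : u ∉ q := hubar
    have hφ : (Localization.localRingHom (q.comap (algebraMap A B)) q (algebraMap A B) rfl).comp
        (algebraMap A (Localization.AtPrime (q.comap (algebraMap A B)))) =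
        (algebraMap B (Localization.AtPrime q)).comp (algebraMap A B) :=
      RingHom.ext fun x => Localization.localRingHom_to_map _ _ _ rfl x
    have hJ : Ideal.map
        (Localization.localRingHom (q.comap (algebraMap A B)) q (algebraMap A B) rfl)
        (I.map (algebraMap A (Localization.AtPrime (q.comap (algebraMap A B))))) =
        (I.map (algebraMap A B)).map (algebraMap B (Localization.AtPrime q)) := by
      rw [Ideal.map_map, Ideal.map_map, hφ]
    have h2 : algebraMap B (Localization.AtPrime q) (algebraMap A B a) ∈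
        (I.map (algebraMap A B)).map (algebraMap B (Localization.AtPrime q)) := by
      have h3 : algebraMap B (Localization.AtPrime q) (u * algebraMap A B a) ∈
          (I.map (algebraMap A B)).map (algebraMap B (Localization.AtPrime q)) :=
        Ideal.mem_map_of_mem _ h1
      rw [map_mul] at h3
      have hunit : IsUnit (algebraMap B (Localization.AtPrime q) u) :=
        IsLocalization.map_units _ (⟨u, hu⟩ : q.primeCompl)
      exact (Ideal.unit_mul_mem_iff_mem _ hunit).mp h3
    rw [← hJ] at h2
    obtain ⟨z, hz, hzφ⟩ := (Ideal.mem_map_iff_of_surjective _ hb2).mp h2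
    have h4 : z = algebraMap A (Localization.AtPrime (q.comap (algebraMap A B))) a := by
      apply hb1
      rw [hzφ]
      exact (Localization.localRingHom_to_map _ _ _ rfl a).symm
    rw [h4, IsLocalization.mem_map_algebraMap_iff (q.comap (algebraMap A B)).primeCompl] at hz
    obtain ⟨⟨⟨i, hi⟩, ⟨s, hs⟩⟩, hx⟩ := hz
    rw [← map_mul, IsLocalization.eq_iff_exists (q.comap (algebraMap A B)).primeCompl] at hx
    obtain ⟨⟨w, hw⟩, hw0⟩ := hx
    have hw0' : w * (a * s) = w * i := hw0
    refine ⟨Ideal.Quotient.mk I (w * s), ?_, ?_⟩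
    · intro hmem
      exact ((q.comap (algebraMap A B)).primeCompl.mul_mem hw hs) hmem
    · rw [← map_mul, Ideal.Quotient.eq_zero_iff_mem]
      have h5 : w * s * a = w * i := by
        rw [← hw0']
        ring
      rw [h5]
      exact I.mul_mem_left _ hi

end Groth.Agent.Lib.Helper29.QuotLoc
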