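import Mathlib
import Groth.Prelude.Def_PBC
import Groth.Prelude.Def_ProEtW
import Groth.Agent.Lib.Lead.Spectral

/-!
# Maps of w-local spectra identifying local rings (helper29)

`lift_clopen` and `wlocal_bij` are copies of the lead's proofs of S0152 / S0180 (kept here so that this
library does not import another seat's statement files).  `main0699`: a ring map identifying local
rings between rings with w-local spectra, w-local on spectra and bijective on `π₀`, is bijective.
-/

set_option autoImplicit false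
set_option linter.style.haveILetI false
set_option linter.unusedSectionVars false

universe u

namespace Groth.Agent.Lib.Helper29.WLocalIso

open Groth.Agent.Lib.Lead


open Topology

/-- A spectral space is compact in its constructible topology (transported from Mathlib's instance on
the type synonym). -/
theorem compact_constr (X : Type u) [TopologicalSpace X] [SpectralSpace X] :
    @CompactSpace X (constructibleTopology X) :=
  @Function.Surjective.compactSpace (WithConstructibleTopology X) X _ (constructibleTopology X) _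
    (WithTopology.continuous_ofTopology _) inferInstance (WithTopology.ofTopology_surjective _)

theorem mem_of_closure_inter {X : Type u} [TopologicalSpace X] {x : X} {A U : Set X}
    (hU : IsOpen U) (hAU : A ⊆ U) (h : (closure {x} ∩ A).Nonempty) : x ∈ U := by
  obtain ⟨z, hzx, hzA⟩ := h
  obtain ⟨y, hyU, hy⟩ := mem_closure_iff.1 hzx U hU (hAU hzA)
  rw [Set.mem_singleton_iff] at hy
  exact hy ▸ hyU

/-- Key lemma: for closed `A`, `B` in a spectral space such that every point specialises into exactly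
one of them, the set of generisations of `A` is open. -/
theorem gen_open (X : Type u) [TopologicalSpace X] [SpectralSpace X] (A B : Set X)
    (hA : IsClosed A) (hB : IsClosed B)
    (hdisj : ∀ x, ¬ ((closure {x} ∩ A).Nonempty ∧ (closure {x} ∩ B).Nonempty))
    (hcov : ∀ x, (closure {x} ∩ A).Nonempty ∨ (closure {x} ∩ B).Nonempty) :
    IsOpen {x | (closure {x} ∩ A).Nonempty} := by
  classical
  let ι := {U : Set X // IsOpen U ∧ IsCompact U ∧ (A ⊆ U ∨ B ⊆ U)}
  have hcl : ∀ i : ι, IsClosed[constructibleTopology X] (i : Set X) := by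
    intro i
    refine @IsClosed.mk X (constructibleTopology X) _ ?_
    apply IsCompact.isOpen_constructibleTopology_of_isClosed
    · simpa using i.2.2.1
    · exact i.2.1.isClosed_compl
  have key : ∀ (x : X) (C : Set X), IsClosed C →
      (∀ U : Set X, IsOpen U → IsCompact U → C ⊆ U → x ∈ U) → (closure {x} ∩ C).Nonempty := by
    intro x C hC h
    by_contra hne
    rw [Set.not_nonempty_iff_eq_empty] at hne
    have hsub : C ⊆ (closure {x})ᶜ := by
      intro c hc hcx
      have : c ∈ closure {x} ∩ C := ⟨hcx, hc⟩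
      rw [hne] at this
      exact this
    obtain ⟨W, hWc, hWo, hCW, hWU⟩ := PrespectralSpace.exists_isCompact_and_isOpen_between
      hC.isCompact isClosed_closure.isOpen_compl hsub
    exact hWU (h W hWo hWc hCW) (subset_closure rfl)
  have hempty : (⋂ i : ι, (i : Set X)) = ∅ := by
    rw [Set.eq_empty_iff_forall_notMem]
    intro x hx
    rw [Set.mem_iInter] at hx
    exact hdisj x ⟨key x A hA fun U hU hUc hAU => hx ⟨U, hU, hUc, Or.inl hAU⟩,
      key x B hB fun U hU hUc hBU => hx ⟨U, hU, hUc, Or.inr hBU⟩⟩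
  obtain ⟨u, hu⟩ := @IsCompact.elim_finite_subfamily_closed X (constructibleTopology X) Set.univ ι
    (@isCompact_univ X (constructibleTopology X) (compact_constr X))
    (fun i : ι => (i : Set X)) hcl (by rw [hempty]; simp)
  rw [Set.univ_inter] at hu
  set U : Set X := ⋂ i ∈ u.filter (fun i : ι => A ⊆ (i : Set X)), (i : Set X) with hUdef
  set V : Set X := ⋂ i ∈ u.filter (fun i : ι => ¬ A ⊆ (i : Set X)), (i : Set X) with hVdef
  have hUo : IsOpen U := isOpen_biInter_finset fun i _ => i.2.1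
  have hVo : IsOpen V := isOpen_biInter_finset fun i _ => i.2.1
  have hAU : A ⊆ U := by
    intro a ha
    simp only [hUdef, Set.mem_iInter, Finset.mem_filter]
    intro i hi
    exact hi.2 ha
  have hBV : B ⊆ V := by
    intro b hb
    simp only [hVdef, Set.mem_iInter, Finset.mem_filter]
    intro i hi
    exact (i.2.2.2.resolve_left hi.2) hb
  have hUV : ∀ x, x ∈ U → x ∈ V → False := by
    intro x hxU hxV
    have : x ∈ ⋂ i ∈ u, ((i : ι) : Set X) := by
      simp only [Set.mem_iInter]
      intro i hi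
      by_cases hAi : A ⊆ (i : Set X)
      · simp only [hUdef, Set.mem_iInter, Finset.mem_filter] at hxU
        exact hxU i ⟨hi, hAi⟩
      · simp only [hVdef, Set.mem_iInter, Finset.mem_filter] at hxV
        exact hxV i ⟨hi, hAi⟩
    rw [hu] at this
    exact this
  have hEq : {x | (closure {x} ∩ A).Nonempty} = U := by
    ext x
    constructor
    · intro hx
      exact mem_of_closure_inter hUo hAU hx
    · intro hxU
      rcases hcov x with h | h
      · exact h
      · exact (hUV x hxU (mem_of_closure_inter hVo hBV h)).elim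
  rw [hEq]
  exact hUo

/-- Let X be a spectral space and Z a closed subset such that Z meets the closure of every point of X in
a connected (nonempty) set. If Z is the disjoint union of two closed subsets Z_1, Z_2 then X is the
disjoint union of closed subsets X_1, X_2 with Z_i = Z ∩ X_i. -/
theorem lift_clopen (X : Type u) [TopologicalSpace X] [SpectralSpace X]
    (Z : Set X) (hZ : IsClosed Z)
    (hconn : ∀ x : X, IsConnected (Z ∩ closure {x}))
    (Z₁ Z₂ : Set X) (h₁ : IsClosed Z₁) (h₂ : IsClosed Z₂) (hdisj : Disjoint Z₁ Z₂) (hunion : Z₁ ∪ Z₂ = Z) :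
    ∃ X₁ X₂ : Set X, IsClosed X₁ ∧ IsClosed X₂ ∧ Disjoint X₁ X₂ ∧ X₁ ∪ X₂ = Set.univ ∧
      Z₁ = Z ∩ X₁ ∧ Z₂ = Z ∩ X₂ := by
  have hZ₁Z : Z₁ ⊆ Z := hunion ▸ Set.subset_union_left
  have hZ₂Z : Z₂ ⊆ Z := hunion ▸ Set.subset_union_right
  have hd : ∀ x, ¬ ((closure {x} ∩ Z₁).Nonempty ∧ (closure {x} ∩ Z₂).Nonempty) := by
    rintro x ⟨⟨z₁, hz₁x, hz₁⟩, ⟨z₂, hz₂x, hz₂⟩⟩
    have hpre := (hconn x).isPreconnected
    rw [isPreconnected_closed_iff] at hpre
    obtain ⟨w, _, hw₁, hw₂⟩ := hpre Z₁ Z₂ h₁ h₂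
      (fun y hy => by rw [hunion]; exact hy.1)
      ⟨z₁, ⟨hZ₁Z hz₁, hz₁x⟩, hz₁⟩ ⟨z₂, ⟨hZ₂Z hz₂, hz₂x⟩, hz₂⟩
    exact (Set.disjoint_left.1 hdisj hw₁ hw₂)
  have hd' : ∀ x, ¬ ((closure {x} ∩ Z₂).Nonempty ∧ (closure {x} ∩ Z₁).Nonempty) :=
    fun x h => hd x ⟨h.2, h.1⟩
  have hc : ∀ x, (closure {x} ∩ Z₁).Nonempty ∨ (closure {x} ∩ Z₂).Nonempty := by
    intro x
    obtain ⟨z, hzZ, hzx⟩ := (hconn x).nonempty
    rw [← hunion] at hzZ
    rcases hzZ with h | h
    · exact Or.inl ⟨z, hzx, h⟩
    · exact Or.inr ⟨z, hzx, h⟩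
  have hc' : ∀ x, (closure {x} ∩ Z₂).Nonempty ∨ (closure {x} ∩ Z₁).Nonempty := fun x => (hc x).symm
  have ho₁ := gen_open X Z₁ Z₂ h₁ h₂ hd hc
  have ho₂ := gen_open X Z₂ Z₁ h₂ h₁ hd' hc'
  have hcompl : {x : X | (closure {x} ∩ Z₁).Nonempty}ᶜ = {x | (closure {x} ∩ Z₂).Nonempty} := by
    ext x
    simp only [Set.mem_compl_iff, Set.mem_ofPred_eq]
    constructor
    · intro h
      exact (hc x).resolve_left h
    · intro h h'
      exact hd x ⟨h', h⟩
  have hcompl' : {x : X | (closure {x} ∩ Z₂).Nonempty}ᶜ = {x | (closure {x} ∩ Z₁).Nonempty} := by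
    rw [← hcompl, compl_compl]
  refine ⟨{x | (closure {x} ∩ Z₁).Nonempty}, {x | (closure {x} ∩ Z₂).Nonempty}, ?_, ?_, ?_, ?_, ?_, ?_⟩
  · rw [← hcompl']
    exact ho₂.isClosed_compl
  · rw [← hcompl]
    exact ho₁.isClosed_compl
  · rw [Set.disjoint_left]
    intro x hx₁ hx₂
    exact hd x ⟨hx₁, hx₂⟩
  · ext x
    simp only [Set.mem_union, Set.mem_ofPred_eq, Set.mem_univ, iff_true]
    exact hc x
  · ext z
    constructor
    · intro hz
      exact ⟨hZ₁Z hz, ⟨z, subset_closure rfl, hz⟩⟩
    · rintro ⟨hzZ, hz⟩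
      rw [← hunion] at hzZ
      rcases hzZ with h | h
      · exact h
      · exact (hd z ⟨hz, ⟨z, subset_closure rfl, h⟩⟩).elim
  · ext z
    constructor
    · intro hz
      exact ⟨hZ₂Z hz, ⟨z, subset_closure rfl, hz⟩⟩
    · rintro ⟨hzZ, hz⟩
      rw [← hunion] at hzZ
      rcases hzZ with h | h
      · exact (hd z ⟨⟨z, subset_closure rfl, h⟩, hz⟩).elim
      · exact h



/-- Final assertion: if X is spectral, the set X_0 of closed points is closed, and every point of X
specializes to exactly one closed point, then X_0 -> pi_0(X) is bijective (so X satisfies the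
equivalent conditions of the lemma; such X are called w-local). -/
theorem wlocal_bij (X : Type u) [TopologicalSpace X]
    [SpectralSpace X] (h0 : IsClosed {x : X | IsClosed ({x} : Set X)})
    (huniq : ∀ x : X, ∃! z : X, IsClosed ({z} : Set X) ∧ x ⤳ z) :
    Function.Bijective (fun x : {x : X // IsClosed ({x} : Set X)} => ConnectedComponents.mk x.1) := by
  set Z : Set X := {x : X | IsClosed ({x} : Set X)} with hZdef
  have hZpts : ∀ z ∈ Z, IsClosed ({z} : Set X) := fun z hz => hz
  have hconn : ∀ x : X, IsConnected (Z ∩ closure {x}) := by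
    intro x
    obtain ⟨z, ⟨hzc, hxz⟩, hzu⟩ := huniq x
    have : Z ∩ closure {x} = {z} := by
      ext w
      constructor
      · rintro ⟨hwZ, hwx⟩
        exact hzu w ⟨hwZ, specializes_iff_mem_closure.2 hwx⟩
      · intro hw
        rw [Set.mem_singleton_iff] at hw
        subst hw
        exact ⟨hzc, specializes_iff_mem_closure.1 hxz⟩
    rw [this]
    exact isConnected_singleton
  constructor
  · rintro ⟨x₀, hx₀⟩ ⟨y₀, hy₀⟩ hxy
    change ConnectedComponents.mk x₀ = ConnectedComponents.mk y₀ at hxy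
    by_contra hne
    have hne' : x₀ ≠ y₀ := fun h => hne (Subtype.ext h)
    obtain ⟨U, hU, hx₀U, hUy⟩ := PrespectralSpace.isTopologicalBasis.exists_subset_of_mem_open
      (show x₀ ∈ ({y₀} : Set X)ᶜ from fun h => hne' h) hy₀.isOpen_compl
    have hy₀U : y₀ ∉ U := fun h => hUy h rfl
    have hZ₁ : IsClosed (U ∩ Z) := isClosed_inter_of_closedPoints Z h0 hZpts hU.2
    have hZ₂ : IsClosed (Uᶜ ∩ Z) := hU.1.isClosed_compl.inter h0
    have hd : Disjoint (U ∩ Z) (Uᶜ ∩ Z) := by
      rw [Set.disjoint_left]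
      rintro p ⟨hpU, -⟩ ⟨hpU', -⟩
      exact hpU' hpU
    have hun : (U ∩ Z) ∪ (Uᶜ ∩ Z) = Z := by
      ext p
      constructor
      · rintro (h | h) <;> exact h.2
      · intro hp
        by_cases hpU : p ∈ U
        · exact Or.inl ⟨hpU, hp⟩
        · exact Or.inr ⟨hpU, hp⟩
    obtain ⟨X₁, X₂, hX₁, hX₂, hdisj, hcov, hZ₁eq, hZ₂eq⟩ :=
      lift_clopen X Z h0 hconn (U ∩ Z) (Uᶜ ∩ Z) hZ₁ hZ₂ hd hun
    have hX₁eq : X₁ = X₂ᶜ := by
      ext p
      constructor
      · intro hp hp'
        exact Set.disjoint_left.1 hdisj hp hp'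
      · intro hp
        have : p ∈ X₁ ∪ X₂ := hcov ▸ Set.mem_univ p
        exact this.resolve_right hp
    have hX₁clopen : IsClopen X₁ := ⟨hX₁, hX₁eq ▸ hX₂.isOpen_compl⟩
    have hx₀X₁ : x₀ ∈ X₁ := by
      have : x₀ ∈ U ∩ Z := ⟨hx₀U, hx₀⟩
      rw [hZ₁eq] at this
      exact this.2
    have hy₀X₂ : y₀ ∈ X₂ := by
      have : y₀ ∈ Uᶜ ∩ Z := ⟨hy₀U, hy₀⟩
      rw [hZ₂eq] at this
      exact this.2
    have hsub := hX₁clopen.connectedComponent_subset hx₀X₁
    have hy₀mem : y₀ ∈ connectedComponent x₀ := by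
      rw [ConnectedComponents.coe_eq_coe] at hxy
      rw [hxy]
      exact mem_connectedComponent
    exact Set.disjoint_left.1 hdisj (hsub hy₀mem) hy₀X₂
  · intro c
    obtain ⟨x, rfl⟩ := ConnectedComponents.surjective_coe c
    obtain ⟨z, ⟨hzc, hxz⟩, -⟩ := huniq x
    refine ⟨⟨z, hzc⟩, ?_⟩
    change ConnectedComponents.mk z = ConnectedComponents.mk x
    rw [ConnectedComponents.coe_eq_coe']
    have hsub : closure {x} ⊆ connectedComponent x :=
      (isConnected_singleton.closure).subset_connectedComponent (subset_closure rfl)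
    exact hsub (specializes_iff_mem_closure.1 hxz)


/-! ### closed points under a w-local map which is bijective on `π₀` -/

theorem closedPts_bij {X Y : Type u} [TopologicalSpace X] [TopologicalSpace Y]
    [SpectralSpace X] [SpectralSpace Y]
    (hX0 : IsClosed {x : X | IsClosed ({x} : Set X)})
    (hXu : ∀ x : X, ∃! z : X, IsClosed ({z} : Set X) ∧ x ⤳ z)
    (hY0 : IsClosed {x : Y | IsClosed ({x} : Set Y)})
    (hYu : ∀ x : Y, ∃! z : Y, IsClosed ({z} : Set Y) ∧ x ⤳ z)
    (f : X → Y) (hf : Continuous f)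
    (hfc : ∀ x : X, IsClosed ({x} : Set X) → IsClosed ({f x} : Set Y))
    (hπ : Function.Bijective hf.connectedComponentsMap) :
    (∀ y : Y, IsClosed ({y} : Set Y) → ∃ x : X, IsClosed ({x} : Set X) ∧ f x = y) ∧
    (∀ x x' : X, IsClosed ({x} : Set X) → IsClosed ({x'} : Set X) → f x = f x' → x = x') := by
  have bX := wlocal_bij X hX0 hXu
  have bY := wlocal_bij Y hY0 hYu
  have hmap : ∀ x : X, hf.connectedComponentsMap (ConnectedComponents.mk x) =
      ConnectedComponents.mk (f x) := fun x => rfl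
  constructor
  · intro y hy
    obtain ⟨c, hc⟩ := hπ.2 (ConnectedComponents.mk y)
    obtain ⟨⟨x₀, hx₀⟩, hx₀c⟩ := bX.2 c
    refine ⟨x₀, hx₀, ?_⟩
    have h1 : ConnectedComponents.mk (f x₀) = ConnectedComponents.mk y := by
      calc ConnectedComponents.mk (f x₀)
          = hf.connectedComponentsMap (ConnectedComponents.mk x₀) := (hmap x₀).symm
        _ = hf.connectedComponentsMap c := by
            rw [show ConnectedComponents.mk x₀ = c from hx₀c]
        _ = ConnectedComponents.mk y := hc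
    have := bY.1 (a₁ := ⟨f x₀, hfc x₀ hx₀⟩) (a₂ := ⟨y, hy⟩) h1
    exact congrArg Subtype.val this
  · intro x x' hx hx' hxx
    have h1 : ConnectedComponents.mk x = ConnectedComponents.mk x' := by
      apply hπ.1
      rw [hmap, hmap, hxx]
    have := bX.1 (a₁ := ⟨x, hx⟩) (a₂ := ⟨x', hx'⟩) h1
    exact congrArg Subtype.val this

/-! ### the algebra -/

section Alg

variable {A B : Type u} [CommRing A] [CommRing B] [Algebra A B]

lemma bij_local (h1 : EtPBC.IdentifiesLocalRings A B) (m' : Ideal B) [hm' : m'.IsPrime] :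
    Function.Bijective (Localization.localRingHom (m'.comap (algebraMap A B)) m'
      (algebraMap A B) rfl) :=
  h1 ⟨m', hm'⟩

theorem injective_of (h1 : EtPBC.IdentifiesLocalRings A B)
    (Hs : ∀ m : Ideal A, m.IsMaximal →
      ∃ m' : Ideal B, m'.IsMaximal ∧ m'.comap (algebraMap A B) = m) :
    Function.Injective (algebraMap A B) := by
  rw [injective_iff_map_eq_zero]
  intro a ha
  by_contra hne
  obtain ⟨N, hNdef⟩ : ∃ N : Ideal A, N = LinearMap.ker (LinearMap.toSpanSingleton A A a) :=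
    ⟨_, rfl⟩
  have hNmem : ∀ t : A, t ∈ N ↔ t * a = 0 := by
    intro t
    rw [hNdef, LinearMap.mem_ker, LinearMap.toSpanSingleton_apply, smul_eq_mul]
  have hN : N ≠ ⊤ := by
    intro h
    have h1N : (1 : A) ∈ N := by rw [h]; exact Submodule.mem_top
    rw [hNmem, one_mul] at h1N
    exact hne h1N
  obtain ⟨m, hm, hNm⟩ := Ideal.exists_le_maximal N hN
  obtain ⟨m', hm', rfl⟩ := Hs m hm
  haveI : m'.IsPrime := hm'.isPrime
  have hb := (bij_local h1 m').1
  have h0 : algebraMap A (Localization.AtPrime (m'.comap (algebraMap A B))) a = 0 := by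
    apply hb
    rw [Localization.localRingHom_to_map, ha]
    simp
  rw [IsLocalization.map_eq_zero_iff (m'.comap (algebraMap A B)).primeCompl] at h0
  obtain ⟨s, hs⟩ := h0
  have hsN : (s : A) ∈ N := (hNmem _).mpr hs
  exact (Ideal.mem_primeCompl_iff.mp s.2) (hNm hsN)

/-- The conductor of `b` into the image of `A`. -/
def conductor (b : B) : Ideal A where
  carrier := {a | ∃ a', algebraMap A B a * b = algebraMap A B a'}
  add_mem' := by
    rintro x y ⟨x', hx⟩ ⟨y', hy⟩
    exact ⟨x' + y', by rw [map_add, add_mul, hx, hy, map_add]⟩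
  zero_mem' := ⟨0, by simp⟩
  smul_mem' := by
    rintro c x ⟨x', hx⟩
    exact ⟨c * x', by rw [smul_eq_mul, map_mul, mul_assoc, hx, map_mul]⟩

lemma mem_conductor {b : B} {a : A} :
    a ∈ conductor (A := A) b ↔ ∃ a', algebraMap A B a * b = algebraMap A B a' := Iff.rfl

theorem surjective_of (h1 : EtPBC.IdentifiesLocalRings A B)
    (Hs : ∀ m : Ideal A, m.IsMaximal →
      ∃ m' : Ideal B, m'.IsMaximal ∧ m'.comap (algebraMap A B) = m)
    (Hu : ∀ (q : Ideal B), q.IsPrime → ∀ (m' : Ideal B), m'.IsMaximal →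
      (m'.comap (algebraMap A B)).IsMaximal →
      q.comap (algebraMap A B) ≤ m'.comap (algebraMap A B) → q ≤ m') :
    Function.Surjective (algebraMap A B) := by
  intro b
  by_cases hC : conductor (A := A) b = ⊤
  · have h1C : (1 : A) ∈ conductor (A := A) b := by rw [hC]; exact Submodule.mem_top
    obtain ⟨a', ha'⟩ := mem_conductor.mp h1C
    exact ⟨a', by rw [← ha', map_one, one_mul]⟩
  · exfalso
    obtain ⟨m, hm, hCm⟩ := Ideal.exists_le_maximal _ hC
    obtain ⟨m', hm', rfl⟩ := Hs m hm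
    haveI : m'.IsPrime := hm'.isPrime
    obtain ⟨x, hx⟩ := (bij_local h1 m').2 (algebraMap B (Localization.AtPrime m') b)
    obtain ⟨a, s, rfl⟩ :=
      IsLocalization.exists_mk'_eq (m'.comap (algebraMap A B)).primeCompl x
    rw [Localization.localRingHom_mk', IsLocalization.mk'_eq_iff_eq_mul, ← map_mul] at hx
    obtain ⟨c, hc⟩ :=
      (IsLocalization.eq_iff_exists m'.primeCompl (Localization.AtPrime m')).mp hx
    have hc' : (c : B) * algebraMap A B a = (c : B) * (b * algebraMap A B s) := hc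
    obtain ⟨d, hd⟩ : ∃ d : B, d = algebraMap A B a - b * algebraMap A B s := ⟨_, rfl⟩
    have hcd : (c : B) * d = 0 := by rw [hd, mul_sub, hc', sub_self]
    obtain ⟨J, hJ⟩ : ∃ J : Ideal B, J = LinearMap.ker (LinearMap.toSpanSingleton B B d) :=
      ⟨_, rfl⟩
    have hJmem : ∀ t : B, t ∈ J ↔ t * d = 0 := by
      intro t
      rw [hJ, LinearMap.mem_ker, LinearMap.toSpanSingleton_apply, smul_eq_mul]
    have hcJ : (c : B) ∈ J := (hJmem _).mpr hcd
    have hex : ∃ t : A, t ∉ m'.comap (algebraMap A B) ∧ algebraMap A B t ∈ J := by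
      by_contra hcon
      push Not at hcon
      have hdisj : Disjoint (J : Set B)
          (Submonoid.map (algebraMap A B) (m'.comap (algebraMap A B)).primeCompl : Submonoid B) := by
        rw [Set.disjoint_left]
        intro y hyJ hyS
        rw [SetLike.mem_coe, Submonoid.mem_map] at hyS
        obtain ⟨t, ht, rfl⟩ := hyS
        exact hcon t (Ideal.mem_primeCompl_iff.mp ht) hyJ
      obtain ⟨q, hq, hJq, hqS⟩ := Ideal.exists_le_prime_disjoint J _ hdisj
      have hqle : q.comap (algebraMap A B) ≤ m'.comap (algebraMap A B) := by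
        intro t htq
        by_contra htm
        exact Set.disjoint_left.mp hqS (show algebraMap A B t ∈ (q : Set B) from htq)
          (Submonoid.mem_map.mpr ⟨t, Ideal.mem_primeCompl_iff.mpr htm, rfl⟩)
      have hqm := Hu q hq m' hm' hm hqle
      exact (Ideal.mem_primeCompl_iff.mp c.2) (hqm (hJq hcJ))
    obtain ⟨t, htm, htJ⟩ := hex
    have h2 : algebraMap A B (t * s) * b = algebraMap A B (t * a) := by
      have h3 := (hJmem _).mp htJ
      rw [hd, mul_sub, sub_eq_zero] at h3
      rw [map_mul, map_mul, h3]; ring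
    have hts : t * (s : A) ∈ conductor (A := A) b := ⟨t * a, h2⟩
    rcases hm.isPrime.mem_or_mem (hCm hts) with h | h
    · exact htm h
    · exact (Ideal.mem_primeCompl_iff.mp s.2) h

end Alg

theorem main0699 (A B : Type u) [CommRing A] [CommRing B]
    [Algebra A B] (h1 : EtPBC.IdentifiesLocalRings A B) (h2 : ProEtW.IsWLocal (PrimeSpectrum A))
    (h3 : ProEtW.IsWLocal (PrimeSpectrum B))
    (h4 : ProEtW.IsWLocalMap (PrimeSpectrum.comap (algebraMap A B)))
    (h5 : Function.Bijective
      (PrimeSpectrum.continuous_comap (algebraMap A B)).connectedComponentsMap) :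
    Function.Bijective (algebraMap A B) := by
  obtain ⟨-, hA0, hAu⟩ := h2
  obtain ⟨-, hB0, hBu⟩ := h3
  obtain ⟨-, hfc⟩ := h4
  obtain ⟨hsurj, hinj⟩ := closedPts_bij hB0 hBu hA0 hAu (PrimeSpectrum.comap (algebraMap A B))
    (PrimeSpectrum.continuous_comap (algebraMap A B)) hfc h5
  have Hs : ∀ m : Ideal A, m.IsMaximal →
      ∃ m' : Ideal B, m'.IsMaximal ∧ m'.comap (algebraMap A B) = m := by
    intro m hm
    obtain ⟨x, hx, hxm⟩ := hsurj ⟨m, hm.isPrime⟩
      ((PrimeSpectrum.isClosed_singleton_iff_isMaximal _).mpr hm)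
    exact ⟨x.asIdeal, (PrimeSpectrum.isClosed_singleton_iff_isMaximal _).mp hx,
      congrArg PrimeSpectrum.asIdeal hxm⟩
  have Hu : ∀ (q : Ideal B), q.IsPrime → ∀ (m' : Ideal B), m'.IsMaximal →
      (m'.comap (algebraMap A B)).IsMaximal →
      q.comap (algebraMap A B) ≤ m'.comap (algebraMap A B) → q ≤ m' := by
    intro q hq m' hm' hm hqle
    obtain ⟨m'', hm'', hqm''⟩ := Ideal.exists_le_maximal q hq.ne_top
    have hz'' : IsClosed ({(⟨m'', hm''.isPrime⟩ : PrimeSpectrum B)} : Set (PrimeSpectrum B)) :=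
      (PrimeSpectrum.isClosed_singleton_iff_isMaximal _).mpr hm''
    have hfz'' := hfc _ hz''
    have hz' : IsClosed ({(⟨m', hm'.isPrime⟩ : PrimeSpectrum B)} : Set (PrimeSpectrum B)) :=
      (PrimeSpectrum.isClosed_singleton_iff_isMaximal _).mpr hm'
    have hfz' := hfc _ hz'
    obtain ⟨p, hp⟩ : ∃ p : PrimeSpectrum A,
        p = PrimeSpectrum.comap (algebraMap A B) ⟨q, hq⟩ := ⟨_, rfl⟩
    have hp1 : p ⤳ PrimeSpectrum.comap (algebraMap A B) ⟨m'', hm''.isPrime⟩ := by
      rw [← PrimeSpectrum.le_iff_specializes, hp]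
      exact Ideal.comap_mono hqm''
    have hp2 : p ⤳ PrimeSpectrum.comap (algebraMap A B) ⟨m', hm'.isPrime⟩ := by
      rw [← PrimeSpectrum.le_iff_specializes, hp]
      exact hqle
    obtain ⟨z, -, hzu⟩ := hAu p
    have e1 := hzu _ ⟨hfz'', hp1⟩
    have e2 := hzu _ ⟨hfz', hp2⟩
    have e3 : (⟨m'', hm''.isPrime⟩ : PrimeSpectrum B) = ⟨m', hm'.isPrime⟩ :=
      hinj _ _ hz'' hz' (e1.trans e2.symm)
    have e4 : m'' = m' := congrArg PrimeSpectrum.asIdeal e3
    rw [← e4]
    exact hqm''
  exact ⟨injective_of h1 Hs, surjective_of h1 Hs Hu⟩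

end Groth.Agent.Lib.Helper29.WLocalIso
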