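import Mathlib
import Groth.Prelude.Def_PBC
import Groth.Prelude.Def_ProEtW
import Groth.Agent.Lib.Helper29.WLocLoc
import Groth.Agent.Lib.Helper29.QuotLoc
import Groth.Agent.Lib.Helper29.WLocalIso

/-!
# S0705: w-localization along a profinite closed subset (helper29)
-/

set_option autoImplicit false
set_option linter.style.haveILetI false
set_option linter.unusedSectionVars false
set_option maxHeartbeats 1600000

universe u

open Topology

namespace Groth.Agent.Lib.Helper29.Main0705

open Groth.Agent.Lib.Helper29.WLocAlg Groth.Agent.Lib.Helper29.WLocSpec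
  Groth.Agent.Lib.Helper29.WLocLoc Groth.Agent.Lib.Helper29.QuotLoc
  Groth.Agent.Lib.Helper29.WLocalIso

variable {A : Type u} [CommRing A] (I : Ideal A)

/-- The closed subset `V(I)` as a type. -/
abbrev TI : Type u := ↥(PrimeSpectrum.zeroLocus (R := A) (I : Set A))

/-- The inclusion. -/
def cI : TI I → PrimeSpectrum A := Subtype.val

variable [CompactSpace (TI I)] [T2Space (TI I)] [TotallyDisconnectedSpace (TI I)]

lemma cI_clopen (a : A) :
    IsClopen (cI I ⁻¹' (PrimeSpectrum.basicOpen a : Set (PrimeSpectrum A))) := by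
  constructor
  · apply IsCompact.isClosed
    have h1 : IsCompact ((PrimeSpectrum.basicOpen a : Set (PrimeSpectrum A)) ∩
        PrimeSpectrum.zeroLocus (I : Set A)) :=
      (PrimeSpectrum.isCompact_basicOpen a).inter_right (PrimeSpectrum.isClosed_zeroLocus _)
    have h2 : cI I ⁻¹' (PrimeSpectrum.basicOpen a : Set (PrimeSpectrum A)) =
        cI I ⁻¹' ((PrimeSpectrum.basicOpen a : Set (PrimeSpectrum A)) ∩
          PrimeSpectrum.zeroLocus (I : Set A)) := by
      ext t
      exact ⟨fun h => ⟨h, t.2⟩, fun h => h.1⟩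
    rw [h2]
    exact (Topology.IsInducing.subtypeVal.isCompact_preimage_iff (by
      rw [Subtype.range_coe]
      exact Set.inter_subset_right)).mpr h1
  · exact (PrimeSpectrum.basicOpen a).isOpen.preimage continuous_subtype_val

/-- The ring. -/
abbrev BI : Type u := Bc A (TI I) (cI I)

lemma closedPoints_eq_zeroLocus :
    ProEtW.closedPoints (PrimeSpectrum (BI I)) =
      PrimeSpectrum.zeroLocus (I.map (algebraMap A (BI I)) : Set (BI I)) := by
  rw [closedPoints_eq (cI I) (cI_clopen I)]
  ext y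
  have hcomap : Ideal.comap (algebraMap A (BI I)) y.asIdeal = (psic (cI I) y).1.asIdeal :=
    congrArg PrimeSpectrum.asIdeal (comap_eq (cI I) y)
  have key : y ∈ PrimeSpectrum.zeroLocus (I.map (algebraMap A (BI I)) : Set (BI I)) ↔
      I ≤ (psic (cI I) y).1.asIdeal := by
    rw [PrimeSpectrum.mem_zeroLocus, SetLike.coe_subset_coe, Ideal.map_le_iff_le_comap, hcomap]
  rw [key]
  constructor
  · intro h
    have h' : (psic (cI I) y).1 = cI I (psic (cI I) y).2 := h
    rw [h']
    exact (psic (cI I) y).2.2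
  · intro h
    have hx : (psic (cI I) y).1 ∈ PrimeSpectrum.zeroLocus (I : Set A) := h
    have hle := psic_le (cI I) (cI_clopen I) y
    have hsp : (⟨(psic (cI I) y).1, hx⟩ : TI I) ⤳ (psic (cI I) y).2 := by
      rw [subtype_specializes_iff]
      exact (PrimeSpectrum.le_iff_specializes _ _).mp hle
    have h3 := hsp.eq
    exact congrArg Subtype.val h3

theorem bijective_quot :
    Function.Bijective (Ideal.quotientMap (I.map (algebraMap A (BI I))) (algebraMap A (BI I))
      Ideal.le_comap_map) := by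
  letI alg : Algebra (A ⧸ I) (BI I ⧸ I.map (algebraMap A (BI I))) :=
    (qMap (B := BI I) I).toAlgebra
  have hc := cI_clopen I
  have h1 : EtPBC.IdentifiesLocalRings (A ⧸ I) (BI I ⧸ I.map (algebraMap A (BI I))) :=
    identifies_quot I (identifies_Bc (cI I) hc)
  have Hs : ∀ m : Ideal (A ⧸ I), m.IsMaximal →
      ∃ m' : Ideal (BI I ⧸ I.map (algebraMap A (BI I))), m'.IsMaximal ∧
        m'.comap (algebraMap (A ⧸ I) (BI I ⧸ I.map (algebraMap A (BI I)))) = m := by
    intro m hm
    haveI := hm.isPrime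
    have hIx : (I : Set A) ⊆ (m.comap (Ideal.Quotient.mk I) : Ideal A) := by
      intro i hi
      change Ideal.Quotient.mk I i ∈ m
      rw [Ideal.Quotient.eq_zero_iff_mem.mpr hi]
      exact m.zero_mem
    obtain ⟨t, ht⟩ : ∃ t : TI I, t = ⟨⟨m.comap (Ideal.Quotient.mk I), inferInstance⟩, hIx⟩ :=
      ⟨_, rfl⟩
    obtain ⟨y₀, hy₀⟩ := exists_psic_eq (cI I) hc (cI I t, t) le_rfl
    have hcl : IsClosed ({y₀} : Set (PrimeSpectrum (BI I))) := by
      rw [isClosed_singleton_iff (cI I) hc, hy₀]
    have hM : y₀.asIdeal.IsMaximal := (PrimeSpectrum.isClosed_singleton_iff_isMaximal _).mp hcl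
    have hcomap : ∀ a : A, algebraMap A (BI I) a ∈ y₀.asIdeal ↔ Ideal.Quotient.mk I a ∈ m := by
      intro a
      rw [algebraMap_mem_iff, hy₀, ht]
      rfl
    have hle : I.map (algebraMap A (BI I)) ≤ y₀.asIdeal := by
      rw [Ideal.map_le_iff_le_comap]
      intro i hi
      change algebraMap A (BI I) i ∈ y₀.asIdeal
      rw [hcomap]
      exact hIx hi
    letI := Ideal.Quotient.field y₀.asIdeal
    refine ⟨Ideal.comap (Ideal.Quotient.factor hle) ⊥,
      Ideal.comap_isMaximal_of_surjective _ (Ideal.Quotient.factor_surjective hle), ?_⟩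
    ext abar
    obtain ⟨a, rfl⟩ := Ideal.Quotient.mk_surjective abar
    rw [← hcomap a]
    change Ideal.Quotient.factor hle (Ideal.Quotient.mk _ (algebraMap A (BI I) a)) ∈
      (⊥ : Ideal (BI I ⧸ y₀.asIdeal)) ↔ _
    rw [Ideal.mem_bot, Ideal.Quotient.factor_mk, Ideal.Quotient.eq_zero_iff_mem]
  have Hu : ∀ (q : Ideal (BI I ⧸ I.map (algebraMap A (BI I)))), q.IsPrime →
      ∀ (m' : Ideal (BI I ⧸ I.map (algebraMap A (BI I)))), m'.IsMaximal →
      (m'.comap (algebraMap (A ⧸ I) (BI I ⧸ I.map (algebraMap A (BI I))))).IsMaximal →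
      q.comap (algebraMap (A ⧸ I) (BI I ⧸ I.map (algebraMap A (BI I)))) ≤
        m'.comap (algebraMap (A ⧸ I) (BI I ⧸ I.map (algebraMap A (BI I)))) → q ≤ m' := by
    intro q hq m' hm' _ hle
    haveI := hq
    haveI := hm'
    have hmp : (m'.comap (Ideal.Quotient.mk (I.map (algebraMap A (BI I))))).IsPrime :=
      (Ideal.comap_isMaximal_of_surjective _ Ideal.Quotient.mk_surjective).isPrime
    obtain ⟨yq, hyq⟩ : ∃ yq : PrimeSpectrum (BI I),
        yq = ⟨q.comap (Ideal.Quotient.mk (I.map (algebraMap A (BI I)))), inferInstance⟩ :=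
      ⟨_, rfl⟩
    obtain ⟨ym, hym⟩ : ∃ ym : PrimeSpectrum (BI I),
        ym = ⟨m'.comap (Ideal.Quotient.mk (I.map (algebraMap A (BI I)))), hmp⟩ :=
      ⟨_, rfl⟩
    have hmemq : yq ∈ ProEtW.closedPoints (PrimeSpectrum (BI I)) := by
      rw [closedPoints_eq_zeroLocus, PrimeSpectrum.mem_zeroLocus, hyq]
      intro b hb
      change Ideal.Quotient.mk _ b ∈ q
      rw [Ideal.Quotient.eq_zero_iff_mem.mpr hb]
      exact q.zero_mem
    have hmemm : ym ∈ ProEtW.closedPoints (PrimeSpectrum (BI I)) := by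
      rw [closedPoints_eq_zeroLocus, PrimeSpectrum.mem_zeroLocus, hym]
      intro b hb
      change Ideal.Quotient.mk _ b ∈ m'
      rw [Ideal.Quotient.eq_zero_iff_mem.mpr hb]
      exact m'.zero_mem
    rw [closedPoints_eq (cI I) hc] at hmemq hmemm
    have eq1 : (psic (cI I) yq).1 = cI I (psic (cI I) yq).2 := hmemq
    have eq2 : (psic (cI I) ym).1 = cI I (psic (cI I) ym).2 := hmemm
    have h2 : (psic (cI I) yq).1 ≤ (psic (cI I) ym).1 := by
      rw [← comap_eq, ← comap_eq, hyq, hym]
      intro a ha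
      exact hle (show Ideal.Quotient.mk I a ∈
        q.comap (algebraMap (A ⧸ I) (BI I ⧸ I.map (algebraMap A (BI I)))) from ha)
    have h3 : (psic (cI I) yq).2 = (psic (cI I) ym).2 := by
      have hsp : (psic (cI I) yq).2 ⤳ (psic (cI I) ym).2 := by
        rw [subtype_specializes_iff]
        rw [eq1, eq2] at h2
        exact (PrimeSpectrum.le_iff_specializes _ _).mp h2
      exact hsp.eq
    have h4 : yq = ym :=
      (isEmbedding_psic (cI I)).injective (Prod.ext (by rw [eq1, eq2, h3]) h3)
    have h5 : q.comap (Ideal.Quotient.mk (I.map (algebraMap A (BI I)))) =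
        m'.comap (Ideal.Quotient.mk (I.map (algebraMap A (BI I)))) := by
      have := congrArg PrimeSpectrum.asIdeal h4
      rw [hyq, hym] at this
      exact this
    have h6 : q = m' :=
      Ideal.comap_injective_of_surjective _ Ideal.Quotient.mk_surjective h5
    exact h6.le
  exact ⟨injective_of h1 Hs, surjective_of h1 Hs Hu⟩

end Groth.Agent.Lib.Helper29.Main0705

namespace Groth.Agent.Lib.Helper29.Main0705

open Groth.Agent.Lib.Helper29.WLocAlg Groth.Agent.Lib.Helper29.WLocSpec

theorem main0705 (A : Type u) [CommRing A] (I : Ideal A)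
    (hI : ProEtW.IsProfinite (PrimeSpectrum.zeroLocus (R := A) I)) :
    ∃ (B : Type u) (_ : CommRing B) (_ : Algebra A B),
      EtPBC.IsIndZariski A B ∧ ProEtW.IsWLocal (PrimeSpectrum B) ∧
      ProEtW.closedPoints (PrimeSpectrum B) = PrimeSpectrum.zeroLocus (I.map (algebraMap A B)) ∧
      Function.Bijective (Ideal.quotientMap (I.map (algebraMap A B)) (algebraMap A B)
        Ideal.le_comap_map) := by
  obtain ⟨h1, h2, h3⟩ := hI
  haveI : CompactSpace (TI I) := h1
  haveI : T2Space (TI I) := h2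
  haveI : TotallyDisconnectedSpace (TI I) := h3
  exact ⟨BI I, inferInstance, inferInstance, isIndZariski_Bc A (TI I) (cI I),
    isWLocal (cI I) (cI_clopen I), closedPoints_eq_zeroLocus I, bijective_quot I⟩

end Groth.Agent.Lib.Helper29.Main0705
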