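import Mathlib
import Groth.Prelude.Def_PBC
import Groth.Prelude.Def_ProEtW
import Groth.Agent.Lib.Helper2.Spectral
import Groth.Agent.Lib.Helper29.Main0705

/-!
# S0737: w-localization for algebraic residue field extensions (helper29)
-/

set_option autoImplicit false
set_option linter.style.haveILetI false
set_option linter.unusedSectionVars false
set_option maxHeartbeats 1600000

universe u

open Topology

namespace Groth.Agent.Lib.Helper29.Main0737

open Groth.Agent.Lib.Helper29.Main0705

/-- A `T1` spectral space is totally separated (hence profinite). -/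
theorem totallySeparated_of_t1 (X : Type u) [TopologicalSpace X] [SpectralSpace X] [T1Space X] :
    TotallySeparatedSpace X := by
  have hclosed : ∀ V : Set X, IsOpen V → IsCompact V → IsClosed V := by
    intro V hVo hVc
    rw [← isOpen_compl_iff, isOpen_iff_forall_mem_open]
    intro y hy
    have hex : ∀ z : V, ∃ U : Set X, IsOpen U ∧ IsCompact U ∧ y ∈ U ∧ (z : X) ∉ U := by
      intro z
      have hne : y ≠ (z : X) := fun h => hy (h ▸ z.2)
      obtain ⟨U, ⟨hUo, hUc⟩, hyU, hUsub⟩ :=
        PrespectralSpace.isTopologicalBasis.exists_subset_of_mem_open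
          (show y ∈ ({(z : X)}ᶜ : Set X) from hne) isOpen_compl_singleton
      exact ⟨U, hUo, hUc, hyU, fun hzU => hUsub hzU rfl⟩
    choose U hUo hUc hyU hzU using hex
    have hVcc : IsCompact
        (WithTopology.ofTopology ⁻¹' V : Set (WithConstructibleTopology X)) := by
      apply IsClosed.isCompact
      rw [WithConstructibleTopology.isClosed_iff]
      refine @IsClosed.mk X (constructibleTopology X) _ ?_
      change IsOpen[constructibleTopology X] Vᶜ
      exact IsCompact.isOpen_constructibleTopology_of_isClosed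
        (by rw [compl_compl]; exact hVc) hVo.isClosed_compl
    obtain ⟨F, hF⟩ := hVcc.elim_finite_subcover
      (fun z : V => (WithTopology.ofTopology ⁻¹' (U z)ᶜ : Set (WithConstructibleTopology X)))
      (fun z => by
        rw [WithConstructibleTopology.isOpen_iff]
        change IsOpen[constructibleTopology X] (U z)ᶜ
        exact IsCompact.isOpen_constructibleTopology_of_isClosed
          (by rw [compl_compl]; exact hUc z) (hUo z).isClosed_compl)
      (fun w hw => Set.mem_iUnion.mpr ⟨⟨WithTopology.ofTopology w, hw⟩, hzU _⟩)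
    refine ⟨⋂ z ∈ F, U z, ?_, isOpen_biInter_finset fun z _ => hUo z,
      Set.mem_iInter₂.mpr fun z _ => hyU z⟩
    intro w hwW hwV
    have h1 : WithTopology.toTopology (constructibleTopology X) w ∈
        (WithTopology.ofTopology ⁻¹' V : Set (WithConstructibleTopology X)) := hwV
    have h2 := hF h1
    simp only [Set.mem_iUnion, exists_prop] at h2
    obtain ⟨z, hzF, hz⟩ := h2
    exact hz (Set.mem_iInter₂.mp hwW z hzF)
  rw [totallySeparatedSpace_iff_exists_isClopen]
  intro x y hxy
  obtain ⟨V, ⟨hVo, hVc⟩, hxV, hVsub⟩ :=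
    PrespectralSpace.isTopologicalBasis.exists_subset_of_mem_open
      (show x ∈ ({y}ᶜ : Set X) from hxy) isOpen_compl_singleton
  exact ⟨V, ⟨hclosed V hVo hVc, hVo⟩, hxV, fun hyV => hVsub hyV rfl⟩

lemma isSpectralMap_comap {R S : Type u} [CommRing R] [CommRing S] (f : R →+* S) :
    IsSpectralMap (PrimeSpectrum.comap f) := by
  classical
  refine ⟨PrimeSpectrum.continuous_comap f, fun s hso hsc => ?_⟩
  obtain ⟨t, rfl⟩ := PrimeSpectrum.isCompact_isOpen_iff.mp ⟨hsc, hso⟩
  have h : PrimeSpectrum.comap f ⁻¹' (PrimeSpectrum.zeroLocus (t : Set R))ᶜ =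
      (PrimeSpectrum.zeroLocus ((t.image f : Finset S) : Set S))ᶜ := by
    rw [Set.preimage_compl, PrimeSpectrum.preimage_comap_zeroLocus, Finset.coe_image]
  rw [h]
  exact (PrimeSpectrum.isCompact_isOpen_iff.mpr ⟨t.image f, rfl⟩).1

variable {A B : Type u} [CommRing A] [CommRing B] [Algebra A B]

lemma isMaximal_of_algebraic (h : ProEtW.AlgebraicResidueExtensions A B) (q : Ideal B)
    [q.IsPrime] (hp : (q.comap (algebraMap A B)).IsMaximal) : q.IsMaximal := by
  haveI := h q
  have hint : Algebra.IsIntegral (A ⧸ q.comap (algebraMap A B)) (B ⧸ q) := by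
    letI := Ideal.Quotient.field (q.comap (algebraMap A B))
    exact Algebra.IsAlgebraic.isIntegral
  have hR : IsField (A ⧸ q.comap (algebraMap A B)) :=
    (Ideal.Quotient.maximal_ideal_iff_isField_quotient _).mp hp
  have hS : IsField (B ⧸ q) := isField_of_isIntegral_of_isField' hR
  exact Ideal.Quotient.maximal_of_isField q hS

lemma profinite_zeroLocus (J : Ideal B)
    (h1 : PrimeSpectrum.zeroLocus (J : Set B) ⊆ ProEtW.closedPoints (PrimeSpectrum B)) :
    ProEtW.IsProfinite (PrimeSpectrum.zeroLocus (R := B) J) := by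
  have hemb : IsClosedEmbedding
      (Subtype.val : ↥(PrimeSpectrum.zeroLocus (J : Set B)) → PrimeSpectrum B) :=
    (PrimeSpectrum.isClosed_zeroLocus _).isClosedEmbedding_subtypeVal
  haveI : SpectralSpace ↥(PrimeSpectrum.zeroLocus (J : Set B)) :=
    Groth.Agent.Lib.Helper2.spectralSpace_of_isClosedEmbedding hemb
  haveI : T1Space ↥(PrimeSpectrum.zeroLocus (J : Set B)) := ⟨fun t => by
    have hcl : IsClosed ({t.1} : Set (PrimeSpectrum B)) := h1 t.2
    have h2 : ({t} : Set ↥(PrimeSpectrum.zeroLocus (J : Set B))) = Subtype.val ⁻¹' {t.1} := by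
      ext s
      simp [Subtype.ext_iff]
    rw [h2]
    exact hcl.preimage continuous_subtype_val⟩
  haveI := totallySeparated_of_t1 ↥(PrimeSpectrum.zeroLocus (J : Set B))
  exact ⟨inferInstance, inferInstance, inferInstance⟩

theorem main0737 (A B : Type u) [CommRing A]
    [CommRing B] [Algebra A B] (hA : ProEtW.IsWLocal (PrimeSpectrum A)) (I : Ideal A)
    (hI : I.IsRadical)
    (hI0 : PrimeSpectrum.zeroLocus (R := A) I = ProEtW.closedPoints (PrimeSpectrum A))
    (h : ProEtW.AlgebraicResidueExtensions A B) :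
    PrimeSpectrum.zeroLocus (R := B) (I.map (algebraMap A B)) ⊆
      ProEtW.closedPoints (PrimeSpectrum B) ∧
    ∃ (C : Type u) (_ : CommRing C) (_ : Algebra B C) (_ : Algebra A C)
      (_ : IsScalarTower A B C),
      EtPBC.IsIndZariski B C ∧
      Function.Bijective (Ideal.quotientMap ((I.map (algebraMap A B)).map (algebraMap B C))
        (algebraMap B C) Ideal.le_comap_map) ∧
      ProEtW.IsWLocal (PrimeSpectrum C) ∧
      ProEtW.IsWLocalMap (PrimeSpectrum.comap (algebraMap A C)) ∧
      ProEtW.closedPoints (PrimeSpectrum C) =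
        PrimeSpectrum.comap (algebraMap A C) ⁻¹' ProEtW.closedPoints (PrimeSpectrum A) := by
  have h1 : PrimeSpectrum.zeroLocus (R := B) (I.map (algebraMap A B)) ⊆
      ProEtW.closedPoints (PrimeSpectrum B) := by
    intro y hy
    have hx : PrimeSpectrum.comap (algebraMap A B) y ∈ PrimeSpectrum.zeroLocus (I : Set A) := by
      rw [PrimeSpectrum.mem_zeroLocus] at hy ⊢
      intro i hi
      exact hy (Ideal.mem_map_of_mem _ hi)
    rw [hI0] at hx
    have hmax : (y.asIdeal.comap (algebraMap A B)).IsMaximal :=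
      (PrimeSpectrum.isClosed_singleton_iff_isMaximal _).mp hx
    haveI := y.isPrime
    exact (PrimeSpectrum.isClosed_singleton_iff_isMaximal _).mpr
      (isMaximal_of_algebraic h y.asIdeal hmax)
  refine ⟨h1, ?_⟩
  have hprof : ProEtW.IsProfinite
      (PrimeSpectrum.zeroLocus (R := B) (I.map (algebraMap A B))) :=
    profinite_zeroLocus (I.map (algebraMap A B)) h1
  obtain ⟨C, iC, aC, hind, hwl, hcp, hbij⟩ := main0705 B (I.map (algebraMap A B)) hprof
  letI algAC : Algebra A C := ((algebraMap B C).comp (algebraMap A B)).toAlgebra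
  haveI hst : IsScalarTower A B C := IsScalarTower.of_algebraMap_eq (fun _ => rfl)
  have hfwd : ∀ z : PrimeSpectrum C,
      z ∈ PrimeSpectrum.zeroLocus (((I.map (algebraMap A B)).map (algebraMap B C) : Ideal C) :
        Set C) → PrimeSpectrum.comap (algebraMap A C) z ∈ PrimeSpectrum.zeroLocus (I : Set A) := by
    intro z hz
    rw [PrimeSpectrum.mem_zeroLocus] at hz ⊢
    intro i hi
    exact hz (Ideal.mem_map_of_mem _ (Ideal.mem_map_of_mem _ hi))
  refine ⟨C, iC, aC, algAC, hst, hind, hbij, hwl, ⟨isSpectralMap_comap _, fun z hz => ?_⟩, ?_⟩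
  · have hz' : z ∈ ProEtW.closedPoints (PrimeSpectrum C) := hz
    rw [hcp] at hz'
    have h2 := hfwd z hz'
    rw [hI0] at h2
    exact h2
  · rw [hcp, ← hI0]
    ext z
    constructor
    · intro hz
      exact hfwd z hz
    · intro hz
      have hz' : PrimeSpectrum.comap (algebraMap A C) z ∈
          PrimeSpectrum.zeroLocus (I : Set A) := hz
      rw [PrimeSpectrum.mem_zeroLocus] at hz' ⊢
      rw [SetLike.coe_subset_coe, Ideal.map_le_iff_le_comap, Ideal.map_le_iff_le_comap]
      intro i hi
      exact hz' hi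

end Groth.Agent.Lib.Helper29.Main0737
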