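import Mathlib
import Groth.Prelude.Def_PBC
import Groth.Prelude.Def_ProEtW
import Groth.Prelude.Def_EtBase
import Groth.Agent.Lib.Helper8.Hzl.IndEtaleCat
import Groth.Agent.Lib.Helper8.Hzl.PairUniversal
import Groth.Agent.Lib.Helper29.Main0737

/-!
# Auxiliary lemmas for S0692 (helper29)
-/

set_option autoImplicit false
set_option linter.style.haveILetI false
set_option linter.unusedSectionVars false
set_option maxHeartbeats 1600000

universe u

open Topology TensorProduct

namespace Groth.Agent.Lib.Helper29.Aux0692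

/-! ### local isomorphisms are étale -/

lemma etale_of_isLocalIso {R S : Type u} [CommRing R] [CommRing S] [Algebra R S]
    [Algebra.IsLocalIso R S] : Algebra.Etale R S := by
  rw [← RingHom.etale_algebraMap]
  apply RingHom.Etale.ofLocalizationSpanTarget (algebraMap R S)
    {g : S | Algebra.IsStandardOpenImmersion R (Localization.Away g)}
    (Algebra.IsLocalIso.span_isStandardOpenImmersion_eq_top R S)
  intro r
  have hcomp : (algebraMap S (Localization.Away (r : S))).comp (algebraMap R S) =
      algebraMap R (Localization.Away (r : S)) :=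
    (IsScalarTower.algebraMap_eq R S (Localization.Away (r : S))).symm
  rw [hcomp, RingHom.etale_algebraMap]
  haveI : Algebra.IsStandardOpenImmersion R (Localization.Away (r : S)) := r.2
  obtain ⟨f, hf⟩ := Algebra.IsStandardOpenImmersion.exists_away R (Localization.Away (r : S))
  haveI := hf
  exact Algebra.Etale.of_isLocalizationAway f

theorem isIndEtale_of_isIndZariski (A B : Type u) [CommRing A] [CommRing B] [Algebra A B]
    (h : EtPBC.IsIndZariski A B) : EtPBC.IsIndEtale A B := by
  obtain ⟨J, i1, i2, D, c, hc, hD, hiso⟩ := h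
  refine ⟨J, i1, i2, D, c, hc, fun j => ?_, hiso⟩
  have h1 := hD j
  exact @etale_of_isLocalIso A (D.obj j).right _ _ (D.obj j).hom.hom.toAlgebra h1

/-! ### primes of ind-étale algebras over maximal ideals are maximal -/

theorem isMaximal_of_isIndEtale (A C : Type u) [CommRing A] [CommRing C] [Algebra A C]
    (h : EtPBC.IsIndEtale A C) (q : Ideal C) [hq : q.IsPrime]
    (hp : (q.comap (algebraMap A C)).IsMaximal) : q.IsMaximal := by
  obtain ⟨J, _, _, E, _, _, hE, tr, φ, hφ, hsurj, hzero, -⟩ :=
    Groth.Agent.Lib.Helper8.Hzl.exists_concrete_of_isIndEtale A C h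
  obtain ⟨q', hq'max, hqq'⟩ := Ideal.exists_le_maximal q hq.ne_top
  haveI := hq'max.isPrime
  have hcomap : q.comap (algebraMap A C) = q'.comap (algebraMap A C) :=
    hp.eq_of_le (Ideal.comap_ne_top _ hq'max.ne_top) (Ideal.comap_mono hqq')
  suffices hs : q = q' by
    rw [hs]
    exact hq'max
  apply le_antisymm hqq'
  intro x hx
  obtain ⟨j, e, rfl⟩ := hsurj x
  haveI := hE j
  haveI h1 : (q.comap (φ j).toRingHom).IsPrime := Ideal.comap_isPrime _ _
  haveI h2 : (q'.comap (φ j).toRingHom).IsPrime := Ideal.comap_isPrime _ _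
  have hle : q.comap (φ j).toRingHom ≤ q'.comap (φ j).toRingHom := Ideal.comap_mono hqq'
  have hunder : (q.comap (φ j).toRingHom).under A = (q'.comap (φ j).toRingHom).under A := by
    ext a
    change φ j (algebraMap A (E j) a) ∈ q ↔ φ j (algebraMap A (E j) a) ∈ q'
    rw [(φ j).commutes]
    change a ∈ q.comap (algebraMap A C) ↔ a ∈ q'.comap (algebraMap A C)
    rw [hcomap]
  have heq := Algebra.QuasiFinite.eq_of_le_of_under_eq (R := A) _ _ hle hunder
  have hmem : e ∈ q'.comap (φ j).toRingHom := hx
  rw [← heq] at hmem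
  exact hmem

/-! ### strictly henselian local rings and ring isomorphisms -/

lemma isSepClosed_of_ringEquiv {K L : Type*} [Field K] [Field L] (e : K ≃+* L) [IsSepClosed K] :
    IsSepClosed L := by
  refine ⟨fun p hp => ?_⟩
  have h1 : (p.map (e.symm : L →+* K)).Separable := hp.map
  have h2 := (IsSepClosed.splits_of_separable _ h1).map (e : K →+* L)
  rwa [Polynomial.map_map, show (e : K →+* L).comp (e.symm : L →+* K) = RingHom.id L from
    RingHom.ext fun x => e.apply_symm_apply x, Polynomial.map_id] at h2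

lemma strictlyHenselian_of_ringEquiv {R S : Type u} [CommRing R] [CommRing S] (e : R ≃+* S)
    (h : EtCoh.IsStrictlyHenselianLocalRing R) : EtCoh.IsStrictlyHenselianLocalRing S := by
  obtain ⟨hH, hS⟩ := h
  haveI := hH
  haveI hH' : HenselianLocalRing S :=
    Groth.Agent.Lib.Helper8.Hzl.henselianLocalRing_of_ringEquiv e
  refine ⟨hH', ?_⟩
  haveI := hS
  exact isSepClosed_of_ringEquiv (IsLocalRing.ResidueField.mapEquiv e)

/-! ### lifting primes along a bijection of quotients -/

lemma exists_comap_eq_of_bijective_quotientMap {R S : Type u} [CommRing R] [CommRing S]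
    [Algebra R S] (J : Ideal R)
    (hb : Function.Bijective (Ideal.quotientMap (J.map (algebraMap R S)) (algebraMap R S)
      Ideal.le_comap_map))
    (y₁ : PrimeSpectrum R) (hy₁ : J ≤ y₁.asIdeal) :
    ∃ y : PrimeSpectrum S, PrimeSpectrum.comap (algebraMap R S) y = y₁ := by
  haveI := y₁.isPrime
  haveI hprime : (y₁.asIdeal.map (Ideal.Quotient.mk J)).IsPrime :=
    Ideal.map_isPrime_of_surjective Ideal.Quotient.mk_surjective (by rw [Ideal.mk_ker]; exact hy₁)
  have hcomap : (y₁.asIdeal.map (Ideal.Quotient.mk J)).comap (Ideal.Quotient.mk J) = y₁.asIdeal :=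
    Ideal.comap_map_mk hy₁
  obtain ⟨e, he⟩ : ∃ e : (R ⧸ J) ≃+* (S ⧸ J.map (algebraMap R S)),
      ∀ x, e x = Ideal.quotientMap (J.map (algebraMap R S)) (algebraMap R S)
        Ideal.le_comap_map x := ⟨RingEquiv.ofBijective _ hb, fun x => rfl⟩
  haveI h2 : ((y₁.asIdeal.map (Ideal.Quotient.mk J)).comap e.symm.toRingHom).IsPrime :=
    Ideal.comap_isPrime _ _
  refine ⟨⟨((y₁.asIdeal.map (Ideal.Quotient.mk J)).comap e.symm.toRingHom).comap
    (Ideal.Quotient.mk (J.map (algebraMap R S))), Ideal.comap_isPrime _ _⟩, ?_⟩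
  apply PrimeSpectrum.ext
  ext x
  change e.symm (Ideal.Quotient.mk (J.map (algebraMap R S)) (algebraMap R S x)) ∈
    y₁.asIdeal.map (Ideal.Quotient.mk J) ↔ x ∈ y₁.asIdeal
  have h3 : Ideal.Quotient.mk (J.map (algebraMap R S)) (algebraMap R S x) =
      e (Ideal.Quotient.mk J x) := by
    rw [he, Ideal.quotientMap_mk]
  rw [h3, RingEquiv.symm_apply_apply]
  constructor
  · intro hx
    have hx' : x ∈ (y₁.asIdeal.map (Ideal.Quotient.mk J)).comap (Ideal.Quotient.mk J) := hx
    rwa [hcomap] at hx'
  · intro hx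
    exact Ideal.mem_map_of_mem _ hx

/-! ### algebraic residue extensions and tensor products -/

lemma exists_poly_of_algebraicResidueExtensions {A B : Type u} [CommRing A] [CommRing B]
    [Algebra A B] (h : ProEtW.AlgebraicResidueExtensions A B) (q : Ideal B) [q.IsPrime] (b : B) :
    ∃ P : Polynomial A, (∃ i, P.coeff i ∉ q.comap (algebraMap A B)) ∧
      Polynomial.aeval b P ∈ q := by
  haveI := h q
  obtain ⟨Pb, hPb0, hPb⟩ := Algebra.IsAlgebraic.isAlgebraic
    (R := A ⧸ q.comap (algebraMap A B)) (Ideal.Quotient.mk q b)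
  obtain ⟨P, rfl⟩ := Polynomial.map_surjective
    (Ideal.Quotient.mk (q.comap (algebraMap A B))) Ideal.Quotient.mk_surjective Pb
  refine ⟨P, ?_, ?_⟩
  · by_contra hall
    push Not at hall
    apply hPb0
    ext i
    rw [Polynomial.coeff_map, Polynomial.coeff_zero]
    exact Ideal.Quotient.eq_zero_iff_mem.mpr (hall i)
  · rw [← Ideal.Quotient.eq_zero_iff_mem]
    have hfg : (Ideal.Quotient.mk q).comp (algebraMap A B) =
        (algebraMap (A ⧸ q.comap (algebraMap A B)) (B ⧸ q)).comp
          (Ideal.Quotient.mk (q.comap (algebraMap A B))) := RingHom.ext fun a => rfl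
    have h1 : Ideal.Quotient.mk q (Polynomial.aeval b P) =
        Polynomial.aeval (Ideal.Quotient.mk q b)
          (P.map (Ideal.Quotient.mk (q.comap (algebraMap A B)))) := by
      rw [Polynomial.aeval_def, Polynomial.aeval_def, Polynomial.eval₂_map,
        Polynomial.hom_eval₂, hfg]
    rw [h1]
    exact hPb

attribute [local instance] Algebra.TensorProduct.rightAlgebra

theorem isMaximal_tensor (A B C : Type u) [CommRing A] [CommRing B] [CommRing C]
    [Algebra A B] [Algebra A C] (h : ProEtW.AlgebraicResidueExtensions A B)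
    (Q : Ideal (B ⊗[A] C)) [hQ : Q.IsPrime]
    (hr : (Q.comap (algebraMap C (B ⊗[A] C))).IsMaximal) : Q.IsMaximal := by
  letI := Ideal.Quotient.field (Q.comap (algebraMap C (B ⊗[A] C)))
  haveI hq : (Q.comap (algebraMap B (B ⊗[A] C))).IsPrime := Ideal.comap_isPrime _ _
  have hmem : ∀ t : B ⊗[A] C, IsIntegral (C ⧸ Q.comap (algebraMap C (B ⊗[A] C)))
      (Ideal.Quotient.mk Q t) := by
    intro t
    induction t using TensorProduct.induction_on with
    | zero =>
      rw [map_zero]
      exact isIntegral_zero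
    | tmul b c =>
      have hbc : b ⊗ₜ[A] c = (algebraMap B (B ⊗[A] C) b) * (algebraMap C (B ⊗[A] C) c) := by
        change b ⊗ₜ[A] c = (b ⊗ₜ[A] (1 : C)) * ((1 : B) ⊗ₜ[A] c)
        rw [Algebra.TensorProduct.tmul_mul_tmul, mul_one, one_mul]
      rw [hbc, map_mul]
      apply IsIntegral.mul
      · -- the image of `b`
        obtain ⟨P, ⟨i, hi⟩, hP⟩ := exists_poly_of_algebraicResidueExtensions h
          (Q.comap (algebraMap B (B ⊗[A] C))) b
        apply IsAlgebraic.isIntegral
        refine ⟨P.map ((Ideal.Quotient.mk (Q.comap (algebraMap C (B ⊗[A] C)))).comp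
          (algebraMap A C)), ?_, ?_⟩
        · intro h0
          apply hi
          have h1 := congrArg (fun p => Polynomial.coeff p i) h0
          simp only [Polynomial.coeff_map, Polynomial.coeff_zero] at h1
          have h2 : algebraMap A C (P.coeff i) ∈ Q.comap (algebraMap C (B ⊗[A] C)) :=
            Ideal.Quotient.eq_zero_iff_mem.mp h1
          change algebraMap B (B ⊗[A] C) (algebraMap A B (P.coeff i)) ∈ Q
          have h3 : algebraMap C (B ⊗[A] C) (algebraMap A C (P.coeff i)) ∈ Q := h2
          rw [← IsScalarTower.algebraMap_apply A C (B ⊗[A] C)] at h3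
          rw [← IsScalarTower.algebraMap_apply A B (B ⊗[A] C)]
          exact h3
        · have hfg : (algebraMap (C ⧸ Q.comap (algebraMap C (B ⊗[A] C))) ((B ⊗[A] C) ⧸ Q)).comp
              ((Ideal.Quotient.mk (Q.comap (algebraMap C (B ⊗[A] C)))).comp (algebraMap A C)) =
              ((Ideal.Quotient.mk Q).comp (algebraMap B (B ⊗[A] C))).comp (algebraMap A B) := by
            apply RingHom.ext
            intro a
            change Ideal.Quotient.mk Q (algebraMap C (B ⊗[A] C) (algebraMap A C a)) =
              Ideal.Quotient.mk Q (algebraMap B (B ⊗[A] C) (algebraMap A B a))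
            rw [← IsScalarTower.algebraMap_apply A C (B ⊗[A] C),
              ← IsScalarTower.algebraMap_apply A B (B ⊗[A] C)]
          rw [Polynomial.aeval_def, Polynomial.eval₂_map, hfg]
          have h4 := Polynomial.hom_eval₂ P (algebraMap A B)
            ((Ideal.Quotient.mk Q).comp (algebraMap B (B ⊗[A] C))) b
          refine h4.symm.trans ?_
          change Ideal.Quotient.mk Q (algebraMap B (B ⊗[A] C)
            (Polynomial.eval₂ (algebraMap A B) b P)) = 0
          rw [Ideal.Quotient.eq_zero_iff_mem]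
          exact hP
      · have hc : Ideal.Quotient.mk Q (algebraMap C (B ⊗[A] C) c) =
            algebraMap (C ⧸ Q.comap (algebraMap C (B ⊗[A] C))) ((B ⊗[A] C) ⧸ Q)
              (Ideal.Quotient.mk _ c) := rfl
        rw [hc]
        exact isIntegral_algebraMap
    | add x y hx hy =>
      rw [map_add]
      exact hx.add hy
  haveI : Algebra.IsIntegral (C ⧸ Q.comap (algebraMap C (B ⊗[A] C))) ((B ⊗[A] C) ⧸ Q) := by
    refine ⟨fun x => ?_⟩
    obtain ⟨t, rfl⟩ := Ideal.Quotient.mk_surjective x
    exact hmem t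
  have hR : IsField (C ⧸ Q.comap (algebraMap C (B ⊗[A] C))) :=
    (Ideal.Quotient.maximal_ideal_iff_isField_quotient _).mp hr
  have hS : IsField ((B ⊗[A] C) ⧸ Q) := isField_of_isIntegral_of_isField' hR
  exact Ideal.Quotient.maximal_of_isField Q hS

end Groth.Agent.Lib.Helper29.Aux0692
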