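import Mathlib
import Groth.Prelude.Def_PBC
import Groth.Agent.Lib.Helper29.WLocLoc

/-!
# Ind-Zariski algebras identify local rings (helper29)
-/

set_option autoImplicit false
set_option linter.style.haveILetI false
set_option linter.unusedSectionVars false
set_option maxHeartbeats 1600000

universe u

open CategoryTheory Limits

namespace Groth.Agent.Lib.Helper29.IndZarId

open Groth.Agent.Lib.Helper29.WLocLoc

/-- Concrete data extracted from `EtPBC.IsIndZariski` (after helper8's ind-étale version). -/
theorem exists_concrete_of_isIndZariski (A B : Type u) [CommRing A] [CommRing B] [Algebra A B]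
    (h : EtPBC.IsIndZariski A B) :
    ∃ (J : Type u) (_ : SmallCategory J) (_ : IsFiltered J) (E : J → Type u)
      (_ : ∀ j, CommRing (E j)) (_ : ∀ j, Algebra A (E j)) (_ : ∀ j, Algebra.IsLocalIso A (E j))
      (tr : ∀ {j k : J}, (j ⟶ k) → (E j →ₐ[A] E k)) (φ : ∀ j, E j →ₐ[A] B),
      (∀ (j k : J) (f : j ⟶ k) (x : E j), φ k (tr f x) = φ j x) ∧
      (∀ b : B, ∃ (j : J) (x : E j), φ j x = b) ∧
      (∀ (j : J) (x : E j), φ j x = 0 → ∃ (k : J) (f : j ⟶ k), tr f x = 0) := by
  obtain ⟨J, _, _, D, c, hc, hD, ⟨e⟩⟩ := h
  let F := Under.forget (CommRingCat.of A) ⋙ forget CommRingCat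
  have hcT : IsColimit (F.mapCocone c) := isColimitOfPreserves F hc
  letI alg : ∀ j, Algebra A (D.obj j).right := fun j => (D.obj j).hom.hom.toAlgebra
  let tr : ∀ {j k : J}, (j ⟶ k) → ((D.obj j).right →ₐ[A] (D.obj k).right) := fun {j k} f =>
    { toRingHom := (D.map f).right.hom
      commutes' := fun a => by
        have := Under.w (D.map f)
        exact DFunLike.congr_fun (congrArg CommRingCat.Hom.hom this) a }
  let φ : ∀ j, (D.obj j).right →ₐ[A] B := fun j =>
    { toRingHom := (e.hom.right.hom).comp (c.ι.app j).right.hom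
      commutes' := fun a => by
        have h1 := Under.w (c.ι.app j)
        have h2 := Under.w e.hom
        have h1' := DFunLike.congr_fun (congrArg CommRingCat.Hom.hom h1) a
        have h2' := DFunLike.congr_fun (congrArg CommRingCat.Hom.hom h2) a
        simp only [RingHom.toMonoidHom_eq_coe, OneHom.toFun_eq_coe, MonoidHom.toOneHom_coe,
          MonoidHom.coe_coe, RingHom.coe_comp, Function.comp_apply]
        change e.hom.right.hom ((c.ι.app j).right.hom ((D.obj j).hom.hom a)) = _
        erw [h1', h2']
        rfl }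
  refine ⟨J, inferInstance, inferInstance, fun j => (D.obj j).right, inferInstance, alg, hD,
    tr, φ, ?_, ?_, ?_⟩
  · intro j k f x
    have := c.w f
    have h3 := congrArg (fun g => g.right.hom x) this
    change e.hom.right.hom ((c.ι.app k).right.hom ((D.map f).right.hom x)) =
      e.hom.right.hom ((c.ι.app j).right.hom x)
    congr 1
  · intro b
    obtain ⟨j, x, hx⟩ := Types.jointly_surjective_of_isColimit hcT (e.inv.right.hom b)
    refine ⟨j, x, ?_⟩
    change e.hom.right.hom ((c.ι.app j).right.hom x) = b
    have h4 : (c.ι.app j).right.hom x = e.inv.right.hom b := hx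
    rw [h4]
    have h5 := congrArg (fun g => g.right.hom b) e.inv_hom_id
    exact h5
  · intro j x hx
    have h6 : (c.ι.app j).right.hom x = (c.ι.app j).right.hom 0 := by
      rw [map_zero]
      have h7 : e.hom.right.hom ((c.ι.app j).right.hom x) = 0 := hx
      have h8 := congrArg (e.inv.right.hom) h7
      rw [map_zero] at h8
      have h9 := congrArg (fun g => g.right.hom ((c.ι.app j).right.hom x)) e.hom_inv_id
      exact h9.symm.trans h8
    obtain ⟨k, f, g, hfg⟩ := (Types.FilteredColimit.isColimit_eq_iff _ hcT).mp h6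
    refine ⟨k, f, ?_⟩
    change (D.map f).right.hom x = 0
    have h10 : (D.map f).right.hom x = (D.map g).right.hom 0 := hfg
    rw [h10, map_zero]

/-- The local structure of a local isomorphism at a prime. -/
lemma local_package {A E : Type u} [CommRing A] [CommRing E] [Algebra A E]
    [Algebra.IsLocalIso A E] (Q : Ideal E) [hQ : Q.IsPrime] :
    ∃ (g : E) (f : A), g ∉ Q ∧ algebraMap A E f ∉ Q ∧
      (∀ x : E, ∃ (n m : ℕ) (a : A),
        g ^ m * (x * algebraMap A E f ^ n) = g ^ m * algebraMap A E a) ∧
      (∀ a : A, (∃ m : ℕ, g ^ m * algebraMap A E a = 0) → ∃ m : ℕ, f ^ m * a = 0) := by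
  obtain ⟨g, hg, hstd⟩ := Algebra.IsLocalIso.exists_notMem_isStandardOpenImmersion (R := A) Q
  haveI := hstd
  obtain ⟨f, hf⟩ := Algebra.IsStandardOpenImmersion.exists_away A (Localization.Away g)
  haveI : IsLocalization.Away f (Localization.Away g) := hf
  have htower : ∀ a : A, algebraMap A (Localization.Away g) a =
      algebraMap E (Localization.Away g) (algebraMap A E a) := fun a =>
    IsScalarTower.algebraMap_apply A E (Localization.Away g) a
  refine ⟨g, f, hg, ?_, ?_, ?_⟩
  · intro hfQ
    have hu := IsLocalization.Away.mul_invSelf (S := Localization.Away g) f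
    obtain ⟨n, a, ha⟩ := IsLocalization.Away.surj (S := Localization.Away g) g
      (IsLocalization.Away.invSelf (S := Localization.Away g) f)
    have h1 : algebraMap E (Localization.Away g) (algebraMap A E f * a) =
        algebraMap E (Localization.Away g) (g ^ n) := by
      rw [map_mul, ← htower, ← ha, ← mul_assoc, hu, one_mul, map_pow]
    obtain ⟨m, hm⟩ := IsLocalization.Away.exists_of_eq g h1
    have h2 : g ^ m * g ^ n ∈ Q := by
      rw [← hm]
      exact Q.mul_mem_left _ (Q.mul_mem_right _ hfQ)
    rw [← pow_add] at h2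
    exact hg (hQ.mem_of_pow_mem _ h2)
  · intro x
    obtain ⟨n, a, ha⟩ := IsLocalization.Away.surj (S := Localization.Away g) f
      (algebraMap E (Localization.Away g) x)
    have h1 : algebraMap E (Localization.Away g) (x * algebraMap A E f ^ n) =
        algebraMap E (Localization.Away g) (algebraMap A E a) := by
      rw [map_mul, map_pow, ← htower, ← htower]
      exact ha
    obtain ⟨m, hm⟩ := IsLocalization.Away.exists_of_eq g h1
    exact ⟨n, m, a, hm⟩
  · rintro a ⟨m, hm⟩
    have h1 : algebraMap A (Localization.Away g) a = 0 := by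
      rw [htower]
      exact (IsLocalization.map_eq_zero_iff (Submonoid.powers g) (Localization.Away g) _).mpr
        ⟨⟨g ^ m, m, rfl⟩, hm⟩
    obtain ⟨⟨_, m', rfl⟩, hc⟩ :=
      (IsLocalization.map_eq_zero_iff (Submonoid.powers f) (Localization.Away g) a).mp h1
    exact ⟨m', hc⟩

/-- Ind-Zariski algebras identify local rings. -/
theorem identifies_of_isIndZariski (A B : Type u) [CommRing A] [CommRing B] [Algebra A B]
    (h : EtPBC.IsIndZariski A B) : EtPBC.IdentifiesLocalRings A B := by
  obtain ⟨J, _, _, E, _, _, hE, tr, φ, hφ, hsurj, hzero⟩ := exists_concrete_of_isIndZariski A B h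
  intro q
  haveI := q.isPrime
  apply bijective_localRingHom_of q.asIdeal
  · intro b
    obtain ⟨j, x, rfl⟩ := hsurj b
    haveI := hE j
    haveI hQ : (q.asIdeal.comap (φ j).toRingHom).IsPrime := Ideal.comap_isPrime _ _
    obtain ⟨g, f, hg, hf, h3, -⟩ := local_package (A := A) (q.asIdeal.comap (φ j).toRingHom)
    obtain ⟨n, m, a, e⟩ := h3 x
    refine ⟨a, f ^ n, (φ j g) ^ m, ?_, ?_, ?_⟩
    · intro hmem
      have h1 : algebraMap A B (f ^ n) ∈ q.asIdeal := hmem
      rw [map_pow] at h1
      have h2 := q.isPrime.mem_of_pow_mem _ h1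
      apply hf
      change φ j (algebraMap A (E j) f) ∈ q.asIdeal
      rw [(φ j).commutes]
      exact h2
    · intro hmem
      exact hg (q.isPrime.mem_of_pow_mem _ hmem)
    · have e' := congrArg (φ j) e
      simp only [map_mul, map_pow, AlgHom.commutes] at e'
      rw [map_pow]
      exact e'
  · rintro a ⟨u, hu, hua⟩
    obtain ⟨j, x, rfl⟩ := hsurj u
    have h0 : φ j (x * algebraMap A (E j) a) = 0 := by
      rw [map_mul, (φ j).commutes]
      exact hua
    obtain ⟨k, t, ht⟩ := hzero j _ h0
    rw [map_mul, (tr t).commutes] at ht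
    have hx' : φ k (tr t x) ∉ q.asIdeal := by
      rw [hφ]
      exact hu
    haveI := hE k
    haveI hQ : (q.asIdeal.comap (φ k).toRingHom).IsPrime := Ideal.comap_isPrime _ _
    obtain ⟨g, f, hg, hf, h3, h4⟩ := local_package (A := A) (q.asIdeal.comap (φ k).toRingHom)
    obtain ⟨n, m, a'', e⟩ := h3 (tr t x)
    have h5 : g ^ m * algebraMap A (E k) (a'' * a) = 0 := by
      rw [map_mul]
      calc g ^ m * (algebraMap A (E k) a'' * algebraMap A (E k) a)
          = (g ^ m * algebraMap A (E k) a'') * algebraMap A (E k) a := by ring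
        _ = (g ^ m * (tr t x * algebraMap A (E k) f ^ n)) * algebraMap A (E k) a := by rw [e]
        _ = g ^ m * algebraMap A (E k) f ^ n * (tr t x * algebraMap A (E k) a) := by ring
        _ = 0 := by rw [ht, mul_zero]
    obtain ⟨m', hm'⟩ := h4 (a'' * a) ⟨m, h5⟩
    refine ⟨f ^ m' * a'', ?_, by rw [mul_assoc]; exact hm'⟩
    intro hmem
    have hQmem : algebraMap A (E k) (f ^ m' * a'') ∈ q.asIdeal.comap (φ k).toRingHom := by
      change φ k (algebraMap A (E k) (f ^ m' * a'')) ∈ q.asIdeal
      rw [(φ k).commutes]
      exact hmem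
    rw [map_mul, map_pow] at hQmem
    rcases hQ.mem_or_mem hQmem with h6 | h6
    · exact hf (hQ.mem_of_pow_mem _ h6)
    · have h7 : g ^ m * (tr t x * algebraMap A (E k) f ^ n) ∈
          q.asIdeal.comap (φ k).toRingHom := by
        rw [e]
        exact Ideal.mul_mem_left _ _ h6
      rcases hQ.mem_or_mem h7 with h8 | h8
      · exact hg (hQ.mem_of_pow_mem _ h8)
      · rcases hQ.mem_or_mem h8 with h9 | h9
        · exact hx' h9
        · exact hf (hQ.mem_of_pow_mem _ h9)

lemma bij_congr' {A B : Type u} [CommRing A] [CommRing B] {I : Ideal A} [I.IsPrime]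
    {K : Ideal B} [K.IsPrime] {f f' : A →+* B} (hff : f = f') (h : I = K.comap f)
    (h' : I = K.comap f') (hb : Function.Bijective (Localization.localRingHom I K f' h')) :
    Function.Bijective (Localization.localRingHom I K f h) := by
  subst hff
  exact hb

/-- Maps identifying local rings compose. -/
theorem identifies_comp {A B D : Type u} [CommRing A] [CommRing B] [CommRing D] [Algebra A B]
    [Algebra B D] [Algebra A D] [IsScalarTower A B D]
    (h1 : EtPBC.IdentifiesLocalRings A B) (h2 : EtPBC.IdentifiesLocalRings B D) :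
    EtPBC.IdentifiesLocalRings A D := by
  intro y
  haveI := y.isPrime
  have hcomp : (algebraMap B D).comp (algebraMap A B) = algebraMap A D :=
    (IsScalarTower.algebraMap_eq A B D).symm
  have hIJ : y.asIdeal.comap (algebraMap A D) =
      (y.asIdeal.comap (algebraMap B D)).comap (algebraMap A B) := by
    rw [Ideal.comap_comap, hcomp]
  have hcompEq := Localization.localRingHom_comp (I := y.asIdeal.comap (algebraMap A D))
    (y.asIdeal.comap (algebraMap B D)) y.asIdeal (algebraMap A B) hIJ (algebraMap B D) rfl
  have key : ∀ (I : Ideal A) [I.IsPrime]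
      (hI : I = (y.asIdeal.comap (algebraMap B D)).comap (algebraMap A B)),
      Function.Bijective (Localization.localRingHom I (y.asIdeal.comap (algebraMap B D))
        (algebraMap A B) hI) := by
    intro I _ hI
    subst hI
    exact h1 ⟨y.asIdeal.comap (algebraMap B D), inferInstance⟩
  have hf := key _ hIJ
  have hg := h2 y
  have e : ∀ z, Localization.localRingHom (y.asIdeal.comap (algebraMap A D))
      y.asIdeal ((algebraMap B D).comp (algebraMap A B)) (by rw [hcomp]) z =
      Localization.localRingHom (y.asIdeal.comap (algebraMap B D))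
        y.asIdeal (algebraMap B D) rfl
        (Localization.localRingHom (y.asIdeal.comap (algebraMap A D))
          (y.asIdeal.comap (algebraMap B D)) (algebraMap A B) hIJ z) :=
    fun z => RingHom.congr_fun hcompEq z
  have hL : Function.Bijective (Localization.localRingHom (y.asIdeal.comap (algebraMap A D))
      y.asIdeal ((algebraMap B D).comp (algebraMap A B)) (by rw [hcomp])) := by
    constructor
    · intro u v huv
      rw [e, e] at huv
      exact hf.1 (hg.1 huv)
    · intro w
      obtain ⟨w1, rfl⟩ := hg.2 w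
      obtain ⟨w0, rfl⟩ := hf.2 w1
      exact ⟨w0, e w0⟩
  exact bij_congr' hcomp.symm rfl _ hL

/-- Ind-Zariski algebras are flat. -/
theorem flat_of_isIndZariski (A B : Type u) [CommRing A] [CommRing B] [Algebra A B]
    (h : EtPBC.IsIndZariski A B) : Module.Flat A B :=
  flat_of_identifies (identifies_of_isIndZariski A B h)

end Groth.Agent.Lib.Helper29.IndZarId
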