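import Mathlib

/-!
# Olivier's theorem, formal parts (helper29)

* `bijective_of_tmul_eq` : a faithfully flat ring map `A → B` with `b ⊗ 1 = 1 ⊗ b` is bijective.
* `tmul_eq_of_prime` : for weakly étale `A → B`, if `b ⊗ 1 - 1 ⊗ b` lies in every prime of
  `B ⊗[A] B` then `b ⊗ 1 = 1 ⊗ b`.
* `eq_of_KL` : two maps `B → Ω` to an algebraically closed field agreeing on `A` agree, provided the
  geometric fibres of `A → B` are "trivial" in the sense `1 ⊗ b = ℓ ⊗ 1`.
-/

set_option autoImplicit false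
set_option linter.style.haveILetI false
set_option linter.unusedSectionVars false
set_option maxHeartbeats 1600000

universe u

open TensorProduct

namespace Groth.Agent.Lib.Helper29.Oliv1

section PartIII

variable {A B : Type u} [CommRing A] [CommRing B] [Algebra A B]

theorem bijective_of_tmul_eq [Module.FaithfullyFlat A B]
    (h : ∀ b : B, (b ⊗ₜ[A] (1 : B) : B ⊗[A] B) = 1 ⊗ₜ[A] b) :
    Function.Bijective (algebraMap A B) := by
  refine ⟨FaithfulSMul.algebraMap_injective A B, ?_⟩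
  have hs : Function.Surjective ((Algebra.linearMap A B).lTensor B) := by
    intro t
    induction t using TensorProduct.induction_on with
    | zero => exact ⟨0, map_zero _⟩
    | tmul b b' =>
      refine ⟨(b * b') ⊗ₜ[A] (1 : A), ?_⟩
      rw [LinearMap.lTensor_tmul, Algebra.linearMap_apply, map_one]
      have e1 : (b ⊗ₜ[A] b' : B ⊗[A] B) = (b ⊗ₜ[A] (1 : B)) * ((1 : B) ⊗ₜ[A] b') := by
        rw [Algebra.TensorProduct.tmul_mul_tmul, mul_one, one_mul]
      have e2 : ((b * b') ⊗ₜ[A] (1 : B) : B ⊗[A] B)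
          = (b ⊗ₜ[A] (1 : B)) * (b' ⊗ₜ[A] (1 : B)) := by
        rw [Algebra.TensorProduct.tmul_mul_tmul, mul_one]
      rw [e1, e2, h b']
    | add x y hx hy =>
      obtain ⟨x', rfl⟩ := hx
      obtain ⟨y', rfl⟩ := hy
      exact ⟨x' + y', map_add _ _ _⟩
  have hs' := (Module.FaithfullyFlat.lTensor_surjective_iff_surjective A B
    (Algebra.linearMap A B)).mp hs
  intro b
  obtain ⟨a, ha⟩ := hs' b
  exact ⟨a, by rw [← ha, Algebra.linearMap_apply]⟩

/-- The multiplication map. -/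
noncomputable abbrev mu (A B : Type u) [CommRing A] [CommRing B] [Algebra A B] :
    B ⊗[A] B →ₐ[A] B := Algebra.TensorProduct.lmul' A

theorem tmul_eq_of_prime [Algebra.WeaklyEtale A B]
    (hP : ∀ (P : Ideal (B ⊗[A] B)), P.IsPrime →
      ∀ b : B, (b ⊗ₜ[A] (1 : B) - 1 ⊗ₜ[A] b : B ⊗[A] B) ∈ P) :
    ∀ b : B, (b ⊗ₜ[A] (1 : B) : B ⊗[A] B) = 1 ⊗ₜ[A] b := by
  have hN : ∀ b : B, (b ⊗ₜ[A] (1 : B) - 1 ⊗ₜ[A] b : B ⊗[A] B) ∈ nilradical (B ⊗[A] B) := by
    intro b
    rw [nilradical_eq_sInf, Ideal.mem_sInf]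
    intro P hP'
    exact hP P hP' b
  have hker : ∀ c : B ⊗[A] B, c - (mu A B c) ⊗ₜ[A] (1 : B) ∈ nilradical (B ⊗[A] B) := by
    intro c
    induction c using TensorProduct.induction_on with
    | zero => simp
    | tmul b b' =>
      have : (b ⊗ₜ[A] b' - (mu A B (b ⊗ₜ[A] b')) ⊗ₜ[A] (1 : B) : B ⊗[A] B)
          = - ((b ⊗ₜ[A] (1 : B)) * (b' ⊗ₜ[A] (1 : B) - 1 ⊗ₜ[A] b')) := by
        simp only [mu, Algebra.TensorProduct.lmul'_apply_tmul, mul_sub,
          Algebra.TensorProduct.tmul_mul_tmul, mul_one, one_mul, neg_sub]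
      rw [this]
      exact neg_mem (Ideal.mul_mem_left _ _ (hN b'))
    | add x y hx hy =>
      have : x + y - (mu A B (x + y)) ⊗ₜ[A] (1 : B)
          = (x - (mu A B x) ⊗ₜ[A] (1 : B)) + (y - (mu A B y) ⊗ₜ[A] (1 : B)) := by
        rw [map_add, TensorProduct.add_tmul]; ring
      rw [this]; exact add_mem hx hy
  intro b
  have hfl := Algebra.WeaklyEtale.flat_lmul' A B
  letI algC : Algebra (B ⊗[A] B) B := (mu A B).toRingHom.toAlgebra
  haveI : Module.Flat (B ⊗[A] B) B := hfl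
  have hsm : ∀ (c : B ⊗[A] B) (y : B), c • y = mu A B c * y := fun c y => rfl
  set x : B ⊗[A] B := b ⊗ₜ[A] (1 : B) - 1 ⊗ₜ[A] b with hx
  have hμx : mu A B x = 0 := by
    simp [hx, mu]
  have hrel : ∑ i : Unit, (fun _ : Unit => x) i • (fun _ : Unit => (1 : B)) i = 0 := by
    simp [hsm, hμx]
  obtain ⟨k, a, y, h1, h2⟩ := Module.Flat.isTrivialRelation_of_sum_smul_eq_zero (R := B ⊗[A] B) (M := B)
    (f := fun _ : Unit => x) (x := fun _ : Unit => (1 : B)) hrel
  have h2' : ∀ j, x * a () j = 0 := by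
    intro j
    simpa using h2 j
  let c : Fin k → B ⊗[A] B := fun j => (y j) ⊗ₜ[A] (1 : B)
  have hc : ∀ j, mu A B (c j) = y j := fun j => by simp [c, mu]
  set e : B ⊗[A] B := ∑ j, a () j * c j with he
  have hμe : mu A B e = 1 := by
    rw [he, map_sum]
    refine Eq.trans ?_ (h1 ()).symm
    refine Finset.sum_congr rfl (fun j _ => ?_)
    rw [map_mul, hc, hsm]
  have hxe : x * e = 0 := by
    rw [he, Finset.mul_sum]
    refine Finset.sum_eq_zero (fun j _ => ?_)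
    rw [← mul_assoc, h2' j, zero_mul]
  have hnil : IsNilpotent (1 - e) := by
    have := hker (1 - e)
    rw [map_sub, map_one, hμe, sub_self, TensorProduct.zero_tmul, sub_zero] at this
    exact mem_nilradical.mp this
  have hu : IsUnit e := by
    have := hnil.isUnit_one_sub
    rwa [sub_sub_cancel] at this
  have hx0 : x = 0 := by
    obtain ⟨u, hu'⟩ := hu
    calc x = x * e * ↑u⁻¹ := by rw [mul_assoc, ← hu', Units.mul_inv, mul_one]
      _ = 0 := by rw [hxe, zero_mul]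
  exact sub_eq_zero.mp hx0

end PartIII

section PartII

variable {A B : Type u} [CommRing A] [CommRing B] [Algebra A B]

theorem eq_of_KL {Ω : Type u} [Field Ω] [IsAlgClosed Ω] (φ₁ φ₂ : B →+* Ω)
    (h12 : φ₁.comp (algebraMap A B) = φ₂.comp (algebraMap A B))
    (hKL : ∀ (p : Ideal A) [p.IsPrime] (b : B),
      ∃ ℓ : AlgebraicClosure (FractionRing (A ⧸ p)),
        ((1 : AlgebraicClosure (FractionRing (A ⧸ p))) ⊗ₜ[A] b :
          AlgebraicClosure (FractionRing (A ⧸ p)) ⊗[A] B) = ℓ ⊗ₜ[A] (1 : B)) :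
    φ₁ = φ₂ := by
  let g₀ : A →+* Ω := φ₁.comp (algebraMap A B)
  haveI hp : (RingHom.ker g₀).IsPrime := RingHom.ker_isPrime g₀
  let g₁ : A ⧸ RingHom.ker g₀ →+* Ω := RingHom.kerLift g₀
  have hg₁ : Function.Injective g₁ := RingHom.kerLift_injective g₀
  let g₂ : FractionRing (A ⧸ RingHom.ker g₀) →+* Ω := IsFractionRing.lift hg₁
  letI algK : Algebra (FractionRing (A ⧸ RingHom.ker g₀)) Ω := g₂.toAlgebra
  let ι' : AlgebraicClosure (FractionRing (A ⧸ RingHom.ker g₀))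
      →ₐ[FractionRing (A ⧸ RingHom.ker g₀)] Ω := IsAlgClosed.lift
  have hι : ∀ a : A, ι' (algebraMap A _ a) = g₀ a := by
    intro a
    rw [IsScalarTower.algebraMap_apply A (FractionRing (A ⧸ RingHom.ker g₀))
      (AlgebraicClosure (FractionRing (A ⧸ RingHom.ker g₀))), AlgHom.commutes,
      RingHom.algebraMap_toAlgebra,
      IsScalarTower.algebraMap_apply A (A ⧸ RingHom.ker g₀)
        (FractionRing (A ⧸ RingHom.ker g₀)),
      IsFractionRing.lift_algebraMap, Ideal.Quotient.algebraMap_eq, RingHom.kerLift_mk]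
  letI algA : Algebra A Ω := g₀.toAlgebra
  let ιA : AlgebraicClosure (FractionRing (A ⧸ RingHom.ker g₀)) →ₐ[A] Ω :=
    { ι'.toRingHom with commutes' := fun a => hι a }
  let f₁ : B →ₐ[A] Ω := { φ₁ with commutes' := fun a => rfl }
  let f₂ : B →ₐ[A] Ω := { φ₂ with commutes' := fun a => (RingHom.congr_fun h12 a).symm }
  ext b
  obtain ⟨ℓ, hℓ⟩ := hKL (RingHom.ker g₀) b
  have e1 := congrArg (Algebra.TensorProduct.productMap ιA f₁) hℓ
  have e2 := congrArg (Algebra.TensorProduct.productMap ιA f₂) hℓ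
  rw [Algebra.TensorProduct.productMap_apply_tmul, Algebra.TensorProduct.productMap_apply_tmul,
    map_one, map_one, one_mul, mul_one] at e1 e2
  exact e1.trans e2.symm

/-- Part II: the KL condition forces `b ⊗ 1 - 1 ⊗ b` into every prime of `B ⊗[A] B`. -/
theorem mem_prime_of_KL
    (hKL : ∀ (p : Ideal A) [p.IsPrime] (b : B),
      ∃ ℓ : AlgebraicClosure (FractionRing (A ⧸ p)),
        ((1 : AlgebraicClosure (FractionRing (A ⧸ p))) ⊗ₜ[A] b :
          AlgebraicClosure (FractionRing (A ⧸ p)) ⊗[A] B) = ℓ ⊗ₜ[A] (1 : B))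
    (P : Ideal (B ⊗[A] B)) (hPp : P.IsPrime) (b : B) :
    (b ⊗ₜ[A] (1 : B) - 1 ⊗ₜ[A] b : B ⊗[A] B) ∈ P := by
  haveI := hPp
  let Ω := AlgebraicClosure (FractionRing ((B ⊗[A] B) ⧸ P))
  let χ : B ⊗[A] B →+* Ω := (algebraMap ((B ⊗[A] B) ⧸ P) Ω).comp (Ideal.Quotient.mk P)
  have hinj : Function.Injective (algebraMap ((B ⊗[A] B) ⧸ P) Ω) := by
    rw [IsScalarTower.algebraMap_eq ((B ⊗[A] B) ⧸ P) (FractionRing ((B ⊗[A] B) ⧸ P)) Ω]
    exact (algebraMap (FractionRing ((B ⊗[A] B) ⧸ P)) Ω).injective.comp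
      (IsFractionRing.injective _ _)
  have hχ : ∀ c, χ c = 0 → c ∈ P := by
    intro c hc
    have : algebraMap ((B ⊗[A] B) ⧸ P) Ω (Ideal.Quotient.mk P c) = 0 := hc
    rw [← map_zero (algebraMap ((B ⊗[A] B) ⧸ P) Ω)] at this
    exact Ideal.Quotient.eq_zero_iff_mem.mp (hinj this)
  let φ₁ : B →+* Ω := χ.comp (Algebra.TensorProduct.includeLeft : B →ₐ[A] B ⊗[A] B).toRingHom
  let φ₂ : B →+* Ω := χ.comp (Algebra.TensorProduct.includeRight : B →ₐ[A] B ⊗[A] B).toRingHom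
  have h12 : φ₁.comp (algebraMap A B) = φ₂.comp (algebraMap A B) := by
    ext a
    change χ ((algebraMap A B a) ⊗ₜ[A] (1 : B)) = χ ((1 : B) ⊗ₜ[A] (algebraMap A B a))
    rw [Algebra.algebraMap_eq_smul_one, TensorProduct.smul_tmul]
  have h := eq_of_KL φ₁ φ₂ h12 hKL
  apply hχ
  rw [map_sub, sub_eq_zero]
  exact RingHom.congr_fun h b

end PartII

end Groth.Agent.Lib.Helper29.Oliv1
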