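import Mathlib
import Groth.Agent.S1974

/-!
# Olivier's theorem, local-algebra parts (helper29)

* `exists_sub_mem` : for a weakly étale local hom `A → B` with `κ(A)` separably closed, the
  residue fields agree (elementwise form).
* `isLocalRing_tensor` : `B ⊗[A] A''` is local for `A''` local and integral over `A`.
-/

set_option autoImplicit false
set_option linter.style.haveILetI false
set_option linter.unusedSectionVars false
set_option maxHeartbeats 1600000

universe u

open TensorProduct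

namespace Groth.Agent.Lib.Helper29.Oliv2

section Resid

variable (A B : Type u) [CommRing A] [CommRing B] [IsLocalRing A] [IsLocalRing B]
  [IsSepClosed (IsLocalRing.ResidueField A)] [Algebra A B] [IsLocalHom (algebraMap A B)]
  [Algebra.WeaklyEtale A B]

theorem exists_sub_mem (b : B) :
    ∃ a : A, b - algebraMap A B a ∈ IsLocalRing.maximalIdeal B := by
  letI := Localization.AtPrime.algebraOfLiesOver (IsLocalRing.maximalIdeal A)
    (IsLocalRing.maximalIdeal B)
  haveI hsep : Algebra.IsSeparable (IsLocalRing.maximalIdeal A).ResidueField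
      (IsLocalRing.maximalIdeal B).ResidueField :=
    Groth.Agent.S1974.result A B (IsLocalRing.maximalIdeal A) (IsLocalRing.maximalIdeal B)
  haveI hsep' : Algebra.IsSeparable (IsLocalRing.ResidueField A) (IsLocalRing.ResidueField B) :=
    (Algebra.isSeparable_residueField_iff (p := IsLocalRing.maximalIdeal A)
      (q := IsLocalRing.maximalIdeal B)).mp hsep
  obtain ⟨x, hx⟩ := IsSepClosed.algebraMap_surjective (IsLocalRing.ResidueField A)
    (IsLocalRing.ResidueField B) (IsLocalRing.residue B b)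
  obtain ⟨a, rfl⟩ := IsLocalRing.residue_surjective x
  refine ⟨a, ?_⟩
  rw [← IsLocalRing.residue_eq_zero_iff, map_sub, sub_eq_zero, ← hx]
  rfl

end Resid

section LocalTensor

variable {A B A'' : Type u} [CommRing A] [CommRing B] [CommRing A''] [IsLocalRing A]
  [IsLocalRing B] [IsLocalRing A''] [Algebra A B] [Algebra A A'']
  [IsLocalHom (algebraMap A B)] [IsLocalHom (algebraMap A A'')]
  [Module.FaithfullyFlat A B] [Algebra.IsIntegral A A'']

theorem mem_of_isMaximal_left (M : Ideal (B ⊗[A] A'')) [M.IsMaximal] {m : B}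
    (hm : m ∈ IsLocalRing.maximalIdeal B) : (m ⊗ₜ[A] (1 : A'') : B ⊗[A] A'') ∈ M := by
  have h1 : (M.comap (algebraMap B (B ⊗[A] A''))).IsMaximal :=
    Ideal.isMaximal_comap_of_isIntegral_of_isMaximal M
  have h2 := IsLocalRing.eq_maximalIdeal h1
  have h3 : m ∈ M.comap (algebraMap B (B ⊗[A] A'')) := h2 ▸ hm
  rw [Ideal.mem_comap] at h3
  have e : algebraMap B (B ⊗[A] A'') m = m ⊗ₜ[A] (1 : A'') := by
    rw [Algebra.TensorProduct.algebraMap_apply]; rfl
  rwa [e] at h3

theorem mem_of_isMaximal_right (M : Ideal (B ⊗[A] A'')) [hM : M.IsMaximal] {n : A''}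
    (hn : n ∈ IsLocalRing.maximalIdeal A'') : ((1 : B) ⊗ₜ[A] n : B ⊗[A] A'') ∈ M := by
  let ρ : A'' →+* B ⊗[A] A'' :=
    (Algebra.TensorProduct.includeRight : A'' →ₐ[A] B ⊗[A] A'').toRingHom
  haveI : (M.comap ρ).IsPrime := Ideal.IsPrime.comap ρ
  have hcomap : (M.comap ρ).comap (algebraMap A A'') = IsLocalRing.maximalIdeal A := by
    ext a
    simp only [Ideal.mem_comap]
    have e : ρ (algebraMap A A'' a) = (algebraMap A B a) ⊗ₜ[A] (1 : A'') := by
      change (1 : B) ⊗ₜ[A] (algebraMap A A'' a) = _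
      rw [Algebra.algebraMap_eq_smul_one, Algebra.algebraMap_eq_smul_one,
        TensorProduct.smul_tmul]
    rw [e]
    constructor
    · intro h
      by_contra ha
      have hu : IsUnit a := IsLocalRing.notMem_maximalIdeal.mp ha
      have hu' : IsUnit ((algebraMap A B a) ⊗ₜ[A] (1 : A'') : B ⊗[A] A'') := by
        have := hu.map (algebraMap A (B ⊗[A] A''))
        rwa [Algebra.TensorProduct.algebraMap_apply] at this
      exact hM.ne_top (Ideal.eq_top_of_isUnit_mem _ h hu')
    · intro ha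
      refine mem_of_isMaximal_left M ?_
      have : a ∈ (IsLocalRing.maximalIdeal B).comap (algebraMap A B) := by
        rw [IsLocalRing.maximalIdeal_comap]; exact ha
      exact this
  have hmax : (M.comap ρ).IsMaximal := by
    apply Ideal.isMaximal_of_isIntegral_of_isMaximal_comap (R := A) (M.comap ρ)
    rw [hcomap]; exact IsLocalRing.maximalIdeal.isMaximal A
  have h2 := IsLocalRing.eq_maximalIdeal hmax
  have hn' : n ∈ M.comap ρ := h2 ▸ hn
  exact hn'

theorem isLocalRing_tensor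
    (hres : ∀ b : B, ∃ a : A, b - algebraMap A B a ∈ IsLocalRing.maximalIdeal B) :
    IsLocalRing (B ⊗[A] A'') := by
  haveI : Nontrivial (B ⊗[A] A'') := by
    have hinj := Module.FaithfullyFlat.tensorProduct_mk_injective (A := A) (B := B) A''
    refine ⟨⟨(1 : B) ⊗ₜ[A] (1 : A''), 0, fun h => ?_⟩⟩
    have : TensorProduct.mk A B A'' 1 1 = TensorProduct.mk A B A'' 1 0 := by
      rw [map_zero]; exact h
    exact one_ne_zero (hinj this)
  have key : ∀ t : B ⊗[A] A'', ∃ x : A'', ∀ M : Ideal (B ⊗[A] A''), M.IsMaximal →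
      t - (1 : B) ⊗ₜ[A] x ∈ M := by
    intro t
    induction t using TensorProduct.induction_on with
    | zero => exact ⟨0, fun M _ => by simp⟩
    | tmul b x =>
      obtain ⟨a, ha⟩ := hres b
      refine ⟨a • x, fun M hM => ?_⟩
      haveI := hM
      have : (b ⊗ₜ[A] x - (1 : B) ⊗ₜ[A] (a • x) : B ⊗[A] A'')
          = ((b - algebraMap A B a) ⊗ₜ[A] (1 : A'')) * ((1 : B) ⊗ₜ[A] x) := by
        rw [Algebra.TensorProduct.tmul_mul_tmul, mul_one, one_mul, TensorProduct.sub_tmul,
          Algebra.algebraMap_eq_smul_one, TensorProduct.smul_tmul]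
      rw [this]
      exact Ideal.mul_mem_right _ _ (mem_of_isMaximal_left M ha)
    | add t₁ t₂ h₁ h₂ =>
      obtain ⟨x₁, hx₁⟩ := h₁
      obtain ⟨x₂, hx₂⟩ := h₂
      refine ⟨x₁ + x₂, fun M hM => ?_⟩
      have : t₁ + t₂ - (1 : B) ⊗ₜ[A] (x₁ + x₂)
          = (t₁ - (1 : B) ⊗ₜ[A] x₁) + (t₂ - (1 : B) ⊗ₜ[A] x₂) := by
        rw [TensorProduct.tmul_add]; ring
      rw [this]; exact add_mem (hx₁ M hM) (hx₂ M hM)
  have hle : ∀ (M₁ M₂ : Ideal (B ⊗[A] A'')), M₁.IsMaximal → M₂.IsMaximal → M₁ ≤ M₂ := by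
    intro M₁ M₂ h₁ h₂ t ht
    obtain ⟨x, hx⟩ := key t
    have h1 : (1 : B) ⊗ₜ[A] x ∈ M₁ := by
      have := sub_mem ht (hx M₁ h₁)
      rwa [sub_sub_cancel] at this
    have hxm : x ∈ IsLocalRing.maximalIdeal A'' := by
      by_contra hxu
      have hu : IsUnit x := IsLocalRing.notMem_maximalIdeal.mp hxu
      have hu' : IsUnit ((1 : B) ⊗ₜ[A] x : B ⊗[A] A'') :=
        hu.map (Algebra.TensorProduct.includeRight : A'' →ₐ[A] B ⊗[A] A'')
      exact h₁.ne_top (Ideal.eq_top_of_isUnit_mem _ h1 hu')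
    haveI := h₂
    have h2 : (1 : B) ⊗ₜ[A] x ∈ M₂ := mem_of_isMaximal_right M₂ hxm
    have := add_mem (hx M₂ h₂) h2
    rwa [sub_add_cancel] at this
  obtain ⟨M₀, hM₀⟩ := Ideal.exists_maximal (B ⊗[A] A'')
  exact IsLocalRing.of_unique_max_ideal
    ⟨M₀, hM₀, fun M hM => hM.eq_of_le hM₀.ne_top (hle M M₀ hM hM₀)⟩

end LocalTensor

end Groth.Agent.Lib.Helper29.Oliv2
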