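import Mathlib
import Groth.Agent.S1964
import Groth.Agent.S1967
import Groth.Agent.S1976
import Groth.Agent.Lib.Helper29.Oliv2

/-!
# Olivier's theorem, geometric fibres (helper29)

For a weakly étale local hom `A → B` with `A` strictly henselian, `L ⊗[A] B` has only "constant"
elements for `L` the algebraic closure of a residue field of `A`.
-/

set_option autoImplicit false
set_option linter.style.haveILetI false
set_option linter.unusedSectionVars false
set_option maxHeartbeats 1600000

universe u

open TensorProduct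

namespace Groth.Agent.Lib.Helper29.Oliv3

section Core

variable (A B : Type u) [CommRing A] [CommRing B] [HenselianLocalRing A] [IsLocalRing B]
    [IsSepClosed (IsLocalRing.ResidueField A)] [Algebra A B] [IsLocalHom (algebraMap A B)]
    [Algebra.WeaklyEtale A B]
    (A'' L : Type u) [CommRing A''] [IsDomain A''] [IsIntegrallyClosed A''] [Algebra A A'']
    [Algebra.IsIntegral A A'']
    [Field L] [IsSepClosed L] [Algebra A'' L] [IsFractionRing A'' L] [Algebra A L]
    [IsScalarTower A A'' L]

include A''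

theorem idem_trivial_aux :
    ∀ e : (A'' ⊗[A] B) ⊗[A''] L, IsIdempotentElem e → e = 0 ∨ e = 1 := by
  obtain ⟨hH, hloc, -⟩ := Groth.Agent.S1964.result A A''
  haveI := hH
  haveI := hloc
  haveI : Module.FaithfullyFlat A B := Module.FaithfullyFlat.of_flat_of_isLocalHom
  haveI hT : IsLocalRing (B ⊗[A] A'') := Oliv2.isLocalRing_tensor (Oliv2.exists_sub_mem A B)
  haveI hB₁ : IsLocalRing (A'' ⊗[A] B) :=
    (Algebra.TensorProduct.comm A B A'').toRingEquiv.isLocalRing
  haveI hic : IsIntegrallyClosedIn (A'' ⊗[A] B) ((A'' ⊗[A] B) ⊗[A''] L) :=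
    Groth.Agent.S1967.result A'' L (A'' ⊗[A] B)
  intro e he
  have hint : IsIntegral (A'' ⊗[A] B) e := by
    refine ⟨Polynomial.X ^ 2 - Polynomial.X, Polynomial.monic_X_pow_sub ?_, ?_⟩
    · rw [Polynomial.degree_X]; exact_mod_cast one_lt_two
    · simp [Polynomial.eval₂_sub, pow_two, he.eq]
  obtain ⟨e', he'⟩ := hic.isIntegral_iff.mp hint
  have he'i : IsIdempotentElem e' := by
    apply IsIntegralClosure.algebraMap_injective (A'' ⊗[A] B) (A'' ⊗[A] B)
      ((A'' ⊗[A] B) ⊗[A''] L)
    rw [map_mul, he', he.eq]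
  have hmul : e' * (1 - e') = 0 := by rw [mul_sub, mul_one, he'i.eq, sub_self]
  rcases IsLocalRing.isUnit_or_isUnit_one_sub_self e' with hu | hu
  · right
    have h1 : 1 - e' = 0 := (IsUnit.mul_right_eq_zero hu).mp hmul
    have h2 : e' = 1 := (sub_eq_zero.mp h1).symm
    rw [← he', h2, map_one]
  · left
    have h1 : e' = 0 := (IsUnit.mul_left_eq_zero hu).mp hmul
    rw [← he', h1, map_zero]

theorem idem_trivial : ∀ e : L ⊗[A] B, IsIdempotentElem e → e = 0 ∨ e = 1 := by
  intro e he
  let Φ : ((A'' ⊗[A] B) ⊗[A''] L) ≃+* (L ⊗[A] B) :=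
    ((Algebra.TensorProduct.comm A'' (A'' ⊗[A] B) L).trans
      (Algebra.TensorProduct.cancelBaseChange A A'' A'' L B)).toRingEquiv
  have hs : IsIdempotentElem (Φ.symm e) := by
    show Φ.symm e * Φ.symm e = Φ.symm e
    rw [← map_mul, he.eq]
  rcases idem_trivial_aux A B A'' L (Φ.symm e) hs with h | h
  · left
    have := congrArg Φ h
    rwa [RingEquiv.apply_symm_apply, map_zero] at this
  · right
    have := congrArg Φ h
    rwa [RingEquiv.apply_symm_apply, map_one] at this

theorem exists_eq_algebraMap (x : L ⊗[A] B) : ∃ ℓ : L, x = algebraMap L (L ⊗[A] B) ℓ := by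
  have hidem := idem_trivial A B A'' L
  haveI hwe : Algebra.WeaklyEtale L (L ⊗[A] B) := inferInstance
  let S : Subalgebra L (L ⊗[A] B) := Algebra.adjoin L {x}
  have hfg : S.FG := ⟨{x}, by rw [Finset.coe_singleton]⟩
  haveI hS : Algebra.Etale L S := (Groth.Agent.S1976.result L (L ⊗[A] B)).2 hwe S hfg
  let φ : S ≃ₐ[L] (PrimeSpectrum S → L) := Algebra.FormallyEtale.equivPiOfIsSepClosed L S
  have hsub : Subsingleton (PrimeSpectrum S) := by
    refine ⟨fun i j => ?_⟩
    by_contra hij
    classical
    let f : PrimeSpectrum S → L := Pi.single i 1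
    have hf : f * f = f := by
      funext k
      show f k * f k = f k
      by_cases hk : k = i
      · subst hk; simp [f]
      · simp [f, Pi.single_apply, hk]
    have hs : φ.symm f * φ.symm f = φ.symm f := by
      rw [← map_mul, hf]
    have hs' : IsIdempotentElem ((φ.symm f : S) : L ⊗[A] B) := by
      show ((φ.symm f : S) : L ⊗[A] B) * ((φ.symm f : S) : L ⊗[A] B) = _
      rw [← MulMemClass.coe_mul, hs]
    rcases hidem _ hs' with h0 | h1
    · have h : φ.symm f = 0 := Subtype.ext h0
      have h' : f = 0 := by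
        have := congrArg φ h
        rwa [AlgEquiv.apply_symm_apply, map_zero] at this
      have := congrFun h' i
      simp [f] at this
    · have h : φ.symm f = 1 := Subtype.ext h1
      have h' : f = 1 := by
        have := congrArg φ h
        rwa [AlgEquiv.apply_symm_apply, map_one] at this
      have := congrFun h' j
      simp [f, Pi.single_apply, Ne.symm hij] at this
  let x' : S := ⟨x, Algebra.subset_adjoin (Set.mem_singleton x)⟩
  rcases isEmpty_or_nonempty (PrimeSpectrum S) with hE | ⟨⟨i⟩⟩
  · refine ⟨0, ?_⟩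
    have h : φ x' = 0 := funext (fun k => (hE.false k).elim)
    have hx0 : x' = 0 := by
      have := congrArg φ.symm h
      rwa [AlgEquiv.symm_apply_apply, map_zero] at this
    rw [map_zero]
    exact congrArg Subtype.val hx0
  · refine ⟨φ x' i, ?_⟩
    have h : φ x' = algebraMap L (PrimeSpectrum S → L) (φ x' i) := by
      funext k
      rw [Subsingleton.elim k i]
      rfl
    have hx' : x' = algebraMap L S (φ x' i) := by
      have := congrArg φ.symm h
      rwa [AlgEquiv.symm_apply_apply, AlgEquiv.commutes] at this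
    exact congrArg Subtype.val hx'

end Core

section KL

variable (A B : Type u) [CommRing A] [CommRing B] [HenselianLocalRing A] [IsLocalRing B]
    [IsSepClosed (IsLocalRing.ResidueField A)] [Algebra A B] [IsLocalHom (algebraMap A B)]
    [Algebra.WeaklyEtale A B]

theorem KL (p : Ideal A) [p.IsPrime] (b : B) :
    ∃ ℓ : AlgebraicClosure (FractionRing (A ⧸ p)),
      ((1 : AlgebraicClosure (FractionRing (A ⧸ p))) ⊗ₜ[A] b :
        AlgebraicClosure (FractionRing (A ⧸ p)) ⊗[A] B) = ℓ ⊗ₜ[A] (1 : B) := by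
  haveI halg : Algebra.IsAlgebraic (A ⧸ p) (AlgebraicClosure (FractionRing (A ⧸ p))) :=
    (IsFractionRing.comap_isAlgebraic_iff (A := A ⧸ p) (K := FractionRing (A ⧸ p))
      (C := AlgebraicClosure (FractionRing (A ⧸ p)))).mpr inferInstance
  have hinj : ∀ x : A ⧸ p,
      algebraMap (A ⧸ p) (AlgebraicClosure (FractionRing (A ⧸ p))) x = 0 → x = 0 := by
    intro x hx
    rw [IsScalarTower.algebraMap_apply (A ⧸ p) (FractionRing (A ⧸ p))
      (AlgebraicClosure (FractionRing (A ⧸ p))), map_eq_zero] at hx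
    exact (IsFractionRing.to_map_eq_zero_iff (K := FractionRing (A ⧸ p))).mp hx
  haveI hfr : IsFractionRing (integralClosure (A ⧸ p) (AlgebraicClosure (FractionRing (A ⧸ p))))
      (AlgebraicClosure (FractionRing (A ⧸ p))) :=
    integralClosure.isFractionRing_of_algebraic (A := A ⧸ p)
      (L := AlgebraicClosure (FractionRing (A ⧸ p))) hinj
  haveI hicl : IsIntegrallyClosed
      (integralClosure (A ⧸ p) (AlgebraicClosure (FractionRing (A ⧸ p)))) :=
    (IsIntegrallyClosed.integralClosure_eq_bot_iff
      (AlgebraicClosure (FractionRing (A ⧸ p)))).mp integralClosure_idem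
  letI algA : Algebra A (integralClosure (A ⧸ p) (AlgebraicClosure (FractionRing (A ⧸ p)))) :=
    ((algebraMap (A ⧸ p) (integralClosure (A ⧸ p)
      (AlgebraicClosure (FractionRing (A ⧸ p))))).comp (algebraMap A (A ⧸ p))).toAlgebra
  haveI tow1 : IsScalarTower A (A ⧸ p)
      (integralClosure (A ⧸ p) (AlgebraicClosure (FractionRing (A ⧸ p)))) :=
    IsScalarTower.of_algebraMap_eq (fun a => rfl)
  haveI int1 : Algebra.IsIntegral A (A ⧸ p) :=
    Algebra.isIntegral_of_surjective Ideal.Quotient.mk_surjective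
  haveI int2 : Algebra.IsIntegral A
      (integralClosure (A ⧸ p) (AlgebraicClosure (FractionRing (A ⧸ p)))) :=
    Algebra.IsIntegral.trans (A ⧸ p)
  haveI tow2 : IsScalarTower A
      (integralClosure (A ⧸ p) (AlgebraicClosure (FractionRing (A ⧸ p))))
      (AlgebraicClosure (FractionRing (A ⧸ p))) :=
    IsScalarTower.of_algebraMap_eq (fun a => by
      rw [IsScalarTower.algebraMap_apply A (A ⧸ p) (AlgebraicClosure (FractionRing (A ⧸ p)))]
      rfl)
  obtain ⟨ℓ, hℓ⟩ := exists_eq_algebraMap A B
    (integralClosure (A ⧸ p) (AlgebraicClosure (FractionRing (A ⧸ p))))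
    (AlgebraicClosure (FractionRing (A ⧸ p)))
    ((1 : AlgebraicClosure (FractionRing (A ⧸ p))) ⊗ₜ[A] b)
  refine ⟨ℓ, ?_⟩
  rw [hℓ, Algebra.TensorProduct.algebraMap_apply]
  rfl

end KL

end Groth.Agent.Lib.Helper29.Oliv3
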