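import Mathlib
import Groth.Agent.Lib.Helper29.Oliv1
import Groth.Agent.Lib.Helper29.Oliv3

/-!
# Olivier's theorem (helper29)

A weakly étale local homomorphism out of a strictly henselian local ring is an isomorphism.
-/

set_option autoImplicit false
set_option linter.style.haveILetI false
set_option linter.unusedSectionVars false
set_option maxHeartbeats 1600000

universe u

open TensorProduct

namespace Groth.Agent.Lib.Helper29.Main0427

theorem main0427 {A B : Type u} [CommRing A] [CommRing B] [HenselianLocalRing A] [IsLocalRing B]
    [IsSepClosed (IsLocalRing.ResidueField A)] [Algebra A B] [IsLocalHom (algebraMap A B)]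
    [Algebra.WeaklyEtale A B] :
    Function.Bijective (algebraMap A B) := by
  haveI : Module.FaithfullyFlat A B := Module.FaithfullyFlat.of_flat_of_isLocalHom
  refine Oliv1.bijective_of_tmul_eq
    (Oliv1.tmul_eq_of_prime (fun P hP b => Oliv1.mem_prime_of_KL ?_ P hP b))
  intro p _ b
  exact Oliv3.KL A B p b

end Groth.Agent.Lib.Helper29.Main0427
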