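import Mathlib
import Groth.Prelude.Def_PBC
import Groth.Prelude.Def_EtBase
import Groth.Agent.S7127
import Groth.Agent.Lib.Helper29.Main0427
import Groth.Agent.Lib.Helper29.WLocLoc
import Groth.Agent.Lib.Helper29.IndZarId

/-!
# Local-ring lemmas for S0677 (helper29)

* `weaklyEtale_localization` : localizations are weakly étale.
* `bijective_localRingHom_of_strictlyHenselian` : Olivier's theorem at a prime.
* `bijective_localRingHom_of_le` : bijectivity of `A_p → B_q` passes to generalizations.
* `bijective_comp_at` : pointwise composition of local-ring identifications.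
-/

set_option autoImplicit false
set_option linter.style.haveILetI false
set_option linter.unusedSectionVars false
set_option maxHeartbeats 1600000

universe u

open TensorProduct

namespace Groth.Agent.Lib.Helper29.Loc0677

theorem weaklyEtale_localization {R : Type*} [CommRing R] (M : Submonoid R) :
    Algebra.WeaklyEtale R (Localization M) where
  flat := inferInstance
  flat_lmul' := RingHom.Flat.of_bijective (by
    have := (Algebra.TensorProduct.lmulEquiv R (Localization M)).bijective
    exact this)

theorem bijective_localRingHom_of_strictlyHenselian {A B : Type u} [CommRing A] [CommRing B]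
    [Algebra A B] [Algebra.WeaklyEtale A B] (Q : Ideal B) [Q.IsPrime]
    (hsh : EtCoh.IsStrictlyHenselianLocalRing
      (Localization.AtPrime (Q.comap (algebraMap A B)))) :
    Function.Bijective
      (Localization.localRingHom (Q.comap (algebraMap A B)) Q (algebraMap A B) rfl) := by
  obtain ⟨hH, hsc⟩ := hsh
  letI alg : Algebra (Localization.AtPrime (Q.comap (algebraMap A B)))
      (Localization.AtPrime Q) :=
    (Localization.localRingHom (Q.comap (algebraMap A B)) Q (algebraMap A B) rfl).toAlgebra
  haveI tow : IsScalarTower A (Localization.AtPrime (Q.comap (algebraMap A B)))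
      (Localization.AtPrime Q) :=
    IsScalarTower.of_algebraMap_eq (fun a => by
      rw [RingHom.algebraMap_toAlgebra, Localization.localRingHom_to_map,
        IsScalarTower.algebraMap_apply A B (Localization.AtPrime Q)])
  haveI we1 : Algebra.WeaklyEtale A (Localization.AtPrime (Q.comap (algebraMap A B))) :=
    weaklyEtale_localization _
  haveI we2 : Algebra.WeaklyEtale B (Localization.AtPrime Q) := weaklyEtale_localization _
  haveI we3 : Algebra.WeaklyEtale A (Localization.AtPrime Q) :=
    Algebra.WeaklyEtale.trans A B _
  haveI we4 : Algebra.WeaklyEtale (Localization.AtPrime (Q.comap (algebraMap A B)))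
      (Localization.AtPrime Q) :=
    Groth.Agent.S7127.result A (Localization.AtPrime (Q.comap (algebraMap A B)))
      (Localization.AtPrime Q)
  haveI : IsLocalHom (algebraMap (Localization.AtPrime (Q.comap (algebraMap A B)))
      (Localization.AtPrime Q)) := by
    rw [RingHom.algebraMap_toAlgebra]
    exact Localization.isLocalHom_localRingHom _ _ _ _
  haveI := hH
  haveI := hsc
  have := Main0427.main0427 (A := Localization.AtPrime (Q.comap (algebraMap A B)))
    (B := Localization.AtPrime Q)
  rwa [RingHom.algebraMap_toAlgebra] at this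

theorem bijective_localRingHom_of_le {A B : Type u} [CommRing A] [CommRing B] [Algebra A B]
    (Q q : Ideal B) [hQp : Q.IsPrime] [hqp : q.IsPrime] (hle : q ≤ Q)
    (hQ : Function.Bijective
      (Localization.localRingHom (Q.comap (algebraMap A B)) Q (algebraMap A B) rfl)) :
    Function.Bijective
      (Localization.localRingHom (q.comap (algebraMap A B)) q (algebraMap A B) rfl) := by
  have E1 : ∀ b : B, ∃ (a s : A) (u : B), algebraMap A B s ∉ Q ∧ u ∉ Q ∧
      u * (b * algebraMap A B s) = u * algebraMap A B a := by
    intro b
    obtain ⟨x, hx⟩ := hQ.2 (algebraMap B (Localization.AtPrime Q) b)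
    obtain ⟨a, ⟨s, hs⟩, rfl⟩ :=
      IsLocalization.exists_mk'_eq (Q.comap (algebraMap A B)).primeCompl x
    rw [Localization.localRingHom_mk', IsLocalization.mk'_eq_iff_eq_mul, ← map_mul] at hx
    obtain ⟨⟨u, hu⟩, hu'⟩ :=
      (IsLocalization.eq_iff_exists Q.primeCompl (Localization.AtPrime Q)).mp hx
    exact ⟨a, s, u, hs, hu, hu'.symm⟩
  have E2 : ∀ a : A, (∃ u : B, u ∉ Q ∧ u * algebraMap A B a = 0) →
      ∃ s : A, algebraMap A B s ∉ Q ∧ s * a = 0 := by
    rintro a ⟨u, hu, hua⟩
    have h0 : Localization.localRingHom (Q.comap (algebraMap A B)) Q (algebraMap A B) rfl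
        (algebraMap A _ a) = 0 := by
      rw [Localization.localRingHom_to_map,
        IsLocalization.map_eq_zero_iff Q.primeCompl (Localization.AtPrime Q)]
      exact ⟨⟨u, hu⟩, hua⟩
    have h1 : algebraMap A (Localization.AtPrime (Q.comap (algebraMap A B))) a = 0 :=
      hQ.1 (by rw [h0, map_zero])
    rw [IsLocalization.map_eq_zero_iff (Q.comap (algebraMap A B)).primeCompl
      (Localization.AtPrime (Q.comap (algebraMap A B)))] at h1
    obtain ⟨⟨s, hs⟩, hsa⟩ := h1
    exact ⟨s, hs, hsa⟩
  apply WLocLoc.bijective_localRingHom_of q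
  · intro b
    obtain ⟨a, s, u, hs, hu, h⟩ := E1 b
    exact ⟨a, s, u, fun hmem => hs (hle hmem), fun hmem => hu (hle hmem), h⟩
  · rintro a ⟨u, hu, hua⟩
    obtain ⟨a₁, s₁, u₁, hs₁, hu₁, h₁⟩ := E1 u
    have hz : u₁ * algebraMap A B (a₁ * a) = 0 := by
      rw [map_mul, ← mul_assoc, ← h₁]
      calc u₁ * (u * algebraMap A B s₁) * algebraMap A B a
          = u₁ * algebraMap A B s₁ * (u * algebraMap A B a) := by ring
        _ = 0 := by rw [hua, mul_zero]
    obtain ⟨s₂, hs₂, hs₂a⟩ := E2 (a₁ * a) ⟨u₁, hu₁, hz⟩
    refine ⟨s₂ * a₁, ?_, by rw [mul_assoc]; exact hs₂a⟩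
    intro hmem
    have hmem' : algebraMap A B s₂ * algebraMap A B a₁ ∈ q := by
      have : algebraMap A B (s₂ * a₁) ∈ q := hmem
      rwa [map_mul] at this
    rcases hqp.mem_or_mem hmem' with h | h
    · exact hs₂ (hle h)
    · have h3 : u₁ * (u * algebraMap A B s₁) ∈ q := by
        rw [h₁]; exact Ideal.mul_mem_left _ _ h
      rcases hqp.mem_or_mem h3 with h' | h'
      · exact hu₁ (hle h')
      · rcases hqp.mem_or_mem h' with h'' | h''
        · exact hu h''
        · exact hs₁ (hle h'')

theorem bijective_comp_at {A B D : Type u} [CommRing A] [CommRing B] [CommRing D] [Algebra A B]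
    [Algebra B D] [Algebra A D] [IsScalarTower A B D] (y : PrimeSpectrum D)
    (h1 : Function.Bijective (Localization.localRingHom
      ((y.asIdeal.comap (algebraMap B D)).comap (algebraMap A B))
      (y.asIdeal.comap (algebraMap B D)) (algebraMap A B) rfl))
    (h2 : Function.Bijective (Localization.localRingHom (y.asIdeal.comap (algebraMap B D))
      y.asIdeal (algebraMap B D) rfl)) :
    Function.Bijective (Localization.localRingHom (y.asIdeal.comap (algebraMap A D))
      y.asIdeal (algebraMap A D) rfl) := by
  haveI := y.isPrime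
  have hcomp : (algebraMap B D).comp (algebraMap A B) = algebraMap A D :=
    (IsScalarTower.algebraMap_eq A B D).symm
  have hIJ : y.asIdeal.comap (algebraMap A D) =
      (y.asIdeal.comap (algebraMap B D)).comap (algebraMap A B) := by
    rw [Ideal.comap_comap, hcomp]
  have hcompEq := Localization.localRingHom_comp (I := y.asIdeal.comap (algebraMap A D))
    (y.asIdeal.comap (algebraMap B D)) y.asIdeal (algebraMap A B) hIJ (algebraMap B D) rfl
  have key : ∀ (I : Ideal A) [I.IsPrime]
      (hI : I = (y.asIdeal.comap (algebraMap B D)).comap (algebraMap A B)),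
      Function.Bijective (Localization.localRingHom I (y.asIdeal.comap (algebraMap B D))
        (algebraMap A B) hI) := by
    intro I _ hI
    subst hI
    exact h1
  have hf := key _ hIJ
  have hg := h2
  have e : ∀ z, Localization.localRingHom (y.asIdeal.comap (algebraMap A D))
      y.asIdeal ((algebraMap B D).comp (algebraMap A B)) (by rw [hcomp]) z =
      Localization.localRingHom (y.asIdeal.comap (algebraMap B D))
        y.asIdeal (algebraMap B D) rfl
        (Localization.localRingHom (y.asIdeal.comap (algebraMap A D))
          (y.asIdeal.comap (algebraMap B D)) (algebraMap A B) hIJ z) :=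
    fun z => RingHom.congr_fun hcompEq z
  have hL : Function.Bijective (Localization.localRingHom (y.asIdeal.comap (algebraMap A D))
      y.asIdeal ((algebraMap B D).comp (algebraMap A B)) (by rw [hcomp])) := by
    constructor
    · intro u v huv
      rw [e, e] at huv
      exact hf.1 (hg.1 huv)
    · intro w
      obtain ⟨w1, rfl⟩ := hg.2 w
      obtain ⟨w0, rfl⟩ := hf.2 w1
      exact ⟨w0, e w0⟩
  exact IndZarId.bij_congr' hcomp.symm rfl _ hL

end Groth.Agent.Lib.Helper29.Loc0677
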