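import Mathlib
import Groth.Prelude.Def_PBC
import Groth.Prelude.Def_ProEtW
import Groth.Agent.Lib.Helper29.WLocLoc

/-!
# S0694: the w-localization of a ring (helper29)
-/

set_option autoImplicit false
set_option linter.style.haveILetI false
set_option linter.unusedSectionVars false
set_option maxHeartbeats 1600000

universe u

open Topology

namespace Groth.Agent.Lib.Helper29.Main0694

open Groth.Agent.Lib.Helper29.WLocAlg Groth.Agent.Lib.Helper29.WLocSpec
  Groth.Agent.Lib.Helper29.WLocLoc

lemma totallySeparated_of_sep {A : Type u} [CommRing A] {T : Type u} [TopologicalSpace T]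
    (c : T → PrimeSpectrum A) (hinj : Function.Injective c)
    (hc : ∀ a : A, IsClopen (c ⁻¹' (PrimeSpectrum.basicOpen a : Set (PrimeSpectrum A)))) :
    TotallySeparatedSpace T := by
  rw [totallySeparatedSpace_iff_exists_isClopen]
  intro x y hxy
  have hne : c x ≠ c y := fun h => hxy (hinj h)
  by_cases h : (c x).asIdeal ≤ (c y).asIdeal
  · have h2 : ¬ (c y).asIdeal ≤ (c x).asIdeal :=
      fun h2 => hne (PrimeSpectrum.ext (le_antisymm h h2))
    obtain ⟨a, hay, hax⟩ := SetLike.not_le_iff_exists.mp h2
    exact ⟨c ⁻¹' (PrimeSpectrum.basicOpen a : Set (PrimeSpectrum A)), hc a, hax,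
      fun hy => hy hay⟩
  · obtain ⟨a, hax, hay⟩ := SetLike.not_le_iff_exists.mp h
    exact ⟨(c ⁻¹' (PrimeSpectrum.basicOpen a : Set (PrimeSpectrum A)))ᶜ, (hc a).compl,
      fun hx => hx hax, fun hy => hy hay⟩

variable (A : Type u) [CommRing A]

/-- The spectrum with its constructible topology. -/
abbrev Tc : Type u := WithConstructibleTopology (PrimeSpectrum A)

/-- The identity map to the spectrum. -/
def cc : Tc A → PrimeSpectrum A := WithTopology.ofTopology

lemma cc_clopen (a : A) :
    IsClopen (cc A ⁻¹' (PrimeSpectrum.basicOpen a : Set (PrimeSpectrum A))) := by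
  constructor
  · rw [← isOpen_compl_iff, WithTopology.isOpen_iff]
    exact IsCompact.isOpen_constructibleTopology_of_isClosed
      (s := (PrimeSpectrum.basicOpen a : Set (PrimeSpectrum A))ᶜ)
      (by rw [compl_compl]; exact PrimeSpectrum.isCompact_basicOpen a)
      (PrimeSpectrum.basicOpen a).isOpen.isClosed_compl
  · rw [WithTopology.isOpen_iff]
    exact IsCompact.isOpen_constructibleTopology_of_isOpen
      (PrimeSpectrum.isCompact_basicOpen a) (PrimeSpectrum.basicOpen a).isOpen

lemma cc_injective : Function.Injective (cc A) := WithTopology.ofTopology_injective _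

lemma cc_surjective : Function.Surjective (cc A) := WithTopology.ofTopology_surjective _

instance : TotallySeparatedSpace (Tc A) :=
  totallySeparated_of_sep (cc A) (cc_injective A) (cc_clopen A)

theorem main0694 :
    ∃ (Aw : Type u) (_ : CommRing Aw) (_ : Algebra A Aw),
      Module.FaithfullyFlat A Aw ∧ EtPBC.IsIndZariski A Aw ∧ ProEtW.IsWLocal (PrimeSpectrum Aw) ∧
      Set.BijOn (PrimeSpectrum.comap (algebraMap A Aw)) (ProEtW.closedPoints (PrimeSpectrum Aw))
        Set.univ := by
  have hc := cc_clopen A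
  have hsurj := cc_surjective A
  refine ⟨Bc A (Tc A) (cc A), inferInstance, inferInstance, faithfullyFlat_Bc (cc A) hc hsurj,
    isIndZariski_Bc A (Tc A) (cc A), isWLocal (cc A) hc, ?_⟩
  rw [closedPoints_eq (cc A) hc]
  refine ⟨fun _ _ => Set.mem_univ _, ?_, ?_⟩
  · intro y hy y' hy' h
    rw [comap_eq, comap_eq] at h
    have hy1 : (psic (cc A) y).1 = cc A (psic (cc A) y).2 := hy
    have hy1' : (psic (cc A) y').1 = cc A (psic (cc A) y').2 := hy'
    have h2 : (psic (cc A) y).2 = (psic (cc A) y').2 := by
      apply cc_injective A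
      rw [← hy1, ← hy1']
      exact h
    exact (isEmbedding_psic (cc A)).injective (Prod.ext h h2)
  · intro x _
    obtain ⟨t, rfl⟩ := hsurj x
    obtain ⟨y, hy⟩ := exists_psic_eq (cc A) hc (cc A t, t) le_rfl
    refine ⟨y, ?_, ?_⟩
    · change (psic (cc A) y).1 = cc A (psic (cc A) y).2
      rw [hy]
    · rw [comap_eq, hy]

end Groth.Agent.Lib.Helper29.Main0694
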