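import Mathlib
import Groth.Prelude.Def_PBC
import Groth.Agent.Lib.Helper29.LCSpec
import Groth.Agent.Lib.Helper29.LCIndZar

/-!
# S0697: ind-Zariski algebras realizing a profinite space over `π₀` (helper29)
-/

set_option autoImplicit false
set_option linter.style.haveILetI false
set_option linter.unusedSectionVars false
set_option maxHeartbeats 1600000

universe u

open Topology

namespace Groth.Agent.Lib.Helper29.Main0697

open Groth.Agent.Lib.Helper29.IndZarQuot Groth.Agent.Lib.Helper29.LCSpec
  Groth.Agent.Lib.Helper29.LCIndZar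

/-- A homeomorphism induces a homeomorphism on connected components. -/
def ccHomeo {α β : Type*} [TopologicalSpace α] [TopologicalSpace β] (h : α ≃ₜ β) :
    _root_.ConnectedComponents α ≃ₜ _root_.ConnectedComponents β where
  toFun := h.continuous.connectedComponentsMap
  invFun := h.symm.continuous.connectedComponentsMap
  left_inv := by
    intro a
    obtain ⟨a, rfl⟩ := _root_.ConnectedComponents.surjective_coe a
    exact congrArg _root_.ConnectedComponents.mk (h.symm_apply_apply a)
  right_inv := by
    intro a
    obtain ⟨a, rfl⟩ := _root_.ConnectedComponents.surjective_coe a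
    exact congrArg _root_.ConnectedComponents.mk (h.apply_symm_apply a)
  continuous_toFun := h.continuous.connectedComponentsMap_continuous
  continuous_invFun := h.symm.continuous.connectedComponentsMap_continuous

lemma ccHomeo_mk {α β : Type*} [TopologicalSpace α] [TopologicalSpace β] (h : α ≃ₜ β) (a : α) :
    ccHomeo h (_root_.ConnectedComponents.mk a) = _root_.ConnectedComponents.mk (h a) := rfl

/-- The ring. -/
abbrev BB (A : Type u) [CommRing A] (T : Type u) [TopologicalSpace T] [CompactSpace T]
    (g : C(T, _root_.ConnectedComponents (PrimeSpectrum A))) : Type u :=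
  LocallyConstant T A ⧸ idl (LocallyConstant T A) (Zp g)

theorem main0697 (A : Type u) [CommRing A] (T : Type u)
    [TopologicalSpace T] [CompactSpace T] [T2Space T] [TotallyDisconnectedSpace T]
    (g : C(T, _root_.ConnectedComponents (PrimeSpectrum A))) :
    ∃ (B : Type u) (_ : CommRing B) (_ : Algebra A B) (e : _root_.ConnectedComponents (PrimeSpectrum B) ≃ₜ T),
      EtPBC.IsIndZariski A B ∧
      (∀ y : PrimeSpectrum B,
        g (e (_root_.ConnectedComponents.mk y)) = _root_.ConnectedComponents.mk (PrimeSpectrum.comap (algebraMap A B) y)) ∧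
      Topology.IsEmbedding (fun y : PrimeSpectrum B =>
        (PrimeSpectrum.comap (algebraMap A B) y, e (_root_.ConnectedComponents.mk y))) ∧
      Set.range (fun y : PrimeSpectrum B =>
        (PrimeSpectrum.comap (algebraMap A B) y, e (_root_.ConnectedComponents.mk y))) =
        {p : PrimeSpectrum A × T | _root_.ConnectedComponents.mk p.1 = g p.2} := by
  have hπ : Function.Surjective
      (Ideal.Quotient.mk (idl (LocallyConstant T A) (Zp g))) := Ideal.Quotient.mk_surjective
  have hemb : IsClosedEmbedding
      (PrimeSpectrum.comap (Ideal.Quotient.mk (idl (LocallyConstant T A) (Zp g)))) :=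
    PrimeSpectrum.isClosedEmbedding_comap_of_surjective _ _ hπ
  have hrange : Set.range
      (PrimeSpectrum.comap (Ideal.Quotient.mk (idl (LocallyConstant T A) (Zp g)))) = Zp g := by
    rw [_root_.range_comap_of_surjective _ _ hπ]
    have hk : RingHom.ker (Ideal.Quotient.mk (idl (LocallyConstant T A) (Zp g))) =
        idl (LocallyConstant T A) (Zp g) := Ideal.mk_ker
    rw [hk]
    exact zeroLocus_idl_Zp g
  -- the comparison map
  let ψB : PrimeSpectrum (BB A T g) → PrimeSpectrum A × T := fun y =>
    psi (PrimeSpectrum.comap (Ideal.Quotient.mk (idl (LocallyConstant T A) (Zp g))) y)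
  have hψB_emb : IsEmbedding ψB := isEmbedding_psi.comp hemb.isEmbedding
  have hψB_fst : ∀ y, (ψB y).1 = PrimeSpectrum.comap (algebraMap A (BB A T g)) y := by
    intro y
    apply PrimeSpectrum.ext
    ext a
    exact Iff.rfl
  have hψB_mem : ∀ y, _root_.ConnectedComponents.mk (ψB y).1 = g (ψB y).2 := by
    intro y
    have h1 : PrimeSpectrum.comap (Ideal.Quotient.mk (idl (LocallyConstant T A) (Zp g))) y ∈
        Set.range (PrimeSpectrum.comap (Ideal.Quotient.mk (idl (LocallyConstant T A) (Zp g)))) :=
      ⟨y, rfl⟩
    rw [hrange] at h1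
    exact h1
  have hψB_range : Set.range ψB = Zset g := by
    have h1 : Set.range ψB = psi '' Set.range
        (PrimeSpectrum.comap (Ideal.Quotient.mk (idl (LocallyConstant T A) (Zp g)))) := by
      rw [← Set.range_comp]
      rfl
    rw [h1, hrange]
    exact Set.image_preimage_eq _ psi_surjective
  -- homeomorphism with the subtype
  let h₀ : PrimeSpectrum (BB A T g) →
      {p : PrimeSpectrum A × T // _root_.ConnectedComponents.mk p.1 = g p.2} :=
    fun y => ⟨ψB y, hψB_mem y⟩
  have hh₀c : Continuous h₀ := Continuous.subtype_mk hψB_emb.continuous _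
  have hh₀e : IsEmbedding h₀ :=
    IsEmbedding.of_comp hh₀c continuous_subtype_val
      (hψB_emb : IsEmbedding (Subtype.val ∘ h₀))
  have hh₀s : Function.Surjective h₀ := by
    rintro ⟨p, hp⟩
    have h1 : p ∈ Set.range ψB := by
      rw [hψB_range]
      exact hp
    obtain ⟨y, hy⟩ := h1
    exact ⟨y, Subtype.ext hy⟩
  let h : PrimeSpectrum (BB A T g) ≃ₜ
      {p : PrimeSpectrum A × T // _root_.ConnectedComponents.mk p.1 = g p.2} :=
    hh₀e.toHomeomorphOfSurjective hh₀s
  obtain ⟨_, e', he'⟩ := Groth.Agent.Lib.Helper29.SpecProd.main0703 (PrimeSpectrum A) T g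
  let e : _root_.ConnectedComponents (PrimeSpectrum (BB A T g)) ≃ₜ T := (ccHomeo h).trans e'
  have he : ∀ y, e (_root_.ConnectedComponents.mk y) = (ψB y).2 := by
    intro y
    change e' (_root_.ConnectedComponents.mk (h y)) = _
    rw [he']
    rfl
  have hfun : (fun y : PrimeSpectrum (BB A T g) =>
      (PrimeSpectrum.comap (algebraMap A (BB A T g)) y, e (_root_.ConnectedComponents.mk y))) =
        ψB := by
    funext y
    exact Prod.ext (hψB_fst y).symm (he y)
  refine ⟨BB A T g, inferInstance, inferInstance, e, isIndZariski_quot A T (Zp g), ?_, ?_, ?_⟩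
  · intro y
    rw [he y, ← hψB_fst y]
    exact (hψB_mem y).symm
  · rw [hfun]
    exact hψB_emb
  · rw [hfun]
    exact hψB_range

end Groth.Agent.Lib.Helper29.Main0697
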