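import Mathlib
import Groth.Prelude.Def_PBC
import Groth.Prelude.Def_ProEtW
import Groth.Agent.Lib.Helper29.Main0694

/-!
# S0696: a w-local ind-Zariski cover with extremally disconnected `π₀` (helper29)
-/

set_option autoImplicit false
set_option linter.style.haveILetI false
set_option linter.unusedSectionVars false
set_option maxHeartbeats 1600000

universe u

open Topology

namespace Groth.Agent.Lib.Helper29.Main0696

open Groth.Agent.Lib.Helper29.WLocAlg Groth.Agent.Lib.Helper29.WLocSpec
  Groth.Agent.Lib.Helper29.WLocLoc Groth.Agent.Lib.Helper29.Main0694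

lemma mk_eq_of_specializes {X : Type*} [TopologicalSpace X] {x y : X} (h : x ⤳ y) :
    _root_.ConnectedComponents.mk x = _root_.ConnectedComponents.mk y := by
  have h1 : y ∈ closure ({x} : Set X) := specializes_iff_mem_closure.mp h
  have h2 : IsPreconnected (closure ({x} : Set X)) := isPreconnected_singleton.closure
  have h3 : closure ({x} : Set X) ⊆ connectedComponent x :=
    h2.subset_connectedComponent (subset_closure (Set.mem_singleton x))
  exact (_root_.ConnectedComponents.coe_eq_coe'.mpr (h3 h1)).symm

section general

variable {A : Type u} [CommRing A] {T : Type u} [TopologicalSpace T] [CompactSpace T]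
  [T2Space T] [TotallyDisconnectedSpace T] (c : T → PrimeSpectrum A)

lemma continuous_psic_snd :
    Continuous (fun y : PrimeSpectrum (Bc A T c) => (psic c y).2) :=
  continuous_snd.comp (isEmbedding_psic c).continuous

theorem exists_pi0Homeo
    (hc : ∀ a : A, IsClopen (c ⁻¹' (PrimeSpectrum.basicOpen a : Set (PrimeSpectrum A)))) :
    ∃ e : _root_.ConnectedComponents (PrimeSpectrum (Bc A T c)) ≃ₜ T,
      ∀ y, e (_root_.ConnectedComponents.mk y) = (psic c y).2 := by
  have hq := continuous_psic_snd c
  have hsurj : Function.Surjective hq.connectedComponentsLift := by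
    intro t
    obtain ⟨y, hy⟩ := exists_psic_eq c hc (c t, t) le_rfl
    refine ⟨_root_.ConnectedComponents.mk y, ?_⟩
    rw [Continuous.connectedComponentsLift_apply_coe, hy]
  have hinj : Function.Injective hq.connectedComponentsLift := by
    intro a b hab
    obtain ⟨y, rfl⟩ := _root_.ConnectedComponents.surjective_coe a
    obtain ⟨y', rfl⟩ := _root_.ConnectedComponents.surjective_coe b
    rw [Continuous.connectedComponentsLift_apply_coe,
      Continuous.connectedComponentsLift_apply_coe] at hab
    have hab' : (psic c y).2 = (psic c y').2 := hab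
    obtain ⟨y₀, hy₀⟩ := exists_psic_eq c hc (c (psic c y).2, (psic c y).2) le_rfl
    have h1 : y ⤳ y₀ := by
      rw [specializes_iff, hy₀]
      exact ⟨psic_le c hc y, rfl⟩
    have h2 : y' ⤳ y₀ := by
      rw [specializes_iff, hy₀]
      refine ⟨?_, hab'.symm⟩
      change (psic c y').1 ≤ c (psic c y).2
      rw [hab']
      exact psic_le c hc y'
    exact (mk_eq_of_specializes h1).trans (mk_eq_of_specializes h2).symm
  let e₀ : _root_.ConnectedComponents (PrimeSpectrum (Bc A T c)) ≃ T :=
    Equiv.ofBijective _ ⟨hinj, hsurj⟩
  have he₀ : Continuous e₀ := hq.connectedComponentsLift_continuous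
  refine ⟨he₀.homeoOfEquivCompactToT2, fun y => ?_⟩
  change hq.connectedComponentsLift (_root_.ConnectedComponents.mk y) = (psic c y).2
  exact hq.connectedComponentsLift_apply_coe y

end general

variable (A : Type u) [CommRing A]

/-- The prime spectrum as a discrete space. -/
def Xd : Type u := PrimeSpectrum A

instance : TopologicalSpace (Xd A) := ⊥

instance : DiscreteTopology (Xd A) := ⟨rfl⟩

/-- The Stone-Čech compactification of the discrete spectrum. -/
abbrev Te : Type u := StoneCech (Xd A)

instance : ExtremallyDisconnected (Te A) :=
  CompactT2.Projective.extremallyDisconnected (X := Te A) (StoneCech.projective (X := Xd A))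

/-- The identity. -/
def toTc : Xd A → Tc A := fun x =>
  WithTopology.toTopology (constructibleTopology (PrimeSpectrum A)) (show PrimeSpectrum A from x)

lemma continuous_toTc : Continuous (toTc A) := continuous_of_discreteTopology

/-- The extension to the compactification. -/
noncomputable def ext : Te A → Tc A := stoneCechExtend (continuous_toTc A)

/-- The structure map. -/
noncomputable def ce : Te A → PrimeSpectrum A := fun t => cc A (ext A t)

lemma ce_clopen (a : A) :
    IsClopen (ce A ⁻¹' (PrimeSpectrum.basicOpen a : Set (PrimeSpectrum A))) :=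
  (cc_clopen A a).preimage (continuous_stoneCechExtend (continuous_toTc A))

lemma ce_surjective : Function.Surjective (ce A) := by
  intro x
  refine ⟨stoneCechUnit (show Xd A from x), ?_⟩
  change cc A (stoneCechExtend (continuous_toTc A) (stoneCechUnit (show Xd A from x))) = x
  rw [stoneCechExtend_stoneCechUnit]
  rfl

theorem main0696 :
    ∃ (B : Type u) (_ : CommRing B) (_ : Algebra A B),
      Module.FaithfullyFlat A B ∧ EtPBC.IsIndZariski A B ∧ ProEtW.IsWLocal (PrimeSpectrum B) ∧
        ExtremallyDisconnected (_root_.ConnectedComponents (PrimeSpectrum B)) := by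
  have hc := ce_clopen A
  refine ⟨Bc A (Te A) (ce A), inferInstance, inferInstance,
    faithfullyFlat_Bc (ce A) hc (ce_surjective A), isIndZariski_Bc A (Te A) (ce A),
    isWLocal (ce A) hc, ?_⟩
  obtain ⟨e, -⟩ := exists_pi0Homeo (ce A) hc
  exact extremallyDisconnected_of_homeo e.symm

end Groth.Agent.Lib.Helper29.Main0696
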