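import Mathlib
import Groth.Agent.Lib.Helper29.SpecProd

/-!
# The canonical map `LocallyConstant (π₀ (Spec B)) A → B` (helper29)

For an `A`-algebra `B`, a locally constant function `f : π₀ (Spec B) → A` glues to the unique
element `θ f` of `B` that agrees with `f [y]` in a neighbourhood of every point `y`.
-/

set_option autoImplicit false
set_option linter.style.haveILetI false
set_option linter.unusedSectionVars false
set_option maxHeartbeats 1600000

universe u

open Topology

namespace Groth.Agent.Lib.Helper29.ThetaHom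

/-- `π₀ (Spec B)`. -/
abbrev TB (B : Type u) [CommRing B] : Type u := _root_.ConnectedComponents (PrimeSpectrum B)

instance (B : Type u) [CommRing B] : T2Space (TB B) :=
  Groth.Agent.Lib.Helper29.SpecProd.t2Space_connectedComponents

variable {B : Type u} [CommRing B]

lemma eq_zero_of_idem {e : B} (he : IsIdempotentElem e)
    (h : ∀ y : PrimeSpectrum B, e ∈ y.asIdeal) : e = 0 := by
  have hn : IsNilpotent e := nilpotent_iff_mem_prime.mpr (fun J hJ => h ⟨J, hJ⟩)
  obtain ⟨n, hn⟩ := hn
  cases n with
  | zero =>
    rw [pow_zero] at hn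
    calc e = e * 1 := (mul_one e).symm
      _ = 0 := by rw [hn, mul_zero]
  | succ k =>
    rw [IsIdempotentElem.pow_succ_eq k he] at hn
    exact hn

lemma isClopen_W (P : DiscreteQuotient (TB B)) (c' : P) :
    IsClopen {y : PrimeSpectrum B | P.proj (_root_.ConnectedComponents.mk y) = c'} :=
  (isClopen_discrete ({c'} : Set P)).preimage
    (P.proj_continuous.comp _root_.ConnectedComponents.continuous_coe)

/-- The idempotent cutting out a class of a discrete quotient of `π₀`. -/
noncomputable def eP (P : DiscreteQuotient (TB B)) (c' : P) : B :=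
  Classical.choose (PrimeSpectrum.isClopen_iff.mp (isClopen_W P c'))

lemma eP_idem (P : DiscreteQuotient (TB B)) (c' : P) : IsIdempotentElem (eP P c') :=
  (Classical.choose_spec (PrimeSpectrum.isClopen_iff.mp (isClopen_W P c'))).1

lemma eP_notMem_iff (P : DiscreteQuotient (TB B)) (c' : P) (y : PrimeSpectrum B) :
    eP P c' ∉ y.asIdeal ↔ P.proj (_root_.ConnectedComponents.mk y) = c' := by
  have h : {y : PrimeSpectrum B | P.proj (_root_.ConnectedComponents.mk y) = c'} =
      (PrimeSpectrum.basicOpen (eP P c') : Set (PrimeSpectrum B)) :=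
    (Classical.choose_spec (PrimeSpectrum.isClopen_iff.mp (isClopen_W P c'))).2
  constructor
  · intro hy
    have h1 : y ∈ (PrimeSpectrum.basicOpen (eP P c') : Set (PrimeSpectrum B)) := hy
    rw [← h] at h1
    exact h1
  · intro hy
    have h1 : y ∈ {y : PrimeSpectrum B | P.proj (_root_.ConnectedComponents.mk y) = c'} := hy
    rw [h] at h1
    exact h1

lemma eP_orth (P : DiscreteQuotient (TB B)) (c' d' : P) (hne : c' ≠ d') :
    eP P c' * eP P d' = 0 := by
  refine eq_zero_of_idem ((eP_idem P c').mul (eP_idem P d')) (fun y => ?_)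
  by_contra hn
  have h1 : eP P c' ∉ y.asIdeal := fun h => hn (y.asIdeal.mul_mem_right _ h)
  have h2 : eP P d' ∉ y.asIdeal := fun h => hn (y.asIdeal.mul_mem_left _ h)
  exact hne (((eP_notMem_iff P c' y).mp h1).symm.trans ((eP_notMem_iff P d' y).mp h2))

variable (A : Type u) [CommRing A] [Algebra A B]

/-- `b` agrees with `f` locally at every point. -/
def Rel (f : LocallyConstant (TB B) A) (b : B) : Prop :=
  ∀ y : PrimeSpectrum B, ∃ s : B, s ∉ y.asIdeal ∧
    s * (b - algebraMap A B (f (_root_.ConnectedComponents.mk y))) = 0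

variable {A}

lemma Rel.unique {f : LocallyConstant (TB B) A} {b b' : B} (h : Rel A f b) (h' : Rel A f b') :
    b = b' := by
  by_contra hne
  obtain ⟨N, hNdef⟩ : ∃ N : Ideal B,
      N = LinearMap.ker (LinearMap.toSpanSingleton B B (b - b')) := ⟨_, rfl⟩
  have hNmem : ∀ t : B, t ∈ N ↔ t * (b - b') = 0 := by
    intro t
    rw [hNdef, LinearMap.mem_ker, LinearMap.toSpanSingleton_apply, smul_eq_mul]
  have hN : N ≠ ⊤ := by
    intro htop
    have h1N : (1 : B) ∈ N := by rw [htop]; exact Submodule.mem_top
    rw [hNmem, one_mul] at h1N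
    exact hne (sub_eq_zero.mp h1N)
  obtain ⟨m, hm, hNm⟩ := Ideal.exists_le_maximal N hN
  obtain ⟨s, hs, e1⟩ := h ⟨m, hm.isPrime⟩
  obtain ⟨s', hs', e2⟩ := h' ⟨m, hm.isPrime⟩
  have h3 : s * s' ∈ N := by
    rw [hNmem]
    linear_combination s' * e1 - s * e2
  rcases hm.isPrime.mem_or_mem (hNm h3) with h4 | h4
  · exact hs h4
  · exact hs' h4

lemma Rel.exists (f : LocallyConstant (TB B) A) : ∃ b : B, Rel A f b := by
  classical
  letI : Fintype f.discreteQuotient := Fintype.ofFinite _
  refine ⟨∑ c' : f.discreteQuotient,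
    algebraMap A B (f.lift c') * eP f.discreteQuotient c', fun y => ?_⟩
  refine ⟨eP f.discreteQuotient (f.discreteQuotient.proj (_root_.ConnectedComponents.mk y)),
    (eP_notMem_iff _ _ y).mpr rfl, ?_⟩
  have hfy : f (_root_.ConnectedComponents.mk y) =
      f.lift (f.discreteQuotient.proj (_root_.ConnectedComponents.mk y)) := rfl
  rw [hfy, mul_sub, Finset.mul_sum,
    Finset.sum_eq_single (f.discreteQuotient.proj (_root_.ConnectedComponents.mk y))]
  · have hid := (eP_idem f.discreteQuotient
      (f.discreteQuotient.proj (_root_.ConnectedComponents.mk y))).eq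
    linear_combination (algebraMap A B
      (f.lift (f.discreteQuotient.proj (_root_.ConnectedComponents.mk y)))) * hid
  · intro d _ hd
    rw [mul_left_comm, eP_orth _ _ _ (Ne.symm hd), mul_zero]
  · intro h
    exact absurd (Finset.mem_univ _) h

lemma Rel.mul {f g : LocallyConstant (TB B) A} {b b' : B} (h : Rel A f b) (h' : Rel A g b') :
    Rel A (f * g) (b * b') := by
  intro y
  obtain ⟨s, hs, e1⟩ := h y
  obtain ⟨s', hs', e2⟩ := h' y
  refine ⟨s * s', fun hmem => (y.isPrime.mem_or_mem hmem).elim hs hs', ?_⟩
  have h1 : (f * g) (_root_.ConnectedComponents.mk y) =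
      f (_root_.ConnectedComponents.mk y) * g (_root_.ConnectedComponents.mk y) := rfl
  rw [h1, map_mul]
  linear_combination (s' * b') * e1 +
    (s * algebraMap A B (f (_root_.ConnectedComponents.mk y))) * e2

lemma Rel.add {f g : LocallyConstant (TB B) A} {b b' : B} (h : Rel A f b) (h' : Rel A g b') :
    Rel A (f + g) (b + b') := by
  intro y
  obtain ⟨s, hs, e1⟩ := h y
  obtain ⟨s', hs', e2⟩ := h' y
  refine ⟨s * s', fun hmem => (y.isPrime.mem_or_mem hmem).elim hs hs', ?_⟩
  have h1 : (f + g) (_root_.ConnectedComponents.mk y) =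
      f (_root_.ConnectedComponents.mk y) + g (_root_.ConnectedComponents.mk y) := rfl
  rw [h1, map_add]
  linear_combination s' * e1 + s * e2

lemma Rel.const (a : A) : Rel A (algebraMap A (LocallyConstant (TB B) A) a) (algebraMap A B a) := by
  intro y
  refine ⟨1, fun h => y.isPrime.ne_top ((Ideal.eq_top_iff_one _).mpr h), ?_⟩
  have h1 : (algebraMap A (LocallyConstant (TB B) A) a) (_root_.ConnectedComponents.mk y) = a := rfl
  rw [h1, sub_self, mul_zero]

variable (A) in
/-- The glued element. -/
noncomputable def theta (f : LocallyConstant (TB B) A) : B := Classical.choose (Rel.exists f)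

lemma theta_spec (f : LocallyConstant (TB B) A) : Rel A f (theta A f) :=
  Classical.choose_spec (Rel.exists f)

lemma theta_eq {f : LocallyConstant (TB B) A} {b : B} (h : Rel A f b) : theta A f = b :=
  (theta_spec f).unique h

end Groth.Agent.Lib.Helper29.ThetaHom

namespace Groth.Agent.Lib.Helper29.ThetaHom

/-- The canonical algebra map. -/
noncomputable def thetaHom (A B : Type u) [CommRing A] [CommRing B] [Algebra A B] :
    LocallyConstant (TB B) A →ₐ[A] B where
  toFun := theta A
  map_one' := by
    have h := Rel.const (A := A) (B := B) (1 : A)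
    rw [map_one, map_one] at h
    exact theta_eq h
  map_mul' f g := theta_eq ((theta_spec f).mul (theta_spec g))
  map_zero' := by
    have h := Rel.const (A := A) (B := B) (0 : A)
    rw [map_zero, map_zero] at h
    exact theta_eq h
  map_add' f g := theta_eq ((theta_spec f).add (theta_spec g))
  commutes' a := theta_eq (Rel.const a)

variable {A B : Type u} [CommRing A] [CommRing B] [Algebra A B]

lemma thetaHom_apply (f : LocallyConstant (TB B) A) : thetaHom A B f = theta A f := rfl

lemma theta_sub_mem (y : PrimeSpectrum B) (f : LocallyConstant (TB B) A) :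
    theta A f - algebraMap A B (f (_root_.ConnectedComponents.mk y)) ∈ y.asIdeal := by
  obtain ⟨s, hs, e⟩ := theta_spec f y
  have h1 : s * (theta A f - algebraMap A B (f (_root_.ConnectedComponents.mk y))) ∈
      y.asIdeal := by
    rw [e]
    exact y.asIdeal.zero_mem
  exact (y.isPrime.mem_or_mem h1).resolve_left hs

lemma theta_mem_iff (y : PrimeSpectrum B) (f : LocallyConstant (TB B) A) :
    theta A f ∈ y.asIdeal ↔
      algebraMap A B (f (_root_.ConnectedComponents.mk y)) ∈ y.asIdeal := by
  constructor
  · intro h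
    have h1 := y.asIdeal.sub_mem h (theta_sub_mem y f)
    rwa [sub_sub_cancel] at h1
  · intro h
    have h1 := y.asIdeal.add_mem (theta_sub_mem y f) h
    rwa [sub_add_cancel] at h1

end Groth.Agent.Lib.Helper29.ThetaHom
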