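import Mathlib
import Groth.Prelude.Def_PBC
import Groth.Prelude.Def_ProEtW
import Groth.Agent.Lib.Helper29.ThetaHom
import Groth.Agent.Lib.Helper29.WLocalIso
import Groth.Agent.Lib.Helper29.Main0696
import Groth.Agent.Lib.Helper29.Main0737

/-!
# S0700: maps of w-local rings identifying local rings are ind-Zariski (helper29)
-/

set_option autoImplicit false
set_option linter.style.haveILetI false
set_option linter.unusedSectionVars false
set_option maxHeartbeats 1600000

universe u

open Topology CategoryTheory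

namespace Groth.Agent.Lib.Helper29.Main0700

open Groth.Agent.Lib.Helper29.LCSpec Groth.Agent.Lib.Helper29.WLocAlg
  Groth.Agent.Lib.Helper29.WLocSpec Groth.Agent.Lib.Helper29.WLocLoc
  Groth.Agent.Lib.Helper29.ThetaHom Groth.Agent.Lib.Helper29.WLocalIso

theorem isIndZariski_of_algEquiv {A B B' : Type u} [CommRing A] [CommRing B] [CommRing B']
    [Algebra A B] [Algebra A B'] (h : EtPBC.IsIndZariski A B) (e : B ≃ₐ[A] B') :
    EtPBC.IsIndZariski A B' := by
  obtain ⟨J, hJ, hJf, D, c, hc, hD, ⟨i⟩⟩ := h
  refine ⟨J, hJ, hJf, D, c, hc, hD, ⟨i ≪≫ ?_⟩⟩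
  refine Under.isoMk e.toRingEquiv.toCommRingCatIso ?_
  ext a
  exact e.commutes a

lemma bij_congr {A B : Type u} [CommRing A] [CommRing B] {I : Ideal A} [I.IsPrime]
    {K : Ideal B} [K.IsPrime] {f f' : A →+* B} (hff : f = f') (h : I = K.comap f)
    (h' : I = K.comap f') (hb : Function.Bijective (Localization.localRingHom I K f' h')) :
    Function.Bijective (Localization.localRingHom I K f h) := by
  subst hff
  exact hb

section

variable (A B : Type u) [CommRing A] [CommRing B] [Algebra A B]
  (hB : ProEtW.IsWLocal (PrimeSpectrum B))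

include hB

/-- The closed point of a connected component. -/
noncomputable def cp (t : TB B) : PrimeSpectrum B :=
  ((Equiv.ofBijective _ (wlocal_bij (PrimeSpectrum B) hB.2.1 hB.2.2)).symm t).1

lemma cp_closed (t : TB B) : IsClosed ({cp B hB t} : Set (PrimeSpectrum B)) :=
  ((Equiv.ofBijective _ (wlocal_bij (PrimeSpectrum B) hB.2.1 hB.2.2)).symm t).2

lemma mk_cp (t : TB B) : _root_.ConnectedComponents.mk (cp B hB t) = t :=
  (Equiv.ofBijective _ (wlocal_bij (PrimeSpectrum B) hB.2.1 hB.2.2)).apply_symm_apply t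

lemma cp_mk (y : PrimeSpectrum B) (hy : IsClosed ({y} : Set (PrimeSpectrum B))) :
    cp B hB (_root_.ConnectedComponents.mk y) = y :=
  congrArg Subtype.val
    ((Equiv.ofBijective _ (wlocal_bij (PrimeSpectrum B) hB.2.1 hB.2.2)).symm_apply_apply ⟨y, hy⟩)

/-- The structure map `π₀ (Spec B) → Spec A`. -/
noncomputable def cB (t : TB B) : PrimeSpectrum A :=
  PrimeSpectrum.comap (algebraMap A B) (cp B hB t)

lemma cB_clopen (a : A) :
    IsClopen (cB A B hB ⁻¹' (PrimeSpectrum.basicOpen a : Set (PrimeSpectrum A))) := by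
  have hCP : IsClosed {y : PrimeSpectrum B | IsClosed ({y} : Set (PrimeSpectrum B))} := hB.2.1
  have h1 : cB A B hB ⁻¹' (PrimeSpectrum.basicOpen a : Set (PrimeSpectrum A)) =
      _root_.ConnectedComponents.mk ''
        ((PrimeSpectrum.basicOpen (algebraMap A B a) : Set (PrimeSpectrum B)) ∩
          {y | IsClosed ({y} : Set (PrimeSpectrum B))}) := by
    ext t
    constructor
    · intro ht
      exact ⟨cp B hB t, ⟨ht, cp_closed B hB t⟩, mk_cp B hB t⟩
    · rintro ⟨y, ⟨hy1, hy2⟩, rfl⟩
      change PrimeSpectrum.comap (algebraMap A B) (cp B hB (_root_.ConnectedComponents.mk y)) ∈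
        PrimeSpectrum.basicOpen a
      rw [cp_mk B hB y hy2]
      exact hy1
  have h2 : (cB A B hB ⁻¹' (PrimeSpectrum.basicOpen a : Set (PrimeSpectrum A)))ᶜ =
      _root_.ConnectedComponents.mk ''
        ((PrimeSpectrum.basicOpen (algebraMap A B a) : Set (PrimeSpectrum B))ᶜ ∩
          {y | IsClosed ({y} : Set (PrimeSpectrum B))}) := by
    ext t
    constructor
    · intro ht
      exact ⟨cp B hB t, ⟨ht, cp_closed B hB t⟩, mk_cp B hB t⟩
    · rintro ⟨y, ⟨hy1, hy2⟩, rfl⟩
      intro hmem
      apply hy1
      have hmem' : PrimeSpectrum.comap (algebraMap A B)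
          (cp B hB (_root_.ConnectedComponents.mk y)) ∈ PrimeSpectrum.basicOpen a := hmem
      rw [cp_mk B hB y hy2] at hmem'
      exact hmem'
  constructor
  · rw [h1]
    exact (((PrimeSpectrum.isCompact_basicOpen _).inter_right hCP).image
      _root_.ConnectedComponents.continuous_coe).isClosed
  · rw [← isClosed_compl_iff, h2]
    exact (((PrimeSpectrum.basicOpen _).isOpen.isClosed_compl.inter hCP).isCompact.image
      _root_.ConnectedComponents.continuous_coe).isClosed

lemma isUnit_theta (f : Sc A (TB B) (cB A B hB)) :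
    IsUnit (thetaHom A B (f : LocallyConstant (TB B) A)) := by
  by_contra hnu
  obtain ⟨m, hm, hmem⟩ := exists_max_ideal_of_mem_nonunits (mem_nonunits_iff.mpr hnu)
  have hy : IsClosed ({(⟨m, hm.isPrime⟩ : PrimeSpectrum B)} : Set (PrimeSpectrum B)) :=
    (PrimeSpectrum.isClosed_singleton_iff_isMaximal _).mpr hm
  have h1 : theta A (f : LocallyConstant (TB B) A) ∈
      (⟨m, hm.isPrime⟩ : PrimeSpectrum B).asIdeal := hmem
  rw [theta_mem_iff] at h1
  apply f.2 (_root_.ConnectedComponents.mk (⟨m, hm.isPrime⟩ : PrimeSpectrum B))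
  change algebraMap A B ((f : LocallyConstant (TB B) A)
    (_root_.ConnectedComponents.mk (⟨m, hm.isPrime⟩ : PrimeSpectrum B))) ∈
    (cp B hB (_root_.ConnectedComponents.mk (⟨m, hm.isPrime⟩ : PrimeSpectrum B))).asIdeal
  rw [cp_mk B hB _ hy]
  exact h1

/-- The comparison map from the w-localization. -/
noncomputable def thetaLift : Bc A (TB B) (cB A B hB) →ₐ[A] B :=
  IsLocalization.liftAlgHom (M := Sc A (TB B) (cB A B hB)) (f := thetaHom A B)
    (isUnit_theta A B hB)

lemma thetaLift_apply (f : LocallyConstant (TB B) A) :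
    thetaLift A B hB (algebraMap (LocallyConstant (TB B) A) (Bc A (TB B) (cB A B hB)) f) =
      theta A f := by
  unfold thetaLift
  rw [IsLocalization.liftAlgHom_apply, IsLocalization.lift_eq]
  rfl

theorem main0700_aux (h1 : EtPBC.IdentifiesLocalRings A B) :
    EtPBC.IsIndZariski A B := by
  have hc := cB_clopen A B hB
  letI algBc : Algebra (Bc A (TB B) (cB A B hB)) B := (thetaLift A B hB).toRingHom.toAlgebra
  have hg : ∀ z, algebraMap (Bc A (TB B) (cB A B hB)) B z = thetaLift A B hB z := fun z => rfl
  have hcomp : (algebraMap (Bc A (TB B) (cB A B hB)) B).comp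
      (algebraMap A (Bc A (TB B) (cB A B hB))) = algebraMap A B :=
    RingHom.ext fun a => (thetaLift A B hB).commutes a
  -- the spectrum
  have hpsic : ∀ y : PrimeSpectrum B,
      psic (cB A B hB) (PrimeSpectrum.comap (algebraMap (Bc A (TB B) (cB A B hB)) B) y) =
        (PrimeSpectrum.comap (algebraMap A B) y, _root_.ConnectedComponents.mk y) := by
    intro y
    apply Prod.ext
    · rw [← comap_eq]
      apply PrimeSpectrum.ext
      ext a
      change algebraMap (Bc A (TB B) (cB A B hB)) B
        (algebraMap A (Bc A (TB B) (cB A B hB)) a) ∈ y.asIdeal ↔ algebraMap A B a ∈ y.asIdeal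
      rw [hg, (thetaLift A B hB).commutes a]
    · change tau (PrimeSpectrum.comap (algebraMap (LocallyConstant (TB B) A)
        (Bc A (TB B) (cB A B hB)))
        (PrimeSpectrum.comap (algebraMap (Bc A (TB B) (cB A B hB)) B) y)) =
        _root_.ConnectedComponents.mk y
      by_contra hne
      obtain ⟨U, hU, hmemU, hsub⟩ := compact_exists_isClopen_in_isOpen
        (isOpen_compl_singleton (x := _root_.ConnectedComponents.mk y)) hne
      have h2 := tau_spec _ hU hmemU
      apply h2
      change algebraMap (Bc A (TB B) (cB A B hB)) B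
        (algebraMap (LocallyConstant (TB B) A) (Bc A (TB B) (cB A B hB))
          (LocallyConstant.charFn A hU)) ∈ y.asIdeal
      rw [hg, thetaLift_apply, theta_mem_iff, chi_notMem hU (fun h => hsub h rfl), map_zero]
      exact y.asIdeal.zero_mem
  -- identifies local rings
  have hid : EtPBC.IdentifiesLocalRings (Bc A (TB B) (cB A B hB)) B := by
    intro y
    haveI := y.isPrime
    have key : ∀ (I : Ideal A) [I.IsPrime]
        (hIJ : I = (y.asIdeal.comap (algebraMap (Bc A (TB B) (cB A B hB)) B)).comap
          (algebraMap A (Bc A (TB B) (cB A B hB)))),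
        Function.Bijective (Localization.localRingHom I
          (y.asIdeal.comap (algebraMap (Bc A (TB B) (cB A B hB)) B))
          (algebraMap A (Bc A (TB B) (cB A B hB))) hIJ) := by
      intro I _ hIJ
      subst hIJ
      exact identifies_Bc (cB A B hB) hc
        ⟨y.asIdeal.comap (algebraMap (Bc A (TB B) (cB A B hB)) B), inferInstance⟩
    have hIJ : y.asIdeal.comap (algebraMap A B) =
        (y.asIdeal.comap (algebraMap (Bc A (TB B) (cB A B hB)) B)).comap
          (algebraMap A (Bc A (TB B) (cB A B hB))) := by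
      rw [Ideal.comap_comap, hcomp]
    have hcompEq := Localization.localRingHom_comp (I := y.asIdeal.comap (algebraMap A B))
      (y.asIdeal.comap (algebraMap (Bc A (TB B) (cB A B hB)) B)) y.asIdeal
      (algebraMap A (Bc A (TB B) (cB A B hB))) hIJ
      (algebraMap (Bc A (TB B) (cB A B hB)) B) rfl
    have hf := key _ hIJ
    have hL : Function.Bijective (Localization.localRingHom (y.asIdeal.comap (algebraMap A B))
        y.asIdeal ((algebraMap (Bc A (TB B) (cB A B hB)) B).comp
          (algebraMap A (Bc A (TB B) (cB A B hB)))) (by rw [hcomp])) :=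
      bij_congr hcomp _ rfl (h1 y)
    have e : ∀ z, Localization.localRingHom (y.asIdeal.comap (algebraMap A B))
        y.asIdeal ((algebraMap (Bc A (TB B) (cB A B hB)) B).comp
          (algebraMap A (Bc A (TB B) (cB A B hB)))) (by rw [hcomp]) z =
        Localization.localRingHom (y.asIdeal.comap (algebraMap (Bc A (TB B) (cB A B hB)) B))
          y.asIdeal (algebraMap (Bc A (TB B) (cB A B hB)) B) rfl
          (Localization.localRingHom (y.asIdeal.comap (algebraMap A B))
            (y.asIdeal.comap (algebraMap (Bc A (TB B) (cB A B hB)) B))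
            (algebraMap A (Bc A (TB B) (cB A B hB))) hIJ z) :=
      fun z => RingHom.congr_fun hcompEq z
    constructor
    · intro u v huv
      obtain ⟨u₀, rfl⟩ := hf.2 u
      obtain ⟨v₀, rfl⟩ := hf.2 v
      rw [← e, ← e] at huv
      rw [hL.1 huv]
    · intro w
      obtain ⟨z, rfl⟩ := hL.2 w
      exact ⟨_, (e z).symm⟩
  -- w-local map
  have hmap : ProEtW.IsWLocalMap
      (PrimeSpectrum.comap (algebraMap (Bc A (TB B) (cB A B hB)) B)) := by
    refine ⟨Groth.Agent.Lib.Helper29.Main0737.isSpectralMap_comap _, fun y hy => ?_⟩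
    rw [isClosed_singleton_iff (cB A B hB) hc, hpsic]
    change PrimeSpectrum.comap (algebraMap A B) y =
      PrimeSpectrum.comap (algebraMap A B) (cp B hB (_root_.ConnectedComponents.mk y))
    rw [cp_mk B hB y hy]
  -- π₀
  obtain ⟨e, he⟩ := Groth.Agent.Lib.Helper29.Main0696.exists_pi0Homeo (cB A B hB) hc
  have hκ : ∀ t, e ((PrimeSpectrum.continuous_comap
      (algebraMap (Bc A (TB B) (cB A B hB)) B)).connectedComponentsMap t) = t := by
    intro t
    obtain ⟨y, rfl⟩ := _root_.ConnectedComponents.surjective_coe t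
    change e (_root_.ConnectedComponents.mk
      (PrimeSpectrum.comap (algebraMap (Bc A (TB B) (cB A B hB)) B) y)) = _
    rw [he, hpsic]
  have h5 : Function.Bijective (PrimeSpectrum.continuous_comap
      (algebraMap (Bc A (TB B) (cB A B hB)) B)).connectedComponentsMap := by
    constructor
    · intro t t' htt
      rw [← hκ t, ← hκ t', htt]
    · intro w
      refine ⟨e w, ?_⟩
      apply e.injective
      rw [hκ]
  have hbij := main0699 (Bc A (TB B) (cB A B hB)) B hid (isWLocal (cB A B hB) hc) hB hmap h5
  exact isIndZariski_of_algEquiv (isIndZariski_Bc A (TB B) (cB A B hB))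
    (AlgEquiv.ofBijective (thetaLift A B hB) hbij)

end

theorem main0700 (A B : Type u) [CommRing A] [CommRing B]
    [Algebra A B] (h1 : EtPBC.IdentifiesLocalRings A B) (h2 : ProEtW.IsWLocal (PrimeSpectrum A))
    (h3 : ProEtW.IsWLocal (PrimeSpectrum B))
    (h4 : ProEtW.IsWLocalMap (PrimeSpectrum.comap (algebraMap A B))) :
    EtPBC.IsIndZariski A B :=
  main0700_aux A B h3 h1

end Groth.Agent.Lib.Helper29.Main0700
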