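import Mathlib
import Groth.Prelude.Def_PBC
import Groth.Prelude.Def_ProEtW
import Groth.Agent.Lib.Helper29.IndZarId
import Groth.Agent.Lib.Helper29.Main0694
import Groth.Agent.Lib.Helper29.Main0697
import Groth.Agent.Lib.Helper29.Main0700

/-!
# S0678: ind-Zariski retractions iff w-local with extremally disconnected `π₀` (helper29)
-/

set_option autoImplicit false
set_option linter.style.haveILetI false
set_option linter.unusedSectionVars false
set_option maxHeartbeats 1600000

universe u

open Topology CategoryTheory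

namespace Groth.Agent.Lib.Helper29.Main0678

open Groth.Agent.Lib.Helper29.LCSpec Groth.Agent.Lib.Helper29.WLocAlg
  Groth.Agent.Lib.Helper29.WLocSpec Groth.Agent.Lib.Helper29.WLocLoc
  Groth.Agent.Lib.Helper29.ThetaHom Groth.Agent.Lib.Helper29.WLocalIso
  Groth.Agent.Lib.Helper29.Main0694 Groth.Agent.Lib.Helper29.Main0700
  Groth.Agent.Lib.Helper29.IndZarId

/-- A copy of a type with the discrete topology. -/
structure Dsc (X : Type u) where
  /-- the underlying point -/
  val : X

instance (X : Type u) : TopologicalSpace (Dsc X) := ⊥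

instance (X : Type u) : DiscreteTopology (Dsc X) := ⟨rfl⟩

lemma isWLocal_of_isClosedEmbedding {X Y : Type u} [TopologicalSpace X] [TopologicalSpace Y]
    [SpectralSpace Y] (hX : ProEtW.IsWLocal X) (i : Y → X) (hemb : IsClosedEmbedding i) :
    ProEtW.IsWLocal Y := by
  obtain ⟨hsp, hcl, huniq⟩ := hX
  have hpt : ∀ y : Y, IsClosed ({y} : Set Y) ↔ IsClosed ({i y} : Set X) := by
    intro y
    rw [hemb.isClosed_iff_image_isClosed, Set.image_singleton]
  refine ⟨inferInstance, ?_, ?_⟩
  · have : {y : Y | IsClosed ({y} : Set Y)} = i ⁻¹' {x : X | IsClosed ({x} : Set X)} := by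
      ext y
      exact hpt y
    rw [this]
    exact hcl.preimage hemb.continuous
  · intro y
    obtain ⟨z, ⟨hz1, hz2⟩, hz3⟩ := huniq (i y)
    have hzY : z ∈ Set.range i := hz2.mem_closed hemb.isClosed_range ⟨y, rfl⟩
    obtain ⟨z', rfl⟩ := hzY
    refine ⟨z', ⟨(hpt _).2 hz1, hemb.isInducing.specializes_iff.1 hz2⟩, ?_⟩
    rintro w ⟨hw1, hw2⟩
    apply hemb.injective
    exact hz3 (i w) ⟨(hpt w).1 hw1, hemb.isInducing.specializes_iff.2 hw2⟩

lemma continuous_cc (A : Type u) [CommRing A] : Continuous (cc A) := by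
  rw [PrimeSpectrum.isTopologicalBasis_basic_opens.continuous_iff]
  rintro _ ⟨a, rfl⟩
  exact (cc_clopen A a).isOpen

section forward

variable (A : Type u) [CommRing A] (H : ProEtW.HasIndZariskiRetractions A)

include H

theorem wlocal_of_retractions : ProEtW.IsWLocal (PrimeSpectrum A) := by
  have hc := cc_clopen A
  obtain ⟨r⟩ := H (Bc A (Tc A) (cc A)) (faithfullyFlat_Bc (cc A) hc (cc_surjective A))
    (isIndZariski_Bc A (Tc A) (cc A))
  have hsurj : Function.Surjective r.toRingHom :=
    fun a => ⟨algebraMap A (Bc A (Tc A) (cc A)) a, r.commutes a⟩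
  have hemb := PrimeSpectrum.isClosedEmbedding_comap_of_surjective _ r.toRingHom hsurj
  exact isWLocal_of_isClosedEmbedding (isWLocal (cc A) hc) _ hemb

theorem extrDisc_of_retractions : ExtremallyDisconnected (TB A) := by
  haveI : ExtremallyDisconnected (StoneCech (Dsc (TB A))) :=
    StoneCech.projective.extremallyDisconnected
  have hg₀ : Continuous (Dsc.val : Dsc (TB A) → TB A) := continuous_of_discreteTopology
  obtain ⟨g, hgdef⟩ : ∃ g : C(StoneCech (Dsc (TB A)), TB A),
      g = ⟨stoneCechExtend hg₀, continuous_stoneCechExtend hg₀⟩ := ⟨_, rfl⟩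
  have hgs : Function.Surjective g := by
    intro t
    refine ⟨stoneCechUnit ⟨t⟩, ?_⟩
    rw [hgdef]
    exact stoneCechExtend_stoneCechUnit hg₀ ⟨t⟩
  obtain ⟨B, _, _, e, hiz, hge, hemb, hrange⟩ :=
    Groth.Agent.Lib.Helper29.Main0697.main0697 A (StoneCech (Dsc (TB A))) g
  have hid := identifies_of_isIndZariski A B hiz
  haveI : Module.Flat A B := flat_of_identifies hid
  have hsurj : Function.Surjective (PrimeSpectrum.comap (algebraMap A B)) := by
    intro p
    obtain ⟨t, ht⟩ := hgs (_root_.ConnectedComponents.mk p)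
    have hmem : (p, t) ∈ {p : PrimeSpectrum A × StoneCech (Dsc (TB A)) |
        _root_.ConnectedComponents.mk p.1 = g p.2} := ht.symm
    rw [← hrange] at hmem
    obtain ⟨y, hy⟩ := hmem
    exact ⟨y, congrArg Prod.fst hy⟩
  have hff := Module.FaithfullyFlat.of_comap_surjective hsurj
  obtain ⟨s⟩ := H B hff hiz
  have hσ'c : Continuous (fun x : PrimeSpectrum A =>
      e (_root_.ConnectedComponents.mk (PrimeSpectrum.comap s.toRingHom x))) :=
    e.continuous.comp (_root_.ConnectedComponents.continuous_coe.comp
      (PrimeSpectrum.continuous_comap _))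
  have hσc : Continuous hσ'c.connectedComponentsLift :=
    hσ'c.connectedComponentsLift_continuous
  have hgσ : ∀ t, g (hσ'c.connectedComponentsLift t) = t := by
    intro t
    obtain ⟨x, rfl⟩ := _root_.ConnectedComponents.surjective_coe t
    change g (e (_root_.ConnectedComponents.mk (PrimeSpectrum.comap s.toRingHom x))) =
      _root_.ConnectedComponents.mk x
    rw [hge]
    congr 1
    apply PrimeSpectrum.ext
    ext a
    change s (algebraMap A B a) ∈ x.asIdeal ↔ a ∈ x.asIdeal
    rw [s.commutes]
    rfl
  have hprojT : CompactT2.Projective (StoneCech (Dsc (TB A))) := StoneCech.projective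
  have hproj : CompactT2.Projective (TB A) := by
    intro Y Z _ _ _ _ _ _ f p hf hp hps
    obtain ⟨k, hkc, hk⟩ := hprojT (f := f ∘ g) (g := p) (hf.comp g.continuous) hp hps
    refine ⟨k ∘ hσ'c.connectedComponentsLift, hkc.comp hσc, ?_⟩
    funext t
    have h1 := congrFun hk (hσ'c.connectedComponentsLift t)
    change p (k (hσ'c.connectedComponentsLift t)) =
      f (g (hσ'c.connectedComponentsLift t)) at h1
    change p (k (hσ'c.connectedComponentsLift t)) = f t
    rw [h1, hgσ]
  exact hproj.extremallyDisconnected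

end forward

section converse

variable (A B : Type u) [CommRing A] [CommRing B] [Algebra A B]

/-- Points of `Spec B` (constructible topology) lying over closed points of `Spec A`. -/
def Yc : Set (Tc B) :=
  {q | IsClosed ({PrimeSpectrum.comap (algebraMap A B) (cc B q)} : Set (PrimeSpectrum A))}

/-- The map to `π₀ (Spec A)`. -/
def gY (q : Yc A B) : TB A :=
  _root_.ConnectedComponents.mk (PrimeSpectrum.comap (algebraMap A B) (cc B q.1))

lemma continuous_comap_cc :
    Continuous (fun q : Tc B => PrimeSpectrum.comap (algebraMap A B) (cc B q)) :=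
  (PrimeSpectrum.continuous_comap _).comp (continuous_cc B)

lemma continuous_gY : Continuous (gY A B) :=
  _root_.ConnectedComponents.continuous_coe.comp
    ((continuous_comap_cc A B).comp continuous_subtype_val)

lemma isClosed_Yc (hA : ProEtW.IsWLocal (PrimeSpectrum A)) : IsClosed (Yc A B) :=
  hA.2.1.preimage (continuous_comap_cc A B)

lemma surjective_gY (hA : ProEtW.IsWLocal (PrimeSpectrum A))
    (hff : Module.FaithfullyFlat A B) : Function.Surjective (gY A B) := by
  intro t
  haveI := hff
  obtain ⟨y, hy⟩ := PrimeSpectrum.comap_surjective_of_faithfullyFlat (A := A) (B := B)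
    (cp A hA t)
  refine ⟨⟨WithTopology.toTopology _ y, ?_⟩, ?_⟩
  · change IsClosed ({PrimeSpectrum.comap (algebraMap A B) y} : Set (PrimeSpectrum A))
    rw [hy]
    exact cp_closed A hA t
  · change _root_.ConnectedComponents.mk (PrimeSpectrum.comap (algebraMap A B) y) = t
    rw [hy]
    exact mk_cp A hA t

theorem retraction_of_section (hA : ProEtW.IsWLocal (PrimeSpectrum A))
    (hid : EtPBC.IdentifiesLocalRings A B) (c' : TB A → PrimeSpectrum B)
    (hc' : ∀ b : B, IsClopen (c' ⁻¹' (PrimeSpectrum.basicOpen b : Set (PrimeSpectrum B))))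
    (key : ∀ t, PrimeSpectrum.comap (algebraMap A B) (c' t) = cp A hA t) :
    Nonempty (B →ₐ[A] A) := by
  have htow : ∀ a : A, algebraMap A (Bc B (TB A) c') a =
      algebraMap B (Bc B (TB A) c') (algebraMap A B a) := by
    intro a
    rw [IsScalarTower.algebraMap_apply A (LocallyConstant (TB A) B) (Bc B (TB A) c'),
      IsScalarTower.algebraMap_apply B (LocallyConstant (TB A) B) (Bc B (TB A) c')]
    rfl
  haveI : IsScalarTower A B (Bc B (TB A) c') := IsScalarTower.of_algebraMap_eq htow
  have hD_id : EtPBC.IdentifiesLocalRings B (Bc B (TB A) c') := identifies_Bc c' hc'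
  have hAD : EtPBC.IdentifiesLocalRings A (Bc B (TB A) c') := identifies_comp hid hD_id
  have hD_wl : ProEtW.IsWLocal (PrimeSpectrum (Bc B (TB A) c')) := isWLocal c' hc'
  have hcm : ∀ y : PrimeSpectrum (Bc B (TB A) c'),
      PrimeSpectrum.comap (algebraMap A (Bc B (TB A) c')) y =
        PrimeSpectrum.comap (algebraMap A B) (psic c' y).1 := by
    intro y
    rw [← comap_eq c' y]
    apply PrimeSpectrum.ext
    ext a
    change algebraMap A (Bc B (TB A) c') a ∈ y.asIdeal ↔
      algebraMap B (Bc B (TB A) c') (algebraMap A B a) ∈ y.asIdeal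
    rw [IsScalarTower.algebraMap_apply A B (Bc B (TB A) c')]
  have hmapD : ProEtW.IsWLocalMap
      (PrimeSpectrum.comap (algebraMap A (Bc B (TB A) c'))) := by
    refine ⟨Groth.Agent.Lib.Helper29.Main0737.isSpectralMap_comap _, fun y hy => ?_⟩
    rw [isClosed_singleton_iff c' hc'] at hy
    rw [hcm, hy, key]
    exact cp_closed A hA _
  obtain ⟨e, he⟩ := Groth.Agent.Lib.Helper29.Main0696.exists_pi0Homeo c' hc'
  have hκ : ∀ w, (PrimeSpectrum.continuous_comap
      (algebraMap A (Bc B (TB A) c'))).connectedComponentsMap w = e w := by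
    intro w
    obtain ⟨y, rfl⟩ := _root_.ConnectedComponents.surjective_coe w
    change _root_.ConnectedComponents.mk
      (PrimeSpectrum.comap (algebraMap A (Bc B (TB A) c')) y) =
      e (_root_.ConnectedComponents.mk y)
    rw [he, hcm]
    have hsp : (psic c' y).1 ⤳ c' (psic c' y).2 :=
      (PrimeSpectrum.le_iff_specializes _ _).mp (psic_le c' hc' y)
    have hsp2 := hsp.map (PrimeSpectrum.continuous_comap (algebraMap A B))
    rw [Groth.Agent.Lib.Helper29.Main0696.mk_eq_of_specializes hsp2, key, mk_cp]
  have h5 : Function.Bijective (PrimeSpectrum.continuous_comap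
      (algebraMap A (Bc B (TB A) c'))).connectedComponentsMap := by
    constructor
    · intro w w' hww
      apply e.injective
      rw [← hκ, ← hκ, hww]
    · intro t
      obtain ⟨w, rfl⟩ := e.surjective t
      exact ⟨w, hκ w⟩
  have hbij := main0699 A (Bc B (TB A) c') hAD hA hD_wl hmapD h5
  exact ⟨((AlgEquiv.ofBijective (Algebra.ofId A (Bc B (TB A) c')) hbij).symm :
    Bc B (TB A) c' →ₐ[A] A).comp (IsScalarTower.toAlgHom A B (Bc B (TB A) c'))⟩

theorem retraction_of_wlocal_extrDisc (hA : ProEtW.IsWLocal (PrimeSpectrum A))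
    [hED : ExtremallyDisconnected (TB A)]
    (hff : Module.FaithfullyFlat A B) (hid : EtPBC.IdentifiesLocalRings A B) :
    Nonempty (B →ₐ[A] A) := by
  haveI : CompactSpace (Yc A B) := isCompact_iff_compactSpace.mp (isClosed_Yc A B hA).isCompact
  have hproj : CompactT2.Projective (TB A) := CompactT2.ExtremallyDisconnected.projective
  obtain ⟨h, hhc, hh⟩ := hproj (f := id) (g := gY A B) continuous_id (continuous_gY A B)
    (surjective_gY A B hA hff)
  refine retraction_of_section A B hA hid (fun t => cc B (h t).1) ?_ ?_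
  · intro b
    exact (cc_clopen B b).preimage (continuous_subtype_val.comp hhc)
  · intro t
    have h1 : IsClosed ({PrimeSpectrum.comap (algebraMap A B) (cc B (h t).1)} :
        Set (PrimeSpectrum A)) := (h t).2
    have h2 : _root_.ConnectedComponents.mk
        (PrimeSpectrum.comap (algebraMap A B) (cc B (h t).1)) = t := congrFun hh t
    rw [← cp_mk A hA _ h1, h2]

end converse

theorem main0678 (A : Type u) [CommRing A] :
    ProEtW.HasIndZariskiRetractions A ↔
      (ProEtW.IsWLocal (PrimeSpectrum A) ∧
        ExtremallyDisconnected (_root_.ConnectedComponents (PrimeSpectrum A))) := by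
  constructor
  · intro H
    exact ⟨wlocal_of_retractions A H, extrDisc_of_retractions A H⟩
  · rintro ⟨hA, hED⟩ B _ _ hff hiz
    haveI := hED
    exact retraction_of_wlocal_extrDisc A B hA hff (identifies_of_isIndZariski A B hiz)

end Groth.Agent.Lib.Helper29.Main0678
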