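import Mathlib
import Groth.Prelude.Def_PBC
import Groth.Prelude.Def_ProEtW
import Groth.Prelude.Def_EtBase
import Groth.Agent.S0675
import Groth.Agent.Lib.Helper8.Hzl.IndEtaleCat
import Groth.Agent.Lib.Helper29.Aux0692
import Groth.Agent.Lib.Helper29.Main0678
import Groth.Agent.Lib.Helper29.Loc0677

/-!
# S0677: w-contractible iff w-local + extremally disconnected `π₀` + strictly henselian local
rings at maximal ideals (helper29)
-/

set_option autoImplicit false
set_option linter.style.haveILetI false
set_option linter.unusedSectionVars false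
set_option maxHeartbeats 1600000

universe u

open Topology CategoryTheory

namespace Groth.Agent.Lib.Helper29.Main0677

open Groth.Agent.Lib.Helper29.LCSpec Groth.Agent.Lib.Helper29.WLocAlg
  Groth.Agent.Lib.Helper29.WLocSpec Groth.Agent.Lib.Helper29.WLocLoc
  Groth.Agent.Lib.Helper29.ThetaHom Groth.Agent.Lib.Helper29.WLocalIso
  Groth.Agent.Lib.Helper29.Main0694 Groth.Agent.Lib.Helper29.Main0700
  Groth.Agent.Lib.Helper29.IndZarId Groth.Agent.Lib.Helper29.Main0678
  Groth.Agent.Lib.Helper29.Loc0677

section converse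

variable (A B : Type u) [CommRing A] [CommRing B] [Algebra A B]

theorem retraction_of_section' (hA : ProEtW.IsWLocal (PrimeSpectrum A))
    (c' : TB A → PrimeSpectrum B)
    (hc' : ∀ b : B, IsClopen (c' ⁻¹' (PrimeSpectrum.basicOpen b : Set (PrimeSpectrum B))))
    (key : ∀ t, PrimeSpectrum.comap (algebraMap A B) (c' t) = cp A hA t)
    (hAB : ∀ y : PrimeSpectrum (Bc B (TB A) c'), Function.Bijective
      (Localization.localRingHom
        ((y.asIdeal.comap (algebraMap B (Bc B (TB A) c'))).comap (algebraMap A B))
        (y.asIdeal.comap (algebraMap B (Bc B (TB A) c'))) (algebraMap A B) rfl)) :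
    Nonempty (B →ₐ[A] A) := by
  have htow : ∀ a : A, algebraMap A (Bc B (TB A) c') a =
      algebraMap B (Bc B (TB A) c') (algebraMap A B a) := by
    intro a
    rw [IsScalarTower.algebraMap_apply A (LocallyConstant (TB A) B) (Bc B (TB A) c'),
      IsScalarTower.algebraMap_apply B (LocallyConstant (TB A) B) (Bc B (TB A) c')]
    rfl
  haveI : IsScalarTower A B (Bc B (TB A) c') := IsScalarTower.of_algebraMap_eq htow
  have hD_id : EtPBC.IdentifiesLocalRings B (Bc B (TB A) c') := identifies_Bc c' hc'
  have hAD : EtPBC.IdentifiesLocalRings A (Bc B (TB A) c') :=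
    fun y => bijective_comp_at y (hAB y) (hD_id y)
  have hD_wl : ProEtW.IsWLocal (PrimeSpectrum (Bc B (TB A) c')) := isWLocal c' hc'
  have hcm : ∀ y : PrimeSpectrum (Bc B (TB A) c'),
      PrimeSpectrum.comap (algebraMap A (Bc B (TB A) c')) y =
        PrimeSpectrum.comap (algebraMap A B) (psic c' y).1 := by
    intro y
    rw [← comap_eq c' y]
    apply PrimeSpectrum.ext
    ext a
    change algebraMap A (Bc B (TB A) c') a ∈ y.asIdeal ↔
      algebraMap B (Bc B (TB A) c') (algebraMap A B a) ∈ y.asIdeal
    rw [IsScalarTower.algebraMap_apply A B (Bc B (TB A) c')]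
  have hmapD : ProEtW.IsWLocalMap
      (PrimeSpectrum.comap (algebraMap A (Bc B (TB A) c'))) := by
    refine ⟨Groth.Agent.Lib.Helper29.Main0737.isSpectralMap_comap _, fun y hy => ?_⟩
    rw [isClosed_singleton_iff c' hc'] at hy
    rw [hcm, hy, key]
    exact cp_closed A hA _
  obtain ⟨e, he⟩ := Groth.Agent.Lib.Helper29.Main0696.exists_pi0Homeo c' hc'
  have hκ : ∀ w, (PrimeSpectrum.continuous_comap
      (algebraMap A (Bc B (TB A) c'))).connectedComponentsMap w = e w := by
    intro w
    obtain ⟨y, rfl⟩ := _root_.ConnectedComponents.surjective_coe w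
    change _root_.ConnectedComponents.mk
      (PrimeSpectrum.comap (algebraMap A (Bc B (TB A) c')) y) =
      e (_root_.ConnectedComponents.mk y)
    rw [he, hcm]
    have hsp : (psic c' y).1 ⤳ c' (psic c' y).2 :=
      (PrimeSpectrum.le_iff_specializes _ _).mp (psic_le c' hc' y)
    have hsp2 := hsp.map (PrimeSpectrum.continuous_comap (algebraMap A B))
    rw [Groth.Agent.Lib.Helper29.Main0696.mk_eq_of_specializes hsp2, key, mk_cp]
  have h5 : Function.Bijective (PrimeSpectrum.continuous_comap
      (algebraMap A (Bc B (TB A) c'))).connectedComponentsMap := by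
    constructor
    · intro w w' hww
      apply e.injective
      rw [← hκ, ← hκ, hww]
    · intro t
      obtain ⟨w, rfl⟩ := e.surjective t
      exact ⟨w, hκ w⟩
  have hbij := main0699 A (Bc B (TB A) c') hAD hA hD_wl hmapD h5
  exact ⟨((AlgEquiv.ofBijective (Algebra.ofId A (Bc B (TB A) c')) hbij).symm :
    Bc B (TB A) c' →ₐ[A] A).comp (IsScalarTower.toAlgHom A B (Bc B (TB A) c'))⟩

theorem retraction_of_conditions (hA : ProEtW.IsWLocal (PrimeSpectrum A))
    [hED : ExtremallyDisconnected (TB A)]
    (hsh : ∀ (m : Ideal A) [m.IsMaximal],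
      EtCoh.IsStrictlyHenselianLocalRing (Localization.AtPrime m))
    (hff : Module.FaithfullyFlat A B) [Algebra.WeaklyEtale A B] :
    Nonempty (B →ₐ[A] A) := by
  haveI : CompactSpace (Yc A B) := isCompact_iff_compactSpace.mp (isClosed_Yc A B hA).isCompact
  have hproj : CompactT2.Projective (TB A) := CompactT2.ExtremallyDisconnected.projective
  obtain ⟨h, hhc, hh⟩ := hproj (f := id) (g := gY A B) continuous_id (continuous_gY A B)
    (surjective_gY A B hA hff)
  have hc' : ∀ b : B, IsClopen ((fun t => cc B (h t).1) ⁻¹'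
      (PrimeSpectrum.basicOpen b : Set (PrimeSpectrum B))) :=
    fun b => (cc_clopen B b).preimage (continuous_subtype_val.comp hhc)
  have key : ∀ t, PrimeSpectrum.comap (algebraMap A B) (cc B (h t).1) = cp A hA t := by
    intro t
    have h1 : IsClosed ({PrimeSpectrum.comap (algebraMap A B) (cc B (h t).1)} :
        Set (PrimeSpectrum A)) := (h t).2
    have h2 : _root_.ConnectedComponents.mk
        (PrimeSpectrum.comap (algebraMap A B) (cc B (h t).1)) = t := congrFun hh t
    rw [← cp_mk A hA _ h1, h2]
  refine retraction_of_section' A B hA (fun t => cc B (h t).1) hc' key ?_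
  intro y
  haveI := y.isPrime
  have hle : (psic (fun t => cc B (h t).1) y).1 ≤
      cc B (h (psic (fun t => cc B (h t).1) y).2).1 :=
    psic_le (fun t => cc B (h t).1) hc' y
  have hle2 : (psic (fun t => cc B (h t).1) y).1.asIdeal ≤
      (cc B (h (psic (fun t => cc B (h t).1) y).2).1).asIdeal := hle
  have hle' : y.asIdeal.comap (algebraMap B (Bc B (TB A) (fun t => cc B (h t).1))) ≤
      (cc B (h (psic (fun t => cc B (h t).1) y).2).1).asIdeal := by
    intro x hx
    exact hle2 ((algebraMap_mem_iff (fun t => cc B (h t).1) y x).mp hx)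
  haveI hmax : ((cc B (h (psic (fun t => cc B (h t).1) y).2).1).asIdeal.comap
      (algebraMap A B)).IsMaximal := by
    have hcl := cp_closed A hA (psic (fun t => cc B (h t).1) y).2
    rw [← key] at hcl
    exact (PrimeSpectrum.isClosed_singleton_iff_isMaximal _).mp hcl
  exact bijective_localRingHom_of_le
    (cc B (h (psic (fun t => cc B (h t).1) y).2).1).asIdeal _ hle'
    (bijective_localRingHom_of_strictlyHenselian
      (cc B (h (psic (fun t => cc B (h t).1) y).2).1).asIdeal (hsh _))

end converse

theorem main0677 (A : Type u) [CommRing A] :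
    EtPBC.IsWContractible A ↔
      (ProEtW.IsWLocal (PrimeSpectrum A) ∧
        ExtremallyDisconnected (_root_.ConnectedComponents (PrimeSpectrum A)) ∧
        ∀ (m : Ideal A) [m.IsMaximal],
          EtCoh.IsStrictlyHenselianLocalRing (Localization.AtPrime m)) := by
  constructor
  · intro H
    have HZ : ProEtW.HasIndZariskiRetractions A := by
      intro B _ _ hff hiz
      exact H B hff (Groth.Agent.Lib.Helper8.Hzl.weaklyEtale_of_isIndEtale A B
        (Groth.Agent.Lib.Helper29.Aux0692.isIndEtale_of_isIndZariski A B hiz))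
    have HE : ProEtW.HasEtaleRetractions A := by
      intro B _ _ hff het
      haveI := het
      exact H B hff inferInstance
    obtain ⟨h1, h2⟩ := (main0678 A).mp HZ
    exact ⟨h1, h2, fun m _ => Groth.Agent.S0675.result A HE m⟩
  · rintro ⟨hA, hED, hsh⟩ B _ _ hff hwe
    haveI := hED
    haveI := hwe
    exact retraction_of_conditions A B hA hsh hff

end Groth.Agent.Lib.Helper29.Main0677
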