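import Mathlib
import Groth.Prelude.Def_PBC
import Groth.Prelude.Def_ProEtW
import Groth.Prelude.Def_EtBase
import Groth.Agent.S0693
import Groth.Agent.S0734
import Groth.Agent.S0733
import Groth.Agent.S0675
import Groth.Agent.Lib.Helper25.SchFinH0
import Groth.Agent.Lib.Helper29.Aux0692
import Groth.Agent.Lib.Helper29.IndZarId
import Groth.Agent.Lib.Helper29.Main0694

/-!
# S0692: the w-local ind-étale square (helper29)
-/

set_option autoImplicit false
set_option linter.style.haveILetI false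
set_option linter.unusedSectionVars false
set_option maxHeartbeats 1600000

universe u

open Topology TensorProduct

namespace Groth.Agent.Lib.Helper29.Main0692

open Groth.Agent.Lib.Helper29.Main0705 Groth.Agent.Lib.Helper29.Main0737
  Groth.Agent.Lib.Helper29.Aux0692 Groth.Agent.Lib.Helper29.IndZarId
  Groth.Agent.Lib.Helper29.WLocLoc

/-- A variant of `main0737` where algebraicity of residue field extensions is replaced by its only
consequence used: primes over maximal ideals are maximal. -/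
theorem main0737' (A B : Type u) [CommRing A]
    [CommRing B] [Algebra A B] (hA : ProEtW.IsWLocal (PrimeSpectrum A)) (I : Ideal A)
    (hI0 : PrimeSpectrum.zeroLocus (R := A) I = ProEtW.closedPoints (PrimeSpectrum A))
    (hmaxq : ∀ (q : Ideal B) [q.IsPrime], (q.comap (algebraMap A B)).IsMaximal → q.IsMaximal) :
    PrimeSpectrum.zeroLocus (R := B) (I.map (algebraMap A B)) ⊆
      ProEtW.closedPoints (PrimeSpectrum B) ∧
    ∃ (C : Type u) (_ : CommRing C) (_ : Algebra B C) (_ : Algebra A C)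
      (_ : IsScalarTower A B C),
      EtPBC.IsIndZariski B C ∧
      Function.Bijective (Ideal.quotientMap ((I.map (algebraMap A B)).map (algebraMap B C))
        (algebraMap B C) Ideal.le_comap_map) ∧
      ProEtW.IsWLocal (PrimeSpectrum C) ∧
      ProEtW.IsWLocalMap (PrimeSpectrum.comap (algebraMap A C)) ∧
      ProEtW.closedPoints (PrimeSpectrum C) =
        PrimeSpectrum.comap (algebraMap A C) ⁻¹' ProEtW.closedPoints (PrimeSpectrum A) := by
  have h1 : PrimeSpectrum.zeroLocus (R := B) (I.map (algebraMap A B)) ⊆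
      ProEtW.closedPoints (PrimeSpectrum B) := by
    intro y hy
    have hx : PrimeSpectrum.comap (algebraMap A B) y ∈ PrimeSpectrum.zeroLocus (I : Set A) := by
      rw [PrimeSpectrum.mem_zeroLocus] at hy ⊢
      intro i hi
      exact hy (Ideal.mem_map_of_mem _ hi)
    rw [hI0] at hx
    have hmax : (y.asIdeal.comap (algebraMap A B)).IsMaximal :=
      (PrimeSpectrum.isClosed_singleton_iff_isMaximal _).mp hx
    haveI := y.isPrime
    exact (PrimeSpectrum.isClosed_singleton_iff_isMaximal _).mpr (hmaxq y.asIdeal hmax)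
  refine ⟨h1, ?_⟩
  have hprof : ProEtW.IsProfinite
      (PrimeSpectrum.zeroLocus (R := B) (I.map (algebraMap A B))) :=
    profinite_zeroLocus (I.map (algebraMap A B)) h1
  obtain ⟨C, iC, aC, hind, hwl, hcp, hbij⟩ := main0705 B (I.map (algebraMap A B)) hprof
  letI algAC : Algebra A C := ((algebraMap B C).comp (algebraMap A B)).toAlgebra
  haveI hst : IsScalarTower A B C := IsScalarTower.of_algebraMap_eq (fun _ => rfl)
  have hfwd : ∀ z : PrimeSpectrum C,
      z ∈ PrimeSpectrum.zeroLocus (((I.map (algebraMap A B)).map (algebraMap B C) : Ideal C) :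
        Set C) → PrimeSpectrum.comap (algebraMap A C) z ∈ PrimeSpectrum.zeroLocus (I : Set A) := by
    intro z hz
    rw [PrimeSpectrum.mem_zeroLocus] at hz ⊢
    intro i hi
    exact hz (Ideal.mem_map_of_mem _ (Ideal.mem_map_of_mem _ hi))
  refine ⟨C, iC, aC, algAC, hst, hind, hbij, hwl, ⟨isSpectralMap_comap _, fun z hz => ?_⟩, ?_⟩
  · have hz' : z ∈ ProEtW.closedPoints (PrimeSpectrum C) := hz
    rw [hcp] at hz'
    have h2 := hfwd z hz'
    rw [hI0] at h2
    exact h2
  · rw [hcp, ← hI0]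
    ext z
    constructor
    · intro hz
      exact hfwd z hz
    · intro hz
      have hz' : PrimeSpectrum.comap (algebraMap A C) z ∈
          PrimeSpectrum.zeroLocus (I : Set A) := hz
      rw [PrimeSpectrum.mem_zeroLocus] at hz' ⊢
      rw [SetLike.coe_subset_coe, Ideal.map_le_iff_le_comap, Ideal.map_le_iff_le_comap]
      intro i hi
      exact hz' hi

lemma zeroLocus_vanishingIdeal_closedPoints {R : Type u} [CommRing R]
    (hR : ProEtW.IsWLocal (PrimeSpectrum R)) :
    PrimeSpectrum.zeroLocus (R := R)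
      (PrimeSpectrum.vanishingIdeal (ProEtW.closedPoints (PrimeSpectrum R))) =
      ProEtW.closedPoints (PrimeSpectrum R) := by
  rw [PrimeSpectrum.zeroLocus_vanishingIdeal_eq_closure]
  exact hR.2.1.closure_eq

lemma vanishingIdeal_le_of_mem {R : Type u} [CommRing R]
    (hR : ProEtW.IsWLocal (PrimeSpectrum R)) (x : PrimeSpectrum R)
    (hx : x ∈ ProEtW.closedPoints (PrimeSpectrum R)) :
    PrimeSpectrum.vanishingIdeal (ProEtW.closedPoints (PrimeSpectrum R)) ≤ x.asIdeal := by
  have h1 : x ∈ PrimeSpectrum.zeroLocus (R := R)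
      (PrimeSpectrum.vanishingIdeal (ProEtW.closedPoints (PrimeSpectrum R))) := by
    rw [zeroLocus_vanishingIdeal_closedPoints hR]
    exact hx
  exact (PrimeSpectrum.mem_zeroLocus _ _).mp h1

theorem exists_C (A : Type u) [CommRing A] :
    ∃ (C : Type u) (_ : CommRing C) (_ : Algebra A C),
      Module.FaithfullyFlat A C ∧ EtPBC.IsIndEtale A C ∧ ProEtW.IsWLocal (PrimeSpectrum C) ∧
      (∀ p : PrimeSpectrum A, ∃ y : PrimeSpectrum C,
        y ∈ ProEtW.closedPoints (PrimeSpectrum C) ∧ PrimeSpectrum.comap (algebraMap A C) y = p) ∧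
      ∀ (m : Ideal C) [m.IsMaximal],
        EtCoh.IsStrictlyHenselianLocalRing (Localization.AtPrime m) := by
  obtain ⟨A₁, iA₁, aA₁, hff₁, hiz₁, hwl₁, hbij₁⟩ :=
    Groth.Agent.Lib.Helper29.Main0694.main0694 A
  obtain ⟨C₁, iC₁, aC₁, hffC₁, hieC₁, hretr⟩ := Groth.Agent.S0693.result A₁
  obtain ⟨hcl₁, C, iC, aC₁C, aA₁C, tow₁, hizC, hbijC, hwlC, hmapC, hcpC⟩ :=
    main0737' A₁ C₁ hwl₁ _ (zeroLocus_vanishingIdeal_closedPoints hwl₁)
      (fun q _ hq => isMaximal_of_isIndEtale A₁ C₁ hieC₁ q hq)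
  letI aAC₁ : Algebra A C₁ := ((algebraMap A₁ C₁).comp (algebraMap A A₁)).toAlgebra
  haveI tAA₁C₁ : IsScalarTower A A₁ C₁ := IsScalarTower.of_algebraMap_eq (fun _ => rfl)
  letI aAC : Algebra A C := ((algebraMap A₁ C).comp (algebraMap A A₁)).toAlgebra
  haveI tAA₁C : IsScalarTower A A₁ C := IsScalarTower.of_algebraMap_eq (fun _ => rfl)
  have htow : ∀ a : A, algebraMap A C a = algebraMap C₁ C (algebraMap A C₁ a) := by
    intro a
    change algebraMap A₁ C (algebraMap A A₁ a) =
      algebraMap C₁ C (algebraMap A₁ C₁ (algebraMap A A₁ a))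
    rw [← IsScalarTower.algebraMap_apply A₁ C₁ C]
  haveI tAC₁C : IsScalarTower A C₁ C := IsScalarTower.of_algebraMap_eq htow
  have hsurj : ∀ p : PrimeSpectrum A, ∃ y : PrimeSpectrum C,
      y ∈ ProEtW.closedPoints (PrimeSpectrum C) ∧
        PrimeSpectrum.comap (algebraMap A C) y = p := by
    intro p
    obtain ⟨x, hx, hxp⟩ := hbij₁.surjOn (Set.mem_univ p)
    haveI := hffC₁
    obtain ⟨y₁, hy₁⟩ := PrimeSpectrum.comap_surjective_of_faithfullyFlat (A := A₁) (B := C₁) x
    have hxI := vanishingIdeal_le_of_mem hwl₁ x hx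
    have hy₁J : (PrimeSpectrum.vanishingIdeal
        (ProEtW.closedPoints (PrimeSpectrum A₁))).map (algebraMap A₁ C₁) ≤ y₁.asIdeal := by
      rw [Ideal.map_le_iff_le_comap]
      intro i hi
      have h2 : i ∈ (PrimeSpectrum.comap (algebraMap A₁ C₁) y₁).asIdeal := by
        rw [hy₁]
        exact hxI hi
      exact h2
    obtain ⟨y, hy⟩ := exists_comap_eq_of_bijective_quotientMap _ hbijC y₁ hy₁J
    have hyA₁ : PrimeSpectrum.comap (algebraMap A₁ C) y = x := by
      rw [← hy₁, ← hy]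
      apply PrimeSpectrum.ext
      ext a
      change algebraMap A₁ C a ∈ y.asIdeal ↔ algebraMap C₁ C (algebraMap A₁ C₁ a) ∈ y.asIdeal
      rw [← IsScalarTower.algebraMap_apply A₁ C₁ C]
    refine ⟨y, ?_, ?_⟩
    · rw [hcpC]
      change PrimeSpectrum.comap (algebraMap A₁ C) y ∈ ProEtW.closedPoints (PrimeSpectrum A₁)
      rw [hyA₁]
      exact hx
    · rw [← hxp, ← hyA₁]
      apply PrimeSpectrum.ext
      ext a
      change algebraMap A C a ∈ y.asIdeal ↔ algebraMap A₁ C (algebraMap A A₁ a) ∈ y.asIdeal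
      rfl
  refine ⟨C, iC, aAC, ?_, ?_, hwlC, hsurj, ?_⟩
  · haveI := hff₁
    haveI := hffC₁
    haveI : Module.Flat C₁ C := flat_of_isIndZariski C₁ C hizC
    haveI : Module.Flat A C₁ := Module.Flat.trans A A₁ C₁
    haveI : Module.Flat A C := Module.Flat.trans A C₁ C
    exact Module.FaithfullyFlat.of_comap_surjective (fun p => by
      obtain ⟨y, -, hy⟩ := hsurj p
      exact ⟨y, hy⟩)
  · have hie1 : EtPBC.IsIndEtale A A₁ := isIndEtale_of_isIndZariski A A₁ hiz₁
    have hie2 : EtPBC.IsIndEtale A C₁ := Groth.Agent.S0734.result A A₁ C₁ hie1 hieC₁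
    have hie3 : EtPBC.IsIndEtale C₁ C := isIndEtale_of_isIndZariski C₁ C hizC
    exact Groth.Agent.S0734.result A C₁ C hie2 hie3
  · intro m hm
    have hyc : (⟨m, hm.isPrime⟩ : PrimeSpectrum C) ∈ ProEtW.closedPoints (PrimeSpectrum C) :=
      (PrimeSpectrum.isClosed_singleton_iff_isMaximal _).mpr hm
    have hyA₁ : PrimeSpectrum.comap (algebraMap A₁ C) (⟨m, hm.isPrime⟩ : PrimeSpectrum C) ∈
        ProEtW.closedPoints (PrimeSpectrum A₁) := by
      rw [hcpC] at hyc
      exact hyc
    have hy₁z : PrimeSpectrum.comap (algebraMap C₁ C) (⟨m, hm.isPrime⟩ : PrimeSpectrum C) ∈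
        PrimeSpectrum.zeroLocus (R := C₁) ((PrimeSpectrum.vanishingIdeal
          (ProEtW.closedPoints (PrimeSpectrum A₁))).map (algebraMap A₁ C₁)) := by
      rw [PrimeSpectrum.mem_zeroLocus, SetLike.coe_subset_coe, Ideal.map_le_iff_le_comap]
      intro i hi
      have h2 := vanishingIdeal_le_of_mem hwl₁ _ hyA₁ hi
      change algebraMap C₁ C (algebraMap A₁ C₁ i) ∈ m
      rw [← IsScalarTower.algebraMap_apply A₁ C₁ C]
      exact h2
    have hy₁max : (m.comap (algebraMap C₁ C)).IsMaximal :=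
      (PrimeSpectrum.isClosed_singleton_iff_isMaximal _).mp (hcl₁ hy₁z)
    have hSH := Groth.Agent.S0675.result C₁ hretr (m.comap (algebraMap C₁ C))
    have hid := identifies_of_isIndZariski C₁ C hizC ⟨m, hm.isPrime⟩
    exact strictlyHenselian_of_ringEquiv (RingEquiv.ofBijective _ hid) hSH

section

attribute [local instance] Algebra.TensorProduct.rightAlgebra

theorem exists_D (A B C : Type u) [CommRing A] [CommRing B] [CommRing C] [Algebra A B]
    [Algebra A C] (h : ProEtW.AlgebraicResidueExtensions A B) (hflat : Module.Flat A C)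
    (hieC : EtPBC.IsIndEtale A C) (hwlC : ProEtW.IsWLocal (PrimeSpectrum C))
    (hsurjC : ∀ p : PrimeSpectrum A, ∃ y : PrimeSpectrum C,
      y ∈ ProEtW.closedPoints (PrimeSpectrum C) ∧ PrimeSpectrum.comap (algebraMap A C) y = p) :
    ∃ (D : Type u) (_ : CommRing D) (_ : Algebra B D) (_ : Algebra C D) (_ : Algebra A D)
      (_ : IsScalarTower A C D) (_ : IsScalarTower A B D),
      Module.FaithfullyFlat B D ∧ EtPBC.IsIndEtale B D ∧ ProEtW.IsWLocal (PrimeSpectrum D) ∧
      ProEtW.IsWLocalMap (PrimeSpectrum.comap (algebraMap C D)) ∧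
      ProEtW.closedPoints (PrimeSpectrum D) =
        PrimeSpectrum.comap (algebraMap C D) ⁻¹' ProEtW.closedPoints (PrimeSpectrum C) ∧
      PrimeSpectrum.comap (algebraMap B D) '' ProEtW.closedPoints (PrimeSpectrum D) =
        Set.univ := by
  obtain ⟨-, D, iD, aTD, aCD, towCTD, hizD, hbijD, hwlD, hmapD, hcpD⟩ :=
    main0737' C (B ⊗[A] C) hwlC _ (zeroLocus_vanishingIdeal_closedPoints hwlC)
      (fun Q _ hQ => isMaximal_tensor A B C h Q hQ)
  letI aBD : Algebra B D :=
    ((algebraMap (B ⊗[A] C) D).comp (algebraMap B (B ⊗[A] C))).toAlgebra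
  haveI tBTD : IsScalarTower B (B ⊗[A] C) D := IsScalarTower.of_algebraMap_eq (fun _ => rfl)
  letI aAD : Algebra A D := ((algebraMap C D).comp (algebraMap A C)).toAlgebra
  haveI tACD : IsScalarTower A C D := IsScalarTower.of_algebraMap_eq (fun _ => rfl)
  have htowABD : ∀ a : A, algebraMap A D a = algebraMap B D (algebraMap A B a) := by
    intro a
    change algebraMap C D (algebraMap A C a) =
      algebraMap (B ⊗[A] C) D (algebraMap B (B ⊗[A] C) (algebraMap A B a))
    rw [IsScalarTower.algebraMap_apply C (B ⊗[A] C) D,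
      ← IsScalarTower.algebraMap_apply A C (B ⊗[A] C),
      ← IsScalarTower.algebraMap_apply A B (B ⊗[A] C)]
  haveI tABD : IsScalarTower A B D := IsScalarTower.of_algebraMap_eq htowABD
  have hsurj : ∀ q : PrimeSpectrum B, ∃ z : PrimeSpectrum D,
      z ∈ ProEtW.closedPoints (PrimeSpectrum D) ∧
        PrimeSpectrum.comap (algebraMap B D) z = q := by
    intro q
    obtain ⟨y, hyc, hy⟩ := hsurjC (PrimeSpectrum.comap (algebraMap A B) q)
    obtain ⟨r, hr1, hr2⟩ := Groth.Agent.Lib.Helper25.SchFinH0.exists_prime_tensor q y hy.symm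
    have hrC : PrimeSpectrum.comap (algebraMap C (B ⊗[A] C)) r = y := hr2
    have hrB : PrimeSpectrum.comap (algebraMap B (B ⊗[A] C)) r = q := hr1
    have hyI := vanishingIdeal_le_of_mem hwlC y hyc
    have hrJ : (PrimeSpectrum.vanishingIdeal
        (ProEtW.closedPoints (PrimeSpectrum C))).map (algebraMap C (B ⊗[A] C)) ≤ r.asIdeal := by
      rw [Ideal.map_le_iff_le_comap]
      intro i hi
      have h2 : i ∈ (PrimeSpectrum.comap (algebraMap C (B ⊗[A] C)) r).asIdeal := by
        rw [hrC]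
        exact hyI hi
      exact h2
    obtain ⟨z, hz⟩ := exists_comap_eq_of_bijective_quotientMap _ hbijD r hrJ
    have hzC : PrimeSpectrum.comap (algebraMap C D) z = y := by
      rw [← hrC, ← hz]
      apply PrimeSpectrum.ext
      ext c
      change algebraMap C D c ∈ z.asIdeal ↔
        algebraMap (B ⊗[A] C) D (algebraMap C (B ⊗[A] C) c) ∈ z.asIdeal
      rw [← IsScalarTower.algebraMap_apply C (B ⊗[A] C) D]
    refine ⟨z, ?_, ?_⟩
    · rw [hcpD]
      change PrimeSpectrum.comap (algebraMap C D) z ∈ ProEtW.closedPoints (PrimeSpectrum C)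
      rw [hzC]
      exact hyc
    · rw [← hrB, ← hz]
      apply PrimeSpectrum.ext
      ext b
      change algebraMap B D b ∈ z.asIdeal ↔
        algebraMap (B ⊗[A] C) D (algebraMap B (B ⊗[A] C) b) ∈ z.asIdeal
      rfl
  refine ⟨D, iD, aBD, aCD, aAD, tACD, tABD, ?_, ?_, hwlD, hmapD, hcpD, ?_⟩
  · haveI := hflat
    haveI : Module.Flat B (B ⊗[A] C) := inferInstance
    haveI : Module.Flat (B ⊗[A] C) D := flat_of_isIndZariski (B ⊗[A] C) D hizD
    haveI : Module.Flat B D := Module.Flat.trans B (B ⊗[A] C) D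
    exact Module.FaithfullyFlat.of_comap_surjective (fun q => by
      obtain ⟨z, -, hz⟩ := hsurj q
      exact ⟨z, hz⟩)
  · have hie1 : EtPBC.IsIndEtale B (B ⊗[A] C) := Groth.Agent.S0733.result A C B hieC
    have hie2 : EtPBC.IsIndEtale (B ⊗[A] C) D := isIndEtale_of_isIndZariski (B ⊗[A] C) D hizD
    exact Groth.Agent.S0734.result B (B ⊗[A] C) D hie1 hie2
  · exact Set.eq_univ_of_forall (fun q => by
      obtain ⟨z, hz1, hz2⟩ := hsurj q
      exact ⟨z, hz1, hz2⟩)

end

theorem main0692 (A B : Type u) [CommRing A] [CommRing B] [Algebra A B]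
    (h : ProEtW.AlgebraicResidueExtensions A B) :
    ∃ (C D : Type u) (_ : CommRing C) (_ : CommRing D) (_ : Algebra A C) (_ : Algebra B D)
      (_ : Algebra C D) (_ : Algebra A D) (_ : IsScalarTower A C D) (_ : IsScalarTower A B D),
      Module.FaithfullyFlat A C ∧ EtPBC.IsIndEtale A C ∧ Module.FaithfullyFlat B D ∧
      EtPBC.IsIndEtale B D ∧ ProEtW.IsWLocal (PrimeSpectrum C) ∧ ProEtW.IsWLocal (PrimeSpectrum D) ∧
      ProEtW.IsWLocalMap (PrimeSpectrum.comap (algebraMap C D)) ∧
      ProEtW.closedPoints (PrimeSpectrum D) =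
        PrimeSpectrum.comap (algebraMap C D) ⁻¹' ProEtW.closedPoints (PrimeSpectrum C) ∧
      PrimeSpectrum.comap (algebraMap A C) '' ProEtW.closedPoints (PrimeSpectrum C) = Set.univ ∧
      PrimeSpectrum.comap (algebraMap B D) '' ProEtW.closedPoints (PrimeSpectrum D) = Set.univ ∧
      ∀ (m : Ideal C) [m.IsMaximal], EtCoh.IsStrictlyHenselianLocalRing (Localization.AtPrime m) := by
  obtain ⟨C, iC, aC, hffC, hieC, hwlC, hsurjC, hshC⟩ := exists_C A
  haveI := hffC
  obtain ⟨D, iD, aBD, aCD, aAD, tACD, tABD, hffD, hieD, hwlD, hmapD, hcpD, hsurjD⟩ :=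
    exists_D A B C h inferInstance hieC hwlC hsurjC
  refine ⟨C, D, iC, iD, aC, aBD, aCD, aAD, tACD, tABD, hffC, hieC, hffD, hieD, hwlC, hwlD,
    hmapD, hcpD, ?_, hsurjD, hshC⟩
  exact Set.eq_univ_of_forall (fun p => by
    obtain ⟨y, hy1, hy2⟩ := hsurjC p
    exact ⟨y, hy1, hy2⟩)

end Groth.Agent.Lib.Helper29.Main0692
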