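import Mathlib
import Groth.Prelude.Def_PBC
import Groth.Prelude.Def_ProEtW
import Groth.Prelude.Def_EtBase
import Groth.Agent.S0734
import Groth.Agent.Lib.Helper29.Aux0692
import Groth.Agent.Lib.Helper29.Main0692
import Groth.Agent.Lib.Helper29.Main0696
import Groth.Agent.Lib.Helper29.Main0678
import Groth.Agent.Lib.Helper29.Main0677

/-!
# Every ring has a faithfully flat ind-étale w-contractible cover (helper29)
-/

set_option autoImplicit false
set_option linter.style.haveILetI false
set_option linter.unusedSectionVars false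
set_option maxHeartbeats 1600000

universe u

open Topology CategoryTheory

namespace Groth.Agent.Lib.Helper29.WCover

open Groth.Agent.Lib.Helper29.LCSpec Groth.Agent.Lib.Helper29.WLocAlg
  Groth.Agent.Lib.Helper29.WLocSpec Groth.Agent.Lib.Helper29.WLocLoc
  Groth.Agent.Lib.Helper29.ThetaHom Groth.Agent.Lib.Helper29.WLocalIso
  Groth.Agent.Lib.Helper29.Main0694 Groth.Agent.Lib.Helper29.Main0700
  Groth.Agent.Lib.Helper29.IndZarId Groth.Agent.Lib.Helper29.Main0678

/-- In a w-local spectrum every point lies below the closed point of its component. -/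
lemma le_cp (C : Type u) [CommRing C] (hwl : ProEtW.IsWLocal (PrimeSpectrum C))
    (x : PrimeSpectrum C) : x ≤ cp C hwl (_root_.ConnectedComponents.mk x) := by
  obtain ⟨x₀, ⟨hx₀c, hx₀s⟩, -⟩ := hwl.2.2 x
  rw [Groth.Agent.Lib.Helper29.Main0696.mk_eq_of_specializes hx₀s, cp_mk C hwl x₀ hx₀c]
  exact (PrimeSpectrum.le_iff_specializes _ _).mpr hx₀s

/-- A w-local ring with strictly henselian local rings at maximal ideals has a faithfully flat
ind-Zariski w-contractible cover. -/
theorem exists_wContractible_of_wLocal (C : Type u) [CommRing C]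
    (hwlC : ProEtW.IsWLocal (PrimeSpectrum C))
    (hshC : ∀ (m : Ideal C) [m.IsMaximal],
      EtCoh.IsStrictlyHenselianLocalRing (Localization.AtPrime m)) :
    ∃ (D : Type u) (_ : CommRing D) (_ : Algebra C D),
      Module.FaithfullyFlat C D ∧ EtPBC.IsIndZariski C D ∧ EtPBC.IsWContractible D := by
  haveI : ExtremallyDisconnected (StoneCech (Dsc (TB C))) :=
    StoneCech.projective.extremallyDisconnected
  have hg₀ : Continuous (Dsc.val : Dsc (TB C) → TB C) := continuous_of_discreteTopology
  have hgc : Continuous (stoneCechExtend hg₀) := continuous_stoneCechExtend hg₀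
  have hgs : Function.Surjective (stoneCechExtend hg₀) :=
    fun t => ⟨stoneCechUnit ⟨t⟩, stoneCechExtend_stoneCechUnit hg₀ ⟨t⟩⟩
  obtain ⟨c, hcdef⟩ : ∃ c : StoneCech (Dsc (TB C)) → PrimeSpectrum C,
      c = fun t => cp C hwlC (stoneCechExtend hg₀ t) := ⟨_, rfl⟩
  have hct : ∀ t, c t = cp C hwlC (stoneCechExtend hg₀ t) := fun t => by rw [hcdef]
  have hc : ∀ a : C, IsClopen (c ⁻¹' (PrimeSpectrum.basicOpen a : Set (PrimeSpectrum C))) := by
    intro a
    have h1 := (cB_clopen C C hwlC a).preimage hgc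
    have h2 : c ⁻¹' (PrimeSpectrum.basicOpen a : Set (PrimeSpectrum C)) =
        stoneCechExtend hg₀ ⁻¹'
          (cB C C hwlC ⁻¹' (PrimeSpectrum.basicOpen a : Set (PrimeSpectrum C))) := by
      rw [hcdef]
      ext t
      rfl
    rw [h2]
    exact h1
  have hizD : EtPBC.IsIndZariski C (Bc C (StoneCech (Dsc (TB C))) c) := isIndZariski_Bc C _ c
  have hidD : EtPBC.IdentifiesLocalRings C (Bc C (StoneCech (Dsc (TB C))) c) :=
    identifies_Bc c hc
  have hwlD : ProEtW.IsWLocal (PrimeSpectrum (Bc C (StoneCech (Dsc (TB C))) c)) :=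
    isWLocal c hc
  haveI hflatD : Module.Flat C (Bc C (StoneCech (Dsc (TB C))) c) := flat_of_identifies hidD
  have hffD : Module.FaithfullyFlat C (Bc C (StoneCech (Dsc (TB C))) c) := by
    apply Module.FaithfullyFlat.of_comap_surjective
    intro x
    obtain ⟨t, ht⟩ := hgs (_root_.ConnectedComponents.mk x)
    have hle : x ≤ c t := by
      rw [hct, ht]
      exact le_cp C hwlC x
    obtain ⟨y, hy⟩ := exists_psic_eq c hc (x, t) hle
    refine ⟨y, ?_⟩
    rw [comap_eq c y, hy]
  obtain ⟨e, -⟩ := Groth.Agent.Lib.Helper29.Main0696.exists_pi0Homeo c hc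
  haveI hEDD : ExtremallyDisconnected (TB (Bc C (StoneCech (Dsc (TB C))) c)) :=
    extremallyDisconnected_of_homeo e.symm
  have hshD : ∀ (m : Ideal (Bc C (StoneCech (Dsc (TB C))) c)) [m.IsMaximal],
      EtCoh.IsStrictlyHenselianLocalRing (Localization.AtPrime m) := by
    intro m hm
    have hy : IsClosed ({(⟨m, hm.isPrime⟩ : PrimeSpectrum (Bc C (StoneCech (Dsc (TB C))) c))} :
        Set (PrimeSpectrum (Bc C (StoneCech (Dsc (TB C))) c))) :=
      (PrimeSpectrum.isClosed_singleton_iff_isMaximal _).mpr hm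
    have h1 := (isClosed_singleton_iff c hc _).mp hy
    have hq : IsClosed ({PrimeSpectrum.comap (algebraMap C (Bc C (StoneCech (Dsc (TB C))) c))
        (⟨m, hm.isPrime⟩ : PrimeSpectrum (Bc C (StoneCech (Dsc (TB C))) c))} :
        Set (PrimeSpectrum C)) := by
      rw [comap_eq c _, h1, hct]
      exact cp_closed C hwlC _
    haveI hqmax : (m.comap (algebraMap C (Bc C (StoneCech (Dsc (TB C))) c))).IsMaximal :=
      (PrimeSpectrum.isClosed_singleton_iff_isMaximal _).mp hq
    have hbij := hidD ⟨m, hm.isPrime⟩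
    exact Groth.Agent.Lib.Helper29.Aux0692.strictlyHenselian_of_ringEquiv
      (RingEquiv.ofBijective _ hbij)
      (hshC (m.comap (algebraMap C (Bc C (StoneCech (Dsc (TB C))) c))))
  have hwcD : EtPBC.IsWContractible (Bc C (StoneCech (Dsc (TB C))) c) :=
    (Groth.Agent.Lib.Helper29.Main0677.main0677 _).mpr ⟨hwlD, hEDD, hshD⟩
  exact ⟨_, inferInstance, inferInstance, hffD, hizD, hwcD⟩

/-- Every ring has a faithfully flat ind-étale w-contractible cover. -/
theorem exists_wContractible (A : Type u) [CommRing A] :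
    ∃ (D : Type u) (_ : CommRing D) (_ : Algebra A D),
      Module.FaithfullyFlat A D ∧ EtPBC.IsIndEtale A D ∧ EtPBC.IsWContractible D := by
  obtain ⟨C, iC, aC, hffC, hieC, hwlC, -, hshC⟩ :=
    Groth.Agent.Lib.Helper29.Main0692.exists_C A
  obtain ⟨D, iD, aCD, hffD, hizD, hwcD⟩ := exists_wContractible_of_wLocal C hwlC hshC
  letI aAD : Algebra A D := ((algebraMap C D).comp (algebraMap A C)).toAlgebra
  haveI : IsScalarTower A C D := IsScalarTower.of_algebraMap_eq (fun _ => rfl)
  refine ⟨D, iD, aAD, ?_, ?_, hwcD⟩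
  · exact Module.FaithfullyFlat.trans A C D
  · exact Groth.Agent.S0734.result A C D hieC
      (Groth.Agent.Lib.Helper29.Aux0692.isIndEtale_of_isIndZariski C D hizD)

end Groth.Agent.Lib.Helper29.WCover
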