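import Mathlib
import Groth.Prelude.Def_ProEtS
import Groth.Prelude.Def_PBC
import Groth.Agent.Lib.Helper8.Hzl.IndEtaleCat
import Groth.Agent.Lib.Helper29.ProEtWC
import Groth.Agent.Lib.Helper29.WContrLoc
import Groth.Agent.Lib.Helper29.WCover

/-!
# S7286: every object of the pro-étale site is covered by w-contractible affines (helper29)
-/

set_option autoImplicit false
set_option linter.style.haveILetI false
set_option linter.unusedSectionVars false
set_option maxHeartbeats 1600000

universe u

open CategoryTheory CategoryTheory.Limits AlgebraicGeometry Opposite TensorProduct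

namespace Groth.Agent.Lib.Helper29.Main7286

open Groth.Agent.Lib.Helper5.ProEtQcqs Groth.Agent.Lib.Helper29.ProEtClopen
  Groth.Agent.Lib.Helper29.ProEtWC

/-- w-contractibility is invariant under ring isomorphisms. -/
theorem isWContractible_of_ringEquiv {D D' : Type u} [CommRing D] [CommRing D'] (e : D ≃+* D')
    (hD : EtPBC.IsWContractible D) : EtPBC.IsWContractible D' := by
  intro B' _ _ hff' hwe'
  haveI := hff'
  haveI := hwe'
  letI algDD' : Algebra D D' := e.toRingHom.toAlgebra
  letI algDB : Algebra D B' := ((algebraMap D' B').comp e.toRingHom).toAlgebra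
  haveI tow : IsScalarTower D D' B' := IsScalarTower.of_algebraMap_eq (fun _ => rfl)
  have hbij : Function.Bijective (algebraMap D D') := e.bijective
  haveI hloc : IsLocalization (⊥ : Submonoid D) D' :=
    IsLocalization.of_le_isUnit_of_bijective (by
      rintro _ ⟨s, hs, rfl⟩
      have hs1 : s = 1 := Submonoid.mem_bot.mp hs
      rw [hs1, map_one]
      exact isUnit_one) hbij
  haveI we1 : Algebra.WeaklyEtale D D' :=
    Groth.Agent.Lib.Helper29.WContrLoc.weaklyEtale_of_isLocalization (⊥ : Submonoid D)
  haveI ff1 : Module.FaithfullyFlat D D' :=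
    Module.FaithfullyFlat.of_linearEquiv D D
      (AlgEquiv.ofBijective (Algebra.ofId D D') hbij).symm.toLinearEquiv
  haveI ff2 : Module.FaithfullyFlat D B' := Module.FaithfullyFlat.trans D D' B'
  haveI we2 : Algebra.WeaklyEtale D B' := Algebra.WeaklyEtale.trans D D' B'
  obtain ⟨r⟩ := hD B' ff2 we2
  refine ⟨{ toRingHom := e.toRingHom.comp r.toRingHom, commutes' := fun d' => ?_ }⟩
  obtain ⟨d, rfl⟩ := e.surjective d'
  have h1 : algebraMap D' B' (e d) = algebraMap D B' d := rfl
  show e (r (algebraMap D' B' (e d))) = e d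
  rw [h1, r.commutes]
  rfl

set_option backward.isDefEq.respectTransparency.types false in
/-- The affine open cover of `U` generates a covering sieve of the pro-étale site. -/
lemma affineOpenCover_generate_mem {X : Scheme.{u}} (U : X.ProEt) :
    Sieve.generate (Presieve.ofArrows
      (fun i : U.left.affineOpenCover.I₀ =>
        Scheme.ProEt.mk (U.left.affineOpenCover.f i ≫ U.hom))
      (fun i => (MorphismProperty.Over.homMk (U.left.affineOpenCover.f i) rfl trivial :
        Scheme.ProEt.mk (U.left.affineOpenCover.f i ≫ U.hom) ⟶ U))) ∈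
      Scheme.ProEt.topology X U := by
  haveI : ∀ i, IsOpenImmersion (U.left.affineOpenCover.f i) :=
    fun i => U.left.affineOpenCover.map_prop i
  let 𝒞 : Scheme.Cover (Scheme.precoverage weMP.{u}) U.left :=
    Scheme.Cover.mkOfCovers U.left.affineOpenCover.I₀
      (fun i => Spec (U.left.affineOpenCover.X i)) (fun i => U.left.affineOpenCover.f i)
      (fun x => ⟨U.left.affineOpenCover.idx x, U.left.affineOpenCover.covers x⟩)
      (fun i => (inferInstance : WeaklyEtale (U.left.affineOpenCover.f i)))
  apply Precoverage.generate_mem_toGrothendieck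
  change (Presieve.ofArrows
      (fun i : U.left.affineOpenCover.I₀ =>
        Scheme.ProEt.mk (U.left.affineOpenCover.f i ≫ U.hom))
      (fun i => (MorphismProperty.Over.homMk (U.left.affineOpenCover.f i) rfl trivial :
        Scheme.ProEt.mk (U.left.affineOpenCover.f i ≫ U.hom) ⟶ U))).map (toSch X) ∈
      Scheme.proetalePrecoverage U.left
  rw [Presieve.map_ofArrows]
  have hqc : QuasiCompactCover 𝒞.toPreZeroHypercover :=
    QuasiCompactCover.of_isOpenMap
      (fun i => (U.left.affineOpenCover.f i).isOpenEmbedding.isOpenMap)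
  exact ⟨Scheme.presieve₀_mem_qcPrecoverage_iff.2 hqc, 𝒞.mem₀⟩

set_option backward.isDefEq.respectTransparency.types false in
theorem main7286 {X : Scheme.{u}} (U : X.ProEt) :
    ∃ (ι : Type u) (V : ι → X.ProEt) (g : ∀ i, V i ⟶ U),
      Sieve.generate (Presieve.ofArrows V g) ∈ Scheme.ProEt.topology X U ∧
        ∀ i, IsAffine (V i).left ∧ EtPBC.IsWContractible ↥(Γ((V i).left, ⊤)) := by
  haveI : ∀ i, IsOpenImmersion (U.left.affineOpenCover.f i) :=
    fun i => U.left.affineOpenCover.map_prop i
  have H := fun i : U.left.affineOpenCover.I₀ =>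
    Groth.Agent.Lib.Helper29.WCover.exists_wContractible (U.left.affineOpenCover.X i)
  choose D iD aD hff hie hwc using H
  haveI hwe : ∀ i, Algebra.WeaklyEtale (U.left.affineOpenCover.X i) (D i) :=
    fun i => Groth.Agent.Lib.Helper8.Hzl.weaklyEtale_of_isIndEtale _ _ (hie i)
  haveI hq : ∀ i, WeaklyEtale (Spec.map (CommRingCat.ofHom
      (algebraMap (U.left.affineOpenCover.X i) (D i)))) :=
    fun i => weaklyEtale_SpecMap (U.left.affineOpenCover.X i) (D i)
  have hqsurj : ∀ i, Function.Surjective (Spec.map (CommRingCat.ofHom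
      (algebraMap (U.left.affineOpenCover.X i) (D i)))) := by
    intro i x
    haveI := hff i
    obtain ⟨p, hp⟩ := PrimeSpectrum.comap_surjective_of_faithfullyFlat
      (A := U.left.affineOpenCover.X i) (B := D i) x
    exact ⟨p, hp⟩
  haveI hcomp : ∀ i, WeaklyEtale (Spec.map (CommRingCat.ofHom
      (algebraMap (U.left.affineOpenCover.X i) (D i))) ≫
        (Scheme.ProEt.mk (U.left.affineOpenCover.f i ≫ U.hom)).hom) :=
    fun i => MorphismProperty.comp_mem _ _ _ (hq i)
      (Scheme.ProEt.mk (U.left.affineOpenCover.f i ≫ U.hom)).prop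
  refine ⟨U.left.affineOpenCover.I₀,
    fun i => @Scheme.ProEt.mk X _ (Spec.map (CommRingCat.ofHom
      (algebraMap (U.left.affineOpenCover.X i) (D i))) ≫
        (Scheme.ProEt.mk (U.left.affineOpenCover.f i ≫ U.hom)).hom) (hcomp i),
    fun i => (MorphismProperty.Over.homMk (Spec.map (CommRingCat.ofHom
        (algebraMap (U.left.affineOpenCover.X i) (D i)))) rfl trivial :
        @Scheme.ProEt.mk X _ (Spec.map (CommRingCat.ofHom
          (algebraMap (U.left.affineOpenCover.X i) (D i))) ≫
          (Scheme.ProEt.mk (U.left.affineOpenCover.f i ≫ U.hom)).hom) (hcomp i) ⟶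
        Scheme.ProEt.mk (U.left.affineOpenCover.f i ≫ U.hom)) ≫
      (MorphismProperty.Over.homMk (U.left.affineOpenCover.f i) rfl trivial :
        Scheme.ProEt.mk (U.left.affineOpenCover.f i ≫ U.hom) ⟶ U),
    ?_, fun i => ⟨?_, ?_⟩⟩
  · have hS := affineOpenCover_generate_mem U
    apply GrothendieckTopology.transitive _ hS
    intro Y f hf
    obtain ⟨Z, h, k, hk, rfl⟩ := hf
    obtain ⟨i⟩ := hk
    rw [Sieve.pullback_comp]
    apply GrothendieckTopology.pullback_stable
    haveI : IsAffine (Scheme.ProEt.mk (U.left.affineOpenCover.f i ≫ U.hom)).left :=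
      (inferInstance : IsAffine (Spec (U.left.affineOpenCover.X i)))
    have hcov := @generate_singleton_mem X
      (Scheme.ProEt.mk (U.left.affineOpenCover.f i ≫ U.hom)) this
      (CommRingCat.of (D i)) (Spec.map (CommRingCat.ofHom
        (algebraMap (U.left.affineOpenCover.X i) (D i)))) (hq i) (hqsurj i)
    refine GrothendieckTopology.superset_covering _ ?_ hcov
    rw [Sieve.generate_le_iff]
    rintro Z' _ ⟨⟨⟩⟩
    exact ⟨_, 𝟙 _, _, Presieve.ofArrows.mk i, Category.id_comp _⟩
  · exact (inferInstance : IsAffine (Spec (CommRingCat.of (D i))))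
  · show EtPBC.IsWContractible ↥Γ(Spec (CommRingCat.of (D i)), ⊤)
    exact isWContractible_of_ringEquiv
      (Scheme.ΓSpecIso (CommRingCat.of (D i))).commRingCatIsoToRingEquiv.symm (hwc i)

end Groth.Agent.Lib.Helper29.Main7286
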