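import Mathlib
import Groth.Prelude.Def_ArtFun6
import Groth.Prelude.Def_KLin
import Groth.Prelude.Def_ClSub2
import Groth.Prelude.Def_Omega2
import Groth.Prelude.Def_DCoh4
import Groth.Prelude.Def_Coh
import Groth.Agent.Lib.Helper7.TwFun
import Groth.Agent.Lib.Helper23.T2A

/-!
# `Hom_X(I₀, O_X/I₀) ≃ₗ[k] H⁰(Y₀, Hom(I₀/I₀², O_{Y₀}))` (helper29, sub-lemma C2 for helper18)

Chain of `k`-linear bijections: adjunction `ι^* ⊣ ι_*`, right unitor, adjunction
`M ⊗ - ⊣ Hom(M, -)`, and `Hom(O, N) = Γ(N) = H⁰(N)`.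
-/

set_option autoImplicit false
set_option maxHeartbeats 1600000
universe u v₁ v₂ u₁ u₂ w

open CategoryTheory CategoryTheory.Limits AlgebraicGeometry Opposite TopologicalSpace

noncomputable section

namespace Groth.Agent.Lib.Helper29.HomHHC2

section Gen

variable {R : Type w} [Semiring R] {C : Type u₁} [Category.{v₁} C] {D : Type u₂} [Category.{v₂} D]
  [Preadditive C] [Preadditive D] [Linear R C] [Linear R D] {F : C ⥤ D} {G : D ⥤ C} [G.Additive]

/-- The hom-set bijection of an adjunction is linear as soon as the right adjoint respects the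
scalar endomorphisms of the target object. -/
def adjLinearEquiv (adj : F ⊣ G) (A : C) (B : D)
    (hG : ∀ a : R, G.map (a • 𝟙 B) = a • 𝟙 (G.obj B)) : (F.obj A ⟶ B) ≃ₗ[R] (A ⟶ G.obj B) where
  toFun := adj.homEquiv A B
  invFun := (adj.homEquiv A B).symm
  left_inv := (adj.homEquiv A B).left_inv
  right_inv := (adj.homEquiv A B).right_inv
  map_add' φ ψ := by
    rw [Adjunction.homEquiv_unit, Adjunction.homEquiv_unit, Adjunction.homEquiv_unit,
      Functor.map_add, Preadditive.comp_add]
  map_smul' a φ := by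
    have h1 : a • φ = φ ≫ (a • 𝟙 B) := by rw [Linear.comp_smul, Category.comp_id]
    rw [RingHom.id_apply, Adjunction.homEquiv_unit, Adjunction.homEquiv_unit, h1,
      Functor.map_comp, hG, Linear.comp_smul, Category.comp_id, Linear.comp_smul]

end Gen

section H0

open Groth.Agent.Lib.Helper23.T2

variable {Y : Scheme.{u}}

/-- the unit global section of the structure sheaf. -/
def oneSec (Y : Scheme.{u}) : Γm (Coh.structureModule Y) :=
  show Γm (Coh.structureModule Y) from (1 : Coh.Γtop Y)

/-- evaluation of a morphism out of the structure sheaf at the unit section. -/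
def ev (N : Y.Modules) (φ : Coh.structureModule Y ⟶ N) : Γm N := Γmap φ (oneSec Y)

lemma ev_add (N : Y.Modules) (φ ψ : Coh.structureModule Y ⟶ N) :
    ev N (φ + ψ) = ev N φ + ev N ψ := rfl

/-- value of a section at the top open. -/
def secTop (N : Y.Modules) (s : SheafOfModules.sections N) : Γm N := s.val (op ⊤)

lemma secTop_bijective (N : Y.Modules) : Function.Bijective (secTop N) := by
  constructor
  · intro s t h
    apply PresheafOfModules.sections_ext
    intro U
    have hs := PresheafOfModules.sections_property s (homOfLE (le_top : U.unop ≤ ⊤)).op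
    have ht := PresheafOfModules.sections_property t (homOfLE (le_top : U.unop ≤ ⊤)).op
    exact hs.symm.trans ((congrArg _ h).trans ht)
  · intro m
    refine ⟨PresheafOfModules.sectionsMk (M := N.val)
      (fun U => N.val.map (homOfLE (le_top : U.unop ≤ ⊤)).op m) ?_, ?_⟩
    · intro U V f
      rw [← PresheafOfModules.map_comp_apply]
      exact PresheafOfModules.congr_map_apply _ (Subsingleton.elim _ _) _
    · change N.val.map (𝟙 _) m = m
      rw [PresheafOfModules.map_id]
      rfl

lemma ev_bijective (N : Y.Modules) : Function.Bijective (ev N) := by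
  have h : ev N = secTop N ∘ (SheafOfModules.unitHomEquiv N) := rfl
  rw [h]
  exact (secTop_bijective N).comp (SheafOfModules.unitHomEquiv N).bijective

lemma ev_comp_smulModΓ (N : Y.Modules) (φ : Coh.structureModule Y ⟶ N) (r : Coh.Γtop Y) :
    ev N (φ ≫ Formal.smulModΓ N r) = r • ev N φ := by
  change (Coh.smulAb N r).hom.app (op ⊤) (ev N φ) = _
  exact smulAb_app_top N r _

variable (k : Type u) [CommRing k] [Y.Over (Spec (CommRingCat.of k))]

/-- `Hom(O_Y, N) ≃ₗ[k] H⁰(Y, N)`. -/
def homUnitEquivHH (N : Y.Modules) : (Coh.structureModule Y ⟶ N) ≃ₗ[k] Coh.HH Y N 0 where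
  toFun φ := (H0equiv N).symm (ev N φ)
  invFun x := (Equiv.ofBijective (ev N) (ev_bijective N)).symm (H0equiv N x)
  left_inv φ :=
    (congrArg (Equiv.ofBijective (ev N) (ev_bijective N)).symm
      ((H0equiv N).apply_symm_apply (ev N φ))).trans
      ((Equiv.ofBijective (ev N) (ev_bijective N)).symm_apply_apply φ)
  right_inv x :=
    (congrArg (H0equiv N).symm
      ((Equiv.ofBijective (ev N) (ev_bijective N)).apply_symm_apply (H0equiv N x))).trans
      ((H0equiv N).symm_apply_apply x)
  map_add' φ ψ := by rw [ev_add, map_add]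
  map_smul' a φ := by
    have h1 : a • φ = φ ≫ Formal.smulModΓ N (Coh.toGlobal (Y ↘ Spec (CommRingCat.of k)) a) := by
      rw [KLin.comp_smulModΓ]
      rfl
    rw [RingHom.id_apply, h1, ev_comp_smulModΓ, map_smul]
    rfl

end H0

section TL

open Groth.Agent.Lib.Helper3 Groth.Agent.Lib.Helper3.QCSec Groth.Agent.Lib.Helper3.InvGen
  Groth.Agent.Lib.Helper3.InvTensor Groth.Agent.Lib.Helper3.InvMonoidal Groth.Agent.Lib.Helper7.TwFun
open Scheme.Modules

variable {X : Scheme.{u}} (A : Type u) [CommRing A] [X.Over (Spec (CommRingCat.of A))]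
  (F : X.Modules)

lemma tensorBi_obj_map (M : X.Modules) {N N' : X.Modules} (b : N ⟶ N') :
    (DCoh.tensorBi.obj M).map b = tensorMap (𝟙 M) b := by
  show aMap _ = aMap _
  congr 1

/-- tensoring on the left commutes with scalar multiplication (as in helper7's `SheafHomExt`). -/
lemma TL_smulMod (N : X.Modules) (a : A) :
    (DCoh.tensorBi.obj F).map (Formal.smulMod A N a) =
      Formal.smulMod A ((DCoh.tensorBi.obj F).obj N) a := by
  rw [tensorBi_obj_map]
  change tensorMap (𝟙 F) (Formal.smulMod A N a) = Formal.smulMod A (CohB1.tensorMod F N) a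
  apply tensor_hom_ext
  intro U m n
  rw [tensorMap_tm]
  change tm F N U m ((Formal.smulModΓ N _).app U n) =
    (Formal.smulModΓ (CohB1.tensorMod F N) _).app U (tm F N U m n)
  rw [KLin.smulModΓ_app_apply, KLin.smulModΓ_app_apply, tm_smul_right]

variable [DCoh.HasSheafHom F]

/-- the internal Hom commutes with scalar multiplication. -/
lemma sheafHom_smulMod (N : X.Modules) (a : A) :
    (DCoh.sheafHom F).map (Formal.smulMod A N a) =
      Formal.smulMod A ((DCoh.sheafHom F).obj N) a := by
  apply ((DCoh.sheafHomAdj F).homEquiv _ _).symm.injective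
  have h1 : ((DCoh.sheafHomAdj F).homEquiv _ _).symm
      ((DCoh.sheafHom F).map (Formal.smulMod A N a)) =
      (DCoh.sheafHomAdj F).counit.app N ≫ Formal.smulMod A N a := by
    have := (DCoh.sheafHomAdj F).homEquiv_naturality_right_symm (𝟙 ((DCoh.sheafHom F).obj N))
      (Formal.smulMod A N a)
    rw [Category.id_comp] at this
    rw [this, Adjunction.homEquiv_counit, CategoryTheory.Functor.map_id, Category.id_comp]
  have h2 : ((DCoh.sheafHomAdj F).homEquiv _ _).symm
      (Formal.smulMod A ((DCoh.sheafHom F).obj N) a) =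
      (DCoh.sheafHomAdj F).counit.app N ≫ Formal.smulMod A N a := by
    rw [Adjunction.homEquiv_counit, TL_smulMod]
    exact (KLin.comp_smulModΓ _ _).symm
  rw [h1, h2]

lemma sheafHom_map_smul_id (N : X.Modules) (a : A) :
    (DCoh.sheafHom F).map (a • 𝟙 N) = a • 𝟙 ((DCoh.sheafHom F).obj N) := by
  rw [KLin.smul_id, KLin.smul_id, sheafHom_smulMod]

end TL

/-- C2 (for S12274): `Hom_X(I₀, O_X/I₀) ≃ₗ[k] H⁰(Y₀, Hom(I₀/I₀², O_{Y₀}))`, `Y₀ = V(I₀)`. -/
theorem nonempty_linearEquiv_hom_HH
    {k : Type u} [Field k] (X : Scheme.{u}) [X.Over (Spec (CommRingCat.of k))]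
    (I₀ : X.IdealSheafData) [I₀.subscheme.Over (Spec (CommRingCat.of k))]
    (hY : I₀.subscheme ↘ Spec (CommRingCat.of k) = I₀.subschemeι ≫ (X ↘ Spec (CommRingCat.of k)))
    [DCoh.HasSheafHom (Omega.conormal I₀.subschemeι)] :
    Nonempty ((ClSub.idealMod I₀ ⟶ ClSub.quotMod I₀) ≃ₗ[k]
      Coh.HH I₀.subscheme ((DCoh.sheafHom (Omega.conormal I₀.subschemeι)).obj
        (Coh.structureModule I₀.subscheme)) 0) := by
  haveI : I₀.subschemeι.IsOver (Spec (CommRingCat.of k)) := ⟨hY.symm⟩
  haveI : (DCoh.sheafHom (Omega.conormal I₀.subschemeι)).Additive :=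
    (DCoh.sheafHomAdj (Omega.conormal I₀.subschemeι)).right_adjoint_additive
  have hker : I₀.subschemeι.ker = I₀ := Scheme.IdealSheafData.ker_subschemeι I₀
  have E1 : (ClSub.idealMod I₀ ⟶ ClSub.quotMod I₀) ≃ₗ[k]
      (ClSub.idealMod I₀.subschemeι.ker ⟶ ClSub.quotMod I₀) :=
    Linear.homCongr k (eqToIso (by rw [hker])) (Iso.refl _)
  have E2 : (Omega.conormal I₀.subschemeι ⟶ Coh.structureModule I₀.subscheme) ≃ₗ[k]
      (ClSub.idealMod I₀.subschemeι.ker ⟶ ClSub.quotMod I₀) :=
    adjLinearEquiv (R := k) (Scheme.Modules.pullbackPushforwardAdjunction I₀.subschemeι)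
      (ClSub.idealMod I₀.subschemeι.ker) (Coh.structureModule I₀.subscheme)
      (fun a => by rw [Functor.map_smul, CategoryTheory.Functor.map_id])
  have E3 : (Omega.conormal I₀.subschemeι ⟶ Coh.structureModule I₀.subscheme) ≃ₗ[k]
      ((DCoh.tensorBi.obj (Omega.conormal I₀.subschemeι)).obj (Coh.structureModule I₀.subscheme) ⟶
        Coh.structureModule I₀.subscheme) :=
    Linear.homCongr k
      ((SecTwist.unitorR (Omega.conormal I₀.subschemeι) :
        (DCoh.tensorBi.obj (Omega.conormal I₀.subschemeι)).obj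
          (Coh.structureModule I₀.subscheme) ≅ Omega.conormal I₀.subschemeι).symm) (Iso.refl _)
  have E4 : ((DCoh.tensorBi.obj (Omega.conormal I₀.subschemeι)).obj
        (Coh.structureModule I₀.subscheme) ⟶ Coh.structureModule I₀.subscheme) ≃ₗ[k]
      (Coh.structureModule I₀.subscheme ⟶
        (DCoh.sheafHom (Omega.conormal I₀.subschemeι)).obj (Coh.structureModule I₀.subscheme)) :=
    adjLinearEquiv (R := k) (DCoh.sheafHomAdj (Omega.conormal I₀.subschemeι))
      (Coh.structureModule I₀.subscheme) (Coh.structureModule I₀.subscheme)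
      (fun a => sheafHom_map_smul_id k
        (Omega.conormal I₀.subschemeι) (Coh.structureModule I₀.subscheme) a)
  exact ⟨E1.trans (E2.symm.trans (E3.trans (E4.trans
    (homUnitEquivHH k ((DCoh.sheafHom (Omega.conormal I₀.subschemeι)).obj
      (Coh.structureModule I₀.subscheme))))))⟩

end Groth.Agent.Lib.Helper29.HomHHC2
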