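import Mathlib
import Groth.Prelude.Def_ArtFun6
import Groth.Prelude.Def_ArtFun2
import Groth.Prelude.Def_FGA
import Groth.Prelude.Def_KLin
import Groth.Prelude.Def_ClSub2
import Groth.Prelude.Def_Omega2
import Groth.Prelude.Def_DCoh4
import Groth.Prelude.Def_Coh
import Groth.Agent.Lib.Helper29.HomHHC2
import Groth.Agent.Lib.Helper10.SheafHomC3

/-!
# `Hom_Y(I, O_Y/I) ≃ₗ[k] H⁰(X, Hom(i^*I, O_X))` for a closed immersion `i : X ⟶ Y` over `k`
(helper29, sub-lemma D5 for helper18's S12265; same chain as `HomHHC2`, plus helper10's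
`pushUnitIso : i_* O_X ≅ O_Y / ker i`).
-/

set_option autoImplicit false
set_option maxHeartbeats 1600000
universe u

open CategoryTheory CategoryTheory.Limits AlgebraicGeometry

noncomputable section

namespace Groth.Agent.Lib.Helper29.HomHHD5

open Groth.Agent.Lib.Helper29.HomHHC2

/-- D5: `k`-linear version of `Helper10.SheafHomC3.hhEquivHom` for a closed immersion over `k`. -/
theorem nonempty_linearEquiv_hom_HH_of_closedImmersion
    {k : Type u} [Field k] (Y : Scheme.{u}) (y : Y ⟶ Spec (CommRingCat.of k))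
    (X : Scheme.{u}) [X.Over (Spec (CommRingCat.of k))] (i : X ⟶ Y) [IsClosedImmersion i]
    (hi : i ≫ y = X ↘ (Spec (CommRingCat.of k)))
    [DCoh.HasSheafHom (Omega.conormal i)] :
    letI : Y.Over (Spec (CommRingCat.of k)) := ⟨y⟩
    Nonempty ((ClSub.idealMod i.ker ⟶ ClSub.quotMod i.ker) ≃ₗ[k]
      Coh.HH X ((DCoh.sheafHom (Omega.conormal i)).obj (Coh.structureModule X)) 0) := by
  letI : Y.Over (Spec (CommRingCat.of k)) := ⟨y⟩
  haveI : i.IsOver (Spec (CommRingCat.of k)) := ⟨hi⟩
  haveI : (DCoh.sheafHom (Omega.conormal i)).Additive :=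
    (DCoh.sheafHomAdj (Omega.conormal i)).right_adjoint_additive
  have E1 : (ClSub.idealMod i.ker ⟶ ClSub.quotMod i.ker) ≃ₗ[k]
      (ClSub.idealMod i.ker ⟶ (Scheme.Modules.pushforward i).obj (Coh.structureModule X)) :=
    Linear.homCongr k (Iso.refl _) (Groth.Agent.Lib.Helper10.SheafHomC3.pushUnitIso i).symm
  have E2 : (Omega.conormal i ⟶ Coh.structureModule X) ≃ₗ[k]
      (ClSub.idealMod i.ker ⟶ (Scheme.Modules.pushforward i).obj (Coh.structureModule X)) :=
    adjLinearEquiv (R := k) (Scheme.Modules.pullbackPushforwardAdjunction i)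
      (ClSub.idealMod i.ker) (Coh.structureModule X)
      (fun a => by rw [Functor.map_smul, CategoryTheory.Functor.map_id])
  have E3 : (Omega.conormal i ⟶ Coh.structureModule X) ≃ₗ[k]
      ((DCoh.tensorBi.obj (Omega.conormal i)).obj (Coh.structureModule X) ⟶
        Coh.structureModule X) :=
    Linear.homCongr k
      ((SecTwist.unitorR (Omega.conormal i) :
        (DCoh.tensorBi.obj (Omega.conormal i)).obj (Coh.structureModule X) ≅
          Omega.conormal i).symm) (Iso.refl _)
  have E4 : ((DCoh.tensorBi.obj (Omega.conormal i)).obj (Coh.structureModule X) ⟶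
        Coh.structureModule X) ≃ₗ[k]
      (Coh.structureModule X ⟶
        (DCoh.sheafHom (Omega.conormal i)).obj (Coh.structureModule X)) :=
    adjLinearEquiv (R := k) (DCoh.sheafHomAdj (Omega.conormal i))
      (Coh.structureModule X) (Coh.structureModule X)
      (fun a => sheafHom_map_smul_id k (Omega.conormal i) (Coh.structureModule X) a)
  exact ⟨E1.trans (E2.symm.trans (E3.trans (E4.trans
    (homUnitEquivHH k ((DCoh.sheafHom (Omega.conormal i)).obj (Coh.structureModule X))))))⟩

end Groth.Agent.Lib.Helper29.HomHHD5
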