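import Mathlib
import Groth.Prelude.Def_PLie

/-!
# `p`-maps on metabelian Lie algebras `R x ⋉ M` (helper29)

If `L` has a linear functional `α`, an endomorphism `D` (thought of as `ad x`) with
`⁅u, v⁆ = α u • D v - α v • D u`, `α ∘ D = 0`, `α x = 1`, `D x = 0` and `D ^ p = lam • D`, then
`u ↦ (α u)^p • lam • x + (α u)^(p-1) • D^(p-1) u` is a `p`-map.  The only hard point is the
evaluation of Jacobson's sum, done here by a double-counting argument.
-/

set_option autoImplicit false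
universe u v

namespace Groth.Agent.Lib.Helper29.PLieMeta

open PLie

section Comb

variable (R : Type u) [CommRing R] (p : ℕ) [hp : Fact p.Prime] [CharP R p]

/-- image in `R` of the inverse of `r` in `ZMod p`. -/
noncomputable def kap (r : ℕ) : R := ZMod.castHom (dvd_refl p) R ((r : ZMod p)⁻¹)

lemma natCast_mul_kap (r : ℕ) (h0 : 0 < r) (hlt : r < p) : (r : R) * kap R p r = 1 := by
  have hne : (r : ZMod p) ≠ 0 := by
    rw [Ne, CharP.cast_eq_zero_iff (ZMod p) p r]
    exact Nat.not_dvd_of_pos_of_lt h0 hlt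
  unfold kap
  rw [← map_natCast (ZMod.castHom (dvd_refl p) R) r, ← map_mul, mul_inv_cancel₀ hne, map_one]

lemma kap_of_add_eq (r r' : ℕ) (h : r + r' = p) : kap R p r = - kap R p r' := by
  have h1 : (r : ZMod p) = - (r' : ZMod p) := by
    have h2 : ((r + r' : ℕ) : ZMod p) = 0 := by rw [h]; exact CharP.cast_eq_zero (ZMod p) p
    rw [Nat.cast_add] at h2
    exact eq_neg_of_add_eq_zero_left h2
  unfold kap
  rw [h1, inv_neg, map_neg]

/-- number of positions where `t` takes the value `b`. -/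
def cnt {N : ℕ} (b : Bool) (t : Fin N → Bool) : ℕ := ∑ i, if t i = b then 1 else 0

lemma card_eq_cnt {N : ℕ} (b : Bool) (t : Fin N → Bool) :
    Fintype.card {i // t i = b} = cnt b t := by
  rw [Fintype.card_subtype, Finset.card_filter]; rfl

lemma cnt_le {N : ℕ} (b : Bool) (t : Fin N → Bool) : cnt b t ≤ N := by
  unfold cnt
  calc ∑ i, (if t i = b then 1 else 0) ≤ ∑ _i : Fin N, 1 :=
        Finset.sum_le_sum (fun i _ => by split_ifs <;> omega)
    _ = N := by simp

/-- precomposition with a transposition of positions. -/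
def swapEquiv {N : ℕ} (j ℓ : Fin N) : (Fin N → Bool) ≃ (Fin N → Bool) where
  toFun t := fun i => t (Equiv.swap j ℓ i)
  invFun t := fun i => t (Equiv.swap j ℓ i)
  left_inv t := by funext i; simp
  right_inv t := by funext i; simp

/-- summand of the double count. -/
noncomputable def Gf {N : ℕ} (a : Bool → R) (b₀ : Bool) (j : Fin N) (t : Fin N → Bool) : R :=
  if t j = b₀ then kap R p (cnt b₀ t) * ∏ i, a (t i) else 0

theorem dc {N : ℕ} (hN : N = p - 1) (ℓ : Fin N) (a : Bool → R) (b₀ : Bool) :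
    ∑ t : Fin N → Bool, (if t ℓ = b₀ then kap R p (cnt b₀ t) * ∏ i, a (t i) else 0) =
      a (!b₀) ^ N - (a false + a true) ^ N := by
  classical
  have hp1 : 1 ≤ p := hp.out.one_lt.le
  have hNlt : N < p := by omega
  have hNR : (N : R) = -1 := by
    rw [hN, Nat.cast_sub hp1, CharP.cast_eq_zero R p, Nat.cast_one, zero_sub]
  have hsym : ∀ j : Fin N, ∑ t : Fin N → Bool, Gf R p a b₀ j t = ∑ t : Fin N → Bool, Gf R p a b₀ ℓ t := by
    intro j
    rw [← Equiv.sum_comp (swapEquiv j ℓ) (Gf R p a b₀ ℓ)]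
    refine Finset.sum_congr rfl (fun t _ => ?_)
    have h1 : cnt b₀ (swapEquiv j ℓ t) = cnt b₀ t :=
      Equiv.sum_comp (Equiv.swap j ℓ) (fun i => if t i = b₀ then 1 else 0)
    have h2 : ∏ i, a (swapEquiv j ℓ t i) = ∏ i, a (t i) :=
      Equiv.prod_comp (Equiv.swap j ℓ) (fun i => a (t i))
    have h3 : swapEquiv j ℓ t ℓ = t j := by
      show t (Equiv.swap j ℓ ℓ) = t j
      rw [Equiv.swap_apply_right]
    unfold Gf
    rw [h1, h2, h3]
  have hswap : ∑ j : Fin N, ∑ t : Fin N → Bool, Gf R p a b₀ j t =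
      ∑ t : Fin N → Bool, (if cnt b₀ t = 0 then 0 else ∏ i, a (t i)) := by
    rw [Finset.sum_comm]
    refine Finset.sum_congr rfl (fun t _ => ?_)
    have hc : (cnt b₀ t : R) = ∑ j, (if t j = b₀ then (1 : R) else 0) := by
      unfold cnt
      rw [Nat.cast_sum]
      refine Finset.sum_congr rfl (fun j _ => ?_)
      split_ifs <;> simp
    have h1 : ∑ j : Fin N, Gf R p a b₀ j t = (cnt b₀ t : R) * (kap R p (cnt b₀ t) * ∏ i, a (t i)) := by
      rw [hc, Finset.sum_mul]
      refine Finset.sum_congr rfl (fun j _ => ?_)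
      unfold Gf
      split_ifs <;> simp
    rw [h1]
    by_cases h0 : cnt b₀ t = 0
    · rw [if_pos h0, h0, Nat.cast_zero, zero_mul]
    · rw [if_neg h0, ← mul_assoc,
        natCast_mul_kap R p _ (Nat.pos_of_ne_zero h0) (lt_of_le_of_lt (cnt_le b₀ t) hNlt), one_mul]
  have hall : ∑ t : Fin N → Bool, ∏ i, a (t i) = (a false + a true) ^ N := by
    rw [← Fintype.sum_pow, Fintype.sum_bool, add_comm]
  have hconst : ∑ t : Fin N → Bool, (if cnt b₀ t = 0 then ∏ i, a (t i) else 0) = a (!b₀) ^ N := by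
    rw [Finset.sum_eq_single (fun _ => !b₀)]
    · have h0 : cnt b₀ (fun _ : Fin N => !b₀) = 0 := by
        unfold cnt
        apply Finset.sum_eq_zero
        intro i _
        have : ¬ ((!b₀) = b₀) := by cases b₀ <;> simp
        simp [this]
      rw [if_pos h0]
      simp
    · intro t _ hne
      rw [if_neg]
      intro h0
      apply hne
      funext i
      unfold cnt at h0
      have hi := (Finset.sum_eq_zero_iff.1 h0) i (Finset.mem_univ i)
      by_contra hti
      have hb : t i = b₀ := by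
        cases hb : t i <;> cases b₀ <;> simp_all
      rw [if_pos hb] at hi
      exact one_ne_zero hi
    · intro h; exact absurd (Finset.mem_univ _) h
  have hsplit : ∑ t : Fin N → Bool, (if cnt b₀ t = 0 then 0 else ∏ i, a (t i)) =
      (a false + a true) ^ N - a (!b₀) ^ N := by
    rw [← hall, ← hconst, ← Finset.sum_sub_distrib]
    refine Finset.sum_congr rfl (fun t _ => ?_)
    split_ifs <;> simp
  have hsum : ∑ j : Fin N, ∑ t : Fin N → Bool, Gf R p a b₀ j t = (N : R) * ∑ t : Fin N → Bool, Gf R p a b₀ ℓ t := by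
    rw [Finset.sum_congr rfl (fun j _ => hsym j), Finset.sum_const, Finset.card_univ,
      Fintype.card_fin, nsmul_eq_mul]
  have hfin := hsum.symm.trans (hswap.trans hsplit)
  rw [hNR] at hfin
  show ∑ t : Fin N → Bool, Gf R p a b₀ ℓ t = _
  linear_combination -hfin

lemma sum_snoc {M : Type*} [AddCommMonoid M] {n : ℕ} (F : (Fin (n + 1) → Bool) → M) :
    ∑ t, F t = ∑ t' : Fin n → Bool, F (Fin.snoc (α := fun _ => Bool) t' true) +
      ∑ t' : Fin n → Bool, F (Fin.snoc (α := fun _ => Bool) t' false) := by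
  have h := Fintype.sum_equiv (Fin.snocEquiv (fun _ : Fin (n + 1) => Bool))
    (fun y : Bool × (Fin n → Bool) => F (Fin.snoc (α := fun _ => Bool) y.2 y.1)) F (fun y => rfl)
  rw [← h, Fintype.sum_prod_type, Fintype.sum_bool]

lemma cnt_snoc {n : ℕ} (b₀ b : Bool) (t' : Fin n → Bool) :
    cnt b₀ (Fin.snoc (α := fun _ => Bool) t' b) = cnt b₀ t' + (if b = b₀ then 1 else 0) := by
  unfold cnt
  rw [Fin.sum_univ_castSucc]
  simp only [Fin.snoc_castSucc, Fin.snoc_last]

lemma prod_snoc {n : ℕ} (a : Bool → R) (b : Bool) (t' : Fin n → Bool) :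
    ∏ i, a (Fin.snoc (α := fun _ => Bool) t' b i) = (∏ i, a (t' i)) * a b := by
  rw [Fin.prod_univ_castSucc]
  simp only [Fin.snoc_castSucc, Fin.snoc_last]

lemma cnt_add {n : ℕ} (t' : Fin n → Bool) : cnt false t' + cnt true t' = n := by
  unfold cnt
  rw [← Finset.sum_add_distrib]
  calc ∑ i, ((if t' i = false then 1 else 0) + (if t' i = true then 1 else 0))
      = ∑ _i : Fin n, 1 := Finset.sum_congr rfl (fun i _ => by cases t' i <;> simp)
    _ = n := by simp

theorem dc_snoc {n : ℕ} (hn : p - 1 = n + 1) (a : Bool → R) (b₀ : Bool) :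
    ∑ t' : Fin n → Bool, kap R p (cnt b₀ t' + 1) * ((∏ i, a (t' i)) * a b₀) =
      a (!b₀) ^ (n + 1) - (a false + a true) ^ (n + 1) := by
  rw [← dc R p hn.symm (Fin.last n) a b₀, sum_snoc]
  simp only [Fin.snoc_last, cnt_snoc, prod_snoc]
  cases b₀ <;> simp

end Comb

section Lie

variable {R : Type u} [CommRing R] (p : ℕ) [hp : Fact p.Prime] [CharP R p]
variable {L : Type v} [LieRing L] [LieAlgebra R L]
variable (α : L →ₗ[R] R) (D : L →ₗ[R] L)

lemma alpha_Dpow (h2 : ∀ v, α (D v) = 0) (v : L) (hv : α v = 0) (k : ℕ) :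
    α ((D ^ k) v) = 0 := by
  cases k with
  | zero => simpa using hv
  | succ k => rw [pow_succ', Module.End.mul_apply]; exact h2 _

lemma lie_ker (h1 : ∀ u v : L, ⁅u, v⁆ = α u • D v - α v • D u) (u w : L) (hw : α w = 0) :
    ⁅u, w⁆ = α u • D w := by
  rw [h1, hw, zero_smul, sub_zero]

lemma adpow_ker (h1 : ∀ u v : L, ⁅u, v⁆ = α u • D v - α v • D u) (h2 : ∀ v, α (D v) = 0)
    (u : L) : ∀ (k : ℕ) (w : L), α w = 0 →
      ((LieAlgebra.ad R L u) ^ k) w = (α u) ^ k • (D ^ k) w := by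
  intro k
  induction k with
  | zero => intro w _; simp
  | succ k ih =>
    intro w hw
    have hw' : α (α u • D w) = 0 := by rw [map_smul, h2, smul_zero]
    rw [pow_succ (LieAlgebra.ad R L u) k, Module.End.mul_apply, LieAlgebra.ad_apply,
      lie_ker α D h1 u w hw, ih _ hw', map_smul, smul_smul, pow_succ (α u) k, pow_succ D k,
      Module.End.mul_apply]

lemma bw_append {ι : Type*} (xs : ι → L) (v : L) (w w' : List ι) :
    bracketWord xs v (w ++ w') = bracketWord xs (bracketWord xs v w') w := by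
  induction w with
  | nil => rfl
  | cons i w ih => simp [ih]

lemma bw_ker (h1 : ∀ u v : L, ⁅u, v⁆ = α u • D v - α v • D u) (h2 : ∀ v, α (D v) = 0)
    (us : Bool → L) (v : L) (hv : α v = 0) (w : List Bool) :
    bracketWord us v w = ((w.map (fun b => α (us b))).prod) • (D ^ w.length) v := by
  induction w with
  | nil => simp
  | cons b w ih =>
    have hw' : α (((w.map (fun b => α (us b))).prod) • (D ^ w.length) v) = 0 := by
      rw [map_smul, alpha_Dpow α D h2 v hv, smul_zero]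
    rw [bracketWord_cons, ih, lie_ker α D h1 (us b) _ hw', map_smul, smul_smul, List.map_cons,
      List.prod_cons, List.length_cons, pow_succ' D, Module.End.mul_apply]

lemma word (h1 : ∀ u v : L, ⁅u, v⁆ = α u • D v - α v • D u) (h2 : ∀ v, α (D v) = 0)
    (u₀ u₁ : L) {n : ℕ} (t : Fin (n + 1) → Bool) :
    bracketWord (pair u₀ u₁) u₁ (List.ofFn t) =
      (∏ i : Fin n, α (pair u₀ u₁ (t i.castSucc))) •
        (D ^ n) ⁅pair u₀ u₁ (t (Fin.last n)), u₁⁆ := by
  have hv : α ⁅pair u₀ u₁ (t (Fin.last n)), u₁⁆ = 0 := by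
    rw [h1, map_sub, map_smul, map_smul, h2, h2, smul_zero, smul_zero, sub_zero]
  rw [List.ofFn_succ', List.concat_eq_append, bw_append, bracketWord_cons, bracketWord_nil,
    bw_ker α D h1 h2 _ _ hv, List.map_ofFn, List.prod_ofFn, List.length_ofFn]
  rfl

theorem jac_eq (h1 : ∀ u v : L, ⁅u, v⁆ = α u • D v - α v • D u) (h2 : ∀ v, α (D v) = 0)
    {n : ℕ} (hn : p - 1 = n + 1) (u₀ u₁ : L) :
    jacobson R p u₀ u₁ =
      (α u₁ ^ (n + 1) - (α u₀ + α u₁) ^ (n + 1)) • (D ^ (n + 1)) u₁ -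
      ((α u₀ + α u₁) ^ (n + 1) - α u₀ ^ (n + 1)) • (D ^ (n + 1)) u₀ := by
  have hp2 : 2 ≤ p := hp.out.two_le
  have hJ : ∀ N : ℕ, N = p - 1 → jacobson R p u₀ u₁ = ∑ t : Fin N → Bool,
      kap R p (cnt false t) • bracketWord (pair u₀ u₁) u₁ (List.ofFn t) := by
    intro N hN
    subst hN
    unfold jacobson
    refine Finset.sum_congr rfl (fun t _ => ?_)
    rw [card_eq_cnt]; rfl
  have hp0 : pair u₀ u₁ false = u₀ := rfl
  have hp1 : pair u₀ u₁ true = u₁ := rfl
  have hT : ∀ t' : Fin n → Bool,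
      kap R p (cnt false (Fin.snoc (α := fun _ => Bool) t' true)) •
        bracketWord (pair u₀ u₁) u₁ (List.ofFn (Fin.snoc (α := fun _ => Bool) t' true)) = 0 := by
    intro t'
    rw [word α D h1 h2, Fin.snoc_last, hp1, lie_self, map_zero, smul_zero, smul_zero]
  have hF : ∀ t' : Fin n → Bool,
      kap R p (cnt false (Fin.snoc (α := fun _ => Bool) t' false)) •
        bracketWord (pair u₀ u₁) u₁ (List.ofFn (Fin.snoc (α := fun _ => Bool) t' false)) =
      (kap R p (cnt false t' + 1) * ∏ i, α (pair u₀ u₁ (t' i))) •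
        (α u₀ • (D ^ (n + 1)) u₁ - α u₁ • (D ^ (n + 1)) u₀) := by
    intro t'
    rw [word α D h1 h2, Fin.snoc_last, cnt_snoc, if_pos rfl]
    simp only [Fin.snoc_castSucc]
    rw [hp0, h1 u₀ u₁, map_sub, map_smul, map_smul, pow_succ D n, Module.End.mul_apply,
      Module.End.mul_apply, smul_smul]
  rw [hJ (n + 1) hn.symm, sum_snoc]
  simp only [hT, hF, Finset.sum_const_zero, zero_add]
  rw [← Finset.sum_smul]
  have hd0 := dc_snoc R p hn (fun b => α (pair u₀ u₁ b)) false
  have hd1 := dc_snoc R p hn (fun b => α (pair u₀ u₁ b)) true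
  simp only [Bool.not_false, Bool.not_true, hp0, hp1] at hd0 hd1
  obtain ⟨c', hc'⟩ : ∃ c', c' = ∑ t' : Fin n → Bool,
      kap R p (cnt false t' + 1) * ∏ i, α (pair u₀ u₁ (t' i)) := ⟨_, rfl⟩
  rw [← hc']
  have hA : c' * α u₀ = α u₁ ^ (n + 1) - (α u₀ + α u₁) ^ (n + 1) := by
    rw [← hd0, hc', Finset.sum_mul]
    exact Finset.sum_congr rfl (fun t' _ => mul_assoc _ _ _)
  have hB : c' * α u₁ = (α u₀ + α u₁) ^ (n + 1) - α u₀ ^ (n + 1) := by
    have hB' : c' * α u₁ = -(α u₀ ^ (n + 1) - (α u₀ + α u₁) ^ (n + 1)) := by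
      rw [← hd1, hc', Finset.sum_mul, ← Finset.sum_neg_distrib]
      refine Finset.sum_congr rfl (fun t' _ => ?_)
      rw [kap_of_add_eq R p (cnt false t' + 1) (cnt true t' + 1)
        (by have := cnt_add t'; omega)]
      ring
    rw [hB']; ring
  rw [smul_sub, smul_smul, smul_smul, hA, hB]

theorem construct (x : L) (lam : R) (h0 : α x = 1) (hDx : D x = 0)
    (h1 : ∀ u v : L, ⁅u, v⁆ = α u • D v - α v • D u)
    (h2 : ∀ v, α (D v) = 0) (h3 : ∀ v, (D ^ p) v = lam • D v) :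
    ∃ φ : PMap R p L,
      ∀ u, φ u = (α u) ^ p • (lam • x) + (α u) ^ (p - 1) • (D ^ (p - 1)) u := by
  have hp2 : 2 ≤ p := hp.out.two_le
  obtain ⟨n, hn⟩ : ∃ n, p - 1 = n + 1 := ⟨p - 2, by omega⟩
  have hpp : p = (p - 1) + 1 := by omega
  have hpow : ∀ c : R, c ^ p = c ^ (p - 1) * c := fun c => by rw [← pow_succ, ← hpp]
  have hDp : ∀ v, D ((D ^ (p - 1)) v) = (D ^ p) v := by
    intro v
    rw [← Module.End.mul_apply, ← pow_succ', ← hpp]
  have hDp' : ∀ v, (D ^ (p - 1)) (D v) = (D ^ p) v := by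
    intro v
    rw [← Module.End.mul_apply, ← pow_succ, ← hpp]
  have hαD : ∀ v, α ((D ^ (p - 1)) v) = 0 := by
    intro v
    rw [hn, pow_succ', Module.End.mul_apply]; exact h2 _
  refine ⟨⟨fun u => (α u) ^ p • (lam • x) + (α u) ^ (p - 1) • (D ^ (p - 1)) u, ?_, ?_, ?_⟩,
    fun u => rfl⟩
  · intro c u
    simp only [map_smul, smul_eq_mul, mul_pow]
    rw [hpow c]
    module
  · intro u
    ext v
    have hw : α ⁅u, v⁆ = 0 := by
      rw [h1, map_sub, map_smul, map_smul, h2, h2, smul_zero, smul_zero, sub_zero]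
    have hadp : (LieAlgebra.ad R L u) ^ p =
        (LieAlgebra.ad R L u) ^ (p - 1) * LieAlgebra.ad R L u := by
      rw [← pow_succ, ← hpp]
    rw [hadp, Module.End.mul_apply, LieAlgebra.ad_apply, LieAlgebra.ad_apply,
      adpow_ker α D h1 h2 u _ _ hw, h1 u v, h1 _ v]
    simp only [map_add, map_smul, map_sub, smul_eq_mul, h0, hDx, hαD, hDp, hDp', h3, mul_one,
      mul_zero, add_zero, smul_zero, zero_add]
    rw [hpow (α u)]
    module
  · intro u₀ u₁
    simp only [map_add]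
    rw [jac_eq p α D h1 h2 hn u₀ u₁, add_pow_char (α u₀) (α u₁) p, hn]
    module

end Lie

section Basis3

variable {R : Type u} [CommRing R] {L : Type v} [LieRing L] [LieAlgebra R L]
variable (bs : Module.Basis (Fin 3) R L)

lemma expand (u : L) :
    ∃ a b c : R, u = a • bs 0 + b • bs 1 + c • bs 2 :=
  ⟨bs.repr u 0, bs.repr u 1, bs.repr u 2, by
    conv_lhs => rw [← bs.sum_repr u, Fin.sum_univ_three]⟩

lemma coord0 (a b c : R) : bs.coord 0 (a • bs 0 + b • bs 1 + c • bs 2) = a := by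
  simp [Module.Basis.coord_apply, Finsupp.single_apply]

lemma h1_basis (hyz : ⁅bs 1, bs 2⁆ = 0) (u v : L) :
    ⁅u, v⁆ = bs.coord 0 u • (LieAlgebra.ad R L (bs 0)) v -
      bs.coord 0 v • (LieAlgebra.ad R L (bs 0)) u := by
  have hzy : ⁅bs 2, bs 1⁆ = 0 := by rw [← lie_skew, hyz, neg_zero]
  have hyx : ⁅bs 1, bs 0⁆ = -⁅bs 0, bs 1⁆ := (lie_skew (bs 1) (bs 0)).symm
  have hzx : ⁅bs 2, bs 0⁆ = -⁅bs 0, bs 2⁆ := (lie_skew (bs 2) (bs 0)).symm
  obtain ⟨a, b, c, rfl⟩ := expand bs u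
  obtain ⟨a', b', c', rfl⟩ := expand bs v
  rw [coord0, coord0]
  simp only [LieAlgebra.ad_apply, add_lie, lie_add, smul_lie, lie_smul, lie_self, hyz, hzy, hyx,
    hzx, smul_zero, add_zero, zero_add, smul_neg]
  module

lemma h2_basis (hY : bs.coord 0 ⁅bs 0, bs 1⁆ = 0) (hZ : bs.coord 0 ⁅bs 0, bs 2⁆ = 0) (v : L) :
    bs.coord 0 ((LieAlgebra.ad R L (bs 0)) v) = 0 := by
  obtain ⟨a, b, c, rfl⟩ := expand bs v
  simp only [LieAlgebra.ad_apply, lie_add, lie_smul, lie_self, map_add, map_smul, hY, hZ,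
    smul_zero, add_zero, map_zero, zero_add]

lemma pow_eigen (D : L →ₗ[R] L) (v : L) (c : R) (h : D v = c • v) (k : ℕ) :
    (D ^ k) v = c ^ k • v := by
  induction k with
  | zero => simp
  | succ k ih =>
    rw [pow_succ, Module.End.mul_apply, h, map_smul, ih, smul_smul, pow_succ, mul_comm]

end Basis3

end Groth.Agent.Lib.Helper29.PLieMeta
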