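import Mathlib
import Groth.Prelude.Def_PLie
import Groth.Agent.Lib.Helper29.PLieMeta

/-!
# Jacobson's formula in an associative algebra of characteristic `p` (helper29)

For an associative `R`-algebra `A` with `CharP R p`, `p` prime:
* `adE_pow_char`: `(ad u)^p v = u^p v - v u^p`;
* `add_pow_char_eq`: `(a + b)^p = a^p + b^p - J_p(a, b)` with `J_p = PLie.jacobson` computed for the commutator
  bracket of `A`.
The proof is the classical one: differentiate `(a + λ b)^p` in `A[λ]`.
-/

set_option autoImplicit false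
universe u v

namespace Groth.Agent.Lib.Helper29.JacobsonAssoc

open Polynomial PLie
open Groth.Agent.Lib.Helper29.PLieMeta

attribute [local instance 100] LieRing.ofAssociativeRing

section Choose

variable (R : Type u) [CommRing R] (p : ℕ) [hp : Fact p.Prime] [CharP R p]

lemma choose_pred_cast : ∀ m : ℕ, m ≤ p - 1 → ((Nat.choose (p - 1) m : ℕ) : R) = (-1) ^ m := by
  intro m
  induction m with
  | zero => intro _; simp
  | succ m ih =>
    intro hm
    have hp1 : p - 1 + 1 = p := Nat.sub_add_cancel hp.out.one_le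
    have h1 : Nat.choose p (m + 1) = Nat.choose (p - 1) m + Nat.choose (p - 1) (m + 1) := by
      conv_lhs => rw [← hp1]
      exact Nat.choose_succ_succ (p - 1) m
    have h2 : ((Nat.choose p (m + 1) : ℕ) : R) = 0 := by
      rw [CharP.cast_eq_zero_iff R p]
      exact hp.out.dvd_choose_self (Nat.succ_ne_zero m) (by omega)
    rw [h1, Nat.cast_add, ih (by omega)] at h2
    rw [pow_succ, mul_neg_one]
    exact eq_neg_of_add_eq_zero_right h2

lemma neg_one_pow_pred : ((-1 : R)) ^ (p - 1) = 1 := by
  rcases hp.out.eq_two_or_odd' with h2 | hodd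
  · have h0 : ((p : ℕ) : R) = 0 := CharP.cast_eq_zero R p
    have h20 : (2 : R) = 0 := by
      rw [h2] at h0
      exact_mod_cast h0
    have e : p - 1 = 1 := by omega
    rw [e, pow_one]
    linear_combination (-1 : R) * h20
  · have hev : Even (p - 1) := by
      obtain ⟨k, hk⟩ := hodd
      exact ⟨k, by omega⟩
    exact hev.neg_one_pow

end Choose

section AdPow

variable (R : Type u) [CommRing R] (p : ℕ) [hp : Fact p.Prime] [CharP R p]
variable {B : Type v} [Ring B] [Algebra R B]

/-- `ad u` as an `R`-linear endomorphism of `B` -/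
def adE (u : B) : Module.End R B := LinearMap.mulLeft R u - LinearMap.mulRight R u

lemma adE_apply (u v : B) : adE R u v = u * v - v * u := rfl

lemma mulLeft_pow_apply (u v : B) (n : ℕ) : ((LinearMap.mulLeft R u) ^ n) v = u ^ n * v := by
  induction n with
  | zero => simp
  | succ n ih =>
    rw [pow_succ', Module.End.mul_apply, ih, LinearMap.mulLeft_apply, ← mul_assoc, ← pow_succ']

lemma mulRight_pow_apply (u v : B) (n : ℕ) : ((LinearMap.mulRight R u) ^ n) v = v * u ^ n := by
  induction n with
  | zero => simp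
  | succ n ih =>
    rw [pow_succ', Module.End.mul_apply, ih, LinearMap.mulRight_apply, mul_assoc, ← pow_succ]

theorem adE_pow_pred (u v : B) :
    ((adE R u) ^ (p - 1)) v = ∑ j ∈ Finset.range p, u ^ j * v * u ^ (p - 1 - j) := by
  have hc : Commute (LinearMap.mulLeft R u) (-(LinearMap.mulRight R u)) :=
    (LinearMap.commute_mulLeft_right (R := R) u u).neg_right
  have hsub : adE R u = LinearMap.mulLeft R u + -(LinearMap.mulRight R u) := sub_eq_add_neg _ _
  have hp1 : p - 1 + 1 = p := Nat.sub_add_cancel hp.out.one_le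
  rw [hsub, hc.add_pow, LinearMap.sum_apply, hp1]
  refine Finset.sum_congr rfl fun m hm => ?_
  have hm' : m ≤ p - 1 := by rw [Finset.mem_range] at hm; omega
  have hneg : -(LinearMap.mulRight R u) = (-1 : R) • LinearMap.mulRight R u := by
    rw [neg_smul, one_smul]
  have hcast : ((Nat.choose (p - 1) m : ℕ) : Module.End R B) =
      ((-1 : R) ^ m) • (1 : Module.End R B) := by
    rw [← choose_pred_cast R p m hm', ← Algebra.algebraMap_eq_smul_one, map_natCast]
  have hsc : (-1 : R) ^ m * (-1) ^ (p - 1 - m) = 1 := by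
    rw [← pow_add, Nat.add_sub_cancel' hm', neg_one_pow_pred R p]
  have hsc' : (-1 : R) ^ (p - 1 - m) * (-1) ^ m = 1 := by rw [mul_comm, hsc]
  have hT : LinearMap.mulLeft R u ^ m * (-(LinearMap.mulRight R u)) ^ (p - 1 - m) *
      ((Nat.choose (p - 1) m : ℕ) : Module.End R B) =
      LinearMap.mulLeft R u ^ m * LinearMap.mulRight R u ^ (p - 1 - m) := by
    rw [hneg, _root_.smul_pow, hcast]
    simp only [mul_smul_comm, smul_mul_assoc, mul_one, smul_smul, hsc, hsc', one_smul]
  rw [hT, Module.End.mul_apply, mulRight_pow_apply, mulLeft_pow_apply, mul_assoc]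

theorem adE_pow_char (u v : B) : ((adE R u) ^ p) v = u ^ p * v - v * u ^ p := by
  have hpow : (adE R u) ^ p = (adE R u) ^ (p - 1) * adE R u := by
    rw [← pow_succ, Nat.sub_add_cancel hp.out.one_le]
  rw [hpow, Module.End.mul_apply, adE_pow_pred R p u (adE R u v), adE_apply]
  have hterm : ∀ j ∈ Finset.range p, u ^ j * (u * v - v * u) * u ^ (p - 1 - j) =
      (fun i => u ^ i * v * u ^ (p - i)) (j + 1) - (fun i => u ^ i * v * u ^ (p - i)) j := by
    intro j hj
    rw [Finset.mem_range] at hj
    show _ = u ^ (j + 1) * v * u ^ (p - (j + 1)) - u ^ j * v * u ^ (p - j)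
    have e1 : p - (j + 1) = p - 1 - j := by omega
    have e2 : p - j = (p - 1 - j) + 1 := by omega
    rw [e1, e2, pow_succ u j, pow_succ' u (p - 1 - j)]
    noncomm_ring
  rw [Finset.sum_congr rfl hterm, Finset.sum_range_sub (fun i => u ^ i * v * u ^ (p - i)) p]
  simp

end AdPow

section Poly

variable (R : Type u) [CommRing R] (p : ℕ) [hp : Fact p.Prime] [CharP R p]
variable {A : Type v} [Ring A] [Algebra R A]

omit [Algebra R A] in
lemma derivative_pow_noncomm (f : A[X]) (n : ℕ) :
    derivative (f ^ n) = ∑ j ∈ Finset.range n, f ^ j * derivative f * f ^ (n - 1 - j) := by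
  induction n with
  | zero => simp
  | succ n ih =>
    rw [pow_succ, derivative_mul, ih, Finset.sum_range_succ, Finset.sum_mul]
    congr 1
    · refine Finset.sum_congr rfl fun j hj => ?_
      rw [Finset.mem_range] at hj
      have e : n + 1 - 1 - j = (n - 1 - j) + 1 := by omega
      rw [e, pow_succ, ← mul_assoc]
    · simp

/-- `C a + X * C b` -/
noncomputable def uu (a b : A) : A[X] := C a + X * C b

omit [Algebra R A] in
lemma derivative_uu (a b : A) : derivative (uu a b) = C b := by
  unfold uu; simp

lemma adE_X_mul (a b : A) (z : A[X]) : adE R (uu a b) (X * z) = X * adE R (uu a b) z := by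
  rw [adE_apply, adE_apply, mul_sub, ← mul_assoc (uu a b) X z, ← (commute_X (uu a b)).eq,
    mul_assoc X (uu a b) z, mul_assoc X z (uu a b)]

lemma adE_pow_X_mul (a b : A) (n : ℕ) (z : A[X]) :
    ((adE R (uu a b)) ^ n) (X * z) = X * ((adE R (uu a b)) ^ n) z := by
  induction n with
  | zero => simp
  | succ n ih => rw [pow_succ', Module.End.mul_apply, ih, adE_X_mul, Module.End.mul_apply]

lemma adE_C (a b w : A) : adE R (uu a b) (C w) = C ⁅a, w⁆ + X * C ⁅b, w⁆ := by
  have h : C w * (X * C b) = X * (C w * C b) := by rw [← mul_assoc, ← X_mul_C, mul_assoc]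
  rw [adE_apply, Ring.lie_def, Ring.lie_def]
  simp only [uu, C_sub, C_mul, add_mul, mul_add, mul_sub, mul_assoc, h]
  abel

omit [Algebra R A] in
lemma ofFn_snoc {n : ℕ} (t' : Fin n → Bool) (s : Bool) :
    List.ofFn (Fin.snoc (α := fun _ => Bool) t' s) = List.ofFn t' ++ [s] := by
  rw [List.ofFn_succ', List.concat_eq_append]
  simp only [Fin.snoc_castSucc, Fin.snoc_last]

theorem adE_pow_C (a b : A) : ∀ (n : ℕ) (w : A), ((adE R (uu a b)) ^ n) (C w) =
    ∑ t : Fin n → Bool, X ^ (cnt true t) * C (bracketWord (pair a b) w (List.ofFn t)) := by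
  intro n
  induction n with
  | zero => intro w; simp [cnt]
  | succ n ih =>
    intro w
    rw [pow_succ, Module.End.mul_apply, adE_C, map_add, adE_pow_X_mul, ih, ih, sum_snoc,
      Finset.mul_sum, add_comm]
    congr 1
    · refine Finset.sum_congr rfl fun t _ => ?_
      rw [cnt_snoc, ofFn_snoc, bw_append, if_pos rfl, pow_succ', mul_assoc]
      rfl
    · refine Finset.sum_congr rfl fun t _ => ?_
      rw [cnt_snoc, ofFn_snoc, bw_append, if_neg (by decide), add_zero]
      rfl

omit [Algebra R A] in
lemma coeff_X_pow_mul_C (k m : ℕ) (w : A) :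
    (X ^ k * C w : A[X]).coeff m = if k = m then w else 0 := by
  rw [X_pow_mul_C, C_mul_X_pow_eq_monomial, coeff_monomial]

omit [Algebra R A] in
lemma coeff_zero_pow (f : A[X]) (n : ℕ) : (f ^ n).coeff 0 = f.coeff 0 ^ n := by
  induction n with
  | zero => simp
  | succ n ih => rw [pow_succ, mul_coeff_zero, ih, pow_succ]

omit [Algebra R A] in
lemma natDegree_uu_le (a b : A) : (uu a b).natDegree ≤ 1 := by
  unfold uu
  refine (natDegree_add_le _ _).trans (max_le ?_ ?_)
  · rw [natDegree_C]; exact Nat.zero_le _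
  · refine natDegree_mul_le.trans ?_
    rw [natDegree_C, add_zero]
    exact natDegree_X_le

/-- **Jacobson's formula.** -/
theorem add_pow_char_eq (a b : A) : (a + b) ^ p = a ^ p + b ^ p - jacobson R p a b := by
  classical
  have hp1 : p - 1 + 1 = p := Nat.sub_add_cancel hp.out.one_le
  obtain ⟨q, hq⟩ : ∃ q, p = q + 1 := ⟨p - 1, hp1.symm⟩
  obtain ⟨H, hH⟩ : ∃ H : A[X], H = uu a b ^ p := ⟨_, rfl⟩
  obtain ⟨W, hW⟩ : ∃ W : (Fin (p - 1) → Bool) → A,
      W = fun t => bracketWord (pair a b) b (List.ofFn t) := ⟨_, rfl⟩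
  have hder : derivative H = ∑ t : Fin (p - 1) → Bool, X ^ (cnt true t) * C (W t) := by
    rw [hH, derivative_pow_noncomm, derivative_uu, ← adE_pow_pred R p, adE_pow_C, hW]
  -- the weighted sum of the coefficients of the derivative, first way
  have hS1a : ∑ m ∈ Finset.range p, kap R p (m + 1) • (derivative H).coeff m =
      - jacobson R p a b := by
    rw [hder]
    simp only [finsetSum_coeff, coeff_X_pow_mul_C, Finset.smul_sum]
    rw [Finset.sum_comm]
    unfold jacobson
    rw [← Finset.sum_neg_distrib]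
    refine Finset.sum_congr rfl fun t _ => ?_
    have hlt : cnt true t < p := by
      have := cnt_le true t
      omega
    rw [Finset.sum_eq_single (cnt true t)]
    · rw [if_pos rfl, hW, ← neg_smul]
      congr 1
      show kap R p (cnt true t + 1) = - kap R p (Fintype.card {i // t i = false})
      rw [card_eq_cnt, kap_of_add_eq R p (cnt false t) (cnt true t + 1)
        (by have := cnt_add t; omega), neg_neg]
    · intro m _ hm
      rw [if_neg (fun h => hm h.symm), smul_zero]
    · intro hnot
      exact absurd (Finset.mem_range.2 hlt) hnot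
  -- second way
  have hS1b : ∑ m ∈ Finset.range p, kap R p (m + 1) • (derivative H).coeff m =
      ∑ m ∈ Finset.range q, H.coeff (m + 1) := by
    have hterm : ∀ m : ℕ, kap R p (m + 1) • (derivative H).coeff m =
        (((m + 1 : ℕ) : R) * kap R p (m + 1)) • H.coeff (m + 1) := by
      intro m
      rw [coeff_derivative, ← Nat.cast_succ, ← nsmul_eq_mul', ← Nat.cast_smul_eq_nsmul R, smul_smul,
        mul_comm]
    have hrange : Finset.range p = Finset.range (q + 1) := by rw [hq]
    rw [hrange, Finset.sum_range_succ, hterm q]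
    have hzero : ((q + 1 : ℕ) : R) = 0 := by
      rw [← hq]; exact CharP.cast_eq_zero R p
    rw [hzero, zero_mul, zero_smul, add_zero]
    refine Finset.sum_congr rfl fun m hm => ?_
    rw [Finset.mem_range] at hm
    rw [hterm m, natCast_mul_kap R p (m + 1) (Nat.succ_pos m) (by omega), one_smul]
  -- evaluation at 1
  obtain ⟨ev, hev⟩ : ∃ ev : A[X] →+* A, ∀ f, ev f = eval₂ (RingHom.id A) 1 f :=
    ⟨eval₂RingHom' (RingHom.id A) 1 (fun _ => Commute.one_right _), fun _ => rfl⟩
  have hevu : ev (uu a b) = a + b := by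
    unfold uu
    rw [map_add, map_mul, hev, hev, hev, eval₂_C, eval₂_X, eval₂_C, RingHom.id_apply,
      RingHom.id_apply, one_mul]
  have hdeg : H.natDegree < p + 1 := by
    rw [hH]
    have h1 := natDegree_pow_le (p := uu a b) (n := p)
    have h2 := natDegree_uu_le a b
    have h3 : p * (uu a b).natDegree ≤ p * 1 := Nat.mul_le_mul_left p h2
    omega
  have hsum : (a + b) ^ p = ∑ i ∈ Finset.range (p + 1), H.coeff i := by
    rw [← hevu, ← map_pow, ← hH, hev, eval₂_eq_sum_range' (RingHom.id A) hdeg]
    refine Finset.sum_congr rfl fun i _ => ?_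
    rw [RingHom.id_apply, one_pow, mul_one]
  have h0 : H.coeff 0 = a ^ p := by
    rw [hH, coeff_zero_pow]
    congr 1
    unfold uu
    rw [coeff_add, coeff_C_zero, coeff_X_mul_zero, add_zero]
  have hpp : H.coeff p = b ^ p := by
    have := coeff_pow_of_natDegree_le (m := p) (natDegree_uu_le a b)
    rw [mul_one] at this
    rw [hH, this]
    congr 1
    unfold uu
    rw [coeff_add, coeff_C_succ, coeff_X_mul, coeff_C_zero, zero_add]
  rw [hsum, Finset.sum_range_succ, hpp]
  have hrange : Finset.range p = Finset.range (q + 1) := by rw [hq]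
  rw [hrange, Finset.sum_range_succ', h0, ← hS1b, hS1a]
  abel

end Poly

end Groth.Agent.Lib.Helper29.JacobsonAssoc
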