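import Mathlib

/-!
# PBW over a commutative ring for a Lie algebra that is free as a module (helper29)

This is helper19's proof of the Poincaré–Birkhoff–Witt theorem (`Lib/Helper19/PBW1-3`, stated there over a field)
copied verbatim with `[Field k]` replaced by `[CommRing k]` (the argument never uses division), plus the
corollary `ι_injective` used for Jacobson's theorem on `p`-maps.
-/

set_option autoImplicit false
universe u v w

namespace Groth.Agent.Lib.Helper29.PBWRing

attribute [local instance 100] LieRing.ofAssociativeRing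

-- ===== from helper19 PBW1.lean =====



variable {k : Type u} [CommRing k] {L : Type v} [LieRing L] [LieAlgebra k L]

theorem U_induction {C : UniversalEnvelopingAlgebra k L → Prop}
    (h_alg : ∀ r : k, C (algebraMap k _ r))
    (h_ι : ∀ x : L, C (UniversalEnvelopingAlgebra.ι k x))
    (h_mul : ∀ a b, C a → C b → C (a * b)) (h_add : ∀ a b, C a → C b → C (a + b))
    (u : UniversalEnvelopingAlgebra k L) : C u := by
  have hs : Function.Surjective (UniversalEnvelopingAlgebra.mkAlgHom k L) :=
    RingCon.mkₐ_surjective _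
  obtain ⟨t, rfl⟩ := hs u
  induction t using TensorAlgebra.induction with
  | algebraMap r => rw [AlgHom.commutes]; exact h_alg r
  | ι x => exact h_ι x
  | mul a b ha hb => rw [map_mul]; exact h_mul _ _ ha hb
  | add a b ha hb => rw [map_add]; exact h_add _ _ ha hb

variable {ι : Type w} [LinearOrder ι] (b : Module.Basis ι k L)

/-- the monomial attached to a list of indices -/
noncomputable def mon (l : List ι) : UniversalEnvelopingAlgebra k L :=
  (l.map fun i => UniversalEnvelopingAlgebra.ι k (b i)).prod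

@[simp] lemma mon_nil : mon b [] = 1 := by simp [mon]

@[simp] lemma mon_cons (i : ι) (l : List ι) :
    mon b (i :: l) = UniversalEnvelopingAlgebra.ι k (b i) * mon b l := by simp [mon]

/-- span of the monomials of length `< n` -/
def Mlt (n : ℕ) : Submodule k (UniversalEnvelopingAlgebra k L) :=
  Submodule.span k (mon b '' {l | l.length < n})

/-- span of all monomials -/
def Mall : Submodule k (UniversalEnvelopingAlgebra k L) :=
  Submodule.span k (Set.range (mon b))

/-- span of the sorted monomials -/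
def Osp : Submodule k (UniversalEnvelopingAlgebra k L) :=
  Submodule.span k (mon b '' {l | l.SortedLE})

lemma ι_mul_mon_mem (x : L) (l : List ι) :
    UniversalEnvelopingAlgebra.ι k x * mon b l ∈ Mlt b (l.length + 2) := by
  have hx : x ∈ Submodule.span k (Set.range b) := by rw [b.span_eq]; trivial
  induction hx using Submodule.span_induction with
  | mem y hy =>
    obtain ⟨i, rfl⟩ := hy
    rw [← mon_cons]
    exact Submodule.subset_span ⟨i :: l, by show (i :: l).length < l.length + 2; simp, rfl⟩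
  | zero => simp
  | add y z _ _ hy hz => rw [map_add, add_mul]; exact Submodule.add_mem _ hy hz
  | smul c y _ hy => rw [map_smul, smul_mul_assoc]; exact Submodule.smul_mem _ _ hy

lemma ι_mul_mon_mem_Mall (x : L) (l : List ι) :
    UniversalEnvelopingAlgebra.ι k x * mon b l ∈ Mall b := by
  have h := ι_mul_mon_mem b x l
  have hle : Mlt b (l.length + 2) ≤ Mall b :=
    Submodule.span_mono (by rintro _ ⟨l', _, rfl⟩; exact ⟨l', rfl⟩)
  exact hle h

lemma mul_Mlt (i : ι) (n : ℕ) (u : UniversalEnvelopingAlgebra k L) (hu : u ∈ Mlt b n) :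
    UniversalEnvelopingAlgebra.ι k (b i) * u ∈ Mlt b (n + 1) := by
  unfold Mlt at hu
  induction hu using Submodule.span_induction with
  | mem y hy =>
    obtain ⟨l, hl, rfl⟩ := hy
    rw [← mon_cons]
    exact Submodule.subset_span
      ⟨i :: l, by show (i :: l).length < n + 1; simpa using hl, rfl⟩
  | zero => simp
  | add y z _ _ hy hz => rw [mul_add]; exact Submodule.add_mem _ hy hz
  | smul c y _ hy => rw [mul_smul_comm]; exact Submodule.smul_mem _ _ hy

lemma perm_sub_mem {l l' : List ι} (h : l.Perm l') : mon b l - mon b l' ∈ Mlt b l.length := by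
  induction h with
  | nil => simp
  | cons a h ih =>
    rw [mon_cons, mon_cons, ← mul_sub]
    exact mul_Mlt b a _ _ ih
  | swap a c l =>
    rw [mon_cons, mon_cons, mon_cons, mon_cons, ← mul_assoc, ← mul_assoc, ← sub_mul]
    have e : UniversalEnvelopingAlgebra.ι k (b c) * UniversalEnvelopingAlgebra.ι k (b a) -
        UniversalEnvelopingAlgebra.ι k (b a) * UniversalEnvelopingAlgebra.ι k (b c) =
        UniversalEnvelopingAlgebra.ι k ⁅b c, b a⁆ := by
      rw [LieHom.map_lie, LieRing.of_associative_ring_bracket]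
    rw [e]
    exact ι_mul_mon_mem b _ l
  | trans h₁ h₂ ih₁ ih₂ =>
    rw [← h₁.length_eq] at ih₂
    have := Submodule.add_mem _ ih₁ ih₂
    simpa using this

lemma mon_mem_Osp : ∀ (n : ℕ) (l : List ι), l.length = n → mon b l ∈ Osp b := by
  intro n
  induction n using Nat.strong_induction_on with
  | _ n ih =>
    intro l hl
    have h1 : mon b (l.insertionSort (· ≤ ·)) ∈ Osp b :=
      Submodule.subset_span ⟨_, List.sortedLE_insertionSort, rfl⟩
    have h2 : mon b l - mon b (l.insertionSort (· ≤ ·)) ∈ Mlt b l.length :=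
      perm_sub_mem b (List.perm_insertionSort _ l).symm
    have h3 : Mlt b l.length ≤ Osp b := by
      apply Submodule.span_le.mpr
      rintro _ ⟨l', hl', rfl⟩
      exact ih l'.length (by rw [← hl]; exact hl') l' rfl
    have := Submodule.add_mem _ (h3 h2) h1
    simpa using this

theorem Mall_eq_top : Mall b = ⊤ := by
  rw [eq_top_iff]
  have hM : ∀ u : UniversalEnvelopingAlgebra k L, ∀ m ∈ Mall b, u * m ∈ Mall b := by
    intro u
    refine U_induction (C := fun u => ∀ m ∈ Mall b, u * m ∈ Mall b) ?_ ?_ ?_ ?_ u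
    · intro r m hm
      rw [← Algebra.smul_def]
      exact Submodule.smul_mem _ _ hm
    · intro x m hm
      unfold Mall at hm
      induction hm using Submodule.span_induction with
      | mem y hy => obtain ⟨l, rfl⟩ := hy; exact ι_mul_mon_mem_Mall b x l
      | zero => simp
      | add y z _ _ hy hz => rw [mul_add]; exact Submodule.add_mem _ hy hz
      | smul c y _ hy => rw [mul_smul_comm]; exact Submodule.smul_mem _ _ hy
    · intro a c ha hc m hm
      rw [mul_assoc]
      exact ha _ (hc m hm)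
    · intro a c ha hc m hm
      rw [add_mul]
      exact Submodule.add_mem _ (ha m hm) (hc m hm)
  intro u _
  have h1 : (1 : UniversalEnvelopingAlgebra k L) ∈ Mall b :=
    Submodule.subset_span ⟨[], mon_nil b⟩
  have := hM u 1 h1
  rwa [mul_one] at this

theorem Osp_eq_top : Osp b = ⊤ := by
  rw [eq_top_iff, ← Mall_eq_top b]
  apply Submodule.span_le.mpr
  rintro _ ⟨l, rfl⟩
  exact mon_mem_Osp b l.length l rfl


-- ===== from helper19 PBW2.lean =====


section SortedLists

variable {ι : Type w} [LinearOrder ι]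

/-- sorted lists -/
abbrev SL (ι : Type w) [LinearOrder ι] : Type w := {l : List ι // l.SortedLE}

namespace SL

/-- length -/
def len (I : SL ι) : ℕ := I.1.length

/-- the empty list -/
def nil : SL ι := ⟨[], List.Pairwise.nil.sortedLE⟩

/-- ordered insertion -/
def ins (i : ι) (I : SL ι) : SL ι :=
  ⟨I.1.orderedInsert (· ≤ ·) i, (I.2.pairwise.orderedInsert i _).sortedLE⟩

/-- tail -/
def tl (I : SL ι) : SL ι := ⟨I.1.tail, (I.2.pairwise.tail).sortedLE⟩

/-- `i` is at most every entry of `I` -/
def LeAll (i : ι) (I : SL ι) : Prop := ∀ x ∈ I.1, i ≤ x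

@[simp] lemma len_nil : (nil : SL ι).len = 0 := rfl

@[simp] lemma len_ins (i : ι) (I : SL ι) : (ins i I).len = I.len + 1 :=
  List.orderedInsert_length _ _ _

lemma eq_nil_of_len_eq_zero (I : SL ι) (h : I.len = 0) : I = nil := by
  apply Subtype.ext
  exact List.length_eq_zero_iff.mp h

lemma leAll_nil (i : ι) : LeAll i (nil : SL ι) := by
  intro x hx
  cases hx

lemma ins_val_of_leAll {i : ι} {I : SL ι} (h : LeAll i I) : (ins i I).1 = i :: I.1 := by
  obtain ⟨l, hl⟩ := I
  cases l with
  | nil => rfl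
  | cons j J => exact List.orderedInsert_cons_of_le _ _ (h j (by simp))

lemma tl_ins_of_leAll {i : ι} {I : SL ι} (h : LeAll i I) : tl (ins i I) = I := by
  apply Subtype.ext
  show (ins i I).1.tail = I.1
  rw [ins_val_of_leAll h]
  rfl

lemma head_ins_of_leAll {i : ι} {I : SL ι} (h : LeAll i I) : (ins i I).1.head? = some i := by
  rw [ins_val_of_leAll h]
  rfl

lemma leAll_ins {j i : ι} {I : SL ι} : LeAll j (ins i I) ↔ j ≤ i ∧ LeAll j I := by
  unfold LeAll ins
  simp only [List.mem_orderedInsert]
  constructor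
  · intro h
    exact ⟨h i (Or.inl rfl), fun x hx => h x (Or.inr hx)⟩
  · rintro ⟨h1, h2⟩ x (rfl | hx)
    · exact h1
    · exact h2 x hx

lemma ins_ins_of_lt {i j : ι} {T : SL ι} (hj : LeAll j T) (hji : j < i) :
    ins i (ins j T) = ins j (ins i T) := by
  apply Subtype.ext
  have h1 : LeAll j (ins i T) := leAll_ins.mpr ⟨hji.le, hj⟩
  rw [ins_val_of_leAll h1]
  show (ins j T).1.orderedInsert (· ≤ ·) i = _
  rw [ins_val_of_leAll hj, List.orderedInsert_of_not_le _ _ (not_le.mpr hji)]
  rfl

lemma exists_eq_ins (I : SL ι) (h : I.len ≠ 0) :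
    ∃ (j : ι) (T : SL ι), LeAll j T ∧ I = ins j T := by
  obtain ⟨l, hl⟩ := I
  cases l with
  | nil => exact absurd rfl h
  | cons j J =>
    have hp := hl.pairwise
    rw [List.pairwise_cons] at hp
    refine ⟨j, ⟨J, hp.2.sortedLE⟩, hp.1, ?_⟩
    apply Subtype.ext
    rw [ins_val_of_leAll (I := ⟨J, hp.2.sortedLE⟩) hp.1]

end SL

end SortedLists

open SL

section Module

variable {k : Type u} [CommRing k] {L : Type v} [LieRing L] [LieAlgebra k L]
variable {ι : Type w} [LinearOrder ι] (b : Module.Basis ι k L)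

variable (k) in
/-- basis vectors of the representation space `SL ι →₀ k` -/
noncomputable def e (I : SL ι) : SL ι →₀ k := Finsupp.single I 1

variable (k) in
/-- filtration by length -/
def F (n : ℕ) : Submodule k (SL ι →₀ k) := Finsupp.supported k k {I : SL ι | I.len ≤ n}

lemma e_mem_F {I : SL ι} {n : ℕ} (h : I.len ≤ n) : e k I ∈ F k n :=
  Finsupp.single_mem_supported k _ h

lemma F_mono {n m : ℕ} (h : n ≤ m) : F k (ι := ι) n ≤ F k m :=
  Finsupp.supported_mono (fun _ hI => le_trans hI h)

lemma exists_mem_F (w : SL ι →₀ k) : ∃ n, w ∈ F k n := by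
  refine ⟨w.support.sup SL.len, ?_⟩
  rw [F, Finsupp.mem_supported]
  intro I hI
  exact Finset.le_sup (f := SL.len) hI

lemma lc_mem {n : ℕ} (f : SL ι → (SL ι →₀ k)) (N : Submodule k (SL ι →₀ k))
    (hf : ∀ K : SL ι, K.len ≤ n → f K ∈ N) (w : SL ι →₀ k) (hw : w ∈ F k n) :
    Finsupp.linearCombination k f w ∈ N := by
  rw [Finsupp.linearCombination_apply]
  refine Submodule.sum_mem _ (fun K hK => Submodule.smul_mem _ _ (hf K ?_))
  rw [F, Finsupp.mem_supported] at hw
  exact hw hK

lemma lc_congr {n : ℕ} (f g : SL ι → (SL ι →₀ k))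
    (hfg : ∀ K : SL ι, K.len ≤ n → f K = g K) (w : SL ι →₀ k) (hw : w ∈ F k n) :
    Finsupp.linearCombination k f w = Finsupp.linearCombination k g w := by
  rw [Finsupp.linearCombination_apply, Finsupp.linearCombination_apply]
  refine Finset.sum_congr rfl (fun K hK => ?_)
  rw [F, Finsupp.mem_supported] at hw
  dsimp only
  rw [hfg K (hw hK)]

/-- a linear statement that holds on the basis vectors of `F n` holds on `F n` -/
lemma F_induction {n : ℕ} (φ ψ : (SL ι →₀ k) →ₗ[k] (SL ι →₀ k))
    (h : ∀ K : SL ι, K.len ≤ n → φ (e k K) = ψ (e k K)) (w : SL ι →₀ k) (hw : w ∈ F k n) :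
    φ w = ψ w := by
  rw [F, Finsupp.supported_eq_span_single] at hw
  induction hw using Submodule.span_induction with
  | mem x hx => obtain ⟨K, hK, rfl⟩ := hx; exact h K hK
  | zero => rw [map_zero, map_zero]
  | add x y _ _ hx hy => rw [map_add, map_add, hx, hy]
  | smul c x _ hx => rw [map_smul, map_smul, hx]

lemma basis_mem_of {N' : Type*} [AddCommGroup N'] [Module k N'] (φ : L →ₗ[k] N')
    (N : Submodule k N') (h : ∀ i, φ (b i) ∈ N) (x : L) : φ x ∈ N := by
  have : (⊤ : Submodule k L) ≤ N.comap φ := by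
    rw [← b.span_eq]
    exact Submodule.span_le.mpr (by rintro _ ⟨i, rfl⟩; exact h i)
  exact this trivial

/-- one step of the recursion -/
noncomputable def step (n : ℕ) (tn : ι → SL ι → (SL ι →₀ k)) (i : ι) (I : SL ι) : SL ι →₀ k :=
  if I.len ≤ n then tn i I else
    match I.1.head? with
    | none => e k (SL.ins i I)
    | some j =>
      if i ≤ j then e k (SL.ins i I)
      else e k (SL.ins j (SL.ins i I.tl)) +
        Finsupp.linearCombination k (tn j) (tn i I.tl - e k (SL.ins i I.tl)) +
        (b.constr k (fun k' => Finsupp.linearCombination k (tn k'))) ⁅b i, b j⁆ (e k I.tl)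

/-- the approximations of the action of `b i` on basis vectors -/
noncomputable def t : ℕ → ι → SL ι → (SL ι →₀ k)
  | 0 => fun i I => e k (SL.ins i I)
  | n + 1 => step b n (t n)

/-- the approximate action of `L` -/
noncomputable def TL (n : ℕ) : L →ₗ[k] (SL ι →₀ k) →ₗ[k] (SL ι →₀ k) :=
  b.constr k (fun k' => Finsupp.linearCombination k (t b n k'))

lemma TL_basis (n : ℕ) (i : ι) : TL b n (b i) = Finsupp.linearCombination k (t b n i) :=
  b.constr_basis k _ i

lemma t_succ_of_le {n : ℕ} {i : ι} {I : SL ι} (h : I.len ≤ n) : t b (n + 1) i I = t b n i I := by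
  show step b n (t b n) i I = _
  unfold step
  rw [if_pos h]

lemma t_succ_ins {n : ℕ} {i j : ι} {T : SL ι} (hj : LeAll j T) (hn : T.len = n) :
    t b (n + 1) i (SL.ins j T) = if i ≤ j then e k (SL.ins i (SL.ins j T)) else
      e k (SL.ins j (SL.ins i T)) +
        Finsupp.linearCombination k (t b n j) (t b n i T - e k (SL.ins i T)) +
        TL b n ⁅b i, b j⁆ (e k T) := by
  show step b n (t b n) i (SL.ins j T) = _
  unfold step
  have h1 : ¬ (SL.ins j T).len ≤ n := by rw [len_ins, hn]; omega
  rw [if_neg h1, head_ins_of_leAll hj]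
  simp only [tl_ins_of_leAll hj]
  rfl

lemma t_of_le {n m : ℕ} {i : ι} {I : SL ι} (h : I.len ≤ n) (hnm : n ≤ m) :
    t b m i I = t b n i I := by
  induction m, hnm using Nat.le_induction with
  | base => rfl
  | succ m hm ih => rw [t_succ_of_le b (le_trans h hm), ih]

/-- leading term -/
lemma t_sub_mem : ∀ (n : ℕ) (i : ι) (I : SL ι), I.len ≤ n →
    t b n i I - e k (SL.ins i I) ∈ F k I.len := by
  intro n
  induction n with
  | zero =>
    intro i I _
    show e k (SL.ins i I) - e k (SL.ins i I) ∈ _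
    rw [sub_self]
    exact Submodule.zero_mem _
  | succ n ih =>
    intro i I hI
    by_cases h : I.len ≤ n
    · rw [t_succ_of_le b h]
      exact ih i I h
    · have hlen : I.len = n + 1 := by omega
      obtain ⟨j, T, hjT, rfl⟩ := exists_eq_ins I (by omega)
      have hT : T.len = n := by rw [len_ins] at hlen; omega
      rw [t_succ_ins b hjT hT]
      by_cases hij : i ≤ j
      · rw [if_pos hij, sub_self]
        exact Submodule.zero_mem _
      · rw [if_neg hij, ins_ins_of_lt hjT (not_le.mp hij)]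
        have hmem : ∀ (i' : ι) (K : SL ι), K.len ≤ n → t b n i' K ∈ F k (n + 1) := by
          intro i' K hK
          have h1 := ih i' K hK
          have h2 : e k (SL.ins i' K) ∈ F k (n + 1) := e_mem_F (by rw [len_ins]; omega)
          have h3 : t b n i' K - e k (SL.ins i' K) ∈ F k (n + 1) := F_mono (by omega) h1
          have := Submodule.add_mem _ h3 h2
          rwa [sub_add_cancel] at this
        have hw : t b n i T - e k (SL.ins i T) ∈ F k n := by
          have := ih i T (le_of_eq hT)
          rwa [hT] at this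
        have hA : Finsupp.linearCombination k (t b n j) (t b n i T - e k (SL.ins i T)) ∈
            F k (n + 1) := lc_mem _ _ (fun K hK => hmem j K hK) _ hw
        have hB : TL b n ⁅b i, b j⁆ (e k T) ∈ F k (n + 1) := by
          refine basis_mem_of b ((TL b n).flip (e k T)) _ (fun i' => ?_) _
          rw [LinearMap.flip_apply, TL_basis]
          exact lc_mem _ _ (fun K hK => hmem i' K hK) _ (e_mem_F (le_of_eq hT))
        rw [len_ins, hT]
        have : e k (SL.ins j (SL.ins i T)) +
            Finsupp.linearCombination k (t b n j) (t b n i T - e k (SL.ins i T)) +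
            TL b n ⁅b i, b j⁆ (e k T) - e k (SL.ins j (SL.ins i T)) =
            Finsupp.linearCombination k (t b n j) (t b n i T - e k (SL.ins i T)) +
            TL b n ⁅b i, b j⁆ (e k T) := by abel
        rw [this]
        exact F_mono (by omega) (Submodule.add_mem _ hA hB)

/-- on `i ≤ I` the action is insertion -/
lemma t_of_leAll : ∀ (n : ℕ) (i : ι) (I : SL ι), I.len ≤ n → LeAll i I →
    t b n i I = e k (SL.ins i I) := by
  intro n
  induction n with
  | zero => intro i I _ _; rfl
  | succ n ih =>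
    intro i I hI hiI
    by_cases h : I.len ≤ n
    · rw [t_succ_of_le b h]
      exact ih i I h hiI
    · obtain ⟨j, T, hjT, rfl⟩ := exists_eq_ins I (by omega)
      have hT : T.len = n := by rw [len_ins] at hI h; omega
      rw [t_succ_ins b hjT hT, if_pos (leAll_ins.mp hiI).1]

/-- the action of `b i` -/
noncomputable def rho (i : ι) : (SL ι →₀ k) →ₗ[k] (SL ι →₀ k) :=
  Finsupp.linearCombination k (fun I => t b I.len i I)

/-- the action of `L` -/
noncomputable def rhoL : L →ₗ[k] (SL ι →₀ k) →ₗ[k] (SL ι →₀ k) :=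
  b.constr k (rho b)

lemma rhoL_basis (i : ι) : rhoL b (b i) = rho b i := b.constr_basis k _ i

lemma rho_e (i : ι) (I : SL ι) : rho b i (e k I) = t b I.len i I := by
  unfold rho e
  rw [Finsupp.linearCombination_single, one_smul]

lemma t_eq_rho {n : ℕ} {i : ι} {I : SL ι} (h : I.len ≤ n) : t b n i I = rho b i (e k I) := by
  rw [rho_e, t_of_le b le_rfl h]

lemma lc_t_eq_rho {n : ℕ} (i : ι) (w : SL ι →₀ k) (hw : w ∈ F k n) :
    Finsupp.linearCombination k (t b n i) w = rho b i w :=
  lc_congr _ _ (fun K hK => t_of_le b le_rfl hK) w hw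

lemma TL_eq_rhoL {n : ℕ} (x : L) (w : SL ι →₀ k) (hw : w ∈ F k n) :
    TL b n x w = rhoL b x w := by
  have : (TL b n).flip w = (rhoL b).flip w := by
    apply b.ext
    intro i
    rw [LinearMap.flip_apply, LinearMap.flip_apply, TL_basis, rhoL_basis, lc_t_eq_rho b i w hw]
  exact LinearMap.congr_fun this x

lemma rho_e_sub_mem (i : ι) (I : SL ι) : rho b i (e k I) - e k (SL.ins i I) ∈ F k I.len := by
  rw [rho_e]
  exact t_sub_mem b I.len i I le_rfl

lemma rho_mem {n : ℕ} (i : ι) (w : SL ι →₀ k) (hw : w ∈ F k n) : rho b i w ∈ F k (n + 1) := by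
  rw [← lc_t_eq_rho b i w hw]
  refine lc_mem _ _ (fun K hK => ?_) w hw
  rw [t_eq_rho b hK]
  have h1 := rho_e_sub_mem b i K
  have h2 : e k (SL.ins i K) ∈ F k (n + 1) := e_mem_F (by rw [len_ins]; omega)
  have h3 : rho b i (e k K) - e k (SL.ins i K) ∈ F k (n + 1) := F_mono (by omega) h1
  have := Submodule.add_mem _ h3 h2
  rwa [sub_add_cancel] at this

lemma rho_e_of_leAll {i : ι} {I : SL ι} (h : LeAll i I) : rho b i (e k I) = e k (SL.ins i I) := by
  rw [rho_e]
  exact t_of_leAll b I.len i I le_rfl h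

/-- the defining relation in the basic case -/
lemma rho_rho_of_lt {i j : ι} {T : SL ι} (hj : LeAll j T) (hji : j < i) :
    rho b i (rho b j (e k T)) = rho b j (rho b i (e k T)) + rhoL b ⁅b i, b j⁆ (e k T) := by
  rw [rho_e_of_leAll b hj, rho_e, len_ins, t_succ_ins b hj rfl, if_neg (not_le.mpr hji)]
  have hw : t b T.len i T - e k (SL.ins i T) ∈ F k T.len := t_sub_mem b T.len i T le_rfl
  rw [lc_t_eq_rho b j _ hw, TL_eq_rhoL b _ _ (e_mem_F le_rfl), t_eq_rho b le_rfl, map_sub,
    rho_e_of_leAll b (leAll_ins.mpr ⟨hji.le, hj⟩)]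
  abel

end Module


-- ===== from helper19 PBW3.lean =====


open SL


section Rel

variable {k : Type u} [CommRing k] {L : Type v} [LieRing L] [LieAlgebra k L]
variable {ι : Type w} [LinearOrder ι] (b : Module.Basis ι k L)

/-- the Lie relation on `F n` -/
def Rel (n : ℕ) : Prop := ∀ (x y : L) (w : SL ι →₀ k), w ∈ F k n →
  rhoL b x (rhoL b y w) - rhoL b y (rhoL b x w) = rhoL b ⁅x, y⁆ w

/-- the Lie relation on basis vectors of length `≤ n` -/
def RelB (n : ℕ) : Prop := ∀ (i j : ι) (J : SL ι), J.len ≤ n →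
  rho b i (rho b j (e k J)) - rho b j (rho b i (e k J)) = rhoL b ⁅b i, b j⁆ (e k J)

lemma rel_of_relB {n : ℕ} (h : RelB b n) : Rel b n := by
  intro x y w hw
  have h1 : ∀ i j, rho b i (rho b j w) - rho b j (rho b i w) = rhoL b ⁅b i, b j⁆ w := by
    intro i j
    have := F_induction (n := n) (rho b i ∘ₗ rho b j - rho b j ∘ₗ rho b i) (rhoL b ⁅b i, b j⁆)
      (fun K hK => by
        simp only [LinearMap.sub_apply, LinearMap.comp_apply]
        exact h i j K hK) w hw
    simpa only [LinearMap.sub_apply, LinearMap.comp_apply] using this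
  let T1 : L →ₗ[k] L →ₗ[k] (SL ι →₀ k) := (rhoL b).compl₂ ((rhoL b).flip w)
  let Ψ₂ : L →ₗ[k] L →ₗ[k] (SL ι →₀ k) :=
    ((LieAlgebra.ad k L : L →ₗ⁅k⁆ Module.End k L) : L →ₗ[k] Module.End k L).compr₂ ((rhoL b).flip w)
  have hΨ : T1 = T1.flip + Ψ₂ := by
    apply b.ext
    intro i
    apply b.ext
    intro j
    simp only [T1, Ψ₂, LinearMap.add_apply, LinearMap.compl₂_apply, LinearMap.flip_apply,
      LinearMap.compr₂_apply, LieHom.coe_toLinearMap, LieAlgebra.ad_apply, rhoL_basis]
    rw [← h1 i j]
    abel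
  have := LinearMap.congr_fun (LinearMap.congr_fun hΨ x) y
  simp only [T1, Ψ₂, LinearMap.add_apply, LinearMap.compl₂_apply, LinearMap.flip_apply,
    LinearMap.compr₂_apply, LieHom.coe_toLinearMap, LieAlgebra.ad_apply] at this
  rw [this]
  abel

lemma easy1 {i j : ι} {J : SL ι} (hj : LeAll j J) (hji : j < i) :
    rho b i (rho b j (e k J)) - rho b j (rho b i (e k J)) = rhoL b ⁅b i, b j⁆ (e k J) := by
  rw [rho_rho_of_lt b hj hji]
  abel

lemma easy2 {i j : ι} {J : SL ι} (hi : LeAll i J) (hij : i < j) :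
    rho b i (rho b j (e k J)) - rho b j (rho b i (e k J)) = rhoL b ⁅b i, b j⁆ (e k J) := by
  rw [rho_rho_of_lt b hi hij, ← lie_skew (b i) (b j), map_neg, LinearMap.neg_apply]
  abel

lemma hard {n : ℕ} (hRel : Rel b n) {i j l : ι} {N : SL ι} (hN : N.len ≤ n) (hl : LeAll l N)
    (hli : l < i) (hlj : l < j) :
    rho b i (rho b j (e k (SL.ins l N))) - rho b j (rho b i (e k (SL.ins l N))) =
      rhoL b ⁅b i, b j⁆ (e k (SL.ins l N)) := by
  have hd : e k (SL.ins l N) = rho b l (e k N) := (rho_e_of_leAll b hl).symm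
  rw [hd]
  generalize hv : e k N = v
  have hvF : v ∈ F k n := by rw [← hv]; exact e_mem_F hN
  have star : ∀ i' j' : ι, l < i' → l < j' →
      rho b i' (rho b l (rho b j' v)) =
        rho b l (rho b i' (rho b j' v)) + rhoL b ⁅b i', b l⁆ (rho b j' v) := by
    intro i' j' hi' hj'
    have hw : rho b j' v - e k (SL.ins j' N) ∈ F k n := by
      rw [← hv]
      exact F_mono hN (rho_e_sub_mem b j' N)
    have e1 := easy1 b (i := i') (j := l) (J := SL.ins j' N) (leAll_ins.mpr ⟨hj'.le, hl⟩) hi'
    have e2 := hRel (b i') (b l) _ hw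
    rw [rhoL_basis, rhoL_basis] at e2
    have e3 : rho b j' v = e k (SL.ins j' N) + (rho b j' v - e k (SL.ins j' N)) := by abel
    have e4 : rho b i' (rho b l (rho b j' v)) - rho b l (rho b i' (rho b j' v)) =
        rhoL b ⁅b i', b l⁆ (rho b j' v) := by
      generalize rho b j' v - e k (SL.ins j' N) = w' at e2 e3
      rw [e3]
      simp only [map_add]
      rw [← e1, ← e2]
      abel
    rw [← e4]
    abel
  have h1 : rho b j (rho b l v) = rho b l (rho b j v) + rhoL b ⁅b j, b l⁆ v := by
    have := hRel (b j) (b l) v hvF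
    rw [rhoL_basis, rhoL_basis] at this
    rw [← this]
    abel
  have h1' : rho b i (rho b l v) = rho b l (rho b i v) + rhoL b ⁅b i, b l⁆ v := by
    have := hRel (b i) (b l) v hvF
    rw [rhoL_basis, rhoL_basis] at this
    rw [← this]
    abel
  have h2 := star i j hli hlj
  have h2' := star j i hlj hli
  have h3 : rho b i (rho b j v) - rho b j (rho b i v) = rhoL b ⁅b i, b j⁆ v := by
    have := hRel (b i) (b j) v hvF
    rwa [rhoL_basis, rhoL_basis] at this
  have h4 : rhoL b ⁅b i, b l⁆ (rho b j v) - rho b j (rhoL b ⁅b i, b l⁆ v) =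
      rhoL b ⁅⁅b i, b l⁆, b j⁆ v := by
    have := hRel ⁅b i, b l⁆ (b j) v hvF
    rwa [rhoL_basis] at this
  have h4' : rhoL b ⁅b j, b l⁆ (rho b i v) - rho b i (rhoL b ⁅b j, b l⁆ v) =
      rhoL b ⁅⁅b j, b l⁆, b i⁆ v := by
    have := hRel ⁅b j, b l⁆ (b i) v hvF
    rwa [rhoL_basis] at this
  have h5 : rhoL b ⁅b i, b j⁆ (rho b l v) - rho b l (rhoL b ⁅b i, b j⁆ v) =
      rhoL b ⁅⁅b i, b j⁆, b l⁆ v := by
    have := hRel ⁅b i, b j⁆ (b l) v hvF
    rwa [rhoL_basis] at this
  have hJ : ⁅⁅b i, b l⁆, b j⁆ - ⁅⁅b j, b l⁆, b i⁆ = ⁅⁅b i, b j⁆, b l⁆ := by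
    rw [← lie_skew ⁅b i, b l⁆ (b j), ← lie_skew ⁅b j, b l⁆ (b i), lie_lie (b i) (b j) (b l)]
    abel
  have h6 : rhoL b ⁅⁅b i, b l⁆, b j⁆ v - rhoL b ⁅⁅b j, b l⁆, b i⁆ v =
      rhoL b ⁅⁅b i, b j⁆, b l⁆ v := by
    rw [← hJ, map_sub, LinearMap.sub_apply]
  have e1 : rho b i (rho b j (rho b l v)) = rho b l (rho b i (rho b j v)) +
      rhoL b ⁅b i, b l⁆ (rho b j v) + rho b i (rhoL b ⁅b j, b l⁆ v) := by
    rw [h1, map_add, h2]
  have e2 : rho b j (rho b i (rho b l v)) = rho b l (rho b j (rho b i v)) +
      rhoL b ⁅b j, b l⁆ (rho b i v) + rho b j (rhoL b ⁅b i, b l⁆ v) := by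
    rw [h1', map_add, h2']
  have e3 : rho b l (rho b i (rho b j v)) - rho b l (rho b j (rho b i v)) =
      rho b l (rhoL b ⁅b i, b j⁆ v) := by
    rw [← map_sub, h3]
  have e4 : rhoL b ⁅b i, b j⁆ (rho b l v) =
      rho b l (rhoL b ⁅b i, b j⁆ v) + rhoL b ⁅⁅b i, b j⁆, b l⁆ v := by
    rw [← h5]
    abel
  rw [e1, e2, e4, ← h6, ← h4, ← h4', ← e3]
  abel

theorem relB_all : ∀ n, RelB b n := by
  intro n
  induction n with
  | zero =>
    intro i j J hJ
    have hJ0 : J = SL.nil := eq_nil_of_len_eq_zero J (by omega)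
    subst hJ0
    rcases lt_trichotomy i j with hij | rfl | hji
    · exact easy2 b (leAll_nil i) hij
    · rw [lie_self, map_zero, LinearMap.zero_apply, sub_self]
    · exact easy1 b (leAll_nil j) hji
  | succ n ih =>
    intro i j J hJ
    by_cases h : J.len ≤ n
    · exact ih i j J h
    · obtain ⟨l, N, hlN, rfl⟩ := exists_eq_ins J (by omega)
      have hN : N.len ≤ n := by rw [len_ins] at hJ; omega
      have hRel := rel_of_relB b ih
      rcases lt_trichotomy i j with hij | rfl | hji
      · by_cases hil : i ≤ l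
        · exact easy2 b (leAll_ins.mpr ⟨hil, fun x hx => le_trans hil (hlN x hx)⟩) hij
        · have hli : l < i := not_le.mp hil
          exact hard b hRel hN hlN hli (lt_trans hli hij)
      · rw [lie_self, map_zero, LinearMap.zero_apply, sub_self]
      · by_cases hjl : j ≤ l
        · exact easy1 b (leAll_ins.mpr ⟨hjl, fun x hx => le_trans hjl (hlN x hx)⟩) hji
        · have hlj : l < j := not_le.mp hjl
          exact hard b hRel hN hlN (lt_trans hlj hji) hlj

theorem rel_all (x y : L) (w : SL ι →₀ k) :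
    rhoL b x (rhoL b y w) - rhoL b y (rhoL b x w) = rhoL b ⁅x, y⁆ w := by
  obtain ⟨n, hn⟩ := exists_mem_F w
  exact rel_of_relB b (relB_all b n) x y w hn

/-- the representation of `L` on the free module on sorted lists -/
noncomputable def rhoLie : L →ₗ⁅k⁆ Module.End k (SL ι →₀ k) :=
  { toLinearMap := rhoL b
    map_lie' := by
      intro x y
      apply LinearMap.ext
      intro w
      rw [LieRing.of_associative_ring_bracket]
      show rhoL b ⁅x, y⁆ w = (rhoL b x * rhoL b y - rhoL b y * rhoL b x) w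
      rw [LinearMap.sub_apply, Module.End.mul_apply, Module.End.mul_apply]
      exact (rel_all b x y w).symm }

/-- the induced algebra map -/
noncomputable def Phi : UniversalEnvelopingAlgebra k L →ₐ[k] Module.End k (SL ι →₀ k) :=
  UniversalEnvelopingAlgebra.lift k (rhoLie b)

lemma Phi_ι (x : L) : Phi b (UniversalEnvelopingAlgebra.ι k x) = rhoL b x :=
  UniversalEnvelopingAlgebra.lift_ι_apply k (rhoLie b) x

lemma Phi_mon (l : List ι) (hl : l.SortedLE) :
    Phi b (mon b l) (e k SL.nil) = e k ⟨l, hl⟩ := by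
  induction l with
  | nil =>
    rw [mon_nil, map_one]
    rfl
  | cons i l ih =>
    have hp := hl.pairwise
    rw [List.pairwise_cons] at hp
    have hl' : l.SortedLE := hp.2.sortedLE
    rw [mon_cons, map_mul, Module.End.mul_apply, ih hl', Phi_ι, rhoL_basis,
      rho_e_of_leAll b (I := ⟨l, hl'⟩) hp.1]
    congr 1
    apply Subtype.ext
    exact ins_val_of_leAll (I := ⟨l, hl'⟩) hp.1

/-- **Poincaré–Birkhoff–Witt.** -/
theorem pbw : ∃ B : Module.Basis {l : List ι // l.SortedLE} k (UniversalEnvelopingAlgebra k L),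
    ∀ l, B l = (l.1.map fun i => UniversalEnvelopingAlgebra.ι k (b i)).prod := by
  have hli : LinearIndependent k (fun I : SL ι => mon b I.1) := by
    let ψ : UniversalEnvelopingAlgebra k L →ₗ[k] (SL ι →₀ k) :=
      (LinearMap.applyₗ (e k SL.nil)) ∘ₗ (Phi b).toLinearMap
    apply LinearIndependent.of_comp ψ
    have : (ψ ∘ fun I : SL ι => mon b I.1) = fun I => Finsupp.single I (1 : k) := by
      funext I
      exact Phi_mon b I.1 I.2
    rw [this]
    exact Finsupp.linearIndependent_single_one k (SL ι)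
  have hsp : ⊤ ≤ Submodule.span k (Set.range (fun I : SL ι => mon b I.1)) := by
    rw [← Osp_eq_top b]
    apply Submodule.span_mono
    rintro _ ⟨l, hl, rfl⟩
    exact ⟨⟨l, hl⟩, rfl⟩
  exact ⟨Module.Basis.mk hli hsp, fun l => by rw [Module.Basis.mk_apply]; rfl⟩

end Rel



-- ===== helper29: injectivity of `ι` =====

section Inj

lemma ins_nil_injective {ι : Type w} [LinearOrder ι] :
    Function.Injective (fun i : ι => SL.ins i (SL.nil : SL ι)) := by
  intro i j h
  have h1 : (SL.ins i (SL.nil : SL ι)).1 = (SL.ins j (SL.nil : SL ι)).1 := congrArg Subtype.val h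
  rw [SL.ins_val_of_leAll (SL.leAll_nil i), SL.ins_val_of_leAll (SL.leAll_nil j)] at h1
  exact (List.cons.inj h1).1

theorem ι_injective_of_linearOrder {k : Type u} [CommRing k] {L : Type v} [LieRing L]
    [LieAlgebra k L] {ι : Type w} [LinearOrder ι] (b : Module.Basis ι k L) :
    Function.Injective (UniversalEnvelopingAlgebra.ι k : L → UniversalEnvelopingAlgebra k L) := by
  have hΨ : (rhoL b).flip (e k SL.nil) =
      (Finsupp.lmapDomain k k (fun i : ι => SL.ins i (SL.nil : SL ι))) ∘ₗ
        b.repr.toLinearMap := by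
    apply b.ext
    intro i
    rw [LinearMap.flip_apply, rhoL_basis, rho_e_of_leAll b (SL.leAll_nil i), LinearMap.comp_apply,
      LinearEquiv.coe_coe, Module.Basis.repr_self, Finsupp.lmapDomain_apply,
      Finsupp.mapDomain_single]
    rfl
  intro x x' hxx
  have h1 : (rhoL b).flip (e k SL.nil) x = (rhoL b).flip (e k SL.nil) x' := by
    rw [LinearMap.flip_apply, LinearMap.flip_apply, ← Phi_ι, ← Phi_ι, hxx]
  rw [hΨ, LinearMap.comp_apply, LinearMap.comp_apply, Finsupp.lmapDomain_apply,
    Finsupp.lmapDomain_apply] at h1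
  exact b.repr.injective (Finsupp.mapDomain_injective ins_nil_injective h1)

end Inj

/-- `L → U(L)` is injective for a Lie algebra that is free as a module over a commutative ring. -/
theorem ι_injective {k : Type u} [CommRing k] {L : Type v} [LieRing L] [LieAlgebra k L]
    {ι : Type w} (b : Module.Basis ι k L) :
    Function.Injective (UniversalEnvelopingAlgebra.ι k : L → UniversalEnvelopingAlgebra k L) := by
  obtain ⟨inst, -⟩ := exists_wellFoundedLT ι
  exact ι_injective_of_linearOrder b

end Groth.Agent.Lib.Helper29.PBWRing
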