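import Mathlib
import Groth.Prelude.Def_PLie
import Groth.Agent.Lib.Helper29.PBWRing
import Groth.Agent.Lib.Helper29.JacobsonAssoc

/-!
# Jacobson's theorem on the existence of `p`-maps (helper29)

Let `L` be a Lie algebra over a commutative ring `R` of prime characteristic `p`, free as a module with
basis `b`, and `y i` elements with `(ad (b i))^p = ad (y i)`.  Then there is exactly one `p`-map with
`b i ↦ y i`.  The proof is the classical one inside the universal enveloping algebra `U(L)` (into which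
`L` embeds by PBW): `z i = (b i)^p - y i` is central in `U(L)`, the map `x ↦ x^p - f(x)`, where `f` is
the `p`-semilinear extension of `b i ↦ z i`, takes values in `L`, and it is the required `p`-map by
Jacobson's formula in the associative algebra `U(L)`.
-/

set_option autoImplicit false
universe u v w

namespace Groth.Agent.Lib.Helper29.JacobsonThm

open PLie
open Groth.Agent.Lib.Helper29
open Groth.Agent.Lib.Helper29.JacobsonAssoc

attribute [local instance 100] LieRing.ofAssociativeRing

section Maps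

variable (R : Type u) [CommRing R] (p : ℕ) [CharP R p]
variable {L : Type v} [LieRing L] [LieAlgebra R L] {L' : Type w} [LieRing L'] [LieAlgebra R L']

omit [CharP R p] in
lemma map_bracketWord (f : L →ₗ⁅R⁆ L') {κ : Type} (x : κ → L) (x₁ : L) (w : List κ) :
    f (bracketWord x x₁ w) = bracketWord (fun i => f (x i)) (f x₁) w := by
  induction w with
  | nil => rfl
  | cons i w ih => rw [bracketWord_cons, bracketWord_cons, LieHom.map_lie, ih]

omit [CharP R p] in
lemma map_pair (f : L →ₗ⁅R⁆ L') (x₀ x₁ : L) :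
    (fun s => f (pair x₀ x₁ s)) = pair (f x₀) (f x₁) := by
  funext s
  cases s <;> simp [pair]

lemma map_jacobson (f : L →ₗ⁅R⁆ L') (x₀ x₁ : L) :
    f (jacobson R p x₀ x₁) = jacobson R p (f x₀) (f x₁) := by
  unfold jacobson
  rw [map_sum]
  refine Finset.sum_congr rfl fun t _ => ?_
  rw [map_smul, map_bracketWord, map_pair]

end Maps

section Env

variable (R : Type u) [CommRing R] (p : ℕ) [hp : Fact p.Prime] [CharP R p]
variable {L : Type v} [LieRing L] [LieAlgebra R L] {ι : Type w} (b : Module.Basis ι R L) (y : ι → L)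

omit hp [CharP R p] in
lemma ι_adpow (x : L) (n : ℕ) : ∀ z : L,
    UniversalEnvelopingAlgebra.ι R (((LieAlgebra.ad R L x) ^ n) z) =
      ((adE R (UniversalEnvelopingAlgebra.ι R x)) ^ n) (UniversalEnvelopingAlgebra.ι R z) := by
  induction n with
  | zero => intro z; simp
  | succ n ih =>
    intro z
    have h1 : UniversalEnvelopingAlgebra.ι R (LieAlgebra.ad R L x z) =
        adE R (UniversalEnvelopingAlgebra.ι R x) (UniversalEnvelopingAlgebra.ι R z) := by
      rw [LieAlgebra.ad_apply, LieHom.map_lie, adE_apply, Ring.lie_def]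
    rw [pow_succ, Module.End.mul_apply, pow_succ, Module.End.mul_apply, ih, h1]

/-- the central element `(b i)^p - y i` of `U(L)` -/
noncomputable def zc (i : ι) : UniversalEnvelopingAlgebra R L :=
  UniversalEnvelopingAlgebra.ι R (b i) ^ p - UniversalEnvelopingAlgebra.ι R (y i)

lemma zc_central (hy : ∀ i : ι, LieAlgebra.ad R L (b i) ^ p = LieAlgebra.ad R L (y i)) (i : ι)
    (u : UniversalEnvelopingAlgebra R L) : zc R p b y i * u = u * zc R p b y i := by
  refine PBWRing.U_induction (C := fun u => zc R p b y i * u = u * zc R p b y i) ?_ ?_ ?_ ?_ u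
  · intro r
    exact (Algebra.commutes r _).symm
  · intro x
    have h1 := ι_adpow R (b i) p x
    rw [hy i, adE_pow_char R p, LieAlgebra.ad_apply, LieHom.map_lie, Ring.lie_def] at h1
    unfold zc
    rw [sub_mul, mul_sub]
    rw [sub_eq_sub_iff_add_eq_add] at h1 ⊢
    rw [← h1, add_comm]
  · intro a c ha hc
    show zc R p b y i * (a * c) = a * c * zc R p b y i
    rw [← mul_assoc, ha, mul_assoc, hc, ← mul_assoc]
  · intro a c ha hc
    show zc R p b y i * (a + c) = (a + c) * zc R p b y i
    rw [mul_add, add_mul, ha, hc]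

/-- the `p`-semilinear extension of `b i ↦ zc i` -/
noncomputable def fz (x : L) : UniversalEnvelopingAlgebra R L :=
  (b.repr x).sum fun i c => c ^ p • zc R p b y i

lemma fz_zero : fz R p b y 0 = 0 := by
  unfold fz
  rw [map_zero, Finsupp.sum_zero_index]

lemma fz_add (x x' : L) : fz R p b y (x + x') = fz R p b y x + fz R p b y x' := by
  unfold fz
  rw [map_add]
  refine Finsupp.sum_add_index' (h := fun i c => c ^ p • zc R p b y i) (fun i => ?_)
    (fun i c c' => ?_)
  · show (0 : R) ^ p • zc R p b y i = 0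
    rw [zero_pow hp.out.ne_zero, zero_smul]
  · show (c + c') ^ p • zc R p b y i = c ^ p • zc R p b y i + c' ^ p • zc R p b y i
    rw [add_pow_char c c' p, add_smul]

lemma fz_smul (c : R) (x : L) : fz R p b y (c • x) = c ^ p • fz R p b y x := by
  unfold fz
  rw [map_smul, Finsupp.sum_smul_index' (h := fun i a => a ^ p • zc R p b y i)
    (fun i => by rw [zero_pow hp.out.ne_zero, zero_smul]), Finsupp.smul_sum]
  refine Finsupp.sum_congr fun i _ => ?_
  show (c • (b.repr x) i) ^ p • zc R p b y i = c ^ p • ((b.repr x) i) ^ p • zc R p b y i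
  rw [smul_eq_mul, mul_pow, mul_smul]

lemma fz_basis (i : ι) : fz R p b y (b i) = zc R p b y i := by
  unfold fz
  rw [Module.Basis.repr_self, Finsupp.sum_single_index, one_pow, one_smul]
  rw [zero_pow hp.out.ne_zero, zero_smul]

lemma fz_central (hy : ∀ i : ι, LieAlgebra.ad R L (b i) ^ p = LieAlgebra.ad R L (y i)) (x : L)
    (u : UniversalEnvelopingAlgebra R L) : fz R p b y x * u = u * fz R p b y x := by
  unfold fz
  rw [Finsupp.sum_mul, Finsupp.mul_sum]
  refine Finsupp.sum_congr fun i _ => ?_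
  show ((b.repr x) i) ^ p • zc R p b y i * u = u * ((b.repr x) i) ^ p • zc R p b y i
  rw [smul_mul_assoc, mul_smul_comm, zc_central R p b y hy i u]

/-- `x ^ p - fz x` lies in (the image of) `L`. -/
lemma key (x : L) : ∃ x' : L,
    UniversalEnvelopingAlgebra.ι R x' = UniversalEnvelopingAlgebra.ι R x ^ p - fz R p b y x := by
  have hx : x ∈ Submodule.span R (Set.range b) := by rw [b.span_eq]; exact Submodule.mem_top
  induction hx using Submodule.span_induction with
  | mem x h =>
    obtain ⟨i, rfl⟩ := h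
    refine ⟨y i, ?_⟩
    rw [fz_basis]
    unfold zc
    rw [sub_sub_cancel]
  | zero =>
    refine ⟨0, ?_⟩
    rw [map_zero, zero_pow hp.out.ne_zero, fz_zero, sub_zero]
  | add x₁ x₂ _ _ h₁ h₂ =>
    obtain ⟨x₁', h₁⟩ := h₁
    obtain ⟨x₂', h₂⟩ := h₂
    refine ⟨x₁' + x₂' - jacobson R p x₁ x₂, ?_⟩
    rw [map_sub, map_add, h₁, h₂, map_jacobson, map_add, add_pow_char_eq R p, fz_add]
    abel
  | smul c x _ h =>
    obtain ⟨x', h⟩ := h
    refine ⟨c ^ p • x', ?_⟩
    rw [map_smul, h, map_smul, _root_.smul_pow, fz_smul, smul_sub]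

theorem exists_pmap (hy : ∀ i : ι, LieAlgebra.ad R L (b i) ^ p = LieAlgebra.ad R L (y i)) :
    ∃ φ : PMap R p L, ∀ i : ι, φ (b i) = y i := by
  have hinj := PBWRing.ι_injective (k := R) b
  choose phi hphi using key R p b y
  refine ⟨⟨phi, ?_, ?_, ?_⟩, ?_⟩
  · intro c x
    apply hinj
    rw [hphi, map_smul, map_smul, _root_.smul_pow, fz_smul, hphi, smul_sub]
  · intro x
    refine LinearMap.ext fun z => hinj ?_
    rw [LieAlgebra.ad_apply, LieHom.map_lie, Ring.lie_def, hphi, ι_adpow, adE_pow_char R p, sub_mul,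
      mul_sub, fz_central R p b y hy]
    abel
  · intro x₀ x₁
    apply hinj
    rw [map_sub, map_add, hphi, hphi, hphi, map_jacobson, map_add, add_pow_char_eq R p, fz_add]
    abel
  · intro i
    apply hinj
    show UniversalEnvelopingAlgebra.ι R (phi (b i)) = UniversalEnvelopingAlgebra.ι R (y i)
    rw [hphi, fz_basis]
    unfold zc
    rw [sub_sub_cancel]

omit hp in
lemma PMap_ext {φ ψ : PMap R p L} (h : ∀ x, φ x = ψ x) : φ = ψ := by
  cases φ with
  | mk f h1 h2 h3 =>
    cases ψ with
    | mk g k1 k2 k3 =>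
      have hfg : f = g := funext h
      subst hfg
      rfl

lemma pmap_zero (φ : PMap R p L) : φ 0 = 0 := by
  have h := φ.map_smul 0 0
  rw [zero_smul, zero_pow hp.out.ne_zero, zero_smul] at h
  exact h

theorem pmap_unique (φ ψ : PMap R p L) (h : ∀ i : ι, φ (b i) = ψ (b i)) : φ = ψ := by
  refine PMap_ext R p fun x => ?_
  have hx : x ∈ Submodule.span R (Set.range b) := by rw [b.span_eq]; exact Submodule.mem_top
  induction hx using Submodule.span_induction with
  | mem x hx =>
    obtain ⟨i, rfl⟩ := hx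
    exact h i
  | zero => rw [pmap_zero, pmap_zero]
  | add x₁ x₂ _ _ h₁ h₂ =>
    show φ.toFun (x₁ + x₂) = ψ.toFun (x₁ + x₂)
    rw [φ.map_add, ψ.map_add]
    show φ x₁ + φ x₂ - _ = ψ x₁ + ψ x₂ - _
    rw [h₁, h₂]
  | smul c x _ hx =>
    show φ.toFun (c • x) = ψ.toFun (c • x)
    rw [φ.map_smul, ψ.map_smul]
    show c ^ p • φ x = c ^ p • ψ x
    rw [hx]

/-- **Jacobson's theorem.** -/
theorem existsUnique_pmap (hy : ∀ i : ι, LieAlgebra.ad R L (b i) ^ p = LieAlgebra.ad R L (y i)) :
    ∃! φ : PMap R p L, ∀ i : ι, φ (b i) = y i := by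
  obtain ⟨Φ, hΦ⟩ := exists_pmap R p b y hy
  refine ⟨Φ, hΦ, fun ψ hψ => ?_⟩
  exact pmap_unique R p b ψ Φ fun i => by rw [hψ i, hΦ i]

end Env

end Groth.Agent.Lib.Helper29.JacobsonThm
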