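import Mathlib
import Groth.Prelude.Def_PLie
import Groth.Agent.Lib.Helper29.PBWRing
import Groth.Agent.Lib.Helper29.JacobsonAssoc
import Groth.Agent.Lib.Helper29.JacobsonThm

/-!
# The restricted enveloping algebra and the embedding of a restricted Lie algebra in matrices (helper29)

Let `(L, φ)` be a finite-dimensional restricted Lie algebra over a field `k` of characteristic `p`, with basis
`b`.  In `U(L)` the elements `z i = (b i)^p - φ (b i)` are central; let `J` be the left (= two-sided) ideal
they generate.  Using PBW we show that the elements `z^β x^α` (`α i < p`) form a basis of `U(L)`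
(triangular change of basis w.r.t. the PBW basis), that `J` is spanned by those with `β ≠ 0`, hence that
`U(L)/J` is finite-dimensional and `L → U(L)/J` is injective.  The left regular representation of `U(L)` on
`U(L)/J` then realises `(L, φ)` as a restricted Lie subalgebra of a matrix algebra.
-/

set_option autoImplicit false
universe u v

namespace Groth.Agent.Lib.Helper29.RestrictedEnv

open PLie
open Groth.Agent.Lib.Helper29
open Groth.Agent.Lib.Helper29.PBWRing
open Groth.Agent.Lib.Helper29.JacobsonAssoc
open Groth.Agent.Lib.Helper29.JacobsonThm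

attribute [local instance 100] LieRing.ofAssociativeRing

section Lists

variable {d : ℕ}

/-- the sorted list with prescribed multiplicities -/
def toList (a : Fin d → ℕ) : List (Fin d) :=
  (List.finRange d).flatMap (fun i => List.replicate (a i) i)

lemma toList_sorted (a : Fin d → ℕ) : (toList a).SortedLE := by
  apply List.Pairwise.sortedLE
  unfold toList
  rw [List.pairwise_flatMap]
  refine ⟨fun i _ => List.pairwise_replicate.mpr (Or.inr le_rfl), ?_⟩
  refine List.Pairwise.imp ?_ (List.sortedLT_finRange d).pairwise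
  intro i j hij x hx y hy
  rw [List.mem_replicate] at hx hy
  rw [hx.2, hy.2]
  exact le_of_lt hij

lemma count_toList (a : Fin d → ℕ) (i : Fin d) : (toList a).count i = a i := by
  unfold toList
  rw [List.count_flatMap, ← Fin.sum_univ_def]
  simp [List.count_replicate, Finset.sum_ite_eq']

lemma toList_injective : Function.Injective (toList (d := d)) := by
  intro a a' h
  funext i
  rw [← count_toList a i, ← count_toList a' i, h]

lemma perm_toList_count (l : List (Fin d)) : l.Perm (toList (fun i => l.count i)) := by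
  rw [List.perm_iff_count]
  intro i
  rw [count_toList]

/-- repeat every entry `p` times -/
def rep (p : ℕ) (l : List (Fin d)) : List (Fin d) := l.flatMap (fun j => List.replicate p j)

lemma rep_nil (p : ℕ) : rep p ([] : List (Fin d)) = [] := rfl

lemma rep_cons (p : ℕ) (j : Fin d) (l : List (Fin d)) :
    rep p (j :: l) = List.replicate p j ++ rep p l := by
  simp [rep, List.flatMap_cons]

lemma count_rep (p : ℕ) (l : List (Fin d)) (i : Fin d) : (rep p l).count i = p * l.count i := by
  induction l with
  | nil => simp [rep_nil]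
  | cons j l ih =>
    rw [rep_cons, List.count_append, ih, List.count_replicate, List.count_cons]
    by_cases h : j = i
    · subst h; simp [mul_add, add_comm]
    · simp [h]

lemma length_rep (p : ℕ) (l : List (Fin d)) : (rep p l).length = p * l.length := by
  induction l with
  | nil => simp [rep_nil]
  | cons j l ih =>
    rw [rep_cons, List.length_append, ih, List.length_replicate, List.length_cons]
    ring

lemma toList_zero : toList (fun _ : Fin d => 0) = [] := by
  apply List.perm_nil.mp
  rw [List.perm_iff_count]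
  intro i
  rw [count_toList, List.count_nil]

lemma toList_single (i : Fin d) : toList (Pi.single i 1 : Fin d → ℕ) = [i] := by
  apply List.perm_singleton.mp
  rw [List.perm_iff_count]
  intro j
  rw [count_toList, List.count_cons, List.count_nil]
  by_cases h : j = i
  · subst h; simp
  · simp [h, Pi.single_apply, Ne.symm h]

/-- multi-indices with some entry `≥ p` -/
def Big (p : ℕ) : Set (Fin d → ℕ) := {a | ∃ i, p ≤ a i}

/-- multi-indices with all entries `< p` -/
def Small (p : ℕ) : Set (Fin d → ℕ) := {a | ∀ i, a i < p}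

lemma small_finite (p : ℕ) : (Small (d := d) p).Finite := by
  have e : Small (d := d) p = Set.pi Set.univ (fun _ => Set.Iio p) := by
    ext a
    simp [Small, Set.mem_pi]
  rw [e]
  exact Set.Finite.pi (fun _ => Set.finite_Iio p)

lemma disjoint_small_big (p : ℕ) : Disjoint (Small (d := d) p) (Big p) := by
  rw [Set.disjoint_left]
  rintro a ha ⟨i, hi⟩
  exact absurd (ha i) (not_lt.mpr hi)

lemma big_of_not_small {p : ℕ} {a : Fin d → ℕ} (ha : a ∉ Small p) : a ∈ Big p := by
  unfold Small at ha
  simp only [Set.mem_setOf_eq, not_forall, not_lt] at ha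
  exact ha

end Lists

section Filt

variable {k : Type u} [CommRing k] {L : Type v} [LieRing L] [LieAlgebra k L]
variable {d : ℕ} (b : Module.Basis (Fin d) k L)

lemma Mlt_mono {n m : ℕ} (h : n ≤ m) : Mlt b n ≤ Mlt b m := by
  unfold Mlt
  apply Submodule.span_mono
  apply Set.image_mono
  intro l hl
  show l.length < m
  exact lt_of_lt_of_le hl h

lemma mon_mem_Mlt (l : List (Fin d)) : mon b l ∈ Mlt b (l.length + 1) :=
  Submodule.subset_span ⟨l, Nat.lt_succ_self _, rfl⟩

lemma mon_append (l l' : List (Fin d)) : mon b (l ++ l') = mon b l * mon b l' := by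
  unfold mon
  rw [List.map_append, List.prod_append]

lemma mon_replicate (i : Fin d) (n : ℕ) :
    mon b (List.replicate n i) = UniversalEnvelopingAlgebra.ι k (b i) ^ n := by
  unfold mon
  rw [List.map_replicate, List.prod_replicate]

lemma Mlt_zero : Mlt b 0 = ⊥ := by
  unfold Mlt
  rw [Submodule.span_eq_bot]
  rintro _ ⟨l, hl, rfl⟩
  exact absurd hl (Nat.not_lt_zero _)

lemma mul_mem_Mlt_succ {m n : ℕ} {u v : UniversalEnvelopingAlgebra k L}
    (hu : u ∈ Mlt b (m + 1)) (hv : v ∈ Mlt b (n + 1)) : u * v ∈ Mlt b (m + n + 1) := by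
  have h : Mlt b (m + 1) * Mlt b (n + 1) ≤ Mlt b (m + n + 1) := by
    unfold Mlt
    rw [Submodule.span_mul_span]
    apply Submodule.span_le.mpr
    rintro _ ⟨_, ⟨l, hl, rfl⟩, _, ⟨l', hl', rfl⟩, rfl⟩
    refine Submodule.subset_span ⟨l ++ l', ?_, mon_append b l l'⟩
    show (l ++ l').length < m + n + 1
    rw [List.length_append]
    have h1 : l.length < m + 1 := hl
    have h2 : l'.length < n + 1 := hl'
    omega
  exact h (Submodule.mul_mem_mul hu hv)

lemma mul_mem_Mlt {m n : ℕ} {u v : UniversalEnvelopingAlgebra k L}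
    (hu : u ∈ Mlt b m) (hv : v ∈ Mlt b n) : u * v ∈ Mlt b (m + n - 1) := by
  cases m with
  | zero =>
    rw [Mlt_zero, Submodule.mem_bot] at hu
    rw [hu, zero_mul]
    exact Submodule.zero_mem _
  | succ m =>
    cases n with
    | zero =>
      rw [Mlt_zero, Submodule.mem_bot] at hv
      rw [hv, mul_zero]
      exact Submodule.zero_mem _
    | succ n =>
      have h := mul_mem_Mlt_succ b hu hv
      have e : m + 1 + (n + 1) - 1 = m + n + 1 := by omega
      rw [e]
      exact h

lemma ι_mem_Mlt (x : L) : UniversalEnvelopingAlgebra.ι k x ∈ Mlt b 2 := by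
  have h := ι_mul_mon_mem b x []
  rw [mon_nil, mul_one] at h
  exact h

lemma exists_mem_Mlt (u : UniversalEnvelopingAlgebra k L) : ∃ n, u ∈ Mlt b n := by
  have hu : u ∈ Mall b := by rw [Mall_eq_top]; trivial
  unfold Mall at hu
  induction hu using Submodule.span_induction with
  | mem x hx =>
    obtain ⟨l, rfl⟩ := hx
    exact ⟨_, mon_mem_Mlt b l⟩
  | zero => exact ⟨0, Submodule.zero_mem _⟩
  | add x x' _ _ hx hx' =>
    obtain ⟨n, hn⟩ := hx
    obtain ⟨m, hm⟩ := hx'
    exact ⟨max n m, Submodule.add_mem _ (Mlt_mono b (le_max_left _ _) hn)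
      (Mlt_mono b (le_max_right _ _) hm)⟩
  | smul c x _ hx =>
    obtain ⟨n, hn⟩ := hx
    exact ⟨n, Submodule.smul_mem _ _ hn⟩

/-- the PBW monomial attached to a multi-index -/
noncomputable def B (a : Fin d → ℕ) : UniversalEnvelopingAlgebra k L := mon b (toList a)

/-- the degree of a multi-index -/
def deg (a : Fin d → ℕ) : ℕ := (toList a).length

lemma B_linearIndependent :
    LinearIndependent k (B b : (Fin d → ℕ) → UniversalEnvelopingAlgebra k L) := by
  obtain ⟨Bs, hBs⟩ := pbw b
  have hinj : Function.Injective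
      (fun a : Fin d → ℕ => (⟨toList a, toList_sorted a⟩ : {l : List (Fin d) // l.SortedLE})) := by
    intro a a' h
    exact toList_injective (congrArg Subtype.val h)
  have h := Bs.linearIndependent.comp _ hinj
  have e : (B b : (Fin d → ℕ) → UniversalEnvelopingAlgebra k L) =
      Bs ∘ (fun a : Fin d → ℕ =>
        (⟨toList a, toList_sorted a⟩ : {l : List (Fin d) // l.SortedLE})) := by
    funext a
    rw [Function.comp_apply, hBs]
    rfl
  rw [e]
  exact h

lemma Mlt_le_spanB : ∀ n : ℕ, Mlt b n ≤ Submodule.span k (B b '' {a | deg a < n}) := by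
  intro n
  induction n with
  | zero => rw [Mlt_zero]; exact bot_le
  | succ n ih =>
    unfold Mlt
    apply Submodule.span_le.mpr
    rintro _ ⟨l, hl, rfl⟩
    have hl' : l.length ≤ n := Nat.lt_succ_iff.mp hl
    have hperm := perm_toList_count l
    have h1 := perm_sub_mem b hperm
    have h2 : mon b l - B b (fun i => l.count i) ∈
        Submodule.span k (B b '' {a | deg a < n + 1}) :=
      Submodule.span_mono (Set.image_mono (fun a (ha : deg a < n) => Nat.lt_succ_of_lt ha))
        (ih (Mlt_mono b hl' h1))
    have h3 : B b (fun i => l.count i) ∈ Submodule.span k (B b '' {a | deg a < n + 1}) := by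
      apply Submodule.subset_span
      refine ⟨_, ?_, rfl⟩
      show deg (fun i => l.count i) < n + 1
      unfold deg
      rw [← hperm.length_eq]
      omega
    have h4 := Submodule.add_mem _ h2 h3
    rwa [sub_add_cancel] at h4

lemma B_span : Submodule.span k (Set.range (B b)) = ⊤ := by
  rw [eq_top_iff, ← Mall_eq_top b]
  unfold Mall
  apply Submodule.span_le.mpr
  rintro _ ⟨l, rfl⟩
  have h := Mlt_le_spanB b (l.length + 1) (mon_mem_Mlt b l)
  exact Submodule.span_mono (Set.image_subset_range _ _) h

/-- the PBW basis indexed by multi-indices -/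
noncomputable def Bb : Module.Basis (Fin d → ℕ) k (UniversalEnvelopingAlgebra k L) :=
  Module.Basis.mk (B_linearIndependent b) (by rw [B_span])

lemma Bb_apply (a : Fin d → ℕ) : Bb b a = B b a := by
  unfold Bb
  rw [Module.Basis.mk_apply]

end Filt

section Main

variable {k : Type u} [Field k] (p : ℕ) [hp : Fact p.Prime] [CharP k p]
variable {L : Type v} [LieRing L] [LieAlgebra k L] {d : ℕ} (b : Module.Basis (Fin d) k L)
  (y : Fin d → L)

/-- product of the central elements along a list -/
noncomputable def Z (l : List (Fin d)) : UniversalEnvelopingAlgebra k L :=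
  (l.map (zc k p b y)).prod

lemma Z_nil : Z p b y [] = 1 := by simp [Z]

lemma Z_cons (i : Fin d) (l : List (Fin d)) : Z p b y (i :: l) = zc k p b y i * Z p b y l := by
  simp [Z]

lemma Z_sub_mem (l : List (Fin d)) : Z p b y l - mon b (rep p l) ∈ Mlt b (p * l.length) := by
  induction l with
  | nil =>
    rw [Z_nil, rep_nil, mon_nil, sub_self]
    exact Submodule.zero_mem _
  | cons i l ih =>
    have h2 : 2 ≤ p := hp.out.two_le
    have e1 : Z p b y (i :: l) - mon b (rep p (i :: l)) =
        (zc k p b y i - UniversalEnvelopingAlgebra.ι k (b i) ^ p) * Z p b y l +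
          UniversalEnvelopingAlgebra.ι k (b i) ^ p * (Z p b y l - mon b (rep p l)) := by
      rw [Z_cons, rep_cons, mon_append, mon_replicate]
      noncomm_ring
    rw [e1]
    have hZ : Z p b y l ∈ Mlt b (p * l.length + 1) := by
      have h1 := mon_mem_Mlt b (rep p l)
      rw [length_rep] at h1
      have h3 := Submodule.add_mem _ (Mlt_mono b (Nat.le_succ _) ih) h1
      rwa [sub_add_cancel] at h3
    have hz : zc k p b y i - UniversalEnvelopingAlgebra.ι k (b i) ^ p ∈ Mlt b 2 := by
      have e : zc k p b y i - UniversalEnvelopingAlgebra.ι k (b i) ^ p =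
          -UniversalEnvelopingAlgebra.ι k (y i) := by
        unfold zc; abel
      rw [e]
      exact Submodule.neg_mem _ (ι_mem_Mlt b _)
    have hpow : UniversalEnvelopingAlgebra.ι k (b i) ^ p ∈ Mlt b (p + 1) := by
      have h := mon_mem_Mlt b (List.replicate p i)
      rwa [mon_replicate, List.length_replicate] at h
    have t1 := mul_mem_Mlt b hz hZ
    have t2 := mul_mem_Mlt b hpow ih
    have e2 : p * (i :: l).length = p * l.length + p := by
      rw [List.length_cons]; ring
    rw [e2]
    refine Submodule.add_mem _ (Mlt_mono b ?_ t1) (Mlt_mono b ?_ t2)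
    · omega
    · omega

/-- `z^β x^α` -/
noncomputable def Vp (β α : Fin d → ℕ) : UniversalEnvelopingAlgebra k L :=
  Z p b y (toList β) * mon b (toList α)

/-- `z^(a / p) x^(a % p)` -/
noncomputable def V (a : Fin d → ℕ) : UniversalEnvelopingAlgebra k L :=
  Vp p b y (fun i => a i / p) (fun i => a i % p)

lemma V_sub_B (a : Fin d → ℕ) : V p b y a - B b a ∈ Mlt b (deg a) := by
  have hperm : (rep p (toList (fun i => a i / p)) ++ toList (fun i => a i % p)).Perm
      (toList a) := by
    rw [List.perm_iff_count]
    intro i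
    rw [List.count_append, count_rep, count_toList, count_toList, count_toList]
    exact Nat.div_add_mod (a i) p
  have hlen : p * (toList (fun i => a i / p)).length + (toList (fun i => a i % p)).length =
      deg a := by
    have h := hperm.length_eq
    rw [List.length_append, length_rep] at h
    exact h
  have h1 := Z_sub_mem p b y (toList (fun i => a i / p))
  have h2 := mon_mem_Mlt b (toList (fun i => a i % p))
  have h3 := mul_mem_Mlt b h1 h2
  have h4 := perm_sub_mem b hperm
  rw [hperm.length_eq] at h4
  have e : V p b y a - B b a =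
      (Z p b y (toList (fun i => a i / p)) - mon b (rep p (toList (fun i => a i / p)))) *
        mon b (toList (fun i => a i % p)) +
      (mon b (rep p (toList (fun i => a i / p)) ++ toList (fun i => a i % p)) -
        mon b (toList a)) := by
    rw [mon_append]
    unfold V Vp B
    noncomm_ring
  rw [e]
  refine Submodule.add_mem _ (Mlt_mono b ?_ h3) h4
  rw [← hlen]
  omega

/-- the unitriangular change of basis `B a ↦ V a` -/
noncomputable def S : UniversalEnvelopingAlgebra k L →ₗ[k] UniversalEnvelopingAlgebra k L :=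
  (Bb b).constr k (V p b y)

lemma S_B (a : Fin d → ℕ) : S p b y (B b a) = V p b y a := by
  rw [← Bb_apply, S, Module.Basis.constr_basis]

lemma S_sub_mem (n : ℕ) (u : UniversalEnvelopingAlgebra k L) (hu : u ∈ Mlt b (n + 1)) :
    S p b y u - u ∈ Mlt b n := by
  have hu' := Mlt_le_spanB b (n + 1) hu
  clear hu
  induction hu' using Submodule.span_induction with
  | mem x hx =>
    obtain ⟨a, ha, rfl⟩ := hx
    rw [S_B]
    exact Mlt_mono b (Nat.lt_succ_iff.mp ha) (V_sub_B p b y a)
  | zero => rw [map_zero, sub_zero]; exact Submodule.zero_mem _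
  | add x x' _ _ hx hx' =>
    have e : S p b y (x + x') - (x + x') = (S p b y x - x) + (S p b y x' - x') := by
      rw [map_add]; abel
    rw [e]
    exact Submodule.add_mem _ hx hx'
  | smul c x _ hx =>
    have e : S p b y (c • x) - c • x = c • (S p b y x - x) := by
      rw [map_smul, smul_sub]
    rw [e]
    exact Submodule.smul_mem _ _ hx

lemma S_ker : ∀ n : ℕ, ∀ u ∈ Mlt b n, S p b y u = 0 → u = 0 := by
  intro n
  induction n with
  | zero =>
    intro u hu _
    rw [Mlt_zero, Submodule.mem_bot] at hu
    exact hu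
  | succ n ih =>
    intro u hu h0
    have h1 := S_sub_mem p b y n u hu
    rw [h0, zero_sub] at h1
    have h2 : u ∈ Mlt b n := by
      have := Submodule.neg_mem _ h1
      rwa [neg_neg] at this
    exact ih u h2 h0

lemma V_linearIndependent : LinearIndependent k (V p b y) := by
  have hker : LinearMap.ker (S p b y) = ⊥ := by
    rw [LinearMap.ker_eq_bot']
    intro u hu
    obtain ⟨n, hn⟩ := exists_mem_Mlt b u
    exact S_ker p b y n u hn hu
  have h := (Bb b).linearIndependent.map' (S p b y) hker
  have e : (S p b y) ∘ (Bb b) = V p b y := by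
    funext a
    rw [Function.comp_apply, Bb_apply, S_B]
  rwa [e] at h

lemma Mlt_le_spanV : ∀ n : ℕ, Mlt b n ≤ Submodule.span k (Set.range (V p b y)) := by
  intro n
  induction n with
  | zero => rw [Mlt_zero]; exact bot_le
  | succ n ih =>
    unfold Mlt
    apply Submodule.span_le.mpr
    rintro _ ⟨l, hl, rfl⟩
    have hl' : l.length ≤ n := Nat.lt_succ_iff.mp hl
    have hperm := perm_toList_count l
    have h1 := ih (Mlt_mono b hl' (perm_sub_mem b hperm))
    have hdeg : deg (fun i => l.count i) = l.length := hperm.length_eq.symm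
    have h2 := ih (Mlt_mono b (by rw [hdeg]; exact hl') (V_sub_B p b y (fun i => l.count i)))
    have h3 : V p b y (fun i => l.count i) ∈ Submodule.span k (Set.range (V p b y)) :=
      Submodule.subset_span ⟨_, rfl⟩
    have e : mon b l = (mon b l - mon b (toList fun i => l.count i)) -
        (V p b y (fun i => l.count i) - B b (fun i => l.count i)) +
        V p b y (fun i => l.count i) := by
      unfold B; abel
    rw [e]
    exact Submodule.add_mem _ (Submodule.sub_mem _ h1 h2) h3

lemma V_span : Submodule.span k (Set.range (V p b y)) = ⊤ := by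
  rw [eq_top_iff]
  intro u _
  obtain ⟨n, hn⟩ := exists_mem_Mlt b u
  exact Mlt_le_spanV p b y n hn

/-- the left ideal generated by the central elements -/
def J : Ideal (UniversalEnvelopingAlgebra k L) := Ideal.span (Set.range (zc k p b y))

lemma zc_mem_J (i : Fin d) : zc k p b y i ∈ J p b y := Ideal.subset_span ⟨i, rfl⟩

lemma J_mul_right (hy : ∀ i : Fin d, LieAlgebra.ad k L (b i) ^ p = LieAlgebra.ad k L (y i))
    (j : UniversalEnvelopingAlgebra k L) (hj : j ∈ J p b y) (u : UniversalEnvelopingAlgebra k L) :
    j * u ∈ J p b y := by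
  have hj' : j ∈ Submodule.span (UniversalEnvelopingAlgebra k L) (Set.range (zc k p b y)) := hj
  clear hj
  induction hj' using Submodule.span_induction with
  | mem x hx =>
    obtain ⟨i, rfl⟩ := hx
    rw [zc_central k p b y hy i u]
    exact Ideal.mul_mem_left _ _ (zc_mem_J p b y i)
  | zero => rw [zero_mul]; exact Submodule.zero_mem _
  | add x x' _ _ hx hx' => rw [add_mul]; exact Submodule.add_mem _ hx hx'
  | smul c x _ hx =>
    rw [smul_mul_assoc]
    exact Submodule.smul_mem _ c hx

lemma Z_mem_J (hy : ∀ i : Fin d, LieAlgebra.ad k L (b i) ^ p = LieAlgebra.ad k L (y i))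
    (l : List (Fin d)) (hl : l ≠ []) : Z p b y l ∈ J p b y := by
  cases l with
  | nil => exact absurd rfl hl
  | cons i l =>
    rw [Z_cons, zc_central k p b y hy i]
    exact Ideal.mul_mem_left _ _ (zc_mem_J p b y i)

lemma V_mem_J_of_big (hy : ∀ i : Fin d, LieAlgebra.ad k L (b i) ^ p = LieAlgebra.ad k L (y i))
    (a : Fin d → ℕ) (ha : a ∈ Big p) : V p b y a ∈ J p b y := by
  obtain ⟨i, hi⟩ := ha
  have hne : toList (fun j => a j / p) ≠ [] := by
    intro h
    have h1 : (toList (fun j => a j / p)).count i = a i / p := count_toList _ i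
    rw [h, List.count_nil] at h1
    have h2 : 0 < a i / p := Nat.div_pos hi hp.out.pos
    omega
  unfold V Vp
  exact J_mul_right p b y hy _ (Z_mem_J p b y hy _ hne) _

lemma Z_perm (hy : ∀ i : Fin d, LieAlgebra.ad k L (b i) ^ p = LieAlgebra.ad k L (y i))
    {l l' : List (Fin d)} (h : l.Perm l') : Z p b y l = Z p b y l' := by
  unfold Z
  apply List.Perm.prod_eq' (h.map _)
  rw [List.pairwise_map]
  exact List.pairwise_of_forall (fun i j => zc_central k p b y hy i (zc k p b y j))

lemma zc_mul_Vp (hy : ∀ i : Fin d, LieAlgebra.ad k L (b i) ^ p = LieAlgebra.ad k L (y i))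
    (i : Fin d) (β α : Fin d → ℕ) :
    zc k p b y i * Vp p b y β α = Vp p b y (β + Pi.single i 1) α := by
  unfold Vp
  rw [← mul_assoc, ← Z_cons]
  congr 1
  apply Z_perm p b y hy
  rw [List.perm_iff_count]
  intro j
  rw [List.count_cons, count_toList, count_toList, Pi.add_apply]
  by_cases h : j = i
  · subst h; simp
  · simp [h, Ne.symm h, Pi.single_apply]

lemma V_of (β α : Fin d → ℕ) (hα : ∀ i, α i < p) :
    V p b y (fun i => p * β i + α i) = Vp p b y β α := by
  unfold V
  have e1 : (fun i => (p * β i + α i) / p) = β := by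
    funext i
    rw [Nat.mul_add_div hp.out.pos, Nat.div_eq_of_lt (hα i), add_zero]
  have e2 : (fun i => (p * β i + α i) % p) = α := by
    funext i
    rw [Nat.mul_add_mod, Nat.mod_eq_of_lt (hα i)]
  rw [e1, e2]

lemma mul_zc_mem (hy : ∀ i : Fin d, LieAlgebra.ad k L (b i) ^ p = LieAlgebra.ad k L (y i))
    (u : UniversalEnvelopingAlgebra k L) (i : Fin d) :
    u * zc k p b y i ∈ Submodule.span k (V p b y '' Big p) := by
  have hu : u ∈ Submodule.span k (Set.range (V p b y)) := by rw [V_span]; trivial
  induction hu using Submodule.span_induction with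
  | mem x hx =>
    obtain ⟨a, rfl⟩ := hx
    rw [← zc_central k p b y hy i]
    have e : zc k p b y i * V p b y a =
        V p b y (fun j => p * (((fun j => a j / p) + Pi.single i 1 : Fin d → ℕ)) j + a j % p) := by
      rw [V_of p b y (((fun j => a j / p) + Pi.single i 1 : Fin d → ℕ)) (fun j => a j % p)
        (fun j => Nat.mod_lt _ hp.out.pos), ← zc_mul_Vp p b y hy]
      rfl
    rw [e]
    apply Submodule.subset_span
    refine ⟨_, ⟨i, ?_⟩, rfl⟩
    show p ≤ p * (((fun j => a j / p) + Pi.single i 1 : Fin d → ℕ)) i + a i % p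
    rw [Pi.add_apply, Pi.single_eq_same, mul_add, mul_one]
    omega
  | zero => rw [zero_mul]; exact Submodule.zero_mem _
  | add x x' _ _ hx hx' => rw [add_mul]; exact Submodule.add_mem _ hx hx'
  | smul c x _ hx => rw [smul_mul_assoc]; exact Submodule.smul_mem _ _ hx

lemma J_le (hy : ∀ i : Fin d, LieAlgebra.ad k L (b i) ^ p = LieAlgebra.ad k L (y i))
    (x : UniversalEnvelopingAlgebra k L) (hx : x ∈ J p b y) :
    x ∈ Submodule.span k (V p b y '' Big p) := by
  have hx' : x ∈ Submodule.span (UniversalEnvelopingAlgebra k L) (Set.range (zc k p b y)) := hx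
  rw [Submodule.mem_span_range_iff_exists_fun] at hx'
  obtain ⟨c, rfl⟩ := hx'
  exact Submodule.sum_mem _ (fun i _ => mul_zc_mem p b y hy (c i) i)

lemma ι_basis_eq (i : Fin d) :
    UniversalEnvelopingAlgebra.ι k (b i) = V p b y (Pi.single i 1) := by
  have h1 : 1 < p := hp.out.one_lt
  have e1 : (fun j => (Pi.single i 1 : Fin d → ℕ) j / p) = fun _ => 0 := by
    funext j
    by_cases h : j = i
    · subst h; rw [Pi.single_eq_same]; exact Nat.div_eq_of_lt h1
    · rw [Pi.single_eq_of_ne h]; exact Nat.zero_div p
  have e2 : (fun j => (Pi.single i 1 : Fin d → ℕ) j % p) = Pi.single i 1 := by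
    funext j
    by_cases h : j = i
    · subst h; rw [Pi.single_eq_same]; exact Nat.mod_eq_of_lt h1
    · rw [Pi.single_eq_of_ne h]; exact Nat.zero_mod p
  unfold V Vp
  rw [e1, e2, toList_zero, toList_single, Z_nil, one_mul, mon_cons, mon_nil, mul_one]

lemma ι_mem_small (w : L) :
    UniversalEnvelopingAlgebra.ι k w ∈ Submodule.span k (V p b y '' Small p) := by
  have hw : w ∈ Submodule.span k (Set.range b) := by rw [b.span_eq]; exact Submodule.mem_top
  induction hw using Submodule.span_induction with
  | mem x hx =>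
    obtain ⟨i, rfl⟩ := hx
    rw [ι_basis_eq p b y i]
    apply Submodule.subset_span
    refine ⟨_, ?_, rfl⟩
    intro j
    show (Pi.single i 1 : Fin d → ℕ) j < p
    by_cases h : j = i
    · subst h; rw [Pi.single_eq_same]; exact hp.out.one_lt
    · rw [Pi.single_eq_of_ne h]; exact hp.out.pos
  | zero => rw [map_zero]; exact Submodule.zero_mem _
  | add x x' _ _ hx hx' => rw [map_add]; exact Submodule.add_mem _ hx hx'
  | smul c x _ hx => rw [map_smul]; exact Submodule.smul_mem _ _ hx

/-- `L` meets the ideal `J` trivially. -/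
lemma ι_mem_J (hy : ∀ i : Fin d, LieAlgebra.ad k L (b i) ^ p = LieAlgebra.ad k L (y i))
    (w : L) (hw : UniversalEnvelopingAlgebra.ι k w ∈ J p b y) : w = 0 := by
  have h1 := J_le p b y hy _ hw
  have h2 := ι_mem_small p b y w
  have hdis := (V_linearIndependent p b y).disjoint_span_image (disjoint_small_big (d := d) p)
  have h0 := Submodule.disjoint_def.mp hdis _ h2 h1
  have hinj := PBWRing.ι_injective (k := k) b
  apply hinj
  rw [h0, map_zero]

lemma Q_finite (hy : ∀ i : Fin d, LieAlgebra.ad k L (b i) ^ p = LieAlgebra.ad k L (y i)) :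
    Module.Finite k (UniversalEnvelopingAlgebra k L ⧸ J p b y) := by
  rw [Module.finite_def, Submodule.fg_def]
  refine ⟨(fun a => (Submodule.Quotient.mk (V p b y a) :
      UniversalEnvelopingAlgebra k L ⧸ J p b y)) '' Small p, (small_finite p).image _, ?_⟩
  rw [eq_top_iff]
  rintro m -
  obtain ⟨u, rfl⟩ := Submodule.Quotient.mk_surjective _ m
  have hu : u ∈ Submodule.span k (Set.range (V p b y)) := by rw [V_span]; trivial
  induction hu using Submodule.span_induction with
  | mem x hx =>
    obtain ⟨a, rfl⟩ := hx
    by_cases ha : a ∈ Small p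
    · exact Submodule.subset_span ⟨a, ha, rfl⟩
    · have e : (Submodule.Quotient.mk (V p b y a) :
          UniversalEnvelopingAlgebra k L ⧸ J p b y) = 0 :=
        (Submodule.Quotient.mk_eq_zero _).mpr
          (V_mem_J_of_big p b y hy a (big_of_not_small ha))
      rw [e]
      exact Submodule.zero_mem _
  | zero => rw [Submodule.Quotient.mk_zero]; exact Submodule.zero_mem _
  | add x x' _ _ hx hx' => rw [Submodule.Quotient.mk_add]; exact Submodule.add_mem _ hx hx'
  | smul c x _ hx => rw [Submodule.Quotient.mk_smul]; exact Submodule.smul_mem _ _ hx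

/-- the left regular representation on `U(L)/J` -/
noncomputable def rho : UniversalEnvelopingAlgebra k L →ₐ[k]
    Module.End k (UniversalEnvelopingAlgebra k L ⧸ J p b y) :=
  Algebra.lsmul k k (UniversalEnvelopingAlgebra k L ⧸ J p b y)

lemma rho_mk (u v : UniversalEnvelopingAlgebra k L) :
    rho p b y u (Submodule.Quotient.mk v) = Submodule.Quotient.mk (u * v) := rfl

lemma rho_J (hy : ∀ i : Fin d, LieAlgebra.ad k L (b i) ^ p = LieAlgebra.ad k L (y i))
    (j : UniversalEnvelopingAlgebra k L) (hj : j ∈ J p b y) : rho p b y j = 0 := by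
  apply LinearMap.ext
  intro m
  obtain ⟨v, rfl⟩ := Submodule.Quotient.mk_surjective _ m
  rw [rho_mk, LinearMap.zero_apply, Submodule.Quotient.mk_eq_zero]
  exact J_mul_right p b y hy j hj v

lemma fz_mem_J (x : L) : fz k p b y x ∈ J p b y := by
  unfold fz Finsupp.sum
  refine Submodule.sum_mem _ (fun i _ => ?_)
  exact Submodule.smul_of_tower_mem _ _ (zc_mem_J p b y i)

/-- the matrix representation attached to a basis of `U(L)/J` -/
noncomputable def emb {n : ℕ}
    (bM : Module.Basis (Fin n) k (UniversalEnvelopingAlgebra k L ⧸ J p b y)) :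
    L →ₗ[k] Matrix (Fin n) (Fin n) k where
  toFun x := LinearMap.toMatrixAlgEquiv bM (rho p b y (UniversalEnvelopingAlgebra.ι k x))
  map_add' x x' := by rw [map_add, map_add, map_add]
  map_smul' c x := by rw [map_smul, map_smul, map_smul]; rfl

lemma emb_apply {n : ℕ}
    (bM : Module.Basis (Fin n) k (UniversalEnvelopingAlgebra k L ⧸ J p b y)) (x : L) :
    emb p b y bM x =
      LinearMap.toMatrixAlgEquiv bM (rho p b y (UniversalEnvelopingAlgebra.ι k x)) := rfl

end Main

section Final

variable {k : Type u} [Field k] (p : ℕ) [hp : Fact p.Prime] [CharP k p]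
variable {L : Type v} [LieRing L] [LieAlgebra k L]

lemma ι_pmap {d : ℕ} (b : Module.Basis (Fin d) k L) (φ : PMap k p L) (x : L) :
    UniversalEnvelopingAlgebra.ι k (φ x) =
      UniversalEnvelopingAlgebra.ι k x ^ p - fz k p b (fun i => φ (b i)) x := by
  have hx : x ∈ Submodule.span k (Set.range b) := by rw [b.span_eq]; exact Submodule.mem_top
  induction hx using Submodule.span_induction with
  | mem x h =>
    obtain ⟨i, rfl⟩ := h
    rw [fz_basis]
    unfold zc
    rw [sub_sub_cancel]
  | zero =>
    rw [pmap_zero, map_zero, zero_pow hp.out.ne_zero, fz_zero, sub_zero]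
  | add x₁ x₂ _ _ h₁ h₂ =>
    have e : φ (x₁ + x₂) = φ x₁ + φ x₂ - jacobson k p x₁ x₂ := φ.map_add x₁ x₂
    rw [e, map_sub, map_add, h₁, h₂, map_jacobson, map_add, add_pow_char_eq k p, fz_add]
    abel
  | smul c x _ h =>
    have e : φ (c • x) = c ^ p • φ x := φ.map_smul c x
    rw [e, map_smul, h, map_smul, _root_.smul_pow, fz_smul, smul_sub]

theorem embed_aux {d : ℕ} (b : Module.Basis (Fin d) k L) (φ : PMap k p L) :
    ∃ (n : ℕ) (e : L →ₗ[k] Matrix (Fin n) (Fin n) k), IsPSubOfAssoc φ e := by
  have hy : ∀ i : Fin d, LieAlgebra.ad k L (b i) ^ p = LieAlgebra.ad k L (φ (b i)) :=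
    fun i => (φ.ad_map (b i)).symm
  haveI := Q_finite p b (fun i => φ (b i)) hy
  refine ⟨Module.finrank k (UniversalEnvelopingAlgebra k L ⧸ J p b (fun i => φ (b i))),
    emb p b (fun i => φ (b i)) (Module.finBasis k _), ?_, ?_, ?_⟩
  · intro x x' h
    have h1 : rho p b (fun i => φ (b i)) (UniversalEnvelopingAlgebra.ι k (x - x')) = 0 := by
      apply (LinearMap.toMatrixAlgEquiv (Module.finBasis k
        (UniversalEnvelopingAlgebra k L ⧸ J p b (fun i => φ (b i))))).injective
      rw [map_zero, map_sub, map_sub, map_sub]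
      exact sub_eq_zero.mpr h
    have h2 : rho p b (fun i => φ (b i)) (UniversalEnvelopingAlgebra.ι k (x - x'))
        (Submodule.Quotient.mk 1) = 0 := by rw [h1, LinearMap.zero_apply]
    rw [rho_mk, mul_one, Submodule.Quotient.mk_eq_zero] at h2
    exact sub_eq_zero.mp (ι_mem_J p b _ hy _ h2)
  · intro x x'
    rw [emb_apply, emb_apply, emb_apply, LieHom.map_lie, LieRing.of_associative_ring_bracket,
      map_sub, map_mul, map_mul, map_sub, map_mul, map_mul]
  · intro x
    rw [emb_apply, emb_apply, ι_pmap p b φ x, map_sub,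
      rho_J p b _ hy _ (fz_mem_J p b _ x), sub_zero, map_pow, map_pow]

/-- **Every finite-dimensional restricted Lie algebra embeds in a matrix algebra.** -/
theorem embed (k : Type u) [Field k] (p : ℕ) [Fact p.Prime] [CharP k p]
    (L : Type v) [LieRing L] [LieAlgebra k L] [Module.Finite k L] (φ : PMap k p L) :
    ∃ (n : ℕ) (e : L →ₗ[k] Matrix (Fin n) (Fin n) k), IsPSubOfAssoc φ e :=
  embed_aux p (Module.finBasis k L) φ

end Final

end Groth.Agent.Lib.Helper29.RestrictedEnv
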