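import Mathlib
import Groth.Prelude.Def_W4sga3xxiRoot

/-!
# Basic lemmas on root data over ℤ (RootD namespace of the prelude)
-/
set_option autoImplicit false

namespace Groth.Agent.Lib.Helper29.RootDBasic

variable {ι M N : Type*} [AddCommGroup M] [AddCommGroup N] (P : RootPairing ι ℤ M N)

theorem root_neg (l : ι) : P.root (P.reflectionPerm l l) = - P.root l := by
  rw [P.root_reflectionPerm, P.reflection_apply_self]

theorem pairingIn_int (i j : ι) : P.pairingIn ℤ i j = P.pairing i j := by
  simpa using P.algebraMap_pairingIn ℤ i j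

/-- the functional `⟨·, coroot k⟩` -/
theorem toLinearMap_root_coroot (i k : ι) : P.toLinearMap (P.root i) (P.coroot k) = P.pairing i k :=
  P.root_coroot_eq_pairing i k

theorem root_sub_root_mem_of_pairing_pos [Finite ι] {i j : ι} (h : 0 < P.pairing i j) (h' : i ≠ j) :
    P.root i - P.root j ∈ Set.range P.root :=
  P.root_sub_root_mem_of_pairingIn_pos (by rwa [pairingIn_int]) h'

theorem root_add_root_mem_of_pairing_neg [Finite ι] {i j : ι} (h : P.pairing i j < 0)
    (h' : P.root i ≠ - P.root j) :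
    P.root i + P.root j ∈ Set.range P.root :=
  P.root_add_root_mem_of_pairingIn_neg (by rwa [pairingIn_int]) h'

/-- S5497: for a partition into closed symmetric subsets, `α, β, α+β` lie in the same part. -/
theorem partition_add (R' : Set ι) (hc : RootD.IsClosedSub P R')
    (hs : RootD.IsSymmSub P R') (hc' : RootD.IsClosedSub P R'ᶜ) (hs' : RootD.IsSymmSub P R'ᶜ)
    (i j k : ι) (h : P.root k = P.root i + P.root j) :
    (i ∈ R' ∧ j ∈ R' ∧ k ∈ R') ∨ (i ∉ R' ∧ j ∉ R' ∧ k ∉ R') := by
  have hj : P.root j = P.root k + P.root (P.reflectionPerm i i) := by rw [root_neg, h]; abel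
  have hi : P.root i = P.root k + P.root (P.reflectionPerm j j) := by rw [root_neg, h]; abel
  by_cases hi' : i ∈ R' <;> by_cases hj' : j ∈ R' <;> by_cases hk' : k ∈ R'
  · exact Or.inl ⟨hi', hj', hk'⟩
  · exact absurd (hc hi' hj' h) hk'
  · exact absurd (hc hk' (hs hi') hj) hj'
  · exact absurd (hc' hk' (hs' hj') hi) (not_not.mpr hi')
  · exact absurd (hc hk' (hs hj') hi) hi'
  · exact absurd (hc' hk' (hs' hi') hj) (not_not.mpr hj')
  · exact absurd (hc' hi' hj' h) (not_not.mpr hk')
  · exact Or.inr ⟨hi', hj', hk'⟩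

/-- S5489 -/
theorem exists_pairing_pos_sub_mem [Finite ι] {n : ℕ} (a : Fin n → ι) (m : Fin n → ℕ)
    (k : ι) (hne : ∀ l, a l ≠ k) (c : ℕ) (hc : 0 < c) (hk : c • P.root k = ∑ l, m l • P.root (a l)) :
    ∃ l : Fin n, m l ≠ 0 ∧ 0 < P.pairing (a l) k ∧ P.root k - P.root (a l) ∈ Set.range P.root := by
  have h1 := congrArg (fun x => P.toLinearMap x (P.coroot k)) hk
  simp only [map_nsmul, map_sum, LinearMap.sum_apply, LinearMap.smul_apply,
    P.root_coroot_eq_pairing, P.pairing_same] at h1
  have hpos : (0 : ℤ) < ∑ l, m l • P.pairing (a l) k := by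
    rw [← h1]; positivity
  obtain ⟨l, -, hl⟩ := Finset.exists_lt_of_sum_lt (s := Finset.univ)
    (f := fun _ => (0 : ℤ)) (g := fun l => m l • P.pairing (a l) k) (by simpa using hpos)
  have hml : m l ≠ 0 := by
    rintro h0
    simp [h0] at hl
  have hp : 0 < P.pairing (a l) k := by
    have hl' : (0 : ℤ) < (m l : ℤ) * P.pairing (a l) k := by simpa using hl
    have hm0 : (0:ℤ) < (m l : ℤ) := by exact_mod_cast Nat.pos_of_ne_zero hml
    exact (mul_pos_iff_of_pos_left hm0).mp hl'
  refine ⟨l, hml, hp, ?_⟩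
  have := root_sub_root_mem_of_pairing_pos P hp (hne l)
  rw [← P.neg_mem_range_root_iff, neg_sub]
  exact this

theorem list_step [Finite ι] (l : List ι) (k : ι) (hk : P.root k = (l.map P.root).sum) (hne : k ∉ l) :
    ∃ a ∈ l, P.root k - P.root a ∈ Set.range P.root := by
  have h1 := congrArg (fun x => P.toLinearMap x (P.coroot k)) hk
  simp only [P.root_coroot_eq_pairing, P.pairing_same] at h1
  have h2 : P.toLinearMap (l.map P.root).sum (P.coroot k) = (l.map (fun a => P.pairing a k)).sum := by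
    clear h1 hk hne
    induction l with
    | nil => simp
    | cons a l ih => simp [ih, P.root_coroot_eq_pairing]
  rw [h2] at h1
  have : ∃ a ∈ l, 0 < P.pairing a k := by
    by_contra hcon
    push Not at hcon
    have : (l.map (fun a => P.pairing a k)).sum ≤ 0 := by
      clear h1 h2 hk hne
      induction l with
      | nil => simp
      | cons a l ih =>
        have h3 := hcon a List.mem_cons_self
        have h4 := ih (fun b hb => hcon b (List.mem_cons_of_mem _ hb))
        simp only [List.map_cons, List.sum_cons]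
        omega
    omega
  obtain ⟨a, ha, hpos⟩ := this
  refine ⟨a, ha, ?_⟩
  have hak : a ≠ k := by rintro rfl; exact hne ha
  have := root_sub_root_mem_of_pairing_pos P hpos hak
  rw [← P.neg_mem_range_root_iff, neg_sub]
  exact this

theorem mem_of_list [Finite ι] (S : Set ι) (hS : RootD.IsClosedSub P S) :
    ∀ (n : ℕ) (l : List ι), l.length = n → (∀ a ∈ l, a ∈ S) → ∀ k, P.root k = (l.map P.root).sum → k ∈ S := by
  classical
  intro n
  induction n with
  | zero =>
    intro l hl _ k hk
    rw [List.length_eq_zero_iff] at hl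
    subst hl
    simp at hk
    exact absurd hk (P.ne_zero k)
  | succ n ih =>
    intro l hl hlS k hk
    by_cases hkl : k ∈ l
    · exact hlS k hkl
    · obtain ⟨a, ha, k', hk'⟩ := list_step P l k hk hkl
      have hsum : P.root a + ((l.erase a).map P.root).sum = (l.map P.root).sum := List.sum_map_erase P.root ha
      have hk'2 : P.root k' = ((l.erase a).map P.root).sum := by
        rw [hk', hk, ← hsum]; abel
      have hk'S : k' ∈ S := by
        apply ih (l.erase a) (by rw [List.length_erase_of_mem ha, hl]; rfl) (fun b hb => hlS b (List.mem_of_mem_erase hb)) k' hk'2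
      exact hS hk'S (hlS a ha) (by rw [hk']; abel)

theorem isClosedSub_iff_natSpan [Finite ι] (S : Set ι) :
    RootD.IsClosedSub P S ↔ ∀ k : ι, P.root k ∈ RootD.natSpan P S → k ∈ S := by
  constructor
  · intro hS k hk
    obtain ⟨l, hl, hsum⟩ := AddSubmonoid.exists_list_of_mem_closure hk
    -- lift the list to indices
    have : ∃ l' : List ι, (∀ a ∈ l', a ∈ S) ∧ l'.map P.root = l := by
      clear hsum
      induction l with
      | nil => exact ⟨[], by simp, rfl⟩
      | cons x l ih =>
        obtain ⟨l', h1, h2⟩ := ih (fun y hy => hl y (List.mem_cons_of_mem _ hy))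
        obtain ⟨a, ha, rfl⟩ := hl x (List.mem_cons_self)
        exact ⟨a :: l', by
          intro b hb
          rcases List.mem_cons.mp hb with rfl | hb
          · exact ha
          · exact h1 b hb, by simp [h2]⟩
    obtain ⟨l', hl', rfl⟩ := this
    exact mem_of_list P S hS _ l' rfl hl' k hsum.symm
  · intro h i j k hi hj hk
    apply h
    rw [hk]
    exact add_mem (AddSubmonoid.subset_closure ⟨i, hi, rfl⟩) (AddSubmonoid.subset_closure ⟨j, hj, rfl⟩)


include P in
theorem torsionFree : Module.IsTorsionFree ℤ M := by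
  have : Module.IsReflexive ℤ M := .of_isPerfPair P.toLinearMap
  infer_instance

theorem dvd_of_smul_eq_smul_indiv (i j : ι) (hind : RootD.IsIndiv P i) (a b : ℤ) (hb : b ≠ 0)
    (h : b • P.root j = a • P.root i) : b ∣ a := by
  have : Module.IsTorsionFree ℤ M := torsionFree P
  have h1 := congrArg (fun x => P.toLinearMap x (P.coroot j)) h
  have h2 := congrArg (fun x => P.toLinearMap x (P.coroot i)) h
  simp only [map_smul, LinearMap.smul_apply, P.root_coroot_eq_pairing, P.pairing_same, smul_eq_mul] at h1 h2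
  set p := P.pairing i j with hp
  set q := P.pairing j i with hq
  have ha : a ≠ 0 := by
    rintro rfl
    simp at h1
    exact hb h1
  have hpq : p * q = 4 := by
    have : (a * b) * (p * q) = (a * b) * 4 := by
      calc (a * b) * (p * q) = (a * p) * (b * q) := by ring
        _ = (b * 2) * (a * 2) := by rw [← h1, h2]
        _ = _ := by ring
    exact mul_left_cancel₀ (mul_ne_zero ha hb) this
  have hpabs : p.natAbs ∣ 4 := by
    have : p ∣ 4 := ⟨q, hpq.symm⟩
    exact Int.natAbs_dvd_natAbs.mpr this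
  have hple : p.natAbs ≤ 4 := Nat.le_of_dvd (by norm_num) hpabs
  have hp4 : -4 ≤ p ∧ p ≤ 4 := by omega
  obtain ⟨hl, hu⟩ := hp4
  -- enumerate
  have hcases : (p = 1 ∧ q = 4) ∨ (p = 2 ∧ q = 2) ∨ (p = 4 ∧ q = 1) ∨ (p = -1 ∧ q = -4) ∨
      (p = -2 ∧ q = -2) ∨ (p = -4 ∧ q = -1) := by
    interval_cases p <;> omega
  rcases hcases with ⟨h3, h4⟩ | ⟨h3, h4⟩ | ⟨h3, h4⟩ | ⟨h3, h4⟩ | ⟨h3, h4⟩ | ⟨h3, h4⟩
  · exact ⟨2, by rw [h3] at h1; linarith⟩
  · exact ⟨1, by rw [h3] at h1; linarith⟩
  · exfalso
    rw [h3] at h1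
    have hb2 : b = 2 * a := by linarith
    rw [hb2, mul_comm, mul_smul, ← sub_eq_zero, ← smul_sub, smul_eq_zero] at h
    rcases h with h | h
    · exact ha h
    · exact hind j (sub_eq_zero.mp h)
  · exact ⟨-2, by rw [h3] at h1; linarith⟩
  · exact ⟨-1, by rw [h3] at h1; linarith⟩
  · exfalso
    rw [h3] at h1
    have hb2 : b = a * (-2) := by linarith
    rw [hb2, mul_smul, ← sub_eq_zero, ← smul_sub, smul_eq_zero] at h
    rcases h with h | h
    · exact ha h
    · apply hind (P.reflectionPerm j j)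
      rw [root_neg, smul_neg, ← neg_smul]
      exact sub_eq_zero.mp h

theorem exists_finsupp_of_mem_natSpan (Δ : Set ι) {x : M} (hx : x ∈ RootD.natSpan P Δ) :
    ∃ l : ι →₀ ℤ, l ∈ Finsupp.supported ℤ ℤ Δ ∧ (∀ d, 0 ≤ l d) ∧
      Finsupp.linearCombination ℤ P.root l = x := by
  classical
  induction hx using AddSubmonoid.closure_induction with
  | mem x hx =>
    obtain ⟨d, hd, rfl⟩ := hx
    refine ⟨Finsupp.single d 1, Finsupp.single_mem_supported ℤ 1 hd, ?_, by simp⟩
    intro e
    rw [Finsupp.single_apply]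
    split_ifs <;> norm_num
  | zero => exact ⟨0, Submodule.zero_mem _, fun _ => le_refl _, by simp⟩
  | add x y _ _ hx hy =>
    obtain ⟨l₁, h1, h2, h3⟩ := hx
    obtain ⟨l₂, h4, h5, h6⟩ := hy
    exact ⟨l₁ + l₂, Submodule.add_mem _ h1 h4, fun d => by
      rw [Finsupp.add_apply]; exact add_nonneg (h2 d) (h5 d), by rw [map_add, h3, h6]⟩

theorem pairing_le_zero_of_mem_simpleSys [Finite ι] (Δ : Set ι) (hΔ : RootD.IsSimpleSys P Δ) (i j : ι)
    (hi : i ∈ Δ) (hj : j ∈ Δ) (hij : i ≠ j) : P.pairing j i ≤ 0 := by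
  classical
  by_contra hcon
  push Not at hcon
  obtain ⟨k, hk⟩ := root_sub_root_mem_of_pairing_pos P hcon hij.symm
  have hli := linearIndepOn_iff.mp hΔ.linInd
  have key : ∀ (l : ι →₀ ℤ), l ∈ Finsupp.supported ℤ ℤ Δ → (∀ d, 0 ≤ l d) → ∀ (s : ℤ), (s = 1 ∨ s = -1) →
      Finsupp.linearCombination ℤ P.root l = s • (P.root j - P.root i) → False := by
    intro l hl hnn s hs hsum
    have hmem : l - s • (Finsupp.single j 1 - Finsupp.single i 1) ∈ Finsupp.supported ℤ ℤ Δ := by
      refine Submodule.sub_mem _ hl (Submodule.smul_mem _ _ (Submodule.sub_mem _ ?_ ?_))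
      · exact Finsupp.single_mem_supported ℤ 1 hj
      · exact Finsupp.single_mem_supported ℤ 1 hi
    have h0 := hli _ hmem (by
      rw [map_sub, map_smul, map_sub, hsum]
      simp)
    have hi0 := DFunLike.congr_fun h0 i
    have hj0 := DFunLike.congr_fun h0 j
    simp only [Finsupp.coe_sub, Finsupp.coe_smul, Pi.sub_apply, Pi.smul_apply, Finsupp.single_apply,
      if_neg hij, if_neg hij.symm, smul_eq_mul, Finsupp.coe_zero, Pi.zero_apply] at hi0 hj0
    have hni := hnn i
    have hnj := hnn j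
    simp only [if_true] at hi0 hj0
    rcases hs with rfl | rfl <;> omega
  rcases hΔ.mem_or_neg_mem k with h | h
  · obtain ⟨l, hl, hnn, hsum⟩ := exists_finsupp_of_mem_natSpan P Δ h
    exact key l hl hnn 1 (Or.inl rfl) (by rw [hsum, hk, one_smul])
  · obtain ⟨l, hl, hnn, hsum⟩ := exists_finsupp_of_mem_natSpan P Δ h
    exact key l hl hnn (-1) (Or.inr rfl) (by rw [hsum, hk]; simp)

theorem isOrthogonal_iff (i j : ι) : P.IsOrthogonal i j ↔ P.pairing i j = 0 :=
  ⟨fun h => h.1, fun h => ⟨h, P.pairing_eq_zero_iff'.mp h⟩⟩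

theorem not_orth_cases [Finite ι] (i j : ι) (hij : ¬ P.IsOrthogonal i j) :
    i = j ∨ j = P.reflectionPerm i i ∨ (∃ k, P.root i = P.root k + P.root j) ∨
      (∃ k, P.root k = P.root i + P.root j) := by
  rw [isOrthogonal_iff] at hij
  by_cases h1 : i = j
  · exact Or.inl h1
  by_cases h2 : P.root i = - P.root j
  · right; left
    apply P.root.injective
    rw [root_neg, h2, neg_neg]
  rcases lt_or_gt_of_ne hij with hneg | hpos
  · obtain ⟨k, hk⟩ := root_add_root_mem_of_pairing_neg P hneg h2
    exact Or.inr (Or.inr (Or.inr ⟨k, hk⟩))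
  · obtain ⟨k, hk⟩ := root_sub_root_mem_of_pairing_pos P hpos h1
    exact Or.inr (Or.inr (Or.inl ⟨k, by rw [hk]; abel⟩))

theorem neg_neg_idx (j : ι) : P.reflectionPerm (P.reflectionPerm j j) (P.reflectionPerm j j) = j := by
  apply P.root.injective
  rw [root_neg, root_neg, neg_neg]

theorem not_orth_neg (j : ι) : ¬ P.IsOrthogonal j (P.reflectionPerm j j) := by
  rw [isOrthogonal_iff, P.pairing_reflectionPerm_self_right, P.pairing_same]
  norm_num

theorem not_orth_of_add {a b k : ι} (h : P.root k = P.root a + P.root b) :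
    ¬ P.IsOrthogonal a k ∨ ¬ P.IsOrthogonal b k := by
  by_contra hcon
  push Not at hcon
  have h1 := P.pairing_eq_add_of_root_eq_add (l := k) h
  rw [P.pairing_same, hcon.1.1, hcon.2.1] at h1
  norm_num at h1


end Groth.Agent.Lib.Helper29.RootDBasic
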