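import Mathlib
import Groth.Agent.Lib.Helper29.RootDBasic
import Groth.Agent.Lib.Helper2.RootD.Simple

/-!
# Partitions of root data into closed symmetric subsets and simple systems
-/
set_option autoImplicit false

namespace Groth.Agent.Lib.Helper29.RootDPart

open Groth.Agent.Lib.Helper29.RootDBasic
open Groth.Agent.Lib.Helper2.RootD

variable {ι M N : Type*} [AddCommGroup M] [AddCommGroup N] {P : RootPairing ι ℤ M N}
  {Δ : Set ι} (hΔ : RootD.IsSimpleSys P Δ)

include hΔ

/-- if the support of the coefficient vector of `k` lies in `S` then `k ∈ inSpan S` -/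
theorem mem_inSpan_of_support (S : Set ι) (k : ι) (h : ∀ δ : Δ, coef hΔ k δ ≠ 0 → (δ : ι) ∈ S) :
    k ∈ RootD.inSpan P S := by
  change P.root k ∈ Submodule.span ℤ (P.root '' S)
  rw [root_eq_sum hΔ k]
  apply Submodule.sum_mem
  intro δ hδ
  exact Submodule.smul_mem _ _ (Submodule.subset_span ⟨δ, h δ (Finsupp.mem_support_iff.mp hδ), rfl⟩)

/-- disjoint subsets of a simple system have disjoint `inSpan`s -/
theorem not_mem_inSpan_both (S T : Set ι) (hS : S ⊆ Δ) (hT : T ⊆ Δ) (hST : Disjoint S T) (k : ι) :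
    ¬ (k ∈ RootD.inSpan P S ∧ k ∈ RootD.inSpan P T) := by
  rintro ⟨h1, h2⟩
  have hli : LinearIndepOn ℤ P.root (S ∪ T) := hΔ.linInd.mono (Set.union_subset hS hT)
  have hdisj := ((linearIndepOn_union_iff hST).mp hli).2.2
  have : P.root k ∈ (⊥ : Submodule ℤ M) := by
    rw [← hdisj.eq_bot]
    exact ⟨h1, h2⟩
  exact P.ne_zero k ((Submodule.mem_bot ℤ).mp this)

/-- support of a positive root in a part of a partition lies in that part -/
theorem support_subset_of_partition_pos [Finite ι] (R' : Set ι) (hc : RootD.IsClosedSub P R')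
    (hs : RootD.IsSymmSub P R') (hc' : RootD.IsClosedSub P R'ᶜ) (hs' : RootD.IsSymmSub P R'ᶜ) :
    ∀ (n : ℕ) (k : ι), k ∈ RootD.posOf P Δ → k ∈ R' → ht hΔ k ≤ n →
      ∀ δ : Δ, coef hΔ k δ ≠ 0 → (δ : ι) ∈ R' := by
  classical
  intro n
  induction n with
  | zero =>
    intro k hk _ hht
    have := ht_pos_of_mem_posOf hΔ hk
    omega
  | succ n ih =>
    intro k hk hkR hht δ hδ
    by_cases hkΔ : k ∈ Δ
    · have h1 : coef hΔ k = Finsupp.single ⟨k, hkΔ⟩ 1 := coef_of_mem hΔ ⟨k, hkΔ⟩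
      rw [h1, Finsupp.single_apply] at hδ
      split_ifs at hδ with h
      · rw [← h]; exact hkR
      · exact absurd rfl hδ
    · obtain ⟨j, hj, δ₀, hδ₀, hsum⟩ := exists_decomp hΔ hk hkΔ
      rcases partition_add P R' hc hs hc' hs' j δ₀ k hsum with h | h
      · have hht' : ht hΔ j ≤ n := by
          have h1 := ht_add hΔ hsum
          have h2 : ht hΔ δ₀ = 1 := ht_of_mem hΔ ⟨δ₀, hδ₀⟩
          omega
        have hcoef := coef_add hΔ hsum
        have h1 : coef hΔ δ₀ = Finsupp.single ⟨δ₀, hδ₀⟩ 1 := coef_of_mem hΔ ⟨δ₀, hδ₀⟩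
        rw [hcoef, h1, Finsupp.add_apply, Finsupp.single_apply] at hδ
        by_cases hj0 : coef hΔ j δ = 0
        · rw [hj0, zero_add] at hδ
          split_ifs at hδ with h2
          · rw [← h2]; exact h.2.1
          · exact absurd rfl hδ
        · exact ih j hj h.1 hht' δ hj0
      · exact absurd hkR h.2.2

theorem support_subset_of_partition [Finite ι] (R' : Set ι) (hc : RootD.IsClosedSub P R')
    (hs : RootD.IsSymmSub P R') (hc' : RootD.IsClosedSub P R'ᶜ) (hs' : RootD.IsSymmSub P R'ᶜ)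
    (k : ι) (hkR : k ∈ R') (δ : Δ) (hδ : coef hΔ k δ ≠ 0) : (δ : ι) ∈ R' := by
  rcases mem_posOf_or_neg hΔ k with hk | hk
  · exact support_subset_of_partition_pos hΔ R' hc hs hc' hs' (ht hΔ k).toNat k hk hkR
      (by omega) δ hδ
  · have h1 : coef hΔ (P.reflectionPerm k k) δ ≠ 0 := by
      rw [coef_neg, Finsupp.neg_apply]; simpa using hδ
    exact support_subset_of_partition_pos hΔ R' hc hs hc' hs' (ht hΔ (P.reflectionPerm k k)).toNat
      (P.reflectionPerm k k) hk (hs hkR) (by omega) δ h1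

end Groth.Agent.Lib.Helper29.RootDPart
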