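import Mathlib
import Groth.Prelude.Def_GrSeg
import Groth.Prelude.Def_GrLC

set_option autoImplicit false
set_option linter.unusedSectionVars false
universe u

namespace Groth.Agent.Lib.Helper29.GrDual

open DirectSum

section Basic

variable {M : Type*} [AddCommGroup M]
  {τ : Type*} [SetLike τ M] [AddSubgroupClass τ M] (ℳ : ℤ → τ) [DirectSum.Decomposition ℳ]

/-- the degree-`n` component, as an element of `M` -/
def pr (n : ℤ) (x : M) : M := (decompose ℳ x n : M)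

theorem pr_mem (n : ℤ) (x : M) : pr ℳ n x ∈ ℳ n := (decompose ℳ x n).2

theorem pr_zero (n : ℤ) : pr ℳ n (0 : M) = 0 := by simp [pr]

theorem pr_add (n : ℤ) (x y : M) : pr ℳ n (x + y) = pr ℳ n x + pr ℳ n y := by
  simp [pr, decompose_add]

theorem pr_neg (n : ℤ) (x : M) : pr ℳ n (-x) = -pr ℳ n x := by
  have h : pr ℳ n (-x) + pr ℳ n x = 0 := by rw [← pr_add, neg_add_cancel, pr_zero]
  exact eq_neg_of_add_eq_zero_left h

theorem pr_sub (n : ℤ) (x y : M) : pr ℳ n (x - y) = pr ℳ n x - pr ℳ n y := by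
  rw [sub_eq_add_neg, pr_add, pr_neg, ← sub_eq_add_neg]

theorem pr_of_mem_same {n : ℤ} {x : M} (hx : x ∈ ℳ n) : pr ℳ n x = x :=
  decompose_of_mem_same ℳ hx

theorem pr_of_mem_ne {n m : ℤ} {x : M} (hx : x ∈ ℳ n) (h : n ≠ m) : pr ℳ m x = 0 :=
  decompose_of_mem_ne ℳ hx h

theorem eq_zero_of_pr (x : M) (h : ∀ n, pr ℳ n x = 0) : x = 0 := by
  classical
  rw [← DirectSum.sum_support_decompose ℳ x]
  exact Finset.sum_eq_zero (fun i _ => h i)

theorem mem_of_pr {n : ℤ} (x : M) (h : ∀ m, m ≠ n → pr ℳ m x = 0) : x ∈ ℳ n := by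
  classical
  rw [← DirectSum.sum_support_decompose ℳ x]
  refine sum_mem (fun i _ => ?_)
  by_cases hi : i = n
  · subst hi; exact pr_mem ℳ i x
  · have := h i hi
    unfold pr at this
    rw [this]; exact zero_mem _

/-- an additive map vanishing off degree `m₀` only sees the degree-`m₀` component -/
theorem map_eq_map_pr {N : Type*} [AddCommGroup N] {F : Type*} [FunLike F M N]
    [AddMonoidHomClass F M N] (φ : F) {m₀ : ℤ}
    (h : ∀ m, m ≠ m₀ → ∀ x ∈ ℳ m, φ x = 0) (x : M) : φ x = φ (pr ℳ m₀ x) := by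
  classical
  induction x using DirectSum.Decomposition.inductionOn ℳ with
  | zero => rw [pr_zero]
  | @homogeneous i y =>
    by_cases hi : i = m₀
    · subst hi; rw [pr_of_mem_same ℳ y.2]
    · rw [pr_of_mem_ne ℳ y.2 hi, h i hi y y.2, map_zero]
  | add y z hy hz => rw [pr_add, map_add, map_add, hy, hz]

/-- additive maps homogeneous of degree `sh` commute with the projections -/
theorem pr_map {N : Type*} [AddCommGroup N] {τ₂ : Type*} [SetLike τ₂ N] [AddSubgroupClass τ₂ N]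
    (𝒩 : ℤ → τ₂) [DirectSum.Decomposition 𝒩] {F : Type*} [FunLike F M N]
    [AddMonoidHomClass F M N] (φ : F) (sh : ℤ) (hφ : ∀ n, ∀ x ∈ ℳ n, φ x ∈ 𝒩 (n + sh))
    (n : ℤ) (x : M) : pr 𝒩 (n + sh) (φ x) = φ (pr ℳ n x) := by
  classical
  induction x using DirectSum.Decomposition.inductionOn ℳ with
  | zero => rw [map_zero, pr_zero, pr_zero, map_zero]
  | @homogeneous i y =>
    by_cases hi : i = n
    · subst hi
      rw [pr_of_mem_same ℳ y.2, pr_of_mem_same 𝒩 (hφ i y y.2)]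
    · rw [pr_of_mem_ne ℳ y.2 hi, map_zero,
        pr_of_mem_ne 𝒩 (hφ i y y.2) (by intro h; apply hi; omega)]
  | add y z hy hz => rw [map_add, pr_add, pr_add, map_add, hy, hz]

theorem pr_map0 {N : Type*} [AddCommGroup N] {τ₂ : Type*} [SetLike τ₂ N] [AddSubgroupClass τ₂ N]
    (𝒩 : ℤ → τ₂) [DirectSum.Decomposition 𝒩] {F : Type*} [FunLike F M N]
    [AddMonoidHomClass F M N] (φ : F) (hφ : ∀ n, ∀ x ∈ ℳ n, φ x ∈ 𝒩 n)
    (n : ℤ) (x : M) : pr 𝒩 n (φ x) = φ (pr ℳ n x) := by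
  have := pr_map ℳ 𝒩 φ 0 (fun n x hx => by rw [add_zero]; exact hφ n x hx) n x
  rwa [add_zero] at this

end Basic

section Graded

variable {k : Type u} [Field k] {R : Type u} [CommRing R] [Algebra k R]
  (𝒜 : ℤ → Submodule k R) [GradedAlgebra 𝒜]
variable {M : Type u} [AddCommGroup M] [Module R M]
  {τ : Type u} [SetLike τ M] [AddSubgroupClass τ M] (ℳ : ℤ → τ) [DirectSum.Decomposition ℳ]
  [SetLike.GradedSMul 𝒜 ℳ]

theorem pr_smul_hom {c : ℤ} {r : R} (hr : r ∈ 𝒜 c) (x : M) (j : ℤ) :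
    pr ℳ (c + j) (r • x) = r • pr ℳ j x := by
  classical
  induction x using DirectSum.Decomposition.inductionOn ℳ with
  | zero => rw [smul_zero, pr_zero, pr_zero, smul_zero]
  | @homogeneous i y =>
    have hmem : r • (y : M) ∈ ℳ (c + i) := SetLike.GradedSMul.smul_mem hr y.2
    by_cases h : i = j
    · subst h
      rw [pr_of_mem_same ℳ hmem, pr_of_mem_same ℳ y.2]
    · rw [pr_of_mem_ne ℳ hmem (by simpa using h), pr_of_mem_ne ℳ y.2 h, smul_zero]
  | add y z hy hz =>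
    rw [smul_add, pr_add, pr_add, hy, hz, smul_add]

theorem pr_smul_hom' {c : ℤ} {r : R} (hr : r ∈ 𝒜 c) (x : M) (n : ℤ) :
    pr ℳ n (r • x) = r • pr ℳ (n - c) x := by
  have := pr_smul_hom 𝒜 ℳ hr x (n - c)
  rwa [add_sub_cancel] at this

theorem pr_smul_of_mem {n' : ℤ} {x : M} (hx : x ∈ ℳ n') (r : R) (n : ℤ) :
    pr ℳ n (r • x) = (pr 𝒜 (n - n') r) • x := by
  classical
  induction r using DirectSum.Decomposition.inductionOn 𝒜 with
  | zero => rw [zero_smul, pr_zero, pr_zero, zero_smul]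
  | @homogeneous j a =>
    have hmem : (a : R) • x ∈ ℳ (j + n') := SetLike.GradedSMul.smul_mem a.2 hx
    by_cases hj : n = j + n'
    · subst hj
      rw [add_sub_cancel_right, pr_of_mem_same 𝒜 a.2, pr_of_mem_same ℳ hmem]
    · rw [pr_of_mem_ne ℳ hmem (fun h => hj h.symm), pr_of_mem_ne 𝒜 a.2 (by omega), zero_smul]
  | add a b ha hb => rw [add_smul, pr_add, ha, hb, pr_add, add_smul]

theorem smul_mem_add {c n : ℤ} {r : R} (hr : r ∈ 𝒜 c) {x : M} (hx : x ∈ ℳ n) :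
    r • x ∈ ℳ (c + n) := SetLike.GradedSMul.smul_mem hr hx

theorem algebraMap_mem_zero (c : k) : algebraMap k R c ∈ 𝒜 0 := by
  rw [Algebra.algebraMap_eq_smul_one]
  exact (𝒜 0).smul_mem c SetLike.GradedOne.one_mem

variable [Module k M] [IsScalarTower k R M]

include 𝒜 in
theorem ksmul_mem {n : ℤ} {x : M} (c : k) (hx : x ∈ ℳ n) : c • x ∈ ℳ n := by
  rw [← algebraMap_smul R c x]
  have := smul_mem_add 𝒜 ℳ (algebraMap_mem_zero 𝒜 c) hx
  rwa [zero_add] at this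

/-- the degree `n` piece as a `k`-subspace -/
def pc (n : ℤ) : Submodule k M where
  carrier := (ℳ n : Set M)
  add_mem' ha hb := add_mem ha hb
  zero_mem' := zero_mem _
  smul_mem' c _ hx := ksmul_mem 𝒜 ℳ c hx

theorem mem_pc {n : ℤ} {x : M} : x ∈ pc 𝒜 ℳ n ↔ x ∈ ℳ n := Iff.rfl

include 𝒜 in
theorem pr_ksmul (c : k) (n : ℤ) (x : M) : pr ℳ n (c • x) = c • pr ℳ n x := by
  rw [← algebraMap_smul R c x, ← algebraMap_smul R c (pr ℳ n x)]
  have := pr_smul_hom 𝒜 ℳ (algebraMap_mem_zero 𝒜 c) x n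
  rwa [zero_add] at this

/-- the `k`-linear projection to degree `n` -/
def prL (n : ℤ) : M →ₗ[k] M where
  toFun := pr ℳ n
  map_add' := pr_add ℳ n
  map_smul' c x := pr_ksmul 𝒜 ℳ c n x

theorem prL_apply (n : ℤ) (x : M) : prL 𝒜 ℳ n x = pr ℳ n x := rfl

end Graded

section Pairing

variable {k : Type u} [Field k] {R : Type u} [CommRing R] [Algebra k R]
variable {M : Type u} [AddCommGroup M] [Module R M] [Module k M] [IsScalarTower k R M]
  {τ : Type u} [SetLike τ M] [AddSubgroupClass τ M] {ℳ : ℤ → τ} [DirectSum.Decomposition ℳ]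
variable {D : Type u} [AddCommGroup D] [Module R D] [Module k D] [IsScalarTower k R D]
  {τ' : Type u} [SetLike τ' D] [AddSubgroupClass τ' D] {𝒟 : ℤ → τ'} [DirectSum.Decomposition 𝒟]
  {β : D →ₗ[k] M →ₗ[k] k}

theorem beta_eq_pr_right (hD : GrSeg.IsGDual R ℳ 𝒟 β) {n : ℤ} {d : D} (hd : d ∈ 𝒟 n) (x : M) :
    β d x = β d (pr ℳ (-n) x) :=
  map_eq_map_pr ℳ (β d) (fun m hm y hy => hD.vanish n d hd m hm y hy) x

theorem beta_eq_pr_left (hD : GrSeg.IsGDual R ℳ 𝒟 β) {m : ℤ} {x : M} (hx : x ∈ ℳ m) (d : D) :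
    β d x = β (pr 𝒟 (-m) d) x := by
  have h := map_eq_map_pr 𝒟 (β.flip x) (m₀ := -m) (fun n hn d' hd' => ?_) d
  · simpa using h
  · rw [LinearMap.flip_apply]
    exact hD.vanish n d' hd' m (by intro h; apply hn; rw [h, neg_neg]) x hx

theorem beta_pr_pr (hD : GrSeg.IsGDual R ℳ 𝒟 β) (n : ℤ) (d : D) (x : M) :
    β (pr 𝒟 n d) x = β d (pr ℳ (-n) x) := by
  rw [beta_eq_pr_right hD (pr_mem 𝒟 n d) x, beta_eq_pr_left hD (pr_mem ℳ (-n) x) d, neg_neg]

theorem left_nondeg (hD : GrSeg.IsGDual R ℳ 𝒟 β) {d : D} (h : ∀ x, β d x = 0) : d = 0 := by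
  apply eq_zero_of_pr 𝒟
  intro n
  apply hD.eq_zero n _ (pr_mem 𝒟 n d)
  intro x _
  rw [beta_pr_pr hD]
  exact h _

theorem left_ext (hD : GrSeg.IsGDual R ℳ 𝒟 β) {d d' : D} (h : ∀ x, β d x = β d' x) : d = d' := by
  rw [← sub_eq_zero]
  apply left_nondeg hD
  intro x
  rw [map_sub, LinearMap.sub_apply, h x, sub_self]

theorem right_nondeg (hD : GrSeg.IsGDual R ℳ 𝒟 β) {x : M} (h : ∀ d, β d x = 0) : x = 0 := by
  apply eq_zero_of_pr ℳ
  intro n
  by_contra hne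
  obtain ⟨φ, hφ, -⟩ := Submodule.exists_dual_map_eq_bot_of_notMem (p := (⊥ : Submodule k M))
    (x := pr ℳ n x) (by simpa using hne) inferInstance
  obtain ⟨d, hd, hdφ⟩ := hD.exists_eq (-n) φ
  apply hφ
  have h1 := beta_eq_pr_right hD hd x
  rw [neg_neg] at h1
  rw [← hdφ (pr ℳ n x) (by rw [neg_neg]; exact pr_mem ℳ n x), ← h1]
  exact h d

theorem right_ext (hD : GrSeg.IsGDual R ℳ 𝒟 β) {x x' : M} (h : ∀ d, β d x = β d x') : x = x' := by
  rw [← sub_eq_zero]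
  apply right_nondeg hD
  intro d
  rw [map_sub, h d, sub_self]

theorem exists_of_vanish (hD : GrSeg.IsGDual R ℳ 𝒟 β) (n : ℤ) (φ : M →ₗ[k] k)
    (hφ : ∀ m, m ≠ -n → ∀ x ∈ ℳ m, φ x = 0) : ∃ d, d ∈ 𝒟 n ∧ ∀ x, β d x = φ x := by
  obtain ⟨d, hd, hdφ⟩ := hD.exists_eq n φ
  refine ⟨d, hd, fun x => ?_⟩
  rw [beta_eq_pr_right hD hd x, map_eq_map_pr ℳ φ hφ x]
  exact hdφ _ (pr_mem ℳ _ x)

theorem mem_of_vanish (hD : GrSeg.IsGDual R ℳ 𝒟 β) (n : ℤ) (d : D)
    (h : ∀ m, m ≠ -n → ∀ x ∈ ℳ m, β d x = 0) : d ∈ 𝒟 n := by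
  obtain ⟨d', hd', hdd⟩ := exists_of_vanish hD n (β d) h
  rw [← left_ext hD hdd]
  exact hd'

/-- the universal property of the graded dual -/
theorem exists_lift (hD : GrSeg.IsGDual R ℳ 𝒟 β) {X : Type*} [AddCommGroup X] [Module R X]
    {τ'' : Type*} [SetLike τ'' X] [AddSubgroupClass τ'' X] (𝒳 : ℤ → τ'')
    [DirectSum.Decomposition 𝒳] (γ : X →+ (M →ₗ[k] k)) (sh : ℤ)
    (hγ : ∀ n, ∀ x ∈ 𝒳 n, ∀ m, m ≠ -(n + sh) → ∀ y ∈ ℳ m, γ x y = 0)
    (hγR : ∀ (r : R) (x : X) (y : M), γ (r • x) y = γ x (r • y)) :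
    ∃ h : X →ₗ[R] D, (∀ x y, β (h x) y = γ x y) ∧ ∀ n, ∀ x ∈ 𝒳 n, h x ∈ 𝒟 (n + sh) := by
  classical
  have step1 : ∀ x : X, ∃ d : D, ∀ y, β d y = γ x y := by
    intro x
    induction x using DirectSum.Decomposition.inductionOn 𝒳 with
    | zero => exact ⟨0, fun y => by simp⟩
    | @homogeneous i x =>
      obtain ⟨d, -, hd⟩ := exists_of_vanish hD (i + sh) (γ x) (hγ i x x.2)
      exact ⟨d, hd⟩
    | add x x' hx hx' =>
      obtain ⟨d, hd⟩ := hx
      obtain ⟨d', hd'⟩ := hx'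
      exact ⟨d + d', fun y => by rw [map_add, map_add, LinearMap.add_apply, LinearMap.add_apply,
        hd, hd']⟩
  choose h₀ hh₀ using step1
  refine ⟨{ toFun := h₀, map_add' := ?_, map_smul' := ?_ }, hh₀, ?_⟩
  · intro x x'
    apply left_ext hD
    intro y
    rw [map_add, LinearMap.add_apply, hh₀, hh₀, hh₀, map_add, LinearMap.add_apply]
  · intro r x
    apply left_ext hD
    intro y
    rw [RingHom.id_apply, hD.map_smul, hh₀, hh₀, hγR]
  · intro n x hx
    apply mem_of_vanish hD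
    intro m hm y hy
    show β (h₀ x) y = 0
    rw [hh₀]
    exact hγ n x hx m hm y hy

end Pairing


section Low

variable {M : Type*} [AddCommGroup M]
  {τ : Type*} [SetLike τ M] [AddSubgroupClass τ M] (ℳ : ℤ → τ) [DirectSum.Decomposition ℳ]

/-- every element has no components before some point (in the direction given by `s`) -/
theorem exists_low (s : ℤ) (x : M) : ∃ c : ℤ, ∀ i, s * i < c → pr ℳ i x = 0 := by
  classical
  induction x using DirectSum.Decomposition.inductionOn ℳ with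
  | zero => exact ⟨0, fun i _ => pr_zero ℳ i⟩
  | @homogeneous i₀ y =>
    refine ⟨s * i₀, fun i hi => pr_of_mem_ne ℳ y.2 ?_⟩
    intro h; rw [h] at hi; exact lt_irrefl _ hi
  | add y z hy hz =>
    obtain ⟨c, hc⟩ := hy
    obtain ⟨c', hc'⟩ := hz
    refine ⟨min c c', fun i hi => ?_⟩
    rw [pr_add, hc i (lt_of_lt_of_le hi (min_le_left _ _)),
      hc' i (lt_of_lt_of_le hi (min_le_right _ _)), add_zero]

end Low

section Finite

variable {k : Type u} [Field k] {R : Type u} [CommRing R] [Algebra k R]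
  (𝒜 : ℤ → Submodule k R) [GradedAlgebra 𝒜]
variable {M : Type u} [AddCommGroup M] [Module R M] [Module k M] [IsScalarTower k R M]
  {τ : Type u} [SetLike τ M] [AddSubgroupClass τ M] (ℳ : ℤ → τ) [DirectSum.Decomposition ℳ]
  [SetLike.GradedSMul 𝒜 ℳ]
variable (hpos : ∀ n : ℤ, n < 0 → 𝒜 n = ⊥)

include hpos

theorem eq_zero_of_mem_neg {j : ℤ} (hj : j < 0) {a : R} (ha : a ∈ 𝒜 j) : a = 0 := by
  rw [hpos j hj] at ha; exact (Submodule.mem_bot k).mp ha

/-- elements with no components in degrees `< n` -/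
def Mge (n : ℤ) : Submodule R M where
  carrier := {x | ∀ m, m < n → pr ℳ m x = 0}
  zero_mem' m _ := pr_zero ℳ m
  add_mem' hx hy m hm := by rw [pr_add, hx m hm, hy m hm, add_zero]
  smul_mem' r x hx := by
    intro m hm
    induction r using DirectSum.Decomposition.inductionOn 𝒜 with
    | zero => rw [zero_smul, pr_zero]
    | @homogeneous j a =>
      by_cases hj : j < 0
      · rw [eq_zero_of_mem_neg 𝒜 hpos hj a.2, zero_smul, pr_zero]
      · rw [pr_smul_hom' 𝒜 ℳ a.2, hx (m - j) (by omega), smul_zero]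
    | add a b ha hb => rw [add_smul, pr_add, ha, hb, add_zero]

theorem mem_Mge {n : ℤ} {x : M} : x ∈ Mge 𝒜 ℳ hpos n ↔ ∀ m, m < n → pr ℳ m x = 0 := Iff.rfl

theorem Mge_anti {n n' : ℤ} (h : n ≤ n') : Mge 𝒜 ℳ hpos n' ≤ Mge 𝒜 ℳ hpos n :=
  fun _ hx m hm => hx m (lt_of_lt_of_le hm h)

theorem mem_Mge_of_mem {n : ℤ} {x : M} (hx : x ∈ ℳ n) : x ∈ Mge 𝒜 ℳ hpos n :=
  fun _ hm => pr_of_mem_ne ℳ hx (by omega)

theorem pr_smul_of_mem_Mge {n : ℤ} {x : M} (hx : x ∈ Mge 𝒜 ℳ hpos n) (r : R) :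
    pr ℳ n (r • x) = (pr 𝒜 0 r) • pr ℳ n x := by
  induction r using DirectSum.Decomposition.inductionOn 𝒜 with
  | zero => rw [zero_smul, pr_zero, pr_zero, zero_smul]
  | @homogeneous j a =>
    rcases lt_trichotomy j 0 with hj | hj | hj
    · rw [eq_zero_of_mem_neg 𝒜 hpos hj a.2, zero_smul, pr_zero, pr_zero, zero_smul]
    · subst hj
      rw [pr_of_mem_same 𝒜 a.2, pr_smul_hom' 𝒜 ℳ a.2, sub_zero]
    · rw [pr_smul_hom' 𝒜 ℳ a.2, hx (n - j) (by omega), smul_zero,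
        pr_of_mem_ne 𝒜 a.2 hj.ne', zero_smul]
  | add a b ha hb => rw [add_smul, pr_add, ha, hb, pr_add, add_smul]

variable (h0 : 𝒜 0 = Submodule.span k {(1 : R)})

include h0 in
theorem exists_eq_algebraMap {a : R} (ha : a ∈ 𝒜 0) : ∃ c : k, a = algebraMap k R c := by
  rw [h0] at ha
  obtain ⟨c, rfl⟩ := Submodule.mem_span_singleton.mp ha
  exact ⟨c, (Algebra.algebraMap_eq_smul_one c).symm⟩

include h0 in
theorem pr_smul_of_mem_Mge' {n : ℤ} {x : M} (hx : x ∈ Mge 𝒜 ℳ hpos n) (r : R) :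
    ∃ c : k, pr ℳ n (r • x) = c • pr ℳ n x := by
  obtain ⟨c, hc⟩ := exists_eq_algebraMap 𝒜 hpos h0 (pr_mem 𝒜 0 r)
  exact ⟨c, by rw [pr_smul_of_mem_Mge 𝒜 ℳ hpos hx, hc, algebraMap_smul]⟩

include h0 in
theorem finite_pc_of_finite [Algebra.FiniteType k R] [Module.Finite R M] (n : ℤ) :
    Module.Finite k (pc 𝒜 ℳ n) := by
  classical
  haveI : IsNoetherianRing R := Algebra.FiniteType.isNoetherianRing k R
  haveI : IsNoetherian R M := isNoetherian_of_isNoetherianRing_of_finite R M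
  obtain ⟨S, hS⟩ := IsNoetherian.noetherian (Mge 𝒜 ℳ hpos n)
  have hle : pc 𝒜 ℳ n ≤ Submodule.span k ((S.image (pr ℳ n) : Finset M) : Set M) := by
    intro x hx
    have hx' : x ∈ Mge 𝒜 ℳ hpos n := mem_Mge_of_mem 𝒜 ℳ hpos hx
    rw [← hS] at hx'
    have key : ∀ z, z ∈ Submodule.span R (S : Set M) →
        pr ℳ n z ∈ Submodule.span k ((S.image (pr ℳ n) : Finset M) : Set M) := by
      intro z hz
      induction hz using Submodule.span_induction with
      | mem z hz =>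
        exact Submodule.subset_span (Finset.mem_coe.mpr (Finset.mem_image_of_mem _ hz))
      | zero => rw [pr_zero]; exact zero_mem _
      | add y z _ _ hy hz => rw [pr_add]; exact add_mem hy hz
      | smul r z hz ih =>
        obtain ⟨c, hc⟩ := pr_smul_of_mem_Mge' 𝒜 ℳ hpos h0 (hS ▸ hz) r
        rw [hc]
        exact Submodule.smul_mem _ c ih
    have := key x hx'
    rwa [pr_of_mem_same ℳ hx] at this
  exact Submodule.finiteDimensional_of_le hle

theorem exists_bound_below [Module.Finite R M] :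
    ∃ n₀ : ℤ, ∀ n, n < n₀ → ∀ x ∈ ℳ n, x = 0 := by
  classical
  obtain ⟨S, hS⟩ := (Module.Finite.fg_top : (⊤ : Submodule R M).FG)
  have hfin : ∀ T : Finset M, ∃ n₀ : ℤ, ∀ s ∈ T, s ∈ Mge 𝒜 ℳ hpos n₀ := by
    intro T
    induction T using Finset.induction_on with
    | empty => exact ⟨0, fun s hs => absurd hs (Finset.notMem_empty s)⟩
    | insert a T' _ ih =>
      obtain ⟨n₀, hn₀⟩ := ih
      obtain ⟨c, hc⟩ := exists_low ℳ 1 a
      refine ⟨min c n₀, fun s hs => ?_⟩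
      rcases Finset.mem_insert.mp hs with rfl | hs
      · intro m hm
        exact hc m (by rw [one_mul]; exact lt_of_lt_of_le hm (min_le_left _ _))
      · exact Mge_anti 𝒜 ℳ hpos (min_le_right _ _) (hn₀ s hs)
  obtain ⟨n₀, hn₀⟩ := hfin S
  refine ⟨n₀, fun n hn x hx => ?_⟩
  have hall : x ∈ Mge 𝒜 ℳ hpos n₀ := by
    have : x ∈ Submodule.span R (S : Set M) := by rw [hS]; trivial
    exact (Submodule.span_le.mpr (fun s hs => hn₀ s (Finset.mem_coe.mp hs))) this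
  have := hall n hn
  rwa [pr_of_mem_same ℳ hx] at this

theorem exists_bound_above [IsArtinian R M] :
    ∃ n₁ : ℤ, ∀ n, n₁ < n → ∀ x ∈ ℳ n, x = 0 := by
  obtain ⟨N, hN⟩ := IsArtinian.monotone_stabilizes (R := R) (M := M)
    ⟨fun j : ℕ => OrderDual.toDual (Mge 𝒜 ℳ hpos (j : ℤ)), fun i j hij =>
      OrderDual.toDual_le_toDual.mpr (Mge_anti 𝒜 ℳ hpos (by exact_mod_cast hij))⟩
  refine ⟨N, fun n hn x hx => ?_⟩
  have h1 : x ∈ Mge 𝒜 ℳ hpos n := mem_Mge_of_mem 𝒜 ℳ hpos hx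
  obtain ⟨n', rfl⟩ : ∃ n' : ℕ, (n' : ℤ) = n := ⟨n.toNat, by omega⟩
  have e1 : Mge 𝒜 ℳ hpos (N : ℤ) = Mge 𝒜 ℳ hpos (n' : ℤ) := hN n' (by omega)
  have e2 : Mge 𝒜 ℳ hpos (N : ℤ) = Mge 𝒜 ℳ hpos ((n' + 1 : ℕ) : ℤ) := hN (n' + 1) (by omega)
  rw [← e1, e2] at h1
  have := h1 n' (by push_cast; omega)
  rwa [pr_of_mem_same ℳ hx] at this

/-- auxiliary `R`-submodule attached to a `k`-subspace `W` (meant to lie in degree `n`) -/
def PsiW (n : ℤ) (W : Submodule k M) : Submodule R M where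
  carrier := {x | x ∈ Mge 𝒜 ℳ hpos n ∧ pr ℳ n x ∈ W}
  zero_mem' := ⟨zero_mem _, by rw [pr_zero]; exact zero_mem _⟩
  add_mem' hx hy := ⟨add_mem hx.1 hy.1, by rw [pr_add]; exact add_mem hx.2 hy.2⟩
  smul_mem' r x hx := by
    refine ⟨Submodule.smul_mem _ r hx.1, ?_⟩
    obtain ⟨c, hc⟩ := pr_smul_of_mem_Mge' 𝒜 ℳ hpos h0 hx.1 r
    rw [hc]
    exact W.smul_mem c hx.2

include h0 in
theorem finite_pc_of_artinian [IsArtinian R M] (n : ℤ) : Module.Finite k (pc 𝒜 ℳ n) := by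
  have hmono : StrictMono (fun V : Submodule k (pc 𝒜 ℳ n) =>
      PsiW 𝒜 ℳ hpos h0 n (V.map (pc 𝒜 ℳ n).subtype)) := by
    apply Monotone.strictMono_of_injective
    · intro V V' hVV x hx
      exact ⟨hx.1, Submodule.map_mono hVV hx.2⟩
    · intro V V' hVV
      have key : ∀ V : Submodule k (pc 𝒜 ℳ n), ∀ y : pc 𝒜 ℳ n,
          y ∈ V ↔ (y : M) ∈ PsiW 𝒜 ℳ hpos h0 n (V.map (pc 𝒜 ℳ n).subtype) := by
        intro V y
        constructor
        · intro hy
          refine ⟨mem_Mge_of_mem 𝒜 ℳ hpos y.2, ?_⟩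
          rw [pr_of_mem_same ℳ y.2]
          exact Submodule.mem_map_of_mem hy
        · rintro ⟨-, hy⟩
          rw [pr_of_mem_same ℳ y.2] at hy
          obtain ⟨z, hz, hzy⟩ := Submodule.mem_map.mp hy
          have : z = y := Subtype.ext hzy
          rwa [this] at hz
      ext y
      rw [key V y, key V' y]
      show (y : M) ∈ (fun V : Submodule k (pc 𝒜 ℳ n) =>
        PsiW 𝒜 ℳ hpos h0 n (V.map (pc 𝒜 ℳ n).subtype)) V ↔ _
      rw [hVV]
  have hart : IsArtinian k (pc 𝒜 ℳ n) := hmono.wellFoundedLT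
  exact ((IsArtinianRing.tfae (R := k) (M := pc 𝒜 ℳ n)).out 0 2).mpr hart

/-- socle elements: every nonzero element of a bounded-above graded module has a nonzero multiple
killed by all elements of positive degree -/
theorem exists_smul_mem_soc (hbd : ∃ b : ℤ, ∀ n, b < n → ∀ x ∈ ℳ n, x = 0) {x : M} (hx : x ≠ 0) :
    ∃ r : R, r • x ≠ 0 ∧ ∀ i : ℤ, 0 < i → ∀ a ∈ 𝒜 i, a • (r • x) = 0 := by
  obtain ⟨b, hb⟩ := hbd
  have claim : ∀ t : ℕ, ∀ x : M, x ≠ 0 → x ∈ Mge 𝒜 ℳ hpos (b + 1 - t) →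
      ∃ r : R, r • x ≠ 0 ∧ ∀ i : ℤ, 0 < i → ∀ a ∈ 𝒜 i, a • (r • x) = 0 := by
    intro t
    induction t with
    | zero =>
      intro x hx hmem
      exfalso
      apply hx
      apply eq_zero_of_pr ℳ
      intro i
      by_cases hi : i < b + 1
      · exact hmem i (by simpa using hi)
      · exact hb i (by omega) _ (pr_mem ℳ i x)
    | succ t ih =>
      intro x hx hmem
      by_cases h : ∀ i : ℤ, 0 < i → ∀ a ∈ 𝒜 i, a • x = 0
      · exact ⟨1, by rwa [one_smul], by rwa [one_smul]⟩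
      · push Not at h
        obtain ⟨i, hi, a, ha, hax⟩ := h
        have hmem' : a • x ∈ Mge 𝒜 ℳ hpos (b + 1 - t) := by
          intro m hm
          rw [pr_smul_hom' 𝒜 ℳ ha, hmem (m - i) (by push_cast; omega), smul_zero]
        obtain ⟨r', hr', hr''⟩ := ih (a • x) hax hmem'
        refine ⟨r' * a, by rwa [mul_smul], ?_⟩
        intro j hj c hc
        rw [mul_smul]
        exact hr'' j hj c hc
  obtain ⟨c, hc⟩ := exists_low ℳ 1 x
  refine claim (b + 1 - c).toNat x hx ?_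
  intro m hm
  exact hc m (by rw [one_mul]; omega)

theorem smul_eq_pr_zero_smul {E : Type*} [AddCommGroup E] [Module R E] {d : E}
    (hsoc : ∀ i : ℤ, 0 < i → ∀ a ∈ 𝒜 i, a • d = 0) (r : R) : r • d = (pr 𝒜 0 r) • d := by
  induction r using DirectSum.Decomposition.inductionOn 𝒜 with
  | zero => rw [pr_zero, zero_smul]
  | @homogeneous j a =>
    rcases lt_trichotomy j 0 with hj | hj | hj
    · rw [eq_zero_of_mem_neg 𝒜 hpos hj a.2, pr_zero, zero_smul]
    · subst hj; rw [pr_of_mem_same 𝒜 a.2]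
    · rw [hsoc j hj a a.2, pr_of_mem_ne 𝒜 a.2 hj.ne', zero_smul]
  | add a b ha hb => rw [add_smul, ha, hb, pr_add, add_smul]

omit hpos in
theorem smul_eq_zero_of_mem_irrelevant {E : Type*} [AddCommGroup E] [Module R E] {d : E}
    (hsoc : ∀ i : ℤ, 0 < i → ∀ a ∈ 𝒜 i, a • d = 0) {a : R}
    (ha : a ∈ Ideal.span (⋃ n ∈ Set.Ioi (0 : ℤ), (𝒜 n : Set R))) : a • d = 0 := by
  induction ha using Submodule.span_induction with
  | mem a ha =>
    simp only [Set.mem_iUnion, Set.mem_Ioi] at ha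
    obtain ⟨m, hm, ham⟩ := ha
    exact hsoc m hm a ham
  | zero => exact zero_smul _ _
  | add a b _ _ ha hb => rw [add_smul, ha, hb, add_zero]
  | smul c a _ ha => rw [smul_eq_mul, mul_smul, ha, smul_zero]

end Finite


section Duality

variable {k : Type u} [Field k] {R : Type u} [CommRing R] [Algebra k R]
  (𝒜 : ℤ → Submodule k R) [GradedAlgebra 𝒜]
variable {M : Type u} [AddCommGroup M] [Module R M] [Module k M] [IsScalarTower k R M]
  {τ : Type u} [SetLike τ M] [AddSubgroupClass τ M] {ℳ : ℤ → τ} [DirectSum.Decomposition ℳ]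
  [SetLike.GradedSMul 𝒜 ℳ]
variable {D : Type u} [AddCommGroup D] [Module R D] [Module k D] [IsScalarTower k R D]
  {τ' : Type u} [SetLike τ' D] [AddSubgroupClass τ' D] {𝒟 : ℤ → τ'} [DirectSum.Decomposition 𝒟]
  [SetLike.GradedSMul 𝒜 𝒟]
  {β : D →ₗ[k] M →ₗ[k] k}

/-- restriction of the pairing to a subspace of `M` -/
def iota (β : D →ₗ[k] M →ₗ[k] k) (V : Submodule k M) : D →ₗ[k] Module.Dual k V where
  toFun d := (β d).comp V.subtype
  map_add' d d' := by ext v; simp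
  map_smul' c d := by ext v; simp

theorem iota_apply (V : Submodule k M) (d : D) (v : V) : iota β V d v = β d v := rfl

include 𝒜 in
theorem separation (hD : GrSeg.IsGDual R ℳ 𝒟 β) (n : ℤ) (hfin : Module.Finite k (pc 𝒜 ℳ (-n)))
    (G : Submodule k D) (hG : ∀ g ∈ G, g ∈ 𝒟 n) {ξ : D} (hξ : ξ ∈ 𝒟 n) (hξG : ξ ∉ G) :
    ∃ m ∈ ℳ (-n), (∀ g ∈ G, β g m = 0) ∧ β ξ m ≠ 0 := by
  set V := pc 𝒜 ℳ (-n) with hV
  have hι : iota β V ξ ∉ G.map (iota β V) := by
    rintro ⟨g, hg, hgξ⟩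
    apply hξG
    have : g - ξ = 0 := by
      apply hD.eq_zero n (g - ξ) (sub_mem (hG g hg) hξ)
      intro x hx
      have := LinearMap.congr_fun hgξ ⟨x, hx⟩
      rw [iota_apply, iota_apply] at this
      rw [map_sub, LinearMap.sub_apply, this, sub_self]
    rw [← sub_eq_zero.mp this]
    exact hg
  obtain ⟨Ψ, hΨξ, hΨG⟩ := Submodule.exists_dual_map_eq_bot_of_notMem hι inferInstance
  set v := (Module.evalEquiv k V).symm Ψ with hv
  have hv' : ∀ φ : Module.Dual k V, φ v = Ψ φ :=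
    fun φ => Module.apply_evalEquiv_symm_apply k V φ Ψ
  refine ⟨v.1, v.2, ?_, ?_⟩
  · intro g hg
    have h1 : Ψ (iota β V g) ∈ (G.map (iota β V)).map Ψ :=
      Submodule.mem_map_of_mem (Submodule.mem_map_of_mem hg)
    rw [hΨG] at h1
    have h2 := hv' (iota β V g)
    rw [iota_apply] at h2
    rw [h2]
    exact (Submodule.mem_bot k).mp h1
  · have h2 := hv' (iota β V ξ)
    rw [iota_apply] at h2
    rw [h2]
    exact hΨξ

include 𝒜 in
theorem isGDual_flip (hD : GrSeg.IsGDual R ℳ 𝒟 β) (hfin : ∀ n, Module.Finite k (pc 𝒜 ℳ n)) :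
    GrSeg.IsGDual R 𝒟 ℳ β.flip := by
  refine ⟨?_, ?_, ?_, ?_⟩
  · intro r x d
    rw [LinearMap.flip_apply, LinearMap.flip_apply, hD.map_smul]
  · intro n x hx m hm d hd
    rw [LinearMap.flip_apply]
    exact hD.vanish m d hd n (by intro h; apply hm; rw [h, neg_neg]) x hx
  · intro n x hx h
    apply right_nondeg hD
    intro d
    rw [beta_eq_pr_left hD hx d]
    have := h (pr 𝒟 (-n) d) (pr_mem 𝒟 (-n) d)
    rwa [LinearMap.flip_apply] at this
  · intro n g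
    haveI := hfin n
    set V := pc 𝒜 ℳ n
    set W := pc 𝒜 𝒟 (-n)
    let ι' : W →ₗ[k] Module.Dual k V := (iota β V).comp W.subtype
    have hinj : Function.Injective ι' := by
      rw [← LinearMap.ker_eq_bot, LinearMap.ker_eq_bot']
      intro d hd
      apply Subtype.ext
      have h1 := hD.eq_zero (-n) d.1 d.2
      rw [neg_neg] at h1
      apply h1
      intro x hx
      exact LinearMap.congr_fun hd ⟨x, hx⟩
    have hsurj : Function.Surjective ι' := by
      intro φ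
      obtain ⟨φ', hφ'⟩ := LinearMap.exists_extend φ
      obtain ⟨d, hd, hdφ⟩ := hD.exists_eq (-n) φ'
      refine ⟨⟨d, hd⟩, ?_⟩
      ext v
      show β d v = φ v
      rw [hdφ v.1 (by rw [neg_neg]; exact v.2), ← hφ']
      rfl
    let e := LinearEquiv.ofBijective ι' ⟨hinj, hsurj⟩
    let Ψ : Module.Dual k (Module.Dual k V) := (g.comp W.subtype).comp e.symm.toLinearMap
    refine ⟨((Module.evalEquiv k V).symm Ψ).1, ((Module.evalEquiv k V).symm Ψ).2, ?_⟩
    intro d hd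
    rw [LinearMap.flip_apply]
    have h1 := Module.apply_evalEquiv_symm_apply k V (ι' ⟨d, hd⟩) Ψ
    have h2 : Ψ (ι' ⟨d, hd⟩) = g d := by
      show g (W.subtype (e.symm (e ⟨d, hd⟩))) = g d
      rw [e.symm_apply_apply]; rfl
    rw [← h2, ← h1]
    rfl

/-- the order-reversing map from submodules of the dual to submodules of `M` -/
def Phi (s : ℤ) (hD : GrSeg.IsGDual R ℳ 𝒟 β) (N : Submodule R D) : Submodule R M where
  carrier := {m | ∀ n, ∀ y ∈ N, (∀ i, s * i < s * n → pr 𝒟 i y = 0) → β (pr 𝒟 n y) m = 0}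
  zero_mem' := fun n y _ _ => map_zero _
  add_mem' := fun hx hy n y hyN hl => by rw [map_add, hx n y hyN hl, hy n y hyN hl, add_zero]
  smul_mem' r m hm := by
    intro n y hy hlow
    induction r using DirectSum.Decomposition.inductionOn 𝒜 with
    | zero => rw [zero_smul, map_zero]
    | @homogeneous j a =>
      rw [← hD.map_smul, ← pr_smul_hom 𝒜 𝒟 a.2]
      apply hm (j + n) ((a : R) • y) (N.smul_mem _ hy)
      intro i hi
      rw [pr_smul_hom' 𝒜 𝒟 a.2,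
        hlow (i - j) (by rw [mul_sub]; rw [mul_add] at hi; linarith), smul_zero]
    | add a b ha hb => rw [add_smul, map_add, ha, hb, add_zero]

theorem Phi_anti (s : ℤ) (hD : GrSeg.IsGDual R ℳ 𝒟 β) {N N' : Submodule R D} (h : N ≤ N') :
    Phi 𝒜 s hD N' ≤ Phi 𝒜 s hD N :=
  fun _ hm n y hy hl => hm n y (h hy) hl

theorem le_of_Phi_le (s : ℤ) (hs : s = 1 ∨ s = -1) (hD : GrSeg.IsGDual R ℳ 𝒟 β)
    (hfin : ∀ n, Module.Finite k (pc 𝒜 ℳ n))
    (hbd : ∃ b : ℤ, ∀ n, b < s * n → ∀ d ∈ 𝒟 n, d = 0)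
    {N N' : Submodule R D} (hNN : N ≤ N') (hΦ : Phi 𝒜 s hD N ≤ Phi 𝒜 s hD N') : N' ≤ N := by
  obtain ⟨b, hb⟩ := hbd
  have hss : s * s = 1 := by rcases hs with rfl | rfl <;> norm_num
  have claim : ∀ j : ℕ, ∀ x ∈ N', (∀ i, s * i < b + 1 - j → pr 𝒟 i x = 0) → x ∈ N := by
    intro j
    induction j with
    | zero =>
      intro x _ hx
      have : x = 0 := by
        apply eq_zero_of_pr 𝒟
        intro i
        by_cases hi : s * i < b + 1
        · exact hx i (by simpa using hi)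
        · exact hb i (by omega) _ (pr_mem 𝒟 i x)
      rw [this]; exact N.zero_mem
    | succ j ih =>
      intro x hx hlow
      obtain ⟨t, ht⟩ : ∃ t : ℤ, t = b - j := ⟨_, rfl⟩
      obtain ⟨n, hn⟩ : ∃ n : ℤ, n = s * t := ⟨_, rfl⟩
      have hsn : s * n = t := by rw [hn, ← mul_assoc, hss, one_mul]
      have hlow' : ∀ i, s * i < s * n → pr 𝒟 i x = 0 := by
        intro i hi
        apply hlow i
        rw [hsn] at hi; push_cast; omega
      let G : Submodule k D :=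
        { carrier := {d | ∃ y ∈ N, (∀ i, s * i < s * n → pr 𝒟 i y = 0) ∧ pr 𝒟 n y = d}
          zero_mem' := ⟨0, N.zero_mem, fun i _ => pr_zero 𝒟 i, pr_zero 𝒟 n⟩
          add_mem' := by
            rintro _ _ ⟨y, hy, hyl, rfl⟩ ⟨y', hy', hyl', rfl⟩
            refine ⟨y + y', N.add_mem hy hy', fun i hi => ?_, pr_add 𝒟 n y y'⟩
            rw [pr_add, hyl i hi, hyl' i hi, add_zero]
          smul_mem' := by
            rintro c _ ⟨y, hy, hyl, rfl⟩
            refine ⟨c • y, ?_, fun i hi => ?_, pr_ksmul 𝒜 𝒟 c n y⟩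
            · rw [← algebraMap_smul R c y]; exact N.smul_mem _ hy
            · rw [pr_ksmul 𝒜 𝒟, hyl i hi, smul_zero] }
      have hG : ∀ g ∈ G, g ∈ 𝒟 n := by
        rintro _ ⟨y, -, -, rfl⟩
        exact pr_mem 𝒟 n y
      have hξ : pr 𝒟 n x ∈ G := by
        by_contra hnot
        obtain ⟨m, hm, hmG, hmξ⟩ := separation 𝒜 hD n (hfin (-n)) G hG (pr_mem 𝒟 n x) hnot
        have hmΦ : m ∈ Phi 𝒜 s hD N := by
          intro n' y hy hlowy
          by_cases hn' : n' = n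
          · rw [hn'] at hlowy ⊢
            exact hmG _ ⟨y, hy, hlowy, rfl⟩
          · exact hD.vanish n' _ (pr_mem 𝒟 n' y) (-n) (by intro h; apply hn'; omega) m hm
        exact hmξ (hΦ hmΦ n x hx hlow')
      obtain ⟨y, hyN, hylow, hyn⟩ := hξ
      have hxy : x - y ∈ N := by
        apply ih (x - y) (N'.sub_mem hx (hNN hyN))
        intro i hi
        rw [pr_sub]
        by_cases hi' : s * i < s * n
        · rw [hlow' i hi', hylow i hi', sub_zero]
        · have hin : i = n := by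
            have h1 : s * i = t := by rw [hsn] at hi'; push_cast at hi; omega
            calc i = (s * s) * i := by rw [hss, one_mul]
              _ = s * (s * i) := by ring
              _ = n := by rw [h1, hn]
          rw [hin, hyn, sub_self]
      have := N.add_mem hxy hyN
      rwa [sub_add_cancel] at this
  intro x hx
  obtain ⟨c, hc⟩ := exists_low 𝒟 s x
  refine claim (b + 1 - c).toNat x hx ?_
  intro i hi
  exact hc i (by omega)

theorem Phi_strictAnti (s : ℤ) (hs : s = 1 ∨ s = -1) (hD : GrSeg.IsGDual R ℳ 𝒟 β)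
    (hfin : ∀ n, Module.Finite k (pc 𝒜 ℳ n))
    (hbd : ∃ b : ℤ, ∀ n, b < s * n → ∀ d ∈ 𝒟 n, d = 0) :
    StrictAnti (Phi 𝒜 s hD) := by
  intro N N' hlt
  refine lt_of_le_not_ge (Phi_anti 𝒜 s hD hlt.le) ?_
  intro h
  exact (not_le_of_gt hlt) (le_of_Phi_le 𝒜 s hs hD hfin hbd hlt.le h)

variable (hpos : ∀ n : ℤ, n < 0 → 𝒜 n = ⊥) (h0 : 𝒜 0 = Submodule.span k {(1 : R)})

include hpos h0 in
theorem isArtinian_dual [Algebra.FiniteType k R] [Module.Finite R M]
    (hD : GrSeg.IsGDual R ℳ 𝒟 β) : IsArtinian R D := by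
  haveI : IsNoetherianRing R := Algebra.FiniteType.isNoetherianRing k R
  haveI : IsNoetherian R M := isNoetherian_of_isNoetherianRing_of_finite R M
  have hfin : ∀ n, Module.Finite k (pc 𝒜 ℳ n) := finite_pc_of_finite 𝒜 ℳ hpos h0
  obtain ⟨n₀, hn₀⟩ := exists_bound_below 𝒜 ℳ hpos
  have hbd : ∃ b : ℤ, ∀ n, b < 1 * n → ∀ d ∈ 𝒟 n, d = 0 := by
    refine ⟨-n₀, fun n hn d hd => ?_⟩
    apply hD.eq_zero n d hd
    intro x hx
    rw [hn₀ (-n) (by omega) x hx, map_zero]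
  exact (Phi_strictAnti 𝒜 1 (Or.inl rfl) hD hfin hbd).wellFoundedLT

include hpos h0 in
theorem finite_dual [IsArtinian R M] (hD : GrSeg.IsGDual R ℳ 𝒟 β) : Module.Finite R D := by
  have hfin : ∀ n, Module.Finite k (pc 𝒜 ℳ n) := finite_pc_of_artinian 𝒜 ℳ hpos h0
  obtain ⟨n₁, hn₁⟩ := exists_bound_above 𝒜 ℳ hpos
  have hbd : ∃ b : ℤ, ∀ n, b < (-1) * n → ∀ d ∈ 𝒟 n, d = 0 := by
    refine ⟨n₁, fun n hn d hd => ?_⟩
    apply hD.eq_zero n d hd
    intro x hx
    rw [hn₁ (-n) (by omega) x hx, map_zero]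
  have hwf : WellFoundedGT (Submodule R D) :=
    (Phi_strictAnti 𝒜 (-1) (Or.inr rfl) hD hfin hbd).wellFoundedGT
  haveI : IsNoetherian R D := isNoetherian_iff'.mpr hwf
  infer_instance

end Duality


section Socle

variable {k : Type u} [Field k] {R : Type u} [CommRing R] [Algebra k R]
  (𝒜 : ℤ → Submodule k R) [GradedAlgebra 𝒜]
variable (M : Type u) [AddCommGroup M] [Module R M] [Module k M] [IsScalarTower k R M]

/-- the socle: elements killed by all elements of positive degree, as a `k`-subspace -/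
def soc : Submodule k M where
  carrier := {x | ∀ i : ℤ, 0 < i → ∀ a ∈ 𝒜 i, a • x = 0}
  zero_mem' := fun _ _ a _ => smul_zero a
  add_mem' := fun hx hy i hi a ha => by rw [smul_add, hx i hi a ha, hy i hi a ha, add_zero]
  smul_mem' := fun c x hx i hi a ha => by rw [smul_comm, hx i hi a ha, smul_zero]

variable {M}

theorem mem_soc {x : M} : x ∈ soc 𝒜 M ↔ ∀ i : ℤ, 0 < i → ∀ a ∈ 𝒜 i, a • x = 0 := Iff.rfl

theorem pr_mem_soc {τ : Type u} [SetLike τ M] [AddSubgroupClass τ M] (ℳ : ℤ → τ)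
    [DirectSum.Decomposition ℳ] [SetLike.GradedSMul 𝒜 ℳ] {x : M} (hx : x ∈ soc 𝒜 M) (n : ℤ) :
    pr ℳ n x ∈ soc 𝒜 M := by
  intro i hi a ha
  rw [← pr_smul_hom 𝒜 ℳ ha, hx i hi a ha, pr_zero]

variable (hpos : ∀ n : ℤ, n < 0 → 𝒜 n = ⊥) (h0 : 𝒜 0 = Submodule.span k {(1 : R)})

/-- a `k`-subspace of the socle, as an `R`-submodule -/
def socR (V : Submodule k M) : Submodule R M where
  carrier := {x | x ∈ V ∧ x ∈ soc 𝒜 M}
  zero_mem' := ⟨V.zero_mem, (soc 𝒜 M).zero_mem⟩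
  add_mem' := fun hx hy => ⟨V.add_mem hx.1 hy.1, (soc 𝒜 M).add_mem hx.2 hy.2⟩
  smul_mem' := fun r x hx => by
    obtain ⟨c, hc⟩ := exists_eq_algebraMap 𝒜 hpos h0 (pr_mem 𝒜 0 r)
    have h1 : r • x = c • x := by
      rw [smul_eq_pr_zero_smul 𝒜 hpos ((mem_soc 𝒜).mp hx.2) r, hc, algebraMap_smul]
    rw [Set.mem_setOf_eq, h1]
    exact ⟨V.smul_mem c hx.1, (soc 𝒜 M).smul_mem c hx.2⟩

include hpos h0 in
theorem finite_soc [IsArtinian R M] : Module.Finite k (soc 𝒜 M) := by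
  have hmono : StrictMono (fun V : Submodule k (soc 𝒜 M) =>
      socR 𝒜 hpos h0 (V.map (soc 𝒜 M).subtype)) := by
    apply Monotone.strictMono_of_injective
    · intro V V' hVV x hx
      exact ⟨Submodule.map_mono hVV hx.1, hx.2⟩
    · intro V V' hVV
      ext y
      have key : ∀ V : Submodule k (soc 𝒜 M),
          y ∈ V ↔ (y : M) ∈ socR 𝒜 hpos h0 (V.map (soc 𝒜 M).subtype) := by
        intro V
        constructor
        · intro hy; exact ⟨Submodule.mem_map_of_mem hy, y.2⟩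
        · rintro ⟨hy, -⟩
          obtain ⟨z, hz, hzy⟩ := Submodule.mem_map.mp hy
          have : z = y := Subtype.ext hzy
          rwa [this] at hz
      rw [key V, key V']
      show (y : M) ∈ (fun V : Submodule k (soc 𝒜 M) =>
        socR 𝒜 hpos h0 (V.map (soc 𝒜 M).subtype)) V ↔ _
      rw [hVV]
  have hart : IsArtinian k (soc 𝒜 M) := hmono.wellFoundedLT
  exact ((IsArtinianRing.tfae (R := k) (M := soc 𝒜 M)).out 0 2).mpr hart

end Socle

end Groth.Agent.Lib.Helper29.GrDual
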