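import Mathlib
import Groth.Agent.Lib.Helper9.FlatGlDim

/-!
# Projective dimension does not increase under flat base change
-/

set_option autoImplicit false
universe u
open CategoryTheory TensorProduct

namespace Groth.Agent.Lib.Helper29.ProjDimBC

variable {A B : Type u} [CommRing A] [CommRing B] [Algebra A B]

lemma hasProjectiveDimensionLT_baseChange [Module.Flat A B] (n : ℕ) :
    ∀ (N : Type u) [AddCommGroup N] [Module A N],
    HasProjectiveDimensionLT (ModuleCat.of A N) (n + 1) →
    HasProjectiveDimensionLT (ModuleCat.of B (B ⊗[A] N)) (n + 1) := by
  induction n with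
  | zero =>
    intro N _ _ h
    have hP : Projective (ModuleCat.of A N) := projective_iff_hasProjectiveDimensionLT_one.mpr h
    have hP' : Module.Projective A N := (IsProjective.iff_projective (R := A) N).mpr hP
    have hPB : Module.Projective B (B ⊗[A] N) := inferInstance
    have hPc : Projective (ModuleCat.of B (B ⊗[A] N)) :=
      (IsProjective.iff_projective (R := B) (B ⊗[A] N)).mp hPB
    exact projective_iff_hasProjectiveDimensionLT_one.mp hPc
  | succ n ih =>
    intro N _ _ h
    obtain ⟨F, _, _, _, p, hp⟩ : ∃ (F : Type u) (_ : AddCommGroup F) (_ : Module A F)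
        (_ : Module.Projective A F) (p : F →ₗ[A] N), Function.Surjective p :=
      ⟨N →₀ A, inferInstance, inferInstance, inferInstance, Finsupp.linearCombination A id,
        Finsupp.linearCombination_id_surjective A N⟩
    let S : ShortComplex (ModuleCat.{u} A) := p.shortComplexKer
    have hS : S.ShortExact := LinearMap.shortExact_shortComplexKer hp
    have hproj : Projective S.X₂ :=
      (IsProjective.iff_projective (R := A) F).mp inferInstance
    have hex : Function.Exact ((LinearMap.ker p).subtype.baseChange B) (p.baseChange B) := by
      rw [LinearMap.baseChange_eq_ltensor, LinearMap.baseChange_eq_ltensor]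
      exact Module.Flat.lTensor_exact B (LinearMap.exact_subtype_ker_map p)
    have hinj : Function.Injective ((LinearMap.ker p).subtype.baseChange B) := by
      rw [LinearMap.baseChange_eq_ltensor]
      exact Module.Flat.lTensor_preserves_injective_linearMap _
        (LinearMap.ker p).injective_subtype
    have hsurj : Function.Surjective (p.baseChange B) := by
      rw [LinearMap.baseChange_eq_ltensor]
      exact LinearMap.lTensor_surjective B hp
    let S' : ShortComplex (ModuleCat.{u} B) :=
      ModuleCat.shortComplexOfCompEqZero ((LinearMap.ker p).subtype.baseChange B)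
        (p.baseChange B) hex.linearMap_comp_eq_zero
    have hS' : S'.ShortExact := ModuleCat.shortComplex_shortExact S' hex hinj hsurj
    have hproj' : Projective S'.X₂ :=
      (IsProjective.iff_projective (R := B) (B ⊗[A] F)).mp inferInstance
    have hK : HasProjectiveDimensionLT S.X₁ (n + 1) :=
      (hS.hasProjectiveDimensionLT_X₃_iff n hproj).mp h
    have hK' : HasProjectiveDimensionLT S'.X₁ (n + 1) := ih ↥(LinearMap.ker p) hK
    exact (hS'.hasProjectiveDimensionLT_X₃_iff n hproj').mpr hK'

/-- Flat base change does not increase projective dimension. -/
theorem projectiveDimension_baseChange_le [Module.Flat A B]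
    (M : Type u) [AddCommGroup M] [Module A M] :
    projectiveDimension (ModuleCat.of B (B ⊗[A] M)) ≤ projectiveDimension (ModuleCat.of A M) := by
  generalize hd : projectiveDimension (ModuleCat.of A M) = d
  induction d with
  | bot =>
    rw [projectiveDimension_eq_bot_iff] at hd
    have hsub : Subsingleton M := ModuleCat.isZero_iff_subsingleton.mp hd
    have : Subsingleton (B ⊗[A] M) := inferInstance
    have hz : Limits.IsZero (ModuleCat.of B (B ⊗[A] M)) := ModuleCat.isZero_of_subsingleton _
    rw [(projectiveDimension_eq_bot_iff _).mpr hz]
  | coe d =>
    induction d with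
    | top => exact le_top
    | coe d =>
      have h1 : HasProjectiveDimensionLE (ModuleCat.of A M) d := by
        rw [← projectiveDimension_le_iff, hd]; rfl
      have h2 : HasProjectiveDimensionLE (ModuleCat.of B (B ⊗[A] M)) d :=
        hasProjectiveDimensionLT_baseChange d M h1
      exact (projectiveDimension_le_iff _ d).mpr h2

/-- Faithfully flat base change preserves projective dimension of finite modules over a
Noetherian ring. -/
theorem projectiveDimension_baseChange_eq [IsNoetherianRing A] [Module.FaithfullyFlat A B]
    (M : Type u) [AddCommGroup M] [Module A M] [Module.Finite A M] :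
    projectiveDimension (ModuleCat.of B (B ⊗[A] M)) = projectiveDimension (ModuleCat.of A M) := by
  apply le_antisymm (projectiveDimension_baseChange_le M)
  generalize hd : projectiveDimension (ModuleCat.of B (B ⊗[A] M)) = d
  induction d with
  | bot =>
    rw [projectiveDimension_eq_bot_iff] at hd
    have hsub : Subsingleton (B ⊗[A] M) := ModuleCat.isZero_iff_subsingleton.mp hd
    have hM : Subsingleton M := Module.FaithfullyFlat.lTensor_reflects_triviality A B M
    have hz : Limits.IsZero (ModuleCat.of A M) := ModuleCat.isZero_of_subsingleton _
    rw [(projectiveDimension_eq_bot_iff _).mpr hz]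
  | coe d =>
    induction d with
    | top => exact le_top
    | coe d =>
      have h1 : HasProjectiveDimensionLE (ModuleCat.of B (B ⊗[A] M)) d := by
        rw [← projectiveDimension_le_iff, hd]; rfl
      have h2 : HasProjectiveDimensionLE (ModuleCat.of A M) d :=
        Groth.Agent.Lib.Helper9.hasProjectiveDimensionLT_of_baseChange d M h1
      exact (projectiveDimension_le_iff _ d).mpr h2

end Groth.Agent.Lib.Helper29.ProjDimBC
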