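import Mathlib
import Groth.Prelude.Def_Models
import Groth.Agent.Lib.Helper11.NumType
import Groth.Agent.Lib.Helper11.NumTypeGen
import Groth.Agent.Lib.Helper11.NumTypeBasic

set_option autoImplicit false
open Finset Models

namespace Groth.Agent.Lib.Helper29.NumTypeBounds

open Groth.Agent.Lib.Helper11.NumType

variable {n : ℕ} (T : Models.NumericalType n)

/-- the local contribution `κ_i = w_i (2 g_i - 2) - a_ii` -/
def kap (i : Fin n) : ℤ := T.w i * (2 * T.g i - 2) - T.a i i

lemma kap_eq (i : Fin n) : kap T i = T.w i * (2 * T.g i - 2 - c T i i) := by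
  unfold kap; rw [a_eq T i i]; ring

lemma sum_m_kap_le : ∑ i, T.m i * kap T i ≤ 2 * T.genus - 2 := by
  have h := sum_kappa T
  unfold kap
  rw [h]
  unfold Models.NumericalType.genus
  omega

lemma c_le_neg_three (hn : 2 ≤ n) (hmin : T.IsMinimal) (j : Fin n) (hj : ¬ T.IsMinusTwo j)
    (h0 : T.g j = 0) : c T j j ≤ -3 := by
  have hc := c_diag_neg T hn j
  have ha := a_eq T j j
  by_contra hcon
  have h12 : c T j j = -1 ∨ c T j j = -2 := by omega
  rcases h12 with h1 | h2
  · exact hmin j ⟨h0, by rw [ha, h1]; ring⟩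
  · exact hj ⟨h0, by rw [ha, h2]; ring⟩

lemma one_le_kap (hn : 2 ≤ n) (hmin : T.IsMinimal) (j : Fin n) (hj : ¬ T.IsMinusTwo j) :
    1 ≤ kap T j := by
  have hw := T.w_pos j
  have hg := T.g_nonneg j
  have hc := c_diag_neg T hn j
  rw [kap_eq]
  have h1 : 1 ≤ 2 * T.g j - 2 - c T j j := by
    rcases hg.eq_or_lt with h0 | hpos
    · have hc3 := c_le_neg_three T hn hmin j hj h0.symm
      rw [← h0]; linarith
    · have h1 : 1 ≤ T.g j := hpos
      linarith
  nlinarith [mul_nonneg (by linarith : (0:ℤ) ≤ T.w j - 1)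
    (by linarith : (0:ℤ) ≤ 2 * T.g j - 2 - c T j j)]

open Classical in
theorem main2183 {n : ℕ} (T : Models.NumericalType n) (hmin : T.IsMinimal) (hn : 1 < n)
    (hg : 2 ≤ T.genus) :
    ((univ.filter fun j => ¬T.IsMinusTwo j).card : ℤ) ≤ 2 * T.genus - 2 ∧
      ∀ j, ¬T.IsMinusTwo j →
        T.g j < T.genus ∧ T.m j * |T.a j j| ≤ 6 * T.genus - 6 ∧
          ∀ i, T.m i * T.a i j ≤ 6 * T.genus - 6 := by
  have hn2 : 2 ≤ n := hn
  have hK := sum_m_kap_le T
  have hnn : ∀ i ∈ (univ : Finset (Fin n)), 0 ≤ T.m i * kap T i := fun i _ =>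
    mul_nonneg (T.m_pos i).le (kappa_nonneg T hn2 hmin i)
  have hterm : ∀ j, T.m j * kap T j ≤ 2 * T.genus - 2 := fun j =>
    le_trans (Finset.single_le_sum hnn (Finset.mem_univ j)) hK
  constructor
  · rw [Finset.card_eq_sum_ones, Nat.cast_sum]
    refine le_trans (Finset.sum_le_sum (g := fun j => T.m j * kap T j) ?_) (le_trans
      (Finset.sum_le_sum_of_subset_of_nonneg (Finset.filter_subset _ _)
        (fun j _ _ => hnn j (Finset.mem_univ j))) hK)
    intro j hj
    have hj' := (Finset.mem_filter.mp hj).2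
    have h1 := one_le_kap T hn2 hmin j hj'
    have hm := T.m_pos j
    push_cast
    nlinarith [mul_nonneg (by linarith : (0:ℤ) ≤ T.m j - 1)
      (by linarith : (0:ℤ) ≤ kap T j - 1)]
  · intro j hj
    have hw := T.w_pos j
    have hgj := T.g_nonneg j
    have hm := T.m_pos j
    have hc := c_diag_neg T hn2 j
    have ha := a_eq T j j
    have hk := kap_eq T j
    have ht := hterm j
    have hk1 := one_le_kap T hn2 hmin j hj
    have hkm : kap T j ≤ T.m j * kap T j := by
      nlinarith [mul_nonneg (by linarith : (0:ℤ) ≤ T.m j - 1)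
        (by linarith : (0:ℤ) ≤ kap T j)]
    have hajj : T.a j j ≤ 0 := by
      rw [ha]
      nlinarith [mul_pos hw (by linarith : (0:ℤ) < - c T j j)]
    have habs : |T.a j j| = - T.a j j := abs_of_nonpos hajj
    have h3 : - T.a j j ≤ 3 * kap T j := by
      rw [hk, ha]
      rcases hgj.eq_or_lt with h0 | hpos
      · have hc3 := c_le_neg_three T hn2 hmin j hj h0.symm
        rw [← h0]
        nlinarith [mul_nonneg hw.le (by linarith : (0:ℤ) ≤ -6 - 2 * c T j j)]
      · have h1 : 1 ≤ T.g j := hpos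
        nlinarith [mul_nonneg hw.le (by linarith : (0:ℤ) ≤ 6 * T.g j - 6 - 2 * c T j j)]
    have h4 : T.m j * (- T.a j j) ≤ 6 * T.genus - 6 := by
      nlinarith [mul_le_mul_of_nonneg_left h3 hm.le]
    refine ⟨?_, ?_, ?_⟩
    · rcases hgj.eq_or_lt with h0 | hpos
      · rw [← h0]; linarith
      · have h1 : 1 ≤ T.g j := hpos
        have h5 : 2 * T.g j - 1 ≤ kap T j := by
          rw [hk]
          nlinarith [mul_nonneg (by linarith : (0:ℤ) ≤ T.w j - 1)
            (by linarith : (0:ℤ) ≤ 2 * T.g j - 2 - c T j j)]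
        linarith
    · rw [habs]
      exact h4
    · intro i
      by_cases hij : i = j
      · rw [hij]
        have h6 : T.m j * T.a j j ≤ 0 := by nlinarith
        linarith
      · have hrow := sum_a_mul_m T j
        rw [← Finset.add_sum_erase _ _ (Finset.mem_univ j)] at hrow
        have hnn' : ∀ l ∈ Finset.univ.erase j, 0 ≤ T.a j l * T.m l := fun l hl => mul_nonneg
          (T.offDiag_nonneg j l (Finset.ne_of_mem_erase hl).symm) (T.m_pos l).le
        have h2 : T.a j i * T.m i ≤ ∑ l ∈ Finset.univ.erase j, T.a j l * T.m l :=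
          Finset.single_le_sum (f := fun l => T.a j l * T.m l) hnn'
            (Finset.mem_erase.mpr ⟨hij, Finset.mem_univ i⟩)
        rw [a_symm T j i] at h2
        nlinarith

end Groth.Agent.Lib.Helper29.NumTypeBounds
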