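import Mathlib
import Groth.Prelude.Def_Models
import Groth.Agent.Lib.Helper11.NumType
import Groth.Agent.Lib.Helper11.NumTypeGen
import Groth.Agent.Lib.Helper11.NumTypeBasic

set_option autoImplicit false
open Finset Models

namespace Groth.Agent.Lib.Helper29.NumTypeTop

open Groth.Agent.Lib.Helper11.NumType

variable {n : ℕ} (T : Models.NumericalType n)

/-- adjacency indicator -/
def ind (i j : Fin n) : ℤ := if i ≠ j ∧ 0 < T.a i j then 1 else 0

lemma ind_symm (i j : Fin n) : ind T i j = ind T j i := by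
  unfold ind
  rw [a_symm T i j]
  by_cases h : i = j
  · subst h; rfl
  · have h' : ¬ j = i := fun e => h e.symm
    simp [h, h']

lemma ind_self (i : Fin n) : ind T i i = 0 := by
  unfold ind
  simp

/-- number of neighbours of `i` inside `U` -/
def deg (U : Finset (Fin n)) (i : Fin n) : ℤ := ∑ j ∈ U, ind T i j

/-- number of ordered adjacent pairs inside `U` -/
def dsum (U : Finset (Fin n)) : ℤ := ∑ i ∈ U, ∑ j ∈ U, ind T i j

/-- sum of the off-diagonal entries of row `i` inside `U` -/
def offsum (U : Finset (Fin n)) (i : Fin n) : ℤ := ∑ j ∈ U, if i ≠ j then T.a i j else 0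

lemma deg_erase (U : Finset (Fin n)) (v : Fin n) (hv : v ∈ U) (i : Fin n) :
    deg T U i = ind T i v + deg T (U.erase v) i := by
  unfold deg
  exact (Finset.add_sum_erase U (fun j => ind T i j) hv).symm

lemma dsum_erase (U : Finset (Fin n)) (v : Fin n) (hv : v ∈ U) :
    dsum T U = 2 * deg T (U.erase v) v + dsum T (U.erase v) := by
  have h1 : dsum T U = ∑ i ∈ U, (ind T i v + deg T (U.erase v) i) := by
    unfold dsum
    exact Finset.sum_congr rfl (fun i _ => deg_erase T U v hv i)
  have e1 : ind T v v + ∑ i ∈ U.erase v, ind T i v = ∑ i ∈ U, ind T i v :=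
    Finset.add_sum_erase U (fun i => ind T i v) hv
  have e2 : deg T (U.erase v) v + ∑ i ∈ U.erase v, deg T (U.erase v) i =
      ∑ i ∈ U, deg T (U.erase v) i :=
    Finset.add_sum_erase U (fun i => deg T (U.erase v) i) hv
  have h2 : ∑ i ∈ U.erase v, ind T i v = deg T (U.erase v) v :=
    Finset.sum_congr rfl (fun i _ => ind_symm T i v)
  have h3 : dsum T (U.erase v) = ∑ i ∈ U.erase v, deg T (U.erase v) i := rfl
  have h4 := ind_self T v
  rw [h1, Finset.sum_add_distrib]
  linarith

lemma swap_sum (U : Finset (Fin n)) :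
    ∑ i ∈ U, ∑ j ∈ U, T.a i j * T.m j = ∑ i ∈ U, T.m i * ∑ j ∈ U, T.a i j := by
  rw [Finset.sum_comm]
  refine Finset.sum_congr rfl fun j _ => ?_
  rw [Finset.mul_sum]
  refine Finset.sum_congr rfl fun i _ => ?_
  rw [a_symm T i j]
  ring

lemma row_split (U : Finset (Fin n)) (i : Fin n) (hi : i ∈ U) :
    ∑ j ∈ U, T.a i j = T.a i i + offsum T U i := by
  unfold offsum
  have h : ∀ j ∈ U, T.a i j =
      (if i = j then T.a i j else 0) + (if i ≠ j then T.a i j else 0) := by
    intro j _
    by_cases h : i = j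
    · simp [h]
    · simp [h]
  rw [Finset.sum_congr rfl h, Finset.sum_add_distrib, Finset.sum_ite_eq, if_pos hi]

lemma w_deg_le_offsum (U : Finset (Fin n)) (i : Fin n) :
    T.w i * deg T U i ≤ offsum T U i := by
  unfold deg offsum
  rw [Finset.mul_sum]
  refine Finset.sum_le_sum fun j _ => ?_
  unfold ind
  by_cases hij : i = j
  · simp [hij]
  · by_cases hpos : 0 < T.a i j
    · rw [if_pos ⟨hij, hpos⟩, if_pos hij, mul_one]
      exact Int.le_of_dvd hpos (T.w_dvd i j)
    · rw [if_neg (fun h => hpos h.2), if_pos hij, mul_zero]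
      exact T.offDiag_nonneg i j hij

theorem dsum_le (hκ : ∀ i, 0 ≤ T.w i * (2 * T.g i - 2) - T.a i i) :
    ∀ k : ℕ, ∀ U : Finset (Fin n), U.card = k →
      (∀ i ∈ U, ∑ j ∈ U, T.a i j * T.m j ≤ 0) →
      dsum T U - 2 * (U.card : ℤ) ≤
        ∑ i ∈ U, T.m i * (T.w i * (2 * T.g i - 2) - T.a i i) := by
  intro k
  induction k with
  | zero =>
    intro U hU _
    rw [Finset.card_eq_zero] at hU
    subst hU
    simp [dsum]
  | succ k ih =>
    intro U hU hsup
    by_cases hcase : ∃ v ∈ U, deg T U v ≤ 1
    · obtain ⟨v, hv, hd⟩ := hcase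
      have hcard : (U.erase v).card = k := by
        have := Finset.card_erase_of_mem hv
        omega
      have hsup' : ∀ i ∈ U.erase v, ∑ j ∈ U.erase v, T.a i j * T.m j ≤ 0 := by
        intro i hi
        have hiv : i ≠ v := Finset.ne_of_mem_erase hi
        have h1 : T.a i v * T.m v + ∑ j ∈ U.erase v, T.a i j * T.m j =
            ∑ j ∈ U, T.a i j * T.m j :=
          Finset.add_sum_erase U (fun j => T.a i j * T.m j) hv
        have h2 := hsup i (Finset.mem_of_mem_erase hi)
        have h3 : 0 ≤ T.a i v * T.m v :=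
          mul_nonneg (T.offDiag_nonneg i v hiv) (T.m_pos v).le
        linarith
      have hih := ih (U.erase v) hcard hsup'
      have h1 := dsum_erase T U v hv
      have h2 := deg_erase T U v hv v
      rw [ind_self] at h2
      have h3 : T.m v * (T.w v * (2 * T.g v - 2) - T.a v v) +
          ∑ i ∈ U.erase v, T.m i * (T.w i * (2 * T.g i - 2) - T.a i i) =
          ∑ i ∈ U, T.m i * (T.w i * (2 * T.g i - 2) - T.a i i) :=
        Finset.add_sum_erase U (fun i => T.m i * (T.w i * (2 * T.g i - 2) - T.a i i)) hv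
      have h4 : 0 ≤ T.m v * (T.w v * (2 * T.g v - 2) - T.a v v) :=
        mul_nonneg (T.m_pos v).le (hκ v)
      have h5 : (U.card : ℤ) = ((U.erase v).card : ℤ) + 1 := by
        rw [hcard, hU]
        push_cast
        ring
      linarith
    · push Not at hcase
      have hstar : ∑ i ∈ U, T.m i * ∑ j ∈ U, T.a i j ≤ 0 := by
        rw [← swap_sum]
        exact Finset.sum_nonpos fun i hi => hsup i hi
      have hrow : ∑ i ∈ U, T.m i * ∑ j ∈ U, T.a i j =
          ∑ i ∈ U, (T.m i * T.a i i + T.m i * offsum T U i) := by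
        refine Finset.sum_congr rfl fun i hi => ?_
        rw [row_split T U i hi]
        ring
      have hterm : ∀ i ∈ U, deg T U i - 2 ≤
          T.m i * (T.w i * (2 * T.g i - 2)) + T.m i * offsum T U i := by
        intro i hi
        have hd : 2 ≤ deg T U i := by
          have := hcase i hi
          omega
        have h1 := w_deg_le_offsum T U i
        have hm := T.m_pos i
        have hw := T.w_pos i
        have hg := T.g_nonneg i
        have h2 : T.m i * (T.w i * deg T U i) ≤ T.m i * offsum T U i :=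
          mul_le_mul_of_nonneg_left h1 hm.le
        have hmw : 1 ≤ T.m i * T.w i := by
          nlinarith [mul_nonneg (by linarith : (0:ℤ) ≤ T.m i - 1)
            (by linarith : (0:ℤ) ≤ T.w i - 1)]
        have hX : 0 ≤ 2 * T.g i - 2 + deg T U i := by linarith
        have h3 : deg T U i - 2 ≤ T.m i * (T.w i * (2 * T.g i - 2 + deg T U i)) := by
          nlinarith [mul_nonneg (by linarith : (0:ℤ) ≤ T.m i * T.w i - 1) hX]
        nlinarith
      have hsum := Finset.sum_le_sum hterm
      have hL : ∑ i ∈ U, (deg T U i - 2) = dsum T U - 2 * (U.card : ℤ) := by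
        rw [Finset.sum_sub_distrib, Finset.sum_const, nsmul_eq_mul]
        unfold dsum deg
        ring
      have hR : ∑ i ∈ U, (T.m i * (T.w i * (2 * T.g i - 2)) + T.m i * offsum T U i) =
          (∑ i ∈ U, T.m i * (T.w i * (2 * T.g i - 2))) + ∑ i ∈ U, T.m i * offsum T U i :=
        Finset.sum_add_distrib
      have hK : ∑ i ∈ U, T.m i * (T.w i * (2 * T.g i - 2) - T.a i i) =
          (∑ i ∈ U, T.m i * (T.w i * (2 * T.g i - 2))) - ∑ i ∈ U, T.m i * T.a i i := by
        rw [← Finset.sum_sub_distrib]
        exact Finset.sum_congr rfl fun i _ => by ring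
      have hrow' : ∑ i ∈ U, (T.m i * T.a i i + T.m i * offsum T U i) =
          (∑ i ∈ U, T.m i * T.a i i) + ∑ i ∈ U, T.m i * offsum T U i :=
        Finset.sum_add_distrib
      rw [hL, hR] at hsum
      rw [hrow, hrow'] at hstar
      rw [hK]
      linarith

lemma dsum_univ : dsum T Finset.univ = 2 * (T.edgeCount : ℤ) := by
  have hE : (T.edgeCount : ℤ) =
      ∑ i : Fin n, ∑ j : Fin n, (if i < j ∧ 0 < T.a i j then (1:ℤ) else 0) := by
    unfold Models.NumericalType.edgeCount
    rw [Finset.card_filter, Nat.cast_sum, Fintype.sum_prod_type]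
    refine Finset.sum_congr rfl fun i _ => Finset.sum_congr rfl fun j _ => ?_
    simp
  have hsplit : ∀ i j : Fin n, ind T i j =
      (if i < j ∧ 0 < T.a i j then (1:ℤ) else 0) +
        (if j < i ∧ 0 < T.a j i then (1:ℤ) else 0) := by
    intro i j
    unfold ind
    rw [a_symm T j i]
    rcases lt_trichotomy i j with h | h | h
    · have h1 : ¬ i = j := ne_of_lt h
      have h2 : ¬ j < i := not_lt.mpr h.le
      simp [h, h1, h2]
    · subst h
      simp
    · have h1 : ¬ i = j := (ne_of_lt h).symm
      have h2 : ¬ i < j := not_lt.mpr h.le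
      simp [h, h1, h2]
  have h2 : ∑ i : Fin n, ∑ j : Fin n, (if j < i ∧ 0 < T.a j i then (1:ℤ) else 0) =
      ∑ i : Fin n, ∑ j : Fin n, (if i < j ∧ 0 < T.a i j then (1:ℤ) else 0) :=
    Finset.sum_comm
  unfold dsum
  rw [hE, Finset.sum_congr rfl (fun i _ => Finset.sum_congr rfl (fun j _ => hsplit i j))]
  simp only [Finset.sum_add_distrib]
  rw [h2]
  ring

theorem main2177 (T : Models.NumericalType n) (hmin : T.IsMinimal) (hn : 1 < n) :
    T.topGenus ≤ T.genus := by
  have hn2 : 2 ≤ n := hn
  have hκ := kappa_nonneg T hn2 hmin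
  have h := dsum_le T hκ (Finset.univ : Finset (Fin n)).card Finset.univ rfl
    (fun i _ => (sum_a_mul_m T i).le)
  rw [dsum_univ, Finset.card_univ, Fintype.card_fin, sum_kappa] at h
  unfold Models.NumericalType.topGenus Models.NumericalType.genus
  omega

end Groth.Agent.Lib.Helper29.NumTypeTop
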