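import Mathlib
import Groth.Prelude.Def_AlgGrp
import Groth.Agent.Lib.Helper14.GrpDim
import Groth.Agent.Lib.Helper8.SmoothLocusBC
import Groth.Agent.Lib.Helper25.SectionSmooth
import Groth.Agent.Lib.Helper26.RegularSch

/-!
# A group scheme of finite type over a field which is regular at the unit is smooth (helper29)

* `smoothLocus_homog`: the smooth locus of a flat group scheme l.f.p. is stable under "translation".
* `main19507`.
-/

set_option autoImplicit false
set_option maxHeartbeats 1600000
set_option linter.style.haveILetI false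
universe u

open CategoryTheory CategoryTheory.Limits MonoidalCategory CartesianMonoidalCategory MonObj
  AlgebraicGeometry

namespace Groth.Agent.Lib.Helper29.RegUnitSmooth

open Groth.Agent.Lib.Helper14 Groth.Agent.Lib.Helper8

theorem smoothLocus_homog {S : Scheme.{u}} (G : Over S) [GrpObj G] [Flat G.hom]
    [LocallyOfFinitePresentation G.hom] (x y : G.left) (hxy : G.hom x = G.hom y)
    (hx : x ∈ G.hom.smoothLocus) : y ∈ G.hom.smoothLocus := by
  obtain ⟨z, hz1, hz2⟩ := GrpdCM.exists_preimage_of_isPullback
    (GrpDim.isPullback_fst_snd_left G) x y hxy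
  haveI : LocallyOfFinitePresentation (μ[G]).left :=
    MorphismProperty.of_isPullback (P := @LocallyOfFinitePresentation)
      (GrpDim.isPullback_fst_mul_left G) inferInstance
  have e1 := SmoothLocusBC.mem_smoothLocus_iff_of_isPullback G.hom G.hom (μ[G]).left
    (fst G G).left (GrpDim.isPullback_fst_mul_left G) (Or.inl inferInstance) z
  have e2 := SmoothLocusBC.mem_smoothLocus_iff_of_isPullback G.hom G.hom (μ[G]).left
    (snd G G).left (GrpDim.isPullback_snd_mul_left G) (Or.inl inferInstance) z
  rw [← hz2]
  rw [← hz1] at hx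
  exact e2.1 (e1.2 hx)

theorem main19507 (k : Type u) [Field k]
    (G : Over (Spec (CommRingCat.of k))) [GrpObj G] [LocallyOfFiniteType G.hom] [QuasiCompact G.hom]
    (e : G.left) (he : e ∈ Set.range (η[G]).left.base)
    (hreg : IsRegularLocalRing (G.left.presheaf.stalk e)) : Smooth G.hom := by
  haveI : Subsingleton ↥(Spec (CommRingCat.of k)) :=
    inferInstanceAs (Subsingleton (PrimeSpectrum k))
  haveI : LocallyOfFinitePresentation G.hom := inferInstance
  haveI : Flat G.hom := inferInstance
  obtain ⟨t, rfl⟩ := he
  have hs : (η[G]).left ≫ G.hom = 𝟙 _ := Over.w η[G]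
  have hregk : ∀ y : ↥(Spec (CommRingCat.of k)),
      IsRegularLocalRing ((Spec (CommRingCat.of k)).presheaf.stalk y) := fun y =>
    Groth.Agent.Lib.Helper26.RegularSch.isRegularLocalRing_stalk_of_smooth_field k
      (𝟙 (Spec (CommRingCat.of k))) y
  have he_sm : (η[G]).left t ∈ G.hom.smoothLocus :=
    Groth.Agent.Lib.Helper25.SectionSmooth.mem_smoothLocus_of_section G.hom (η[G]).left hs t
      hreg hregk
  rw [← Scheme.Hom.smoothLocus_eq_top_iff]
  ext y
  simp only [TopologicalSpace.Opens.coe_top, Set.mem_univ, iff_true]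
  exact smoothLocus_homog G _ y (Subsingleton.elim _ _) he_sm

end Groth.Agent.Lib.Helper29.RegUnitSmooth
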