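import Mathlib
import Groth.Prelude.Def_AlgGrp
import Groth.Prelude.Def_Coh
import Groth.Agent.S8117
import Groth.Agent.Lib.Helper14.DenseSmooth
import Groth.Agent.Lib.Helper11.KPts2
import Groth.Agent.Lib.Helper11.FX1
import Groth.Agent.Lib.Helper29.RegUnitSmooth
import Groth.Agent.Lib.Helper29.IdCompDim

/-!
# Morphisms of abelian varieties preserving the unit are homomorphisms (helper29)

* `smooth_of_geometricallyReduced`: a geometrically reduced group scheme l.f.t. over a field is smooth.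
* `geometricallyIntegral_of_geometricallyReduced`: ... and geometrically integral if connected.
* `isMonHom_of_unit`: consequence of the rigidity lemma (`S8117`, helper11).
* `main14826`.
-/

set_option autoImplicit false
set_option maxHeartbeats 1600000
set_option linter.style.haveILetI false
universe u

open CategoryTheory CategoryTheory.Limits MonoidalCategory CartesianMonoidalCategory MonObj GrpObj
  AlgebraicGeometry

namespace Groth.Agent.Lib.Helper29.AbHom

/-- a geometrically reduced group scheme locally of finite type over a field is smooth -/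
theorem smooth_of_geometricallyReduced (k : Type u) [Field k]
    (G : Over (Spec (CommRingCat.of k))) [GrpObj G] [LocallyOfFiniteType G.hom]
    [GeometricallyReduced G.hom] : Smooth G.hom := by
  haveI : Subsingleton ↥(Spec (CommRingCat.of k)) :=
    inferInstanceAs (Subsingleton (PrimeSpectrum k))
  obtain ⟨fG, hfG⟩ : ∃ fG : G.left ⟶ Spec (CommRingCat.of k), fG = G.hom := ⟨_, rfl⟩
  haveI : LocallyOfFiniteType fG := hfG ▸ inferInstance
  haveI : GeometricallyReduced fG := hfG ▸ inferInstance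
  haveI : IsReduced G.left :=
    Groth.Agent.Lib.Helper11.KPts.isReduced_of_geometricallyReduced k fG
  obtain ⟨U, hUd, hUs⟩ :=
    (Groth.Agent.Lib.Helper14.DenseSmooth.geomReduced_iff_dense_smooth k fG).mp inferInstance
  haveI := hUs
  have hne : (U : Set G.left).Nonempty := by
    haveI : Nonempty ↥G.left := ⟨(η[G]).left (IsLocalRing.closedPoint k : PrimeSpectrum k)⟩
    exact hUd.nonempty
  obtain ⟨x, hx⟩ := hne
  haveI : LocallyOfFinitePresentation fG := inferInstance
  have hx' : x ∈ fG.smoothLocus :=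
    Groth.Agent.Lib.Helper14.DenseSmooth.le_smoothLocus_of_smooth fG U hx
  haveI : LocallyOfFinitePresentation G.hom := inferInstance
  haveI : Flat G.hom := inferInstance
  rw [← Scheme.Hom.smoothLocus_eq_top_iff]
  ext y
  simp only [TopologicalSpace.Opens.coe_top, Set.mem_univ, iff_true]
  refine Groth.Agent.Lib.Helper29.RegUnitSmooth.smoothLocus_homog G x y (Subsingleton.elim _ _) ?_
  subst hfG
  exact hx'

/-- a connected geometrically reduced group scheme l.f.t. over a field is geometrically integral -/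
theorem geometricallyIntegral_of_geometricallyReduced (k : Type u) [Field k]
    (G : Over (Spec (CommRingCat.of k))) [GrpObj G] [LocallyOfFiniteType G.hom]
    [GeometricallyReduced G.hom] [ConnectedSpace ↥G.left] : GeometricallyIntegral G.hom := by
  haveI : Smooth G.hom := smooth_of_geometricallyReduced k G
  have hgc : GeometricallyConnected G.hom :=
    Groth.Agent.Lib.Helper11.FX1.geometricallyConnected_of_section k G.hom (η[G]).left
      (Over.w η[G])
  haveI : GeometricallyIrreducible G.hom := by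
    refine ⟨fun K _ y Z p₁ p₂ h => ?_⟩
    show IrreducibleSpace ↥Z
    haveI : ConnectedSpace ↥Z := hgc.geometrically_connectedSpace y p₁ p₂ h
    haveI : Smooth p₂ := MorphismProperty.of_isPullback (P := @Smooth) h inferInstance
    obtain ⟨z⟩ := (inferInstance : Nonempty ↥Z)
    have hirr := Groth.Agent.Lib.Helper29.IdCompDim.isIrreducible_connectedComponent K p₂ z
    rw [irreducibleSpace_def]
    change IsIrreducible (Set.univ : Set ↥Z)
    rw [← PreconnectedSpace.connectedComponent_eq_univ z]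
    exact hirr
  exact GeometricallyIntegral.of_geometricallyReduced_of_geometricallyIrreducible _

/-- a morphism from an abelian variety to a group variety preserving the unit is a homomorphism -/
theorem isMonHom_of_unit (K : Type u) [Field K] (A B : Over (Spec (CommRingCat.of K)))
    [GrpObj A] [IsProper A.hom] [GeometricallyIntegral A.hom]
    [GrpObj B] [IsSeparated B.hom] [QuasiCompact B.hom] [LocallyOfFiniteType B.hom]
    [GeometricallyIntegral B.hom]
    (g : A ⟶ B) (hg : η[A] ≫ g = η[B]) : IsMonHom g := by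
  obtain ⟨F, hF⟩ : ∃ F : A ⊗ A ⟶ B,
      F = (μ[A] ≫ g) * ((fst A A ≫ g) * (snd A A ≫ g))⁻¹ := ⟨_, rfl⟩
  have e1 : lift (𝟙 A) (toUnit A ≫ η[A]) ≫ μ[A] = 𝟙 A := by
    rw [← Hom.mul_def, ← Hom.one_def, _root_.mul_one]
  have e2 : lift (toUnit A ≫ η[A]) (𝟙 A) ≫ μ[A] = 𝟙 A := by
    rw [← Hom.mul_def, ← Hom.one_def, _root_.one_mul]
  have hV : lift (𝟙 A) (toUnit A ≫ η[A]) ≫ F = toUnit A ≫ η[B] := by
    have hfst : lift (𝟙 A) (toUnit A ≫ η[A]) ≫ fst A A ≫ g = g := by
      rw [lift_fst_assoc, Category.id_comp]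
    have hsnd : lift (𝟙 A) (toUnit A ≫ η[A]) ≫ snd A A ≫ g = 1 := by
      rw [lift_snd_assoc, Category.assoc, hg, ← Hom.one_def]
    have hmul : lift (𝟙 A) (toUnit A ≫ η[A]) ≫ μ[A] ≫ g = g := by
      rw [← Category.assoc, e1, Category.id_comp]
    rw [hF, MonObj.comp_mul, GrpObj.comp_inv, MonObj.comp_mul, hmul, hfst, hsnd, _root_.mul_one,
      _root_.mul_inv_cancel, Hom.one_def]
  have hW : lift (toUnit A ≫ η[A]) (𝟙 A) ≫ F = toUnit A ≫ η[B] := by
    have hfst : lift (toUnit A ≫ η[A]) (𝟙 A) ≫ fst A A ≫ g = 1 := by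
      rw [lift_fst_assoc, Category.assoc, hg, ← Hom.one_def]
    have hsnd : lift (toUnit A ≫ η[A]) (𝟙 A) ≫ snd A A ≫ g = g := by
      rw [lift_snd_assoc, Category.id_comp]
    have hmul : lift (toUnit A ≫ η[A]) (𝟙 A) ≫ μ[A] ≫ g = g := by
      rw [← Category.assoc, e2, Category.id_comp]
    rw [hF, MonObj.comp_mul, GrpObj.comp_inv, MonObj.comp_mul, hmul, hfst, hsnd, _root_.one_mul,
      _root_.mul_inv_cancel, Hom.one_def]
  have hF1 : F = 1 := by
    rw [Hom.one_def]
    exact Groth.Agent.S8117.result K A A B F η[A] η[A] η[B] hV hW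
  have hμ : μ[A] ≫ g = (fst A A ≫ g) * (snd A A ≫ g) := by
    rw [hF] at hF1
    exact mul_inv_eq_one.mp hF1
  refine ⟨hg, ?_⟩
  rw [hμ, Hom.mul_def]
  congr 1

theorem main14826 (k : Type u) [Field k] (X : Scheme.{u}) [X.Over (Spec (CommRingCat.of k))]
    [IsProper (X ↘ Spec (CommRingCat.of k))]
    (h0 : Module.finrank k (Coh.HH X (Coh.structureModule X) 0) = 1)
    (x₀ : 𝟙_ (Over (Spec (CommRingCat.of k))) ⟶ Over.mk (X ↘ Spec (CommRingCat.of k)))
    (A : Over (Spec (CommRingCat.of k))) [GrpObj A] [IsProper A.hom] [GeometricallyIntegral A.hom]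
    (alb : Over.mk (X ↘ Spec (CommRingCat.of k)) ⟶ A) (halb : x₀ ≫ alb = η[A])
    (huniv : ∀ (B : Over (Spec (CommRingCat.of k))) [GrpObj B] [IsProper B.hom]
      [GeometricallyReduced B.hom] [ConnectedSpace ↥B.left]
      (g : Over.mk (X ↘ Spec (CommRingCat.of k)) ⟶ B), x₀ ≫ g = η[B] →
        ∃! h : A ⟶ B, IsMonHom h ∧ alb ≫ h = g)
    (A' : Over (Spec (CommRingCat.of k))) [GrpObj A'] [IsProper A'.hom]
    [GeometricallyReduced A'.hom] [ConnectedSpace ↥A'.left]
    (φ : Over.mk (X ↘ Spec (CommRingCat.of k)) ⟶ A') :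
    ∃ h : A ⟶ A', IsMonHom h ∧
      (alb ≫ h) * (toUnit (Over.mk (X ↘ Spec (CommRingCat.of k))) ≫ x₀ ≫ φ) = φ ∧
      ∀ g : A ⟶ A', alb ≫ g = φ → g = h * (toUnit A ≫ x₀ ≫ φ) := by
  haveI : GeometricallyIntegral A'.hom := geometricallyIntegral_of_geometricallyReduced k A'
  obtain ⟨c, hc⟩ : ∃ c : 𝟙_ (Over (Spec (CommRingCat.of k))) ⟶ A', c = x₀ ≫ φ := ⟨_, rfl⟩
  have hcc : c * c⁻¹ = η[A'] := by
    rw [_root_.mul_inv_cancel, Hom.one_def,
      toUnit_unique (toUnit (𝟙_ (Over (Spec (CommRingCat.of k))))) (𝟙 _), Category.id_comp]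
  have hφ' : x₀ ≫ (φ * (toUnit (Over.mk (X ↘ Spec (CommRingCat.of k))) ≫ c)⁻¹) = η[A'] := by
    rw [MonObj.comp_mul, GrpObj.comp_inv, ← Category.assoc,
      toUnit_unique (x₀ ≫ toUnit (Over.mk (X ↘ Spec (CommRingCat.of k)))) (𝟙 _), Category.id_comp,
      ← hc, hcc]
  obtain ⟨h, ⟨hh1, hh2⟩, huniq⟩ := huniv A' _ hφ'
  refine ⟨h, hh1, ?_, ?_⟩
  · rw [hh2, ← hc, _root_.inv_mul_cancel_right]
  · intro g hg
    have hg0 : η[A] ≫ g = c := by rw [← halb, Category.assoc, hg, hc]
    have hg'1 : η[A] ≫ (g * (toUnit A ≫ c)⁻¹) = η[A'] := by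
      rw [MonObj.comp_mul, GrpObj.comp_inv, ← Category.assoc,
        toUnit_unique (η[A] ≫ toUnit A) (𝟙 _), Category.id_comp, hg0, hcc]
    haveI : IsMonHom (g * (toUnit A ≫ c)⁻¹) := isMonHom_of_unit k A A' _ hg'1
    have hg'2 : alb ≫ (g * (toUnit A ≫ c)⁻¹) =
        φ * (toUnit (Over.mk (X ↘ Spec (CommRingCat.of k))) ≫ c)⁻¹ := by
      rw [MonObj.comp_mul, GrpObj.comp_inv, hg, ← Category.assoc,
        toUnit_unique (alb ≫ toUnit A) (toUnit (Over.mk (X ↘ Spec (CommRingCat.of k))))]
    have hgh := huniq (g * (toUnit A ≫ c)⁻¹) ⟨inferInstance, hg'2⟩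
    rw [← hc, ← hgh, _root_.inv_mul_cancel_right]

end Groth.Agent.Lib.Helper29.AbHom
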