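import Groth.Agent.Lib.Helper29.TorsorComp

/-!
# Helper library (helper29): exactness of the cohomology sequence in degree one, for torsor schemes

* `isIso_of_pts`, `pseudoTorsor_of_pts`: isomorphisms / pseudo-torsors from the functor of points.
* `subAction`: an action restricts to a subobject stable on points.
* `exact_exists`, `exact_inj`: the points form of an exact sequence of groups.
* `main6009`, `main6010`: exactness at `H¹(G')` and `H¹(G)`.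
-/

set_option autoImplicit false
set_option maxHeartbeats 1600000
universe u
open CategoryTheory CategoryTheory.Limits AlgebraicGeometry MonoidalCategory CartesianMonoidalCategory
  MonObj GrpObj

namespace Groth.Agent.Lib.Helper29.ExactSeq

open Groth.Agent.Lib.Helper29.InvFun Groth.Agent.Lib.Helper22 Groth.Agent.Lib.Helper29.TorsorPush
  Groth.Agent.Lib.Helper29.TorsorComp

noncomputable section

theorem isIso_of_pts {C : Type*} [Category C] {A B : C} (f : A ⟶ B)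
    (h : ∀ (T : C) (b : T ⟶ B), ∃! a : T ⟶ A, a ≫ f = b) : IsIso f := by
  obtain ⟨g, hg, -⟩ := h B (𝟙 B)
  refine ⟨⟨g, ?_, hg⟩⟩
  exact (h A f).unique (by rw [Category.assoc, hg, Category.comp_id]) (Category.id_comp f)

variable {S : Scheme.{u}}

/-- pseudo-torsor from simple transitivity on points -/
theorem pseudoTorsor_of_pts {G Y : Over S} [GrpObj G] (a : AlgGrp.Action G Y)
    (hex : ∀ (T : Over S) (y₁ y₂ : T ⟶ Y), ∃ g : T ⟶ G, smul a g y₂ = y₁)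
    (hinj : ∀ (T : Over S) (g g' : T ⟶ G) (y : T ⟶ Y), smul a g y = smul a g' y → g = g') :
    NonAbH1.IsPseudoTorsorSch a := by
  show IsIso (lift a.act (snd G Y))
  apply isIso_of_pts
  intro T b
  obtain ⟨g, hg⟩ := hex T (b ≫ fst Y Y) (b ≫ snd Y Y)
  refine ⟨lift g (b ≫ snd Y Y), ?_, ?_⟩
  · apply CartesianMonoidalCategory.hom_ext
    · rw [Category.assoc, lift_fst]
      exact hg
    · rw [Category.assoc, lift_snd, lift_snd]
  · intro w hw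
    have h1 : w ≫ a.act = b ≫ fst Y Y := by rw [← hw, Category.assoc, lift_fst]
    have h2 : w ≫ snd G Y = b ≫ snd Y Y := by rw [← hw, Category.assoc, lift_snd]
    have e : w = lift (w ≫ fst G Y) (b ≫ snd Y Y) := by
      apply CartesianMonoidalCategory.hom_ext
      · rw [lift_fst]
      · rw [lift_snd, h2]
    have h3 : smul a (w ≫ fst G Y) (b ≫ snd Y Y) = b ≫ fst Y Y := by rw [smul_def, ← e, h1]
    exact e.trans (by rw [hinj T _ _ _ (h3.trans hg.symm)])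

/-- sub-action along a monomorphism -/
def subAction {G' Y Qx : Over S} [GrpObj G'] (b : AlgGrp.Action G' Y) (j : Qx ⟶ Y) [Mono j]
    (act' : G' ⊗ Qx ⟶ Qx)
    (hpt : ∀ (T : Over S) (g : T ⟶ G') (y : T ⟶ Qx),
      lift g y ≫ act' ≫ j = lift g (y ≫ j) ≫ b.act) : AlgGrp.Action G' Qx where
  act := act'
  one_act := by
    rw [← cancel_mono j]
    apply AlgGrp.Action.hom_ext_lift₂
    intro T t y
    have ht : t ≫ η[G'] = (1 : T ⟶ G') := by rw [Hom.one_def, toUnit_unique t (toUnit T)]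
    simp only [Category.assoc]
    rw [lift_whiskerRight_assoc, ht, hpt, AlgGrp.Action.lift_one_act, leftUnitor_hom,
      lift_snd_assoc]
  mul_act := by
    rw [← cancel_mono j]
    apply AlgGrp.Action.hom_ext_lift₃
    intro T g g' y
    simp only [Category.assoc]
    rw [lift_whiskerRight_assoc, ← Hom.mul_def, hpt, AlgGrp.Action.lift_mul_act,
      lift_lift_associator_hom_assoc, lift_whiskerLeft_assoc, hpt, Category.assoc, hpt]

section Exact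

variable {G G' G'' : Over S} [GrpObj G] [GrpObj G'] [GrpObj G''] (u : G' ⟶ G) (v : G ⟶ G'')
  (hpb : IsPullback (fst G G') ((G ◁ u) ≫ μ[G]) v v)

include hpb in
theorem exact_exists {T : Over S} (g₁ g₂ : T ⟶ G) (h : g₁ ≫ v = g₂ ≫ v) :
    ∃ g' : T ⟶ G', g₁ * (g' ≫ u) = g₂ := by
  refine ⟨hpb.lift g₁ g₂ h ≫ snd G G', ?_⟩
  have e : lift g₁ (hpb.lift g₁ g₂ h ≫ snd G G') = hpb.lift g₁ g₂ h := by
    apply CartesianMonoidalCategory.hom_ext
    · rw [lift_fst, hpb.lift_fst]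
    · rw [lift_snd]
  calc g₁ * ((hpb.lift g₁ g₂ h ≫ snd G G') ≫ u)
      = lift g₁ (hpb.lift g₁ g₂ h ≫ snd G G') ≫ (G ◁ u) ≫ μ[G] := by
        rw [lift_whiskerLeft_assoc, ← Hom.mul_def]
    _ = hpb.lift g₁ g₂ h ≫ (G ◁ u) ≫ μ[G] := by rw [e]
    _ = g₂ := hpb.lift_snd g₁ g₂ h

include hpb in
theorem exact_inj {T : Over S} (g'₁ g'₂ : T ⟶ G') (h : g'₁ ≫ u = g'₂ ≫ u) : g'₁ = g'₂ := by
  have e : lift (1 : T ⟶ G) g'₁ = lift (1 : T ⟶ G) g'₂ := by
    apply hpb.hom_ext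
    · rw [lift_fst, lift_fst]
    · rw [lift_whiskerLeft_assoc, lift_whiskerLeft_assoc, h]
  calc g'₁ = lift (1 : T ⟶ G) g'₁ ≫ snd G G' := (lift_snd _ _).symm
    _ = lift (1 : T ⟶ G) g'₂ ≫ snd G G' := by rw [e]
    _ = g'₂ := lift_snd _ _

end Exact

/-! ### Exactness at `H¹(G')` -/

theorem push_of_pullbackTorsor {G G' X : Over S} [GrpObj G] [GrpObj G'] (u : G' ⟶ G)
    (a : AlgGrp.Action G' X) (i : X ⟶ G)
    (hi : ∀ (T : Over S) (g' : T ⟶ G') (p : T ⟶ X),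
      lift g' p ≫ a.act ≫ i = (p ≫ i) * (g' ≫ u)⁻¹) :
    a.act ≫ i⁻¹ = lift (fst G' X ≫ u) (snd G' X ≫ i⁻¹) ≫ (NonAbH1.trivialAction G).act := by
  apply AlgGrp.Action.hom_ext_lift₂
  intro T g' p
  have e1 : lift g' p ≫ a.act ≫ i⁻¹ = (g' ≫ u) * (p ≫ i)⁻¹ := by
    rw [GrpObj.comp_inv, GrpObj.comp_inv, hi, _root_.mul_inv_rev, _root_.inv_inv]
  have e2 : lift g' p ≫ lift (fst G' X ≫ u) (snd G' X ≫ i⁻¹) ≫ (NonAbH1.trivialAction G).act =
      (g' ≫ u) * (p ≫ i)⁻¹ := by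
    rw [comp_lift_assoc, lift_fst_assoc, lift_snd_assoc, GrpObj.comp_inv]
    rfl
  rw [e1, e2]

theorem pullbackTorsor_of_hi {G G' G'' X : Over S} [GrpObj G] [GrpObj G'] [GrpObj G'']
    (u : G' ⟶ G) (v : G ⟶ G'') [IsMonHom u] [IsMonHom v] (huv : u ≫ v = 1)
    (hpb : IsPullback (fst G G') ((G ◁ u) ≫ μ[G]) v v)
    (a : AlgGrp.Action G' X) (hQ : NonAbH1.IsTorsorFor Scheme.fpqcPrecoverage a) (i : X ⟶ G)
    (hi : ∀ (T : Over S) (g' : T ⟶ G') (p : T ⟶ X),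
      lift g' p ≫ a.act ≫ i = (p ≫ i) * (g' ≫ u)⁻¹) :
    ∃ f : 𝟙_ (Over S) ⟶ G'', IsPullback i (toUnit X) v f := by
  obtain ⟨c⟩ := exists_covSec hQ.2
  have hsm : ∀ {T : Over S} (d : T ⟶ G') (p : T ⟶ X),
      smul a d p ≫ i = (p ≫ i) * (d ≫ u)⁻¹ := by
    intro T d p
    rw [smul_def, Category.assoc]
    exact hi T d p
  -- the section `f`
  obtain ⟨f, hf⟩ := c.glue (B := 𝟙_ (Over S)) (C := G'')
    (fun T _ p => p ≫ i ≫ v)
    (fun T T' s b p => by simp only [Category.assoc])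
    (fun T b p₁ p₂ => by
      obtain ⟨d, e⟩ : ∃ d : T ⟶ G', smul a d p₁ = p₂ := ⟨_, dv_smul a hQ.1 p₂ p₁⟩
      subst e
      calc p₁ ≫ i ≫ v = (p₁ ≫ i ≫ v) * 1 := (_root_.mul_one _).symm
        _ = ((p₁ ≫ i) ≫ v) * ((d ≫ u)⁻¹ ≫ v) := by
          rw [GrpObj.inv_comp, Category.assoc, Category.assoc, huv, MonObj.comp_one, _root_.inv_one]
        _ = ((p₁ ≫ i) * (d ≫ u)⁻¹) ≫ v := (MonObj.mul_comp _ _ _).symm
        _ = smul a d p₁ ≫ i ≫ v := by rw [← hsm, Category.assoc])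
  have hf' : ∀ (T : Over S) (b : T ⟶ 𝟙_ (Over S)) (p : T ⟶ X), b ≫ f = p ≫ i ≫ v := hf
  have hsq : i ≫ v = toUnit X ≫ f := ((hf' X (toUnit X) (𝟙 X)).trans (Category.id_comp _)).symm
  have hinj : ∀ {T : Over S} (y₁ y₂ : T ⟶ X), y₁ ≫ i = y₂ ≫ i → y₁ = y₂ := by
    intro T y₁ y₂ h
    obtain ⟨d, hd⟩ : ∃ d : T ⟶ G', smul a d y₂ = y₁ := ⟨_, dv_smul a hQ.1 y₁ y₂⟩
    have e : y₁ ≫ i = (y₂ ≫ i) * (d ≫ u)⁻¹ := by rw [← hd, hsm]
    have h1 : (d ≫ u)⁻¹ = 1 := _root_.mul_eq_left.mp (e.symm.trans h)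
    have h2 : d ≫ u = (1 : T ⟶ G') ≫ u := by
      rw [MonObj.one_comp]
      exact _root_.inv_eq_one.mp h1
    have h3 : d = 1 := exact_inj u v hpb d 1 h2
    rw [← hd, h3, pt_one_smul]
  refine ⟨f, isPullback_of_existsUnique hsq (fun T g t hgt => ?_)⟩
  have hloc : ∀ (T' : Over S) (b : T' ⟶ T) (y₀ : T' ⟶ X), ∃ y : T' ⟶ X, y ≫ i = b ≫ g := by
    intro T' b y₀
    have h1 : (y₀ ≫ i) ≫ v = (b ≫ g) ≫ v :=
      calc (y₀ ≫ i) ≫ v = y₀ ≫ i ≫ v := Category.assoc _ _ _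
        _ = (b ≫ t) ≫ f := (hf' T' (b ≫ t) y₀).symm
        _ = b ≫ g ≫ v := by rw [Category.assoc, hgt]
        _ = (b ≫ g) ≫ v := (Category.assoc _ _ _).symm
    obtain ⟨δ, hδ⟩ := exact_exists u v hpb (y₀ ≫ i) (b ≫ g) h1
    refine ⟨smul a δ⁻¹ y₀, ?_⟩
    rw [hsm, GrpObj.inv_comp, _root_.inv_inv, hδ]
  let Fam : ∀ (T' : Over S), (T' ⟶ T) → (T' ⟶ X) → (T' ⟶ X) :=
    fun T' b y₀ => (hloc T' b y₀).choose
  have hFam : ∀ (T' : Over S) (b : T' ⟶ T) (y₀ : T' ⟶ X), Fam T' b y₀ ≫ i = b ≫ g :=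
    fun T' b y₀ => (hloc T' b y₀).choose_spec
  have hnat : ∀ (T₁ T₂ : Over S) (s : T₂ ⟶ T₁) (b : T₁ ⟶ T) (y₀ : T₁ ⟶ X),
      s ≫ Fam T₁ b y₀ = Fam T₂ (s ≫ b) (s ≫ y₀) := by
    intro T₁ T₂ s b y₀
    apply hinj
    rw [Category.assoc, hFam T₁ b y₀, hFam T₂ (s ≫ b) (s ≫ y₀), Category.assoc]
  have hind : ∀ (T₁ : Over S) (b : T₁ ⟶ T) (y₁ y₂ : T₁ ⟶ X), Fam T₁ b y₁ = Fam T₁ b y₂ := by
    intro T₁ b y₁ y₂
    rfl
  obtain ⟨r, hr⟩ := c.glue Fam hnat hind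
  have hri : r ≫ i = g := c.sep (r ≫ i) g (fun T' b y₀ => by
    rw [← Category.assoc, hr T' b y₀, hFam T' b y₀])
  exact ⟨r, ⟨hri, toUnit_unique _ _⟩, fun m hm => hinj _ _ (hm.1.trans hri.symm)⟩

theorem main6009 {S : Scheme.{u}}
    {G G' G'' : Over S} [GrpObj G] [GrpObj G'] [GrpObj G'']
    [IsCommMonObj G] [IsCommMonObj G'] [IsCommMonObj G'']
    [IsAffineHom G.hom] [IsAffineHom G'.hom] [IsAffineHom G''.hom]
    (u : G' ⟶ G) (v : G ⟶ G'') (hex : NonAbH1.IsExactSeq Scheme.fpqcPrecoverage u v)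
    (Q : NonAbH1.TorsorSch G' Scheme.fpqcPrecoverage) :
    NonAbH1.IsPushforwardAlongSch u Q.act (NonAbH1.trivialAction G) ↔
      ∃ (f : 𝟙_ (Over S) ⟶ G'') (i : Q.X ⟶ G), NonAbH1.IsPullbackTorsor u v f i Q.act := by
  obtain ⟨hu, hv, huv, hpb, -⟩ := hex
  haveI := hu
  haveI := hv
  constructor
  · rintro ⟨F, hF⟩
    have hFpt : ∀ {T : Over S} (g' : T ⟶ G') (p : T ⟶ Q.X),
        smul Q.act g' p ≫ F = (g' ≫ u) * (p ≫ F) :=
      fun g' p => equiv_pts u Q.act (NonAbH1.trivialAction G) F hF g' p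
    have hi : ∀ (T : Over S) (g' : T ⟶ G') (p : T ⟶ Q.X),
        lift g' p ≫ Q.act.act ≫ F⁻¹ = (p ≫ F⁻¹) * (g' ≫ u)⁻¹ := by
      intro T g' p
      have h1 : lift g' p ≫ Q.act.act ≫ F = (g' ≫ u) * (p ≫ F) := by
        rw [← Category.assoc]
        exact hFpt g' p
      rw [GrpObj.comp_inv, GrpObj.comp_inv, GrpObj.comp_inv, h1, _root_.mul_inv_rev]
    obtain ⟨f, hf⟩ := pullbackTorsor_of_hi u v huv hpb Q.act Q.isTorsor F⁻¹ hi
    exact ⟨f, F⁻¹, hu, hv, hf, hi⟩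
  · rintro ⟨f, i, -, -, -, hi⟩
    exact ⟨i⁻¹, push_of_pullbackTorsor u Q.act i hi⟩

/-! ### Exactness at `H¹(G)` -/

theorem exists_kernel_torsor {G G' G'' X : Over S} [GrpObj G] [GrpObj G'] [GrpObj G'']
    (u : G' ⟶ G) (v : G ⟶ G'') [IsMonHom u] [IsMonHom v] (huv : u ≫ v = 1)
    (hpb : IsPullback (fst G G') ((G ◁ u) ≫ μ[G]) v v)
    (hvloc : NonAbH1.IsLocallyTrivialFor Scheme.fpqcPrecoverage (Over.mk v.left : Over G''.left))
    (aP : AlgGrp.Action G X) (hP : NonAbH1.IsTorsorFor Scheme.fpqcPrecoverage aP) (F : X ⟶ G'')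
    (hF : aP.act ≫ F = lift (fst G X ≫ v) (snd G X ≫ F) ≫ (NonAbH1.trivialAction G'').act) :
    ∃ Q : NonAbH1.TorsorSch G' Scheme.fpqcPrecoverage,
      NonAbH1.IsPushforwardAlongSch u Q.act aP := by
  have hFpt : ∀ {T : Over S} (g : T ⟶ G) (p : T ⟶ X), smul aP g p ≫ F = (g ≫ v) * (p ≫ F) :=
    fun g p => equiv_pts v aP (NonAbH1.trivialAction G'') F hF g p
  -- the fibre over the unit section
  let Qx : Over S := pullback F η[G'']
  let j : Qx ⟶ X := pullback.fst F η[G'']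
  have hjF : j ≫ F = 1 := by
    show pullback.fst F η[G''] ≫ F = 1
    rw [pullback.condition, Hom.one_def, toUnit_unique (pullback.snd F η[G'']) (toUnit _)]
  haveI : Mono j := ⟨fun a b h => pullback.hom_ext h (toUnit_unique _ _)⟩
  have hlift : ∀ {T : Over S} (p : T ⟶ X), p ≫ F = 1 → ∃ y : T ⟶ Qx, y ≫ j = p := by
    intro T p hp
    exact ⟨pullback.lift p (toUnit T) (by rw [hp, Hom.one_def]), pullback.lift_fst _ _ _⟩
  have hact0 : smul aP (fst G' Qx ≫ u) (snd G' Qx ≫ j) ≫ F = 1 :=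
    (hFpt _ _).trans (by
      rw [Category.assoc, Category.assoc, huv, hjF, MonObj.comp_one, MonObj.comp_one, _root_.mul_one])
  obtain ⟨actQ, hactQ⟩ := hlift _ hact0
  have hactQ' : actQ ≫ j = lift (fst G' Qx ≫ u) (snd G' Qx ≫ j) ≫ aP.act := hactQ
  have hpt : ∀ (T : Over S) (g : T ⟶ G') (y : T ⟶ Qx),
      lift g y ≫ actQ ≫ j = lift g (y ≫ j) ≫ (aP.restrict u).act := by
    intro T g y
    rw [hactQ', comp_lift_assoc, lift_fst_assoc, lift_snd_assoc,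
      AlgGrp.Action.lift_restrict_act]
  let aQ : AlgGrp.Action G' Qx := subAction (aP.restrict u) j actQ hpt
  have hsm : ∀ {T : Over S} (g' : T ⟶ G') (y : T ⟶ Qx),
      smul aQ g' y ≫ j = smul aP (g' ≫ u) (y ≫ j) := by
    intro T g' y
    show (lift g' y ≫ actQ) ≫ j = lift (g' ≫ u) (y ≫ j) ≫ aP.act
    rw [Category.assoc, hpt, AlgGrp.Action.lift_restrict_act]
  have hQps : NonAbH1.IsPseudoTorsorSch aQ := by
    apply pseudoTorsor_of_pts
    · intro T y₁ y₂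
      obtain ⟨g, hg⟩ : ∃ g : T ⟶ G, smul aP g (y₂ ≫ j) = y₁ ≫ j := ⟨_, dv_smul aP hP.1 _ _⟩
      have h1 : g ≫ v = 1 := by
        have := hFpt g (y₂ ≫ j)
        rw [hg, Category.assoc, Category.assoc, hjF, MonObj.comp_one, MonObj.comp_one,
          _root_.mul_one] at this
        exact this.symm
      obtain ⟨g', hg'⟩ := exact_exists u v hpb (1 : T ⟶ G) g (by rw [MonObj.one_comp, h1])
      rw [_root_.one_mul] at hg'
      refine ⟨g', ?_⟩
      rw [← cancel_mono j, hsm, hg', hg]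
    · intro T g₁ g₂ y h
      have h1 : smul aP (g₁ ≫ u) (y ≫ j) = smul aP (g₂ ≫ u) (y ≫ j) := by
        rw [← hsm, ← hsm, h]
      have h2 : g₁ ≫ u = g₂ ≫ u :=
        (eq_dv aP hP.1 _ _ _ h1).trans (eq_dv aP hP.1 _ _ _ rfl).symm
      exact exact_inj u v hpb g₁ g₂ h2
  have key : ∀ {E V W : Scheme.{u}} (pf : E ⟶ V) (ps : E ⟶ W) (σ : V ⟶ X.left) (π : V ⟶ S)
      (_ : σ ≫ X.hom = π) (s : W ⟶ G.left) (π' : W ⟶ G''.left) (_ : s ≫ v.left = π')
      (_ : pf ≫ σ ≫ F.left = ps ≫ π'), ∃ y : E ⟶ Qx.left, y ≫ Qx.hom = pf ≫ π := by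
    intro E V W pf ps σ π hσ s π' hs hc
    let T : Over S := Over.mk (pf ≫ π)
    let p : T ⟶ X := Over.homMk (pf ≫ σ) (by
      show (pf ≫ σ) ≫ X.hom = pf ≫ π
      rw [Category.assoc, hσ])
    let g : T ⟶ G := Over.homMk (ps ≫ s) (by
      show (ps ≫ s) ≫ G.hom = pf ≫ π
      calc (ps ≫ s) ≫ G.hom = (ps ≫ s) ≫ v.left ≫ G''.hom := by rw [Over.w v]
        _ = (ps ≫ (s ≫ v.left)) ≫ G''.hom := by simp only [Category.assoc]
        _ = (pf ≫ σ ≫ F.left) ≫ G''.hom := by rw [hs, hc]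
        _ = pf ≫ σ ≫ (F.left ≫ G''.hom) := by simp only [Category.assoc]
        _ = pf ≫ π := by rw [Over.w F, hσ])
    have hgv : g ≫ v = p ≫ F := by
      apply Over.OverMorphism.ext
      show (ps ≫ s) ≫ v.left = (pf ≫ σ) ≫ F.left
      rw [Category.assoc, hs, ← hc, Category.assoc]
    have hy : smul aP g⁻¹ p ≫ F = 1 := by
      rw [hFpt, GrpObj.inv_comp, hgv, _root_.inv_mul_cancel]
    obtain ⟨y, -⟩ := hlift _ hy
    exact ⟨y.left, Over.w y⟩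
  have hQloc : NonAbH1.IsLocallyTrivialFor Scheme.fpqcPrecoverage Qx := by
    obtain ⟨cP⟩ := exists_covSec hP.2
    obtain ⟨cv⟩ := exists_covSec hvloc
    refine ⟨_, Precoverage.comp_mem_coverings cP.π cP.mem
      (fun l m => pullback.fst (cP.σ l ≫ F.left) (cv.π m))
      (fun l => Precoverage.mem_coverings_of_isPullback cv.π cv.mem (cP.σ l ≫ F.left)
        (fun m => pullback.fst (cP.σ l ≫ F.left) (cv.π m))
        (fun m => pullback.snd (cP.σ l ≫ F.left) (cv.π m))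
        (fun m => IsPullback.of_hasPullback (cP.σ l ≫ F.left) (cv.π m))), ?_⟩
    rintro S' f ⟨⟨l, m⟩⟩
    exact key (pullback.fst (cP.σ l ≫ F.left) (cv.π m))
      (pullback.snd (cP.σ l ≫ F.left) (cv.π m)) (cP.σ l) (cP.π l) (cP.w l) (cv.σ m) (cv.π m)
      (cv.w m) pullback.condition
  exact ⟨⟨Qx, aQ, hQps, hQloc⟩, j, hactQ'⟩

theorem main6010 {S : Scheme.{u}}
    {G G' G'' : Over S} [GrpObj G] [GrpObj G'] [GrpObj G'']
    [IsCommMonObj G] [IsCommMonObj G'] [IsCommMonObj G'']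
    [IsAffineHom G.hom] [IsAffineHom G'.hom] [IsAffineHom G''.hom]
    (u : G' ⟶ G) (v : G ⟶ G'') (hex : NonAbH1.IsExactSeq Scheme.fpqcPrecoverage u v)
    (P : NonAbH1.TorsorSch G Scheme.fpqcPrecoverage) :
    NonAbH1.IsPushforwardAlongSch v P.act (NonAbH1.trivialAction G'') ↔
      ∃ Q : NonAbH1.TorsorSch G' Scheme.fpqcPrecoverage,
        NonAbH1.IsPushforwardAlongSch u Q.act P.act := by
  obtain ⟨hu, hv, huv, hpb, hvloc⟩ := hex
  haveI := hu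
  haveI := hv
  constructor
  · rintro ⟨F, hF⟩
    exact exists_kernel_torsor u v huv hpb hvloc P.act P.isTorsor F hF
  · rintro ⟨Q, h, hh⟩
    have hq'' : Q.act.act ≫ (1 : Q.X ⟶ G'') =
        lift (fst G' Q.X ≫ u ≫ v) (snd G' Q.X ≫ (1 : Q.X ⟶ G'')) ≫
          (NonAbH1.trivialAction G'').act := by
      rw [huv, MonObj.comp_one, MonObj.comp_one, MonObj.comp_one]
      show (1 : G' ⊗ Q.X ⟶ G'') = 1 * 1
      rw [_root_.mul_one]
    obtain ⟨r, ⟨hr1, -⟩, -⟩ := main14541 u v Q.act P.act (NonAbH1.trivialAction G'')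
      Q.isTorsor P.isTorsor (NonAbH1.isTorsorFor_trivialAction G'' Scheme.fpqcPrecoverage)
      h hh (1 : Q.X ⟶ G'') hq''
    exact ⟨r, hr1⟩

end

end Groth.Agent.Lib.Helper29.ExactSeq
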