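import Mathlib
import Groth.Prelude.Def_AlgGrp
import Groth.Prelude.Def_ChGrp
import Groth.Prelude.Def_W4c6nonredquotmfGoodQuot
import Groth.Agent.Lib.Helper11.OrbA
import Groth.Agent.Lib.Helper15.RedInd
import Groth.Agent.Lib.Helper29.ExactSeq

/-!
# Closed orbits in the fibres of a good quotient (helper29)
-/

set_option autoImplicit false
set_option maxHeartbeats 1600000
set_option linter.style.haveILetI false
universe u

open CategoryTheory CategoryTheory.Limits MonoidalCategory CartesianMonoidalCategory MonObj GrpObj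
  AlgebraicGeometry

namespace Groth.Agent.Lib.Helper29.GoodQuot

open Groth.Agent.Lib.Helper11.OrbA

section

variable (k : Type u) [Field k]

/-- a rational point is a closed point. -/
theorem isClosed_rational (Y : Over (Spec (CommRingCat.of k)))
    (y : 𝟙_ (Over (Spec (CommRingCat.of k))) ⟶ Y)
    (pt : ↥(𝟙_ (Over (Spec (CommRingCat.of k)))).left) :
    IsClosed ({y.left pt} : Set ↥Y.left) := by
  haveI : Subsingleton ↥(Spec (CommRingCat.of k)) :=
    inferInstanceAs (Subsingleton (PrimeSpectrum k))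
  haveI : Subsingleton ↥(𝟙_ (Over (Spec (CommRingCat.of k)))).left :=
    inferInstanceAs (Subsingleton (PrimeSpectrum k))
  haveI : IsClosedImmersion y.left :=
    isClosedImmersion_of_comp_eq_id (Y := Spec (CommRingCat.of k)) Y.hom y.left (Over.w y)
  have hr : Set.range y.left = {y.left pt} := by
    ext z
    constructor
    · rintro ⟨p, rfl⟩
      rw [Subsingleton.elim p pt]
      exact Set.mem_singleton _
    · rintro rfl
      exact ⟨pt, rfl⟩
  rw [← hr]
  exact y.left.isClosedEmbedding.isClosed_range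

/-- rational points with the same underlying point are equal. -/
theorem rational_ext (Y : Over (Spec (CommRingCat.of k)))
    (y₁ y₂ : 𝟙_ (Over (Spec (CommRingCat.of k))) ⟶ Y)
    (pt : ↥(𝟙_ (Over (Spec (CommRingCat.of k)))).left) (h : y₁.left pt = y₂.left pt) :
    y₁ = y₂ := by
  haveI : Subsingleton ↥(Spec (CommRingCat.of k)) :=
    inferInstanceAs (Subsingleton (PrimeSpectrum k))
  haveI : Subsingleton ↥(𝟙_ (Over (Spec (CommRingCat.of k)))).left :=
    inferInstanceAs (Subsingleton (PrimeSpectrum k))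
  haveI : IsClosedImmersion y₁.left :=
    isClosedImmersion_of_comp_eq_id (Y := Spec (CommRingCat.of k)) Y.hom y₁.left (Over.w y₁)
  haveI : IsReduced (𝟙_ (Over (Spec (CommRingCat.of k)))).left :=
    inferInstanceAs (IsReduced (Spec (CommRingCat.of k)))
  have hsub : Set.range y₂.left ⊆ Set.range y₁.left := by
    rintro _ ⟨p, rfl⟩
    exact ⟨pt, by rw [h, Subsingleton.elim p pt]⟩
  obtain ⟨g, hg⟩ :=
    Groth.Agent.Lib.Helper15.RI.exists_lift_of_isReduced_of_range_subset_immersion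
      y₂.left y₁.left hsub
  have e1 : y₁.left ≫ Y.hom = 𝟙 _ := Over.w y₁
  have e2 : y₂.left ≫ Y.hom = 𝟙 _ := Over.w y₂
  have hg1 : g = 𝟙 _ := by
    have h1 : g ≫ y₁.left ≫ Y.hom = y₂.left ≫ Y.hom := by rw [← Category.assoc, hg]
    rw [e1, e2, Category.comp_id] at h1
    exact h1
  apply Over.OverMorphism.ext
  rw [← hg, hg1, Category.id_comp]

/-- a rational point in the image of a morphism lifts to a rational point. -/
theorem exists_kpt_of_mem_range [IsAlgClosed k] {G X : Over (Spec (CommRingCat.of k))}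
    [LocallyOfFiniteType G.hom] (f : G ⟶ X) (z : 𝟙_ (Over (Spec (CommRingCat.of k))) ⟶ X)
    (pt : ↥(𝟙_ (Over (Spec (CommRingCat.of k)))).left) (hz : z.left pt ∈ Set.range f.left) :
    ∃ g : 𝟙_ (Over (Spec (CommRingCat.of k))) ⟶ G, g ≫ f = z := by
  haveI : LocallyOfFiniteType f.left := by
    haveI : LocallyOfFiniteType (f.left ≫ X.hom) := by rw [Over.w f]; infer_instance
    exact locallyOfFiniteType_of_comp f.left X.hom
  obtain ⟨z0, hz0⟩ : ∃ z0 : Spec (CommRingCat.of k) ⟶ X.left, z0 = z.left := ⟨_, rfl⟩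
  haveI : JacobsonSpace ↥(pullback f.left z0) :=
    LocallyOfFiniteType.jacobsonSpace (pullback.snd f.left z0)
  obtain ⟨g0, hg0⟩ := hz
  obtain ⟨q, -, -⟩ := Scheme.exists_preimage_of_isPullback
    (IsPullback.of_hasPullback f.left z0) g0 pt (by rw [hg0, hz0])
  obtain ⟨w, -, hw⟩ := nonempty_inter_closedPoints (Z := (Set.univ : Set ↥(pullback f.left z0)))
    ⟨q, trivial⟩ isClosed_univ.isLocallyClosed
  replace hw : IsClosed ({w} : Set ↥(pullback f.left z0)) := hw
  obtain ⟨p, hp⟩ : ∃ p : Spec (CommRingCat.of k) ⟶ pullback f.left z0,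
      p ≫ pullback.snd f.left z0 = 𝟙 _ :=
    ⟨pointOfClosedPoint (pullback.snd f.left z0) w hw,
      pointOfClosedPoint_comp (pullback.snd f.left z0) w hw⟩
  have h1 : (p ≫ pullback.fst f.left z0) ≫ f.left = z0 := by
    rw [Category.assoc, pullback.condition, ← Category.assoc, hp, Category.id_comp]
  refine ⟨Over.homMk (p ≫ pullback.fst f.left z0) ?_, ?_⟩
  · calc (p ≫ pullback.fst f.left z0) ≫ G.hom
        = ((p ≫ pullback.fst f.left z0) ≫ f.left) ≫ X.hom := by
          rw [Category.assoc (p ≫ pullback.fst f.left z0), Over.w f]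
      _ = z0 ≫ X.hom := by rw [h1]
      _ = (𝟙_ (Over (Spec (CommRingCat.of k)))).hom := by rw [hz0]; exact Over.w z
  · apply Over.OverMorphism.ext
    show (p ≫ pullback.fst f.left z0) ≫ f.left = z.left
    rw [h1, hz0]

variable {G X Y : Over (Spec (CommRingCat.of k))} [GrpObj G]

theorem unit_orbitMap (a : AlgGrp.Action G X) (x : 𝟙_ (Over (Spec (CommRingCat.of k))) ⟶ X) :
    η[G] ≫ a.orbitMap x = x := by
  rw [a.comp_orbitMap, MonObj.one_eq_one, a.lift_one_act,
    toUnit_unique (toUnit (𝟙_ (Over (Spec (CommRingCat.of k))))) (𝟙 _), Category.id_comp]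

theorem mem_orbit (a : AlgGrp.Action G X) (x : 𝟙_ (Over (Spec (CommRingCat.of k))) ⟶ X)
    (pt : ↥(𝟙_ (Over (Spec (CommRingCat.of k)))).left) :
    x.left pt ∈ Set.range (a.orbitMap x).left :=
  ⟨(η[G]).left pt, by rw [← Scheme.Hom.comp_apply, ← Over.comp_left, unit_orbitMap]⟩

theorem orbitMap_comp_inv (a : AlgGrp.Action G X) (φ : X ⟶ Y)
    (hinv : a.act ≫ φ = snd G X ≫ φ) (x : 𝟙_ (Over (Spec (CommRingCat.of k))) ⟶ X) :
    a.orbitMap x ≫ φ = toUnit G ≫ x ≫ φ := by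
  unfold AlgGrp.Action.orbitMap
  rw [Category.assoc, hinv, ← Category.assoc, lift_snd, Category.assoc]

theorem image_orbit (a : AlgGrp.Action G X) (φ : X ⟶ Y)
    (hinv : a.act ≫ φ = snd G X ≫ φ) (x : 𝟙_ (Over (Spec (CommRingCat.of k))) ⟶ X)
    (pt : ↥(𝟙_ (Over (Spec (CommRingCat.of k)))).left) (g : G.left) :
    φ.left ((a.orbitMap x).left g) = (x ≫ φ).left pt := by
  haveI : Subsingleton ↥(𝟙_ (Over (Spec (CommRingCat.of k)))).left :=
    inferInstanceAs (Subsingleton (PrimeSpectrum k))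
  have h := congrArg (fun m : G ⟶ Y => m.left g) (orbitMap_comp_inv k a φ hinv x)
  simp only [Over.comp_left, Scheme.Hom.comp_apply] at h
  rw [Over.comp_left, Scheme.Hom.comp_apply, h, Subsingleton.elim ((toUnit G).left g) pt]

theorem image_closure_orbit_subset (a : AlgGrp.Action G X) (φ : X ⟶ Y)
    (hinv : a.act ≫ φ = snd G X ≫ φ) (x : 𝟙_ (Over (Spec (CommRingCat.of k))) ⟶ X)
    (pt : ↥(𝟙_ (Over (Spec (CommRingCat.of k)))).left) :
    φ.left '' closure (Set.range (a.orbitMap x).left) ⊆ {(x ≫ φ).left pt} := by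
  refine (image_closure_subset_closure_image φ.left.continuous).trans ?_
  refine closure_minimal ?_ (isClosed_rational k Y (x ≫ φ) pt)
  rintro _ ⟨_, ⟨g, rfl⟩, rfl⟩
  exact image_orbit k a φ hinv x pt g

/-- invariant closed subsets through two points with the same image meet. -/
theorem inter_nonempty (a : AlgGrp.Action G X) (φ : X ⟶ Y) (h : NRQuot.IsGoodQuot a φ)
    (x₁ x₂ : 𝟙_ (Over (Spec (CommRingCat.of k))) ⟶ X)
    (pt : ↥(𝟙_ (Over (Spec (CommRingCat.of k)))).left) (hφ : x₁ ≫ φ = x₂ ≫ φ)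
    (W₁ W₂ : Set ↥X.left) (hc₁ : IsClosed W₁) (hc₂ : IsClosed W₂)
    (hi₁ : Stab a W₁) (hi₂ : Stab a W₂) (hx₁ : x₁.left pt ∈ W₁) (hx₂ : x₂.left pt ∈ W₂) :
    (W₁ ∩ W₂).Nonempty := by
  have hW := h.inter (ULift.{u} Bool) (fun i => cond i.down W₁ W₂)
    (by rintro ⟨b⟩; cases b; exacts [hc₂, hc₁])
    (by rintro ⟨b⟩; cases b; exacts [hi₂, hi₁])
  have hy : (x₁ ≫ φ).left pt ∈
      ⋂ i : ULift.{u} Bool, φ.left.base '' (cond i.down W₁ W₂) := by
    rw [Set.mem_iInter]
    rintro ⟨b⟩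
    cases b
    · exact ⟨x₂.left pt, hx₂, by rw [hφ]; rfl⟩
    · exact ⟨x₁.left pt, hx₁, rfl⟩
  obtain ⟨z, hz, -⟩ := hW.ge hy
  rw [Set.mem_iInter] at hz
  exact ⟨z, hz ⟨true⟩, hz ⟨false⟩⟩

/-- closed orbits of rational points that meet are translates of each other. -/
theorem exists_translate_of_inter [IsAlgClosed k] [LocallyOfFiniteType G.hom]
    [LocallyOfFiniteType X.hom] (a : AlgGrp.Action G X)
    (x₁ x₂ : 𝟙_ (Over (Spec (CommRingCat.of k))) ⟶ X)
    (pt : ↥(𝟙_ (Over (Spec (CommRingCat.of k)))).left)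
    (hc₁ : IsClosed (Set.range (a.orbitMap x₁).left))
    (hc₂ : IsClosed (Set.range (a.orbitMap x₂).left))
    (hne : (Set.range (a.orbitMap x₁).left ∩ Set.range (a.orbitMap x₂).left).Nonempty) :
    ∃ g : 𝟙_ (Over (Spec (CommRingCat.of k))) ⟶ G, lift g x₁ ≫ a.act = x₂ := by
  obtain ⟨fX, hfX⟩ : ∃ fX : X.left ⟶ Spec (CommRingCat.of k), fX = X.hom := ⟨_, rfl⟩
  haveI : LocallyOfFiniteType fX := hfX ▸ inferInstance
  haveI : JacobsonSpace ↥X.left := LocallyOfFiniteType.jacobsonSpace fX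
  obtain ⟨z, ⟨hz1, hz2⟩, hzc⟩ := nonempty_inter_closedPoints hne (hc₁.inter hc₂).isLocallyClosed
  replace hzc : IsClosed ({z} : Set ↥X.left) := hzc
  have hx₀ : pointOfClosedPoint fX z hzc ≫ X.hom = 𝟙 _ := by
    rw [← hfX]; exact pointOfClosedPoint_comp fX z hzc
  let z' : 𝟙_ (Over (Spec (CommRingCat.of k))) ⟶ X :=
    Over.homMk (pointOfClosedPoint fX z hzc) (by simpa using hx₀)
  have hz' : ∀ s, z'.left s = z := fun s => pointOfClosedPoint_apply fX z hzc s
  obtain ⟨g₁, hg₁⟩ := exists_kpt_of_mem_range k (a.orbitMap x₁) z' pt (by rw [hz']; exact hz1)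
  obtain ⟨g₂, hg₂⟩ := exists_kpt_of_mem_range k (a.orbitMap x₂) z' pt (by rw [hz']; exact hz2)
  have e₁ : lift g₁ x₁ ≫ a.act = z' := by
    rw [← hg₁, a.comp_orbitMap g₁ x₁,
      toUnit_unique (toUnit (𝟙_ (Over (Spec (CommRingCat.of k))))) (𝟙 _), Category.id_comp]
  have e₂ : lift g₂ x₂ ≫ a.act = z' := by
    rw [← hg₂, a.comp_orbitMap g₂ x₂,
      toUnit_unique (toUnit (𝟙_ (Over (Spec (CommRingCat.of k))))) (𝟙 _), Category.id_comp]
  refine ⟨g₂⁻¹ * g₁, ?_⟩
  rw [a.lift_mul_act, e₁, ← e₂, ← a.lift_mul_act, _root_.inv_mul_cancel, a.lift_one_act]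

/-- a closed orbit in every fibre of a good quotient. -/
theorem exists_closed_orbit_over [IsAlgClosed k] [IsAffine G.left] [LocallyOfFiniteType G.hom]
    [LocallyOfFiniteType X.hom] (a : AlgGrp.Action G X) (φ : X ⟶ Y)
    (h : NRQuot.IsGoodQuot a φ) (y : 𝟙_ (Over (Spec (CommRingCat.of k))) ⟶ Y) :
    ∃ x : 𝟙_ (Over (Spec (CommRingCat.of k))) ⟶ X, x ≫ φ = y ∧
      IsClosed (Set.range (a.orbitMap x).left) := by
  haveI : Subsingleton ↥(Spec (CommRingCat.of k)) :=
    inferInstanceAs (Subsingleton (PrimeSpectrum k))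
  haveI : Subsingleton ↥(𝟙_ (Over (Spec (CommRingCat.of k)))).left :=
    inferInstanceAs (Subsingleton (PrimeSpectrum k))
  obtain ⟨pt₀⟩ : Nonempty ↥(𝟙_ (Over (Spec (CommRingCat.of k)))).left :=
    ⟨(IsLocalRing.closedPoint k : PrimeSpectrum k)⟩
  obtain ⟨fG, hfG⟩ : ∃ fG : G.left ⟶ Spec (CommRingCat.of k), fG = G.hom := ⟨_, rfl⟩
  haveI : QuasiCompact fG := (quasiCompact_iff_compactSpace fG).mpr inferInstance
  haveI : QuasiCompact G.hom := hfG ▸ ‹QuasiCompact fG›
  haveI : Mono y := ⟨fun u v _ => toUnit_unique u v⟩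
  obtain ⟨P, j, s, hP, hjm⟩ : ∃ (P : Over (Spec (CommRingCat.of k))) (j : P ⟶ X)
      (s : P ⟶ 𝟙_ (Over (Spec (CommRingCat.of k)))), IsPullback j s φ y ∧ Mono j :=
    ⟨pullback φ y, pullback.fst φ y, pullback.snd φ y, IsPullback.of_hasPullback φ y,
      inferInstance⟩
  haveI := hjm
  have hP' : IsPullback j.left s.left φ.left y.left := hP.map (Over.forget _)
  haveI : IsClosedImmersion y.left :=
    isClosedImmersion_of_comp_eq_id (Y := Spec (CommRingCat.of k)) Y.hom y.left (Over.w y)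
  haveI : IsClosedImmersion j.left :=
    MorphismProperty.of_isPullback (P := @IsClosedImmersion) hP'.flip inferInstance
  haveI : IsAffineHom φ.left := h.affine
  haveI : IsAffineHom s.left :=
    MorphismProperty.of_isPullback (P := @IsAffineHom) hP' inferInstance
  haveI : LocallyOfFiniteType P.hom := by rw [← Over.w j]; infer_instance
  haveI : QuasiCompact P.hom := by
    rw [← Over.w s]
    show QuasiCompact (s.left ≫ 𝟙 _)
    infer_instance
  -- the fibre is not empty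
  have h0 := h.inter PEmpty.{u+1} (fun i => i.elim) (fun i => i.elim) (fun i => i.elim)
  obtain ⟨x₀, -, hx₀⟩ := h0.ge (Set.mem_iInter.mpr (fun i => i.elim) : y.left pt₀ ∈ _)
  obtain ⟨q, -, -⟩ := Scheme.exists_preimage_of_isPullback hP' x₀ pt₀ hx₀
  haveI : Nonempty ↥P.left := ⟨q⟩
  -- the action on the fibre
  have hinv : a.act ≫ φ = snd G X ≫ φ := h.inv
  obtain ⟨act', hact'⟩ : ∃ act' : G ⊗ P ⟶ P, act' ≫ j = (G ◁ j) ≫ a.act := by
    refine ⟨hP.lift ((G ◁ j) ≫ a.act) (toUnit _) ?_, hP.lift_fst _ _ _⟩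
    rw [Category.assoc, hinv, ← Category.assoc, whiskerLeft_snd, Category.assoc, hP.w,
      ← Category.assoc]
    congr 1
    exact toUnit_unique _ _
  obtain ⟨aP, haP⟩ : ∃ aP : AlgGrp.Action G P, aP.act = act' :=
    ⟨Groth.Agent.Lib.Helper29.ExactSeq.subAction a j act' (by
      intro T g p
      rw [hact', lift_whiskerLeft_assoc]), rfl⟩
  obtain ⟨p, hp⟩ := exists_isClosed_orbit k G P aP
  refine ⟨p ≫ j, ?_, ?_⟩
  · rw [Category.assoc, hP.w, ← Category.assoc, toUnit_unique (p ≫ s) (𝟙 _), Category.id_comp]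
  · have horb : a.orbitMap (p ≫ j) = aP.orbitMap p ≫ j := by
      unfold AlgGrp.Action.orbitMap
      rw [Category.assoc, haP, hact', lift_whiskerLeft_assoc, Category.assoc]
    have hr : Set.range (a.orbitMap (p ≫ j)).left =
        j.left '' Set.range (aP.orbitMap p).left := by
      rw [horb]
      ext z
      constructor
      · rintro ⟨g, rfl⟩
        exact ⟨_, ⟨g, rfl⟩, rfl⟩
      · rintro ⟨_, ⟨g, rfl⟩, rfl⟩
        exact ⟨g, rfl⟩
    rw [hr]
    exact j.left.isClosedEmbedding.isClosedMap _ hp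

end

theorem main19424 (k : Type u) [Field k] [IsAlgClosed k]
    (G X Y : Over (Spec (CommRingCat.of k))) [GrpObj G] [IsAffine G.left] [LocallyOfFiniteType G.hom]
    [LocallyOfFiniteType X.hom]
    (a : AlgGrp.Action G X) (φ : X ⟶ Y) (h : NRQuot.IsGoodQuot a φ)
    (x₁ x₂ : 𝟙_ (Over (Spec (CommRingCat.of k))) ⟶ X) :
    (closure (Set.range (a.orbitMap x₁).left.base) ∩ closure (Set.range (a.orbitMap x₂).left.base)).Nonempty ↔
      x₁ ≫ φ = x₂ ≫ φ := by
  obtain ⟨pt₀⟩ : Nonempty ↥(𝟙_ (Over (Spec (CommRingCat.of k)))).left :=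
    ⟨(IsLocalRing.closedPoint k : PrimeSpectrum k)⟩
  have hopen : IsOpenMap (snd G X).left := isOpenMap_snd_of_field k G X
  have hinv : a.act ≫ φ = snd G X ≫ φ := h.inv
  constructor
  · rintro ⟨z, hz1, hz2⟩
    have h1 := image_closure_orbit_subset k a φ hinv x₁ pt₀ ⟨z, hz1, rfl⟩
    have h2 := image_closure_orbit_subset k a φ hinv x₂ pt₀ ⟨z, hz2, rfl⟩
    apply rational_ext k Y _ _ pt₀
    exact (Set.mem_singleton_iff.mp h1).symm.trans (Set.mem_singleton_iff.mp h2)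
  · intro hφ
    exact inter_nonempty k a φ h x₁ x₂ pt₀ hφ _ _ isClosed_closure isClosed_closure
      ((stab_range_orbitMap a x₁).closure hopen) ((stab_range_orbitMap a x₂).closure hopen)
      (subset_closure (mem_orbit k a x₁ pt₀)) (subset_closure (mem_orbit k a x₂ pt₀))

theorem main18981 (k : Type u) [Field k] [IsAlgClosed k] [CharZero k]
    (G X Y : Over (Spec (CommRingCat.of k))) [GrpObj G] [IsAffine G.left] [LocallyOfFiniteType G.hom]
    [LocallyOfFiniteType X.hom]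
    (a : AlgGrp.Action G X) (φ : X ⟶ Y) (h : NRQuot.IsGoodQuot a φ)
    (hcl : ∀ x : 𝟙_ (Over (Spec (CommRingCat.of k))) ⟶ X, IsClosed (Set.range (a.orbitMap x).left.base))
    (x₁ x₂ : 𝟙_ (Over (Spec (CommRingCat.of k))) ⟶ X) (hφ : x₁ ≫ φ = x₂ ≫ φ) :
    ∃ g : 𝟙_ (Over (Spec (CommRingCat.of k))) ⟶ G, lift g x₁ ≫ a.act = x₂ := by
  obtain ⟨pt₀⟩ : Nonempty ↥(𝟙_ (Over (Spec (CommRingCat.of k)))).left :=
    ⟨(IsLocalRing.closedPoint k : PrimeSpectrum k)⟩
  have hne := inter_nonempty k a φ h x₁ x₂ pt₀ hφ _ _ (hcl x₁) (hcl x₂)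
    (stab_range_orbitMap a x₁) (stab_range_orbitMap a x₂)
    (mem_orbit k a x₁ pt₀) (mem_orbit k a x₂ pt₀)
  exact exists_translate_of_inter k a x₁ x₂ pt₀ (hcl x₁) (hcl x₂) hne

theorem main19409
    (k : Type u) [Field k] [IsAlgClosed k]
    (G X Y : Over (Spec (CommRingCat.of k))) [GrpObj G] [IsAffine G.left] [LocallyOfFiniteType G.hom]
    [LocallyOfFiniteType X.hom]
    (a : AlgGrp.Action G X) (φ : X ⟶ Y) (h : NRQuot.IsGoodQuot a φ)
    (y : 𝟙_ (Over (Spec (CommRingCat.of k))) ⟶ Y) :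
    ∃ x : 𝟙_ (Over (Spec (CommRingCat.of k))) ⟶ X, x ≫ φ = y ∧ IsClosed (Set.range (a.orbitMap x).left.base) ∧
      ∀ x' : 𝟙_ (Over (Spec (CommRingCat.of k))) ⟶ X, x' ≫ φ = y → IsClosed (Set.range (a.orbitMap x').left.base) →
        ∃ g : 𝟙_ (Over (Spec (CommRingCat.of k))) ⟶ G, lift g x ≫ a.act = x' := by
  obtain ⟨pt₀⟩ : Nonempty ↥(𝟙_ (Over (Spec (CommRingCat.of k)))).left :=
    ⟨(IsLocalRing.closedPoint k : PrimeSpectrum k)⟩
  obtain ⟨x, hx, hxc⟩ := exists_closed_orbit_over k a φ h y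
  refine ⟨x, hx, hxc, ?_⟩
  intro x' hx' hxc'
  have hne := inter_nonempty k a φ h x x' pt₀ (hx.trans hx'.symm) _ _ hxc hxc'
    (stab_range_orbitMap a x) (stab_range_orbitMap a x')
    (mem_orbit k a x pt₀) (mem_orbit k a x' pt₀)
  exact exists_translate_of_inter k a x x' pt₀ hxc hxc' hne

end Groth.Agent.Lib.Helper29.GoodQuot
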