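import Groth.Agent.Lib.Helper29.FpqcLocal
import Groth.Prelude.Def_ChGrp
import Groth.Prelude.Def_RedSub
import Mathlib.AlgebraicGeometry.PullbackCarrier
import Mathlib.AlgebraicGeometry.Morphisms.UniversallyOpen

/-!
# Helper library (helper29): more on torsors

* `isPullback_whiskerLeft_snd`, `isPullback_whiskerRight_fst`: product squares in a cartesian monoidal category.
* `isIso_triv`: a pseudo-torsor with a point `s : T ⟶ X` is trivial over `T`.
* `main18858`: equivariant morphisms of fpqc torsors are isomorphisms.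
* `main5237`: universal property of an fppf quotient group.
* `main16162`: stable closed subsets of an fppf torsor are saturated with closed image.
-/

set_option autoImplicit false
set_option maxHeartbeats 1600000
universe u
open CategoryTheory CategoryTheory.Limits AlgebraicGeometry MonoidalCategory CartesianMonoidalCategory
  MorphismProperty MonObj

namespace Groth.Agent.Lib.Helper29.TorsorMisc

open Groth.Agent.Lib.Helper29.TorsorDesc Groth.Agent.Lib.Helper29.FpqcLocal

section Cartesian

variable {C : Type*} [Category C] [CartesianMonoidalCategory C]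

theorem isPullback_whiskerLeft_snd (X : C) {Y Z : C} (s : Z ⟶ Y) :
    IsPullback (X ◁ s) (snd X Z) (snd X Y) s := by
  refine ⟨⟨whiskerLeft_snd X s⟩, ⟨PullbackCone.IsLimit.mk _
    (fun c => lift (c.fst ≫ fst X Y) c.snd) (fun c => ?_) (fun c => ?_) (fun c m h1 h2 => ?_)⟩⟩
  · apply CartesianMonoidalCategory.hom_ext
    · rw [Category.assoc, whiskerLeft_fst, lift_fst]
    · rw [Category.assoc, whiskerLeft_snd, ← Category.assoc, lift_snd, c.condition]
  · exact lift_snd _ _
  · apply CartesianMonoidalCategory.hom_ext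
    · rw [lift_fst, ← h1, Category.assoc, whiskerLeft_fst]
    · rw [lift_snd, ← h2]

theorem isPullback_whiskerRight_fst {X X' : C} (f : X ⟶ X') (Z : C) :
    IsPullback (f ▷ Z) (fst X Z) (fst X' Z) f := by
  refine ⟨⟨whiskerRight_fst f Z⟩, ⟨PullbackCone.IsLimit.mk _
    (fun c => lift c.snd (c.fst ≫ snd X' Z)) (fun c => ?_) (fun c => ?_) (fun c m h1 h2 => ?_)⟩⟩
  · apply CartesianMonoidalCategory.hom_ext
    · rw [Category.assoc, whiskerRight_fst, ← Category.assoc, lift_fst, c.condition]
    · rw [Category.assoc, whiskerRight_snd, lift_snd]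
  · exact lift_fst _ _
  · apply CartesianMonoidalCategory.hom_ext
    · rw [lift_fst, ← h2]
    · rw [lift_snd, ← h1, Category.assoc, whiskerRight_snd]

end Cartesian

section Triv

variable {S : Scheme.{u}} {G X : Over S} [GrpObj G]

/-- The trivialisation map `(g, t) ↦ (g • s t, t)`. -/
noncomputable def triv (a : AlgGrp.Action G X) {T : Over S} (s : T ⟶ X) : G ⊗ T ⟶ X ⊗ T :=
  lift ((G ◁ s) ≫ a.act) (snd G T)

theorem isPullback_triv (a : AlgGrp.Action G X) {T : Over S} (s : T ⟶ X) :
    IsPullback (triv a s) (G ◁ s) (X ◁ s) (lift a.act (snd G X)) := by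
  have sqB : IsPullback (G ◁ s) (snd G T) (snd G X) s := isPullback_whiskerLeft_snd G s
  have sqR : IsPullback (X ◁ s) (snd X T) (snd X X) s := isPullback_whiskerLeft_snd X s
  have e1 : triv a s ≫ snd X T = snd G T := lift_snd _ _
  have e2 : lift a.act (snd G X) ≫ snd X X = snd G X := lift_snd _ _
  have p : triv a s ≫ (X ◁ s) = (G ◁ s) ≫ lift a.act (snd G X) := by
    apply CartesianMonoidalCategory.hom_ext
    · rw [Category.assoc, whiskerLeft_fst, Category.assoc, lift_fst]
      exact lift_fst _ _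
    · rw [Category.assoc, whiskerLeft_snd, Category.assoc, lift_snd, ← Category.assoc, e1,
        whiskerLeft_snd]
  refine IsPullback.of_right ?_ p sqR.flip
  rw [e1, e2]
  exact sqB.flip

theorem isIso_triv (a : AlgGrp.Action G X) (hX : IsIso (lift a.act (snd G X))) {T : Over S}
    (s : T ⟶ X) : IsIso (triv a s) :=
  (isPullback_triv a s).isIso_fst_of_isIso hX

end Triv

theorem main18858 {S : Scheme.{u}} {G X X' : Over S} [GrpObj G]
    (a : AlgGrp.Action G X) (a' : AlgGrp.Action G X')
    (ha : NonAbH1.IsTorsorFor Scheme.fpqcPrecoverage a)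
    (ha' : NonAbH1.IsTorsorFor Scheme.fpqcPrecoverage a')
    (f : X ⟶ X') (hf : AlgGrp.Action.IsEquivariant a a' f) : IsIso f := by
  obtain ⟨hps, R, hR, hsec⟩ := ha
  have hps' := ha'.1
  have hf' : a.act ≫ f = (G ◁ f) ≫ a'.act := hf
  have stepA : ∀ {T : Over S} (s : T ⟶ X), IsIso (f ▷ T) := by
    intro T s
    haveI h1 : IsIso (triv a s) := isIso_triv a hps s
    have h2 : IsIso (triv a' (s ≫ f)) := isIso_triv a' hps' (s ≫ f)
    have e : triv a s ≫ (f ▷ T) = triv a' (s ≫ f) := by
      apply CartesianMonoidalCategory.hom_ext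
      · have e1 : triv a s ≫ fst X T = (G ◁ s) ≫ a.act := lift_fst _ _
        have e2 : triv a' (s ≫ f) ≫ fst X' T = (G ◁ (s ≫ f)) ≫ a'.act := lift_fst _ _
        rw [Category.assoc, whiskerRight_fst, ← Category.assoc, e1, e2, Category.assoc, hf',
          MonoidalCategory.whiskerLeft_comp, Category.assoc]
      · rw [Category.assoc, whiskerRight_snd]
        exact (lift_snd _ _).trans (lift_snd _ _).symm
    haveI : IsIso (triv a s ≫ (f ▷ T)) := by rw [e]; exact h2
    exact IsIso.of_isIso_comp_left (triv a s) (f ▷ T)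
  obtain ⟨J, Z, g, rfl⟩ := R.exists_eq_ofArrows
  have hcov : Presieve.ofArrows (fun i => pullback X'.hom (g i))
      (fun i => pullback.fst X'.hom (g i)) ∈ Scheme.fpqcPrecoverage X'.left :=
    Precoverage.mem_coverings_of_isPullback g hR X'.hom (fun i => pullback.fst X'.hom (g i))
      (fun i => pullback.snd X'.hom (g i)) (fun i => IsPullback.of_hasPullback X'.hom (g i))
  have hiso : (MorphismProperty.isomorphisms Scheme.{u}) f.left := by
    refine of_fpqc (MorphismProperty.isomorphisms Scheme.{u}) f.left hcov ?_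
    rintro U _ ⟨i⟩
    obtain ⟨s₀, hs₀⟩ := hsec (g i) ⟨i⟩
    let T : Over S := Over.mk (g i)
    let s : T ⟶ X := Over.homMk s₀ hs₀
    haveI h3 : IsIso (f ▷ T) := stepA s
    have h4 : IsIso (f ▷ T).left := (inferInstance : IsIso ((Over.forget S).map (f ▷ T)))
    have sq : IsPullback (f ▷ T).left (fst X T).left (fst X' T).left f.left :=
      (isPullback_whiskerRight_fst f T).map (Over.forget S)
    exact (iff_snd_of_isPullback (MorphismProperty.isomorphisms Scheme.{u}) sq.flip).mp h4
  haveI : IsIso ((Over.forget S).map f) := hiso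
  exact isIso_of_reflects_iso f (Over.forget S)

theorem main5237 {S : Scheme.{u}} {H G Q K : Over S}
    [GrpObj H] [GrpObj G] [GrpObj Q] [GrpObj K]
    (i : H ⟶ G) [IsMonHom i] [Mono i] (hn : AlgGrp.IsNormalHom i)
    (q : G ⟶ Q) [IsMonHom q] (hq : RedSub.IsQuotient i q)
    (f : G ⟶ K) [IsMonHom f] (hf : i ≫ f = 1) :
    ∃! g : Q ⟶ K, q ≫ g = f ∧ IsMonHom g := by
  obtain ⟨hq1, hq2, hq3, sq⟩ := hq
  haveI := hq1
  haveI := hq2
  haveI := hq3
  haveI : Epi q.left := inferInstance
  haveI : Epi q := Over.epi_of_epi_left q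
  have sq' : IsPullback (fst G H).left ((G ◁ i) ≫ μ[G]).left q.left q.left :=
    sq.map (Over.forget S)
  have key : ((G ◁ i) ≫ μ[G]) ≫ f = fst G H ≫ f := by
    rw [MonObj.mul_eq_mul, MonObj.comp_mul, whiskerLeft_fst, whiskerLeft_snd, MonObj.mul_comp,
      Category.assoc, hf, MonObj.comp_one, _root_.mul_one]
  have e3 : ((G ◁ i) ≫ μ[G]).left ≫ f.left = (fst G H).left ≫ f.left :=
    congrArg (fun k => k.left) key
  have hcompat : ∀ {Z : Scheme.{u}} (p p' : Z ⟶ G.left), p ≫ q.left = p' ≫ q.left →
      p ≫ f.left = p' ≫ f.left := by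
    intro Z p p' hpp'
    have e1 : sq'.lift p p' hpp' ≫ (fst G H).left = p := sq'.lift_fst _ _ _
    have e2 : sq'.lift p p' hpp' ≫ ((G ◁ i) ≫ μ[G]).left = p' := sq'.lift_snd _ _ _
    calc p ≫ f.left = (sq'.lift p p' hpp' ≫ (fst G H).left) ≫ f.left := by rw [e1]
      _ = (sq'.lift p p' hpp' ≫ ((G ◁ i) ≫ μ[G]).left) ≫ f.left := by
          rw [Category.assoc, Category.assoc, e3]
      _ = p' ≫ f.left := by rw [e2]
  let g₀ : Q.left ⟶ K.left := EffectiveEpi.desc q.left f.left (fun p p' h => hcompat p p' h)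
  have hg₀ : q.left ≫ g₀ = f.left := EffectiveEpi.fac q.left f.left _
  have hw : g₀ ≫ K.hom = Q.hom := by
    rw [← cancel_epi q.left, ← Category.assoc, hg₀, Over.w f, Over.w q]
  let g : Q ⟶ K := Over.homMk g₀ hw
  have hqg : q ≫ g = f := Over.OverMorphism.ext hg₀
  haveI hepi2 : Epi (q ⊗ₘ q) := by
    haveI hS : Surjective (q ⊗ₘ q).left :=
      MorphismProperty.pullbackMap (P := @Surjective) hq1 hq1 (Over.w q).symm (Over.w q).symm
    haveI hF : Flat (q ⊗ₘ q).left :=
      MorphismProperty.pullbackMap (P := @Flat) hq2 hq2 (Over.w q).symm (Over.w q).symm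
    haveI hL : LocallyOfFinitePresentation (q ⊗ₘ q).left :=
      MorphismProperty.pullbackMap (P := @LocallyOfFinitePresentation) hq3 hq3 (Over.w q).symm
        (Over.w q).symm
    haveI : Epi (q ⊗ₘ q).left := inferInstance
    exact Over.epi_of_epi_left _
  have hmon : IsMonHom g := by
    constructor
    · rw [← IsMonHom.one_hom q, Category.assoc, hqg]
      exact IsMonHom.one_hom f
    · rw [← cancel_epi (q ⊗ₘ q)]
      calc (q ⊗ₘ q) ≫ μ[Q] ≫ g = μ[G] ≫ q ≫ g := by
            rw [← Category.assoc, ← IsMonHom.mul_hom q, Category.assoc]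
        _ = μ[G] ≫ f := by rw [hqg]
        _ = (f ⊗ₘ f) ≫ μ[K] := IsMonHom.mul_hom f
        _ = (q ⊗ₘ q) ≫ (g ⊗ₘ g) ≫ μ[K] := by
            rw [← Category.assoc, MonoidalCategory.tensorHom_comp_tensorHom, hqg]
  refine ⟨g, ⟨hqg, hmon⟩, fun g' hg' => ?_⟩
  rw [← cancel_epi q, hg'.1, hqg]

theorem main16162 {S : Scheme.{u}}
    {G X : Over S} [GrpObj G] (a : AlgGrp.Action G X) (ha : RedSub.IsTorsor a)
    (P : Set X.left) (hP : IsClosed P)
    (hstab : ∀ w : (G ⊗ X).left, (snd G X).left.base w ∈ P → a.act.left.base w ∈ P) :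
    IsClosed (X.hom.base '' P) ∧ X.hom.base ⁻¹' (X.hom.base '' P) = P := by
  obtain ⟨h1, h2, h3, h4⟩ := ha
  haveI := h1
  haveI := h2
  haveI := h3
  have hsat : X.hom.base ⁻¹' (X.hom.base '' P) = P := by
    apply Set.Subset.antisymm
    · rintro x ⟨p, hp, hpx⟩
      have hpx' : X.hom x = X.hom p := hpx.symm
      obtain ⟨z, hz1, hz2⟩ := Scheme.Pullback.exists_preimage_pullback (f := X.hom) (g := X.hom)
        x p hpx'
      haveI : IsIso (lift a.act (snd G X)).left :=
        (inferInstance : IsIso ((Over.forget S).map (lift a.act (snd G X))))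
      let w : (G ⊗ X).left := (inv (lift a.act (snd G X)).left) z
      have hw : (lift a.act (snd G X)).left w = z := by
        show (lift a.act (snd G X)).left ((inv (lift a.act (snd G X)).left) z) = z
        rw [← Scheme.Hom.comp_apply, IsIso.inv_hom_id]
        rfl
      have e1 : (lift a.act (snd G X)).left ≫ pullback.fst X.hom X.hom = a.act.left :=
        congrArg (fun k => k.left) (lift_fst a.act (snd G X))
      have e2 : (lift a.act (snd G X)).left ≫ pullback.snd X.hom X.hom = (snd G X).left :=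
        congrArg (fun k => k.left) (lift_snd a.act (snd G X))
      have hw1 : a.act.left w = x := by
        rw [← e1, Scheme.Hom.comp_apply, hw]
        exact hz1
      have hw2 : (snd G X).left w = p := by
        rw [← e2, Scheme.Hom.comp_apply, hw]
        exact hz2
      have hmem : a.act.left.base w ∈ P := hstab w (by
        show (snd G X).left w ∈ P
        rw [hw2]
        exact hp)
      show x ∈ P
      rw [← hw1]
      exact hmem
    · exact Set.subset_preimage_image _ _
  refine ⟨?_, hsat⟩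
  have hopen : IsOpenMap X.hom := X.hom.isOpenMap
  have hsurj : Function.Surjective X.hom := X.hom.surjective
  rw [← isOpen_compl_iff]
  have hc : (X.hom.base '' P)ᶜ = X.hom '' Pᶜ := by
    ext t
    constructor
    · intro ht
      obtain ⟨x, rfl⟩ := hsurj t
      exact ⟨x, fun hxP => ht ⟨x, hxP, rfl⟩, rfl⟩
    · rintro ⟨x, hx, rfl⟩ ⟨p, hp, hpx⟩
      apply hx
      rw [← hsat]
      exact ⟨p, hp, hpx⟩
  rw [hc]
  exact hopen _ hP.isOpen_compl

end Groth.Agent.Lib.Helper29.TorsorMisc
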