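import Mathlib
import Groth.Prelude.Def_AlgGrp
import Groth.Prelude.Def_ChGrp
import Groth.Prelude.Def_AGF
import Groth.Agent.Lib.Helper11.OrbA
import Groth.Agent.Lib.Helper8.RelFiberSmoothSch
import Groth.Agent.Lib.Helper29.GoodQuot
import Groth.Agent.Lib.Helper29.QuotTower
import Groth.Agent.Lib.Helper29.TorsorMisc

/-!
# Orbit closures and proper homogeneous spaces (helper29)

* `isPullback_whiskerRight`: `- ▷ Z` preserves pullback squares in a cartesian monoidal category.
* `main11218`: if `G/H` is proper, the closure of the `G`-orbit of `x` is `G · closure (H · x)`.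
-/

set_option autoImplicit false
set_option maxHeartbeats 1600000
set_option linter.style.haveILetI false
universe u

open CategoryTheory CategoryTheory.Limits MonoidalCategory CartesianMonoidalCategory MonObj GrpObj
  AlgebraicGeometry

namespace Groth.Agent.Lib.Helper29.OrbitProper

open Groth.Agent.Lib.Helper11.OrbA

section Cartesian

variable {C : Type*} [Category C] [CartesianMonoidalCategory C]

theorem isPullback_whiskerRight {P A B D : C} {f : P ⟶ A} {g : P ⟶ B} {h : A ⟶ D} {k : B ⟶ D}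
    (hpb : IsPullback f g h k) (Z : C) :
    IsPullback (f ▷ Z) (g ▷ Z) (h ▷ Z) (k ▷ Z) := by
  have hw : (f ▷ Z) ≫ (h ▷ Z) = (g ▷ Z) ≫ (k ▷ Z) := by
    rw [← comp_whiskerRight, ← comp_whiskerRight, hpb.w]
  have key : ∀ c : PullbackCone (h ▷ Z) (k ▷ Z),
      (c.fst ≫ fst A Z) ≫ h = (c.snd ≫ fst B Z) ≫ k := by
    intro c
    have h1 := congrArg (· ≫ fst D Z) c.condition
    simp only [Category.assoc, whiskerRight_fst] at h1
    rw [Category.assoc, Category.assoc]
    exact h1
  have key2 : ∀ c : PullbackCone (h ▷ Z) (k ▷ Z), c.fst ≫ snd A Z = c.snd ≫ snd B Z := by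
    intro c
    have h2 := congrArg (· ≫ snd D Z) c.condition
    simp only [Category.assoc, whiskerRight_snd] at h2
    exact h2
  refine ⟨⟨hw⟩, ⟨PullbackCone.IsLimit.mk _
    (fun c => lift (hpb.lift (c.fst ≫ fst A Z) (c.snd ≫ fst B Z) (key c)) (c.fst ≫ snd A Z))
    (fun c => ?_) (fun c => ?_) (fun c m h1 h2 => ?_)⟩⟩
  · apply CartesianMonoidalCategory.hom_ext
    · rw [Category.assoc, whiskerRight_fst, ← Category.assoc, lift_fst, hpb.lift_fst]
    · rw [Category.assoc, whiskerRight_snd, lift_snd]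
  · apply CartesianMonoidalCategory.hom_ext
    · rw [Category.assoc, whiskerRight_fst, ← Category.assoc, lift_fst, hpb.lift_snd]
    · rw [Category.assoc, whiskerRight_snd, lift_snd]
      exact key2 c
  · apply CartesianMonoidalCategory.hom_ext
    · rw [lift_fst]
      apply hpb.hom_ext
      · rw [hpb.lift_fst, Category.assoc, ← whiskerRight_fst, ← Category.assoc, h1]
      · rw [hpb.lift_snd, Category.assoc, ← whiskerRight_fst, ← Category.assoc, h2]
    · rw [lift_snd, ← h1, Category.assoc, whiskerRight_snd]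

end Cartesian

theorem comp_left_apply {S : Scheme.{u}} {A B C : Over S} (f : A ⟶ B) (g : B ⟶ C) (p : ↥A.left) :
    g.left (f.left p) = (f ≫ g).left p := by
  rw [Over.comp_left, Scheme.Hom.comp_apply]

theorem main11218 (k : Type u) [Field k] [IsAlgClosed k]
    (G : Over (Spec (CommRingCat.of k))) [GrpObj G] [IsAffine G.left] [Smooth G.hom]
    (H : Over (Spec (CommRingCat.of k))) [GrpObj H] [Smooth H.hom] (i : H ⟶ G) [IsMonHom i]
    [IsClosedImmersion i.left]
    (Y : Over (Spec (CommRingCat.of k))) (b : AlgGrp.Action G Y)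
    (o' : 𝟙_ (Over (Spec (CommRingCat.of k))) ⟶ Y) (hY : AGF.IsQuotient i Y b o')
    [IsProper Y.hom]
    (X : Over (Spec (CommRingCat.of k))) [IsSeparated X.hom] [LocallyOfFiniteType X.hom]
    [QuasiCompact X.hom]
    (a : AlgGrp.Action G X) (x : 𝟙_ (Over (Spec (CommRingCat.of k))) ⟶ X) :
    closure (Set.range ⇑(a.orbitMap x).left.base) =
      ⇑a.act.left.base '' (⇑(snd G X).left.base ⁻¹'
        closure (Set.range ⇑(i ≫ a.orbitMap x).left.base)) := by
  obtain ⟨hlft, hflat, hsurj, hpb⟩ := hY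
  haveI := hlft
  haveI := hflat
  haveI := hsurj
  -- the closure of the `H`-orbit is `H`-stable, the closure of the `G`-orbit is `G`-stable
  have hres : (a.restrict i).orbitMap x = i ≫ a.orbitMap x := by
    rw [a.comp_orbitMap, AlgGrp.Action.orbitMap, AlgGrp.Action.lift_restrict_act,
      Category.id_comp]
  have hZstab : Stab (a.restrict i) (closure (Set.range (i ≫ a.orbitMap x).left)) := by
    have h1 := stab_range_orbitMap (a.restrict i) x
    rw [hres] at h1
    exact h1.closure (isOpenMap_snd_of_field k H X)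
  have hGstab : Stab a (closure (Set.range (a.orbitMap x).left)) :=
    (stab_range_orbitMap a x).closure (isOpenMap_snd_of_field k G X)
  obtain ⟨Z, hZ⟩ : ∃ Z : Set ↥X.left, Z = closure (Set.range (i ≫ a.orbitMap x).left) :=
    ⟨_, rfl⟩
  have hZcl : IsClosed Z := by rw [hZ]; exact isClosed_closure
  have hZstab' : Stab (a.restrict i) Z := by rw [hZ]; exact hZstab
  have hOH : Set.range (i ≫ a.orbitMap x).left ⊆ Set.range (a.orbitMap x).left := by
    rintro _ ⟨h, rfl⟩
    exact ⟨i.left h, comp_left_apply _ _ _⟩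
  have hZsub : Z ⊆ closure (Set.range (a.orbitMap x).left) := by
    rw [hZ]; exact closure_mono hOH
  have hsub1 : a.act.left '' ((snd G X).left ⁻¹' Z) ⊆
      closure (Set.range (a.orbitMap x).left) := by
    rintro _ ⟨p, hp, rfl⟩
    exact hGstab p (hZsub hp)
  -- the twisted action map `(g, y) ↦ g⁻¹ y`
  obtain ⟨d, hd⟩ : ∃ d : G ⊗ X ⟶ X, d = lift (fst G X)⁻¹ (snd G X) ≫ a.act := ⟨_, rfl⟩
  have hinv1 : ∀ {T : Over (Spec (CommRingCat.of k))} (g : T ⟶ G) (y : T ⟶ X),
      lift g⁻¹ (lift g y ≫ a.act) ≫ a.act = y := by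
    intro T g y
    rw [← a.lift_mul_act, _root_.inv_mul_cancel, a.lift_one_act]
  have hinv2 : ∀ {T : Over (Spec (CommRingCat.of k))} (g : T ⟶ G) (y : T ⟶ X),
      lift g (lift g⁻¹ y ≫ a.act) ≫ a.act = y := by
    intro T g y
    rw [← a.lift_mul_act, _root_.mul_inv_cancel, a.lift_one_act]
  have hθd : lift (fst G X) a.act ≫ d = snd G X := by
    have h1 := hinv1 (fst G X) (snd G X)
    rw [lift_fst_snd, Category.id_comp] at h1
    rw [hd, comp_lift_assoc, GrpObj.comp_inv, lift_fst, lift_snd]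
    exact h1
  have hθ'act : lift (fst G X) d ≫ a.act = snd G X := by
    rw [hd]
    exact hinv2 (fst G X) (snd G X)
  have hAeq : a.act.left '' ((snd G X).left ⁻¹' Z) = (snd G X).left '' (d.left ⁻¹' Z) := by
    apply Set.Subset.antisymm
    · rintro _ ⟨p, hp, rfl⟩
      refine ⟨(lift (fst G X) a.act).left p, ?_, ?_⟩
      · show d.left ((lift (fst G X) a.act).left p) ∈ Z
        rw [comp_left_apply, hθd]
        exact hp
      · rw [comp_left_apply, lift_snd]
    · rintro _ ⟨c, hc, rfl⟩
      refine ⟨(lift (fst G X) d).left c, ?_, ?_⟩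
      · show (snd G X).left ((lift (fst G X) d).left c) ∈ Z
        rw [comp_left_apply, lift_snd]
        exact hc
      · rw [comp_left_apply, hθ'act]
  -- the projection `G × X ⟶ Y × X`
  have hPsnd : ((b.orbitMap o') ▷ X) ≫ snd Y X = snd G X := whiskerRight_snd _ _
  have hsqP : IsPullback ((b.orbitMap o') ▷ X).left (fst G X).left (fst Y X).left
      (b.orbitMap o').left :=
    (Groth.Agent.Lib.Helper29.TorsorMisc.isPullback_whiskerRight_fst (b.orbitMap o') X).map
      (Over.forget _)
  haveI : LocallyOfFinitePresentation ((b.orbitMap o').left ≫ Y.hom) := by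
    rw [Over.w (b.orbitMap o')]
    infer_instance
  haveI : LocallyOfFinitePresentation (b.orbitMap o').left :=
    Groth.Agent.Lib.Helper8.RelFiberSmoothSch.locallyOfFinitePresentation_of_comp
      (b.orbitMap o').left Y.hom
  haveI : UniversallyOpen (b.orbitMap o').left := inferInstance
  haveI : UniversallyOpen ((b.orbitMap o') ▷ X).left :=
    MorphismProperty.of_isPullback (P := @UniversallyOpen) hsqP.flip inferInstance
  haveI : Surjective ((b.orbitMap o') ▷ X).left :=
    MorphismProperty.of_isPullback (P := @Surjective) hsqP.flip inferInstance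
  have hclosed : IsClosedMap (snd Y X).left := by
    haveI : UniversallyClosed (snd Y X).left := by
      have : (snd Y X).left = pullback.snd Y.hom X.hom := rfl
      rw [this]
      infer_instance
    exact (snd Y X).left.isClosedMap
  -- the kernel pair of the projection
  have hkp : IsPullback ((fst G H) ▷ X) (((G ◁ i) ≫ μ[G]) ▷ X) ((b.orbitMap o') ▷ X)
      ((b.orbitMap o') ▷ X) := isPullback_whiskerRight hpb X
  have hkpl : IsPullback ((fst G H) ▷ X).left (((G ◁ i) ≫ μ[G]) ▷ X).left
      ((b.orbitMap o') ▷ X).left ((b.orbitMap o') ▷ X).left := hkp.map (Over.forget _)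
  obtain ⟨gg, hgg⟩ : ∃ gg : (G ⊗ H) ⊗ X ⟶ G, gg = fst (G ⊗ H) X ≫ fst G H := ⟨_, rfl⟩
  obtain ⟨hh, hhh⟩ : ∃ hh : (G ⊗ H) ⊗ X ⟶ H, hh = fst (G ⊗ H) X ≫ snd G H := ⟨_, rfl⟩
  obtain ⟨u', hu'⟩ : ∃ u' : (G ⊗ H) ⊗ X ⟶ H ⊗ X,
      u' = lift hh (lift (gg * (hh ≫ i))⁻¹ (snd (G ⊗ H) X) ≫ a.act) := ⟨_, rfl⟩
  have hu1 : u' ≫ snd H X = (((G ◁ i) ≫ μ[G]) ▷ X) ≫ d := by
    rw [hu', lift_snd, hd, comp_lift_assoc, GrpObj.comp_inv, whiskerRight_fst, whiskerRight_snd,
      Groth.Agent.Lib.Helper29.QuotTower.comp_whiskerLeft_mul, ← hgg, ← hhh]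
  have hgrp : (hh ≫ i) * (gg * (hh ≫ i))⁻¹ = gg⁻¹ := by
    rw [_root_.mul_inv_rev, _root_.mul_inv_cancel_left]
  have hu2 : u' ≫ (a.restrict i).act = ((fst G H) ▷ X) ≫ d := by
    rw [hu', AlgGrp.Action.lift_restrict_act, ← a.lift_mul_act, hgrp, hd, comp_lift_assoc,
      GrpObj.comp_inv, whiskerRight_fst, whiskerRight_snd, ← hgg]
  have hsat : ∀ p c : ↥(G ⊗ X).left,
      ((b.orbitMap o') ▷ X).left p = ((b.orbitMap o') ▷ X).left c →
      d.left c ∈ Z → d.left p ∈ Z := by
    intro p c hpc hc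
    obtain ⟨r, hr1, hr2⟩ := Scheme.exists_preimage_of_isPullback hkpl p c hpc
    have hr1' : ((fst G H) ▷ X).left r = p := hr1
    have hr2' : (((G ◁ i) ≫ μ[G]) ▷ X).left r = c := hr2
    have e1 : d.left p = (a.restrict i).act.left (u'.left r) := by
      rw [← hr1', comp_left_apply, comp_left_apply, hu2]
    have e2 : (snd H X).left (u'.left r) = d.left c := by
      rw [← hr2', comp_left_apply, comp_left_apply, hu1]
    rw [e1]
    apply hZstab'
    rw [e2]
    exact hc
  obtain ⟨C, hC⟩ : ∃ C : Set ↥(G ⊗ X).left, C = d.left ⁻¹' Z := ⟨_, rfl⟩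
  have hCcl : IsClosed C := by rw [hC]; exact hZcl.preimage d.left.continuous
  have hPC : IsClosed (((b.orbitMap o') ▷ X).left '' C) := by
    rw [← isOpen_compl_iff]
    have hc : (((b.orbitMap o') ▷ X).left '' C)ᶜ = ((b.orbitMap o') ▷ X).left '' Cᶜ := by
      ext t
      constructor
      · intro ht
        obtain ⟨p, rfl⟩ := ((b.orbitMap o') ▷ X).left.surjective t
        exact ⟨p, fun hpC => ht ⟨p, hpC, rfl⟩, rfl⟩
      · rintro ⟨p, hp, rfl⟩ ⟨c, hcC, hcp⟩
        apply hp
        rw [hC] at hcC ⊢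
        exact hsat p c hcp.symm hcC
    rw [hc]
    exact ((b.orbitMap o') ▷ X).left.isOpenMap _ hCcl.isOpen_compl
  have hAcl : IsClosed ((snd G X).left '' C) := by
    have h1 : (snd G X).left '' C = (snd Y X).left '' (((b.orbitMap o') ▷ X).left '' C) := by
      rw [Set.image_image]
      apply Set.image_congr
      intro p _
      show (snd G X).left p = (snd Y X).left (((b.orbitMap o') ▷ X).left p)
      rw [comp_left_apply, hPsnd]
    rw [h1]
    exact hclosed _ hPC
  -- the `G`-orbit lies in `G · Z`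
  have hOG : Set.range (a.orbitMap x).left ⊆ a.act.left '' ((snd G X).left ⁻¹' Z) := by
    rintro _ ⟨g, rfl⟩
    refine ⟨(lift (𝟙 G) (toUnit G ≫ x)).left g, ?_, ?_⟩
    · show (snd G X).left ((lift (𝟙 G) (toUnit G ≫ x)).left g) ∈ Z
      rw [comp_left_apply, lift_snd, Over.comp_left, Scheme.Hom.comp_apply, hZ]
      apply subset_closure
      have hx : (η[H] ≫ i) ≫ a.orbitMap x = x := by
        rw [IsMonHom.one_hom, Groth.Agent.Lib.Helper29.GoodQuot.unit_orbitMap k a x]
      refine ⟨(η[H]).left ((toUnit G).left g), ?_⟩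
      rw [comp_left_apply, ← Category.assoc, hx]
    · exact comp_left_apply _ _ _
  have hmain : closure (Set.range (a.orbitMap x).left) =
      a.act.left '' ((snd G X).left ⁻¹' Z) := by
    apply Set.Subset.antisymm
    · have hAcl' : IsClosed (a.act.left '' ((snd G X).left ⁻¹' Z)) := by
        rw [hAeq, ← hC]; exact hAcl
      exact (IsClosed.closure_subset_iff hAcl').mpr hOG
    · exact hsub1
  rw [hZ] at hmain
  exact hmain

end Groth.Agent.Lib.Helper29.OrbitProper
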