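import Mathlib
import Groth.Prelude.Def_AlgGrp
import Groth.Prelude.Def_Coh
import Groth.Agent.Lib.Helper29.AbHom
import Groth.Agent.Lib.Helper29.OrbitProper
import Groth.Agent.Lib.Helper23.GammaField

/-!
# Albanese dimension zero iff trivial Albanese variety (S14825)

* `bijective_toGlobal_of_h0`: `h⁰(O_X) = 1` implies `k → Γ(X, O_X)` bijective.
* `exists_factor_of_isIso_appTop`: a morphism to an affine scheme factors through an affinisation.
* `main14825`.
-/
set_option autoImplicit false
set_option maxHeartbeats 1600000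
set_option linter.style.haveILetI false
universe u
open CategoryTheory CategoryTheory.Limits MonoidalCategory CartesianMonoidalCategory MonObj GrpObj
  AlgebraicGeometry
open Groth.Agent.Lib.Helper3 Groth.Agent.Lib.Helper3.QCSec Groth.Agent.Lib.Helper3.InvGen
open Groth.Agent.Lib.Helper23.T2 Groth.Agent.Lib.Helper23.Curve

noncomputable section

namespace Groth.Agent.Lib.Helper29.AlbTriv

open Groth.Agent.Lib.Helper23.GammaField in
theorem bijective_toGlobal_of_h0 (k : Type u) [Field k] (X : Scheme.{u})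
    [X.Over (Spec (CommRingCat.of k))] [IsProper (X ↘ Spec (CommRingCat.of k))]
    (h0 : Module.finrank k (Coh.HH X (Coh.structureModule X) 0) = 1) :
    Function.Bijective (Coh.toGlobal (X ↘ Spec (CommRingCat.of k))) := by
  letI := gammaAlgebra k X
  have hfin : Module.finrank k Γ(X, ⊤) = 1 := by
    let f : Coh.HH X (Coh.structureModule X) 0 →ₗ[k] Γ(X, ⊤) :=
      { toFun := fun x => toFun ⊤ (h0equiv (Coh.structureModule X) x)
        map_add' := fun x y => by
          have := (h0equiv (Coh.structureModule X)).map_add x y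
          exact congrArg (toFun ⊤) this
        map_smul' := fun c x => by
          have := (h0equiv (Coh.structureModule X)).map_smul
            (Coh.toGlobal (X ↘ Spec (CommRingCat.of k)) c) x
          exact congrArg (toFun ⊤) this }
    have hfbij : Function.Bijective f := by
      constructor
      · intro x y hxy
        exact (h0equiv (Coh.structureModule X)).injective hxy
      · intro a
        refine ⟨(h0equiv (Coh.structureModule X)).symm (ofFun ⊤ a), ?_⟩
        have := (h0equiv (Coh.structureModule X)).apply_symm_apply (ofFun ⊤ a)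
        exact congrArg (toFun ⊤) this
    have := (LinearEquiv.ofBijective f hfbij).finrank_eq
    omega
  haveI : Nontrivial Γ(X, ⊤) := Module.nontrivial_of_finrank_pos (R := k) (by omega)
  have hinj : Function.Injective (algebraMap k Γ(X, ⊤)) := (algebraMap k Γ(X, ⊤)).injective
  have hsurj : Function.Surjective (algebraMap k Γ(X, ⊤)) := by
    rw [Algebra.surjective_algebraMap_iff]
    exact (Subalgebra.bot_eq_top_of_finrank_eq_one hfin).symm
  exact ⟨hinj, hsurj⟩

theorem isIso_appTop_of_h0 (k : Type u) [Field k] (X : Scheme.{u})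
    [X.Over (Spec (CommRingCat.of k))] [IsProper (X ↘ Spec (CommRingCat.of k))]
    (h0 : Module.finrank k (Coh.HH X (Coh.structureModule X) 0) = 1) :
    IsIso (X ↘ Spec (CommRingCat.of k)).appTop := by
  have hb := bijective_toGlobal_of_h0 k X h0
  let φ : k →+* Γ(X, ⊤) := Coh.toGlobal (X ↘ Spec (CommRingCat.of k))
  have hb' : Function.Bijective φ := hb
  let e : CommRingCat.of k ≅ Γ(X, ⊤) := (RingEquiv.ofBijective φ hb').toCommRingCatIso
  have h1 : (X ↘ Spec (CommRingCat.of k)).appTop =
      (Scheme.ΓSpecIso (CommRingCat.of k)).hom ≫ e.hom := by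
    ext a
    simp [e, φ, Coh.toGlobal]
  rw [h1]
  infer_instance

theorem exists_factor_of_isIso_appTop {X T V : Scheme.{u}} (p : X ⟶ T) [IsAffine T]
    [IsIso p.appTop] [IsAffine V] (a : X ⟶ V) : ∃ s : T ⟶ V, a = p ≫ s := by
  have h1 := Scheme.toSpecΓ_naturality p
  have h2 := Scheme.toSpecΓ_naturality a
  refine ⟨T.toSpecΓ ≫ inv (Spec.map p.appTop) ≫ Spec.map a.appTop ≫ inv V.toSpecΓ, ?_⟩
  have h3 : p ≫ T.toSpecΓ ≫ inv (Spec.map p.appTop) = X.toSpecΓ := by
    rw [← Category.assoc, h1, Category.assoc, IsIso.hom_inv_id, Category.comp_id]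
  have h4 : a = (X.toSpecΓ ≫ Spec.map a.appTop) ≫ inv V.toSpecΓ :=
    (IsIso.eq_comp_inv _).mpr h2
  calc a = (X.toSpecΓ ≫ Spec.map a.appTop) ≫ inv V.toSpecΓ := h4
    _ = ((p ≫ T.toSpecΓ ≫ inv (Spec.map p.appTop)) ≫ Spec.map a.appTop) ≫ inv V.toSpecΓ := by
        rw [h3]
    _ = _ := by simp only [Category.assoc]

theorem main14825 (k : Type u) [Field k] (X : Scheme.{u}) [X.Over (Spec (CommRingCat.of k))]
    [IsProper (X ↘ Spec (CommRingCat.of k))]
    (h0 : Module.finrank k (Coh.HH X (Coh.structureModule X) 0) = 1)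
    (x₀ : 𝟙_ (Over (Spec (CommRingCat.of k))) ⟶ Over.mk (X ↘ Spec (CommRingCat.of k)))
    (A : Over (Spec (CommRingCat.of k))) [GrpObj A] [IsProper A.hom] [GeometricallyIntegral A.hom]
    (alb : Over.mk (X ↘ Spec (CommRingCat.of k)) ⟶ A) (halb : x₀ ≫ alb = η[A])
    (huniv : ∀ (B : Over (Spec (CommRingCat.of k))) [GrpObj B] [IsProper B.hom]
      [GeometricallyReduced B.hom] [ConnectedSpace ↥B.left]
      (g : Over.mk (X ↘ Spec (CommRingCat.of k)) ⟶ B), x₀ ≫ g = η[B] →
        ∃! h : A ⟶ B, IsMonHom h ∧ alb ≫ h = g) :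
    (Set.range alb.left.base).Subsingleton ↔ IsIso A.hom := by
  haveI : Subsingleton ↥(Spec (CommRingCat.of k)) :=
    show Subsingleton (PrimeSpectrum k) from inferInstance
  constructor
  · intro hsub
    haveI := isIso_appTop_of_h0 k X h0
    obtain ⟨pt⟩ : Nonempty ↥(𝟙_ (Over (Spec (CommRingCat.of k)))).left :=
      (inferInstance : Nonempty ↥(Spec (CommRingCat.of k)))
    obtain ⟨e, he⟩ : ∃ e : ↥A.left, e = η[A].left pt := ⟨_, rfl⟩
    have hx0 : alb.left (x₀.left pt) = e := by
      rw [Groth.Agent.Lib.Helper29.OrbitProper.comp_left_apply, halb, he]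
    have hall : ∀ x : ↥X, alb.left x = e := by
      intro x
      rw [← hx0]
      exact hsub ⟨x, rfl⟩ ⟨x₀.left pt, rfl⟩
    obtain ⟨V, hV, heV⟩ : ∃ V : A.left.Opens, IsAffineOpen V ∧ e ∈ V := by
      obtain ⟨V, hV, heV, -⟩ := TopologicalSpace.Opens.isBasis_iff_nbhd.mp
        A.left.isBasis_affineOpens (show e ∈ (⊤ : A.left.Opens) from trivial)
      exact ⟨V, hV, heV⟩
    haveI : IsAffine V.toScheme := hV
    have hrange : Set.range alb.left ⊆ Set.range V.ι := by
      rw [Scheme.Opens.range_ι]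
      rintro _ ⟨x, rfl⟩
      rw [hall x]
      exact heV
    obtain ⟨a', ha'⟩ : ∃ a' : X ⟶ V.toScheme, a' ≫ V.ι = alb.left :=
      ⟨IsOpenImmersion.lift V.ι alb.left hrange, IsOpenImmersion.lift_fac _ _ _⟩
    obtain ⟨s', hs'⟩ := exists_factor_of_isIso_appTop (X ↘ Spec (CommRingCat.of k)) a'
    have hw : x₀.left ≫ (X ↘ Spec (CommRingCat.of k)) = 𝟙 _ := Over.w x₀
    have hη : η[A].left = s' ≫ V.ι := by
      have h1 : η[A].left = x₀.left ≫ alb.left := by rw [← halb]; rfl
      rw [h1, ← ha', hs', Category.assoc, ← Category.assoc, hw, Category.id_comp]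
    have halb' : alb = toUnit (Over.mk (X ↘ Spec (CommRingCat.of k))) ≫ η[A] := by
      apply Over.OverMorphism.ext
      rw [Over.comp_left, hη, ← ha', hs', Category.assoc]
      rfl
    haveI : IsIntegral A.left := GeometricallyIntegral.isIntegral_of_subsingleton A.hom
    haveI : ConnectedSpace ↥A.left := inferInstance
    obtain ⟨h, hh, huniq⟩ := huniv A alb halb
    obtain ⟨t, ht⟩ : ∃ t : A ⟶ A, t = toUnit A ≫ η[A] := ⟨_, rfl⟩
    have ht1 : η[A] ≫ t = η[A] := by
      rw [ht, ← Category.assoc, toUnit_unique (η[A] ≫ toUnit A) (𝟙 _), Category.id_comp]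
    have ht2 : alb ≫ t = alb := by
      rw [ht, ← Category.assoc, toUnit_unique (alb ≫ toUnit A) (toUnit _)]
      exact halb'.symm
    haveI : IsMonHom t := Groth.Agent.Lib.Helper29.AbHom.isMonHom_of_unit k A A t ht1
    have e1 : 𝟙 A = h := huniq (𝟙 A) ⟨inferInstance, Category.comp_id _⟩
    have e2 : t = h := huniq t ⟨inferInstance, ht2⟩
    have hid : toUnit A ≫ η[A] = 𝟙 A := by rw [← ht, e2, ← e1]
    haveI : IsIso (toUnit A) := ⟨η[A], hid, toUnit_unique _ _⟩
    have : IsIso ((Over.forget _).map (toUnit A)) := inferInstance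
    exact this
  · intro hiso
    haveI : Subsingleton ↥A.left := (Scheme.Hom.homeomorph A.hom).injective.subsingleton
    exact Set.subsingleton_of_subsingleton

end Groth.Agent.Lib.Helper29.AlbTriv
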