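import Mathlib
import Groth.Prelude.Def_AlgGrp
import Groth.Agent.Lib.Helper22.SmoothRed
import Groth.Agent.Lib.Helper23.GammaField
import Groth.Agent.Lib.Helper29.AlbTriv

/-!
# Automorphisms fixing an affine kernel and trivial on the proper quotient (S17833)

* `isReduced_of_flat_surjective`: reducedness descends along flat surjective morphisms.
* `isIso_appTop_of_proper_reduced_connected`: `Γ(X, O_X) = k` for `X` proper reduced connected over an
  algebraically closed field.
* `main17833`.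
-/
set_option autoImplicit false
set_option maxHeartbeats 1600000
set_option linter.style.haveILetI false
universe u
open CategoryTheory CategoryTheory.Limits MonoidalCategory CartesianMonoidalCategory MonObj GrpObj
  AlgebraicGeometry

noncomputable section

namespace Groth.Agent.Lib.Helper29.AutFixKer

set_option backward.isDefEq.respectTransparency.types false in
theorem isReduced_of_flat_surjective {X Y : Scheme.{u}} (f : X ⟶ Y) [Flat f] [Surjective f]
    [IsReduced X] : IsReduced Y := by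
  haveI : ∀ y : Y, _root_.IsReduced (Y.presheaf.stalk y) := by
    intro y
    obtain ⟨x, rfl⟩ := f.surjective y
    have hinj : Function.Injective (f.stalkMap x).hom := by
      algebraize [(f.stalkMap x).hom]
      have : Module.FaithfullyFlat (Y.presheaf.stalk (f x)) (X.presheaf.stalk x) :=
        @Module.FaithfullyFlat.of_flat_of_isLocalHom _ _ _ _ _ _ _
          (Flat.stalkMap f x) (f.toLRSHom.prop x)
      exact ‹RingHom.FaithfullyFlat _›.injective
    exact isReduced_of_injective _ hinj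
  exact isReduced_of_isReduced_stalk Y

open Groth.Agent.Lib.Helper23.GammaField in
theorem isIso_appTop_of_proper_reduced_connected (k : Type u) [Field k] [IsAlgClosed k]
    (X : Scheme.{u}) [X.Over (Spec (CommRingCat.of k))] [IsProper (X ↘ Spec (CommRingCat.of k))]
    [IsReduced X] [ConnectedSpace X] : IsIso (X ↘ Spec (CommRingCat.of k)).appTop := by
  letI := gammaAlgebra k X
  haveI := finite_gamma k X
  have hf := isField_gamma k X
  haveI : IsDomain Γ(X, ⊤) := hf.isDomain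
  haveI : Algebra.IsIntegral k Γ(X, ⊤) := Algebra.IsIntegral.of_finite k _
  have hb : Function.Bijective (algebraMap k Γ(X, ⊤)) :=
    IsAlgClosed.algebraMap_bijective_of_isIntegral
  let φ : k →+* Γ(X, ⊤) := Coh.toGlobal (X ↘ Spec (CommRingCat.of k))
  have hb' : Function.Bijective φ := hb
  let e : CommRingCat.of k ≅ Γ(X, ⊤) := (RingEquiv.ofBijective φ hb').toCommRingCatIso
  have h1 : (X ↘ Spec (CommRingCat.of k)).appTop =
      (Scheme.ΓSpecIso (CommRingCat.of k)).hom ≫ e.hom := by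
    ext a
    simp [e, φ, Coh.toGlobal]
  rw [h1]
  infer_instance

theorem main17833 (k : Type u) [Field k] [IsAlgClosed k]
    (G H Q : Over (Spec (CommRingCat.of k))) [GrpObj G] [GrpObj H] [GrpObj Q]
    [Smooth G.hom] [QuasiCompact G.hom] [ConnectedSpace ↥G.left]
    [IsAffine H.left] [IsProper Q.hom]
    (j : H ⟶ G) [IsMonHom j] (q : G ⟶ Q) [IsMonHom q] [Flat q.left] [Surjective q.left]
    (hker : AlgGrp.IsKernel j q)
    (u : G ≅ G) [IsMonHom u.hom] (hH : j ≫ u.hom = j) (hQ : u.hom ≫ q = q) :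
    u.hom = 𝟙 G := by
  obtain ⟨φ, hφ⟩ : ∃ φ : G ⟶ G, φ = u.hom * (𝟙 G)⁻¹ := ⟨_, rfl⟩
  have hφq : φ ≫ q = toUnit G ≫ η[Q] := by
    rw [hφ, MonObj.mul_comp, GrpObj.inv_comp, hQ, Category.id_comp, _root_.mul_inv_cancel,
      Hom.one_def]
  have hker' : IsPullback j (toUnit H) q η[Q] := hker
  obtain ⟨ψ, hψ⟩ : ∃ ψ : G ⟶ H, ψ ≫ j = φ :=
    ⟨hker'.lift φ (toUnit G) hφq, hker'.lift_fst _ _ _⟩
  -- invariance under the kernel pair of `q`
  have hinv : ∀ {Z : Scheme.{u}} (g₁ g₂ : Z ⟶ G.left), g₁ ≫ q.left = g₂ ≫ q.left →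
      g₁ ≫ ψ.left = g₂ ≫ ψ.left := by
    intro Z g₁ g₂ hg
    have hw : g₂ ≫ G.hom = g₁ ≫ G.hom := by
      rw [← Over.w q, ← Category.assoc, ← Category.assoc, hg]
    obtain ⟨a₁, ha₁⟩ : ∃ a₁ : Over.mk (g₁ ≫ G.hom) ⟶ G, a₁.left = g₁ :=
      ⟨Over.homMk g₁ rfl, rfl⟩
    obtain ⟨a₂, ha₂⟩ : ∃ a₂ : Over.mk (g₁ ≫ G.hom) ⟶ G, a₂.left = g₂ :=
      ⟨Over.homMk g₂ hw, rfl⟩
    have haq : a₁ ≫ q = a₂ ≫ q := by
      apply Over.OverMorphism.ext
      rw [Over.comp_left, Over.comp_left, ha₁, ha₂, hg]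
    obtain ⟨d, hd⟩ : ∃ d : Over.mk (g₁ ≫ G.hom) ⟶ G, d = a₁⁻¹ * a₂ := ⟨_, rfl⟩
    have hdq : d ≫ q = toUnit _ ≫ η[Q] := by
      rw [hd, MonObj.mul_comp, GrpObj.inv_comp, haq, _root_.inv_mul_cancel, Hom.one_def]
    obtain ⟨h, hh⟩ : ∃ h : Over.mk (g₁ ≫ G.hom) ⟶ H, h ≫ j = d :=
      ⟨hker'.lift d (toUnit _) hdq, hker'.lift_fst _ _ _⟩
    have ha₂' : a₂ = a₁ * (h ≫ j) := by rw [hh, hd, _root_.mul_inv_cancel_left]
    have hφeq : a₁ ≫ φ = a₂ ≫ φ := by
      rw [ha₂', hφ]
      simp only [MonObj.comp_mul, GrpObj.comp_inv, Category.comp_id, MonObj.mul_comp,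
        Category.assoc, hH]
      group
    have hψeq : a₁ ≫ ψ = a₂ ≫ ψ := by
      apply hker'.hom_ext
      · rw [Category.assoc, Category.assoc, hψ, hφeq]
      · exact toUnit_unique _ _
    have h3 : (a₁ ≫ ψ).left = (a₂ ≫ ψ).left := by rw [hψeq]
    rw [Over.comp_left, Over.comp_left, ha₁, ha₂] at h3
    exact h3
  -- `q` is an effective epimorphism
  haveI : QuasiCompact (q.left ≫ Q.hom) := by rw [Over.w q]; infer_instance
  haveI : QuasiCompact q.left := QuasiCompact.of_comp q.left Q.hom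
  obtain ⟨t, ht⟩ : ∃ t : Q.left ⟶ H.left, q.left ≫ t = ψ.left :=
    ⟨EffectiveEpi.desc q.left ψ.left (fun g₁ g₂ hg => hinv g₁ g₂ hg), EffectiveEpi.fac _ _ _⟩
  -- global functions on `Q`
  letI : Q.left.Over (Spec (CommRingCat.of k)) := ⟨Q.hom⟩
  haveI : IsProper (Q.left ↘ Spec (CommRingCat.of k)) := ‹IsProper Q.hom›
  haveI : IsReduced G.left := Groth.Agent.Lib.Helper22.SmoothRed.isReduced_of_smooth G.hom
  haveI : IsReduced Q.left := isReduced_of_flat_surjective q.left
  haveI : ConnectedSpace ↥Q.left := q.left.surjective.connectedSpace q.left.continuous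
  haveI := isIso_appTop_of_proper_reduced_connected k Q.left
  obtain ⟨s, hs⟩ := Groth.Agent.Lib.Helper29.AlbTriv.exists_factor_of_isIso_appTop
    (Q.left ↘ Spec (CommRingCat.of k)) t
  have hs' : t = Q.hom ≫ s := hs
  have hψl : ψ.left = G.hom ≫ s := by rw [← ht, hs', ← Category.assoc, Over.w q]
  -- the unit
  have e1 : η[G] ≫ u.hom = η[G] := IsMonHom.one_hom _
  have e2 : η[H] ≫ j = η[G] := IsMonHom.one_hom _
  have hηψ : η[G] ≫ ψ = η[H] := by
    apply hker'.hom_ext
    · rw [Category.assoc, hψ, hφ, MonObj.comp_mul, e1, GrpObj.comp_inv, Category.comp_id,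
        _root_.mul_inv_cancel, e2, Hom.one_def,
        toUnit_unique (toUnit (𝟙_ (Over (Spec (CommRingCat.of k))))) (𝟙 _), Category.id_comp]
    · exact toUnit_unique _ _
  have hsη : s = η[H].left := by
    have h1 : (η[G] ≫ ψ).left = η[H].left := by rw [hηψ]
    rw [Over.comp_left, hψl, ← Category.assoc] at h1
    have h2 : η[G].left ≫ G.hom = 𝟙 _ := Over.w η[G]
    rw [h2, Category.id_comp] at h1
    exact h1
  have hψ1 : ψ = toUnit G ≫ η[H] := by
    apply Over.OverMorphism.ext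
    rw [hψl, hsη, Over.comp_left]
    rfl
  have hφ1 : φ = 1 := by
    rw [← hψ, hψ1, Category.assoc, e2, Hom.one_def]
  rw [hφ] at hφ1
  exact mul_inv_eq_one.mp hφ1

end Groth.Agent.Lib.Helper29.AutFixKer
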