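import Mathlib

set_option autoImplicit false

/-!
# Witt structure polynomials are isobaric (helper29)
-/

namespace Groth.Agent.Lib.Helper29.WittIso

open MvPolynomial WittVector

variable (p : ℕ) [hp : Fact p.Prime] {idx : Type*}

/-- weights on the variables of Witt structure polynomials: `(i, l) ↦ ω i * p ^ l` -/
def wt (ω : idx → ℕ) : idx × ℕ → ℕ := fun v => ω v.1 * p ^ v.2

omit hp in
theorem isWeightedHomogeneous_bind₁ {τ : Type*} (ω : idx → ℕ) (W : τ → ℕ) (c : ℕ)
    (Φ : MvPolynomial idx ℤ) (d : ℕ)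
    (hΦ : IsWeightedHomogeneous ω Φ d) (ψ : idx → MvPolynomial τ ℤ)
    (hψ : ∀ i, IsWeightedHomogeneous W (ψ i) (ω i * c)) :
    IsWeightedHomogeneous W (bind₁ ψ Φ) (d * c) := by
  classical
  have hsum : bind₁ ψ Φ = ∑ s ∈ Φ.support, bind₁ ψ (monomial s (coeff s Φ)) := by
    conv_lhs => rw [Φ.as_sum]
    rw [map_sum]
  rw [hsum]
  apply IsWeightedHomogeneous.sum
  intro s hs
  rw [bind₁_monomial]
  apply IsWeightedHomogeneous.C_mul
  have hs' : Finsupp.weight ω s = d := hΦ (mem_support_iff.mp hs)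
  have h1 := IsWeightedHomogeneous.prod s.support (fun i => ψ i ^ s i)
    (fun i => s i • (ω i * c)) (fun i _ => (hψ i).pow (s i))
  have h2 : ∑ i ∈ s.support, s i • (ω i * c) = d * c := by
    rw [← hs', Finsupp.weight_apply, Finsupp.sum, Finset.sum_mul]
    apply Finset.sum_congr rfl
    intro i _
    simp only [smul_eq_mul, mul_assoc]
  rw [h2] at h1
  exact h1

theorem wittStructureInt_isWeightedHomogeneous (ω : idx → ℕ) (Φ : MvPolynomial idx ℤ) (d : ℕ)
    (hΦ : IsWeightedHomogeneous ω Φ d) (n : ℕ) :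
    IsWeightedHomogeneous (wt p ω) (wittStructureInt p Φ n) (d * p ^ n) := by
  induction n using Nat.strong_induction_on with
  | _ n ih =>
  have hprop := wittStructureInt_prop p Φ n
  conv_lhs at hprop => rw [wittPolynomial_eq_sum_C_mul_X_pow, map_sum]
  have hterm : ∀ i, bind₁ (wittStructureInt p Φ) (C ((p : ℤ) ^ i) * X i ^ p ^ (n - i)) =
      C ((p : ℤ) ^ i) * (wittStructureInt p Φ i) ^ p ^ (n - i) := by
    intro i
    have h1 : bind₁ (wittStructureInt p Φ) ((X i : MvPolynomial ℕ ℤ) ^ p ^ (n - i)) =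
        (wittStructureInt p Φ i) ^ p ^ (n - i) := by rw [map_pow, bind₁_X_right]
    rw [map_mul, bind₁_C_right, h1]
  simp only [hterm] at hprop
  rw [Finset.sum_range_succ, Nat.sub_self, pow_zero, pow_one] at hprop
  have hR : IsWeightedHomogeneous (wt p ω)
      (bind₁ (fun i => rename (Prod.mk i) (wittPolynomial p ℤ n)) Φ) (d * p ^ n) := by
    apply isWeightedHomogeneous_bind₁ ω (wt p ω) (p ^ n) Φ d hΦ
    intro i
    rw [wittPolynomial_eq_sum_C_mul_X_pow, map_sum]
    apply IsWeightedHomogeneous.sum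
    intro l hl
    have h0 : rename (Prod.mk i) ((X l : MvPolynomial ℕ ℤ) ^ p ^ (n - l)) =
        (X (i, l) : MvPolynomial (idx × ℕ) ℤ) ^ p ^ (n - l) := by rw [map_pow, rename_X]
    rw [map_mul, rename_C, h0]
    apply IsWeightedHomogeneous.C_mul
    have h1 := (isWeightedHomogeneous_X ℤ (wt p ω) (i, l)).pow (p ^ (n - l))
    have hl' : l ≤ n := Nat.lt_succ_iff.mp (Finset.mem_range.mp hl)
    have h2 : p ^ (n - l) • wt p ω (i, l) = ω i * p ^ n := by
      simp only [wt, smul_eq_mul]
      rw [mul_comm (p ^ (n - l)), mul_assoc, ← pow_add, Nat.add_sub_cancel' hl']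
    rw [h2] at h1
    exact h1
  have hS : IsWeightedHomogeneous (wt p ω)
      (∑ i ∈ Finset.range n, C ((p : ℤ) ^ i) * (wittStructureInt p Φ i) ^ p ^ (n - i))
      (d * p ^ n) := by
    apply IsWeightedHomogeneous.sum
    intro i hi
    apply IsWeightedHomogeneous.C_mul
    have h1 := (ih i (Finset.mem_range.mp hi)).pow (p ^ (n - i))
    have hi' : i ≤ n := (Finset.mem_range.mp hi).le
    have h2 : p ^ (n - i) • (d * p ^ i) = d * p ^ n := by
      simp only [smul_eq_mul]
      rw [mul_comm (p ^ (n - i)), mul_assoc, ← pow_add, Nat.add_sub_cancel' hi']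
    rw [h2] at h1
    exact h1
  have hmain : IsWeightedHomogeneous (wt p ω) (C ((p : ℤ) ^ n) * wittStructureInt p Φ n)
      (d * p ^ n) := by
    have h3 : C ((p : ℤ) ^ n) * wittStructureInt p Φ n =
        bind₁ (fun i => rename (Prod.mk i) (wittPolynomial p ℤ n)) Φ -
          ∑ i ∈ Finset.range n, C ((p : ℤ) ^ i) * (wittStructureInt p Φ i) ^ p ^ (n - i) := by
      rw [← hprop]; ring
    rw [h3]; exact hR.sub hS
  intro m hm
  apply hmain
  rw [coeff_C_mul]
  exact mul_ne_zero (pow_ne_zero _ (by exact_mod_cast hp.out.ne_zero)) hm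

/-- `wittSub p n` is isobaric of weight `p ^ n` (variable `(i, l)` has weight `p ^ l`) -/
theorem wittSub_isobaric (n : ℕ) :
    IsWeightedHomogeneous (wt p (fun _ : Fin 2 => 1)) (wittSub p n) (p ^ n) := by
  have h := wittStructureInt_isWeightedHomogeneous p (fun _ : Fin 2 => 1)
    (X 0 - X 1 : MvPolynomial (Fin 2) ℤ) 1
    ((isWeightedHomogeneous_X ℤ _ 0).sub (isWeightedHomogeneous_X ℤ _ 1)) n
  rwa [one_mul] at h

theorem wittAdd_isobaric (n : ℕ) :
    IsWeightedHomogeneous (wt p (fun _ : Fin 2 => 1)) (wittAdd p n) (p ^ n) := by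
  have h := wittStructureInt_isWeightedHomogeneous p (fun _ : Fin 2 => 1)
    (X 0 + X 1 : MvPolynomial (Fin 2) ℤ) 1
    ((isWeightedHomogeneous_X ℤ _ 0).add (isWeightedHomogeneous_X ℤ _ 1)) n
  rwa [one_mul] at h

/-- `wittMul p n` is isobaric of weight `p ^ n` in the variables of the first factor -/
theorem wittMul_isobaric_left (n : ℕ) :
    IsWeightedHomogeneous (wt p (fun i : Fin 2 => if i = 0 then 1 else 0)) (wittMul p n)
      (p ^ n) := by
  have h0 : IsWeightedHomogeneous (fun i : Fin 2 => if i = 0 then 1 else 0)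
      (X 0 * X 1 : MvPolynomial (Fin 2) ℤ) 1 := by
    have := (isWeightedHomogeneous_X ℤ (fun i : Fin 2 => if i = 0 then 1 else 0) 0).mul
      (isWeightedHomogeneous_X ℤ (fun i : Fin 2 => if i = 0 then 1 else 0) 1)
    simpa using this
  have h := wittStructureInt_isWeightedHomogeneous p _ _ 1 h0 n
  rwa [one_mul] at h

/-- `wittMul p n` is isobaric of weight `p ^ n` in the variables of the second factor -/
theorem wittMul_isobaric_right (n : ℕ) :
    IsWeightedHomogeneous (wt p (fun i : Fin 2 => if i = 1 then 1 else 0)) (wittMul p n)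
      (p ^ n) := by
  have h0 : IsWeightedHomogeneous (fun i : Fin 2 => if i = 1 then 1 else 0)
      (X 0 * X 1 : MvPolynomial (Fin 2) ℤ) 1 := by
    have := (isWeightedHomogeneous_X ℤ (fun i : Fin 2 => if i = 1 then 1 else 0) 0).mul
      (isWeightedHomogeneous_X ℤ (fun i : Fin 2 => if i = 1 then 1 else 0) 1)
    simpa using this
  have h := wittStructureInt_isWeightedHomogeneous p _ _ 1 h0 n
  rwa [one_mul] at h

end Groth.Agent.Lib.Helper29.WittIso
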