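import Groth.Agent.Lib.Helper29.LocHomog

/-!
# SGA3 VI_B 1.3: a homomorphism from a flat lft group over a local artinian ring which is
lqf / unramified / smooth / étale on a nonempty open is so everywhere (helper29)
-/

set_option autoImplicit false
set_option maxHeartbeats 1600000
set_option linter.style.haveILetI false
universe u
open CategoryTheory CategoryTheory.Limits MonoidalCategory CartesianMonoidalCategory MonObj
  AlgebraicGeometry

namespace Groth.Agent.Lib.Helper29.LocHomog

theorem subsingleton_spec_of_artinian_local (A : Type u) [CommRing A] [IsArtinianRing A]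
    [IsLocalRing A] : Subsingleton (Spec (CommRingCat.of A)) := by
  refine ⟨fun p q => ?_⟩
  apply PrimeSpectrum.ext
  have hp : p.asIdeal.IsMaximal := IsArtinianRing.isMaximal_of_isPrime p.asIdeal
  have hq : q.asIdeal.IsMaximal := IsArtinianRing.isMaximal_of_isPrime q.asIdeal
  rw [IsLocalRing.eq_maximalIdeal hp, IsLocalRing.eq_maximalIdeal hq]

theorem main5337 (A : Type u) [CommRing A] [IsArtinianRing A] [IsLocalRing A] (G H : Over (Spec (CommRingCat.of A))) [GrpObj G] [GrpObj H]
    [Flat G.hom] [LocallyOfFiniteType G.hom] (u : G ⟶ H) [IsMonHom u] (W : G.left.Opens) (hW : (W : Set G.left).Nonempty) :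
    (LocallyQuasiFinite (W.ι ≫ u.left) → LocallyQuasiFinite u.left) ∧
    (FormallyUnramified (W.ι ≫ u.left) → LocallyOfFinitePresentation (W.ι ≫ u.left) →
      FormallyUnramified u.left ∧ LocallyOfFinitePresentation u.left) ∧
    (Smooth (W.ι ≫ u.left) → Smooth u.left) ∧ (Etale (W.ι ≫ u.left) → Etale u.left) := by
  haveI := subsingleton_spec_of_artinian_local A
  haveI : IsLocallyNoetherian (Spec (CommRingCat.of A)) := inferInstance
  haveI : LocallyOfFinitePresentation G.hom := inferInstance
  haveI : LocallyOfFiniteType u.left := by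
    haveI : LocallyOfFiniteType (u.left ≫ H.hom) := by rw [Over.w u]; infer_instance
    exact locallyOfFiniteType_of_comp u.left H.hom
  obtain ⟨x₀, hx₀⟩ := hW
  have hfib : ∀ x y : G.left, G.hom x = G.hom y := fun x y => Subsingleton.elim _ _
  have spread : ∀ (P : MorphismProperty Scheme.{u}) [IsZariskiLocalAtSource P],
      (∀ x y : G.left, G.hom x = G.hom y → x ∈ Loc P u.left → y ∈ Loc P u.left) →
      P (W.ι ≫ u.left) → P u.left := by
    intro P _ hh hP
    exact of_forall_mem_Loc P (fun y => hh x₀ y (hfib x₀ y) ⟨W, hx₀, hP⟩)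
  have hlfp : LocallyOfFinitePresentation (W.ι ≫ u.left) → LocallyOfFinitePresentation u.left :=
    spread @LocallyOfFinitePresentation (Loc_lfp_homog u)
  have hsm : Smooth (W.ι ≫ u.left) → Smooth u.left := by
    intro h
    haveI := h
    haveI : LocallyOfFinitePresentation u.left := hlfp inferInstance
    exact spread @Smooth (Loc_smooth_homog u) h
  have hun : FormallyUnramified (W.ι ≫ u.left) → FormallyUnramified u.left :=
    spread @FormallyUnramified (Loc_unram_homog u)
  refine ⟨spread @LocallyQuasiFinite (Loc_lqf_homog u), fun h1 h2 => ⟨hun h1, hlfp h2⟩, hsm, ?_⟩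
  intro h
  haveI := h
  have h1 : Smooth u.left := hsm inferInstance
  have h2 : FormallyUnramified u.left := hun inferInstance
  exact of_forall_mem_Loc @Etale (fun y => by
    rw [Loc_etale_eq]
    exact ⟨mem_Loc_of @Smooth h1 y, mem_Loc_of @FormallyUnramified h2 y⟩)

end Groth.Agent.Lib.Helper29.LocHomog
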