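import Mathlib

/-!
# Universal-point squares for a homomorphism of group objects (helper29)

Import-neutral copies (Mathlib only) of helper14's `GrpHomog` / `GrpCM` cartesian squares
(credit: helper14), so that they can be combined with helper9's `FppfSource`.
-/

set_option autoImplicit false
universe u v

open CategoryTheory MonoidalCategory CartesianMonoidalCategory MonObj Limits

namespace Groth.Agent.Lib.Helper29.HomogSq

section abstract

variable {C : Type u} [Category.{v} C] [CartesianMonoidalCategory C]

/-- `G × X ⟶ G × Y` is the base change of `X ⟶ Y` along the projection. -/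
theorem isPullback_snd_whiskerLeft (G : C) {X Y : C} (u : X ⟶ Y) :
    IsPullback (snd G X) (G ◁ u) u (snd G Y) where
  w := by simp
  isLimit' := Nonempty.intro <| PullbackCone.IsLimit.mk _
    (fun s => lift (s.snd ≫ fst G Y) s.fst)
    (fun s => by simp)
    (fun s => by
      refine CartesianMonoidalCategory.hom_ext _ _ (by simp) ?_
      simp [s.condition])
    (fun s m hm₁ hm₂ => by
      refine CartesianMonoidalCategory.hom_ext _ _ ?_ (by simpa using hm₁)
      rw [lift_fst, ← hm₂]
      simp)

theorem isPullback_fst_snd (G X : C) : IsPullback (fst G X) (snd G X) (toUnit G) (toUnit X) where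
  w := by simp
  isLimit' := Nonempty.intro <| PullbackCone.IsLimit.mk _
    (fun s => lift s.fst s.snd)
    (fun s => by simp)
    (fun s => by simp)
    (fun s m hm₁ hm₂ => by
      refine CartesianMonoidalCategory.hom_ext _ _ (by simpa using hm₁) (by simpa using hm₂))

variable {G H : C} [GrpObj G] [GrpObj H] (u : G ⟶ H) [IsMonHom u]

/-- the twisted action `(g, h) ↦ u(g) h`. -/
noncomputable def tw : G ⊗ H ⟶ H := (u ▷ H) ≫ μ[H]

theorem tw_eq : tw u = (fst G H ≫ u) * snd G H := by
  rw [Hom.mul_def, tw]
  congr 1
  refine CartesianMonoidalCategory.hom_ext _ _ (by simp) (by simp)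

theorem comp_tw {T : C} (m : T ⟶ G ⊗ H) : m ≫ tw u = (m ≫ fst G H ≫ u) * (m ≫ snd G H) := by
  rw [tw_eq, MonObj.comp_mul]

theorem comp_mul_eq {T : C} (m : T ⟶ G ⊗ G) : m ≫ μ[G] = (m ≫ fst G G) * (m ≫ snd G G) := by
  rw [← MonObj.comp_mul]
  congr 1
  simp [Hom.mul_def]

theorem isPullback_mul_whiskerLeft : IsPullback μ[G] (G ◁ u) u (tw u) where
  w := by
    have hμ : μ[G] = fst G G * snd G G := by simpa using comp_mul_eq (𝟙 (G ⊗ G))
    rw [comp_tw, hμ, MonObj.mul_comp]
    simp
  isLimit' := Nonempty.intro <| PullbackCone.IsLimit.mk _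
    (fun s => lift (s.snd ≫ fst G H) ((s.snd ≫ fst G H)⁻¹ * s.fst))
    (fun s => by
      rw [comp_mul_eq]
      simp)
    (fun s => by
      refine CartesianMonoidalCategory.hom_ext _ _ (by simp) ?_
      have hc := s.condition
      rw [comp_tw] at hc
      simp only [Category.assoc, whiskerLeft_snd, lift_snd_assoc]
      rw [MonObj.mul_comp, hc]
      simp [GrpObj.inv_comp])
    (fun s m hm₁ hm₂ => by
      have h1 : m ≫ fst G G = s.snd ≫ fst G H := by
        rw [← hm₂]
        simp
      refine CartesianMonoidalCategory.hom_ext _ _ (by simpa using h1) ?_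
      rw [lift_snd, ← h1, ← hm₁, comp_mul_eq]
      simp)

theorem isPullback_tw_fst : IsPullback (tw u) (fst G H) (toUnit H) (toUnit G) where
  w := by simp
  isLimit' := Nonempty.intro <| PullbackCone.IsLimit.mk _
    (fun s => lift s.snd ((s.snd ≫ u)⁻¹ * s.fst))
    (fun s => by
      rw [comp_tw]
      simp)
    (fun s => by simp)
    (fun s m hm₁ hm₂ => by
      refine CartesianMonoidalCategory.hom_ext _ _ (by simpa using hm₂) ?_
      rw [lift_snd, ← hm₂, ← hm₁, comp_tw]
      simp)

variable (G) in
theorem isPullback_snd_mul : IsPullback (snd G G) μ[G] (toUnit G) (toUnit G) where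
  w := by simp
  isLimit' := Nonempty.intro <| PullbackCone.IsLimit.mk _
    (fun s => lift (s.snd * s.fst⁻¹) s.fst)
    (fun s => by simp)
    (fun s => by
      change (s.snd * s.fst⁻¹) * s.fst = s.snd
      simp)
    (fun s m hm₁ hm₂ => by
      refine CartesianMonoidalCategory.hom_ext _ _ ?_ (by simpa using hm₁)
      simp only [lift_fst]
      have h : (m ≫ fst G G) * (m ≫ snd G G) = s.snd := by
        rw [← hm₂, ← MonObj.comp_mul]
        congr 1
        simp [Hom.mul_def]
      rw [← hm₁, ← h]
      simp)

end abstract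

section scheme

open AlgebraicGeometry

theorem exists_preimage_of_isPullback {P X Y Z : Scheme.{u}} {fst : P ⟶ X} {snd : P ⟶ Y}
    {f : X ⟶ Z} {g : Y ⟶ Z} (h : IsPullback fst snd f g) (x : X) (y : Y) (hxy : f x = g y) :
    ∃ p : P, fst p = x ∧ snd p = y := by
  obtain ⟨z, hz1, hz2⟩ := Scheme.Pullback.exists_preimage_pullback x y hxy
  refine ⟨h.isoPullback.inv z, ?_, ?_⟩
  · rw [← Scheme.Hom.comp_apply, h.isoPullback_inv_fst, hz1]
  · rw [← Scheme.Hom.comp_apply, h.isoPullback_inv_snd, hz2]

variable {S : Scheme.{u}} {G H : Over S} [GrpObj G] [GrpObj H] (u : G ⟶ H) [IsMonHom u]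

theorem sq1 : IsPullback (snd G G).left (G ◁ u).left u.left (snd G H).left := by
  simpa using (isPullback_snd_whiskerLeft G u).map (Over.forget _)

theorem sq2 : IsPullback (μ[G]).left (G ◁ u).left u.left (tw u).left := by
  simpa using (isPullback_mul_whiskerLeft u).map (Over.forget _)

variable (G) in
theorem isPullback_snd_mul_left : IsPullback (snd G G).left (μ[G]).left G.hom G.hom := by
  simpa using (isPullback_snd_mul G).map (Over.forget _)

theorem isPullback_tw_left : IsPullback (tw u).left (fst G H).left H.hom G.hom := by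
  simpa using (isPullback_tw_fst u).map (Over.forget _)

theorem isPullback_snd_left : IsPullback (snd G H).left (fst G H).left H.hom G.hom := by
  simpa using ((isPullback_fst_snd G H).map (Over.forget _)).flip

/-- `tw u : G × H ⟶ H` inherits base-change-stable properties of `G ⟶ S`. -/
theorem prop_tw_left (P : MorphismProperty Scheme.{u}) [P.IsStableUnderBaseChange]
    (h : P G.hom) : P (tw u).left :=
  MorphismProperty.of_isPullback (P := P) (isPullback_tw_left u).flip h

theorem prop_snd_left (P : MorphismProperty Scheme.{u}) [P.IsStableUnderBaseChange]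
    (h : P G.hom) : P (snd G H).left :=
  MorphismProperty.of_isPullback (P := P) (isPullback_snd_left (G := G) (H := H)).flip h

end scheme

end Groth.Agent.Lib.Helper29.HomogSq
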