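import Mathlib
import Groth.Statements.S11406

/-!
# Helper library (helper29): morphisms from an anti-affine group to a group are determined modulo
the affine kernel

If `O(G) = k`, every morphism from `G` to an affine scheme is constant; so if `f, f' : G ⟶ H` have the
same composite with a homomorphism `α` whose kernel is affine and both preserve the unit, `f / f'`
factors through the kernel, is constant, hence trivial.
-/

set_option autoImplicit false
set_option maxHeartbeats 1600000
universe u
open CategoryTheory MonoidalCategory CartesianMonoidalCategory MonObj GrpObj AlgebraicGeometry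
  CategoryTheory.Limits

namespace Groth.Agent.Lib.Helper29.AntiAffine

/-- a morphism from a scheme with only constant functions to an affine scheme is constant -/
theorem eq_const_of_bijective (k : Type u) [Field k] {G N : Over (Spec (CommRingCat.of k))}
    [GrpObj G] [IsAffine N.left]
    (hG : Function.Bijective ((Scheme.ΓSpecIso (CommRingCat.of k)).inv ≫ G.hom.appTop).hom)
    (n : G ⟶ N) : n = toUnit G ≫ η[G] ≫ n := by
  have hu : (toUnit G).left = G.hom := by
    have := Over.w (toUnit G)
    simpa using this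
  have hη : η[G].left ≫ G.hom = 𝟙 _ := by
    have := Over.w η[G]
    simpa using this
  have key : ∀ r : Γ(G.left, ⊤), G.hom.appTop (η[G].left.appTop r) = r := by
    intro r
    obtain ⟨c, rfl⟩ := hG.2 r
    have h := congrArg (fun t => t.appTop ((Scheme.ΓSpecIso (CommRingCat.of k)).inv c)) hη
    have h' : η[G].left.appTop (G.hom.appTop ((Scheme.ΓSpecIso (CommRingCat.of k)).inv c)) =
        (Scheme.ΓSpecIso (CommRingCat.of k)).inv c := h
    show G.hom.appTop (η[G].left.appTop
      (G.hom.appTop ((Scheme.ΓSpecIso (CommRingCat.of k)).inv c))) = _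
    rw [h']
    rfl
  apply Over.OverMorphism.ext
  apply ext_of_isAffine
  rw [Over.comp_left, Over.comp_left, hu]
  ext s
  exact (key (n.left.appTop s)).symm

theorem main11406 (k : Type u) [Field k] [IsAlgClosed k]
    (G H : Over (Spec (CommRingCat.of k))) [GrpObj G] [Smooth G.hom] [QuasiCompact G.hom]
    (hG : Function.Bijective ((Scheme.ΓSpecIso (CommRingCat.of k)).inv ≫ G.hom.appTop).hom)
    [GrpObj H] [Smooth H.hom] [QuasiCompact H.hom] [ConnectedSpace ↥H.left]
    (N : Over (Spec (CommRingCat.of k))) [GrpObj N] (i : N ⟶ H) [IsMonHom i] [IsClosedImmersion i.left]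
    [Smooth N.hom] [ConnectedSpace ↥N.left] [IsAffine N.left] (hN : AlgGrp.IsNormalHom i)
    (hNmax : ∀ (N' : Over (Spec (CommRingCat.of k))) [GrpObj N'] (i' : N' ⟶ H) [IsMonHom i'] [IsClosedImmersion i'.left]
      [Smooth N'.hom] [ConnectedSpace ↥N'.left] [IsAffine N'.left], AlgGrp.IsNormalHom i' → ∃ g : N' ⟶ N, g ≫ i = i')
    (A : Over (Spec (CommRingCat.of k))) [GrpObj A] [IsProper A.hom] [Smooth A.hom] (α : H ⟶ A) [IsMonHom α]
    [Surjective α.left] [Flat α.left] (hker : AlgGrp.IsKernel i α)
    (f f' : G ⟶ H) (hf : η[G] ≫ f = η[H]) (hf' : η[G] ≫ f' = η[H]) (hα : f ≫ α = f' ≫ α) :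
    f = f' := by
  have hk : IsPullback i (toUnit N) α η[A] := hker
  have hδα : (f / f') ≫ α = toUnit G ≫ η[A] := by
    rw [GrpObj.div_comp, hα, div_self', Hom.one_def]
  obtain ⟨n, hn⟩ : ∃ n : G ⟶ N, n ≫ i = f / f' :=
    ⟨hk.lift (f / f') (toUnit G) hδα, hk.lift_fst _ _ _⟩
  have hconst := eq_const_of_bijective k hG n
  have h1 : η[G] ≫ (f / f') = 1 := by
    rw [GrpObj.comp_div, hf, hf', div_self']
  have h2 : f / f' = 1 := by
    rw [← hn, hconst, Category.assoc, Category.assoc, hn, h1, MonObj.comp_one]
  exact div_eq_one.mp h2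

end Groth.Agent.Lib.Helper29.AntiAffine
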