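import Groth.Agent.Lib.Helper29.InvFun
import Groth.Agent.Lib.Helper22.ActionPts

/-!
# Helper library (helper29): morphisms out of an fpqc torsor defined on local points

* `CovSec P`: an fpqc covering family of the base together with sections of `P` over its members.
* `CovSec.sep`, `CovSec.glue`: morphisms `B ⟶ C` over `X` may be compared / constructed on the points `T ⟶ B` for which
  `P` has a `T`-point (when `P` is locally trivial for the fpqc topology).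
* `dv`: the division map of a pseudo-torsor.
* `main14541`: uniqueness of the push forward of a torsor.
-/

set_option autoImplicit false
set_option maxHeartbeats 1600000
universe u
open CategoryTheory CategoryTheory.Limits AlgebraicGeometry MonoidalCategory CartesianMonoidalCategory
  MonObj GrpObj

namespace Groth.Agent.Lib.Helper29.TorsorPush

open Groth.Agent.Lib.Helper29.InvFun Groth.Agent.Lib.Helper22

noncomputable section

variable {X : Scheme.{u}}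

/-- an fpqc covering family of `X` with sections of `P` over its members -/
structure CovSec (P : Over X) where
  κ : Type (u + 1)
  V : κ → Scheme.{u}
  π : ∀ l, V l ⟶ X
  σ : ∀ l, V l ⟶ P.left
  mem : Presieve.ofArrows V π ∈ Scheme.fpqcPrecoverage X
  w : ∀ l, σ l ≫ P.hom = π l

theorem exists_covSec {P : Over X} (h : NonAbH1.IsLocallyTrivialFor Scheme.fpqcPrecoverage P) :
    Nonempty (CovSec P) := by
  obtain ⟨R, hR, hsec⟩ := h
  obtain ⟨κ, V, π, rfl⟩ := R.exists_eq_ofArrows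
  choose σ hσ using fun l => hsec (π l) ⟨l⟩
  exact ⟨⟨κ, V, π, σ, hR, hσ⟩⟩

namespace CovSec

variable {P : Over X} (c : CovSec P) (Z : Over X)

/-- the members of the induced covering of `Z` -/
abbrev E (l : c.κ) : Scheme.{u} := pullback Z.hom (c.π l)

/-- the induced covering of `Z` -/
abbrev e (l : c.κ) : c.E Z l ⟶ Z.left := pullback.fst Z.hom (c.π l)

theorem mem_E : Presieve.ofArrows (c.E Z) (c.e Z) ∈ Scheme.fpqcPrecoverage Z.left :=
  Precoverage.mem_coverings_of_isPullback c.π c.mem Z.hom (fun l => pullback.fst Z.hom (c.π l))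
    (fun l => pullback.snd Z.hom (c.π l)) (fun l => IsPullback.of_hasPullback Z.hom (c.π l))

/-- the members as objects over `X` -/
abbrev Eo (l : c.κ) : Over X := Over.mk (c.e Z l ≫ Z.hom)

/-- the tautological point of `Z` -/
def z (l : c.κ) : c.Eo Z l ⟶ Z := Over.homMk (c.e Z l) rfl

/-- the point of `P` over the member -/
def p (l : c.κ) : c.Eo Z l ⟶ P :=
  Over.homMk (pullback.snd Z.hom (c.π l) ≫ c.σ l) (by
    show (pullback.snd Z.hom (c.π l) ≫ c.σ l) ≫ P.hom = pullback.fst Z.hom (c.π l) ≫ Z.hom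
    rw [Category.assoc, c.w, pullback.condition])

theorem sep (c : CovSec P) {Z C : Over X} (f g : Z ⟶ C)
    (h : ∀ (T : Over X) (t : T ⟶ Z) (_ : T ⟶ P), t ≫ f = t ≫ g) : f = g := by
  apply Over.OverMorphism.ext
  refine fpqc_sep' C.left (c.e Z) (c.mem_E Z) f.left g.left (fun l => ?_)
  exact congrArg (fun k => k.left) (h (c.Eo Z l) (c.z Z l) (c.p Z l))

theorem glue (c : CovSec P) {B C : Over X}
    (F : ∀ (T : Over X), (T ⟶ B) → (T ⟶ P) → (T ⟶ C))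
    (hnat : ∀ (T T' : Over X) (s : T' ⟶ T) (b : T ⟶ B) (p : T ⟶ P),
      s ≫ F T b p = F T' (s ≫ b) (s ≫ p))
    (hind : ∀ (T : Over X) (b : T ⟶ B) (p₁ p₂ : T ⟶ P), F T b p₁ = F T b p₂) :
    ∃ r : B ⟶ C, ∀ (T : Over X) (b : T ⟶ B) (p : T ⟶ P), b ≫ r = F T b p := by
  have hcompat : ∀ (l l' : c.κ) (Z : Scheme.{u}) (α : Z ⟶ c.E B l) (β : Z ⟶ c.E B l'),
      α ≫ c.e B l = β ≫ c.e B l' →
      α ≫ (F (c.Eo B l) (c.z B l) (c.p B l)).left =
        β ≫ (F (c.Eo B l') (c.z B l') (c.p B l')).left := by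
    intro l l' Z α β hαβ
    let Zo : Over X := Over.mk (α ≫ c.e B l ≫ B.hom)
    let αo : Zo ⟶ c.Eo B l := Over.homMk α rfl
    let βo : Zo ⟶ c.Eo B l' := Over.homMk β (by
      show β ≫ c.e B l' ≫ B.hom = α ≫ c.e B l ≫ B.hom
      rw [← Category.assoc, ← hαβ, Category.assoc])
    have h1 : αo ≫ c.z B l = βo ≫ c.z B l' := by
      apply Over.OverMorphism.ext
      exact hαβ
    have h2 : αo ≫ F (c.Eo B l) (c.z B l) (c.p B l) =
        βo ≫ F (c.Eo B l') (c.z B l') (c.p B l') := by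
      rw [hnat, hnat, h1]
      exact hind _ _ _ _
    exact congrArg (fun k => k.left) h2
  obtain ⟨r₀, hr₀'⟩ := fpqc_glue' C.left (c.e B) (c.mem_E B)
    (fun l => (F (c.Eo B l) (c.z B l) (c.p B l)).left) hcompat
  have hr₀ : ∀ l, c.e B l ≫ r₀ = (F (c.Eo B l) (c.z B l) (c.p B l)).left := hr₀'
  have hw : r₀ ≫ C.hom = B.hom := by
    refine fpqc_sep' X (c.e B) (c.mem_E B) _ _ (fun l => ?_)
    rw [← Category.assoc, hr₀ l]
    exact Over.w (F (c.Eo B l) (c.z B l) (c.p B l))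
  refine ⟨Over.homMk r₀ hw, fun T b p => ?_⟩
  apply Over.OverMorphism.ext
  refine fpqc_sep' C.left (c.e T) (c.mem_E T) _ _ (fun l => ?_)
  let k : c.E T l ⟶ c.E B l := pullback.lift (c.e T l ≫ b.left) (pullback.snd T.hom (c.π l))
    (by rw [Category.assoc, Over.w b, pullback.condition])
  have hk1 : k ≫ c.e B l = c.e T l ≫ b.left := pullback.lift_fst _ _ _
  let ko : c.Eo T l ⟶ c.Eo B l := Over.homMk k (by
    show k ≫ c.e B l ≫ B.hom = c.e T l ≫ T.hom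
    rw [← Category.assoc, hk1, Category.assoc, Over.w b])
  have h1 : ko ≫ c.z B l = c.z T l ≫ b := by
    apply Over.OverMorphism.ext
    exact hk1
  have h2 : ko ≫ F (c.Eo B l) (c.z B l) (c.p B l) = c.z T l ≫ F T b p := by
    rw [hnat, hnat, h1]
    exact hind _ _ _ _
  have h3 : k ≫ (F (c.Eo B l) (c.z B l) (c.p B l)).left = c.e T l ≫ (F T b p).left :=
    congrArg (fun k => k.left) h2
  calc c.e T l ≫ (b ≫ Over.homMk r₀ hw).left = (c.e T l ≫ b.left) ≫ r₀ :=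
        (Category.assoc _ _ _).symm
    _ = (k ≫ c.e B l) ≫ r₀ := by rw [hk1]
    _ = k ≫ (F (c.Eo B l) (c.z B l) (c.p B l)).left := by rw [Category.assoc, hr₀ l]
    _ = c.e T l ≫ (F T b p).left := h3

end CovSec

section Div

variable {G Y : Over X} [GrpObj G] (a : AlgGrp.Action G Y) (h : NonAbH1.IsPseudoTorsorSch a)

/-- the point `(g, y₂)` of `G × Y` with `g • y₂ = y₁` -/
def dw {T : Over X} (y₁ y₂ : T ⟶ Y) : T ⟶ G ⊗ Y :=
  lift y₁ y₂ ≫ @inv _ _ _ _ (lift a.act (snd G Y)) h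

/-- the unique `g` with `g • y₂ = y₁` -/
def dv {T : Over X} (y₁ y₂ : T ⟶ Y) : T ⟶ G := dw a h y₁ y₂ ≫ fst G Y

theorem dw_comp {T : Over X} (y₁ y₂ : T ⟶ Y) :
    dw a h y₁ y₂ ≫ lift a.act (snd G Y) = lift y₁ y₂ := by
  have e := @IsIso.inv_hom_id _ _ _ _ (lift a.act (snd G Y)) h
  unfold dw
  rw [Category.assoc, e, Category.comp_id]

theorem dw_act {T : Over X} (y₁ y₂ : T ⟶ Y) : dw a h y₁ y₂ ≫ a.act = y₁ := by
  have := congrArg (fun k => k ≫ fst Y Y) (dw_comp a h y₁ y₂)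
  simpa only [Category.assoc, lift_fst] using this

theorem dw_snd {T : Over X} (y₁ y₂ : T ⟶ Y) : dw a h y₁ y₂ ≫ snd G Y = y₂ := by
  have := congrArg (fun k => k ≫ snd Y Y) (dw_comp a h y₁ y₂)
  simpa only [Category.assoc, lift_snd] using this

theorem dw_eq {T : Over X} (y₁ y₂ : T ⟶ Y) : dw a h y₁ y₂ = lift (dv a h y₁ y₂) y₂ := by
  apply CartesianMonoidalCategory.hom_ext
  · rw [lift_fst]; rfl
  · rw [lift_snd, dw_snd]

theorem dv_smul {T : Over X} (y₁ y₂ : T ⟶ Y) : smul a (dv a h y₁ y₂) y₂ = y₁ := by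
  rw [smul_def, ← dw_eq, dw_act]

theorem comp_dv {T T' : Over X} (s : T' ⟶ T) (y₁ y₂ : T ⟶ Y) :
    s ≫ dv a h y₁ y₂ = dv a h (s ≫ y₁) (s ≫ y₂) := by
  unfold dv dw
  rw [← Category.assoc, ← Category.assoc, comp_lift, Category.assoc]

theorem comp_dv_assoc {T T' : Over X} (s : T' ⟶ T) (y₁ y₂ : T ⟶ Y) {Z : Over X} (k : G ⟶ Z) :
    s ≫ dv a h y₁ y₂ ≫ k = dv a h (s ≫ y₁) (s ≫ y₂) ≫ k := by
  rw [← Category.assoc, comp_dv]

theorem eq_dv {T : Over X} (g : T ⟶ G) (y₁ y₂ : T ⟶ Y) (hg : smul a g y₂ = y₁) :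
    g = dv a h y₁ y₂ := by
  have e := @IsIso.hom_inv_id _ _ _ _ (lift a.act (snd G Y)) h
  have h1 : lift g y₂ ≫ lift a.act (snd G Y) = lift y₁ y₂ := by
    rw [comp_lift, lift_snd, ← hg, smul_def]
  have h2 : lift g y₂ = dw a h y₁ y₂ := by
    unfold dw
    rw [← h1, Category.assoc, e, Category.comp_id]
  calc g = lift g y₂ ≫ fst G Y := (lift_fst _ _).symm
    _ = dw a h y₁ y₂ ≫ fst G Y := by rw [h2]

theorem dv_self {T : Over X} (y : T ⟶ Y) : dv a h y y = 1 :=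
  (eq_dv a h 1 y y (pt_one_smul a y)).symm

theorem dv_smul_left {T : Over X} (g : T ⟶ G) (y₁ y₂ : T ⟶ Y) :
    dv a h (smul a g y₁) y₂ = g * dv a h y₁ y₂ :=
  (eq_dv a h _ _ _ (by rw [pt_mul_smul, dv_smul])).symm

theorem dv_smul_right {T : Over X} (g : T ⟶ G) (y₁ y₂ : T ⟶ Y) :
    dv a h y₁ (smul a g y₂) = dv a h y₁ y₂ * g⁻¹ :=
  (eq_dv a h _ _ _ (by rw [pt_mul_smul, pt_inv_smul_smul, dv_smul])).symm

end Div

/-- equivariance on points -/
theorem equiv_pts {G G' Y Y' : Over X} [GrpObj G] [GrpObj G'] (φ : G ⟶ G')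
    (a : AlgGrp.Action G Y) (a' : AlgGrp.Action G' Y') (q : Y ⟶ Y')
    (hq : a.act ≫ q = lift (fst G Y ≫ φ) (snd G Y ≫ q) ≫ a'.act) {T : Over X} (g : T ⟶ G)
    (y : T ⟶ Y) : smul a g y ≫ q = smul a' (g ≫ φ) (y ≫ q) := by
  simp only [smul_def, Category.assoc, hq, comp_lift_assoc, lift_fst_assoc, lift_snd_assoc]

theorem main14541 {X : Scheme.{u}}
    {J J' J'' : Over X} [GrpObj J] [GrpObj J'] [GrpObj J''] [IsAffineHom J.hom] [IsAffineHom J'.hom]
    [IsAffineHom J''.hom] (u : J ⟶ J') [IsMonHom u] (v : J' ⟶ J'') [IsMonHom v] {P P' P'' : Over X}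
    (a : AlgGrp.Action J P) (a' : AlgGrp.Action J' P') (a'' : AlgGrp.Action J'' P'')
    (hP : NonAbH1.IsTorsorFor Scheme.fpqcPrecoverage a)
    (hP' : NonAbH1.IsTorsorFor Scheme.fpqcPrecoverage a')
    (hP'' : NonAbH1.IsTorsorFor Scheme.fpqcPrecoverage a'')
    (q' : P ⟶ P') (hq' : a.act ≫ q' = lift (fst J P ≫ u) (snd J P ≫ q') ≫ a'.act)
    (q'' : P ⟶ P'') (hq'' : a.act ≫ q'' = lift (fst J P ≫ u ≫ v) (snd J P ≫ q'') ≫ a''.act) :
    ∃! r : P' ⟶ P'', a'.act ≫ r = lift (fst J' P' ≫ v) (snd J' P' ≫ r) ≫ a''.act ∧ q' ≫ r = q'' := by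
  obtain ⟨c⟩ := exists_covSec hP.2
  have hq'pt : ∀ {T : Over X} (g : T ⟶ J) (p : T ⟶ P),
      smul a g p ≫ q' = smul a' (g ≫ u) (p ≫ q') :=
    fun g p => equiv_pts u a a' q' hq' g p
  have hq''pt : ∀ {T : Over X} (g : T ⟶ J) (p : T ⟶ P),
      smul a g p ≫ q'' = smul a'' (g ≫ u ≫ v) (p ≫ q'') :=
    fun g p => equiv_pts (u ≫ v) a a'' q'' hq'' g p
  let F : ∀ (T : Over X), (T ⟶ P') → (T ⟶ P) → (T ⟶ P'') := fun T y p =>
    smul a'' (dv a' hP'.1 y (p ≫ q') ≫ v) (p ≫ q'')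
  have hnat : ∀ (T T' : Over X) (s : T' ⟶ T) (y : T ⟶ P') (p : T ⟶ P),
      s ≫ F T y p = F T' (s ≫ y) (s ≫ p) := by
    intro T T' s y p
    show s ≫ smul a'' (dv a' hP'.1 y (p ≫ q') ≫ v) (p ≫ q'') =
      smul a'' (dv a' hP'.1 (s ≫ y) ((s ≫ p) ≫ q') ≫ v) ((s ≫ p) ≫ q'')
    simp only [comp_smul, comp_dv_assoc, Category.assoc]
  have hind : ∀ (T : Over X) (y : T ⟶ P') (p₁ p₂ : T ⟶ P), F T y p₁ = F T y p₂ := by
    intro T y p₁ p₂
    obtain ⟨j, e⟩ : ∃ j : T ⟶ J, smul a j p₁ = p₂ := ⟨_, dv_smul a hP.1 p₂ p₁⟩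
    subst e
    show smul a'' (dv a' hP'.1 y (p₁ ≫ q') ≫ v) (p₁ ≫ q'') =
      smul a'' (dv a' hP'.1 y (smul a j p₁ ≫ q') ≫ v) (smul a j p₁ ≫ q'')
    rw [hq'pt, hq''pt, dv_smul_right, MonObj.mul_comp, GrpObj.inv_comp, pt_mul_smul,
      Category.assoc, pt_inv_smul_smul]
  obtain ⟨r, hr⟩ := c.glue F hnat hind
  have hrq : q' ≫ r = q'' := by
    rw [hr P q' (𝟙 P)]
    show smul a'' (dv a' hP'.1 q' (𝟙 P ≫ q') ≫ v) (𝟙 P ≫ q'') = q''
    rw [Category.id_comp, Category.id_comp, dv_self, MonObj.one_comp, pt_one_smul]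
  have hrpt : ∀ {T : Over X} (g : T ⟶ J') (y : T ⟶ P') (_ : T ⟶ P),
      smul a' g y ≫ r = smul a'' (g ≫ v) (y ≫ r) := by
    intro T g y p
    rw [hr T (smul a' g y) p, hr T y p]
    show smul a'' (dv a' hP'.1 (smul a' g y) (p ≫ q') ≫ v) (p ≫ q'') =
      smul a'' (g ≫ v) (smul a'' (dv a' hP'.1 y (p ≫ q') ≫ v) (p ≫ q''))
    rw [dv_smul_left, MonObj.mul_comp, pt_mul_smul]
  have hreq : a'.act ≫ r = lift (fst J' P' ≫ v) (snd J' P' ≫ r) ≫ a''.act := by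
    refine c.sep (a'.act ≫ r) (lift (fst J' P' ≫ v) (snd J' P' ≫ r) ≫ a''.act)
      (fun T t p => ?_)
    have h1 : t ≫ a'.act = smul a' (t ≫ fst J' P') (t ≫ snd J' P') := by
      rw [smul_def, ← comp_lift, lift_fst_snd, Category.comp_id]
    calc t ≫ a'.act ≫ r = (t ≫ a'.act) ≫ r := (Category.assoc _ _ _).symm
      _ = smul a' (t ≫ fst J' P') (t ≫ snd J' P') ≫ r := by rw [h1]
      _ = smul a'' ((t ≫ fst J' P') ≫ v) ((t ≫ snd J' P') ≫ r) := hrpt _ _ p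
      _ = t ≫ lift (fst J' P' ≫ v) (snd J' P' ≫ r) ≫ a''.act := by
        simp only [smul_def, comp_lift_assoc, Category.assoc]
  refine ⟨r, ⟨hreq, hrq⟩, fun r' hr' => ?_⟩
  obtain ⟨hr'1, hr'2⟩ := hr'
  refine c.sep r' r (fun T y p => ?_)
  have hy : smul a' (dv a' hP'.1 y (p ≫ q')) (p ≫ q') = y := dv_smul a' hP'.1 y (p ≫ q')
  calc y ≫ r' = smul a' (dv a' hP'.1 y (p ≫ q')) (p ≫ q') ≫ r' := by rw [hy]
    _ = smul a'' (dv a' hP'.1 y (p ≫ q') ≫ v) ((p ≫ q') ≫ r') :=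
      equiv_pts v a' a'' r' hr'1 _ _
    _ = smul a'' (dv a' hP'.1 y (p ≫ q') ≫ v) (p ≫ q'') := by rw [Category.assoc, hr'2]
    _ = y ≫ r := (hr T y p).symm

end

end Groth.Agent.Lib.Helper29.TorsorPush
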