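import Mathlib
import Groth.Prelude.Def_Curves

/-!
# Schemes local for Zariski and finite coverings are spectra of absolutely integrally closed local domains
(helper29, S19345)
-/
set_option autoImplicit false
set_option maxHeartbeats 1600000
set_option linter.style.haveILetI false
universe u
open CategoryTheory CategoryTheory.Limits AlgebraicGeometry TopologicalSpace

noncomputable section

namespace Groth.Agent.Lib.Helper29.AICLocal

/-- `P` is local for the precoverage `K`: every morphism from `P` lifts through a member of every covering -/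
def Loc (K : Precoverage Scheme.{u}) (P : Scheme.{u}) : Prop :=
  ∀ (X : Scheme.{u}) (R : Presieve X), R ∈ K X →
    ∀ g : P ⟶ X, ∃ (Y : Scheme.{u}) (w : Y ⟶ X) (h : P ⟶ Y), R w ∧ h ≫ w = g

theorem loc_of_iso {K : Precoverage Scheme.{u}} {P P' : Scheme.{u}} (e : P' ≅ P) (h : Loc K P) :
    Loc K P' := by
  intro X R hR g'
  obtain ⟨Y, w, h0, hw, hh⟩ := h X R hR (e.inv ≫ g')
  exact ⟨Y, w, e.hom ≫ h0, hw, by rw [Category.assoc, hh, e.hom_inv_id_assoc]⟩

/-! ### algebra -/

section Alg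

theorem aic_surjective {A C : Type u} [CommRing A] [CommRing C] [IsDomain C] [Algebra A C]
    [Algebra.IsIntegral A C] (hA : Curves.IsAIC A) : Function.Surjective (algebraMap A C) := by
  haveI : Nontrivial A := (algebraMap A C).domain_nontrivial
  intro c
  obtain ⟨p, hp, hpc⟩ := Algebra.IsIntegral.isIntegral (R := A) c
  have key : ∀ n : ℕ, ∀ p : Polynomial A, p.natDegree = n → p.Monic →
      Polynomial.eval₂ (algebraMap A C) c p = 0 → ∃ a, algebraMap A C a = c := by
    intro n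
    induction n with
    | zero =>
      intro p hn hp hpc
      have h1 : p = 1 := hp.natDegree_eq_zero.mp hn
      rw [h1, Polynomial.eval₂_one] at hpc
      exact absurd hpc one_ne_zero
    | succ n ih =>
      intro p hn hp hpc
      obtain ⟨r, hr⟩ := hA p hp (by omega)
      have hroot : p.IsRoot r := hr
      have hfac := Polynomial.mul_divByMonic_eq_iff_isRoot.mpr hroot
      obtain ⟨q, hq⟩ : ∃ q, q = p /ₘ (Polynomial.X - Polynomial.C r) := ⟨_, rfl⟩
      rw [← hq] at hfac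
      have hqm : q.Monic :=
        Polynomial.Monic.of_mul_monic_left (Polynomial.monic_X_sub_C r) (by rw [hfac]; exact hp)
      have hqd : q.natDegree = n := by
        rw [hq, Polynomial.natDegree_divByMonic _ (Polynomial.monic_X_sub_C r),
          Polynomial.natDegree_X_sub_C, hn]
        rfl
      rw [← hfac, Polynomial.eval₂_mul, Polynomial.eval₂_sub, Polynomial.eval₂_X,
        Polynomial.eval₂_C] at hpc
      rcases mul_eq_zero.mp hpc with h1 | h1
      · exact ⟨r, (sub_eq_zero.mp h1).symm⟩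
      · exact ih q hqd hqm h1
  exact key _ p rfl hp hpc

theorem exists_retraction_of_aic {A B : Type u} [CommRing A] [IsDomain A] [CommRing B]
    (hA : Curves.IsAIC A) (φ : A →+* B) (hφ : φ.Finite) (q : Ideal B) [q.IsPrime]
    (hq : q.comap φ = ⊥) : ∃ σ : B →+* A, σ.comp φ = RingHom.id A := by
  letI : Algebra A B := φ.toAlgebra
  haveI : Module.Finite A B := hφ
  haveI : Module.Finite A (B ⧸ q) :=
    Module.Finite.of_surjective (Ideal.Quotient.mkₐ A q).toLinearMap (Ideal.Quotient.mkₐ_surjective A q)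
  haveI : Algebra.IsIntegral A (B ⧸ q) := Algebra.IsIntegral.of_finite A (B ⧸ q)
  have hinj : Function.Injective (algebraMap A (B ⧸ q)) := by
    rw [injective_iff_map_eq_zero]
    intro a ha
    have h1 : φ a ∈ q := Ideal.Quotient.eq_zero_iff_mem.mp ha
    have h2 : a ∈ q.comap φ := h1
    rw [hq] at h2
    exact h2
  have hsurj := aic_surjective (A := A) (C := B ⧸ q) hA
  obtain ⟨e, he⟩ : ∃ e : A ≃+* (B ⧸ q), ∀ a, e a = algebraMap A (B ⧸ q) a :=
    ⟨RingEquiv.ofBijective (algebraMap A (B ⧸ q)) ⟨hinj, hsurj⟩, fun a => rfl⟩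
  refine ⟨e.symm.toRingHom.comp (Ideal.Quotient.mk q), ?_⟩
  ext a
  show e.symm (Ideal.Quotient.mk q (φ a)) = a
  have h3 : Ideal.Quotient.mk q (φ a) = e a := (he a).symm
  rw [h3, RingEquiv.symm_apply_apply]

end Alg

/-! ### affineness -/

theorem isAffine_of_loc (P : Scheme.{u}) [QuasiSeparatedSpace P]
    (h : Loc (Scheme.precoverage (@IsOpenImmersion ⊓ @QuasiCompact)) P) : IsAffine P := by
  have hcov : Presieve.ofArrows (fun i : P.affineOpens => (i.1 : Scheme.{u})) (fun i => i.1.ι) ∈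
      Scheme.precoverage (@IsOpenImmersion ⊓ @QuasiCompact) P := by
    rw [Scheme.ofArrows_mem_precoverage_iff]
    refine ⟨fun x => ?_, fun i => ?_⟩
    · obtain ⟨W, hW, hxW, -⟩ := exists_isAffineOpen_mem_and_subset (x := x) (U := ⊤) trivial
      refine ⟨⟨W, hW⟩, ?_⟩
      rw [Scheme.Opens.range_ι]
      exact hxW
    · haveI : IsAffine (i.1 : Scheme.{u}) := i.2
      exact ⟨inferInstance, inferInstance⟩
  obtain ⟨Y, w, h0, hw, hh⟩ := h P _ hcov (𝟙 P)
  obtain ⟨i⟩ := hw
  haveI : IsAffine (i.1 : Scheme.{u}) := i.2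
  have h1 : i.1.ι ≫ h0 = 𝟙 _ := by
    rw [← cancel_mono i.1.ι, Category.assoc, hh, Category.comp_id, Category.id_comp]
  haveI : IsIso h0 := ⟨i.1.ι, hh, h1⟩
  exact IsAffine.of_isIso h0

/-! ### the spectrum of a ring -/

section Spec
variable (A : CommRingCat.{u})

theorem nontrivial_of_loc
    (h : Loc (Scheme.precoverage (@IsOpenImmersion ⊓ @QuasiCompact)) (Spec A)) : Nontrivial A := by
  by_contra hn
  rw [not_nontrivial_iff_subsingleton] at hn
  haveI : IsEmpty (Spec A) := (inferInstance : IsEmpty (PrimeSpectrum A))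
  obtain ⟨Y, w, h0, hw, -⟩ := h (Spec A) ⊥ (Scheme.bot_mem_precoverage _ _) (𝟙 _)
  exact False.elim hw

theorem exists_isUnit_of_loc
    (h : Loc (Scheme.precoverage (@IsOpenImmersion ⊓ @QuasiCompact)) (Spec A))
    {ι : Type*} (s : ι → A) (hs : ∀ p : PrimeSpectrum A, ∃ i, s i ∉ p.asIdeal) :
    ∃ i, IsUnit (s i) := by
  obtain ⟨U, hU⟩ : ∃ U : ι → (Spec A).Opens, ∀ i, U i = PrimeSpectrum.basicOpen (s i) :=
    ⟨fun i => PrimeSpectrum.basicOpen (s i), fun i => rfl⟩
  have hcov : Presieve.ofArrows (fun i => ((U i : (Spec A).Opens) : Scheme.{u})) (fun i => (U i).ι) ∈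
      Scheme.precoverage (@IsOpenImmersion ⊓ @QuasiCompact) (Spec A) := by
    rw [Scheme.ofArrows_mem_precoverage_iff]
    refine ⟨fun x => ?_, fun i => ?_⟩
    · obtain ⟨i, hi⟩ := hs x
      refine ⟨i, ?_⟩
      rw [Scheme.Opens.range_ι, hU]
      exact hi
    · have hc : CompactSpace ↥(U i) := by
        rw [hU]
        exact isCompact_iff_compactSpace.mp (PrimeSpectrum.isCompact_basicOpen (s i))
      haveI : CompactSpace ((U i : (Spec A).Opens) : Scheme.{u}) := hc
      exact ⟨inferInstance, inferInstance⟩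
  obtain ⟨Y, w, h0, hw, hh⟩ := h _ _ hcov (𝟙 _)
  obtain ⟨i⟩ := hw
  refine ⟨i, ?_⟩
  by_contra hnu
  obtain ⟨M, hM, haM⟩ := exists_max_ideal_of_mem_nonunits (show s i ∈ nonunits A from hnu)
  obtain ⟨x, hx⟩ : ∃ x : Spec A, x = (⟨M, hM.isPrime⟩ : PrimeSpectrum A) := ⟨_, rfl⟩
  have h2 : x ∈ U i := by
    have h3 : (h0 ≫ (U i).ι) x = x := by rw [hh]; rfl
    have h4 : (U i).ι (h0 x) ∈ (U i : Set (Spec A)) := by
      rw [← Scheme.Opens.range_ι]
      exact Set.mem_range_self _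
    rw [← h3]
    exact h4
  rw [hU, hx] at h2
  exact h2 haM

theorem isLocalRing_of_loc
    (h : Loc (Scheme.precoverage (@IsOpenImmersion ⊓ @QuasiCompact)) (Spec A)) : IsLocalRing A := by
  haveI := nontrivial_of_loc A h
  apply IsLocalRing.of_isUnit_or_isUnit_one_sub_self
  intro a
  obtain ⟨b, hb⟩ := exists_isUnit_of_loc A h (fun b : Bool => if b then a else 1 - a) (by
    intro p
    by_cases ha : a ∈ p.asIdeal
    · refine ⟨false, fun h1 => ?_⟩
      have h2 : (1 : A) ∈ p.asIdeal := by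
        have h3 := p.asIdeal.add_mem ha h1
        simpa using h3
      exact p.isPrime.ne_top ((Ideal.eq_top_iff_one _).mpr h2)
    · exact ⟨true, by simpa using ha⟩)
  cases b
  · right; simpa using hb
  · left; simpa using hb

theorem exists_retraction_of_loc (h : Loc (Scheme.precoverage @IsFinite) (Spec A)) {ι : Type*}
    (B : ι → CommRingCat.{u}) (φ : ∀ i, A ⟶ B i) (hfin : ∀ i, (φ i).hom.Finite)
    (hsurj : ∀ p : PrimeSpectrum A, ∃ i, ∃ q : PrimeSpectrum (B i),
      PrimeSpectrum.comap (φ i).hom q = p) :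
    ∃ i, ∃ ψ : B i ⟶ A, φ i ≫ ψ = 𝟙 A := by
  have hcov : Presieve.ofArrows (fun i => Spec (B i)) (fun i => Spec.map (φ i)) ∈
      Scheme.precoverage @IsFinite (Spec A) := by
    rw [Scheme.ofArrows_mem_precoverage_iff]
    refine ⟨fun x => ?_, fun i => (IsFinite.SpecMap_iff (φ i)).mpr (hfin i)⟩
    obtain ⟨i, q, hq⟩ := hsurj x
    exact ⟨i, q, hq⟩
  obtain ⟨Y, w, h0, hw, hh⟩ := h _ _ hcov (𝟙 _)
  obtain ⟨i⟩ := hw
  refine ⟨i, Spec.preimage h0, ?_⟩
  apply Spec.map_injective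
  rw [Spec.map_comp, Spec.map_preimage, hh, Spec.map_id]

theorem isDomain_of_loc (hF : Loc (Scheme.precoverage @IsFinite) (Spec A)) : IsDomain A := by
  obtain ⟨p, ψ, hψ⟩ := exists_retraction_of_loc A hF (ι := PrimeSpectrum A)
    (fun p => CommRingCat.of (A ⧸ p.asIdeal))
    (fun p => CommRingCat.ofHom (Ideal.Quotient.mk p.asIdeal))
    (fun p => RingHom.Finite.of_surjective _ Ideal.Quotient.mk_surjective)
    (fun p => ⟨p, ⟨⊥, Ideal.isPrime_bot⟩, by
      apply PrimeSpectrum.ext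
      show Ideal.comap (Ideal.Quotient.mk p.asIdeal) ⊥ = p.asIdeal
      rw [← RingHom.ker_eq_comap_bot, Ideal.mk_ker]⟩)
  have hbot : p.asIdeal = ⊥ := by
    rw [eq_bot_iff]
    intro a ha
    have h1 : ψ.hom (Ideal.Quotient.mk p.asIdeal a) = a := ConcreteCategory.congr_hom hψ a
    rw [Ideal.Quotient.eq_zero_iff_mem.mpr ha, map_zero] at h1
    exact Ideal.mem_bot.mpr h1.symm
  haveI : (⊥ : Ideal A).IsPrime := hbot ▸ p.isPrime
  exact IsDomain.of_bot_isPrime A

theorem aic_of_loc [IsDomain A] (hF : Loc (Scheme.precoverage @IsFinite) (Spec A)) :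
    Curves.IsAIC A := by
  intro f hf hdeg
  haveI : Module.Finite A (AdjoinRoot f) := hf.finite_adjoinRoot
  haveI : Algebra.IsIntegral A (AdjoinRoot f) := Algebra.IsIntegral.of_finite A (AdjoinRoot f)
  have hinj : Function.Injective (algebraMap A (AdjoinRoot f)) := by
    apply AdjoinRoot.of.injective_of_degree_ne_zero
    exact (Polynomial.natDegree_pos_iff_degree_pos.mp hdeg).ne'
  obtain ⟨_, ψ, hψ⟩ := exists_retraction_of_loc A hF (ι := PUnit.{1})
    (fun _ => CommRingCat.of (AdjoinRoot f))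
    (fun _ => CommRingCat.ofHom (algebraMap A (AdjoinRoot f)))
    (fun _ => RingHom.finite_algebraMap.mpr inferInstance)
    (fun p => by
      obtain ⟨Q, -, hQ, hQp⟩ := Ideal.exists_ideal_over_prime_of_isIntegral p.asIdeal
        (⊥ : Ideal (AdjoinRoot f)) (by
          rw [← RingHom.ker_eq_comap_bot, (RingHom.injective_iff_ker_eq_bot _).mp hinj]
          exact bot_le)
      exact ⟨PUnit.unit, ⟨Q, hQ⟩, PrimeSpectrum.ext hQp⟩)
  refine ⟨ψ.hom (AdjoinRoot.root f), ?_⟩
  have h1 : ψ.hom.comp (AdjoinRoot.of f) = RingHom.id A := by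
    ext a
    exact ConcreteCategory.congr_hom hψ a
  calc Polynomial.eval (ψ.hom (AdjoinRoot.root f)) f
      = Polynomial.eval₂ (RingHom.id A) (ψ.hom (AdjoinRoot.root f)) f := Polynomial.eval₂_id.symm
    _ = Polynomial.eval₂ (ψ.hom.comp (AdjoinRoot.of f)) (ψ.hom (AdjoinRoot.root f)) f := by rw [h1]
    _ = ψ.hom (Polynomial.eval₂ (AdjoinRoot.of f) (AdjoinRoot.root f) f) :=
        (Polynomial.hom_eval₂ f (AdjoinRoot.of f) ψ.hom (AdjoinRoot.root f)).symm
    _ = 0 := by rw [AdjoinRoot.eval₂_root, map_zero]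

theorem range_subset_of_closedPoint' [IsLocalRing A] {W : Scheme.{u}}
    (x : Spec A ⟶ W) (U : W.Opens) (h : x (IsLocalRing.closedPoint A) ∈ U) :
    Set.range x ⊆ U := by
  rintro _ ⟨p, rfl⟩
  have hs : x p ⤳ x (IsLocalRing.closedPoint A) :=
    (IsLocalRing.specializes_closedPoint (R := A) p).map x.continuous
  exact hs.mem_open U.isOpen h

theorem zarLoc_of_local [IsLocalRing A] :
    Loc (Scheme.precoverage (@IsOpenImmersion ⊓ @QuasiCompact)) (Spec A) := by
  intro X R hR g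
  obtain ⟨Y, w, hw, y, hy⟩ := (Presieve.mem_comap_jointlySurjectivePrecoverage_iff _).mp hR.1
    (g (IsLocalRing.closedPoint A))
  haveI : IsOpenImmersion w := (hR.2 hw).1
  have hsub : Set.range g ⊆ Set.range w :=
    range_subset_of_closedPoint' A g w.opensRange ⟨y, hy⟩
  exact ⟨Y, w, IsOpenImmersion.lift w g hsub, hw, IsOpenImmersion.lift_fac w g hsub⟩

theorem finLoc_of_aic [IsDomain A] (hA : Curves.IsAIC A) :
    Loc (Scheme.precoverage @IsFinite) (Spec A) := by
  intro X R hR g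
  obtain ⟨ξ, hξ⟩ : ∃ ξ : Spec A, ξ = (⟨⊥, Ideal.isPrime_bot⟩ : PrimeSpectrum A) := ⟨_, rfl⟩
  obtain ⟨Y, w, hw, y, hy⟩ := (Presieve.mem_comap_jointlySurjectivePrecoverage_iff _).mp hR.1 (g ξ)
  haveI : IsFinite w := hR.2 hw
  obtain ⟨z, hz1, -⟩ := Scheme.Pullback.exists_preimage_pullback (f := g) (g := w) ξ y hy.symm
  haveI : IsAffine (pullback g w) := isAffine_of_isAffineHom (pullback.fst g w)
  obtain ⟨φ, hφdef⟩ : ∃ φ : A ⟶ Γ(pullback g w, ⊤),
      φ = (Scheme.ΓSpecIso A).inv ≫ (pullback.fst g w).appTop := ⟨_, rfl⟩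
  have hfst : pullback.fst g w = (pullback g w).isoSpec.hom ≫ Spec.map φ := by
    have h1 := Scheme.isoSpec_hom_naturality (pullback.fst g w)
    rw [Scheme.isoSpec_Spec_hom] at h1
    rw [hφdef, Spec.map_comp, ← Category.assoc, h1, Category.assoc, ← Spec.map_comp,
      Iso.inv_hom_id, Spec.map_id, Category.comp_id]
  have hfin : φ.hom.Finite := by
    have h2 : IsFinite (pullback.fst g w) := inferInstance
    rw [hfst] at h2
    exact (IsFinite.SpecMap_iff φ).mp
      ((MorphismProperty.cancel_left_of_respectsIso @IsFinite _ _).mp h2)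
  obtain ⟨q, hqdef⟩ : ∃ q : PrimeSpectrum Γ(pullback g w, ⊤), q = (pullback g w).isoSpec.hom z :=
    ⟨_, rfl⟩
  have hq : q.asIdeal.comap φ.hom = ⊥ := by
    have h3 : (Spec.map φ) ((pullback g w).isoSpec.hom z) = ξ := by
      rw [← hz1, hfst]
      rfl
    rw [← hqdef, hξ] at h3
    exact congrArg PrimeSpectrum.asIdeal h3
  obtain ⟨σ, hσ⟩ := exists_retraction_of_aic hA φ.hom hfin q.asIdeal hq
  obtain ⟨s, hs⟩ : ∃ s : Spec A ⟶ pullback g w,
      s = Spec.map (CommRingCat.ofHom σ) ≫ (pullback g w).isoSpec.inv := ⟨_, rfl⟩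
  have hsf : s ≫ pullback.fst g w = 𝟙 _ := by
    rw [hs, hfst, Category.assoc, Iso.inv_hom_id_assoc, ← Spec.map_comp]
    have h4 : φ ≫ CommRingCat.ofHom σ = 𝟙 A := by
      refine CommRingCat.hom_ext ?_
      exact hσ
    rw [h4, Spec.map_id]
  refine ⟨Y, w, s ≫ pullback.snd g w, hw, ?_⟩
  rw [Category.assoc, ← pullback.condition, ← Category.assoc, hsf, Category.id_comp]

end Spec

/-! ### the statement -/

theorem main19345 (P : Scheme.{u}) [QuasiSeparatedSpace P] :
    ((∀ (X : Scheme.{u}) (R : Presieve X), R ∈ Scheme.precoverage (@IsOpenImmersion ⊓ @QuasiCompact) X →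
        ∀ g : P ⟶ X, ∃ (Y : Scheme.{u}) (w : Y ⟶ X) (h : P ⟶ Y), R w ∧ h ≫ w = g) ∧
      (∀ (X : Scheme.{u}) (R : Presieve X), R ∈ Scheme.precoverage @IsFinite X →
        ∀ g : P ⟶ X, ∃ (Y : Scheme.{u}) (w : Y ⟶ X) (h : P ⟶ Y), R w ∧ h ≫ w = g)) ↔
    (IsAffine P ∧ IsLocalRing Γ(P, ⊤) ∧ IsDomain Γ(P, ⊤) ∧ Curves.IsAIC Γ(P, ⊤)) := by
  constructor
  · rintro ⟨hZ, hF⟩
    have hZ' : Loc (Scheme.precoverage (@IsOpenImmersion ⊓ @QuasiCompact)) P := hZ
    have hF' : Loc (Scheme.precoverage @IsFinite) P := hF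
    haveI : IsAffine P := isAffine_of_loc P hZ'
    have hZs := loc_of_iso P.isoSpec.symm hZ'
    have hFs := loc_of_iso P.isoSpec.symm hF'
    haveI : IsDomain Γ(P, ⊤) := isDomain_of_loc Γ(P, ⊤) hFs
    exact ⟨inferInstance, isLocalRing_of_loc Γ(P, ⊤) hZs, inferInstance, aic_of_loc Γ(P, ⊤) hFs⟩
  · rintro ⟨hAff, hLoc, hDom, hAIC⟩
    have hZs : Loc (Scheme.precoverage (@IsOpenImmersion ⊓ @QuasiCompact)) (Spec Γ(P, ⊤)) :=
      zarLoc_of_local Γ(P, ⊤)
    have hFs : Loc (Scheme.precoverage @IsFinite) (Spec Γ(P, ⊤)) := finLoc_of_aic Γ(P, ⊤) hAIC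
    have hZ := loc_of_iso P.isoSpec hZs
    have hF := loc_of_iso P.isoSpec hFs
    exact ⟨fun X R hR g => hZ X R hR g, fun X R hR g => hF X R hR g⟩

end Groth.Agent.Lib.Helper29.AICLocal
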