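import Mathlib
import Groth.Prelude.Def_AlgGrp
import Groth.Agent.Lib.Helper29.AbHom

/-!
# Abelian varieties are commutative

* `isCommMonObj_of_isMonHom_inv`: a group object whose inverse is a homomorphism is commutative.
* `isCommMonObj_of_abelianVariety`: a proper geometrically integral group scheme over a field is
  commutative (via rigidity, `S8117`).
-/
set_option autoImplicit false
set_option maxHeartbeats 1600000
set_option linter.style.haveILetI false
universe u
open CategoryTheory CategoryTheory.Limits MonoidalCategory CartesianMonoidalCategory MonObj GrpObj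
  AlgebraicGeometry

noncomputable section

namespace Groth.Agent.Lib.Helper29.AbComm

theorem isCommMonObj_of_isMonHom_inv {D : Type*} [Category D] [CartesianMonoidalCategory D]
    [BraidedCategory D] (G : D) [GrpObj G] [IsMonHom ι[G]] : IsCommMonObj G := by
  have hm : fst G G * snd G G = μ[G] := by rw [Hom.mul_def, lift_fst_snd, Category.id_comp]
  have h1 : (fst G G * snd G G)⁻¹ = (fst G G)⁻¹ * (snd G G)⁻¹ := by
    rw [hm, Hom.inv_def, IsMonHom.mul_hom, Hom.mul_def, Hom.inv_def, Hom.inv_def]
    congr 1
    apply CartesianMonoidalCategory.hom_ext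
    · rw [tensorHom_fst, lift_fst]
    · rw [tensorHom_snd, lift_snd]
  have h3 : (snd G G * fst G G)⁻¹ = (fst G G * snd G G)⁻¹ := by
    rw [_root_.mul_inv_rev, h1]
  have h2 : snd G G * fst G G = fst G G * snd G G := inv_injective h3
  constructor
  rw [← hm, MonObj.comp_mul, braiding_hom_fst, braiding_hom_snd, h2]

theorem isCommMonObj_of_abelianVariety (k : Type u) [Field k]
    (C : Over (Spec (CommRingCat.of k))) [GrpObj C] [IsProper C.hom]
    [GeometricallyIntegral C.hom] : IsCommMonObj C := by
  haveI : IsMonHom ι[C] :=
    Groth.Agent.Lib.Helper29.AbHom.isMonHom_of_unit k C C ι[C] GrpObj.one_inv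
  exact isCommMonObj_of_isMonHom_inv C

end Groth.Agent.Lib.Helper29.AbComm
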