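import Groth.Agent.Lib.Helper29.ExtGrp

/-!
# Helper library (helper29): isogenies and their kernels

* `main16675`: an isogeny is étale iff its kernel is
* `main16676`: an isogeny is universally injective iff its kernel is connected
-/

set_option autoImplicit false
set_option maxHeartbeats 1600000
universe u

namespace Groth.Agent.Lib.Helper29.AbIsog

open CategoryTheory CategoryTheory.Limits AlgebraicGeometry MonoidalCategory
  CartesianMonoidalCategory MonObj GrpObj
open Groth.Agent.Lib.Helper29 Groth.Agent.Lib.Helper29.AssocBundle
  Groth.Agent.Lib.Helper29.SGA3Quot Groth.Agent.Lib.Helper29.ExtGrp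

theorem main16675 (k : Type u) [Field k]
    (X Y : Over (Spec (CommRingCat.of k)))
    [GrpObj X] [IsProper X.hom] [GeometricallyIntegral X.hom]
    [GrpObj Y] [IsProper Y.hom] [GeometricallyIntegral Y.hom]
    (f : X ⟶ Y) [IsMonHom f] [IsFinite f.left] [Flat f.left] [Surjective f.left]
    (N : Over (Spec (CommRingCat.of k))) (i : N ⟶ X) (hN : AlgGrp.IsKernel i f) :
    Etale f.left ↔ Etale N.hom := by
  have hN' : IsPullback i (toUnit N) f η[Y] := hN
  have sqN : IsPullback i.left N.hom f.left η[Y].left := hN'.map (Over.forget _)
  have sq0 := QuotGeom.isPullback_of_isKernel f i hN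
  have sq : IsPullback ((X ◁ i) ≫ μ[X]).left (fst X N).left f.left f.left :=
    sq0.flip.map (Over.forget _)
  haveI : IsLocallyNoetherian (Spec (CommRingCat.of k)) := inferInstance
  haveI : IsLocallyNoetherian Y.left := LocallyOfFiniteType.isLocallyNoetherian Y.hom
  haveI hflfp : LocallyOfFinitePresentation f.left := inferInstance
  constructor
  · intro h
    exact MorphismProperty.of_isPullback (P := @Etale) sqN h
  · intro h
    have hfst : Etale (fst X N).left := by
      show Etale (pullback.fst X.hom N.hom)
      exact MorphismProperty.pullback_fst (P := @Etale) X.hom N.hom h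
    exact (ocovFppf f inferInstance inferInstance hflfp).prop_of_base_change @Etale f.left _ _
      sq hfst

theorem main16676 (k : Type u) [Field k]
    (X Y : Over (Spec (CommRingCat.of k)))
    [GrpObj X] [IsProper X.hom] [GeometricallyIntegral X.hom]
    [GrpObj Y] [IsProper Y.hom] [GeometricallyIntegral Y.hom]
    (f : X ⟶ Y) [IsMonHom f] [IsFinite f.left] [Flat f.left] [Surjective f.left]
    (N : Over (Spec (CommRingCat.of k))) (i : N ⟶ X) (hN : AlgGrp.IsKernel i f) :
    UniversallyInjective f.left ↔ ConnectedSpace ↥N.left := by
  have hN' : IsPullback i (toUnit N) f η[Y] := hN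
  have sqN : IsPullback i.left N.hom f.left η[Y].left := hN'.map (Over.forget _)
  have sq0 := QuotGeom.isPullback_of_isKernel f i hN
  have sq : IsPullback ((X ◁ i) ≫ μ[X]).left (fst X N).left f.left f.left :=
    sq0.flip.map (Over.forget _)
  haveI : IsLocallyNoetherian (Spec (CommRingCat.of k)) := inferInstance
  haveI : IsLocallyNoetherian Y.left := LocallyOfFiniteType.isLocallyNoetherian Y.hom
  haveI hflfp : LocallyOfFinitePresentation f.left := inferInstance
  have hw : η[X] ≫ f = 𝟙 _ ≫ η[Y] := by
    rw [Category.id_comp]
    exact IsMonHom.one_hom f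
  obtain ⟨e, he⟩ : ∃ e : 𝟙_ (Over (Spec (CommRingCat.of k))) ⟶ N, e ≫ i = η[X] :=
    ⟨hN'.lift η[X] (𝟙 _) hw, hN'.lift_fst _ _ _⟩
  have heN : e.left ≫ N.hom = 𝟙 _ := Over.w e
  obtain ⟨pt⟩ : Nonempty (Spec (CommRingCat.of k)) := inferInstance
  haveI : Subsingleton (Spec (CommRingCat.of k)) := inferInstance
  haveI hne : Nonempty N.left := ⟨e.left pt⟩
  constructor
  · intro h
    haveI : UniversallyInjective N.hom :=
      MorphismProperty.of_isPullback (P := @UniversallyInjective) sqN h
    haveI : Subsingleton N.left := (N.hom.injective).subsingleton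
    haveI : PreconnectedSpace N.left := ⟨Set.subsingleton_univ.isPreconnected⟩
    exact { toNonempty := hne }
  · intro hc
    haveI := hc
    haveI : GeometricallyConnected N.hom := geomConn_of_section N.hom e.left heN
    haveI : IsFinite N.hom := MorphismProperty.of_isPullback (P := @IsFinite) sqN inferInstance
    haveI : Flat N.hom := MorphismProperty.of_isPullback (P := @Flat) sqN inferInstance
    haveI : LocallyOfFinitePresentation N.hom :=
      MorphismProperty.of_isPullback (P := @LocallyOfFinitePresentation) sqN hflfp
    haveI : UniversallyOpen N.hom := inferInstance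
    haveI : ConnectedSpace ↥(pullback N.hom N.hom) := inferInstance
    haveI : LocallyQuasiFinite N.hom := inferInstance
    haveI : LocallyQuasiFinite (pullback.fst N.hom N.hom ≫ N.hom) := inferInstance
    haveI hd : DiscreteTopology ↥(pullback N.hom N.hom) := by
      have h1 := (pullback.fst N.hom N.hom ≫ N.hom).isDiscrete_preimage_singleton pt
      have h2 : (pullback.fst N.hom N.hom ≫ N.hom) ⁻¹' {pt} = Set.univ :=
        Set.eq_univ_of_forall (fun z => Subsingleton.elim _ _)
      rw [h2] at h1
      exact isDiscrete_univ_iff.mp h1
    haveI : Subsingleton ↥(pullback N.hom N.hom) := by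
      have := (isPreconnected_univ (α := ↥(pullback N.hom N.hom))).subsingleton
      exact ⟨fun a b => this (Set.mem_univ a) (Set.mem_univ b)⟩
    haveI : UniversallyInjective N.hom := by
      rw [UniversallyInjective.iff_diagonal]
      exact ⟨fun z => ⟨e.left pt, Subsingleton.elim _ _⟩⟩
    have hfst : UniversallyInjective (fst X N).left := by
      show UniversallyInjective (pullback.fst X.hom N.hom)
      exact MorphismProperty.pullback_fst (P := @UniversallyInjective) X.hom N.hom inferInstance
    exact (ocovFppf f inferInstance inferInstance hflfp).prop_of_base_change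
      @UniversallyInjective f.left _ _ sq hfst

end Groth.Agent.Lib.Helper29.AbIsog
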