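import Mathlib
import Groth.Prelude.Def_AlgGrp
import Groth.Prelude.Def_SGA7IX
import Groth.Agent.Lib.Helper11.GrpD
import Groth.Agent.Lib.Helper22.SmoothRed
import Groth.Agent.Lib.Helper29.AbHom

/-!
# Abelian subvarieties are central; `A × N → G` is an isogeny (S14751)

* `geometricallyReduced_of_smooth`.
* `tensorHom_comp_mul`, `isMonHom_mul_of_commute`.
* `central_of_abelianSubvariety`: an abelian subvariety of a connected smooth group is central.
* `isFinite_of_isPullback`: a fibre product of a proper and an affine closed subscheme is finite.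
* `main14751`.
-/
set_option autoImplicit false
set_option maxHeartbeats 1600000
set_option linter.style.haveILetI false
universe u
open CategoryTheory CategoryTheory.Limits MonoidalCategory CartesianMonoidalCategory MonObj GrpObj
  AlgebraicGeometry

noncomputable section

namespace Groth.Agent.Lib.Helper29.AbSubMul

theorem geometricallyReduced_of_smooth {X Y : Scheme.{u}} (f : X ⟶ Y) [Smooth f] :
    GeometricallyReduced f := by
  constructor
  intro K _ y Z fst snd hpb
  haveI : Smooth snd := MorphismProperty.of_isPullback (P := @Smooth) hpb ‹_›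
  exact Groth.Agent.Lib.Helper22.SmoothRed.isReduced_of_smooth snd

section Cat

variable {D : Type*} [Category D] [CartesianMonoidalCategory D]

theorem tensorHom_comp_mul {X Y G : D} [MonObj G] (a : X ⟶ G) (b : Y ⟶ G) :
    (a ⊗ₘ b) ≫ μ[G] = (fst X Y ≫ a) * (snd X Y ≫ b) := by
  rw [Hom.mul_def, lift_fst_comp_snd_comp]

theorem eta_eq_one (G : D) [MonObj G] : η[G] = (1 : 𝟙_ D ⟶ G) := by
  rw [Hom.one_def, toUnit_unique (toUnit (𝟙_ D)) (𝟙 _), Category.id_comp]

theorem isMonHom_mul_of_commute [BraidedCategory D] {M G : D} [MonObj M] [GrpObj G]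
    (f g : M ⟶ G) [IsMonHom f] [IsMonHom g]
    (hcomm : (snd M M ≫ f) * (fst M M ≫ g) = (fst M M ≫ g) * (snd M M ≫ f)) :
    IsMonHom (f * g) := by
  constructor
  · rw [MonObj.comp_mul, IsMonHom.one_hom, IsMonHom.one_hom, eta_eq_one, _root_.mul_one]
  · rw [MonObj.comp_mul, IsMonHom.mul_hom, IsMonHom.mul_hom, tensorHom_comp_mul, tensorHom_comp_mul,
      tensorHom_comp_mul, MonObj.comp_mul, MonObj.comp_mul]
    calc (fst M M ≫ f) * (snd M M ≫ f) * ((fst M M ≫ g) * (snd M M ≫ g))
        = (fst M M ≫ f) * (((snd M M ≫ f) * (fst M M ≫ g)) * (snd M M ≫ g)) := by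
          simp only [_root_.mul_assoc]
      _ = (fst M M ≫ f) * (((fst M M ≫ g) * (snd M M ≫ f)) * (snd M M ≫ g)) := by rw [hcomm]
      _ = (fst M M ≫ f) * (fst M M ≫ g) * ((snd M M ≫ f) * (snd M M ≫ g)) := by
          simp only [_root_.mul_assoc]

end Cat

/-- an abelian subvariety of a smooth connected group scheme over a field is central -/
theorem central_of_abelianSubvariety (k : Type u) [Field k]
    (G A : Over (Spec (CommRingCat.of k))) [GrpObj G] [GrpObj A]
    [Smooth G.hom] [QuasiCompact G.hom] [ConnectedSpace ↥G.left]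
    (j : A ⟶ G) [IsMonHom j] [Smooth A.hom] [ConnectedSpace ↥A.left] [IsProper A.hom]
    {T : Over (Spec (CommRingCat.of k))} (a : T ⟶ A) (g : T ⟶ G) :
    (a ≫ j) * g = g * (a ≫ j) := by
  haveI : GeometricallyReduced A.hom := geometricallyReduced_of_smooth A.hom
  haveI : GeometricallyReduced G.hom := geometricallyReduced_of_smooth G.hom
  haveI : GeometricallyIntegral A.hom :=
    Groth.Agent.Lib.Helper29.AbHom.geometricallyIntegral_of_geometricallyReduced k A
  haveI : GeometricallyIntegral G.hom :=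
    Groth.Agent.Lib.Helper29.AbHom.geometricallyIntegral_of_geometricallyReduced k G
  haveI : IsSeparated G.hom := Groth.Agent.Lib.Helper11.GrpD.isSeparated_hom G
  obtain ⟨c, hc⟩ : ∃ c : A ⊗ G ⟶ G,
      c = (fst A G ≫ j) * snd A G * (fst A G ≫ j)⁻¹ * (snd A G)⁻¹ := ⟨_, rfl⟩
  have hV : lift (𝟙 A) (toUnit A ≫ η[G]) ≫ c = toUnit A ≫ η[G] := by
    have e1 : lift (𝟙 A) (toUnit A ≫ η[G]) ≫ fst A G ≫ j = j := by
      rw [lift_fst_assoc, Category.id_comp]
    have e2 : lift (𝟙 A) (toUnit A ≫ η[G]) ≫ snd A G = 1 := by rw [lift_snd, ← Hom.one_def]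
    rw [hc]
    simp only [MonObj.comp_mul, GrpObj.comp_inv]
    rw [e1, e2, _root_.mul_one, _root_.inv_one, _root_.mul_one, _root_.mul_inv_cancel, Hom.one_def]
  have hW : lift (toUnit G ≫ η[A]) (𝟙 G) ≫ c = toUnit G ≫ η[G] := by
    have e1 : lift (toUnit G ≫ η[A]) (𝟙 G) ≫ fst A G ≫ j = 1 := by
      rw [lift_fst_assoc, Category.assoc, IsMonHom.one_hom, ← Hom.one_def]
    have e2 : lift (toUnit G ≫ η[A]) (𝟙 G) ≫ snd A G = 𝟙 G := lift_snd _ _
    rw [hc]
    simp only [MonObj.comp_mul, GrpObj.comp_inv]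
    rw [e1, e2, _root_.one_mul, _root_.inv_one, _root_.mul_one, _root_.mul_inv_cancel, Hom.one_def]
  have hc1 : c = 1 := by
    rw [Hom.one_def]
    exact Groth.Agent.S8117.result k A G G c η[A] η[G] η[G] hV hW
  have h1 : lift a g ≫ c = 1 := by rw [hc1, MonObj.comp_one]
  rw [hc] at h1
  simp only [MonObj.comp_mul, GrpObj.comp_inv, lift_fst_assoc, lift_snd] at h1
  calc (a ≫ j) * g = ((a ≫ j) * g * (a ≫ j)⁻¹ * g⁻¹) * (g * (a ≫ j)) := by group
    _ = g * (a ≫ j) := by rw [h1, _root_.one_mul]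

theorem isFinite_of_isPullback {S : Scheme.{u}} [IsAffine S] {K A N G : Over S}
    {p₁ : K ⟶ A} {p₂ : K ⟶ N} {r : A ⟶ G} {i : N ⟶ G} (hpb : IsPullback p₁ p₂ r i)
    [IsClosedImmersion r.left] [IsClosedImmersion i.left] [IsProper A.hom] [IsAffine N.left] :
    IsFinite K.hom := by
  have hpb' : IsPullback p₁.left p₂.left r.left i.left := hpb.map (Over.forget S)
  haveI : IsClosedImmersion p₁.left :=
    MorphismProperty.of_isPullback (P := @IsClosedImmersion) hpb'.flip ‹_›
  haveI : IsClosedImmersion p₂.left :=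
    MorphismProperty.of_isPullback (P := @IsClosedImmersion) hpb' ‹_›
  haveI : IsAffine K.left := isAffine_of_isAffineHom p₂.left
  haveI : IsProper K.hom := by rw [← Over.w p₁]; infer_instance
  haveI : IsAffineHom K.hom := inferInstance
  exact IsFinite.iff_isProper_and_isAffineHom.mpr ⟨inferInstance, inferInstance⟩

theorem main14751 (k : Type u) [Field k] [IsAlgClosed k]
    (G N A Q : Over (Spec (CommRingCat.of k))) [GrpObj G] [GrpObj N] [GrpObj A] [GrpObj Q]
    [Smooth G.hom] [QuasiCompact G.hom] [ConnectedSpace ↥G.left]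
    (i : N ⟶ G) [IsMonHom i] [IsClosedImmersion i.left] [IsAffine N.left]
    (π : G ⟶ Q) [IsMonHom π] [Flat π.left] [Surjective π.left] (hker : AlgGrp.IsKernel i π)
    (j : A ⟶ G) [IsMonHom j] [IsClosedImmersion j.left] [Smooth A.hom] [ConnectedSpace ↥A.left]
    [IsProper A.hom]
    (hsurj : Surjective ((j ⊗ₘ i) ≫ μ[G]).left) :
    IsMonHom ((j ⊗ₘ i) ≫ μ[G]) ∧ SGA7.IsIsogenyOver ((j ⊗ₘ i) ≫ μ[G]) ∧
      SGA7.IsIsogenyOver (j ≫ π) := by
  have hker' : IsPullback i (toUnit N) π η[Q] := hker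
  have hm : (j ⊗ₘ i) ≫ μ[G] = (fst A N ≫ j) * (snd A N ≫ i) := tensorHom_comp_mul j i
  obtain ⟨m, hm'⟩ : ∃ m : A ⊗ N ⟶ G, m = (j ⊗ₘ i) ≫ μ[G] := ⟨_, rfl⟩
  rw [← hm'] at hsurj hm ⊢
  have hiπ : i ≫ π = toUnit N ≫ η[Q] := hker'.w
  -- (1) homomorphism
  have hmon : IsMonHom m := by
    rw [hm]
    refine isMonHom_mul_of_commute _ _ ?_
    have := central_of_abelianSubvariety k G A j
      (snd (A ⊗ N) (A ⊗ N) ≫ fst A N) (fst (A ⊗ N) (A ⊗ N) ≫ snd A N ≫ i)
    simpa only [Category.assoc] using this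
  -- (2) the kernel of `m`
  have hfin1 : ∀ (K : Over (Spec (CommRingCat.of k))) (κ : K ⟶ A ⊗ N),
      AlgGrp.IsKernel κ m → IsFinite K.hom := by
    intro K κ hK
    have hK' : IsPullback κ (toUnit K) m η[G] := hK
    have hκ1 : (κ ≫ fst A N ≫ j) * (κ ≫ snd A N ≫ i) = 1 := by
      have := hK'.w
      rw [hm, MonObj.comp_mul, ← Hom.one_def] at this
      exact this
    have hw : (κ ≫ fst A N) ≫ j ≫ ι[G] = (κ ≫ snd A N) ≫ i := by
      have h2 := eq_inv_of_mul_eq_one_right hκ1
      rw [Hom.inv_def] at h2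
      simp only [Category.assoc] at h2 ⊢
      exact h2.symm
    have hcone : ∀ c : PullbackCone (j ≫ ι[G]) i,
        lift c.fst c.snd ≫ m = toUnit c.pt ≫ η[G] := by
      intro c
      have h3 : c.snd ≫ i = (c.fst ≫ j)⁻¹ := by
        rw [Hom.inv_def, Category.assoc]
        exact c.condition.symm
      rw [hm, MonObj.comp_mul, lift_fst_assoc, lift_snd_assoc, h3, _root_.mul_inv_cancel,
        Hom.one_def]
    have hpb : IsPullback (κ ≫ fst A N) (κ ≫ snd A N) (j ≫ ι[G]) i := by
      refine ⟨⟨hw⟩, ⟨PullbackCone.IsLimit.mk _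
        (fun c => hK'.lift (lift c.fst c.snd) (toUnit c.pt) (hcone c))
        (fun c => ?_) (fun c => ?_) (fun c m' h1 h2 => ?_)⟩⟩
      · rw [← Category.assoc, hK'.lift_fst, lift_fst]
      · rw [← Category.assoc, hK'.lift_fst, lift_snd]
      · apply hK'.hom_ext
        · rw [hK'.lift_fst]
          apply CartesianMonoidalCategory.hom_ext
          · rw [lift_fst, Category.assoc, h1]
          · rw [lift_snd, Category.assoc, h2]
        · exact toUnit_unique _ _
    haveI : IsIso ι[G].left := by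
      have : IsIso ((Over.forget _).map ι[G]) := inferInstance
      exact this
    haveI : IsClosedImmersion (j ≫ ι[G]).left := by rw [Over.comp_left]; infer_instance
    exact isFinite_of_isPullback hpb
  -- (3) the composite `A → G → Q`
  have hmπ : m ≫ π = fst A N ≫ j ≫ π := by
    have e : snd A N ≫ i ≫ π = 1 := by
      rw [hiπ, ← Category.assoc, toUnit_unique (snd A N ≫ toUnit N) (toUnit _), ← Hom.one_def]
    rw [hm, MonObj.mul_comp, Category.assoc, Category.assoc, e, _root_.mul_one]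
  have hsurj2 : Surjective (j ≫ π).left := by
    haveI : Surjective (m ≫ π).left := by rw [Over.comp_left]; infer_instance
    haveI : Surjective ((fst A N).left ≫ (j ≫ π).left) := by
      rw [← Over.comp_left, ← hmπ]; infer_instance
    exact Surjective.of_comp (fst A N).left (j ≫ π).left
  have hfin2 : ∀ (K : Over (Spec (CommRingCat.of k))) (κ : K ⟶ A),
      AlgGrp.IsKernel κ (j ≫ π) → IsFinite K.hom := by
    intro K κ hK
    have hK' : IsPullback κ (toUnit K) (j ≫ π) η[Q] := hK
    obtain ⟨ν, hν⟩ : ∃ ν : K ⟶ N, ν ≫ i = κ ≫ j :=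
      ⟨hker'.lift (κ ≫ j) (toUnit K) (by rw [Category.assoc, hK'.w]), hker'.lift_fst _ _ _⟩
    have hcone : ∀ c : PullbackCone j i, c.fst ≫ j ≫ π = toUnit c.pt ≫ η[Q] := by
      intro c
      rw [← Category.assoc, c.condition, Category.assoc, hiπ, ← Category.assoc,
        toUnit_unique (c.snd ≫ toUnit N) (toUnit _)]
    have hpb : IsPullback κ ν j i := by
      refine ⟨⟨hν.symm⟩, ⟨PullbackCone.IsLimit.mk _
        (fun c => hK'.lift c.fst (toUnit c.pt) (hcone c))
        (fun c => ?_) (fun c => ?_) (fun c m' h1 h2 => ?_)⟩⟩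
      · rw [hK'.lift_fst]
      · apply hker'.hom_ext
        · rw [Category.assoc, hν, ← Category.assoc, hK'.lift_fst, c.condition]
        · exact toUnit_unique _ _
      · apply hK'.hom_ext
        · rw [hK'.lift_fst, h1]
        · exact toUnit_unique _ _
    exact isFinite_of_isPullback hpb
  exact ⟨hmon, ⟨hsurj, hfin1⟩, ⟨hsurj2, hfin2⟩⟩

end Groth.Agent.Lib.Helper29.AbSubMul
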