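import Mathlib
import Groth.Prelude.Def_Adeq

/-!
# Pointwise API for module-valued functors (`Adeq.MVF`)
-/

set_option autoImplicit false
universe u v u₁ v₁
open CategoryTheory Limits Opposite TensorProduct

namespace Groth.Agent.Lib.Helper29.Adeq0

noncomputable section
variable {A : Type u} [CommRing A]

theorem comp_app_apply {F G H : Adeq.MVF A} (f : F ⟶ G) (g : G ⟶ H) (X : (Adeq.Alg A)ᵒᵖᵒᵖ)
    (x : F.obj X) : (f ≫ g).app X x = g.app X (f.app X x) := rfl

/-- pointwise exactness, generic version (instances about `evaluation` are only found for a variable `R`) -/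
theorem exact_app_gen {C : Type u₁} [Category.{v₁} C] {R : Cᵒᵖ ⥤ RingCat.{u}}
    {S : ShortComplex (PresheafOfModules.{v} R)} (hS : S.Exact) (X : Cᵒᵖ)
    (y : S.X₂.obj X) (hy : S.g.app X y = 0) : ∃ x : S.X₁.obj X, S.f.app X x = y := by
  have h := hS.map (PresheafOfModules.evaluation R X)
  rw [ShortComplex.moduleCat_exact_iff] at h
  exact h y hy

/-- pointwise exactness of an exact short complex of module-valued functors -/
theorem exact_app {S : ShortComplex (Adeq.MVF A)} (hS : S.Exact) (B : Adeq.Alg A)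
    (y : S.X₂.obj (Adeq.pt B)) (hy : S.g.app (Adeq.pt B) y = 0) :
    ∃ x : S.X₁.obj (Adeq.pt B), S.f.app (Adeq.pt B) x = y :=
  exact_app_gen hS (Adeq.pt B) y hy

theorem ker_exists {F G K : Adeq.MVF A} (φ : F ⟶ G) (ι : K ⟶ F) (w : ι ≫ φ = 0)
    (hK : IsLimit (KernelFork.ofι ι w)) (B : Adeq.Alg A) (x : F.obj (Adeq.pt B))
    (hx : φ.app (Adeq.pt B) x = 0) : ∃ y : K.obj (Adeq.pt B), ι.app (Adeq.pt B) y = x :=
  exact_app (S := ShortComplex.mk ι φ w) (ShortComplex.exact_of_f_is_kernel _ hK) B x hx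

theorem ker_inj {F G K : Adeq.MVF A} (φ : F ⟶ G) (ι : K ⟶ F) (w : ι ≫ φ = 0)
    (hK : IsLimit (KernelFork.ofι ι w)) (B : Adeq.Alg A) :
    Function.Injective (ι.app (Adeq.pt B)) := by
  have : Mono ι := mono_of_isLimit_fork hK
  exact PresheafOfModules.injective_of_mono ι (Adeq.pt B)

theorem kernel_ι_inj {F G : Adeq.MVF A} (φ : F ⟶ G) (B : Adeq.Alg A) :
    Function.Injective ((kernel.ι φ).app (Adeq.pt B)) :=
  PresheafOfModules.injective_of_mono (kernel.ι φ) (Adeq.pt B)

theorem kernel_ι_exists {F G : Adeq.MVF A} (φ : F ⟶ G) (B : Adeq.Alg A) (x : F.obj (Adeq.pt B))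
    (hx : φ.app (Adeq.pt B) x = 0) :
    ∃ y : (kernel φ).obj (Adeq.pt B), (kernel.ι φ).app (Adeq.pt B) y = x :=
  ker_exists φ (kernel.ι φ) (kernel.condition φ) (kernelIsKernel φ) B x hx

theorem kernel_condition_apply {F G : Adeq.MVF A} (φ : F ⟶ G) (B : Adeq.Alg A)
    (y : (kernel φ).obj (Adeq.pt B)) : φ.app (Adeq.pt B) ((kernel.ι φ).app (Adeq.pt B) y) = 0 := by
  have h := congrArg (fun k => (k.app (Adeq.pt B)).hom y) (kernel.condition φ)
  exact h

theorem coker_surj {F G : Adeq.MVF A} (φ : F ⟶ G) (B : Adeq.Alg A) :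
    Function.Surjective ((cokernel.π φ).app (Adeq.pt B)) :=
  PresheafOfModules.surjective_of_epi (cokernel.π φ) (Adeq.pt B)

theorem coker_exact {F G : Adeq.MVF A} (φ : F ⟶ G) (B : Adeq.Alg A) (y : G.obj (Adeq.pt B))
    (hy : (cokernel.π φ).app (Adeq.pt B) y = 0) : ∃ x : F.obj (Adeq.pt B), φ.app (Adeq.pt B) x = y :=
  exact_app (S := ShortComplex.mk φ (cokernel.π φ) (cokernel.condition φ))
    (ShortComplex.exact_of_g_is_cokernel _ (cokernelIsCokernel φ)) B y hy

theorem coker_condition_apply {F G : Adeq.MVF A} (φ : F ⟶ G) (B : Adeq.Alg A)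
    (x : F.obj (Adeq.pt B)) : (cokernel.π φ).app (Adeq.pt B) (φ.app (Adeq.pt B) x) = 0 := by
  have h := congrArg (fun k => (k.app (Adeq.pt B)).hom x) (cokernel.condition φ)
  exact h

theorem isIso_of_bijective {F G : Adeq.MVF A} (k : F ⟶ G)
    (h : ∀ B : Adeq.Alg A, Function.Bijective (k.app (Adeq.pt B))) : IsIso k := by
  have : Mono k := PresheafOfModules.mono_of_injective (fun X => (h X.unop.unop).1)
  have : Epi k := PresheafOfModules.epi_of_surjective (fun X => (h X.unop.unop).2)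
  exact isIso_of_mono_of_epi k

theorem hom_ext_pt {F G : Adeq.MVF A} (f g : F ⟶ G)
    (h : ∀ (B : Adeq.Alg A) (x : F.obj (Adeq.pt B)), f.app (Adeq.pt B) x = g.app (Adeq.pt B) x) :
    f = g := by
  apply PresheafOfModules.hom_ext
  intro X
  ext x
  exact h X.unop.unop x

/-! ### elements of `underline` -/

theorem u_map_app_apply {M N : ModuleCat.{u+1} A} (g : M ⟶ N) (B : Adeq.Alg A) (x : B ⊗[A] M) :
    ((Adeq.underline A).map g).app (Adeq.pt B) (x : ((Adeq.underline A).obj M).obj (Adeq.pt B)) =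
      g.hom.baseChange B x := rfl

theorem u_obj_map_apply (M : ModuleCat.{u+1} A) {B B' : Adeq.Alg A} (f : B ⟶ B') (x : B ⊗[A] M) :
    ((Adeq.underline A).obj M).map (Adeq.ptHom f) (x : ((Adeq.underline A).obj M).obj (Adeq.pt B)) =
      f.hom.toLinearMap.rTensor M x := rfl

theorem u_smul (M : ModuleCat.{u+1} A) (B : Adeq.Alg A) (b : B) (x : B ⊗[A] M) :
    (b • (x : ((Adeq.underline A).obj M).obj (Adeq.pt B))) = b • x := rfl

/-- recognition of adequate functors from a pointwise left exact sequence -/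
theorem adequate_of_exact (F : Adeq.MVF A) {M N : ModuleCat.{u+1} A} (α : M ⟶ N)
    (ι : F ⟶ (Adeq.underline A).obj M) (w : ι ≫ (Adeq.underline A).map α = 0)
    (hinj : ∀ B : Adeq.Alg A, Function.Injective (ι.app (Adeq.pt B)))
    (hex : ∀ (B : Adeq.Alg A) (x : B ⊗[A] M), α.hom.baseChange B x = 0 →
      ∃ y : F.obj (Adeq.pt B), ι.app (Adeq.pt B) y = x) :
    Adeq.adequate A F := by
  refine ⟨M, N, α, ⟨?_⟩⟩
  let k : F ⟶ kernel ((Adeq.underline A).map α) := kernel.lift _ ι w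
  have hk : k ≫ kernel.ι _ = ι := kernel.lift_ι _ _ _
  have hk' : ∀ (B : Adeq.Alg A) (a : F.obj (Adeq.pt B)),
      (kernel.ι ((Adeq.underline A).map α)).app (Adeq.pt B) (k.app (Adeq.pt B) a) =
        ι.app (Adeq.pt B) a := by
    intro B a
    have h := congrArg (fun m => (m.app (Adeq.pt B)).hom a) hk
    exact h
  haveI : IsIso k := by
    apply isIso_of_bijective
    intro B
    constructor
    · intro a b hab
      apply hinj B
      rw [← hk' B a, ← hk' B b, hab]
    · intro y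
      obtain ⟨x, hx⟩ := hex B ((kernel.ι ((Adeq.underline A).map α)).app (Adeq.pt B) y)
        (kernel_condition_apply _ B y)
      refine ⟨x, ?_⟩
      apply kernel_ι_inj _ B
      rw [hk' B x]
      exact hx
  exact asIso k

/-- unpacking adequacy as a kernel fork -/
theorem adequate_unpack {F : Adeq.MVF A} (hF : Adeq.adequate A F) :
    ∃ (M N : ModuleCat.{u+1} A) (α : M ⟶ N) (ι : F ⟶ (Adeq.underline A).obj M)
      (w : ι ≫ (Adeq.underline A).map α = 0), Nonempty (IsLimit (KernelFork.ofι ι w)) := by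
  obtain ⟨M, N, α, ⟨e⟩⟩ := hF
  refine ⟨M, N, α, e.hom ≫ kernel.ι _, by rw [Category.assoc, kernel.condition, comp_zero], ⟨?_⟩⟩
  exact IsLimit.ofIsoLimit (kernelIsKernel _) (Fork.ext e.symm (by simp))

/-- pointwise form of `adequate_unpack` -/
theorem adequate_unpack' {F : Adeq.MVF A} (hF : Adeq.adequate A F) :
    ∃ (M N : ModuleCat.{u+1} A) (α : M ⟶ N) (ι : F ⟶ (Adeq.underline A).obj M),
      ι ≫ (Adeq.underline A).map α = 0 ∧
      (∀ B : Adeq.Alg A, Function.Injective (ι.app (Adeq.pt B))) ∧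
      (∀ (B : Adeq.Alg A) (x : B ⊗[A] M), α.hom.baseChange B x = 0 →
        ∃ y : F.obj (Adeq.pt B), ι.app (Adeq.pt B) y = x) ∧
      (∀ (G : Adeq.MVF A) (t : G ⟶ (Adeq.underline A).obj M), t ≫ (Adeq.underline A).map α = 0 →
        ∃ l : G ⟶ F, l ≫ ι = t) := by
  obtain ⟨M, N, α, ι, w, ⟨hK⟩⟩ := adequate_unpack hF
  refine ⟨M, N, α, ι, w, fun B => ker_inj _ ι w hK B, fun B x hx => ker_exists _ ι w hK B x hx,
    fun G t ht => ?_⟩
  exact ⟨(KernelFork.IsLimit.lift' hK t ht).1, (KernelFork.IsLimit.lift' hK t ht).2⟩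

end

end Groth.Agent.Lib.Helper29.Adeq0
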