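import Mathlib

/-!
# Linear algebra helpers for adequate functors: base change calculus, direct sums, pushout quotients
-/

set_option autoImplicit false
universe u
open TensorProduct DirectSum

namespace Groth.Agent.Lib.Helper29.AdeqDS

noncomputable section
variable {A : Type u} [CommRing A]

section bc
variable (B : Type u) [CommRing B] [Algebra A B]

section mon
variable {X Y Z : Type*} [AddCommMonoid X] [Module A X] [AddCommMonoid Y] [Module A Y]
  [AddCommMonoid Z] [Module A Z]

theorem bc_comp_apply (f : X →ₗ[A] Y) (g : Y →ₗ[A] Z) (x : B ⊗[A] X) :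
    (g ∘ₗ f).baseChange B x = g.baseChange B (f.baseChange B x) := by
  rw [LinearMap.baseChange_comp]; rfl

theorem bc_id_apply (x : B ⊗[A] X) : (LinearMap.id : X →ₗ[A] X).baseChange B x = x := by
  rw [LinearMap.baseChange_id]; rfl

theorem bc_add_apply (f g : X →ₗ[A] Y) (x : B ⊗[A] X) :
    (f + g).baseChange B x = f.baseChange B x + g.baseChange B x := by
  rw [LinearMap.baseChange_add]; rfl

theorem bc_zero_apply (x : B ⊗[A] X) : (0 : X →ₗ[A] Y).baseChange B x = 0 := by
  rw [LinearMap.baseChange_zero]; rfl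

end mon

variable {X Y Z : Type*} [AddCommGroup X] [Module A X] [AddCommGroup Y] [Module A Y]
  [AddCommGroup Z] [Module A Z]

theorem bc_exact {f : X →ₗ[A] Y} {g : Y →ₗ[A] Z} (hfg : Function.Exact f g)
    (hg : Function.Surjective g) (y : B ⊗[A] Y) (hy : g.baseChange B y = 0) :
    ∃ x, f.baseChange B x = y := by
  have h := lTensor_exact B hfg hg
  have hy' : (g.lTensor B) y = 0 := hy
  exact (h y).mp hy'

theorem bc_surjective {g : Y →ₗ[A] Z} (hg : Function.Surjective g) :
    Function.Surjective (g.baseChange B) :=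
  LinearMap.lTensor_surjective B hg

/-- decomposition of an element of `B ⊗ ⨁ V i` into finitely many components -/
theorem ds_decomp {ι : Type*} [DecidableEq ι] (V : ι → Type*) [∀ i, AddCommGroup (V i)]
    [∀ i, Module A (V i)] (x : B ⊗[A] (⨁ i, V i)) :
    ∃ s : Finset ι, ∀ t : Finset ι, s ⊆ t →
      x = ∑ i ∈ t, ((DirectSum.lof A ι V i) ∘ₗ (DirectSum.component A ι V i)).baseChange B x := by
  classical
  induction x using TensorProduct.induction_on with
  | zero => exact ⟨∅, fun t _ => by simp⟩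
  | tmul b p =>
    refine ⟨DFinsupp.support p, fun t ht => ?_⟩
    simp only [LinearMap.baseChange_tmul]
    rw [← TensorProduct.tmul_sum]
    congr 1
    have h1 : ∑ i ∈ DFinsupp.support p, DirectSum.of V i (p i) = p := DirectSum.sum_support_of p
    have h2 : ∑ i ∈ t, DirectSum.of V i (p i) = ∑ i ∈ DFinsupp.support p, DirectSum.of V i (p i) := by
      symm
      refine Finset.sum_subset ht (fun i _ hi => ?_)
      rw [DFinsupp.notMem_support_iff.mp hi, map_zero]
    rw [← h1, ← h2]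
    refine Finset.sum_congr rfl (fun i _ => ?_)
    rw [h2, h1]
    rfl
  | add x y hx hy =>
    obtain ⟨sx, hx⟩ := hx
    obtain ⟨sy, hy⟩ := hy
    refine ⟨sx ∪ sy, fun t ht => ?_⟩
    have h1 := hx t (Finset.union_subset_left ht)
    have h2 := hy t (Finset.union_subset_right ht)
    rw [Finset.sum_congr rfl (fun i _ => map_add _ x y), Finset.sum_add_distrib, ← h1, ← h2]

end bc

section StepC
variable {P P' M : Type*} [AddCommGroup P] [Module A P] [AddCommGroup P'] [Module A P']
  [AddCommGroup M] [Module A M] (g : P →ₗ[A] M) (φ₀ : P →ₗ[A] P')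

/-- the pushout `(M × P') / P` -/
abbrev QQ : Type _ := (M × P') ⧸ LinearMap.range (g.prod φ₀)

/-- the cokernel of `φ₀` -/
abbrev PP : Type _ := P' ⧸ LinearMap.range φ₀

/-- `M → Q` -/
def iQ : M →ₗ[A] QQ g φ₀ := (LinearMap.range (g.prod φ₀)).mkQ ∘ₗ LinearMap.inl A M P'

/-- `Q → P''` -/
def outQ : QQ g φ₀ →ₗ[A] PP φ₀ :=
  (LinearMap.range (g.prod φ₀)).liftQ ((LinearMap.range φ₀).mkQ ∘ₗ LinearMap.snd A M P') (by
    rintro _ ⟨x, rfl⟩
    show (LinearMap.range φ₀).mkQ (φ₀ x) = 0
    exact (Submodule.Quotient.mk_eq_zero _).mpr ⟨x, rfl⟩)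

theorem outQ_mkQ : outQ g φ₀ ∘ₗ (LinearMap.range (g.prod φ₀)).mkQ =
    (LinearMap.range φ₀).mkQ ∘ₗ LinearMap.snd A M P' :=
  Submodule.liftQ_mkQ _ _ _

theorem outQ_iQ : outQ g φ₀ ∘ₗ iQ g φ₀ = 0 := by
  rw [iQ, ← LinearMap.comp_assoc, outQ_mkQ]
  refine LinearMap.ext (fun m => ?_)
  show (LinearMap.range φ₀).mkQ (0 : P') = 0
  exact map_zero _

theorem mkQ_prod : (LinearMap.range (g.prod φ₀)).mkQ ∘ₗ (g.prod φ₀) = 0 := by
  refine LinearMap.ext (fun x => ?_)
  exact (Submodule.Quotient.mk_eq_zero _).mpr ⟨x, rfl⟩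

theorem iQ_g_add : iQ g φ₀ ∘ₗ g + ((LinearMap.range (g.prod φ₀)).mkQ ∘ₗ LinearMap.inr A M P') ∘ₗ φ₀ = 0 := by
  rw [← mkQ_prod g φ₀]
  refine LinearMap.ext (fun x => ?_)
  show (LinearMap.range (g.prod φ₀)).mkQ (g x, 0) + (LinearMap.range (g.prod φ₀)).mkQ (0, φ₀ x) =
    (LinearMap.range (g.prod φ₀)).mkQ (g x, φ₀ x)
  rw [← map_add, Prod.mk_add_mk, add_zero, zero_add]

variable (B : Type u) [CommRing B] [Algebra A B]

theorem iQ_bc_eq_zero_of (z : B ⊗[A] P) (hz : φ₀.baseChange B z = 0) :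
    (iQ g φ₀).baseChange B (g.baseChange B z) = 0 := by
  have h := congrArg (fun k => k.baseChange B z) (iQ_g_add g φ₀)
  simp only [bc_add_apply, bc_comp_apply, bc_zero_apply, hz, map_zero, add_zero] at h
  exact h

theorem exists_of_iQ_bc_eq_zero (m : B ⊗[A] M) (hm : (iQ g φ₀).baseChange B m = 0) :
    ∃ z : B ⊗[A] P, φ₀.baseChange B z = 0 ∧ g.baseChange B z = m := by
  have hm' : (LinearMap.range (g.prod φ₀)).mkQ.baseChange B ((LinearMap.inl A M P').baseChange B m) = 0 := by
    rw [← bc_comp_apply]; exact hm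
  obtain ⟨z, hz⟩ := bc_exact B (LinearMap.exact_map_mkQ_range (g.prod φ₀))
    (Submodule.mkQ_surjective _) _ hm'
  refine ⟨z, ?_, ?_⟩
  · have h := congrArg (fun t => (LinearMap.snd A M P').baseChange B t) hz
    simp only [← bc_comp_apply] at h
    have e1 : LinearMap.snd A M P' ∘ₗ g.prod φ₀ = φ₀ := LinearMap.ext (fun _ => rfl)
    have e2 : LinearMap.snd A M P' ∘ₗ LinearMap.inl A M P' = 0 := LinearMap.ext (fun _ => rfl)
    rw [e1, e2, bc_zero_apply] at h
    exact h
  · have h := congrArg (fun t => (LinearMap.fst A M P').baseChange B t) hz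
    simp only [← bc_comp_apply] at h
    have e1 : LinearMap.fst A M P' ∘ₗ g.prod φ₀ = g := LinearMap.ext (fun _ => rfl)
    have e2 : LinearMap.fst A M P' ∘ₗ LinearMap.inl A M P' = LinearMap.id := LinearMap.ext (fun _ => rfl)
    rw [e1, e2, bc_id_apply] at h
    exact h

theorem exists_of_outQ_bc_eq_zero (q : B ⊗[A] QQ g φ₀) (hq : (outQ g φ₀).baseChange B q = 0) :
    ∃ m : B ⊗[A] M, (iQ g φ₀).baseChange B m = q := by
  obtain ⟨e, rfl⟩ := bc_surjective B (Submodule.mkQ_surjective (LinearMap.range (g.prod φ₀))) q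
  rw [← bc_comp_apply, outQ_mkQ, bc_comp_apply] at hq
  obtain ⟨z, hz⟩ := bc_exact B (LinearMap.exact_map_mkQ_range φ₀)
    (Submodule.mkQ_surjective _) _ hq
  refine ⟨(LinearMap.fst A M P').baseChange B e - g.baseChange B z, ?_⟩
  have hsplit : LinearMap.inl A M P' ∘ₗ LinearMap.fst A M P' + LinearMap.inr A M P' ∘ₗ LinearMap.snd A M P' =
      LinearMap.id := by
    refine LinearMap.ext (fun x => ?_)
    show (x.1, (0 : P')) + ((0 : M), x.2) = x
    rw [Prod.mk_add_mk, add_zero, zero_add]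
  have he : e = (LinearMap.inl A M P').baseChange B ((LinearMap.fst A M P').baseChange B e) +
      (LinearMap.inr A M P').baseChange B ((LinearMap.snd A M P').baseChange B e) := by
    have h := congrArg (fun k => k.baseChange B e) hsplit
    simp only [bc_add_apply, bc_comp_apply, bc_id_apply] at h
    exact h.symm
  have h0 := congrArg (fun k => k.baseChange B z) (iQ_g_add g φ₀)
  simp only [bc_add_apply, bc_comp_apply, bc_zero_apply] at h0
  rw [map_sub]
  conv_rhs => rw [he]
  rw [map_add, ← hz]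
  have hiQ : ∀ m : B ⊗[A] M, (iQ g φ₀).baseChange B m =
      (LinearMap.range (g.prod φ₀)).mkQ.baseChange B ((LinearMap.inl A M P').baseChange B m) := by
    intro m; rw [iQ, bc_comp_apply]
  rw [hiQ ((LinearMap.fst A M P').baseChange B e)]
  have hb := eq_neg_of_add_eq_zero_right h0
  rw [hb]
  abel

end StepC

end

end Groth.Agent.Lib.Helper29.AdeqDS
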