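import Mathlib
import Groth.Prelude.Def_Adeq
import Groth.Agent.Lib.Helper29.Adeq0

/-!
# Extension lemma for kernels of `underline P → underline P'` with `P'` free (Stacks, Adequate modules)
-/

set_option autoImplicit false
universe u w
open CategoryTheory Limits Opposite TensorProduct Module

namespace Groth.Agent.Lib.Helper29.AdeqExt
open Groth.Agent.Lib.Helper29.Adeq0

noncomputable section
variable {A : Type u} [CommRing A]

section Univ
variable {P P' : Type (u+1)} [AddCommGroup P] [Module A P] [AddCommGroup P'] [Module A P']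
  (φ : P →ₗ[A] P') {K' : Type w} (f : Basis K' A P') {n : ℕ} (v : Fin n → P)

/-- coefficients of `φ (v i)` in the basis `f` -/
def coef (i : Fin n) (k : K') : A := f.repr (φ (v i)) k

theorem repr_baseChange_sum (B : Type u) [CommRing B] [Algebra A B] (b : Fin n → B) (k : K') :
    (Algebra.TensorProduct.basis B f).repr (φ.baseChange B (∑ i, b i ⊗ₜ[A] v i)) k
      = ∑ i, b i * algebraMap A B (coef φ f v i k) := by
  rw [map_sum, map_sum, Finsupp.finsetSum_apply]
  refine Finset.sum_congr rfl (fun i _ => ?_)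
  rw [LinearMap.baseChange_tmul, Algebra.TensorProduct.basis_repr_tmul, Finsupp.smul_apply,
    Finsupp.mapRange_apply, smul_eq_mul]
  rfl

theorem baseChange_sum_eq_zero_iff (B : Type u) [CommRing B] [Algebra A B] (b : Fin n → B) :
    φ.baseChange B (∑ i, b i ⊗ₜ[A] v i) = 0 ↔
      ∀ k, ∑ i, b i * algebraMap A B (coef φ f v i k) = 0 := by
  rw [← (Algebra.TensorProduct.basis B f).repr.map_eq_zero_iff]
  constructor
  · intro h k
    rw [← repr_baseChange_sum, h]
    rfl
  · intro h
    ext k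
    rw [repr_baseChange_sum, h k]
    rfl

/-- the linear forms -/
def lform (k : K') : MvPolynomial (Fin n) A :=
  ∑ i, MvPolynomial.C (coef φ f v i k) * MvPolynomial.X i

/-- the ideal of relations -/
def I : Ideal (MvPolynomial (Fin n) A) := Ideal.span (Set.range (lform φ f v))

/-- universal ring (a `def`, so that all its structure comes from the single `CommRing` instance below) -/
def Ru : Type u := MvPolynomial (Fin n) A ⧸ I φ f v

instance instCommRingRu : CommRing (Ru φ f v) := Ideal.Quotient.commRing (I φ f v)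

instance instAlgebraRu : Algebra A (Ru φ f v) := Ideal.Quotient.algebra A

/-- quotient map -/
def mkR : MvPolynomial (Fin n) A →ₐ[A] Ru φ f v := Ideal.Quotient.mkₐ A (I φ f v)

theorem mkR_surjective : Function.Surjective (mkR φ f v) := Ideal.Quotient.mkₐ_surjective A _

theorem mkR_eq_zero {p : MvPolynomial (Fin n) A} (hp : p ∈ I φ f v) : mkR φ f v p = 0 :=
  Ideal.Quotient.eq_zero_iff_mem.mpr hp

/-- lifting out of the universal ring -/
def liftR {B : Type u} [CommRing B] [Algebra A B] (g : MvPolynomial (Fin n) A →ₐ[A] B)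
    (h : ∀ a ∈ I φ f v, g a = 0) : Ru φ f v →ₐ[A] B :=
  Ideal.Quotient.liftₐ (I φ f v) g h

theorem liftR_mkR {B : Type u} [CommRing B] [Algebra A B] (g : MvPolynomial (Fin n) A →ₐ[A] B)
    (h : ∀ a ∈ I φ f v, g a = 0) (p : MvPolynomial (Fin n) A) :
    liftR φ f v g h (mkR φ f v p) = g p := by
  show Ideal.Quotient.liftₐ (I φ f v) g h (Ideal.Quotient.mk _ p) = g p
  rw [Ideal.Quotient.liftₐ_apply, Ideal.Quotient.lift_mk]
  rfl

/-- universal coordinates -/
def xu (i : Fin n) : Ru φ f v := mkR φ f v (MvPolynomial.X i)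

theorem mk_C (c : A) : mkR φ f v (MvPolynomial.C c) = algebraMap A (Ru φ f v) c := by
  rw [← MvPolynomial.algebraMap_eq]
  exact (mkR φ f v).commutes c

theorem xu_rel (k : K') :
    ∑ i, xu φ f v i * algebraMap A (Ru φ f v) (coef φ f v i k) = 0 := by
  have h : mkR φ f v (lform φ f v k) = 0 := mkR_eq_zero φ f v (Ideal.subset_span ⟨k, rfl⟩)
  rw [lform, map_sum] at h
  rw [← h]
  refine Finset.sum_congr rfl (fun i _ => ?_)
  rw [map_mul, mk_C, mul_comm]
  rfl

/-- the evaluation hom out of the universal ring -/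
def evalHom (B : Type u) [CommRing B] [Algebra A B] (b : Fin n → B)
    (hb : ∀ k, ∑ i, b i * algebraMap A B (coef φ f v i k) = 0) : Ru φ f v →ₐ[A] B :=
  liftR φ f v (MvPolynomial.aeval b) (by
    intro a ha
    have hle : I φ f v ≤
        RingHom.ker (MvPolynomial.aeval b : MvPolynomial (Fin n) A →ₐ[A] B).toRingHom := by
      refine Ideal.span_le.mpr ?_
      rintro _ ⟨k, rfl⟩
      show (MvPolynomial.aeval b) (lform φ f v k) = 0
      rw [lform, map_sum, ← hb k]
      refine Finset.sum_congr rfl (fun i _ => ?_)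
      rw [map_mul, MvPolynomial.aeval_C, MvPolynomial.aeval_X, mul_comm]
    exact (RingHom.mem_ker).mp (hle ha))

theorem evalHom_mk (B : Type u) [CommRing B] [Algebra A B] (b : Fin n → B)
    (hb : ∀ k, ∑ i, b i * algebraMap A B (coef φ f v i k) = 0) (p : MvPolynomial (Fin n) A) :
    evalHom φ f v B b hb (mkR φ f v p) = MvPolynomial.aeval b p :=
  liftR_mkR φ f v _ _ p

theorem evalHom_xu (B : Type u) [CommRing B] [Algebra A B] (b : Fin n → B)
    (hb : ∀ k, ∑ i, b i * algebraMap A B (coef φ f v i k) = 0) (i : Fin n) :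
    evalHom φ f v B b hb (xu φ f v i) = b i := by
  rw [xu, evalHom_mk, MvPolynomial.aeval_X]

/-- the universal element -/
def ξu : Ru φ f v ⊗[A] P := ∑ i, xu φ f v i ⊗ₜ[A] v i

theorem ξu_ker : φ.baseChange (Ru φ f v) (ξu φ f v) = 0 :=
  (baseChange_sum_eq_zero_iff φ f v (Ru φ f v) (xu φ f v)).mpr (xu_rel φ f v)

theorem rTensor_ξu {B : Type u} [CommRing B] [Algebra A B] (g : Ru φ f v →ₐ[A] B) :
    g.toLinearMap.rTensor P (ξu φ f v) = ∑ i, g (xu φ f v i) ⊗ₜ[A] v i := by
  simp only [ξu, map_sum, LinearMap.rTensor_tmul, AlgHom.toLinearMap_apply]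

theorem ft_rel (k : K') :
    ∑ i, ((Polynomial.X : Polynomial (Ru φ f v)) * Polynomial.C (xu φ f v i)) *
      algebraMap A (Polynomial (Ru φ f v)) (coef φ f v i k) = 0 := by
  have h1 : ∀ i, ((Polynomial.X : Polynomial (Ru φ f v)) * Polynomial.C (xu φ f v i)) *
      algebraMap A (Polynomial (Ru φ f v)) (coef φ f v i k)
      = Polynomial.X * Polynomial.C (xu φ f v i * algebraMap A (Ru φ f v) (coef φ f v i k)) := by
    intro i
    rw [Polynomial.algebraMap_apply, map_mul, mul_assoc]
  rw [Finset.sum_congr rfl (fun i _ => h1 i), ← Finset.mul_sum, ← map_sum, xu_rel, map_zero,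
    mul_zero]

/-- the grading hom `x_i ↦ t x_i` -/
def ftHom : Ru φ f v →ₐ[A] Polynomial (Ru φ f v) :=
  evalHom φ f v (Polynomial (Ru φ f v))
    (fun i => (Polynomial.X : Polynomial (Ru φ f v)) * Polynomial.C (xu φ f v i)) (ft_rel φ f v)

theorem ftHom_xu (i : Fin n) :
    ftHom φ f v (xu φ f v i) = Polynomial.X * Polynomial.C (xu φ f v i) :=
  evalHom_xu φ f v _ _ _ i

/-- coefficient of `t` -/
def c1 : Polynomial (Ru φ f v) →ₗ[A] Ru φ f v :=
  (Polynomial.lcoeff (Ru φ f v) 1).restrictScalars A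

theorem c1_apply (p : Polynomial (Ru φ f v)) : c1 φ f v p = p.coeff 1 := rfl

theorem prod_pow_eq (s : Fin n →₀ ℕ) :
    (s.prod fun i k => ((Polynomial.X : Polynomial (Ru φ f v)) * Polynomial.C (xu φ f v i)) ^ k) =
      Polynomial.X ^ (s.sum fun _ k => k) * Polynomial.C (s.prod fun i k => xu φ f v i ^ k) := by
  have h : (fun (i : Fin n) (k : ℕ) =>
      ((Polynomial.X : Polynomial (Ru φ f v)) * Polynomial.C (xu φ f v i)) ^ k) =
      fun i k => Polynomial.X ^ k * Polynomial.C (xu φ f v i ^ k) :=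
    funext fun i => funext fun k => by
      have h1 := mul_pow (Polynomial.X : Polynomial (Ru φ f v)) (Polynomial.C (xu φ f v i)) k
      have h2 : (Polynomial.C (xu φ f v i) : Polynomial (Ru φ f v)) ^ k =
          Polynomial.C (xu φ f v i ^ k) := (Polynomial.C_pow).symm
      exact h1.trans (congrArg (fun z => Polynomial.X ^ k * z) h2)
  rw [h, Finsupp.prod_mul]
  congr 1
  · simp only [Finsupp.prod, Finsupp.sum]
    exact Finset.prod_pow_eq_pow_sum _ _ _
  · simp only [Finsupp.prod]
    rw [map_prod]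

theorem coeff_one_aux (a : A) (d : ℕ) (r : Ru φ f v) :
    (algebraMap A (Polynomial (Ru φ f v)) a * (Polynomial.X ^ d * Polynomial.C r)).coeff 1 =
      if d = 1 then a • r else 0 := by
  rw [Polynomial.algebraMap_apply, Polynomial.coeff_C_mul, Polynomial.coeff_X_pow_mul',
    Polynomial.coeff_C]
  rcases d with _ | _ | d
  · simp
  · simp only [zero_add, le_refl, if_true, Nat.sub_self]
    exact (Algebra.smul_def a r).symm
  · simp

theorem c1_ft_mk (p : MvPolynomial (Fin n) A) :
    c1 φ f v (ftHom φ f v (mkR φ f v p)) =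
      ∑ i, MvPolynomial.coeff (Finsupp.single i 1) p • xu φ f v i := by
  classical
  rw [c1_apply, ftHom, evalHom_mk]
  induction p using MvPolynomial.induction_on' with
  | monomial s a =>
    rw [MvPolynomial.aeval_monomial, prod_pow_eq, coeff_one_aux]
    simp only [MvPolynomial.coeff_monomial]
    by_cases h : ∃ i₀, s = Finsupp.single i₀ 1
    · obtain ⟨i₀, rfl⟩ := h
      rw [Finsupp.sum_single_index rfl, if_pos rfl, Finsupp.prod_single_index (h := fun i k => xu φ f v i ^ k) (pow_zero _), pow_one]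
      have : ∀ i, (if Finsupp.single i₀ 1 = Finsupp.single i 1 then a else 0) • xu φ f v i =
          if i₀ = i then a • xu φ f v i else 0 := by
        intro i
        by_cases hi : i₀ = i
        · subst hi
          rw [if_pos rfl, if_pos rfl]
        · rw [if_neg hi, if_neg (fun hs => hi ((Finsupp.single_left_inj one_ne_zero).mp hs)),
            zero_smul]
      rw [Finset.sum_congr rfl (fun i _ => this i), Finset.sum_ite_eq]
      simp
    · have hd : (s.sum fun _ k => k) ≠ 1 := fun hd => h ((Finsupp.sum_eq_one_iff s).mp hd)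
      rw [if_neg hd]
      symm
      refine Finset.sum_eq_zero (fun i _ => ?_)
      rw [if_neg (fun hs => h ⟨i, hs⟩), zero_smul]
  | add p q hp hq =>
    rw [map_add, Polynomial.coeff_add, hp, hq, ← Finset.sum_add_distrib]
    refine Finset.sum_congr rfl (fun i _ => ?_)
    rw [MvPolynomial.coeff_add, add_smul]


variable {M : Type (u+1)} [AddCommGroup M] [Module A M]

/-- the candidate images of the `v i` -/
def mvec (z : MvPolynomial (Fin n) A ⊗[A] M) (i : Fin n) : M :=
  TensorProduct.lid A M ((MvPolynomial.lcoeff A (Finsupp.single i 1)).rTensor M z)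

/-- quotient map as a linear map -/
def qlin : MvPolynomial (Fin n) A →ₗ[A] Ru φ f v := (mkR φ f v).toLinearMap

theorem qlin_surjective : Function.Surjective (qlin φ f v) := mkR_surjective φ f v

theorem tensor_key (z : MvPolynomial (Fin n) A ⊗[A] M) :
    (c1 φ f v).rTensor M ((ftHom φ f v).toLinearMap.rTensor M ((qlin φ f v).rTensor M z)) =
      ∑ i, xu φ f v i ⊗ₜ[A] mvec z i := by
  induction z using TensorProduct.induction_on with
  | zero => simp [mvec]
  | tmul p m =>
    simp only [LinearMap.rTensor_tmul, AlgHom.toLinearMap_apply, mvec, TensorProduct.lid_tmul]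
    show (c1 φ f v (ftHom φ f v (mkR φ f v p))) ⊗ₜ[A] m = _
    rw [c1_ft_mk, TensorProduct.sum_tmul]
    refine Finset.sum_congr rfl (fun i _ => ?_)
    rw [TensorProduct.smul_tmul]
    rfl
  | add x y hx hy =>
    simp only [mvec] at hx hy
    simp only [map_add, hx, hy, mvec, TensorProduct.tmul_add, Finset.sum_add_distrib]

theorem smul_eq_rTensor_mulLeft {T : Type u} [CommRing T] [Algebra A T] (t : T) (z : T ⊗[A] M) :
    t • z = (LinearMap.mulLeft A t).rTensor M z := by
  induction z using TensorProduct.induction_on with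
  | zero => simp
  | tmul a m =>
    rw [TensorProduct.smul_tmul', LinearMap.rTensor_tmul, LinearMap.mulLeft_apply, smul_eq_mul]
  | add x y hx hy => rw [smul_add, map_add, hx, hy]

theorem c1_mulLeft_C (z : Ru φ f v ⊗[A] M) :
    (c1 φ f v).rTensor M ((LinearMap.mulLeft A (Polynomial.X : Polynomial (Ru φ f v))).rTensor M
      ((Polynomial.CAlgHom (R := A) (A := Ru φ f v)).toLinearMap.rTensor M z)) = z := by
  induction z using TensorProduct.induction_on with
  | zero => simp
  | tmul r m =>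
    simp only [LinearMap.rTensor_tmul, AlgHom.toLinearMap_apply, LinearMap.mulLeft_apply]
    show ((Polynomial.X * Polynomial.C r : Polynomial (Ru φ f v)).coeff 1) ⊗ₜ[A] m = r ⊗ₜ[A] m
    rw [Polynomial.coeff_X_mul, Polynomial.coeff_C_zero]
  | add x y hx hy => simp only [map_add, hx, hy]

end Univ

/-- **Extension lemma.**  Let `L` be (pointwise) the kernel of `underline P → underline P'` with `P'` free.
For a morphism `ψ : L ⟶ underline M` and finitely many elements `v i` of `P` there are `m i ∈ M` such that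
`ψ` sends every element of `L(B)` of the form `∑ b i ⊗ v i` to `∑ b i ⊗ m i`. -/
theorem ext_lemma {P P' M : ModuleCat.{u+1} A} (φ₀ : P ⟶ P') {K' : Type w} (f : Basis K' A P')
    {L : Adeq.MVF A} (ι : L ⟶ (Adeq.underline A).obj P)
    (w0 : ι ≫ (Adeq.underline A).map φ₀ = 0)
    (hinj : ∀ B : Adeq.Alg A, Function.Injective (ι.app (Adeq.pt B)))
    (hex : ∀ (B : Adeq.Alg A) (x : B ⊗[A] P), φ₀.hom.baseChange B x = 0 →
      ∃ y : L.obj (Adeq.pt B), ι.app (Adeq.pt B) y = x)
    (ψ : L ⟶ (Adeq.underline A).obj M) {n : ℕ} (v : Fin n → P) :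
    ∃ m : Fin n → M, ∀ (B : Adeq.Alg A) (b : Fin n → B) (y : L.obj (Adeq.pt B)),
      ι.app (Adeq.pt B) y = (∑ i, b i ⊗ₜ[A] v i : B ⊗[A] P) →
      ψ.app (Adeq.pt B) y = (∑ i, b i ⊗ₜ[A] m i : B ⊗[A] M) := by
  classical
  let R := Ru φ₀.hom f v
  let RB : Adeq.Alg A := Adeq.algOf A R
  let TB : Adeq.Alg A := Adeq.algOf A (Polynomial R)
  obtain ⟨yu, hyu⟩ := hex RB (ξu φ₀.hom f v) (ξu_ker φ₀.hom f v)
  let ft' : RB ⟶ TB := CommAlgCat.ofHom (ftHom φ₀.hom f v)
  let incl' : RB ⟶ TB := CommAlgCat.ofHom (Polynomial.CAlgHom (R := A) (A := R))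
  obtain ⟨η, hηdef⟩ : ∃ η : R ⊗[A] M, ψ.app (Adeq.pt RB) yu = η := ⟨_, rfl⟩
  let tX : (TB : Type u) := (Polynomial.X : Polynomial R)
  -- key identity in `L(R[t])`
  have key : (L.map (Adeq.ptHom ft') yu : L.obj (Adeq.pt TB)) =
      tX • (L.map (Adeq.ptHom incl') yu : L.obj (Adeq.pt TB)) := by
    apply hinj TB
    have e1 : ι.app (Adeq.pt TB) (L.map (Adeq.ptHom ft') yu) =
        (∑ i, (Polynomial.X * Polynomial.C (xu φ₀.hom f v i)) ⊗ₜ[A] v i : Polynomial R ⊗[A] P) := by
      rw [PresheafOfModules.naturality_apply ι (Adeq.ptHom ft') yu, hyu, u_obj_map_apply]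
      show (ftHom φ₀.hom f v).toLinearMap.rTensor P (ξu φ₀.hom f v) = _
      refine (rTensor_ξu φ₀.hom f v (ftHom φ₀.hom f v)).trans ?_
      exact Finset.sum_congr rfl (fun i _ => congrArg (fun t => t ⊗ₜ[A] v i) (ftHom_xu φ₀.hom f v i))
    have e2 : ι.app (Adeq.pt TB) (tX • (L.map (Adeq.ptHom incl') yu : L.obj (Adeq.pt TB))) =
        (∑ i, (Polynomial.X * Polynomial.C (xu φ₀.hom f v i)) ⊗ₜ[A] v i : Polynomial R ⊗[A] P) := by
      have h0 : ι.app (Adeq.pt TB) (tX • (L.map (Adeq.ptHom incl') yu : L.obj (Adeq.pt TB))) =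
          tX • ι.app (Adeq.pt TB) (L.map (Adeq.ptHom incl') yu) :=
        (ι.app (Adeq.pt TB)).hom.map_smul _ _
      rw [h0, PresheafOfModules.naturality_apply ι (Adeq.ptHom incl') yu, hyu, u_obj_map_apply]
      show (Polynomial.X : Polynomial R) •
        ((Polynomial.CAlgHom (R := A) (A := R)).toLinearMap.rTensor P (ξu φ₀.hom f v)) = _
      have h3 := rTensor_ξu φ₀.hom f v (Polynomial.CAlgHom (R := A) (A := R))
      refine (congrArg (fun t => (Polynomial.X : Polynomial R) • t) h3).trans ?_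
      refine (Finset.smul_sum).trans ?_
      exact Finset.sum_congr rfl (fun i _ => (TensorProduct.smul_tmul' _ _ _).trans rfl)
    exact e1.trans e2.symm
  -- apply ψ
  have hψ1 : ψ.app (Adeq.pt TB) (L.map (Adeq.ptHom ft') yu) =
      ((ftHom φ₀.hom f v).toLinearMap.rTensor M η : Polynomial R ⊗[A] M) := by
    rw [PresheafOfModules.naturality_apply ψ (Adeq.ptHom ft') yu, hηdef, u_obj_map_apply]
    rfl
  have hψ2 : ψ.app (Adeq.pt TB) (tX • (L.map (Adeq.ptHom incl') yu : L.obj (Adeq.pt TB))) =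
      ((Polynomial.X : Polynomial R) •
        ((Polynomial.CAlgHom (R := A) (A := R)).toLinearMap.rTensor M η) : Polynomial R ⊗[A] M) := by
    have h0 : ψ.app (Adeq.pt TB) (tX • (L.map (Adeq.ptHom incl') yu : L.obj (Adeq.pt TB))) =
        tX • ψ.app (Adeq.pt TB) (L.map (Adeq.ptHom incl') yu) :=
      (ψ.app (Adeq.pt TB)).hom.map_smul _ _
    rw [h0, PresheafOfModules.naturality_apply ψ (Adeq.ptHom incl') yu, hηdef, u_obj_map_apply]
    rfl
  have star : ((ftHom φ₀.hom f v).toLinearMap.rTensor M η : Polynomial R ⊗[A] M) =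
      (Polynomial.X : Polynomial R) •
        ((Polynomial.CAlgHom (R := A) (A := R)).toLinearMap.rTensor M η) := by
    rw [← hψ1, ← hψ2, key]
  have hη : η = (c1 φ₀.hom f v).rTensor M ((ftHom φ₀.hom f v).toLinearMap.rTensor M η) := by
    rw [star]
    refine ((c1_mulLeft_C φ₀.hom f v η).symm.trans ?_)
    exact congrArg _ (smul_eq_rTensor_mulLeft _ _).symm
  obtain ⟨z, hz⟩ := LinearMap.rTensor_surjective M (qlin_surjective φ₀.hom f v) η
  have hη2 : η = ∑ i, xu φ₀.hom f v i ⊗ₜ[A] mvec z i :=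
    calc η = (c1 φ₀.hom f v).rTensor M ((ftHom φ₀.hom f v).toLinearMap.rTensor M η) := hη
      _ = (c1 φ₀.hom f v).rTensor M ((ftHom φ₀.hom f v).toLinearMap.rTensor M
            ((qlin φ₀.hom f v).rTensor M z)) := by rw [hz]
      _ = _ := tensor_key φ₀.hom f v z
  refine ⟨mvec z, ?_⟩
  intro B b y hy
  have hb : ∀ k, ∑ i, b i * algebraMap A B (coef φ₀.hom f v i k) = 0 := by
    apply (baseChange_sum_eq_zero_iff φ₀.hom f v B b).mp
    have h1 := congrArg (fun k => (k.app (Adeq.pt B)).hom y) w0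
    have h2 : φ₀.hom.baseChange B (ι.app (Adeq.pt B) y : B ⊗[A] P) = 0 := h1
    rw [hy] at h2
    exact h2
  let β : RB ⟶ B := CommAlgCat.ofHom (evalHom φ₀.hom f v B b hb)
  have hy2 : (L.map (Adeq.ptHom β) yu : L.obj (Adeq.pt B)) = y := by
    apply hinj B
    rw [PresheafOfModules.naturality_apply ι (Adeq.ptHom β) yu, hyu, u_obj_map_apply, hy]
    show (evalHom φ₀.hom f v B b hb).toLinearMap.rTensor P (ξu φ₀.hom f v) = _
    rw [rTensor_ξu]
    simp only [evalHom_xu]
  rw [← hy2, PresheafOfModules.naturality_apply ψ (Adeq.ptHom β) yu, hηdef, u_obj_map_apply]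
  show (evalHom φ₀.hom f v B b hb).toLinearMap.rTensor M η = _
  rw [hη2, map_sum]
  refine Finset.sum_congr rfl (fun i _ => ?_)
  rw [LinearMap.rTensor_tmul, AlgHom.toLinearMap_apply, evalHom_xu]


/-- coordinates of an element of `B ⊗ P` in a finite basis of `P` -/
theorem exists_coords {P : Type (u+1)} [AddCommGroup P] [Module A P] {n : ℕ} (e : Basis (Fin n) A P)
    (B : Type u) [CommRing B] [Algebra A B] (x : B ⊗[A] P) :
    ∃ b : Fin n → B, x = ∑ i, b i ⊗ₜ[A] e i := by
  refine ⟨fun i => (Algebra.TensorProduct.basis B e).repr x i, ?_⟩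
  have h := (Algebra.TensorProduct.basis B e).sum_repr x
  rw [← h]
  refine Finset.sum_congr rfl (fun i _ => ?_)
  rw [Algebra.TensorProduct.basis_apply, TensorProduct.smul_tmul', smul_eq_mul, mul_one, h]

theorem main8742 (A : Type u) [CommRing A] (P P' M : ModuleCat.{u + 1} A)
    [Module.Finite A P] [Module.Free A P] [Module.Finite A P'] [Module.Free A P'] (φ₀ : P ⟶ P')
    (φ : kernel ((Adeq.underline A).map φ₀) ⟶ (Adeq.underline A).obj M) :
    ∃ g : P ⟶ M, kernel.ι ((Adeq.underline A).map φ₀) ≫ (Adeq.underline A).map g = φ := by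
  classical
  let e0 := Module.Free.chooseBasis A P
  let e : Basis (Fin (Fintype.card (Module.Free.ChooseBasisIndex A P))) A P :=
    e0.reindex (Fintype.equivFin _)
  let f := Module.Free.chooseBasis A P'
  obtain ⟨m, hm⟩ := ext_lemma φ₀ f (kernel.ι ((Adeq.underline A).map φ₀)) (kernel.condition _)
    (fun B => kernel_ι_inj ((Adeq.underline A).map φ₀) B)
    (fun B x hx => kernel_ι_exists ((Adeq.underline A).map φ₀) B x hx) φ (fun i => e i)
  refine ⟨ModuleCat.ofHom (e.constr A m), ?_⟩
  apply hom_ext_pt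
  intro B y
  obtain ⟨b, hb⟩ := exists_coords e B ((kernel.ι ((Adeq.underline A).map φ₀)).app (Adeq.pt B) y)
  rw [comp_app_apply, hm B b y hb, hb, u_map_app_apply, map_sum]
  refine Finset.sum_congr rfl (fun i _ => ?_)
  rw [LinearMap.baseChange_tmul]
  show b i ⊗ₜ[A] (e.constr A m (e i)) = _
  rw [Basis.constr_basis]

end

end Groth.Agent.Lib.Helper29.AdeqExt
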