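import Mathlib
import Groth.Prelude.Def_Adeq
import Groth.Agent.Lib.Helper29.Adeq0
import Groth.Agent.Lib.Helper29.AdeqExt
import Groth.Agent.Lib.Helper29.AdeqDS

/-!
# Cokernels of maps from adequate functors to `underline M` are adequate
-/

set_option autoImplicit false
universe u
open CategoryTheory Limits Opposite TensorProduct Module DirectSum

namespace Groth.Agent.Lib.Helper29.AdeqCore
open Groth.Agent.Lib.Helper29.Adeq0 Groth.Agent.Lib.Helper29.AdeqExt Groth.Agent.Lib.Helper29.AdeqDS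

noncomputable section
variable {A : Type u} [CommRing A]

/-- coordinates of an element of `B ⊗ P` in a finite basis of `P` -/
theorem exists_coords' {P : Type*} [AddCommGroup P] [Module A P] {n : ℕ} (e : Basis (Fin n) A P)
    (B : Type u) [CommRing B] [Algebra A B] (x : B ⊗[A] P) :
    ∃ b : Fin n → B, x = ∑ i, b i ⊗ₜ[A] e i := by
  refine ⟨fun i => (Algebra.TensorProduct.basis B e).repr x i, ?_⟩
  have h := (Algebra.TensorProduct.basis B e).sum_repr x
  rw [← h]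
  refine Finset.sum_congr rfl (fun i _ => ?_)
  rw [Algebra.TensorProduct.basis_apply, TensorProduct.smul_tmul', smul_eq_mul, mul_one, h]

/-- **Resolution lemma**: an element of the kernel of `B ⊗ M₀ → B ⊗ N₀` comes from a finite free
presentation. -/
theorem res_lemma {M₀ N₀ : Type (u+1)} [AddCommGroup M₀] [Module A M₀] [AddCommGroup N₀] [Module A N₀]
    (α : M₀ →ₗ[A] N₀) (B : Type u) [CommRing B] [Algebra A B] (x : B ⊗[A] M₀)
    (hx : α.baseChange B x = 0) :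
    ∃ (n : ℕ) (μ : Fin n → M₀) (ω : Fin n → (N₀ →₀ A)) (b : Fin n → B),
      (∀ i, Finsupp.linearCombination A (id : N₀ → N₀) (ω i) = α (μ i)) ∧
      (∑ i, b i ⊗ₜ[A] ω i = (0 : B ⊗[A] (N₀ →₀ A))) ∧
      x = ∑ i, b i ⊗ₜ[A] μ i := by
  classical
  obtain ⟨k, b', m, rfl⟩ := TensorProduct.exists_sum_tmul_eq x
  let π : (N₀ →₀ A) →ₗ[A] N₀ := Finsupp.linearCombination A id
  have hπ : Function.Surjective π := fun y =>
    ⟨Finsupp.single y 1, by simp [π, Finsupp.linearCombination_single]⟩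
  let w : B ⊗[A] (N₀ →₀ A) := ∑ j, b' j ⊗ₜ[A] Finsupp.single (α (m j)) (1 : A)
  have hw : π.baseChange B w = 0 := by
    rw [← hx]
    simp only [w, π, map_sum, LinearMap.baseChange_tmul, Finsupp.linearCombination_single, one_smul,
      id]
  have hexact : Function.Exact (LinearMap.ker π).subtype π := LinearMap.exact_subtype_ker_map π
  obtain ⟨z, hz⟩ := @bc_exact A _ B _ _ (LinearMap.ker π) (N₀ →₀ A) N₀ _ _ _ _ _ _
    (LinearMap.ker π).subtype π hexact hπ w hw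
  obtain ⟨r, c, ρ, rfl⟩ := TensorProduct.exists_sum_tmul_eq z
  refine ⟨k + r, Fin.addCases m (fun _ => 0),
    Fin.addCases (fun j => Finsupp.single (α (m j)) 1) (fun l => -((ρ l : LinearMap.ker π) : N₀ →₀ A)),
    Fin.addCases b' c, ?_, ?_, ?_⟩
  · intro i
    refine Fin.addCases (fun j => ?_) (fun l => ?_) i
    · simp only [Fin.addCases_left]
      rw [Finsupp.linearCombination_single, one_smul, id]
    · simp only [Fin.addCases_right]
      rw [map_neg, map_zero]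
      have h := (ρ l).2
      rw [LinearMap.mem_ker] at h
      show -(π (ρ l : N₀ →₀ A)) = 0
      rw [h, neg_zero]
  · rw [Fin.sum_univ_add]
    simp only [Fin.addCases_left, Fin.addCases_right]
    have h1 : ∑ l, c l ⊗ₜ[A] (-((ρ l : LinearMap.ker π) : N₀ →₀ A)) =
        -((LinearMap.ker π).subtype.baseChange B (∑ l, c l ⊗ₜ[A] ρ l)) := by
      rw [map_sum, ← Finset.sum_neg_distrib]
      refine Finset.sum_congr rfl (fun l _ => ?_)
      rw [LinearMap.baseChange_tmul, TensorProduct.tmul_neg]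
      rfl
    rw [h1, hz]
    exact add_neg_cancel _
  · rw [Fin.sum_univ_add]
    simp only [Fin.addCases_left, Fin.addCases_right, TensorProduct.tmul_zero,
      Finset.sum_const_zero, add_zero]


/-- **Block extension lemma.**  For a block-diagonal map `⨁ A^{n σ} → ⨁ V' σ` with free targets, every
morphism from the kernel functor to `underline M` extends to `underline (⨁ A^{n σ})`. -/
theorem block_ext {Ξ : Type (u+1)} (n : Ξ → ℕ) (V' : Ξ → Type (u+1)) [∀ σ, AddCommGroup (V' σ)]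
    [∀ σ, Module A (V' σ)] {K' : Ξ → Type (u+1)} (f : ∀ σ, Basis (K' σ) A (V' σ))
    (φσ : ∀ σ, (Fin (n σ) →₀ A) →ₗ[A] V' σ) {M : Type (u+1)} [AddCommGroup M] [Module A M]
    {L : Adeq.MVF A}
    (ι : L ⟶ (Adeq.underline A).obj (ModuleCat.of A (⨁ σ, (Fin (n σ) →₀ A))))
    (w0 : ι ≫ (Adeq.underline A).map (ModuleCat.ofHom (DirectSum.lmap φσ)) = 0)
    (hinj : ∀ B : Adeq.Alg A, Function.Injective (ι.app (Adeq.pt B)))
    (hex : ∀ (B : Adeq.Alg A) (x : B ⊗[A] (⨁ σ, (Fin (n σ) →₀ A))),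
      (DirectSum.lmap φσ).baseChange B x = 0 → ∃ y : L.obj (Adeq.pt B), ι.app (Adeq.pt B) y = x)
    (ψ : L ⟶ (Adeq.underline A).obj (ModuleCat.of A M)) :
    ∃ g : (⨁ σ, (Fin (n σ) →₀ A)) →ₗ[A] M,
      ι ≫ (Adeq.underline A).map (ModuleCat.ofHom g) = ψ := by
  classical
  let fB : Basis (Σ σ, K' σ) A (⨁ σ, V' σ) := DFinsupp.basis f
  let v : ∀ σ, Fin (n σ) → (⨁ σ, (Fin (n σ) →₀ A)) := fun σ i =>
    DirectSum.lof A Ξ (fun σ => Fin (n σ) →₀ A) σ (Finsupp.single i 1)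
  have hm : ∀ σ, ∃ m : Fin (n σ) → M, ∀ (B : Adeq.Alg A) (b : Fin (n σ) → B)
      (y : L.obj (Adeq.pt B)),
      ι.app (Adeq.pt B) y = (∑ i, b i ⊗ₜ[A] v σ i : B ⊗[A] (⨁ σ, (Fin (n σ) →₀ A))) →
      ψ.app (Adeq.pt B) y = (∑ i, b i ⊗ₜ[A] m i : B ⊗[A] M) := fun σ =>
    ext_lemma (P := ModuleCat.of A (⨁ σ, (Fin (n σ) →₀ A))) (P' := ModuleCat.of A (⨁ σ, V' σ))
      (M := ModuleCat.of A M) (ModuleCat.ofHom (DirectSum.lmap φσ)) fB ι w0 hinj hex ψ (v σ)
  choose m hm using hm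
  let g : (⨁ σ, (Fin (n σ) →₀ A)) →ₗ[A] M :=
    DirectSum.toModule A Ξ M (fun σ => Finsupp.linearCombination A (m σ))
  have hg : ∀ σ i, g (v σ i) = m σ i := by
    intro σ i
    show DirectSum.toModule A Ξ M (fun σ => Finsupp.linearCombination A (m σ))
      (DirectSum.lof A Ξ (fun σ => Fin (n σ) →₀ A) σ (Finsupp.single i (1 : A))) = _
    rw [DirectSum.toModule_lof, Finsupp.linearCombination_single, one_smul]
  refine ⟨g, ?_⟩
  apply hom_ext_pt
  intro B y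
  let prσ : Ξ → ((⨁ σ, (Fin (n σ) →₀ A)) →ₗ[A] (⨁ σ, (Fin (n σ) →₀ A))) := fun σ =>
    DirectSum.lof A Ξ (fun σ => Fin (n σ) →₀ A) σ ∘ₗ
      DirectSum.component A Ξ (fun σ => Fin (n σ) →₀ A) σ
  let pr'σ : Ξ → ((⨁ σ, V' σ) →ₗ[A] (⨁ σ, V' σ)) := fun σ =>
    DirectSum.lof A Ξ V' σ ∘ₗ DirectSum.component A Ξ V' σ
  have hcomm : ∀ σ, (DirectSum.lmap φσ) ∘ₗ prσ σ = pr'σ σ ∘ₗ (DirectSum.lmap φσ) := by
    intro σ
    refine LinearMap.ext (fun x => ?_)
    show DirectSum.lmap φσ (DirectSum.lof A Ξ _ σ (x σ)) =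
      DirectSum.lof A Ξ _ σ ((DirectSum.lmap φσ x) σ)
    rw [DirectSum.lmap_lof]
    rfl
  obtain ⟨x, hxdef⟩ : ∃ x : B ⊗[A] (⨁ σ, (Fin (n σ) →₀ A)), ι.app (Adeq.pt B) y = x := ⟨_, rfl⟩
  have hx0 : (DirectSum.lmap φσ).baseChange B x = 0 := by
    have h1 := congrArg (fun k => (k.app (Adeq.pt B)).hom y) w0
    rw [← hxdef]
    exact h1
  obtain ⟨s, hs⟩ := ds_decomp B (fun σ => Fin (n σ) →₀ A) x
  have hs' : x = ∑ σ ∈ s, (prσ σ).baseChange B x := hs s (Finset.Subset.refl _)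
  have hblock : ∀ σ, ∃ yσ : L.obj (Adeq.pt B),
      ι.app (Adeq.pt B) yσ = ((prσ σ).baseChange B x) ∧
      ψ.app (Adeq.pt B) yσ = (g.baseChange B ((prσ σ).baseChange B x) : B ⊗[A] M) := by
    intro σ
    have hk : (DirectSum.lmap φσ).baseChange B ((prσ σ).baseChange B x) = 0 := by
      rw [← bc_comp_apply, hcomm σ, bc_comp_apply, hx0, map_zero]
    obtain ⟨yσ, hyσ⟩ := hex B _ hk
    refine ⟨yσ, hyσ, ?_⟩
    obtain ⟨bσ, hbσ⟩ := exists_coords' (Finsupp.basisSingleOne (R := A) (ι := Fin (n σ))) B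
      ((DirectSum.component A Ξ (fun σ => Fin (n σ) →₀ A) σ).baseChange B x)
    have hxσ : (prσ σ).baseChange B x = ∑ i, bσ i ⊗ₜ[A] v σ i := by
      show ((DirectSum.lof A Ξ (fun σ => Fin (n σ) →₀ A) σ) ∘ₗ
        (DirectSum.component A Ξ (fun σ => Fin (n σ) →₀ A) σ)).baseChange B x = _
      rw [bc_comp_apply, hbσ, map_sum]
      refine Finset.sum_congr rfl (fun i _ => ?_)
      rw [LinearMap.baseChange_tmul]
      simp only [Finsupp.coe_basisSingleOne]
      rfl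
    rw [hm σ B bσ yσ (hyσ.trans hxσ), hxσ, map_sum]
    refine Finset.sum_congr rfl (fun i _ => ?_)
    rw [LinearMap.baseChange_tmul, hg]
  choose yσ h1 h2 using hblock
  have hy : y = ∑ σ ∈ s, yσ σ := by
    apply hinj B
    rw [map_sum, Finset.sum_congr rfl (fun σ _ => h1 σ), hxdef]
    exact hs'
  rw [comp_app_apply, u_map_app_apply, hxdef]
  show g.baseChange B x = ψ.app (Adeq.pt B) y
  rw [hy, map_sum, Finset.sum_congr rfl (fun σ _ => h2 σ)]
  exact (congrArg (g.baseChange B) hs').trans (map_sum _ _ _)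


/-- the block map as a morphism of `ModuleCat` -/
abbrev blockHom {Ξ : Type (u+1)} {n : Ξ → ℕ} {V' : Ξ → Type (u+1)} [∀ σ, AddCommGroup (V' σ)]
    [∀ σ, Module A (V' σ)] (φσ : ∀ σ, (Fin (n σ) →₀ A) →ₗ[A] V' σ) :
    ModuleCat.of A (⨁ σ, (Fin (n σ) →₀ A)) ⟶ ModuleCat.of A (⨁ σ, V' σ) :=
  ModuleCat.ofHom (DirectSum.lmap φσ)

/-- **Resolution**: an adequate functor is pointwise a quotient of a block-diagonal kernel functor. -/
theorem exists_resolution {F : Adeq.MVF A} {M₀ N₀ : ModuleCat.{u+1} A} (α : M₀ ⟶ N₀)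
    (ιF : F ⟶ (Adeq.underline A).obj M₀) (wF : ιF ≫ (Adeq.underline A).map α = 0)
    (hinjF : ∀ B : Adeq.Alg A, Function.Injective (ιF.app (Adeq.pt B)))
    (hliftF : ∀ (G : Adeq.MVF A) (t : G ⟶ (Adeq.underline A).obj M₀),
      t ≫ (Adeq.underline A).map α = 0 → ∃ l : G ⟶ F, l ≫ ιF = t) :
    ∃ (Ξ : Type (u+1)) (n : Ξ → ℕ) (φσ : ∀ σ, (Fin (n σ) →₀ A) →ₗ[A] ((N₀ : Type (u+1)) →₀ A))
      (lam : kernel ((Adeq.underline A).map (blockHom φσ)) ⟶ F),
      ∀ B : Adeq.Alg A, Function.Surjective (lam.app (Adeq.pt B)) := by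
  classical
  let Ξ : Type (u+1) := Σ B : Adeq.Alg A, F.obj (Adeq.pt B)
  have hres : ∀ σ : Ξ, ∃ (n : ℕ) (μ : Fin n → M₀) (ω : Fin n → ((N₀ : Type (u+1)) →₀ A))
      (b : Fin n → σ.1),
      (∀ i, Finsupp.linearCombination A (id : N₀ → N₀) (ω i) = α.hom (μ i)) ∧
      (∑ i, b i ⊗ₜ[A] ω i = (0 : σ.1 ⊗[A] ((N₀ : Type (u+1)) →₀ A))) ∧
      (ιF.app (Adeq.pt σ.1) σ.2 : σ.1 ⊗[A] M₀) = ∑ i, b i ⊗ₜ[A] μ i := fun σ =>
    res_lemma α.hom σ.1 (ιF.app (Adeq.pt σ.1) σ.2) (by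
      have h := congrArg (fun k => (k.app (Adeq.pt σ.1)).hom σ.2) wF
      exact h)
  choose n μ ω b h1 h2 h3 using hres
  let φσ : ∀ σ, (Fin (n σ) →₀ A) →ₗ[A] ((N₀ : Type (u+1)) →₀ A) := fun σ =>
    Finsupp.linearCombination A (ω σ)
  let pM : (⨁ σ, (Fin (n σ) →₀ A)) →ₗ[A] M₀ :=
    DirectSum.toModule A Ξ M₀ (fun σ => Finsupp.linearCombination A (μ σ))
  let pN : (⨁ _σ : Ξ, ((N₀ : Type (u+1)) →₀ A)) →ₗ[A] N₀ :=
    DirectSum.toModule A Ξ N₀ (fun _ => Finsupp.linearCombination A id)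
  have hpM : ∀ σ i, pM (DirectSum.lof A Ξ (fun σ => Fin (n σ) →₀ A) σ (Finsupp.single i (1 : A))) =
      μ σ i := by
    intro σ i
    show DirectSum.toModule A Ξ M₀ (fun σ => Finsupp.linearCombination A (μ σ))
      (DirectSum.lof A Ξ (fun σ => Fin (n σ) →₀ A) σ (Finsupp.single i (1 : A))) = _
    rw [DirectSum.toModule_lof, Finsupp.linearCombination_single, one_smul]
  have hφ : ∀ σ i, DirectSum.lmap φσ
      (DirectSum.lof A Ξ (fun σ => Fin (n σ) →₀ A) σ (Finsupp.single i (1 : A))) =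
      DirectSum.lof A Ξ (fun _ => ((N₀ : Type (u+1)) →₀ A)) σ (ω σ i) := by
    intro σ i
    rw [DirectSum.lmap_lof]
    show DirectSum.lof A Ξ (fun _ => ((N₀ : Type (u+1)) →₀ A)) σ
      (Finsupp.linearCombination A (ω σ) (Finsupp.single i (1 : A))) = _
    rw [Finsupp.linearCombination_single, one_smul]
  have hcomm : α.hom ∘ₗ pM = pN ∘ₗ DirectSum.lmap φσ := by
    apply DirectSum.linearMap_ext
    intro σ
    apply Finsupp.lhom_ext'
    intro i
    apply LinearMap.ext_ring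
    show α.hom (pM (DirectSum.lof A Ξ (fun σ => Fin (n σ) →₀ A) σ (Finsupp.single i (1 : A)))) =
      pN (DirectSum.lmap φσ
        (DirectSum.lof A Ξ (fun σ => Fin (n σ) →₀ A) σ (Finsupp.single i (1 : A))))
    rw [hpM, hφ]
    show _ = DirectSum.toModule A Ξ N₀ (fun _ => Finsupp.linearCombination A id)
      (DirectSum.lof A Ξ (fun _ => ((N₀ : Type (u+1)) →₀ A)) σ (ω σ i))
    rw [DirectSum.toModule_lof, h1]
  let Φ := blockHom φσ
  have hzero : (kernel.ι ((Adeq.underline A).map Φ) ≫ (Adeq.underline A).map (ModuleCat.ofHom pM)) ≫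
      (Adeq.underline A).map α = 0 := by
    have e : ModuleCat.ofHom pM ≫ α = Φ ≫ ModuleCat.ofHom pN := ModuleCat.hom_ext hcomm
    rw [Category.assoc, ← Functor.map_comp, e, Functor.map_comp, ← Category.assoc,
      kernel.condition, zero_comp]
  obtain ⟨lam, hlam⟩ := hliftF _ _ hzero
  refine ⟨Ξ, n, φσ, lam, ?_⟩
  intro B y
  let σ : Ξ := ⟨B, y⟩
  let t : B ⊗[A] (⨁ σ, (Fin (n σ) →₀ A)) :=
    ∑ i, b σ i ⊗ₜ[A] DirectSum.lof A Ξ (fun σ => Fin (n σ) →₀ A) σ (Finsupp.single i (1 : A))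
  have ht : (DirectSum.lmap φσ).baseChange B t = 0 := by
    have h := congrArg ((DirectSum.lof A Ξ (fun _ => ((N₀ : Type (u+1)) →₀ A)) σ).baseChange B) (h2 σ)
    rw [map_sum, map_zero] at h
    rw [← h]
    show (DirectSum.lmap φσ).baseChange B (∑ i, b σ i ⊗ₜ[A] DirectSum.lof A Ξ
      (fun σ => Fin (n σ) →₀ A) σ (Finsupp.single i (1 : A))) = _
    rw [map_sum]
    refine Finset.sum_congr rfl (fun i _ => ?_)
    rw [LinearMap.baseChange_tmul, LinearMap.baseChange_tmul, hφ]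
  obtain ⟨y', hy'⟩ := kernel_ι_exists ((Adeq.underline A).map Φ) B t ht
  refine ⟨y', ?_⟩
  apply hinjF B
  have e1 := congrArg (fun k => (k.app (Adeq.pt B)).hom y') hlam
  refine (e1.trans ?_)
  show pM.baseChange B ((kernel.ι ((Adeq.underline A).map Φ)).app (Adeq.pt B) y') = _
  rw [hy']
  refine Eq.trans ?_ (h3 σ).symm
  show pM.baseChange B (∑ i, b σ i ⊗ₜ[A] DirectSum.lof A Ξ
      (fun σ => Fin (n σ) →₀ A) σ (Finsupp.single i (1 : A))) = _
  rw [map_sum]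
  refine Finset.sum_congr rfl (fun i _ => ?_)
  rw [LinearMap.baseChange_tmul, hpM]

/-- Core theorem, abstract form. -/
theorem coker_adequate_aux {F : Adeq.MVF A} {M : ModuleCat.{u+1} A}
    (ψ : F ⟶ (Adeq.underline A).obj M) {P P' : ModuleCat.{u+1} A} (Φ : P ⟶ P')
    (lam : kernel ((Adeq.underline A).map Φ) ⟶ F)
    (hlam : ∀ B : Adeq.Alg A, Function.Surjective (lam.app (Adeq.pt B)))
    (g : P ⟶ M)
    (hg : kernel.ι ((Adeq.underline A).map Φ) ≫ (Adeq.underline A).map g = lam ≫ ψ) :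
    Adeq.adequate A (cokernel ψ) := by
  classical
  let iQ' : M ⟶ ModuleCat.of A (QQ g.hom Φ.hom) := ModuleCat.ofHom (iQ g.hom Φ.hom)
  let out' : ModuleCat.of A (QQ g.hom Φ.hom) ⟶ ModuleCat.of A (PP Φ.hom) :=
    ModuleCat.ofHom (outQ g.hom Φ.hom)
  have hgy : ∀ (B : Adeq.Alg A) (y' : (kernel ((Adeq.underline A).map Φ)).obj (Adeq.pt B)),
      ψ.app (Adeq.pt B) (lam.app (Adeq.pt B) y') =
        (g.hom.baseChange B ((kernel.ι ((Adeq.underline A).map Φ)).app (Adeq.pt B) y') :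
          B ⊗[A] M) := by
    intro B y'
    have e := congrArg (fun k => (k.app (Adeq.pt B)).hom y') hg
    exact e.symm
  have hψ0 : ψ ≫ (Adeq.underline A).map iQ' = 0 := by
    apply hom_ext_pt
    intro B y
    obtain ⟨y', rfl⟩ := hlam B y
    rw [comp_app_apply, hgy]
    exact iQ_bc_eq_zero_of g.hom Φ.hom B _ (kernel_condition_apply _ B y')
  let j := cokernel.desc ψ ((Adeq.underline A).map iQ') hψ0
  have hjπ : ∀ (B : Adeq.Alg A) (m : B ⊗[A] M),
      j.app (Adeq.pt B) ((cokernel.π ψ).app (Adeq.pt B) m) = (iQ g.hom Φ.hom).baseChange B m := by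
    intro B m
    have e := congrArg (fun k => (k.app (Adeq.pt B)).hom m) (cokernel.π_desc ψ _ hψ0)
    exact e
  apply adequate_of_exact (cokernel ψ) out' j
  · apply hom_ext_pt
    intro B c
    obtain ⟨m, rfl⟩ := coker_surj ψ B c
    rw [comp_app_apply, hjπ, u_map_app_apply]
    show (outQ g.hom Φ.hom).baseChange B ((iQ g.hom Φ.hom).baseChange B m) = 0
    rw [← bc_comp_apply, outQ_iQ, bc_zero_apply]
  · intro B c c' h
    obtain ⟨m, rfl⟩ := coker_surj ψ B c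
    obtain ⟨m', rfl⟩ := coker_surj ψ B c'
    rw [hjπ, hjπ] at h
    have key : ∀ m₁ m₂ : B ⊗[A] M,
        (iQ g.hom Φ.hom).baseChange B m₁ = (iQ g.hom Φ.hom).baseChange B m₂ →
        (cokernel.π ψ).app (Adeq.pt B) m₁ = (cokernel.π ψ).app (Adeq.pt B) m₂ := by
      intro m₁ m₂ h
      have h' : (iQ g.hom Φ.hom).baseChange B (m₁ - m₂) = 0 := by
        rw [map_sub, h, sub_self]
      obtain ⟨z, hz1, hz2⟩ := exists_of_iQ_bc_eq_zero g.hom Φ.hom B _ h'
      obtain ⟨y', hy'⟩ := kernel_ι_exists ((Adeq.underline A).map Φ) B z hz1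
      have h3 : m₁ - m₂ = ψ.app (Adeq.pt B) (lam.app (Adeq.pt B) y') := by
        rw [hgy, hy', hz2]
      have h4 := coker_condition_apply ψ B (lam.app (Adeq.pt B) y')
      exact sub_eq_zero.mp (((map_sub ((cokernel.π ψ).app (Adeq.pt B)).hom m₁ m₂).symm.trans
        (congrArg ((cokernel.π ψ).app (Adeq.pt B)).hom h3)).trans h4)
    exact key m m' h
  · intro B q hq
    obtain ⟨m, hm⟩ := exists_of_outQ_bc_eq_zero g.hom Φ.hom B q hq
    exact ⟨(cokernel.π ψ).app (Adeq.pt B) m, (hjπ B m).trans hm⟩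

/-- **Core theorem**: the cokernel of a morphism from an adequate functor to `underline M` is adequate. -/
theorem coker_adequate {F : Adeq.MVF A} (hF : Adeq.adequate A F) {M : ModuleCat.{u+1} A}
    (ψ : F ⟶ (Adeq.underline A).obj M) : Adeq.adequate A (cokernel ψ) := by
  classical
  obtain ⟨M₀, N₀, α, ιF, wF, hinjF, -, hliftF⟩ := adequate_unpack' hF
  obtain ⟨Ξ, n, φσ, lam, hlam⟩ := exists_resolution α ιF wF hinjF hliftF
  obtain ⟨g, hg⟩ := block_ext (M := (M : Type (u+1))) n (fun _ => ((N₀ : Type (u+1)) →₀ A))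
    (K' := fun _ => (N₀ : Type (u+1)))
    (fun _ => Finsupp.basisSingleOne) φσ
    (kernel.ι ((Adeq.underline A).map (blockHom φσ))) (kernel.condition _)
    (fun B => kernel_ι_inj ((Adeq.underline A).map (blockHom φσ)) B)
    (fun B x hx => kernel_ι_exists ((Adeq.underline A).map (blockHom φσ)) B x hx) (lam ≫ ψ)
  exact coker_adequate_aux ψ (blockHom φσ) lam hlam (ModuleCat.ofHom g) hg

end

end Groth.Agent.Lib.Helper29.AdeqCore
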