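import Mathlib
import Groth.Prelude.Def_Adeq
import Groth.Agent.Lib.Helper29.Adeq0
import Groth.Agent.Lib.Helper29.AdeqDS
import Groth.Agent.Lib.Helper29.AdeqCore

/-!
# Kernels and cokernels of maps of adequate functors are adequate
-/

set_option autoImplicit false
universe u
open CategoryTheory Limits Opposite TensorProduct

namespace Groth.Agent.Lib.Helper29.AdeqAb
open Groth.Agent.Lib.Helper29.Adeq0 Groth.Agent.Lib.Helper29.AdeqDS Groth.Agent.Lib.Helper29.AdeqCore

noncomputable section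
variable {A : Type u} [CommRing A]

/-- components of a morphism between `underline`s as honest linear maps -/
def appLin {X Y : ModuleCat.{u+1} A} (t : (Adeq.underline A).obj X ⟶ (Adeq.underline A).obj Y)
    (B : Adeq.Alg A) : (B ⊗[A] X) →ₗ[B] (B ⊗[A] Y) := (t.app (Adeq.pt B)).hom

theorem appLin_nat {X Y : ModuleCat.{u+1} A}
    (t : (Adeq.underline A).obj X ⟶ (Adeq.underline A).obj Y)
    {B B' : Adeq.Alg A} (f : B ⟶ B') (z : B ⊗[A] X) :
    appLin t B' (f.hom.toLinearMap.rTensor X z) = f.hom.toLinearMap.rTensor Y (appLin t B z) :=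
  PresheafOfModules.naturality_apply t (Adeq.ptHom f) z

theorem u_full_aux {X Y : ModuleCat.{u+1} A}
    (t : (Adeq.underline A).obj X ⟶ (Adeq.underline A).obj Y) (A₀ : Adeq.Alg A)
    (ε : (A₀ ⊗[A] Y) →ₗ[A] Y) (hε : ∀ w : A₀ ⊗[A] Y, w = (1 : A₀) ⊗ₜ[A] ε w)
    (η : ∀ B : Adeq.Alg A, A₀ ⟶ B) :
    ∃ β : X ⟶ Y, (Adeq.underline A).map β = t := by
  let β₀ : X →ₗ[A] Y :=
    ε ∘ₗ ((appLin t A₀).restrictScalars A) ∘ₗ (TensorProduct.mk A A₀ X (1 : A₀))
  have hβ₀ : ∀ x : X, β₀ x = ε (appLin t A₀ ((1 : A₀) ⊗ₜ[A] x)) := fun x => rfl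
  have h1 : ∀ (B : Adeq.Alg A) (x : X),
      appLin t B ((1 : B) ⊗ₜ[A] x) = (1 : B) ⊗ₜ[A] β₀ x := by
    intro B x
    have h := appLin_nat t (η B) ((1 : A₀) ⊗ₜ[A] x)
    rw [LinearMap.rTensor_tmul, AlgHom.toLinearMap_apply, map_one] at h
    rw [h, hβ₀]
    refine (congrArg ((η B).hom.toLinearMap.rTensor Y)
      (hε (appLin t A₀ ((1 : A₀) ⊗ₜ[A] x)))).trans ?_
    rw [LinearMap.rTensor_tmul, AlgHom.toLinearMap_apply, map_one]
  have hb : ∀ (B : Adeq.Alg A) (b : B) (x : X),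
      appLin t B (b ⊗ₜ[A] x) = b ⊗ₜ[A] β₀ x := by
    intro B b x
    have e : b ⊗ₜ[A] x = b • ((1 : B) ⊗ₜ[A] x) := by
      rw [TensorProduct.smul_tmul', smul_eq_mul, mul_one]
    rw [e, map_smul, h1 B x, TensorProduct.smul_tmul', smul_eq_mul, mul_one]
  refine ⟨ModuleCat.ofHom β₀, ?_⟩
  apply hom_ext_pt
  intro B z
  have key : ∀ z : B ⊗[A] X, β₀.baseChange B z = appLin t B z := by
    intro z
    induction z using TensorProduct.induction_on with
    | zero => rw [map_zero, map_zero]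
    | tmul b x => rw [LinearMap.baseChange_tmul, hb]
    | add z₁ z₂ h₁ h₂ => rw [map_add, map_add, h₁, h₂]
  exact key z

/-- `underline` is full. -/
theorem u_full {X Y : ModuleCat.{u+1} A}
    (t : (Adeq.underline A).obj X ⟶ (Adeq.underline A).obj Y) :
    ∃ β : X ⟶ Y, (Adeq.underline A).map β = t := by
  have E1 : ∀ w : A ⊗[A] Y, w = (1 : A) ⊗ₜ[A] (TensorProduct.lid A Y w) := fun w =>
    ((TensorProduct.lid A Y).symm_apply_apply w).symm.trans (TensorProduct.lid_symm_apply _)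
  exact u_full_aux t (Adeq.algOf A A) (TensorProduct.lid A Y).toLinearMap E1
    (fun B => CommAlgCat.ofHom (Algebra.ofId A B))

/-- pairing of two morphisms into `underline`s -/
def pairU {F : Adeq.MVF A} {M N : ModuleCat.{u+1} A} (a : F ⟶ (Adeq.underline A).obj M)
    (b : F ⟶ (Adeq.underline A).obj N) :
    F ⟶ (Adeq.underline A).obj (ModuleCat.of A (M × N)) :=
  a ≫ (Adeq.underline A).map
      (ModuleCat.ofHom (LinearMap.inl A M N) : M ⟶ ModuleCat.of A (M × N)) +
    b ≫ (Adeq.underline A).map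
      (ModuleCat.ofHom (LinearMap.inr A M N) : N ⟶ ModuleCat.of A (M × N))

theorem pairU_apply {F : Adeq.MVF A} {M N : ModuleCat.{u+1} A} (a : F ⟶ (Adeq.underline A).obj M)
    (b : F ⟶ (Adeq.underline A).obj N) (B : Adeq.Alg A) (x : F.obj (Adeq.pt B)) :
    ((pairU a b).app (Adeq.pt B) x : B ⊗[A] (M × N)) =
      (LinearMap.inl A M N).baseChange B (a.app (Adeq.pt B) x) +
        (LinearMap.inr A M N).baseChange B (b.app (Adeq.pt B) x) := rfl

theorem pairU_fst {F : Adeq.MVF A} {M N : ModuleCat.{u+1} A} (a : F ⟶ (Adeq.underline A).obj M)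
    (b : F ⟶ (Adeq.underline A).obj N) (B : Adeq.Alg A) (x : F.obj (Adeq.pt B)) :
    (LinearMap.fst A M N).baseChange B ((pairU a b).app (Adeq.pt B) x) = a.app (Adeq.pt B) x := by
  rw [pairU_apply, map_add, ← bc_comp_apply, ← bc_comp_apply, LinearMap.fst_comp_inl,
    LinearMap.fst_comp_inr, bc_id_apply, bc_zero_apply, add_zero]

theorem pairU_snd {F : Adeq.MVF A} {M N : ModuleCat.{u+1} A} (a : F ⟶ (Adeq.underline A).obj M)
    (b : F ⟶ (Adeq.underline A).obj N) (B : Adeq.Alg A) (x : F.obj (Adeq.pt B)) :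
    (LinearMap.snd A M N).baseChange B ((pairU a b).app (Adeq.pt B) x) = b.app (Adeq.pt B) x := by
  rw [pairU_apply, map_add, ← bc_comp_apply, ← bc_comp_apply, LinearMap.snd_comp_inl,
    LinearMap.snd_comp_inr, bc_id_apply, bc_zero_apply, zero_add]

theorem prod_bc_eq_zero_iff {X Y Z : Type*} [AddCommGroup X] [Module A X] [AddCommGroup Y]
    [Module A Y] [AddCommGroup Z] [Module A Z] (f : X →ₗ[A] Y) (g : X →ₗ[A] Z)
    (B : Type u) [CommRing B] [Algebra A B] (z : B ⊗[A] X) :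
    (f.prod g).baseChange B z = 0 ↔ f.baseChange B z = 0 ∧ g.baseChange B z = 0 := by
  constructor
  · intro h
    constructor
    · have h' := congrArg ((LinearMap.fst A Y Z).baseChange B) h
      rw [← bc_comp_apply, LinearMap.fst_prod, map_zero] at h'
      exact h'
    · have h' := congrArg ((LinearMap.snd A Y Z).baseChange B) h
      rw [← bc_comp_apply, LinearMap.snd_prod, map_zero] at h'
      exact h'
  · rintro ⟨h1, h2⟩
    have e : f.prod g = LinearMap.inl A Y Z ∘ₗ f + LinearMap.inr A Y Z ∘ₗ g := by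
      refine LinearMap.ext (fun x => ?_)
      show (f x, g x) = (f x, (0 : Z)) + ((0 : Y), g x)
      rw [Prod.mk_add_mk, add_zero, zero_add]
    rw [e, bc_add_apply, bc_comp_apply, bc_comp_apply, h1, h2, map_zero, map_zero, add_zero]

theorem coker_desc_apply {F G H : Adeq.MVF A} (φ : F ⟶ G) (k : G ⟶ H) (w : φ ≫ k = 0)
    (B : Adeq.Alg A) (y : G.obj (Adeq.pt B)) :
    (cokernel.desc φ k w).app (Adeq.pt B) ((cokernel.π φ).app (Adeq.pt B) y) =
      k.app (Adeq.pt B) y := by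
  have e := congrArg (fun m => (m.app (Adeq.pt B)).hom y) (cokernel.π_desc φ k w)
  exact e

/-- recognition of kernels -/
theorem adequate_of_iso_kernel {X Y Z : Adeq.MVF A} (c : X ⟶ Y) (r : Y ⟶ Z) (w : c ≫ r = 0)
    (hinj : ∀ B : Adeq.Alg A, Function.Injective (c.app (Adeq.pt B)))
    (hex : ∀ (B : Adeq.Alg A) (y : Y.obj (Adeq.pt B)), r.app (Adeq.pt B) y = 0 →
      ∃ x : X.obj (Adeq.pt B), c.app (Adeq.pt B) x = y)
    (hK : Adeq.adequate A (kernel r)) : Adeq.adequate A X := by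
  let k : X ⟶ kernel r := kernel.lift r c w
  have hk : k ≫ kernel.ι r = c := kernel.lift_ι _ _ _
  have hk' : ∀ (B : Adeq.Alg A) (a : X.obj (Adeq.pt B)),
      (kernel.ι r).app (Adeq.pt B) (k.app (Adeq.pt B) a) = c.app (Adeq.pt B) a := by
    intro B a
    have h := congrArg (fun m => (m.app (Adeq.pt B)).hom a) hk
    exact h
  haveI : IsIso k := by
    apply isIso_of_bijective
    intro B
    constructor
    · intro a b hab
      apply hinj B
      rw [← hk' B a, ← hk' B b, hab]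
    · intro y
      obtain ⟨x, hx⟩ := hex B ((kernel.ι r).app (Adeq.pt B) y) (kernel_condition_apply _ B y)
      refine ⟨x, ?_⟩
      apply kernel_ι_inj _ B
      rw [hk' B x]
      exact hx
  exact (Adeq.adequate A).prop_of_iso (asIso k).symm hK

/-- **S8744**: kernels of maps of adequate functors are adequate. -/
theorem main8744 (A : Type u) [CommRing A] {F G : Adeq.MVF A} (φ : F ⟶ G)
    (hF : Adeq.adequate A F) (hG : Adeq.adequate A G) : Adeq.adequate A (kernel φ) := by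
  obtain ⟨M₀, N₀, α, ιF, wF, hinjF, hexF, hliftF⟩ := adequate_unpack' hF
  obtain ⟨M₁, N₁, α₁, ιG, wG, hinjG, hexG, -⟩ := adequate_unpack' hG
  let ψ : F ⟶ (Adeq.underline A).obj M₁ := φ ≫ ιG
  let δ : F ⟶ (Adeq.underline A).obj (ModuleCat.of A (M₀ × M₁)) := pairU ιF ψ
  have hC : Adeq.adequate A (cokernel δ) := coker_adequate hF δ
  obtain ⟨K', K'', κ, jC, wC, hinjC, hexC, -⟩ := adequate_unpack' hC
  obtain ⟨β, hβ⟩ := u_full (cokernel.π δ ≫ jC)
  have hβ' : ∀ (B : Adeq.Alg A) (z : B ⊗[A] (M₀ × M₁)),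
      β.hom.baseChange B z = jC.app (Adeq.pt B) ((cokernel.π δ).app (Adeq.pt B) z) := by
    intro B z
    have e := congrArg (fun k => (k.app (Adeq.pt B)).hom z) hβ
    exact e
  have hδ1 : ∀ (B : Adeq.Alg A) (x : F.obj (Adeq.pt B)),
      (LinearMap.fst A M₀ M₁).baseChange B (δ.app (Adeq.pt B) x) = ιF.app (Adeq.pt B) x :=
    fun B x => pairU_fst ιF ψ B x
  have hδ2 : ∀ (B : Adeq.Alg A) (x : F.obj (Adeq.pt B)),
      (LinearMap.snd A M₀ M₁).baseChange B (δ.app (Adeq.pt B) x) =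
        ιG.app (Adeq.pt B) (φ.app (Adeq.pt B) x) :=
    fun B x => pairU_snd ιF ψ B x
  let γ : ModuleCat.of A (M₀ × M₁) ⟶ ModuleCat.of A (K' × M₁) :=
    ModuleCat.ofHom (β.hom.prod (LinearMap.snd A M₀ M₁))
  let c : kernel φ ⟶ (Adeq.underline A).obj (ModuleCat.of A (M₀ × M₁)) := kernel.ι φ ≫ δ
  have hβδ : ∀ (B : Adeq.Alg A) (x : F.obj (Adeq.pt B)),
      β.hom.baseChange B (δ.app (Adeq.pt B) x) = 0 := by
    intro B x
    rw [hβ', coker_condition_apply, map_zero]
    rfl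
  apply adequate_of_exact (kernel φ) γ c
  · apply hom_ext_pt
    intro B y
    have : (β.hom.prod (LinearMap.snd A M₀ M₁)).baseChange B
        (δ.app (Adeq.pt B) ((kernel.ι φ).app (Adeq.pt B) y)) = 0 := by
      rw [prod_bc_eq_zero_iff]
      refine ⟨hβδ B _, ?_⟩
      rw [hδ2, kernel_condition_apply, map_zero]
      rfl
    exact this
  · intro B y y' h
    apply kernel_ι_inj φ B
    apply hinjF B
    have h' : δ.app (Adeq.pt B) ((kernel.ι φ).app (Adeq.pt B) y) =
        δ.app (Adeq.pt B) ((kernel.ι φ).app (Adeq.pt B) y') := h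
    have e1 := hδ1 B ((kernel.ι φ).app (Adeq.pt B) y)
    have e2 := hδ1 B ((kernel.ι φ).app (Adeq.pt B) y')
    rw [h'] at e1
    exact e1.symm.trans e2
  · intro B z hz
    have hz' : (β.hom.prod (LinearMap.snd A M₀ M₁)).baseChange B z = 0 := hz
    rw [prod_bc_eq_zero_iff] at hz'
    obtain ⟨hz1, hz2⟩ := hz'
    rw [hβ'] at hz1
    have hπ : (cokernel.π δ).app (Adeq.pt B) z = 0 := by
      apply hinjC B
      rw [hz1, map_zero]
      rfl
    obtain ⟨x, hx⟩ := coker_exact δ B z hπ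
    have hφx : φ.app (Adeq.pt B) x = 0 := by
      apply hinjG B
      rw [map_zero, ← hδ2, hx]
      exact hz2
    obtain ⟨y, hy⟩ := kernel_ι_exists φ B x hφx
    refine ⟨y, ?_⟩
    show δ.app (Adeq.pt B) ((kernel.ι φ).app (Adeq.pt B) y) = z
    rw [hy, hx]

/-- **S8743**: cokernels of maps of adequate functors are adequate. -/
theorem main8743 (A : Type u) [CommRing A] {F G : Adeq.MVF A} (φ : F ⟶ G)
    (hF : Adeq.adequate A F) (hG : Adeq.adequate A G) : Adeq.adequate A (cokernel φ) := by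
  obtain ⟨M₁, N₁, α₁, ιG, wG, hinjG, hexG, -⟩ := adequate_unpack' hG
  let ψ : F ⟶ (Adeq.underline A).obj M₁ := φ ≫ ιG
  have hC₁ : Adeq.adequate A (cokernel ψ) := coker_adequate hF ψ
  have hC₂ : Adeq.adequate A (cokernel ιG) := coker_adequate hG ιG
  have w1 : ψ ≫ cokernel.π ιG = 0 := by
    show (φ ≫ ιG) ≫ cokernel.π ιG = 0
    rw [Category.assoc, cokernel.condition, comp_zero]
  let r : cokernel ψ ⟶ cokernel ιG := cokernel.desc ψ (cokernel.π ιG) w1
  have w2 : φ ≫ (ιG ≫ cokernel.π ψ) = 0 := by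
    rw [← Category.assoc]
    exact cokernel.condition ψ
  let c : cokernel φ ⟶ cokernel ψ := cokernel.desc φ (ιG ≫ cokernel.π ψ) w2
  have hc : ∀ (B : Adeq.Alg A) (g : G.obj (Adeq.pt B)),
      c.app (Adeq.pt B) ((cokernel.π φ).app (Adeq.pt B) g) =
        (cokernel.π ψ).app (Adeq.pt B) (ιG.app (Adeq.pt B) g) :=
    fun B g => coker_desc_apply φ _ w2 B g
  have hr : ∀ (B : Adeq.Alg A) (m : ((Adeq.underline A).obj M₁).obj (Adeq.pt B)),
      r.app (Adeq.pt B) ((cokernel.π ψ).app (Adeq.pt B) m) = (cokernel.π ιG).app (Adeq.pt B) m :=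
    fun B m => coker_desc_apply ψ _ w1 B m
  refine adequate_of_iso_kernel c r ?_ ?_ ?_ (main8744 A r hC₁ hC₂)
  · apply hom_ext_pt
    intro B a
    obtain ⟨g, rfl⟩ := coker_surj φ B a
    have : (c ≫ r).app (Adeq.pt B) ((cokernel.π φ).app (Adeq.pt B) g) = 0 := by
      rw [comp_app_apply, hc, hr, coker_condition_apply]
    exact this
  · intro B
    refine (injective_iff_map_eq_zero (c.app (Adeq.pt B)).hom).mpr ?_
    intro a ha
    obtain ⟨g, rfl⟩ := coker_surj φ B a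
    have ha' : (cokernel.π ψ).app (Adeq.pt B) (ιG.app (Adeq.pt B) g) = 0 :=
      (hc B g).symm.trans ha
    obtain ⟨x, hx⟩ := coker_exact ψ B _ ha'
    have hx' : ιG.app (Adeq.pt B) (φ.app (Adeq.pt B) x) = ιG.app (Adeq.pt B) g := hx
    have hg := hinjG B hx'
    subst hg
    exact coker_condition_apply φ B x
  · intro B y hy
    obtain ⟨m, rfl⟩ := coker_surj ψ B y
    rw [hr] at hy
    obtain ⟨g, hg⟩ := coker_exact ιG B m hy
    refine ⟨(cokernel.π φ).app (Adeq.pt B) g, ?_⟩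
    rw [hc, hg]

end

end Groth.Agent.Lib.Helper29.AdeqAb
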