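import Mathlib
import Groth.Prelude.Def_Adeq
import Groth.Agent.Lib.Helper29.Adeq0
import Groth.Agent.Lib.Helper29.AdeqDS
import Groth.Agent.Lib.Helper29.AdeqCore
import Groth.Agent.Lib.Helper29.AdeqAb

/-!
# Colimits of adequate functors are adequate
-/

set_option autoImplicit false
universe u v u₁ v₁
open CategoryTheory Limits Opposite TensorProduct DirectSum

namespace Groth.Agent.Lib.Helper29.AdeqColim
open Groth.Agent.Lib.Helper29.Adeq0 Groth.Agent.Lib.Helper29.AdeqDS Groth.Agent.Lib.Helper29.AdeqCore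
  Groth.Agent.Lib.Helper29.AdeqAb

noncomputable section

/-- the legs of a colimit cofan of presheaves of modules are jointly surjective, pointwise -/
theorem cofan_mem_iSup_gen {C : Type u₁} [Category.{v₁} C] {R : Cᵒᵖ ⥤ RingCat.{u}} {ι : Type v}
    {L : ι → PresheafOfModules.{v} R} (c : Cofan L) (hc : IsColimit c) (X : Cᵒᵖ)
    (y : c.pt.obj X) :
    y ∈ ⨆ i, LinearMap.range ((c.inj i).app X).hom := by
  classical
  let S : Submodule (R.obj X) (c.pt.obj X) := ⨆ i, LinearMap.range ((c.inj i).app X).hom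
  have hc' := isColimitOfPreserves (PresheafOfModules.evaluation R X) hc
  let q : ((PresheafOfModules.evaluation R X).mapCocone c).pt ⟶
      ModuleCat.of (R.obj X) (c.pt.obj X ⧸ S) := ModuleCat.ofHom S.mkQ
  have h0 : q = 0 := by
    apply hc'.hom_ext
    rintro ⟨i⟩
    rw [comp_zero]
    ext x
    show S.mkQ (((c.inj i).app X).hom x) = 0
    rw [Submodule.mkQ_apply, Submodule.Quotient.mk_eq_zero]
    exact Submodule.mem_iSup_of_mem i ⟨x, rfl⟩
  have h1 : S.mkQ y = 0 := congrArg (fun k => k.hom y) h0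
  rw [Submodule.mkQ_apply, Submodule.Quotient.mk_eq_zero] at h1
  exact h1

variable {A : Type u} [CommRing A]

theorem sigma_mem_iSup {ι : Type (u+1)} (L : ι → Adeq.MVF A) (B : Adeq.Alg A)
    (y : (∐ L).obj (Adeq.pt B)) :
    y ∈ ⨆ i, LinearMap.range ((Sigma.ι L i).app (Adeq.pt B)).hom :=
  cofan_mem_iSup_gen (Cofan.mk (∐ L) (Sigma.ι L)) (coproductIsCoproduct L) (Adeq.pt B) y

theorem sigma_surj {ι : Type (u+1)} [DecidableEq ι] (L : ι → Adeq.MVF A) (B : Adeq.Alg A)
    (y : (∐ L).obj (Adeq.pt B)) :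
    ∃ f : ⨁ i, (L i).obj (Adeq.pt B),
      DirectSum.toAddMonoid (fun i => ((Sigma.ι L i).app (Adeq.pt B)).hom.toAddMonoidHom) f = y := by
  refine Submodule.iSup_induction _ (motive := fun y => ∃ f : ⨁ i, (L i).obj (Adeq.pt B),
      DirectSum.toAddMonoid (fun i => ((Sigma.ι L i).app (Adeq.pt B)).hom.toAddMonoidHom) f = y)
    (sigma_mem_iSup L B y) ?_ ?_ ?_
  · rintro i _ ⟨x, rfl⟩
    exact ⟨DirectSum.of _ i x, DirectSum.toAddMonoid_of _ _ _⟩
  · exact ⟨0, map_zero _⟩
  · rintro _ _ ⟨f, rfl⟩ ⟨g, rfl⟩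
    exact ⟨f + g, map_add _ _ _⟩

/-- coproducts of adequate functors are adequate -/
theorem sigma_adequate {ι : Type (u+1)} (L : ι → Adeq.MVF A)
    (hL : ∀ i, Adeq.adequate A (L i)) : Adeq.adequate A (∐ L) := by
  classical
  have h := fun i => adequate_unpack' (hL i)
  choose M N α ιL wL hinjL hexL hliftL using h
  let lofM : ∀ i, M i ⟶ ModuleCat.of A (⨁ i, M i) := fun i =>
    ModuleCat.ofHom (DirectSum.lof A ι (fun i => M i) i)
  let lofN : ∀ i, N i ⟶ ModuleCat.of A (⨁ i, N i) := fun i =>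
    ModuleCat.ofHom (DirectSum.lof A ι (fun i => N i) i)
  let αα : ModuleCat.of A (⨁ i, M i) ⟶ ModuleCat.of A (⨁ i, N i) :=
    ModuleCat.ofHom (DirectSum.lmap (fun i => (α i).hom))
  have hcomm : ∀ i, lofM i ≫ αα = α i ≫ lofN i := by
    intro i
    refine ModuleCat.hom_ext (LinearMap.ext (fun x => ?_))
    exact DirectSum.lmap_lof (fun i => (α i).hom) i x
  let ιι : ∐ L ⟶ (Adeq.underline A).obj (ModuleCat.of A (⨁ i, M i)) :=
    Sigma.desc (fun i => ιL i ≫ (Adeq.underline A).map (lofM i))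
  have hιι_def : ∀ i, Sigma.ι L i ≫ ιι = ιL i ≫ (Adeq.underline A).map (lofM i) :=
    fun i => Sigma.ι_desc _ _
  have hιι : ∀ (B : Adeq.Alg A) (i : ι) (y : (L i).obj (Adeq.pt B)),
      ιι.app (Adeq.pt B) ((Sigma.ι L i).app (Adeq.pt B) y) =
        (DirectSum.lof A ι (fun i => M i) i).baseChange B ((ιL i).app (Adeq.pt B) y) := by
    intro B i y
    have e := congrArg (fun k => (k.app (Adeq.pt B)).hom y) (hιι_def i)
    exact e
  have hcompα : ∀ j, DirectSum.component A ι (fun i => N i) j ∘ₗ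
      DirectSum.lmap (fun i => (α i).hom) =
      (α j).hom ∘ₗ DirectSum.component A ι (fun i => M i) j :=
    fun j => LinearMap.ext (fun x => rfl)
  apply adequate_of_exact (∐ L) αα ιι
  · apply Sigma.hom_ext
    intro i
    rw [comp_zero, ← Category.assoc, hιι_def, Category.assoc, ← Functor.map_comp, hcomm i,
      Functor.map_comp, ← Category.assoc, wL i, zero_comp]
  · intro B
    refine (injective_iff_map_eq_zero (ιι.app (Adeq.pt B)).hom).mpr ?_
    intro y hy
    obtain ⟨f, rfl⟩ := sigma_surj L B y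
    let G : (⨁ i, (L i).obj (Adeq.pt B)) → B ⊗[A] (⨁ i, M i) := fun f =>
      ιι.app (Adeq.pt B) (DirectSum.toAddMonoid
        (fun i => ((Sigma.ι L i).app (Adeq.pt B)).hom.toAddMonoidHom) f)
    let H : ∀ j, (⨁ i, (L i).obj (Adeq.pt B)) → B ⊗[A] (M j) := fun j f =>
      (ιL j).app (Adeq.pt B) (f j)
    have hy' : G f = 0 := hy
    have hG0 : G 0 = 0 := by
      show ιι.app (Adeq.pt B) (DirectSum.toAddMonoid
        (fun i => ((Sigma.ι L i).app (Adeq.pt B)).hom.toAddMonoidHom) 0) = 0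
      rw [map_zero, map_zero]
    have hGadd : ∀ f g, G (f + g) = G f + G g := by
      intro f g
      show ιι.app (Adeq.pt B) (DirectSum.toAddMonoid
        (fun i => ((Sigma.ι L i).app (Adeq.pt B)).hom.toAddMonoidHom) (f + g)) =
        ιι.app (Adeq.pt B) (DirectSum.toAddMonoid
          (fun i => ((Sigma.ι L i).app (Adeq.pt B)).hom.toAddMonoidHom) f) +
        ιι.app (Adeq.pt B) (DirectSum.toAddMonoid
          (fun i => ((Sigma.ι L i).app (Adeq.pt B)).hom.toAddMonoidHom) g)
      rw [map_add, map_add]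
    have hGof : ∀ i (x : (L i).obj (Adeq.pt B)), G (DirectSum.of _ i x) =
        (DirectSum.lof A ι (fun i => M i) i).baseChange B ((ιL i).app (Adeq.pt B) x) := by
      intro i x
      show ιι.app (Adeq.pt B) (DirectSum.toAddMonoid
        (fun i => ((Sigma.ι L i).app (Adeq.pt B)).hom.toAddMonoidHom) (DirectSum.of _ i x)) = _
      rw [DirectSum.toAddMonoid_of]
      exact hιι B i x
    have hH0 : ∀ j, H j 0 = 0 := by
      intro j
      show (ιL j).app (Adeq.pt B) ((0 : ⨁ i, (L i).obj (Adeq.pt B)) j) = 0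
      rw [DirectSum.zero_apply, map_zero]
    have hHadd : ∀ j f g, H j (f + g) = H j f + H j g := by
      intro j f g
      show (ιL j).app (Adeq.pt B) ((f + g) j) =
        (ιL j).app (Adeq.pt B) (f j) + (ιL j).app (Adeq.pt B) (g j)
      rw [DirectSum.add_apply, map_add]
    have hHsame : ∀ i (x : (L i).obj (Adeq.pt B)), H i (DirectSum.of _ i x) =
        (ιL i).app (Adeq.pt B) x := by
      intro i x
      show (ιL i).app (Adeq.pt B)
        ((DirectSum.of _ i x : ⨁ i, (L i).obj (Adeq.pt B)) i) = _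
      rw [DirectSum.of_eq_same]
    have hHne : ∀ i j (x : (L i).obj (Adeq.pt B)), j ≠ i → H j (DirectSum.of _ i x) = 0 := by
      intro i j x hne
      show (ιL j).app (Adeq.pt B)
        ((DirectSum.of _ i x : ⨁ i, (L i).obj (Adeq.pt B)) j) = 0
      rw [DirectSum.of_eq_of_ne _ _ _ hne, map_zero]
    have key : ∀ (f : ⨁ i, (L i).obj (Adeq.pt B)) (j : ι),
        (DirectSum.component A ι (fun i => M i) j).baseChange B (G f) = H j f := by
      intro f j
      induction f using DirectSum.induction_on with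
      | zero => rw [hG0, map_zero, hH0]
      | of i x =>
        rw [hGof, ← bc_comp_apply]
        by_cases h : i = j
        · subst h
          rw [DirectSum.component_comp_lof_same, bc_id_apply, hHsame]
        · rw [DirectSum.component_comp_lof, dif_neg h, bc_zero_apply, hHne i j x (Ne.symm h)]
      | add f g hf hg => rw [hGadd, map_add, hHadd, hf, hg]
    have hf0 : f = 0 := by
      refine DFinsupp.ext (fun j => ?_)
      have e := key f j
      rw [hy', map_zero] at e
      exact (hinjL j B) (e.symm.trans (map_zero ((ιL j).app (Adeq.pt B)).hom).symm)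
    rw [hf0, map_zero]
  · intro B x hx
    have hx' : (DirectSum.lmap (fun i => (α i).hom)).baseChange B x = 0 := hx
    have hxi : ∀ i, (α i).hom.baseChange B
        ((DirectSum.component A ι (fun i => M i) i).baseChange B x) = 0 := by
      intro i
      rw [← bc_comp_apply, ← hcompα i, bc_comp_apply, hx', map_zero]
    have hyi := fun i => hexL i B _ (hxi i)
    choose yi hyi using hyi
    obtain ⟨s, hs⟩ := ds_decomp B (fun i => M i) x
    refine ⟨∑ i ∈ s, (Sigma.ι L i).app (Adeq.pt B) (yi i), ?_⟩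
    rw [map_sum]
    refine Eq.trans ?_ (hs s (Finset.Subset.refl _)).symm
    refine Finset.sum_congr rfl (fun i _ => ?_)
    rw [hιι, hyi, bc_comp_apply]

/-- **S8745**: colimits of adequate functors are adequate. -/
theorem main8745 (A : Type u) [CommRing A] {J : Type (u + 1)} [SmallCategory J]
    (D : J ⥤ Adeq.MVF A) (hD : ∀ j, Adeq.adequate A (D.obj j)) :
    Adeq.adequate A (colimit D) := by
  let c₁ : Cofan (fun f : Σ p : J × J, p.1 ⟶ p.2 => D.obj f.1.1) := Cofan.mk (∐ _) (Sigma.ι _)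
  let c₂ : Cofan D.obj := Cofan.mk (∐ D.obj) (Sigma.ι D.obj)
  let s : c₁.pt ⟶ c₂.pt := Sigma.desc (fun f => D.map f.2 ≫ Sigma.ι D.obj f.1.2)
  let t : c₁.pt ⟶ c₂.pt := Sigma.desc (fun f => Sigma.ι D.obj f.1.1)
  have hs : ∀ f : Σ p : J × J, p.1 ⟶ p.2,
      c₁.ι.app ⟨f⟩ ≫ s = D.map f.2 ≫ c₂.ι.app ⟨f.1.2⟩ := fun f => Sigma.ι_desc _ _
  have ht : ∀ f : Σ p : J × J, p.1 ⟶ p.2, c₁.ι.app ⟨f⟩ ≫ t = c₂.ι.app ⟨f.1.1⟩ :=
    fun f => Sigma.ι_desc _ _
  let i : Cofork s t := Preadditive.coforkOfCokernelCofork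
    (CokernelCofork.ofπ (cokernel.π (s - t)) (cokernel.condition _))
  have hi : IsColimit i := Preadditive.isColimitCoforkOfCokernelCofork (cokernelIsCokernel (s - t))
  have hcol := HasColimitOfHasCoproductsOfHasCoequalizers.buildIsColimit s t hs ht
    (coproductIsCoproduct _) (coproductIsCoproduct _) hi
  let e : colimit D ≅ cokernel (s - t) := (colimit.isColimit D).coconePointUniqueUpToIso hcol
  have h1 : Adeq.adequate A (∐ fun f : Σ p : J × J, p.1 ⟶ p.2 => D.obj f.1.1) :=
    sigma_adequate _ (fun f => hD _)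
  have h2 : Adeq.adequate A (∐ D.obj) := sigma_adequate _ hD
  exact (Adeq.adequate A).prop_of_iso e.symm (main8743 A (s - t) h1 h2)

end

end Groth.Agent.Lib.Helper29.AdeqColim
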