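import Mathlib
import Groth.Prelude.Def_Adeq
import Groth.Agent.Lib.Helper29.Adeq0
import Groth.Agent.Lib.Helper29.AdeqDS
import Groth.Agent.Lib.Helper29.AdeqCore

/-!
# An adequate functor is a quotient of a direct sum of linearly adequate functors
-/

set_option autoImplicit false
universe u
open CategoryTheory Limits Opposite TensorProduct

namespace Groth.Agent.Lib.Helper29.AdeqLin
open Groth.Agent.Lib.Helper29.Adeq0 Groth.Agent.Lib.Helper29.AdeqDS Groth.Agent.Lib.Helper29.AdeqCore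

noncomputable section
variable {A : Type u} [CommRing A]

theorem res_lemma_fin {M₀ N₀ : Type (u+1)} [AddCommGroup M₀] [Module A M₀] [AddCommGroup N₀]
    [Module A N₀] (α : M₀ →ₗ[A] N₀) (B : Type u) [CommRing B] [Algebra A B] (x : B ⊗[A] M₀)
    (hx : α.baseChange B x = 0) :
    ∃ (n : ℕ) (S : Finset N₀) (μ : Fin n → M₀) (ω : Fin n → (↥S →₀ A)) (b : Fin n → B),
      (∀ i, Finsupp.linearCombination A (Subtype.val : ↥S → N₀) (ω i) = α (μ i)) ∧
      (∑ i, b i ⊗ₜ[A] ω i = (0 : B ⊗[A] (↥S →₀ A))) ∧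
      x = ∑ i, b i ⊗ₜ[A] μ i := by
  classical
  obtain ⟨n, μ, ω, b, h1, h2, h3⟩ := res_lemma α B x hx
  let S : Finset N₀ := Finset.univ.biUnion (fun i => (ω i).support)
  have hinj : Function.Injective (Subtype.val : ↥S → N₀) := Subtype.val_injective
  let retr : (N₀ →₀ A) →ₗ[A] (↥S →₀ A) := Finsupp.lcomapDomain (Subtype.val : ↥S → N₀) hinj
  refine ⟨n, S, μ, fun i => retr (ω i), b, ?_, ?_, h3⟩
  · intro i
    rw [← h1 i]
    have hsupp : ((ω i).support : Set N₀) ⊆ Set.range (Subtype.val : ↥S → N₀) := by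
      intro a ha
      exact ⟨⟨a, Finset.mem_biUnion.mpr ⟨i, Finset.mem_univ _, ha⟩⟩, rfl⟩
    have e := Finsupp.mapDomain_comapDomain (Subtype.val : ↥S → N₀) hinj (ω i) hsupp
    have e2 := Finsupp.linearCombination_mapDomain (R := A) (v' := (id : N₀ → N₀))
      (Subtype.val : ↥S → N₀) (retr (ω i))
    have e3 : Finsupp.mapDomain (Subtype.val : ↥S → N₀) (retr (ω i)) = ω i := e
    rw [e3] at e2
    exact e2.symm
  · have h := congrArg (retr.baseChange B) h2
    rw [map_sum, map_zero] at h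
    refine Eq.trans (Finset.sum_congr rfl (fun i _ => ?_)) h
    rw [LinearMap.baseChange_tmul]

/-- **S8741** -/
theorem main8741 (A : Type u) [CommRing A] (F : Adeq.MVF A) (hF : Adeq.adequate A F) :
    ∃ (ι : Type (u + 1)) (L : ι → Adeq.MVF A), (∀ i, Adeq.linAdequate A (L i)) ∧
      ∃ (c : Cofan L) (_ : IsColimit c) (π : c.pt ⟶ F), Epi π := by
  classical
  obtain ⟨M₀, N₀, α, ιF, wF, hinjF, -, hliftF⟩ := adequate_unpack' hF
  let Ξ : Type (u+1) := Σ B : Adeq.Alg A, F.obj (Adeq.pt B)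
  have hres : ∀ σ : Ξ, ∃ (n : ℕ) (S : Finset N₀) (μ : Fin n → M₀) (ω : Fin n → (↥S →₀ A))
      (b : Fin n → σ.1),
      (∀ i, Finsupp.linearCombination A (Subtype.val : ↥S → N₀) (ω i) = α.hom (μ i)) ∧
      (∑ i, b i ⊗ₜ[A] ω i = (0 : σ.1 ⊗[A] (↥S →₀ A))) ∧
      (ιF.app (Adeq.pt σ.1) σ.2 : σ.1 ⊗[A] M₀) = ∑ i, b i ⊗ₜ[A] μ i := fun σ =>
    res_lemma_fin α.hom σ.1 (ιF.app (Adeq.pt σ.1) σ.2) (by
      have h := congrArg (fun k => (k.app (Adeq.pt σ.1)).hom σ.2) wF
      exact h)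
  choose n S μ ω b h1 h2 h3 using hres
  let P : Ξ → ModuleCat.{u+1} A := fun σ => ModuleCat.of A (ULift.{u+1} (Fin (n σ)) →₀ A)
  let P' : Ξ → ModuleCat.{u+1} A := fun σ => ModuleCat.of A (↥(S σ) →₀ A)
  let ψ : ∀ σ, P σ ⟶ P' σ := fun σ =>
    ModuleCat.ofHom (Finsupp.linearCombination A (fun i : ULift.{u+1} (Fin (n σ)) => ω σ i.down))
  let pM : ∀ σ, P σ ⟶ M₀ := fun σ =>
    ModuleCat.ofHom (Finsupp.linearCombination A (fun i : ULift.{u+1} (Fin (n σ)) => μ σ i.down))
  let pN : ∀ σ, P' σ ⟶ N₀ := fun σ =>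
    ModuleCat.ofHom (Finsupp.linearCombination A (Subtype.val : ↥(S σ) → N₀))
  have hcomm : ∀ σ, pM σ ≫ α = ψ σ ≫ pN σ := by
    intro σ
    refine ModuleCat.hom_ext ?_
    apply Finsupp.lhom_ext'
    intro i
    apply LinearMap.ext_ring
    show α.hom (Finsupp.linearCombination A (fun i : ULift.{u+1} (Fin (n σ)) => μ σ i.down)
        (Finsupp.single i (1 : A))) =
      Finsupp.linearCombination A (Subtype.val : ↥(S σ) → N₀)
        (Finsupp.linearCombination A (fun i : ULift.{u+1} (Fin (n σ)) => ω σ i.down)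
          (Finsupp.single i (1 : A)))
    rw [Finsupp.linearCombination_single, one_smul, Finsupp.linearCombination_single, one_smul, h1]
  let L : Ξ → Adeq.MVF A := fun σ => kernel ((Adeq.underline A).map (ψ σ))
  have hzero : ∀ σ, (kernel.ι ((Adeq.underline A).map (ψ σ)) ≫ (Adeq.underline A).map (pM σ)) ≫
      (Adeq.underline A).map α = 0 := by
    intro σ
    rw [Category.assoc, ← Functor.map_comp, hcomm σ, Functor.map_comp, ← Category.assoc,
      kernel.condition, zero_comp]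
  have hlam := fun σ => hliftF _ _ (hzero σ)
  choose lam hlam using hlam
  have hsurj : ∀ B : Adeq.Alg A,
      Function.Surjective ((Sigma.desc lam : ∐ L ⟶ F).app (Adeq.pt B)) := by
    intro B y
    let σ : Ξ := ⟨B, y⟩
    let t : B ⊗[A] (ULift.{u+1} (Fin (n σ)) →₀ A) :=
      ∑ i, b σ i ⊗ₜ[A] Finsupp.single (ULift.up i) (1 : A)
    have ht : (ψ σ).hom.baseChange B t = 0 := by
      show (Finsupp.linearCombination A
        (fun i : ULift.{u+1} (Fin (n σ)) => ω σ i.down)).baseChange B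
        (∑ i, b σ i ⊗ₜ[A] Finsupp.single (ULift.up i) (1 : A)) = 0
      rw [map_sum]
      refine Eq.trans (Finset.sum_congr rfl (fun i _ => ?_)) (h2 σ)
      rw [LinearMap.baseChange_tmul, Finsupp.linearCombination_single, one_smul]
    obtain ⟨y', hy'⟩ := kernel_ι_exists ((Adeq.underline A).map (ψ σ)) B t ht
    refine ⟨(Sigma.ι L σ).app (Adeq.pt B) y', ?_⟩
    have e0 : (Sigma.desc lam : ∐ L ⟶ F).app (Adeq.pt B) ((Sigma.ι L σ).app (Adeq.pt B) y') =
        (lam σ).app (Adeq.pt B) y' := by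
      have e := congrArg (fun k => (k.app (Adeq.pt B)).hom y') (Sigma.ι_desc lam σ)
      exact e
    rw [e0]
    apply hinjF B
    have e1 := congrArg (fun k => (k.app (Adeq.pt B)).hom y') (hlam σ)
    refine (e1.trans ?_)
    show (pM σ).hom.baseChange B
      ((kernel.ι ((Adeq.underline A).map (ψ σ))).app (Adeq.pt B) y') = _
    rw [hy']
    refine Eq.trans ?_ (h3 σ).symm
    show (Finsupp.linearCombination A
      (fun i : ULift.{u+1} (Fin (n σ)) => μ σ i.down)).baseChange B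
      (∑ i, b σ i ⊗ₜ[A] Finsupp.single (ULift.up i) (1 : A)) = _
    rw [map_sum]
    refine Finset.sum_congr rfl (fun i _ => ?_)
    rw [LinearMap.baseChange_tmul, Finsupp.linearCombination_single, one_smul]
  refine ⟨Ξ, L, fun σ => ⟨P σ, P' σ, ψ σ, ?_, ?_, ?_, ?_, ⟨Iso.refl _⟩⟩,
    Cofan.mk (∐ L) (Sigma.ι L), coproductIsCoproduct L, Sigma.desc lam, ?_⟩
  · show Module.Finite A (ULift.{u+1} (Fin (n σ)) →₀ A)
    infer_instance
  · show Module.Free A (ULift.{u+1} (Fin (n σ)) →₀ A)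
    infer_instance
  · show Module.Finite A (↥(S σ) →₀ A)
    infer_instance
  · show Module.Free A (↥(S σ) →₀ A)
    infer_instance
  · apply PresheafOfModules.epi_of_surjective
    intro X
    exact hsurj X.unop.unop

end

end Groth.Agent.Lib.Helper29.AdeqLin
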