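import Mathlib
import Groth.Prelude.Def_Adeq
import Groth.Agent.Lib.Helper29.Adeq0
import Groth.Agent.Lib.Helper29.AdeqExt
import Groth.Agent.Lib.Helper29.AdeqDS

/-!
# Algebra of the universal ring, needed for splitting extensions of linearly adequate functors
-/

set_option autoImplicit false
universe u w
open CategoryTheory Limits Opposite TensorProduct Module

namespace Groth.Agent.Lib.Helper29.AdeqSplit0
open Groth.Agent.Lib.Helper29.Adeq0 Groth.Agent.Lib.Helper29.AdeqExt Groth.Agent.Lib.Helper29.AdeqDS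

noncomputable section
variable {A : Type u} [CommRing A]

/-! ### transport along algebra maps -/

/-- transport of elements of a module-valued functor along an algebra map -/
def tr (F : Adeq.MVF A) {B B' : Adeq.Alg A} (g : B ⟶ B') (z : F.obj (Adeq.pt B)) :
    F.obj (Adeq.pt B') :=
  F.restrictₛₗ (Adeq.ptHom g) z

theorem tr_add (F : Adeq.MVF A) {B B' : Adeq.Alg A} (g : B ⟶ B') (z z' : F.obj (Adeq.pt B)) :
    tr F g (z + z') = tr F g z + tr F g z' := map_add (F.restrictₛₗ (Adeq.ptHom g)) z z'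

theorem tr_sub (F : Adeq.MVF A) {B B' : Adeq.Alg A} (g : B ⟶ B') (z z' : F.obj (Adeq.pt B)) :
    tr F g (z - z') = tr F g z - tr F g z' := map_sub (F.restrictₛₗ (Adeq.ptHom g)) z z'

theorem tr_zero (F : Adeq.MVF A) {B B' : Adeq.Alg A} (g : B ⟶ B') :
    tr F g (0 : F.obj (Adeq.pt B)) = 0 := map_zero (F.restrictₛₗ (Adeq.ptHom g))

theorem tr_smul (F : Adeq.MVF A) {B B' : Adeq.Alg A} (g : B ⟶ B') (b : B)
    (z : F.obj (Adeq.pt B)) : tr F g (b • z) = (g.hom b : B') • tr F g z :=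
  (F.restrictₛₗ (Adeq.ptHom g)).map_smulₛₗ b z

theorem tr_comp (F : Adeq.MVF A) {B B' B'' : Adeq.Alg A} (g : B ⟶ B') (g' : B' ⟶ B'')
    (z : F.obj (Adeq.pt B)) : tr F (g ≫ g') z = tr F g' (tr F g z) :=
  F.map_comp_apply (Adeq.ptHom g) (Adeq.ptHom g') z

theorem tr_id (F : Adeq.MVF A) {B : Adeq.Alg A} (z : F.obj (Adeq.pt B)) : tr F (𝟙 B) z = z :=
  ConcreteCategory.congr_hom (F.presheaf.map_id (Adeq.pt B)) z

theorem tr_congr (F : Adeq.MVF A) {B B' : Adeq.Alg A} {g g' : B ⟶ B'} (h : g = g')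
    (z : F.obj (Adeq.pt B)) : tr F g z = tr F g' z := by rw [h]

theorem tr_nat {F F' : Adeq.MVF A} (t : F ⟶ F') {B B' : Adeq.Alg A} (g : B ⟶ B')
    (z : F.obj (Adeq.pt B)) :
    t.app (Adeq.pt B') (tr F g z) = tr F' g (t.app (Adeq.pt B) z) :=
  PresheafOfModules.naturality_apply t (Adeq.ptHom g) z

theorem tr_u (M : ModuleCat.{u+1} A) {B B' : Adeq.Alg A} (g : B ⟶ B') (z : B ⊗[A] M) :
    tr ((Adeq.underline A).obj M) g z = g.hom.toLinearMap.rTensor M z := rfl

theorem app_smul {F F' : Adeq.MVF A} (t : F ⟶ F') (B : Adeq.Alg A) (b : B)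
    (z : F.obj (Adeq.pt B)) : t.app (Adeq.pt B) (b • z) = b • t.app (Adeq.pt B) z :=
  (t.app (Adeq.pt B)).hom.map_smul b z

/-! ### polynomial helpers -/

section Poly
variable {R S : Type u} [CommRing R] [Algebra A R] [CommRing S] [Algebra A S]

/-- extend an algebra hom to the polynomial ring -/
def polyLift (β : R →ₐ[A] S) (c : S) : Polynomial R →ₐ[A] S :=
  { Polynomial.eval₂RingHom β.toRingHom c with
    commutes' := fun a => by
      show Polynomial.eval₂ β.toRingHom c (algebraMap A (Polynomial R) a) = algebraMap A S a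
      rw [Polynomial.algebraMap_apply, Polynomial.eval₂_C]
      exact β.commutes a }

theorem polyLift_apply (β : R →ₐ[A] S) (c : S) (q : Polynomial R) :
    polyLift β c q = Polynomial.eval₂ β.toRingHom c q := rfl

theorem polyLift_C (β : R →ₐ[A] S) (c : S) (r : R) : polyLift β c (Polynomial.C r) = β r := by
  rw [polyLift_apply, Polynomial.eval₂_C]; rfl

theorem polyLift_X (β : R →ₐ[A] S) (c : S) : polyLift β c Polynomial.X = c := by
  rw [polyLift_apply, Polynomial.eval₂_X]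

theorem polyLift_comp_C (β : R →ₐ[A] S) (c : S) :
    (polyLift β c).comp (Polynomial.CAlgHom (R := A) (A := R)) = β :=
  AlgHom.ext (fun r => polyLift_C β c r)

theorem mapAlgHom_comp_C (g : R →ₐ[A] S) :
    (Polynomial.mapAlgHom g).comp (Polynomial.CAlgHom (R := A) (A := R)) =
      (Polynomial.CAlgHom (R := A) (A := S)).comp g :=
  AlgHom.ext (fun r => Polynomial.map_C _)

theorem mapAlgHom_X (g : R →ₐ[A] S) :
    Polynomial.mapAlgHom g (Polynomial.X : Polynomial R) = Polynomial.X := Polynomial.map_X _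

variable (S) in
/-- coefficient of `t`, as an `A`-linear map -/
def c1S : Polynomial S →ₗ[A] S := (Polynomial.lcoeff S 1).restrictScalars A

theorem c1S_apply (p : Polynomial S) : c1S (A := A) S p = p.coeff 1 := rfl

theorem c1S_mulLeft_C {M : Type*} [AddCommGroup M] [Module A M] (z : S ⊗[A] M) :
    (c1S (A := A) S).rTensor M ((LinearMap.mulLeft A (Polynomial.X : Polynomial S)).rTensor M
      ((Polynomial.CAlgHom (R := A) (A := S)).toLinearMap.rTensor M z)) = z := by
  induction z using TensorProduct.induction_on with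
  | zero => simp
  | tmul r m =>
    simp only [LinearMap.rTensor_tmul, AlgHom.toLinearMap_apply, LinearMap.mulLeft_apply]
    show ((Polynomial.X * Polynomial.C r : Polynomial S).coeff 1) ⊗ₜ[A] m = r ⊗ₜ[A] m
    rw [Polynomial.coeff_X_mul, Polynomial.coeff_C_zero]
  | add x y hx hy => simp only [map_add, hx, hy]

/-- a weight one element is recovered from its `t`-coefficient -/
theorem eq_c1_of_weight {M : Type (u+1)} [AddCommGroup M] [Module A M] (z : S ⊗[A] M)
    (y : Polynomial S ⊗[A] M)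
    (h : y = (Polynomial.X : Polynomial S) •
      ((Polynomial.CAlgHom (R := A) (A := S)).toLinearMap.rTensor M z)) :
    z = (c1S (A := A) S).rTensor M y := by
  rw [h, smul_eq_rTensor_mulLeft, c1S_mulLeft_C]

/-- evaluation at `t = 0` -/
def ev0H : Polynomial S →ₐ[A] S := polyLift (AlgHom.id A S) 0

theorem ev0H_apply (q : Polynomial S) : ev0H (A := A) q = q.coeff 0 := by
  rw [ev0H, polyLift_apply, Polynomial.eval₂_at_zero]; rfl

end Poly

/-! ### the universal ring -/

section Univ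
variable {P P' : Type (u+1)} [AddCommGroup P] [Module A P] [AddCommGroup P'] [Module A P']
  (φ : P →ₗ[A] P') {K' : Type w} (f : Basis K' A P') {n : ℕ} (v : Fin n → P)

theorem Ru_algHom_ext {S : Type u} [CommRing S] [Algebra A S] (g g' : Ru φ f v →ₐ[A] S)
    (h : ∀ i, g (xu φ f v i) = g' (xu φ f v i)) : g = g' := by
  have h2 : g.comp (mkR φ f v) = g'.comp (mkR φ f v) := by
    apply MvPolynomial.algHom_ext
    intro i
    exact h i
  refine AlgHom.ext (fun r => ?_)
  obtain ⟨p, rfl⟩ := mkR_surjective φ f v r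
  exact DFunLike.congr_fun h2 p

/-- the augmentation `x_i ↦ 0` -/
def eps0 : Ru φ f v →ₐ[A] A := evalHom φ f v A (fun _ => 0) (by intro k; simp)

theorem eps0_xu (i : Fin n) : eps0 φ f v (xu φ f v i) = 0 := evalHom_xu φ f v A _ _ i

/-- the augmentation as an endomorphism -/
def epsR : Ru φ f v →ₐ[A] Ru φ f v := (Algebra.ofId A (Ru φ f v)).comp (eps0 φ f v)

theorem epsR_apply (r : Ru φ f v) : epsR φ f v r = algebraMap A (Ru φ f v) (eps0 φ f v r) := rfl

theorem epsR_xu (i : Fin n) : epsR φ f v (xu φ f v i) = 0 := by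
  rw [epsR_apply, eps0_xu, map_zero]

theorem ev0_comp_ft : (ev0H (A := A) (S := Ru φ f v)).comp (ftHom φ f v) = epsR φ f v := by
  apply Ru_algHom_ext
  intro i
  show ev0H (ftHom φ f v (xu φ f v i)) = epsR φ f v (xu φ f v i)
  rw [ftHom_xu, epsR_xu, map_mul, ev0H, polyLift_X, zero_mul]

theorem ft_coeff_zero (r : Ru φ f v) : (ftHom φ f v r).coeff 0 = epsR φ f v r := by
  rw [← ev0H_apply (A := A), ← ev0_comp_ft]
  rfl

/-! #### two variables -/

/-- `Φ : R[t] → R[t][s]`, coefficientwise `ft` -/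
def PhiH : Polynomial (Ru φ f v) →ₐ[A] Polynomial (Polynomial (Ru φ f v)) :=
  Polynomial.mapAlgHom (ftHom φ f v)

/-- `Ψ : R[t] → R[t][s]`, `t ↦ s t` -/
def PsiH : Polynomial (Ru φ f v) →ₐ[A] Polynomial (Polynomial (Ru φ f v)) :=
  polyLift ((Polynomial.CAlgHom (R := A) (A := Polynomial (Ru φ f v))).comp
    (Polynomial.CAlgHom (R := A) (A := Ru φ f v))) (Polynomial.X * Polynomial.C Polynomial.X)

theorem PhiH_X : PhiH φ f v Polynomial.X = Polynomial.X := Polynomial.map_X _

theorem PhiH_C (r : Ru φ f v) : PhiH φ f v (Polynomial.C r) = Polynomial.C (ftHom φ f v r) :=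
  Polynomial.map_C _

theorem PsiH_X : PsiH φ f v Polynomial.X = Polynomial.X * Polynomial.C Polynomial.X :=
  polyLift_X _ _

theorem PsiH_C (r : Ru φ f v) : PsiH φ f v (Polynomial.C r) = Polynomial.C (Polynomial.C r) :=
  polyLift_C _ _ r

theorem E1H : (PhiH φ f v).comp (ftHom φ f v) = (PsiH φ f v).comp (ftHom φ f v) := by
  apply Ru_algHom_ext
  intro i
  show PhiH φ f v (ftHom φ f v (xu φ f v i)) = PsiH φ f v (ftHom φ f v (xu φ f v i))
  rw [ftHom_xu, map_mul, map_mul, PhiH_X, PhiH_C, PsiH_X, PsiH_C, ftHom_xu, Polynomial.C_mul,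
    mul_assoc]

theorem E2H : (PhiH φ f v).comp (Polynomial.CAlgHom (R := A) (A := Ru φ f v)) =
    (Polynomial.CAlgHom (R := A) (A := Polynomial (Ru φ f v))).comp (ftHom φ f v) :=
  AlgHom.ext (fun r => PhiH_C φ f v r)

theorem E3H : (PsiH φ f v).comp (Polynomial.CAlgHom (R := A) (A := Ru φ f v)) =
    (Polynomial.CAlgHom (R := A) (A := Polynomial (Ru φ f v))).comp
      (Polynomial.CAlgHom (R := A) (A := Ru φ f v)) :=
  polyLift_comp_C _ _

theorem c1_Phi : (c1S (A := A) (Polynomial (Ru φ f v))) ∘ₗ (PhiH φ f v).toLinearMap =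
    (ftHom φ f v).toLinearMap ∘ₗ (c1S (A := A) (Ru φ f v)) := by
  refine LinearMap.ext (fun q => ?_)
  show (Polynomial.map _ q).coeff 1 = ftHom φ f v (q.coeff 1)
  rw [Polynomial.coeff_map]
  rfl

theorem coeff_one_mon (k : ℕ) (a : Polynomial (Ru φ f v)) :
    (Polynomial.C a * (Polynomial.X * Polynomial.C Polynomial.X) ^ k :
      Polynomial (Polynomial (Ru φ f v))).coeff 1 = if k = 1 then a * Polynomial.X else 0 := by
  rw [mul_pow, ← Polynomial.C_pow, Polynomial.coeff_C_mul, Polynomial.coeff_X_pow_mul',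
    Polynomial.coeff_C]
  rcases k with _ | _ | k
  · simp
  · simp
  · simp

theorem PsiH_coeff_one (q : Polynomial (Ru φ f v)) :
    (PsiH φ f v q).coeff 1 = Polynomial.X * Polynomial.C (q.coeff 1) := by
  induction q using Polynomial.induction_on' with
  | add p q hp hq =>
    rw [map_add, Polynomial.coeff_add, hp, hq, Polynomial.coeff_add, map_add, mul_add]
  | monomial k r =>
    rw [PsiH, polyLift_apply, Polynomial.eval₂_monomial]
    show (Polynomial.C (Polynomial.C r) * (Polynomial.X * Polynomial.C Polynomial.X) ^ k :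
      Polynomial (Polynomial (Ru φ f v))).coeff 1 = _
    rw [coeff_one_mon, Polynomial.coeff_monomial]
    by_cases hk : k = 1
    · rw [if_pos hk, if_pos hk, mul_comm]
    · rw [if_neg hk, if_neg hk, map_zero, mul_zero]

theorem c1_Psi : (c1S (A := A) (Polynomial (Ru φ f v))) ∘ₗ (PsiH φ f v).toLinearMap =
    (LinearMap.mulLeft A (Polynomial.X : Polynomial (Ru φ f v))) ∘ₗ
      (Polynomial.CAlgHom (R := A) (A := Ru φ f v)).toLinearMap ∘ₗ (c1S (A := A) (Ru φ f v)) := by
  refine LinearMap.ext (fun q => ?_)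
  exact PsiH_coeff_one φ f v q

variable {M : Type (u+1)} [AddCommGroup M] [Module A M]

/-- from the two-variable cocycle identity to the weight-one correction -/
theorem star_to_weight (ω : Polynomial (Ru φ f v) ⊗[A] M)
    (h : (Polynomial.X : Polynomial (Polynomial (Ru φ f v))) •
        ((Polynomial.CAlgHom (R := A) (A := Polynomial (Ru φ f v))).toLinearMap.rTensor M ω) +
        (PhiH φ f v).toLinearMap.rTensor M ω = (PsiH φ f v).toLinearMap.rTensor M ω) :
    ω + (ftHom φ f v).toLinearMap.rTensor M ((c1S (A := A) (Ru φ f v)).rTensor M ω) =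
      (Polynomial.X : Polynomial (Ru φ f v)) •
        ((Polynomial.CAlgHom (R := A) (A := Ru φ f v)).toLinearMap.rTensor M
          ((c1S (A := A) (Ru φ f v)).rTensor M ω)) := by
  have h' := congrArg ((c1S (A := A) (Polynomial (Ru φ f v))).rTensor M) h
  rw [map_add, smul_eq_rTensor_mulLeft, c1S_mulLeft_C, ← LinearMap.rTensor_comp_apply,
    ← LinearMap.rTensor_comp_apply, c1_Phi, c1_Psi, LinearMap.rTensor_comp_apply,
    LinearMap.rTensor_comp_apply, LinearMap.rTensor_comp_apply,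
    ← smul_eq_rTensor_mulLeft] at h'
  exact h'

/-! #### two copies -/

/-- the comultiplication `x_i ↦ x_i ⊗ 1 + 1 ⊗ x_i` -/
def DeltaH : Ru φ f v →ₐ[A] (Ru φ f v ⊗[A] Ru φ f v) :=
  evalHom φ f v (Ru φ f v ⊗[A] Ru φ f v)
    (fun i => xu φ f v i ⊗ₜ[A] (1 : Ru φ f v) + (1 : Ru φ f v) ⊗ₜ[A] xu φ f v i) (by
    intro k
    have h0 : ∑ i, coef φ f v i k • xu φ f v i = 0 := by
      rw [← xu_rel φ f v k]
      refine Finset.sum_congr rfl (fun i _ => ?_)
      rw [Algebra.smul_def, mul_comm]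
    have h1 : ∀ i, (xu φ f v i ⊗ₜ[A] (1 : Ru φ f v) + (1 : Ru φ f v) ⊗ₜ[A] xu φ f v i) *
        algebraMap A (Ru φ f v ⊗[A] Ru φ f v) (coef φ f v i k) =
        (coef φ f v i k • xu φ f v i) ⊗ₜ[A] (1 : Ru φ f v) +
          (1 : Ru φ f v) ⊗ₜ[A] (coef φ f v i k • xu φ f v i) := by
      intro i
      rw [Algebra.algebraMap_eq_smul_one, mul_smul_comm, mul_one]
      exact (smul_add _ _ _).trans (congrArg₂ (· + ·) (TensorProduct.smul_tmul' _ _ _)
        (TensorProduct.tmul_smul _ _ _).symm)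
    rw [Finset.sum_congr rfl (fun i _ => h1 i), Finset.sum_add_distrib, ← TensorProduct.sum_tmul,
      ← TensorProduct.tmul_sum, h0, TensorProduct.zero_tmul, TensorProduct.tmul_zero, add_zero])

theorem DeltaH_xu (i : Fin n) : DeltaH φ f v (xu φ f v i) =
    xu φ f v i ⊗ₜ[A] (1 : Ru φ f v) + (1 : Ru φ f v) ⊗ₜ[A] xu φ f v i :=
  evalHom_xu φ f v _ _ _ i

/-- first inclusion -/
def j1H : Ru φ f v →ₐ[A] (Ru φ f v ⊗[A] Ru φ f v) := Algebra.TensorProduct.includeLeft

/-- second inclusion -/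
def j2H : Ru φ f v →ₐ[A] (Ru φ f v ⊗[A] Ru φ f v) := Algebra.TensorProduct.includeRight

theorem j1H_apply (r : Ru φ f v) : j1H φ f v r = r ⊗ₜ[A] (1 : Ru φ f v) := rfl

theorem j2H_apply (r : Ru φ f v) : j2H φ f v r = (1 : Ru φ f v) ⊗ₜ[A] r := rfl

/-- first projection `r ⊗ r' ↦ r ε(r')` -/
def pi1H : (Ru φ f v ⊗[A] Ru φ f v) →ₐ[A] Ru φ f v :=
  Algebra.TensorProduct.productMap (AlgHom.id A (Ru φ f v)) (epsR φ f v)

/-- second projection -/
def pi2H : (Ru φ f v ⊗[A] Ru φ f v) →ₐ[A] Ru φ f v :=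
  Algebra.TensorProduct.productMap (epsR φ f v) (AlgHom.id A (Ru φ f v))

theorem pi1_j1 : (pi1H φ f v).comp (j1H φ f v) = AlgHom.id A _ :=
  Algebra.TensorProduct.productMap_left _ _

theorem pi1_j2 : (pi1H φ f v).comp (j2H φ f v) = epsR φ f v :=
  Algebra.TensorProduct.productMap_right _ _

theorem pi2_j1 : (pi2H φ f v).comp (j1H φ f v) = epsR φ f v :=
  Algebra.TensorProduct.productMap_left _ _

theorem pi2_j2 : (pi2H φ f v).comp (j2H φ f v) = AlgHom.id A _ :=
  Algebra.TensorProduct.productMap_right _ _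

theorem pi1_Delta : (pi1H φ f v).comp (DeltaH φ f v) = AlgHom.id A _ := by
  apply Ru_algHom_ext
  intro i
  show pi1H φ f v (DeltaH φ f v (xu φ f v i)) = xu φ f v i
  rw [DeltaH_xu, map_add]
  show (AlgHom.id A _ (xu φ f v i) * epsR φ f v 1) + (AlgHom.id A _ 1 * epsR φ f v (xu φ f v i)) = _
  rw [epsR_xu, map_one, mul_one, mul_zero, add_zero]
  rfl

theorem pi2_Delta : (pi2H φ f v).comp (DeltaH φ f v) = AlgHom.id A _ := by
  apply Ru_algHom_ext
  intro i
  show pi2H φ f v (DeltaH φ f v (xu φ f v i)) = xu φ f v i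
  rw [DeltaH_xu, map_add]
  show (epsR φ f v (xu φ f v i) * AlgHom.id A _ 1) + (epsR φ f v 1 * AlgHom.id A _ (xu φ f v i)) = _
  rw [epsR_xu, map_one, map_one, zero_mul, one_mul, zero_add]
  rfl

/-- scaling both copies -/
def ft2H : (Ru φ f v ⊗[A] Ru φ f v) →ₐ[A] Polynomial (Ru φ f v ⊗[A] Ru φ f v) :=
  Algebra.TensorProduct.productMap ((Polynomial.mapAlgHom (j1H φ f v)).comp (ftHom φ f v))
    ((Polynomial.mapAlgHom (j2H φ f v)).comp (ftHom φ f v))

theorem ft2_j1 : (ft2H φ f v).comp (j1H φ f v) =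
    (Polynomial.mapAlgHom (j1H φ f v)).comp (ftHom φ f v) :=
  Algebra.TensorProduct.productMap_left _ _

theorem ft2_j2 : (ft2H φ f v).comp (j2H φ f v) =
    (Polynomial.mapAlgHom (j2H φ f v)).comp (ftHom φ f v) :=
  Algebra.TensorProduct.productMap_right _ _

theorem ft2_Delta : (ft2H φ f v).comp (DeltaH φ f v) =
    (Polynomial.mapAlgHom (DeltaH φ f v)).comp (ftHom φ f v) := by
  apply Ru_algHom_ext
  intro i
  show ft2H φ f v (DeltaH φ f v (xu φ f v i)) =
    Polynomial.map _ (ftHom φ f v (xu φ f v i))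
  have e1 : ft2H φ f v (xu φ f v i ⊗ₜ[A] (1 : Ru φ f v)) =
      Polynomial.map _ (ftHom φ f v (xu φ f v i)) :=
    DFunLike.congr_fun (ft2_j1 φ f v) (xu φ f v i)
  have e2 : ft2H φ f v ((1 : Ru φ f v) ⊗ₜ[A] xu φ f v i) =
      Polynomial.map _ (ftHom φ f v (xu φ f v i)) :=
    DFunLike.congr_fun (ft2_j2 φ f v) (xu φ f v i)
  rw [DeltaH_xu, map_add, e1, e2, ftHom_xu, Polynomial.map_mul, Polynomial.map_mul,
    Polynomial.map_mul, Polynomial.map_X, Polynomial.map_X, Polynomial.map_X, Polynomial.map_C,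
    Polynomial.map_C, Polynomial.map_C, ← mul_add, ← Polynomial.C_add]
  congr 2
  exact (DeltaH_xu φ f v i).symm

/-- the degree one part -/
def DH : Ru φ f v →ₗ[A] Ru φ f v := (c1S (A := A) (Ru φ f v)) ∘ₗ (ftHom φ f v).toLinearMap

theorem DH_apply (r : Ru φ f v) : DH φ f v r = (ftHom φ f v r).coeff 1 := rfl

theorem lin_id : (c1S (A := A) (Ru φ f v ⊗[A] Ru φ f v)) ∘ₗ (ft2H φ f v).toLinearMap =
    (j1H φ f v).toLinearMap ∘ₗ (DH φ f v) ∘ₗ (pi1H φ f v).toLinearMap +
    (j2H φ f v).toLinearMap ∘ₗ (DH φ f v) ∘ₗ (pi2H φ f v).toLinearMap := by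
  apply TensorProduct.ext'
  intro r r'
  show (ft2H φ f v (r ⊗ₜ[A] r')).coeff 1 =
    j1H φ f v (DH φ f v (pi1H φ f v (r ⊗ₜ[A] r'))) + j2H φ f v (DH φ f v (pi2H φ f v (r ⊗ₜ[A] r')))
  have hL : (ft2H φ f v (r ⊗ₜ[A] r')).coeff 1 =
      j1H φ f v ((ftHom φ f v r).coeff 0) * j2H φ f v ((ftHom φ f v r').coeff 1) +
      j1H φ f v ((ftHom φ f v r).coeff 1) * j2H φ f v ((ftHom φ f v r').coeff 0) := by
    have h0 : ft2H φ f v (r ⊗ₜ[A] r') =
      Polynomial.map (j1H φ f v).toRingHom (ftHom φ f v r) *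
        Polynomial.map (j2H φ f v).toRingHom (ftHom φ f v r') := rfl
    rw [h0, Polynomial.mul_coeff_one, Polynomial.coeff_map, Polynomial.coeff_map,
      Polynomial.coeff_map, Polynomial.coeff_map]
    rfl
  have hp1 : pi1H φ f v (r ⊗ₜ[A] r') = eps0 φ f v r' • r := by
    show r * epsR φ f v r' = _
    rw [epsR_apply, Algebra.smul_def, mul_comm]
  have hp2 : pi2H φ f v (r ⊗ₜ[A] r') = eps0 φ f v r • r' := by
    show epsR φ f v r * r' = _
    rw [epsR_apply, Algebra.smul_def]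
  rw [hL, hp1, hp2, map_smul, map_smul, map_smul, map_smul, ft_coeff_zero, ft_coeff_zero,
    epsR_apply, epsR_apply, AlgHom.commutes, AlgHom.commutes, DH_apply, DH_apply,
    Algebra.smul_def, Algebra.smul_def,
    mul_comm (j1H φ f v ((ftHom φ f v r).coeff 1)) _, add_comm]

/-- a weight one element vanishing on both axes vanishes -/
theorem weight_one_zero (a : (Ru φ f v ⊗[A] Ru φ f v) ⊗[A] M)
    (h1 : (ft2H φ f v).toLinearMap.rTensor M a =
      (Polynomial.X : Polynomial (Ru φ f v ⊗[A] Ru φ f v)) •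
        ((Polynomial.CAlgHom (R := A) (A := Ru φ f v ⊗[A] Ru φ f v)).toLinearMap.rTensor M a))
    (h2 : (pi1H φ f v).toLinearMap.rTensor M a = 0)
    (h3 : (pi2H φ f v).toLinearMap.rTensor M a = 0) : a = 0 := by
  have e := eq_c1_of_weight a _ h1
  rw [← LinearMap.rTensor_comp_apply, lin_id, LinearMap.rTensor_add, LinearMap.add_apply,
    LinearMap.rTensor_comp_apply, LinearMap.rTensor_comp_apply, LinearMap.rTensor_comp_apply,
    LinearMap.rTensor_comp_apply, h2, h3, map_zero, map_zero, map_zero, add_zero] at e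
  exact e

end Univ

end

end Groth.Agent.Lib.Helper29.AdeqSplit0
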