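import Mathlib
import Groth.Prelude.Def_Adeq
import Groth.Agent.Lib.Helper29.Adeq0
import Groth.Agent.Lib.Helper29.AdeqExt
import Groth.Agent.Lib.Helper29.AdeqDS
import Groth.Agent.Lib.Helper29.AdeqCore
import Groth.Agent.Lib.Helper29.AdeqAb
import Groth.Agent.Lib.Helper29.AdeqSplit0

/-!
# Extensions of a linearly adequate functor by `underline M` split
-/

set_option autoImplicit false
set_option maxHeartbeats 800000
universe u w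
open CategoryTheory Limits Opposite TensorProduct Module

namespace Groth.Agent.Lib.Helper29.AdeqSplit
open Groth.Agent.Lib.Helper29.Adeq0 Groth.Agent.Lib.Helper29.AdeqExt Groth.Agent.Lib.Helper29.AdeqDS
  Groth.Agent.Lib.Helper29.AdeqCore Groth.Agent.Lib.Helper29.AdeqAb Groth.Agent.Lib.Helper29.AdeqSplit0

noncomputable section
variable {A : Type u} [CommRing A]

theorem coords_inj {P : Type (u+1)} [AddCommGroup P] [Module A P] {n : ℕ}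
    (vb : Basis (Fin n) A P) (B : Type u) [CommRing B] [Algebra A B] (b b' : Fin n → B)
    (h : (∑ i, b i ⊗ₜ[A] vb i : B ⊗[A] P) = ∑ i, b' i ⊗ₜ[A] vb i) : b = b' := by
  have key : ∀ c : Fin n → B, (∑ i, c i ⊗ₜ[A] vb i : B ⊗[A] P) =
      (Algebra.TensorProduct.basis B vb).equivFun.symm c := by
    intro c
    rw [Basis.equivFun_symm_apply]
    refine Finset.sum_congr rfl (fun i _ => ?_)
    rw [Algebra.TensorProduct.basis_apply, TensorProduct.smul_tmul', smul_eq_mul, mul_one]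
  rw [key, key] at h
  exact (Algebra.TensorProduct.basis B vb).equivFun.symm.injective h

/-! ### the algebras and maps, as objects and morphisms of `Alg A` -/

section Alg
variable {P P' : Type (u+1)} [AddCommGroup P] [Module A P] [AddCommGroup P'] [Module A P']
  (φ : P →ₗ[A] P') {K' : Type w} (f : Basis K' A P') {n : ℕ} (v : Fin n → P)

abbrev RB : Adeq.Alg A := Adeq.algOf A (Ru φ f v)
abbrev TB : Adeq.Alg A := Adeq.algOf A (Polynomial (Ru φ f v))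
abbrev T2B : Adeq.Alg A := Adeq.algOf A (Polynomial (Polynomial (Ru φ f v)))
abbrev RRB : Adeq.Alg A := Adeq.algOf A (Ru φ f v ⊗[A] Ru φ f v)
abbrev RRTB : Adeq.Alg A := Adeq.algOf A (Polynomial (Ru φ f v ⊗[A] Ru φ f v))

def ftC : RB φ f v ⟶ TB φ f v := CommAlgCat.ofHom (ftHom φ f v)
def inclC : RB φ f v ⟶ TB φ f v :=
  CommAlgCat.ofHom (Polynomial.CAlgHom (R := A) (A := Ru φ f v))
def PhiC : TB φ f v ⟶ T2B φ f v := CommAlgCat.ofHom (PhiH φ f v)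
def PsiC : TB φ f v ⟶ T2B φ f v := CommAlgCat.ofHom (PsiH φ f v)
def CoutC : TB φ f v ⟶ T2B φ f v :=
  CommAlgCat.ofHom (Polynomial.CAlgHom (R := A) (A := Polynomial (Ru φ f v)))
def DeltaC : RB φ f v ⟶ RRB φ f v := CommAlgCat.ofHom (DeltaH φ f v)
def j1C : RB φ f v ⟶ RRB φ f v := CommAlgCat.ofHom (j1H φ f v)
def j2C : RB φ f v ⟶ RRB φ f v := CommAlgCat.ofHom (j2H φ f v)
def pi1C : RRB φ f v ⟶ RB φ f v := CommAlgCat.ofHom (pi1H φ f v)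
def pi2C : RRB φ f v ⟶ RB φ f v := CommAlgCat.ofHom (pi2H φ f v)
def epsC : RB φ f v ⟶ RB φ f v := CommAlgCat.ofHom (epsR φ f v)
def ev0C : TB φ f v ⟶ RB φ f v := CommAlgCat.ofHom (ev0H (A := A) (S := Ru φ f v))
def ft2C : RRB φ f v ⟶ RRTB φ f v := CommAlgCat.ofHom (ft2H φ f v)
def incl2C : RRB φ f v ⟶ RRTB φ f v :=
  CommAlgCat.ofHom (Polynomial.CAlgHom (R := A) (A := Ru φ f v ⊗[A] Ru φ f v))
def mapC (g : RB φ f v ⟶ RRB φ f v) : TB φ f v ⟶ RRTB φ f v :=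
  CommAlgCat.ofHom (Polynomial.mapAlgHom g.hom)

theorem E1C : ftC φ f v ≫ PhiC φ f v = ftC φ f v ≫ PsiC φ f v :=
  CommAlgCat.hom_ext (E1H φ f v)
theorem E2C : inclC φ f v ≫ PhiC φ f v = ftC φ f v ≫ CoutC φ f v :=
  CommAlgCat.hom_ext (E2H φ f v)
theorem E3C : inclC φ f v ≫ PsiC φ f v = inclC φ f v ≫ CoutC φ f v :=
  CommAlgCat.hom_ext (E3H φ f v)
theorem PhiC_X : (PhiC φ f v).hom (Polynomial.X : Polynomial (Ru φ f v)) =
    (Polynomial.X : Polynomial (Polynomial (Ru φ f v))) := PhiH_X φ f v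
theorem PsiC_X : (PsiC φ f v).hom (Polynomial.X : Polynomial (Ru φ f v)) =
    (Polynomial.X : Polynomial (Polynomial (Ru φ f v))) *
      Polynomial.C (Polynomial.X : Polynomial (Ru φ f v)) := PsiH_X φ f v
theorem CoutC_X : (CoutC φ f v).hom (Polynomial.X : Polynomial (Ru φ f v)) =
    Polynomial.C (Polynomial.X : Polynomial (Ru φ f v)) := rfl
theorem ev0C_X : (ev0C φ f v).hom (Polynomial.X : Polynomial (Ru φ f v)) = 0 :=
  polyLift_X _ _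
theorem ev0_ft_C : ftC φ f v ≫ ev0C φ f v = epsC φ f v :=
  CommAlgCat.hom_ext (ev0_comp_ft φ f v)
theorem ft2_Delta_C : DeltaC φ f v ≫ ft2C φ f v = ftC φ f v ≫ mapC φ f v (DeltaC φ f v) :=
  CommAlgCat.hom_ext (ft2_Delta φ f v)
theorem ft2_j1_C : j1C φ f v ≫ ft2C φ f v = ftC φ f v ≫ mapC φ f v (j1C φ f v) :=
  CommAlgCat.hom_ext (ft2_j1 φ f v)
theorem ft2_j2_C : j2C φ f v ≫ ft2C φ f v = ftC φ f v ≫ mapC φ f v (j2C φ f v) :=
  CommAlgCat.hom_ext (ft2_j2 φ f v)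
theorem mapC_incl (g : RB φ f v ⟶ RRB φ f v) :
    inclC φ f v ≫ mapC φ f v g = g ≫ incl2C φ f v :=
  CommAlgCat.hom_ext (mapAlgHom_comp_C g.hom)
theorem mapC_X (g : RB φ f v ⟶ RRB φ f v) :
    (mapC φ f v g).hom (Polynomial.X : Polynomial (Ru φ f v)) =
      (Polynomial.X : Polynomial (Ru φ f v ⊗[A] Ru φ f v)) := mapAlgHom_X g.hom
theorem pi1_Delta_C : DeltaC φ f v ≫ pi1C φ f v = 𝟙 _ := CommAlgCat.hom_ext (pi1_Delta φ f v)
theorem pi2_Delta_C : DeltaC φ f v ≫ pi2C φ f v = 𝟙 _ := CommAlgCat.hom_ext (pi2_Delta φ f v)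
theorem pi1_j1_C : j1C φ f v ≫ pi1C φ f v = 𝟙 _ := CommAlgCat.hom_ext (pi1_j1 φ f v)
theorem pi1_j2_C : j2C φ f v ≫ pi1C φ f v = epsC φ f v := CommAlgCat.hom_ext (pi1_j2 φ f v)
theorem pi2_j1_C : j1C φ f v ≫ pi2C φ f v = epsC φ f v := CommAlgCat.hom_ext (pi2_j1 φ f v)
theorem pi2_j2_C : j2C φ f v ≫ pi2C φ f v = 𝟙 _ := CommAlgCat.hom_ext (pi2_j2 φ f v)

end Alg

/-! ### the section -/

section Main
variable {G L : Adeq.MVF A} {M P P' : ModuleCat.{u+1} A} (φ₀ : P ⟶ P')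
  {K' : Type w} (f : Basis K' A P') {n : ℕ} (vb : Basis (Fin n) A P)
  (ι : L ⟶ (Adeq.underline A).obj P) (w0 : ι ≫ (Adeq.underline A).map φ₀ = 0)
  (hinj : ∀ B : Adeq.Alg A, Function.Injective (ι.app (Adeq.pt B)))
  (i : (Adeq.underline A).obj M ⟶ G) (p : G ⟶ L) (hip : i ≫ p = 0)
  (hi : ∀ B : Adeq.Alg A, Function.Injective (i.app (Adeq.pt B)))
  (hexG : ∀ (B : Adeq.Alg A) (g : G.obj (Adeq.pt B)), p.app (Adeq.pt B) g = 0 →
      ∃ m : ((Adeq.underline A).obj M).obj (Adeq.pt B), i.app (Adeq.pt B) m = g)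

variable (yu : L.obj (Adeq.pt (RB φ₀.hom f ⇑vb)))
  (hyu : ι.app (Adeq.pt (RB φ₀.hom f ⇑vb)) yu = ξu (ModuleCat.Hom.hom φ₀) f (⇑vb))

include hyu in
theorem hι_tr (B : Adeq.Alg A) (g : (RB φ₀.hom f ⇑vb) ⟶ B) :
    ι.app (Adeq.pt B) (tr L g yu) =
      (∑ i, g.hom (xu φ₀.hom f vb i) ⊗ₜ[A] vb i : B ⊗[A] P) := by
  rw [tr_nat, hyu]
  exact rTensor_ξu φ₀.hom f vb g.hom

include w0 hinj hyu in
theorem exists_hom (B : Adeq.Alg A) (y : L.obj (Adeq.pt B)) : ∃ β : (RB φ₀.hom f ⇑vb) ⟶ B, tr L β yu = y := by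
  obtain ⟨b, hb⟩ := exists_coords' vb B (ι.app (Adeq.pt B) y)
  have hrel : ∀ k, ∑ i, b i * algebraMap A B (coef φ₀.hom f vb i k) = 0 := by
    apply (baseChange_sum_eq_zero_iff φ₀.hom f vb B b).mp
    have h1 := congrArg (fun k => (k.app (Adeq.pt B)).hom y) w0
    have h2 : φ₀.hom.baseChange B (ι.app (Adeq.pt B) y : B ⊗[A] P) = 0 := h1
    rw [hb] at h2
    exact h2
  refine ⟨CommAlgCat.ofHom (evalHom φ₀.hom f vb B b hrel), ?_⟩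
  apply hinj B
  rw [hι_tr φ₀ f vb ι yu hyu, hb]
  refine Finset.sum_congr rfl (fun i _ => ?_)
  rw [CommAlgCat.hom_ofHom, evalHom_xu]

include hyu in
theorem hom_unique (B : Adeq.Alg A) (β β' : (RB φ₀.hom f ⇑vb) ⟶ B) (h : tr L β yu = tr L β' yu) : β = β' := by
  have h1 : ι.app (Adeq.pt B) (tr L β yu) = ι.app (Adeq.pt B) (tr L β' yu) := by rw [h]
  rw [hι_tr φ₀ f vb ι yu hyu, hι_tr φ₀ f vb ι yu hyu] at h1
  have h2 := coords_inj vb B _ _ h1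
  apply CommAlgCat.hom_ext
  apply Ru_algHom_ext
  intro i
  exact congrFun h2 i

include hinj hyu in
theorem keyW_L : tr L (ftC φ₀.hom f ⇑vb) yu = (Polynomial.X : Polynomial (Ru φ₀.hom f ⇑vb)) • tr L (inclC φ₀.hom f ⇑vb) yu := by
  apply hinj (TB φ₀.hom f ⇑vb)
  have hs : ∀ (c : Polynomial (Ru φ₀.hom f vb)) (a : Fin n → Polynomial (Ru φ₀.hom f vb)),
      (c • (∑ i, a i ⊗ₜ[A] vb i : Polynomial (Ru φ₀.hom f vb) ⊗[A] P)) =
        ∑ i, (c * a i) ⊗ₜ[A] vb i := by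
    intro c a
    rw [Finset.smul_sum]
    refine Finset.sum_congr rfl (fun i _ => ?_)
    rw [TensorProduct.smul_tmul', smul_eq_mul]
  rw [app_smul, hι_tr φ₀ f vb ι yu hyu, hι_tr φ₀ f vb ι yu hyu]
  refine Eq.trans ?_ (hs (Polynomial.X : Polynomial (Ru φ₀.hom f ⇑vb)) (fun i => ((inclC φ₀.hom f ⇑vb)).hom (xu φ₀.hom f vb i))).symm
  refine Finset.sum_congr rfl (fun i _ => ?_)
  show (ftHom φ₀.hom f vb (xu φ₀.hom f vb i)) ⊗ₜ[A] vb i =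
    (Polynomial.X * Polynomial.C (xu φ₀.hom f vb i)) ⊗ₜ[A] vb i
  rw [ftHom_xu]

include hinj hyu in
theorem keyAdd_L : tr L (DeltaC φ₀.hom f ⇑vb) yu = tr L (j1C φ₀.hom f ⇑vb) yu + tr L (j2C φ₀.hom f ⇑vb) yu := by
  apply hinj (RRB φ₀.hom f ⇑vb)
  have hadd : ∀ a b : Fin n → (Ru φ₀.hom f vb ⊗[A] Ru φ₀.hom f vb),
      (∑ i, (a i + b i) ⊗ₜ[A] vb i : (Ru φ₀.hom f vb ⊗[A] Ru φ₀.hom f vb) ⊗[A] P) =
        (∑ i, a i ⊗ₜ[A] vb i) + ∑ i, b i ⊗ₜ[A] vb i := by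
    intro a b
    rw [← Finset.sum_add_distrib]
    exact Finset.sum_congr rfl (fun i _ => TensorProduct.add_tmul _ _ _)
  refine (hι_tr φ₀ f vb ι yu hyu (RRB φ₀.hom f ⇑vb) (DeltaC φ₀.hom f ⇑vb)).trans ?_
  refine Eq.trans ?_ (map_add (ι.app (Adeq.pt (RRB φ₀.hom f ⇑vb))).hom _ _).symm
  refine Eq.trans ?_ (congrArg₂ (· + ·) (hι_tr φ₀ f vb ι yu hyu (RRB φ₀.hom f ⇑vb) (j1C φ₀.hom f ⇑vb)).symm
    (hι_tr φ₀ f vb ι yu hyu (RRB φ₀.hom f ⇑vb) (j2C φ₀.hom f ⇑vb)).symm)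
  refine Eq.trans ?_ (hadd _ _)
  refine Finset.sum_congr rfl (fun i _ => ?_)
  show (DeltaH φ₀.hom f vb (xu φ₀.hom f vb i)) ⊗ₜ[A] vb i =
    (j1H φ₀.hom f vb (xu φ₀.hom f vb i) + j2H φ₀.hom f vb (xu φ₀.hom f vb i)) ⊗ₜ[A] vb i
  rw [DeltaH_xu]
  rfl

include hip hi hexG hinj hyu in
theorem weight_correction (η₀ : G.obj (Adeq.pt (RB φ₀.hom f ⇑vb))) (hη₀ : p.app (Adeq.pt (RB φ₀.hom f ⇑vb)) η₀ = yu) :
    ∃ η : G.obj (Adeq.pt (RB φ₀.hom f ⇑vb)), p.app (Adeq.pt (RB φ₀.hom f ⇑vb)) η = yu ∧ tr G (ftC φ₀.hom f ⇑vb) η = (Polynomial.X : Polynomial (Ru φ₀.hom f ⇑vb)) • tr G (inclC φ₀.hom f ⇑vb) η := by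
  have hkey := keyW_L φ₀ f vb ι hinj yu hyu
  have hip_app : ∀ (B : Adeq.Alg A) (m : (((Adeq.underline A).obj M)).obj (Adeq.pt B)),
      p.app (Adeq.pt B) (i.app (Adeq.pt B) m) = 0 := by
    intro B m
    have h := congrArg (fun k => (k.app (Adeq.pt B)).hom m) hip
    exact h
  have hpd : p.app (Adeq.pt (TB φ₀.hom f ⇑vb)) (tr G (ftC φ₀.hom f ⇑vb) η₀ - (Polynomial.X : Polynomial (Ru φ₀.hom f ⇑vb)) • tr G (inclC φ₀.hom f ⇑vb) η₀) = 0 := by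
    rw [map_sub, app_smul, tr_nat, tr_nat, hη₀, hkey, sub_self]
  obtain ⟨ω, hω⟩ := hexG (TB φ₀.hom f ⇑vb) _ hpd
  have hD : tr G (ftC φ₀.hom f ⇑vb) η₀ = (Polynomial.X : Polynomial (Ru φ₀.hom f ⇑vb)) • tr G (inclC φ₀.hom f ⇑vb) η₀ + i.app (Adeq.pt (TB φ₀.hom f ⇑vb)) ω := by
    rw [hω]
    exact (add_sub_cancel _ _).symm
  have hE : tr G (PhiC φ₀.hom f ⇑vb) (tr G (ftC φ₀.hom f ⇑vb) η₀) = tr G (PsiC φ₀.hom f ⇑vb) (tr G (ftC φ₀.hom f ⇑vb) η₀) := by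
    rw [← tr_comp G (ftC φ₀.hom f ⇑vb) (PhiC φ₀.hom f ⇑vb) η₀, ← tr_comp G (ftC φ₀.hom f ⇑vb) (PsiC φ₀.hom f ⇑vb) η₀, tr_congr G (E1C φ₀.hom f vb) η₀]
  have s1 : tr G (PhiC φ₀.hom f ⇑vb) (tr G (ftC φ₀.hom f ⇑vb) η₀) =
      (Polynomial.X : Polynomial (Polynomial (Ru φ₀.hom f ⇑vb))) • tr G ((inclC φ₀.hom f ⇑vb) ≫ (PhiC φ₀.hom f ⇑vb)) η₀ + i.app (Adeq.pt (T2B φ₀.hom f ⇑vb)) (tr ((Adeq.underline A).obj M) (PhiC φ₀.hom f ⇑vb) ω) := by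
    rw [hD, tr_add, tr_smul, ← tr_comp G (inclC φ₀.hom f ⇑vb) (PhiC φ₀.hom f ⇑vb) η₀, ← tr_nat, PhiC_X]
  have s2 : tr G ((inclC φ₀.hom f ⇑vb) ≫ (PhiC φ₀.hom f ⇑vb)) η₀ =
      (Polynomial.C (Polynomial.X : Polynomial (Ru φ₀.hom f ⇑vb)) : Polynomial (Polynomial (Ru φ₀.hom f ⇑vb))) • tr G ((inclC φ₀.hom f ⇑vb) ≫ (CoutC φ₀.hom f ⇑vb)) η₀ + i.app (Adeq.pt (T2B φ₀.hom f ⇑vb)) (tr ((Adeq.underline A).obj M) (CoutC φ₀.hom f ⇑vb) ω) := by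
    rw [tr_congr G (E2C φ₀.hom f vb) η₀, tr_comp G (ftC φ₀.hom f ⇑vb) (CoutC φ₀.hom f ⇑vb) η₀, hD, tr_add, tr_smul,
      ← tr_comp G (inclC φ₀.hom f ⇑vb) (CoutC φ₀.hom f ⇑vb) η₀, ← tr_nat, CoutC_X]
  have hLside : tr G (PhiC φ₀.hom f ⇑vb) (tr G (ftC φ₀.hom f ⇑vb) η₀) = ((Polynomial.X : Polynomial (Polynomial (Ru φ₀.hom f ⇑vb))) * (Polynomial.C (Polynomial.X : Polynomial (Ru φ₀.hom f ⇑vb)) : Polynomial (Polynomial (Ru φ₀.hom f ⇑vb)))) • tr G ((inclC φ₀.hom f ⇑vb) ≫ (CoutC φ₀.hom f ⇑vb)) η₀ +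
      i.app (Adeq.pt (T2B φ₀.hom f ⇑vb)) ((Polynomial.X : Polynomial (Polynomial (Ru φ₀.hom f ⇑vb))) • tr ((Adeq.underline A).obj M) (CoutC φ₀.hom f ⇑vb) ω + tr ((Adeq.underline A).obj M) (PhiC φ₀.hom f ⇑vb) ω) := by
    rw [s1, s2, smul_add, ← mul_smul, ← app_smul i (T2B φ₀.hom f ⇑vb), add_assoc, ← map_add]
  have hRside : tr G (PsiC φ₀.hom f ⇑vb) (tr G (ftC φ₀.hom f ⇑vb) η₀) = ((Polynomial.X : Polynomial (Polynomial (Ru φ₀.hom f ⇑vb))) * (Polynomial.C (Polynomial.X : Polynomial (Ru φ₀.hom f ⇑vb)) : Polynomial (Polynomial (Ru φ₀.hom f ⇑vb)))) • tr G ((inclC φ₀.hom f ⇑vb) ≫ (CoutC φ₀.hom f ⇑vb)) η₀ +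
      i.app (Adeq.pt (T2B φ₀.hom f ⇑vb)) (tr ((Adeq.underline A).obj M) (PsiC φ₀.hom f ⇑vb) ω) := by
    rw [hD, tr_add, tr_smul, ← tr_comp G (inclC φ₀.hom f ⇑vb) (PsiC φ₀.hom f ⇑vb) η₀, ← tr_nat, PsiC_X,
      tr_congr G (E3C φ₀.hom f vb) η₀]
  have hstar : (Polynomial.X : Polynomial (Polynomial (Ru φ₀.hom f ⇑vb))) • tr ((Adeq.underline A).obj M) (CoutC φ₀.hom f ⇑vb) ω + tr ((Adeq.underline A).obj M) (PhiC φ₀.hom f ⇑vb) ω = tr ((Adeq.underline A).obj M) (PsiC φ₀.hom f ⇑vb) ω := by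
    apply hi (T2B φ₀.hom f ⇑vb)
    exact add_left_cancel (hLside.symm.trans (hE.trans hRside))
  have hw := star_to_weight φ₀.hom f vb (M := M) ω hstar
  let ω₁ : (((Adeq.underline A).obj M)).obj (Adeq.pt (RB φ₀.hom f ⇑vb)) := (c1S (A := A) (Ru φ₀.hom f vb)).rTensor M ω
  have hw' : ω + tr ((Adeq.underline A).obj M) (ftC φ₀.hom f ⇑vb) ω₁ = (Polynomial.X : Polynomial (Ru φ₀.hom f ⇑vb)) • tr ((Adeq.underline A).obj M) (inclC φ₀.hom f ⇑vb) ω₁ := hw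
  refine ⟨η₀ + i.app (Adeq.pt (RB φ₀.hom f ⇑vb)) ω₁, ?_, ?_⟩
  · rw [map_add, hη₀, hip_app, add_zero]
  · rw [tr_add, tr_add, hD, ← tr_nat, ← tr_nat, smul_add, ← app_smul i (TB φ₀.hom f ⇑vb), add_assoc, ← map_add]
    exact congrArg (fun z => (Polynomial.X : Polynomial (Ru φ₀.hom f ⇑vb)) • tr G (inclC φ₀.hom f ⇑vb) η₀ + i.app (Adeq.pt (TB φ₀.hom f ⇑vb)) z) hw'

include hip hi hexG hinj hyu in
theorem add_G (η : G.obj (Adeq.pt (RB φ₀.hom f ⇑vb))) (hpη : p.app (Adeq.pt (RB φ₀.hom f ⇑vb)) η = yu)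
    (hW : tr G (ftC φ₀.hom f ⇑vb) η = (Polynomial.X : Polynomial (Ru φ₀.hom f ⇑vb)) • tr G (inclC φ₀.hom f ⇑vb) η) :
    tr G (DeltaC φ₀.hom f ⇑vb) η = tr G (j1C φ₀.hom f ⇑vb) η + tr G (j2C φ₀.hom f ⇑vb) η := by
  have hAddL := keyAdd_L φ₀ f vb ι hinj yu hyu
  have hε : tr G (epsC φ₀.hom f ⇑vb) η = 0 := by
    rw [← tr_congr G (ev0_ft_C φ₀.hom f vb) η, tr_comp G (ftC φ₀.hom f ⇑vb) (ev0C φ₀.hom f ⇑vb) η, hW, tr_smul, ev0C_X,
      zero_smul]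
  have hpd : p.app (Adeq.pt (RRB φ₀.hom f ⇑vb)) (tr G (DeltaC φ₀.hom f ⇑vb) η - (tr G (j1C φ₀.hom f ⇑vb) η + tr G (j2C φ₀.hom f ⇑vb) η)) = 0 := by
    rw [map_sub, map_add, tr_nat, tr_nat, tr_nat, hpη, hAddL, sub_self]
  obtain ⟨a, ha⟩ := hexG (RRB φ₀.hom f ⇑vb) _ hpd
  have hgen : ∀ (g : (RB φ₀.hom f ⇑vb) ⟶ (RRB φ₀.hom f ⇑vb)) (mg : (TB φ₀.hom f ⇑vb) ⟶ (RRTB φ₀.hom f ⇑vb)), g ≫ (ft2C φ₀.hom f ⇑vb) = (ftC φ₀.hom f ⇑vb) ≫ mg → (inclC φ₀.hom f ⇑vb) ≫ mg = g ≫ (incl2C φ₀.hom f ⇑vb) →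
      mg.hom (Polynomial.X : Polynomial (Ru φ₀.hom f ⇑vb)) = (Polynomial.X : Polynomial (Ru φ₀.hom f ⇑vb ⊗[A] Ru φ₀.hom f ⇑vb)) → tr G (ft2C φ₀.hom f ⇑vb) (tr G g η) = (Polynomial.X : Polynomial (Ru φ₀.hom f ⇑vb ⊗[A] Ru φ₀.hom f ⇑vb)) • tr G (incl2C φ₀.hom f ⇑vb) (tr G g η) := by
    intro g mg h1 h2 h3
    rw [← tr_comp G g (ft2C φ₀.hom f ⇑vb) η, tr_congr G h1 η, tr_comp G (ftC φ₀.hom f ⇑vb) mg η, hW, tr_smul, h3,
      ← tr_comp G (inclC φ₀.hom f ⇑vb) mg η, tr_congr G h2 η, tr_comp G g (incl2C φ₀.hom f ⇑vb) η]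
  have hgΔ := hgen (DeltaC φ₀.hom f ⇑vb) _ (ft2_Delta_C φ₀.hom f vb) (mapC_incl φ₀.hom f vb _) (mapC_X φ₀.hom f vb _)
  have hg1 := hgen (j1C φ₀.hom f ⇑vb) _ (ft2_j1_C φ₀.hom f vb) (mapC_incl φ₀.hom f vb _) (mapC_X φ₀.hom f vb _)
  have hg2 := hgen (j2C φ₀.hom f ⇑vb) _ (ft2_j2_C φ₀.hom f vb) (mapC_incl φ₀.hom f vb _) (mapC_X φ₀.hom f vb _)
  have h1 : tr ((Adeq.underline A).obj M) (ft2C φ₀.hom f ⇑vb) a = (Polynomial.X : Polynomial (Ru φ₀.hom f ⇑vb ⊗[A] Ru φ₀.hom f ⇑vb)) • tr ((Adeq.underline A).obj M) (incl2C φ₀.hom f ⇑vb) a := by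
    apply hi (RRTB φ₀.hom f ⇑vb)
    rw [app_smul, tr_nat, tr_nat, ha, tr_sub, tr_sub, tr_add, tr_add, hgΔ, hg1, hg2, smul_sub,
      smul_add]
  have h2 : tr ((Adeq.underline A).obj M) (pi1C φ₀.hom f ⇑vb) a = 0 := by
    apply hi (RB φ₀.hom f ⇑vb)
    rw [tr_nat, ha, tr_sub, tr_add, ← tr_comp G (DeltaC φ₀.hom f ⇑vb) (pi1C φ₀.hom f ⇑vb) η, ← tr_comp G (j1C φ₀.hom f ⇑vb) (pi1C φ₀.hom f ⇑vb) η,
      ← tr_comp G (j2C φ₀.hom f ⇑vb) (pi1C φ₀.hom f ⇑vb) η, tr_congr G (pi1_Delta_C φ₀.hom f vb) η,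
      tr_congr G (pi1_j1_C φ₀.hom f vb) η, tr_congr G (pi1_j2_C φ₀.hom f vb) η, tr_id, hε,
      add_zero, sub_self, map_zero]
  have h3 : tr ((Adeq.underline A).obj M) (pi2C φ₀.hom f ⇑vb) a = 0 := by
    apply hi (RB φ₀.hom f ⇑vb)
    rw [tr_nat, ha, tr_sub, tr_add, ← tr_comp G (DeltaC φ₀.hom f ⇑vb) (pi2C φ₀.hom f ⇑vb) η, ← tr_comp G (j1C φ₀.hom f ⇑vb) (pi2C φ₀.hom f ⇑vb) η,
      ← tr_comp G (j2C φ₀.hom f ⇑vb) (pi2C φ₀.hom f ⇑vb) η, tr_congr G (pi2_Delta_C φ₀.hom f vb) η,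
      tr_congr G (pi2_j1_C φ₀.hom f vb) η, tr_congr G (pi2_j2_C φ₀.hom f vb) η, tr_id, hε,
      zero_add, sub_self, map_zero]
  have ha0 : a = 0 := weight_one_zero φ₀.hom f vb (M := M) a h1 h2 h3
  rw [ha0, map_zero] at ha
  exact sub_eq_zero.mp ha.symm

include f vb w0 hinj hip hi hexG in
theorem exists_section
    (hex : ∀ (B : Adeq.Alg A) (x : B ⊗[A] P), φ₀.hom.baseChange B x = 0 →
      ∃ y : L.obj (Adeq.pt B), ι.app (Adeq.pt B) y = x)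
    (hp : ∀ B : Adeq.Alg A, Function.Surjective (p.app (Adeq.pt B))) :
    ∃ s : L ⟶ G, s ≫ p = 𝟙 L := by
  obtain ⟨yu, hyu⟩ := hex (RB φ₀.hom f ⇑vb) (ξu φ₀.hom f ⇑vb) (ξu_ker φ₀.hom f ⇑vb)
  obtain ⟨η₀, hη₀⟩ := hp (RB φ₀.hom f ⇑vb) yu
  obtain ⟨η, hpη, hW⟩ := weight_correction φ₀ f vb ι hinj i p hip hi hexG yu hyu η₀ hη₀
  have hAdd := add_G φ₀ f vb ι hinj i p hip hi hexG yu hyu η hpη hW
  have hKW := keyW_L φ₀ f vb ι hinj yu hyu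
  have hKA := keyAdd_L φ₀ f vb ι hinj yu hyu
  have hex' : ∀ (B : Adeq.Alg A) (y : L.obj (Adeq.pt B)), ∃ β : (RB φ₀.hom f ⇑vb) ⟶ B, tr L β yu = y :=
    exists_hom φ₀ f vb ι w0 hinj yu hyu
  have huniq := hom_unique φ₀ f vb ι yu hyu
  choose βOf hβOf using hex'
  obtain ⟨σ, hσdef⟩ : ∃ σ : ∀ B : Adeq.Alg A, L.obj (Adeq.pt B) → G.obj (Adeq.pt B),
      ∀ (B : Adeq.Alg A) (y : L.obj (Adeq.pt B)), σ B y = tr G (βOf B y) η :=
    ⟨fun B y => tr G (βOf B y) η, fun _ _ => rfl⟩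
  have hσ : ∀ (B : Adeq.Alg A) (β : (RB φ₀.hom f ⇑vb) ⟶ B), σ B (tr L β yu) = tr G β η := by
    intro B β
    rw [hσdef, huniq B _ _ (hβOf B (tr L β yu))]
  have hσnat : ∀ (B B' : Adeq.Alg A) (g : B ⟶ B') (y : L.obj (Adeq.pt B)),
      σ B' (tr L g y) = tr G g (σ B y) := by
    intro B B' g y
    have h1 : tr L g y = tr L (βOf B y ≫ g) yu := by
      rw [tr_comp, hβOf]
    rw [h1, hσ, hσdef, tr_comp]
  have hσsmul : ∀ (B : Adeq.Alg A) (b : B) (y : L.obj (Adeq.pt B)), σ B (b • y) = b • σ B y := by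
    intro B b y
    let γ : (TB φ₀.hom f ⇑vb) ⟶ B := CommAlgCat.ofHom (polyLift (βOf B y).hom b)
    have hγi : (inclC φ₀.hom f ⇑vb) ≫ γ = βOf B y := CommAlgCat.hom_ext (polyLift_comp_C (βOf B y).hom b)
    have hγX : γ.hom (Polynomial.X : Polynomial (Ru φ₀.hom f ⇑vb)) = b := polyLift_X (βOf B y).hom b
    have h1 : b • y = tr L ((ftC φ₀.hom f ⇑vb) ≫ γ) yu := by
      rw [tr_comp L (ftC φ₀.hom f ⇑vb) γ yu, hKW, tr_smul, hγX, ← tr_comp L (inclC φ₀.hom f ⇑vb) γ yu, tr_congr L hγi yu, hβOf]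
    rw [h1, hσ, hσdef, tr_comp G (ftC φ₀.hom f ⇑vb) γ η, hW, tr_smul, hγX, ← tr_comp G (inclC φ₀.hom f ⇑vb) γ η,
      tr_congr G hγi η]
  have hσadd : ∀ (B : Adeq.Alg A) (y y' : L.obj (Adeq.pt B)), σ B (y + y') = σ B y + σ B y' := by
    intro B y y'
    let pm : (RRB φ₀.hom f ⇑vb) ⟶ B := CommAlgCat.ofHom
      (Algebra.TensorProduct.productMap (βOf B y).hom (βOf B y').hom)
    have hp1 : (j1C φ₀.hom f ⇑vb) ≫ pm = βOf B y :=
      CommAlgCat.hom_ext (Algebra.TensorProduct.productMap_left (βOf B y).hom (βOf B y').hom)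
    have hp2 : (j2C φ₀.hom f ⇑vb) ≫ pm = βOf B y' :=
      CommAlgCat.hom_ext (Algebra.TensorProduct.productMap_right (βOf B y).hom (βOf B y').hom)
    have h1 : y + y' = tr L ((DeltaC φ₀.hom f ⇑vb) ≫ pm) yu := by
      rw [tr_comp L (DeltaC φ₀.hom f ⇑vb) pm yu, hKA, tr_add, ← tr_comp L (j1C φ₀.hom f ⇑vb) pm yu, ← tr_comp L (j2C φ₀.hom f ⇑vb) pm yu,
        tr_congr L hp1 yu, tr_congr L hp2 yu, hβOf, hβOf]
    rw [h1, hσ, hσdef, hσdef, tr_comp G (DeltaC φ₀.hom f ⇑vb) pm η, hAdd, tr_add, ← tr_comp G (j1C φ₀.hom f ⇑vb) pm η,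
      ← tr_comp G (j2C φ₀.hom f ⇑vb) pm η, tr_congr G hp1 η, tr_congr G hp2 η]
  let sLin : ∀ B : Adeq.Alg A, L.obj (Adeq.pt B) →ₗ[(B : Type u)] G.obj (Adeq.pt B) := fun B =>
    { toFun := σ B
      map_add' := hσadd B
      map_smul' := fun b y => hσsmul B b y }
  let s : L ⟶ G :=
    { app := fun X => ModuleCat.ofHom (sLin X.unop.unop)
      naturality := by
        intro X Y g
        ext y
        exact hσnat X.unop.unop Y.unop.unop g.unop.unop y }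
  refine ⟨s, hom_ext_pt _ _ (fun B y => ?_)⟩
  show p.app (Adeq.pt B) (σ B y) = y
  rw [hσdef, tr_nat, hpη, hβOf]

end Main

/-! ### the statement -/

theorem unpack_lin {F : Adeq.MVF A} {P P' : ModuleCat.{u+1} A} (φ₀ : P ⟶ P')
    (e : F ≅ kernel ((Adeq.underline A).map φ₀)) :
    ∃ ι : F ⟶ (Adeq.underline A).obj P, ι ≫ (Adeq.underline A).map φ₀ = 0 ∧
      (∀ B : Adeq.Alg A, Function.Injective (ι.app (Adeq.pt B))) ∧
      (∀ (B : Adeq.Alg A) (x : B ⊗[A] P), φ₀.hom.baseChange B x = 0 →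
        ∃ y : F.obj (Adeq.pt B), ι.app (Adeq.pt B) y = x) := by
  have w : (e.hom ≫ kernel.ι ((Adeq.underline A).map φ₀)) ≫ (Adeq.underline A).map φ₀ = 0 := by
    rw [Category.assoc, kernel.condition, comp_zero]
  have hK : IsLimit (KernelFork.ofι (e.hom ≫ kernel.ι ((Adeq.underline A).map φ₀)) w) :=
    IsLimit.ofIsoLimit (kernelIsKernel _) (Fork.ext e.symm (by simp))
  exact ⟨e.hom ≫ kernel.ι _, w, fun B => ker_inj _ _ w hK B,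
    fun B x hx => ker_exists _ _ w hK B x hx⟩

theorem main8747 (A : Type u) [CommRing A]
    (S : ShortComplex (Adeq.MVF A)) (hS : S.ShortExact) (M : ModuleCat.{u + 1} A)
    (e : S.X₁ ≅ (Adeq.underline A).obj M) (hL : Adeq.linAdequate A S.X₃) :
    Nonempty S.Splitting ∧ Adeq.adequate A S.X₂ := by
  classical
  obtain ⟨P, P', φ₀, hPfin, hPfree, hP'fin, hP'free, ⟨eL⟩⟩ := hL
  haveI := hPfin
  haveI := hPfree
  haveI := hP'fin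
  haveI := hP'free
  let vb : Basis (Fin (Fintype.card (Module.Free.ChooseBasisIndex A P))) A P :=
    (Module.Free.chooseBasis A P).reindex (Fintype.equivFin _)
  let f := Module.Free.chooseBasis A P'
  obtain ⟨ι, w0, hinj, hex⟩ := unpack_lin φ₀ eL
  haveI := hS.mono_f
  haveI := hS.epi_g
  have hip : (e.inv ≫ S.f) ≫ S.g = 0 := by rw [Category.assoc, S.zero, comp_zero]
  have hi : ∀ B : Adeq.Alg A, Function.Injective ((e.inv ≫ S.f).app (Adeq.pt B)) := fun B =>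
    PresheafOfModules.injective_of_mono (e.inv ≫ S.f) (Adeq.pt B)
  have hp : ∀ B : Adeq.Alg A, Function.Surjective (S.g.app (Adeq.pt B)) := fun B =>
    PresheafOfModules.surjective_of_epi S.g (Adeq.pt B)
  have hee : ∀ (B : Adeq.Alg A) (m : ((Adeq.underline A).obj M).obj (Adeq.pt B)),
      e.hom.app (Adeq.pt B) (e.inv.app (Adeq.pt B) m) = m := by
    intro B m
    have h := congrArg (fun k => (k.app (Adeq.pt B)).hom m) e.inv_hom_id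
    exact h
  have hee' : ∀ (B : Adeq.Alg A) (x : S.X₁.obj (Adeq.pt B)),
      e.inv.app (Adeq.pt B) (e.hom.app (Adeq.pt B) x) = x := by
    intro B x
    have h := congrArg (fun k => (k.app (Adeq.pt B)).hom x) e.hom_inv_id
    exact h
  have hexG : ∀ (B : Adeq.Alg A) (g : S.X₂.obj (Adeq.pt B)), S.g.app (Adeq.pt B) g = 0 →
      ∃ m : ((Adeq.underline A).obj M).obj (Adeq.pt B),
        (e.inv ≫ S.f).app (Adeq.pt B) m = g := by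
    intro B g hg
    obtain ⟨x, hx⟩ := exact_app hS.exact B g hg
    refine ⟨e.hom.app (Adeq.pt B) x, ?_⟩
    show S.f.app (Adeq.pt B) (e.inv.app (Adeq.pt B) (e.hom.app (Adeq.pt B) x)) = g
    rw [hee', hx]
  obtain ⟨s, hs⟩ := exists_section φ₀ f vb ι w0 hinj (e.inv ≫ S.f) S.g hip hi hexG hex hp
  have spl : S.Splitting := ShortComplex.Splitting.ofExactOfSection S hS.exact s hs hS.mono_f
  refine ⟨⟨spl⟩, ?_⟩
  -- adequacy of the middle term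
  let r' : S.X₂ ⟶ (Adeq.underline A).obj M := spl.r ≫ e.hom
  let q' : S.X₂ ⟶ (Adeq.underline A).obj P := S.g ≫ ι
  let α : ModuleCat.of A (M × P) ⟶ P' := ModuleCat.ofHom (φ₀.hom ∘ₗ LinearMap.snd A M P)
  have hc1 : ∀ (B : Adeq.Alg A) (x : S.X₂.obj (Adeq.pt B)),
      (LinearMap.fst A M P).baseChange B ((pairU r' q').app (Adeq.pt B) x) =
        e.hom.app (Adeq.pt B) (spl.r.app (Adeq.pt B) x) := fun B x => pairU_fst r' q' B x
  have hc2 : ∀ (B : Adeq.Alg A) (x : S.X₂.obj (Adeq.pt B)),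
      (LinearMap.snd A M P).baseChange B ((pairU r' q').app (Adeq.pt B) x) =
        ι.app (Adeq.pt B) (S.g.app (Adeq.pt B) x) := fun B x => pairU_snd r' q' B x
  have hw0 : ∀ (B : Adeq.Alg A) (y : S.X₃.obj (Adeq.pt B)),
      φ₀.hom.baseChange B (ι.app (Adeq.pt B) y) = 0 := by
    intro B y
    have h := congrArg (fun k => (k.app (Adeq.pt B)).hom y) w0
    exact h
  have hid : ∀ (B : Adeq.Alg A) (x : S.X₂.obj (Adeq.pt B)),
      S.f.app (Adeq.pt B) (spl.r.app (Adeq.pt B) x) +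
        spl.s.app (Adeq.pt B) (S.g.app (Adeq.pt B) x) = x := by
    intro B x
    have h := congrArg (fun k => (k.app (Adeq.pt B)).hom x) spl.id
    exact h
  have hfr : ∀ (B : Adeq.Alg A) (x : S.X₁.obj (Adeq.pt B)),
      spl.r.app (Adeq.pt B) (S.f.app (Adeq.pt B) x) = x := by
    intro B x
    have h := congrArg (fun k => (k.app (Adeq.pt B)).hom x) spl.f_r
    exact h
  have hsg : ∀ (B : Adeq.Alg A) (y : S.X₃.obj (Adeq.pt B)),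
      S.g.app (Adeq.pt B) (spl.s.app (Adeq.pt B) y) = y := by
    intro B y
    have h := congrArg (fun k => (k.app (Adeq.pt B)).hom y) spl.s_g
    exact h
  have hsr : ∀ (B : Adeq.Alg A) (y : S.X₃.obj (Adeq.pt B)),
      spl.r.app (Adeq.pt B) (spl.s.app (Adeq.pt B) y) = 0 := by
    intro B y
    have h := congrArg (fun k => (k.app (Adeq.pt B)).hom y) spl.s_r
    exact h
  have hgf : ∀ (B : Adeq.Alg A) (x : S.X₁.obj (Adeq.pt B)),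
      S.g.app (Adeq.pt B) (S.f.app (Adeq.pt B) x) = 0 := by
    intro B x
    have h := congrArg (fun k => (k.app (Adeq.pt B)).hom x) S.zero
    exact h
  have hsum : LinearMap.inl A M P ∘ₗ LinearMap.fst A M P +
      LinearMap.inr A M P ∘ₗ LinearMap.snd A M P = LinearMap.id := by
    apply LinearMap.ext
    rintro ⟨a, b⟩
    simp
  apply adequate_of_exact S.X₂ α (pairU r' q')
  · apply hom_ext_pt
    intro B x
    have : (φ₀.hom ∘ₗ LinearMap.snd A M P).baseChange B ((pairU r' q').app (Adeq.pt B) x) = 0 := by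
      rw [bc_comp_apply, hc2, hw0]
    exact this
  · intro B x x' h
    have h1 : e.hom.app (Adeq.pt B) (spl.r.app (Adeq.pt B) x) =
        e.hom.app (Adeq.pt B) (spl.r.app (Adeq.pt B) x') := by
      rw [← hc1, ← hc1, h]
    have h2 : spl.r.app (Adeq.pt B) x = spl.r.app (Adeq.pt B) x' := by
      rw [← hee' B (spl.r.app (Adeq.pt B) x), h1, hee']
    have h3 : S.g.app (Adeq.pt B) x = S.g.app (Adeq.pt B) x' := by
      apply hinj B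
      rw [← hc2, ← hc2, h]
    have h4 := hid B x
    rw [h2, h3, hid B x'] at h4
    exact h4.symm
  · intro B z hz
    have hz' : φ₀.hom.baseChange B ((LinearMap.snd A M P).baseChange B z) = 0 := by
      rw [← bc_comp_apply]
      exact hz
    obtain ⟨y, hy⟩ := hex B _ hz'
    obtain ⟨m, hm⟩ : ∃ m : ((Adeq.underline A).obj M).obj (Adeq.pt B),
        m = (LinearMap.fst A M P).baseChange B z := ⟨_, rfl⟩
    refine ⟨S.f.app (Adeq.pt B) (e.inv.app (Adeq.pt B) m) + spl.s.app (Adeq.pt B) y, ?_⟩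
    have e1 : spl.r.app (Adeq.pt B) (S.f.app (Adeq.pt B) (e.inv.app (Adeq.pt B) m) +
        spl.s.app (Adeq.pt B) y) = e.inv.app (Adeq.pt B) m := by
      rw [map_add, hfr, hsr, add_zero]
    have e2 : S.g.app (Adeq.pt B) (S.f.app (Adeq.pt B) (e.inv.app (Adeq.pt B) m) +
        spl.s.app (Adeq.pt B) y) = y := by
      rw [map_add, hgf, hsg, zero_add]
    have hr' : ∀ x, r'.app (Adeq.pt B) x =
        e.hom.app (Adeq.pt B) (spl.r.app (Adeq.pt B) x) := fun x => rfl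
    have hq' : ∀ x, q'.app (Adeq.pt B) x =
        ι.app (Adeq.pt B) (S.g.app (Adeq.pt B) x) := fun x => rfl
    rw [pairU_apply, hr', hq', e1, e2, hee, hy, hm, ← bc_comp_apply, ← bc_comp_apply,
      ← bc_add_apply, hsum, bc_id_apply]

end

end Groth.Agent.Lib.Helper29.AdeqSplit
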