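import Mathlib
import Groth.Prelude.Def_Adeq
import Groth.Agent.Lib.Helper29.Adeq0
import Groth.Agent.Lib.Helper29.AdeqCore
import Groth.Agent.Lib.Helper29.AdeqAb
import Groth.Agent.Lib.Helper29.AdeqColim
import Groth.Agent.Lib.Helper29.AdeqLin
import Groth.Agent.Lib.Helper29.AdeqSplit

/-!
# Extensions of adequate functors are adequate
-/

set_option autoImplicit false
set_option maxHeartbeats 800000
universe u
open CategoryTheory Limits Opposite

namespace Groth.Agent.Lib.Helper29.AdeqExtn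
open Groth.Agent.Lib.Helper29.Adeq0 Groth.Agent.Lib.Helper29.AdeqCore
  Groth.Agent.Lib.Helper29.AdeqAb Groth.Agent.Lib.Helper29.AdeqColim
  Groth.Agent.Lib.Helper29.AdeqLin Groth.Agent.Lib.Helper29.AdeqSplit

noncomputable section

/-! ### abstract nonsense in an abelian category -/

section Abstract
universe v₁ u₁ w₁
variable {C : Type u₁} [Category.{v₁} C] [Abelian C]

theorem epi_of_lifts {U G H S' : C} (i : U ⟶ G) (g : G ⟶ H) (w : i ≫ g = 0)
    (hcok : IsColimit (CokernelCofork.ofπ g w))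
    {J : Type w₁} {L : J → C} (c : Cofan L) (hc : IsColimit c) (π : c.pt ⟶ H) [Epi π]
    (t : ∀ j, L j ⟶ G) (ht : ∀ j, t j ≫ g = c.inj j ≫ π)
    (Θ : S' ⟶ G) (ιn : U ⟶ S') (hΘn : ιn ≫ Θ = i) (ιs : ∀ j, L j ⟶ S')
    (hΘs : ∀ j, ιs j ≫ Θ = t j) : Epi Θ := by
  apply Preadditive.epi_of_cancel_zero
  intro Z q hq
  have h1 : i ≫ q = 0 := by rw [← hΘn, Category.assoc, hq, comp_zero]
  obtain ⟨q', hq'⟩ := CokernelCofork.IsColimit.desc' hcok q h1
  have hq'' : g ≫ q' = q := hq'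
  have h2 : π ≫ q' = 0 := by
    apply Cofan.IsColimit.hom_ext hc
    intro j
    calc c.inj j ≫ π ≫ q' = (c.inj j ≫ π) ≫ q' := (Category.assoc _ _ _).symm
      _ = (t j ≫ g) ≫ q' := by rw [ht j]
      _ = t j ≫ q := by rw [Category.assoc, hq'']
      _ = ιs j ≫ Θ ≫ q := by rw [← Category.assoc, hΘs j]
      _ = 0 := by rw [hq, comp_zero]
      _ = c.inj j ≫ 0 := comp_zero.symm
  have h3 : q' = 0 := by rw [← cancel_epi π, h2, comp_zero]
  rw [← hq'', h3, comp_zero]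

theorem ext_of_epi (P : ObjectProperty C) [P.IsClosedUnderIsomorphisms]
    (hPker : ∀ {X Y : C} (f : X ⟶ Y), P X → P Y → P (kernel f))
    (hPcoker : ∀ {X Y : C} (f : X ⟶ Y), P X → P Y → P (cokernel f))
    {U G H S' : C} (i : U ⟶ G) (g : G ⟶ H) (w : i ≫ g = 0)
    (hS : (ShortComplex.mk i g w).ShortExact) (hU : P U) (hH : P H) (hS' : P S')
    (Θ : S' ⟶ G) [Epi Θ] : P G := by
  haveI : Mono i := hS.mono_f
  have hker : IsLimit (KernelFork.ofι i w) := hS.fIsKernel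
  have hK₁ : P (kernel (Θ ≫ g)) := hPker (Θ ≫ g) hS' hH
  have hν0 : (kernel.ι (Θ ≫ g) ≫ Θ) ≫ g = 0 := by
    rw [Category.assoc]
    exact kernel.condition (Θ ≫ g)
  obtain ⟨ν, hν'⟩ := KernelFork.IsLimit.lift' hker (kernel.ι (Θ ≫ g) ≫ Θ) hν0
  have hν : ν ≫ i = kernel.ι (Θ ≫ g) ≫ Θ := hν'
  have hK₂ : P (kernel ν) := hPker ν hK₁ hU
  obtain ⟨κ₂, hκdef⟩ : ∃ κ₂ : kernel ν ⟶ S', κ₂ = kernel.ι ν ≫ kernel.ι (Θ ≫ g) := ⟨_, rfl⟩
  have hκ₂ : κ₂ ≫ Θ = 0 := by
    rw [hκdef, Category.assoc, ← hν, ← Category.assoc, kernel.condition ν, zero_comp]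
  haveI : Mono κ₂ := by
    rw [hκdef]
    infer_instance
  have hKer : IsLimit (KernelFork.ofι κ₂ hκ₂) := by
    refine KernelFork.IsLimit.ofι' κ₂ hκ₂ (fun {T} k hk => ?_)
    have hk1 : k ≫ (Θ ≫ g) = 0 := by rw [← Category.assoc, hk, zero_comp]
    have hk2 : kernel.lift (Θ ≫ g) k hk1 ≫ ν = 0 := by
      rw [← cancel_mono i, Category.assoc, hν, ← Category.assoc, kernel.lift_ι, hk, zero_comp]
    refine ⟨kernel.lift ν (kernel.lift (Θ ≫ g) k hk1) hk2, ?_⟩
    rw [hκdef, ← Category.assoc, kernel.lift_ι, kernel.lift_ι]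
  have hCok : IsColimit (CokernelCofork.ofπ Θ hκ₂) :=
    Abelian.epiIsCokernelOfKernel (KernelFork.ofι κ₂ hκ₂) hKer
  have hC : P (cokernel κ₂) := hPcoker κ₂ hK₂ hS'
  exact P.prop_of_iso
    (IsColimit.coconePointUniqueUpToIso (cokernelIsCokernel κ₂) hCok) hC

theorem push_abstract (P : ObjectProperty C) [P.IsClosedUnderIsomorphisms]
    (hPker : ∀ {X Y : C} (f : X ⟶ Y), P X → P Y → P (kernel f))
    {F G H U : C} (f : F ⟶ G) (g : G ⟶ H) (w : f ≫ g = 0)
    (hS : (ShortComplex.mk f g w).ShortExact) (ιF : F ⟶ U) [Mono ιF]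
    (hQ : P (cokernel ιF))
    (hExt : ∀ {G' : C} (i : U ⟶ G') (g' : G' ⟶ H) (w' : i ≫ g' = 0),
      (ShortComplex.mk i g' w').ShortExact → P G') : P G := by
  haveI : Mono f := hS.mono_f
  haveI : Epi g := hS.epi_g
  have hcokS : IsColimit (CokernelCofork.ofπ g w) := hS.gIsCokernel
  have hcond : f ≫ pushout.inl f ιF = ιF ≫ pushout.inr f ιF := pushout.condition
  -- the map to `H`
  obtain ⟨d, hd1, hd2⟩ : ∃ d : pushout f ιF ⟶ H, pushout.inl f ιF ≫ d = g ∧
      pushout.inr f ιF ≫ d = 0 :=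
    ⟨pushout.desc g 0 (by rw [w, comp_zero]), pushout.inl_desc _ _ _, pushout.inr_desc _ _ _⟩
  haveI : Epi d := epi_of_epi_fac hd1
  have hCokd : IsColimit (CokernelCofork.ofπ d hd2) := by
    refine CokernelCofork.IsColimit.ofπ' d hd2 (fun {T} k hk => ?_)
    have hk' : f ≫ (pushout.inl f ιF ≫ k) = 0 := by
      rw [← Category.assoc, hcond, Category.assoc, hk, comp_zero]
    obtain ⟨l, hl⟩ := CokernelCofork.IsColimit.desc' hcokS (pushout.inl f ιF ≫ k) hk'
    have hl' : g ≫ l = pushout.inl f ιF ≫ k := hl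
    refine ⟨l, ?_⟩
    apply pushout.hom_ext
    · rw [← Category.assoc, hd1, hl']
    · rw [← Category.assoc, hd2, zero_comp, hk]
  have hS₁ : (ShortComplex.mk (pushout.inr f ιF) d hd2).ShortExact :=
    ShortComplex.ShortExact.mk' (ShortComplex.exact_of_g_is_cokernel _ hCokd)
      (inferInstanceAs (Mono (pushout.inr f ιF))) (inferInstanceAs (Epi d))
  have hG' : P (pushout f ιF) := hExt (pushout.inr f ιF) d hd2 hS₁
  -- the quotient
  obtain ⟨ρ, hρ1, hρ2⟩ : ∃ ρ : pushout f ιF ⟶ cokernel ιF, pushout.inl f ιF ≫ ρ = 0 ∧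
      pushout.inr f ιF ≫ ρ = cokernel.π ιF :=
    ⟨pushout.desc 0 (cokernel.π ιF) (by rw [comp_zero, cokernel.condition]),
      pushout.inl_desc _ _ _, pushout.inr_desc _ _ _⟩
  haveI : Epi ρ := epi_of_epi_fac hρ2
  have hCokρ : IsColimit (CokernelCofork.ofπ ρ hρ1) := by
    refine CokernelCofork.IsColimit.ofπ' ρ hρ1 (fun {T} k hk => ?_)
    have hk' : ιF ≫ (pushout.inr f ιF ≫ k) = 0 := by
      rw [← Category.assoc, ← hcond, Category.assoc, hk, comp_zero]
    refine ⟨cokernel.desc ιF (pushout.inr f ιF ≫ k) hk', ?_⟩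
    apply pushout.hom_ext
    · rw [← Category.assoc, hρ1, zero_comp, hk]
    · rw [← Category.assoc, hρ2, cokernel.π_desc]
  have hS₂ : (ShortComplex.mk (pushout.inl f ιF) ρ hρ1).Exact :=
    ShortComplex.exact_of_g_is_cokernel _ hCokρ
  haveI : Mono (ShortComplex.mk (pushout.inl f ιF) ρ hρ1).f :=
    inferInstanceAs (Mono (pushout.inl f ιF))
  have hKer : IsLimit (KernelFork.ofι (pushout.inl f ιF) hρ1) := hS₂.fIsKernel
  have hK : P (kernel ρ) := hPker ρ hG' hQ
  exact P.prop_of_iso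
    (IsLimit.conePointUniqueUpToIso (kernelIsKernel ρ) hKer) hK

end Abstract

variable {A : Type u} [CommRing A]

theorem adequate_underline (M : ModuleCat.{u+1} A) :
    Adeq.adequate A ((Adeq.underline A).obj M) := by
  apply adequate_of_exact ((Adeq.underline A).obj M) (0 : M ⟶ M) (𝟙 _)
  · rw [Category.id_comp, Functor.map_zero]
  · intro B x y h
    exact h
  · intro B x _
    exact ⟨x, rfl⟩

theorem adequate_of_lin {F : Adeq.MVF A} (h : Adeq.linAdequate A F) : Adeq.adequate A F := by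
  obtain ⟨P, P', φ, -, -, -, -, he⟩ := h
  exact ⟨P, P', φ, he⟩

/-- family indexed by `Option J` -/
def optFam (X : Adeq.MVF A) {J : Type (u+1)} (L : J → Adeq.MVF A) : Option J → Adeq.MVF A
  | none => X
  | some j => L j

/-- morphisms out of the family indexed by `Option J` -/
def optHom {X G : Adeq.MVF A} {J : Type (u+1)} {L : J → Adeq.MVF A} (i : X ⟶ G)
    (t : ∀ j, L j ⟶ G) : ∀ o, optFam X L o ⟶ G
  | none => i
  | some j => t j

/-- lifting maps from linearly adequate functors along an extension by `underline M` -/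
theorem exists_lift {G H L : Adeq.MVF A} {M : ModuleCat.{u+1} A}
    (i : (Adeq.underline A).obj M ⟶ G) (g : G ⟶ H) (w : i ≫ g = 0)
    (hS : (ShortComplex.mk i g w).ShortExact) (hL : Adeq.linAdequate A L) (p : L ⟶ H) :
    ∃ t : L ⟶ G, t ≫ g = p := by
  haveI : Mono i := hS.mono_f
  haveI : Epi g := hS.epi_g
  haveI : Mono (ShortComplex.mk i g w).f := hS.mono_f
  haveI : Epi (ShortComplex.mk i g w).g := hS.epi_g
  let a : (Adeq.underline A).obj M ⟶ pullback g p := pullback.lift i 0 (by rw [w, zero_comp])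
  have ha1 : a ≫ pullback.fst g p = i := pullback.lift_fst _ _ _
  have ha2 : a ≫ pullback.snd g p = 0 := pullback.lift_snd _ _ _
  haveI : Mono a := mono_of_mono_fac ha1
  have hK : IsLimit (KernelFork.ofι a ha2) := by
    refine KernelFork.IsLimit.ofι' a ha2 (fun {T} k hk => ?_)
    have hk' : (k ≫ pullback.fst g p) ≫ g = 0 := by
      rw [Category.assoc, pullback.condition, ← Category.assoc, hk, zero_comp]
    refine ⟨hS.exact.lift (k ≫ pullback.fst g p) hk', ?_⟩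
    apply pullback.hom_ext
    · rw [Category.assoc, ha1]
      exact hS.exact.lift_f _ hk'
    · rw [Category.assoc, ha2, comp_zero, hk]
  let S' : ShortComplex (Adeq.MVF A) := ShortComplex.mk a (pullback.snd g p) ha2
  have hS' : S'.ShortExact :=
    ShortComplex.ShortExact.mk' (ShortComplex.exact_of_f_is_kernel S' hK)
      (inferInstanceAs (Mono a)) (inferInstanceAs (Epi (pullback.snd g p)))
  obtain ⟨⟨spl⟩, -⟩ := main8747 A S' hS' M (Iso.refl _) hL
  obtain ⟨s, hs⟩ : ∃ s : L ⟶ pullback g p, s ≫ pullback.snd g p = 𝟙 L := ⟨spl.s, spl.s_g⟩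
  refine ⟨s ≫ pullback.fst g p, ?_⟩
  rw [Category.assoc, pullback.condition, ← Category.assoc, hs, Category.id_comp]

/-- once lifts exist, the middle term is adequate -/
theorem ext_aux {U G H : Adeq.MVF A} (i : U ⟶ G) (g : G ⟶ H) (w : i ≫ g = 0)
    (hS : (ShortComplex.mk i g w).ShortExact) (hU : Adeq.adequate A U) (hH : Adeq.adequate A H)
    {J : Type (u+1)} (L : J → Adeq.MVF A) (hL : ∀ j, Adeq.adequate A (L j))
    (c : Cofan L) (hc : IsColimit c) (π : c.pt ⟶ H) [Epi π]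
    (t : ∀ j, L j ⟶ G) (ht : ∀ j, t j ≫ g = c.inj j ≫ π) : Adeq.adequate A G := by
  classical
  have hL' : ∀ o, Adeq.adequate A (optFam U L o) := by
    intro o
    cases o with
    | none => exact hU
    | some j => exact hL j
  have hSig : Adeq.adequate A (∐ (optFam U L)) := sigma_adequate _ hL'
  obtain ⟨Θ, hΘn, hΘs⟩ : ∃ Θ : ∐ (optFam U L) ⟶ G,
      (∃ ιn : U ⟶ ∐ (optFam U L), ιn ≫ Θ = i) ∧
      (∀ j, ∃ ιs : L j ⟶ ∐ (optFam U L), ιs ≫ Θ = t j) :=
    ⟨Sigma.desc (optHom i t),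
      ⟨Sigma.ι (optFam U L) none, Sigma.ι_desc (optHom i t) none⟩,
      fun j => ⟨Sigma.ι (optFam U L) (some j), Sigma.ι_desc (optHom i t) (some j)⟩⟩
  obtain ⟨ιn, hΘn⟩ := hΘn
  choose ιs hΘs using hΘs
  haveI : Epi Θ := epi_of_lifts i g w hS.gIsCokernel c hc π t ht Θ ιn hΘn ιs hΘs
  exact ext_of_epi (Adeq.adequate A) (fun f hX hY => main8744 A f hX hY)
    (fun f hX hY => main8743 A f hX hY) i g w hS hU hH hSig Θ

/-- an extension of an adequate functor by `underline M` is adequate -/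
theorem ext_uM {G H : Adeq.MVF A} {M : ModuleCat.{u+1} A}
    (i : (Adeq.underline A).obj M ⟶ G) (g : G ⟶ H) (w : i ≫ g = 0)
    (hS : (ShortComplex.mk i g w).ShortExact) (hH : Adeq.adequate A H) : Adeq.adequate A G := by
  obtain ⟨J, L, hL, c, hc, π, hπ⟩ := main8741 A H hH
  haveI := hπ
  have hlift : ∀ j : J, ∃ t : L j ⟶ G, t ≫ g = c.inj j ≫ π := fun j =>
    exists_lift i g w hS (hL j) (c.inj j ≫ π)
  choose t ht using hlift
  exact ext_aux i g w hS (adequate_underline M) hH L (fun j => adequate_of_lin (hL j)) c hc π t ht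

/-- **S8748** -/
theorem main8748 (A : Type u) [CommRing A] (S : ShortComplex (Adeq.MVF A))
    (hS : S.ShortExact) (h₁ : Adeq.adequate A S.X₁) (h₃ : Adeq.adequate A S.X₃) :
    Adeq.adequate A S.X₂ := by
  obtain ⟨M₀, N₀, α, ιF, wF, ⟨hKF⟩⟩ := adequate_unpack h₁
  haveI : Mono ιF := mono_of_isLimit_fork hKF
  have hQ : Adeq.adequate A (cokernel ιF) := coker_adequate h₁ ιF
  exact push_abstract (Adeq.adequate A) (fun f hX hY => main8744 A f hX hY) S.f S.g S.zero hS ιF hQ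
    (fun i g' w' hS' => ext_uM i g' w' hS' h₃)

end

end Groth.Agent.Lib.Helper29.AdeqExtn
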