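import Mathlib
import Groth.Prelude.Def_Adeq

/-!
# Enough injectives for presheaves of modules (values one universe above the index category)

For `C : Type (u+1)` with homs in `Type u`, a presheaf of rings `R : Cᵒᵖ ⥤ RingCat.{u}`, the category
`PresheafOfModules.{u+1} R` has enough injectives.  Proof: for `X₀ : Cᵒᵖ` and an `R(X₀)`-module `N` the
"coinduced" presheaf `Y ↦ ((Y ⟶ X₀) → N)` is right adjoint to evaluation at `X₀`; it is injective when `N` is.
-/

set_option autoImplicit false
universe u
open CategoryTheory Limits Opposite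

namespace Groth.Agent.Lib.Helper29.PshModInj

noncomputable section

variable {C : Type (u+1)} [Category.{u} C] (R : Cᵒᵖ ⥤ RingCat.{u})

section Coind
variable (X₀ : Cᵒᵖ) (N : ModuleCat.{u+1} (R.obj X₀))

/-- carrier of the coinduced module at `Y` -/
def Carrier (Y : Cᵒᵖ) : Type (u+1) := (Y ⟶ X₀) → N

instance (Y : Cᵒᵖ) : AddCommGroup (Carrier R X₀ N Y) :=
  inferInstanceAs (AddCommGroup ((Y ⟶ X₀) → N))

instance carrierModule (Y : Cᵒᵖ) : Module (R.obj Y) (Carrier R X₀ N Y) where
  smul r s := fun f => ((R.map f).hom r) • (s f)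
  one_smul s := by
    refine funext (fun f => ?_)
    show ((R.map f).hom 1) • (s f) = s f
    rw [map_one, one_smul]
  mul_smul r r' s := by
    refine funext (fun f => ?_)
    show ((R.map f).hom (r * r')) • (s f) = ((R.map f).hom r) • (((R.map f).hom r') • (s f))
    rw [map_mul, mul_smul]
  smul_zero r := by
    refine funext (fun f => ?_)
    show ((R.map f).hom r) • (0 : N) = 0
    exact smul_zero _
  smul_add r s t := by
    refine funext (fun f => ?_)
    show ((R.map f).hom r) • (s f + t f) = ((R.map f).hom r) • (s f) + ((R.map f).hom r) • (t f)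
    exact smul_add _ _ _
  add_smul r r' s := by
    refine funext (fun f => ?_)
    show ((R.map f).hom (r + r')) • (s f) = ((R.map f).hom r) • (s f) + ((R.map f).hom r') • (s f)
    rw [map_add, add_smul]
  zero_smul s := by
    refine funext (fun f => ?_)
    show ((R.map f).hom 0) • (s f) = 0
    rw [map_zero, zero_smul]

/-- the underlying presheaf of abelian groups of the coinduced presheaf -/
abbrev coindAb : Cᵒᵖ ⥤ Ab.{u+1} where
  obj Y := AddCommGrpCat.of (Carrier R X₀ N Y)
  map {Y Y'} g := AddCommGrpCat.ofHom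
    { toFun := fun s => (fun f' => s (g ≫ f') : Carrier R X₀ N Y')
      map_zero' := rfl
      map_add' := fun _ _ => rfl }
  map_id Y := by
    ext s
    refine funext (fun f' => ?_)
    show s (𝟙 Y ≫ f') = s f'
    rw [Category.id_comp]
  map_comp {Y Y' Y''} g h := by
    ext s
    refine funext (fun f'' => ?_)
    show s ((g ≫ h) ≫ f'') = s (g ≫ (h ≫ f''))
    rw [Category.assoc]

instance coindAbModule (Y : Cᵒᵖ) : Module (R.obj Y) ((coindAb R X₀ N).obj Y) :=
  carrierModule R X₀ N Y

/-- the coinduced presheaf of modules -/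
def coind : PresheafOfModules.{u+1} R :=
  PresheafOfModules.ofPresheaf (coindAb R X₀ N) (by
    intro Y Y' g r s
    refine funext (fun f' => ?_)
    show ((R.map (g ≫ f')).hom r) • (s (g ≫ f')) =
      ((R.map f').hom ((R.map g).hom r)) • (s (g ≫ f'))
    rw [R.map_comp]
    rfl)

/-- evaluation at the identity -/
def evalId : (coind R X₀ N).obj X₀ →ₗ[R.obj X₀] N where
  toFun s := (show Carrier R X₀ N X₀ from s) (𝟙 X₀)
  map_add' _ _ := rfl
  map_smul' r s := by
    show ((R.map (𝟙 X₀)).hom r) • ((show Carrier R X₀ N X₀ from s) (𝟙 X₀)) = r • _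
    rw [R.map_id]
    rfl

/-- evaluation at the identity, as a morphism of modules -/
def evalHom : (coind R X₀ N).obj X₀ ⟶ N := ModuleCat.ofHom (evalId R X₀ N)

variable {R X₀ N}

/-- the morphism into the coinduced presheaf adjoint to a linear map `M(X₀) → N` -/
def coindLift {M : PresheafOfModules.{u+1} R} (ψ : M.obj X₀ ⟶ N) : M ⟶ coind R X₀ N :=
  PresheafOfModules.homMk
    { app := fun Y => (show M.presheaf.obj Y ⟶ (coind R X₀ N).presheaf.obj Y from
        AddCommGrpCat.ofHom
        { toFun := fun m => (fun f => ψ.hom (M.map f m) : Carrier R X₀ N Y)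
          map_zero' := by
            refine funext (fun f => ?_)
            show ψ.hom (M.restrictₛₗ f 0) = 0
            rw [map_zero, map_zero]
          map_add' := fun m m' => by
            refine funext (fun f => ?_)
            show ψ.hom (M.restrictₛₗ f (m + m')) =
              ψ.hom (M.restrictₛₗ f m) + ψ.hom (M.restrictₛₗ f m')
            rw [map_add, map_add] })
      naturality := fun Y Y' g => by
        ext m
        refine funext (fun f' => ?_)
        show ψ.hom (M.map f' (M.map g m)) = ψ.hom (M.map (g ≫ f') m)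
        rw [PresheafOfModules.map_comp_apply] }
    (by
      intro Y r m
      refine funext (fun f => ?_)
      show ψ.hom (M.map f (r • m)) = ((R.map f).hom r) • ψ.hom (M.map f m)
      rw [PresheafOfModules.map_smul]
      exact ψ.hom.map_smul _ _)

theorem coindLift_app_apply {M : PresheafOfModules.{u+1} R} (ψ : M.obj X₀ ⟶ N) (Y : Cᵒᵖ)
    (m : M.obj Y) (f : Y ⟶ X₀) :
    (show Carrier R X₀ N Y from (coindLift ψ).app Y m) f = ψ.hom (M.map f m) := rfl

theorem coind_map_apply {Y Y' : Cᵒᵖ} (g : Y ⟶ Y') (s : (coind R X₀ N).obj Y) (f' : Y' ⟶ X₀) :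
    (show Carrier R X₀ N Y' from (coind R X₀ N).map g s) f' =
      (show Carrier R X₀ N Y from s) (g ≫ f') := rfl

variable (R X₀ N)

theorem coind_injective [Injective N] : Injective (coind R X₀ N) where
  factors := fun {M' M} φ' i _ => by
    obtain ⟨ψ, hψ⟩ : ∃ ψ : M.obj X₀ ⟶ N, i.app X₀ ≫ ψ = φ'.app X₀ ≫ evalHom R X₀ N :=
      ⟨_, Injective.comp_factorThru (φ'.app X₀ ≫ evalHom R X₀ N) (i.app X₀)⟩
    refine ⟨coindLift ψ, ?_⟩
    apply PresheafOfModules.hom_ext
    intro Y
    ext m'
    refine funext (fun f => ?_)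
    show ψ.hom (M.map f (i.app Y m')) = (show Carrier R X₀ N Y from φ'.app Y m') f
    rw [← PresheafOfModules.naturality_apply i f m']
    have h1 : ψ.hom (i.app X₀ (M'.map f m')) =
        (show Carrier R X₀ N X₀ from φ'.app X₀ (M'.map f m')) (𝟙 X₀) :=
      ConcreteCategory.congr_hom hψ (M'.map f m')
    rw [h1, PresheafOfModules.naturality_apply φ' f m']
    show (show Carrier R X₀ N Y from φ'.app Y m') (f ≫ 𝟙 X₀) = _
    rw [Category.comp_id]

end Coind

theorem enoughInjectives : EnoughInjectives (PresheafOfModules.{u+1} R) where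
  presentation M := by
    have hP : ∀ X : Cᵒᵖ, Nonempty (InjectivePresentation (M.obj X)) := fun X =>
      EnoughInjectives.presentation (M.obj X)
    let P : ∀ X : Cᵒᵖ, InjectivePresentation (M.obj X) := fun X => (hP X).some
    let Q : Cᵒᵖ → PresheafOfModules.{u+1} R := fun X => coind R X (P X).J
    have : ∀ X, Injective (P X).J := fun X => (P X).injective
    have : ∀ X, Injective (Q X) := fun X => coind_injective R X (P X).J
    let φ : ∀ X, M ⟶ Q X := fun X => coindLift (P X).f
    refine ⟨{ J := ∏ᶜ Q, injective := inferInstance, f := Pi.lift φ, mono := ?_ }⟩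
    apply PresheafOfModules.mono_of_injective
    intro Y m m' h
    have key : ∀ z : M.obj Y, (P Y).f.hom z =
        (evalHom R Y (P Y).J).hom ((Pi.π Q Y).app Y ((Pi.lift φ).app Y z)) := by
      intro z
      have e : Pi.lift φ ≫ Pi.π Q Y = φ Y := Pi.lift_π φ Y
      have e2 : (Pi.π Q Y).app Y ((Pi.lift φ).app Y z) = (φ Y).app Y z :=
        congrArg (fun k => (k.app Y).hom z) e
      rw [e2]
      have hid : (M.map (𝟙 Y) z : M.obj Y) = z :=
        ConcreteCategory.congr_hom (M.presheaf.map_id Y) z
      show _ = (P Y).f.hom (M.map (𝟙 Y) z : M.obj Y)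
      rw [hid]
    have hinj : Function.Injective (P Y).f.hom :=
      (ModuleCat.mono_iff_injective (P Y).f).mp (P Y).mono
    apply hinj
    rw [key m, key m', h]

theorem main8754 (A : Type u) [CommRing A] : EnoughInjectives (Adeq.MVF A) :=
  enoughInjectives (C := (Adeq.Alg A)ᵒᵖ) (Adeq.ringOf A)

end

end Groth.Agent.Lib.Helper29.PshModInj
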