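import Mathlib
import Groth.Prelude.Def_Adeq
import Groth.Agent.Lib.Helper29.Adeq0
import Groth.Agent.Lib.Helper29.AdeqAb
import Groth.Agent.Lib.Helper29.AdeqColim
import Groth.Agent.Lib.Helper29.AdeqLin
import Groth.Agent.Lib.Helper29.AdeqExtn
import Groth.Agent.Lib.Helper29.PshModInj

/-!
# The category of adequate functors: abelian, cocomplete, coreflective, enough injectives
-/

set_option autoImplicit false
set_option maxHeartbeats 800000
universe u
open CategoryTheory Limits Opposite

namespace Groth.Agent.Lib.Helper29.AdeqAdj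
open Groth.Agent.Lib.Helper29.Adeq0 Groth.Agent.Lib.Helper29.AdeqAb
  Groth.Agent.Lib.Helper29.AdeqColim Groth.Agent.Lib.Helper29.AdeqLin
  Groth.Agent.Lib.Helper29.AdeqExtn

noncomputable section
variable (A : Type u) [CommRing A]

/-! ### closure properties as instances -/

instance closedKernels : (Adeq.adequate A).IsClosedUnderKernels where
  kernels_le := by
    rintro _ ⟨f, k, hk, hf⟩
    exact (Adeq.adequate A).prop_of_iso
      (IsLimit.conePointUniqueUpToIso (kernelIsKernel f) hk) (main8744 A f hf.1 hf.2)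

instance closedCokernels : (Adeq.adequate A).IsClosedUnderCokernels where
  cokernels_le := by
    rintro _ ⟨f, k, hk, hf⟩
    exact (Adeq.adequate A).prop_of_iso
      (IsColimit.coconePointUniqueUpToIso (cokernelIsCokernel f) hk) (main8743 A f hf.1 hf.2)

instance containsZero : (Adeq.adequate A).ContainsZero where
  exists_zero :=
    ⟨kernel (𝟙 ((Adeq.underline A).obj (ModuleCat.of A PUnit.{u+2}))), isZero_kernel_of_mono _,
      main8744 A _ (adequate_underline _) (adequate_underline _)⟩

variable {A} in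
theorem adequate_biprod {X Y : Adeq.MVF A} (hX : Adeq.adequate A X) (hY : Adeq.adequate A Y) :
    Adeq.adequate A (X ⊞ Y) := by
  have spl := ShortComplex.Splitting.ofHasBinaryBiproduct X Y
  exact main8748 A _ spl.shortExact hX hY

instance closedBinaryProducts : (Adeq.adequate A).IsClosedUnderBinaryProducts where
  limitsOfShape_le := by
    rintro Z ⟨p⟩
    have e : Z ≅ p.diag.obj ⟨WalkingPair.left⟩ ⊞ p.diag.obj ⟨WalkingPair.right⟩ :=
      IsLimit.conePointsIsoOfNatIso p.isLimit (BinaryBiproduct.isLimit _ _) (diagramIsoPair p.diag)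
    exact (Adeq.adequate A).prop_of_iso e.symm
      (adequate_biprod (p.prop_diag_obj _) (p.prop_diag_obj _))

instance closedFiniteProducts : (Adeq.adequate A).IsClosedUnderFiniteProducts :=
  ObjectProperty.IsClosedUnderFiniteProducts.mk'

instance abelianAdequate : Abelian (Adeq.Adequate A) := inferInstance

instance closedColimits (J : Type (u+1)) [SmallCategory J] :
    (Adeq.adequate A).IsClosedUnderColimitsOfShape J :=
  ObjectProperty.IsClosedUnderColimitsOfShape.mk' (by
    rintro _ ⟨F, hF⟩
    exact main8745 A F hF)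

instance hasColimitsAdequate : HasColimitsOfSize.{u+1, u+1} (Adeq.Adequate A) :=
  ⟨fun J _ => inferInstance⟩

instance preservesColimitsι : PreservesColimitsOfSize.{u+1, u+1} (Adeq.adequate A).ι :=
  ⟨fun {J} _ => inferInstance⟩

/-! ### a small separating family -/

/-- standard finite free modules -/
abbrev stdMod (n : ℕ) : ModuleCat.{u+1} A := ModuleCat.of A (ULift.{u+1} (Fin n) →₀ A)

/-- indices of the standard linearly adequate functors -/
def StdIdx : Type (u+1) := Σ (n m : ℕ), (stdMod A n ⟶ stdMod A m)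

/-- the standard linearly adequate functors -/
def stdObj (i : StdIdx A) : Adeq.Adequate A :=
  ⟨kernel ((Adeq.underline A).map i.2.2), ⟨_, _, i.2.2, ⟨Iso.refl _⟩⟩⟩

theorem lin_std {L : Adeq.MVF A} (hL : Adeq.linAdequate A L) :
    ∃ i : StdIdx A, Nonempty ((stdObj A i).obj ≅ L) := by
  classical
  obtain ⟨P, P', φ₀, hPfin, hPfree, hP'fin, hP'free, ⟨eL⟩⟩ := hL
  haveI := hPfin
  haveI := hPfree
  haveI := hP'fin
  haveI := hP'free
  let vb : Module.Basis (ULift.{u+1} (Fin (Fintype.card (Module.Free.ChooseBasisIndex A P)))) A P :=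
    (Module.Free.chooseBasis A P).reindex ((Fintype.equivFin _).trans Equiv.ulift.symm)
  let vb' : Module.Basis (ULift.{u+1} (Fin (Fintype.card (Module.Free.ChooseBasisIndex A P')))) A P' :=
    (Module.Free.chooseBasis A P').reindex ((Fintype.equivFin _).trans Equiv.ulift.symm)
  let eP : stdMod A _ ≅ P := (vb.repr.symm).toModuleIso
  let eP' : stdMod A _ ≅ P' := (vb'.repr.symm).toModuleIso
  let φ : stdMod A _ ⟶ stdMod A _ := eP.hom ≫ φ₀ ≫ eP'.inv
  have hφ : φ ≫ eP'.hom = eP.hom ≫ φ₀ := by
    show (eP.hom ≫ φ₀ ≫ eP'.inv) ≫ eP'.hom = eP.hom ≫ φ₀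
    rw [Category.assoc, Category.assoc, Iso.inv_hom_id, Category.comp_id]
  have hcomm : (Adeq.underline A).map φ ≫ ((Adeq.underline A).mapIso eP').hom =
      ((Adeq.underline A).mapIso eP).hom ≫ (Adeq.underline A).map φ₀ := by
    show (Adeq.underline A).map φ ≫ (Adeq.underline A).map eP'.hom =
      (Adeq.underline A).map eP.hom ≫ (Adeq.underline A).map φ₀
    rw [← Functor.map_comp, ← Functor.map_comp, hφ]
  refine ⟨⟨_, _, φ⟩, ⟨?_ ≪≫ eL.symm⟩⟩
  exact kernel.mapIso _ _ ((Adeq.underline A).mapIso eP) ((Adeq.underline A).mapIso eP') hcomm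

theorem std_separating : (ObjectProperty.ofObj (stdObj A)).IsSeparating := by
  intro F F' f g h
  obtain ⟨J, L, hL, c, hc, π, hπ⟩ := main8741 A F.obj F.property
  haveI := hπ
  apply ObjectProperty.hom_ext
  rw [← cancel_epi π]
  apply Cofan.IsColimit.hom_ext hc
  intro j
  obtain ⟨i, ⟨e⟩⟩ := lin_std A (hL j)
  have h1 := h (stdObj A i) (ObjectProperty.ofObj_apply _ i)
    (ObjectProperty.homMk (e.hom ≫ c.inj j ≫ π))
  have h2 : (e.hom ≫ c.inj j ≫ π) ≫ f.hom = (e.hom ≫ c.inj j ≫ π) ≫ g.hom :=
    congrArg (fun k => k.hom) h1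
  rw [← cancel_epi e.hom]
  simpa [Category.assoc] using h2

instance wellPoweredAdequate : WellPowered.{u+1} (Adeq.Adequate A) :=
  wellPowered_of_isDetecting (std_separating A).isDetecting

/-- **S8752** -/
theorem main8752 : (Adeq.adequate A).ι.IsLeftAdjoint :=
  isLeftAdjoint_of_preservesColimits_of_isSeparating (std_separating A) _

/-- **S8753** -/
theorem main8753 : EnoughInjectives (Adeq.Adequate A) := by
  haveI := main8752 A
  haveI : EnoughInjectives (Adeq.MVF A) := Groth.Agent.Lib.Helper29.PshModInj.main8754 A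
  haveI : (Adeq.adequate A).ι.PreservesMonomorphisms :=
    (Adeq.adequate A).preservesMonomorphisms_ι_of_isNormalEpiCategory
  exact EnoughInjectives.of_adjunction (Adjunction.ofIsLeftAdjoint (Adeq.adequate A).ι)

end

end Groth.Agent.Lib.Helper29.AdeqAdj
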