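import Mathlib
import Groth.Prelude.Def_Adeq
import Groth.Agent.Lib.Helper29.Adeq0
import Groth.Agent.Lib.Helper29.AdeqAb
import Groth.Agent.Lib.Helper29.AdeqSplit0
import Groth.Agent.Lib.Helper29.AdeqExtn

/-!
# `B ↦ F'(A' ⊗_A B)` is adequate for adequate `F'` (S8750)
-/

set_option autoImplicit false
set_option maxHeartbeats 800000
universe u
open CategoryTheory Limits Opposite TensorProduct

namespace Groth.Agent.Lib.Helper29.AdeqPush
open Groth.Agent.Lib.Helper29.Adeq0 Groth.Agent.Lib.Helper29.AdeqAb
  Groth.Agent.Lib.Helper29.AdeqSplit0 Groth.Agent.Lib.Helper29.AdeqExtn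

noncomputable section

section Unbundled
variable (A A' : Type u) [CommRing A] [CommRing A'] [Algebra A A']
variable (B : Type u) [CommRing B] [Algebra A B]
variable (C : Type u) [CommRing C] [Algebra A C]
variable (M' : Type (u+1)) [AddCommGroup M'] [Module A' M'] [Module A M'] [IsScalarTower A A' M']

/-- `(A' ⊗[A] B) ⊗[A'] M' ≃ B ⊗[A] M'` -/
def pe : (A' ⊗[A] B) ⊗[A'] M' ≃+ B ⊗[A] M' :=
  ((TensorProduct.comm A' (A' ⊗[A] B) M').toAddEquiv.trans
    (TensorProduct.AlgebraTensorModule.cancelBaseChange A A' A' M' B).toAddEquiv).trans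
    (TensorProduct.comm A M' B).toAddEquiv

theorem pe_tmul (a : A') (b : B) (m : M') :
    pe A A' B M' ((a ⊗ₜ[A] b) ⊗ₜ[A'] m) = b ⊗ₜ[A] (a • m) := rfl

theorem pe_smul (b : B) (z : (A' ⊗[A] B) ⊗[A'] M') :
    pe A A' B M' (((1 : A') ⊗ₜ[A] b : A' ⊗[A] B) • z) = b • pe A A' B M' z := by
  induction z using TensorProduct.induction_on with
  | zero => simp only [smul_zero, map_zero]
  | tmul x m =>
    induction x using TensorProduct.induction_on with
    | zero => simp only [TensorProduct.zero_tmul, smul_zero, map_zero]
    | tmul a b' =>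
      rw [TensorProduct.smul_tmul', smul_eq_mul, Algebra.TensorProduct.tmul_mul_tmul, pe_tmul,
        pe_tmul, TensorProduct.smul_tmul', smul_eq_mul, one_mul]
    | add x x' hx hx' => simp only [TensorProduct.add_tmul, smul_add, map_add, hx, hx']
  | add z z' hz hz' => simp only [smul_add, map_add, hz, hz']

theorem pe_nat (g : B →ₐ[A] C) (z : (A' ⊗[A] B) ⊗[A'] M') :
    pe A A' C M' ((Algebra.TensorProduct.map (AlgHom.id A' A') g).toLinearMap.rTensor M' z) =
      g.toLinearMap.rTensor M' (pe A A' B M' z) := by
  induction z using TensorProduct.induction_on with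
  | zero => simp only [map_zero]
  | tmul x m =>
    induction x using TensorProduct.induction_on with
    | zero => simp only [TensorProduct.zero_tmul, map_zero]
    | tmul a b =>
      simp only [LinearMap.rTensor_tmul, AlgHom.toLinearMap_apply, Algebra.TensorProduct.map_tmul,
        pe_tmul, AlgHom.coe_id, id_eq]
    | add x x' hx hx' => simp only [TensorProduct.add_tmul, map_add, hx, hx']
  | add z z' hz hz' => simp only [map_add, hz, hz']

end Unbundled

section Bundled
variable (A A' : Type u) [CommRing A] [CommRing A'] [Algebra A A']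

/-- restriction of scalars of an `A'`-module to `A` -/
abbrev rsMod (M' : ModuleCat.{u+1} A') : ModuleCat.{u+1} A :=
  (ModuleCat.restrictScalars (algebraMap A A')).obj M'

theorem rs_tower (M' : ModuleCat.{u+1} A') :
    letI : Module A M' := Module.compHom M' (algebraMap A A')
    IsScalarTower A A' M' := by
  letI : Module A M' := Module.compHom M' (algebraMap A A')
  exact ⟨fun a a' m => (congrArg (· • m) (Algebra.smul_def a a')).trans
    (mul_smul (algebraMap A A' a) a' m)⟩

/-- the comparison map at `B` -/
def pL (M' : ModuleCat.{u+1} A') (B : Adeq.Alg A) :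
    ((Adeq.push A A').obj ((Adeq.underline A').obj M')).obj (Adeq.pt B) →ₗ[(B : Type u)]
      ((Adeq.underline A).obj (rsMod A A' M')).obj (Adeq.pt B) :=
  letI : Module A M' := Module.compHom M' (algebraMap A A')
  haveI : IsScalarTower A A' M' := rs_tower A A' M'
  { toFun := fun z => pe A A' B M' z
    map_add' := fun z z' => map_add (pe A A' B M') z z'
    map_smul' := fun b z => pe_smul A A' B M' b z }

theorem pL_nat (M' : ModuleCat.{u+1} A') {B C : Adeq.Alg A} (g : B ⟶ C)
    (z : ((Adeq.push A A').obj ((Adeq.underline A').obj M')).obj (Adeq.pt B)) :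
    pL A A' M' C (tr _ g z) =
      tr ((Adeq.underline A).obj (rsMod A A' M')) g (pL A A' M' B z) := by
  letI : Module A M' := Module.compHom M' (algebraMap A A')
  haveI : IsScalarTower A A' M' := rs_tower A A' M'
  exact pe_nat A A' B C M' g.hom z

/-- the comparison morphism `push (underline M') ⟶ underline (M' restricted to A)` -/
def pHom (M' : ModuleCat.{u+1} A') :
    (Adeq.push A A').obj ((Adeq.underline A').obj M') ⟶
      (Adeq.underline A).obj (rsMod A A' M') :=
  { app := fun X => ConcreteCategory.ofHom (C := ModuleCat ((Adeq.ringOf A).obj X)) (pL A A' M' X.unop.unop)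
    naturality := by
      intro X Y g
      ext y
      exact pL_nat A A' M' g.unop.unop y }

theorem pHom_isIso (M' : ModuleCat.{u+1} A') : IsIso (pHom A A' M') := by
  apply isIso_of_bijective
  intro B
  letI : Module A M' := Module.compHom M' (algebraMap A A')
  haveI : IsScalarTower A A' M' := rs_tower A A' M'
  exact (pe A A' B M').bijective

theorem push_underline_adequate (M' : ModuleCat.{u+1} A') :
    Adeq.adequate A ((Adeq.push A A').obj ((Adeq.underline A').obj M')) := by
  haveI := pHom_isIso A A' M'
  exact (Adeq.adequate A).prop_of_iso (asIso (pHom A A' M')).symm (adequate_underline _)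

end Bundled

/-- **S8750** -/
theorem main8750 (A A' : Type u) [CommRing A] [CommRing A'] [Algebra A A'] (F' : Adeq.MVF A')
    (hF' : Adeq.adequate A' F') : Adeq.adequate A ((Adeq.push A A').obj F') := by
  obtain ⟨M, N, α, ι, w, hinj, hex, -⟩ := adequate_unpack' hF'
  refine adequate_of_iso_kernel ((Adeq.push A A').map ι)
    ((Adeq.push A A').map ((Adeq.underline A').map α)) ?_ ?_ ?_ ?_
  · apply hom_ext_pt
    intro B x
    exact congrArg (fun k => (k.app (Adeq.pt ((Adeq.Alg.baseChange A A').obj B))).hom x) w
  · intro B x y hxy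
    exact hinj ((Adeq.Alg.baseChange A A').obj B) hxy
  · intro B y hy
    exact hex ((Adeq.Alg.baseChange A A').obj B) y hy
  · exact main8744 A _ (push_underline_adequate A A' M) (push_underline_adequate A A' N)

end

end Groth.Agent.Lib.Helper29.AdeqPush
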