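import Mathlib
import Groth.Prelude.Def_Adeq
import Groth.Agent.Lib.Helper29.Adeq0
import Groth.Agent.Lib.Helper29.AdeqAb
import Groth.Agent.Lib.Helper29.AdeqSplit0
import Groth.Agent.Lib.Helper29.AdeqExtn

/-!
# Restriction of adequate functors along `A → A'` is adequate (S8749)
-/

set_option autoImplicit false
set_option maxHeartbeats 800000
universe u
open CategoryTheory Limits Opposite TensorProduct

namespace Groth.Agent.Lib.Helper29.AdeqRestr
open Groth.Agent.Lib.Helper29.Adeq0 Groth.Agent.Lib.Helper29.AdeqAb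
  Groth.Agent.Lib.Helper29.AdeqSplit0 Groth.Agent.Lib.Helper29.AdeqExtn

noncomputable section

section Unbundled
variable (A A' : Type u) [CommRing A] [CommRing A'] [Algebra A A']
variable (B : Type u) [CommRing B] [Algebra A' B] [Algebra A B] [IsScalarTower A A' B]
variable (C : Type u) [CommRing C] [Algebra A' C] [Algebra A C] [IsScalarTower A A' C]
variable (M : Type (u+1)) [AddCommGroup M] [Module A M]

/-- `B ⊗[A'] (A' ⊗[A] M) ≃ B ⊗[A] M` -/
def cbc : B ⊗[A'] (A' ⊗[A] M) ≃ₗ[B] B ⊗[A] M :=
  TensorProduct.AlgebraTensorModule.cancelBaseChange A A' B B M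

theorem cbc_tmul (b : B) (a : A') (m : M) :
    cbc A A' B M (b ⊗ₜ[A'] (a ⊗ₜ[A] m)) = (a • b) ⊗ₜ[A] m := rfl

theorem cbc_nat (g : B →ₐ[A'] C) (g' : B →ₐ[A] C) (h : ∀ b, g' b = g b)
    (z : B ⊗[A'] (A' ⊗[A] M)) :
    cbc A A' C M (g.toLinearMap.rTensor (A' ⊗[A] M) z) =
      g'.toLinearMap.rTensor M (cbc A A' B M z) := by
  induction z using TensorProduct.induction_on with
  | zero => simp only [map_zero]
  | tmul b y =>
    induction y using TensorProduct.induction_on with
    | zero => simp only [TensorProduct.tmul_zero, map_zero]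
    | tmul a m =>
      simp only [LinearMap.rTensor_tmul, cbc_tmul, AlgHom.toLinearMap_apply, h, map_smul]
    | add x y hx hy => simp only [TensorProduct.tmul_add, map_add, hx, hy]
  | add x y hx hy => simp only [map_add, hx, hy]

end Unbundled

section Bundled
variable (A A' : Type u) [CommRing A] [CommRing A'] [Algebra A A']

/-- the comparison map at `B'` -/
def cL (M : ModuleCat.{u+1} A) (B' : Adeq.Alg A') :
    ((Adeq.underline A').obj (ModuleCat.of A' (A' ⊗[A] M))).obj (Adeq.pt B') →ₗ[(B' : Type u)]
      ((Adeq.restr A A').obj ((Adeq.underline A).obj M)).obj (Adeq.pt B') :=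
  letI : Algebra A B' := ((algebraMap A' B').comp (algebraMap A A')).toAlgebra
  haveI : IsScalarTower A A' B' := IsScalarTower.of_algebraMap_eq (fun _ => rfl)
  (cbc A A' B' M).toLinearMap

theorem cL_nat (M : ModuleCat.{u+1} A) {B' C' : Adeq.Alg A'} (g : B' ⟶ C')
    (z : ((Adeq.underline A').obj (ModuleCat.of A' (A' ⊗[A] M))).obj (Adeq.pt B')) :
    cL A A' M C' (tr _ g z) =
      tr ((Adeq.restr A A').obj ((Adeq.underline A).obj M)) g (cL A A' M B' z) := by
  letI : Algebra A B' := ((algebraMap A' B').comp (algebraMap A A')).toAlgebra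
  haveI : IsScalarTower A A' B' := IsScalarTower.of_algebraMap_eq (fun _ => rfl)
  letI : Algebra A C' := ((algebraMap A' C').comp (algebraMap A A')).toAlgebra
  haveI : IsScalarTower A A' C' := IsScalarTower.of_algebraMap_eq (fun _ => rfl)
  exact cbc_nat A A' B' C' M g.hom ((Adeq.Alg.restr A A').map g).hom (fun _ => rfl) z

/-- the comparison morphism `underline (A' ⊗ M) ⟶ restr (underline M)` -/
def cHom (M : ModuleCat.{u+1} A) :
    (Adeq.underline A').obj (ModuleCat.of A' (A' ⊗[A] M)) ⟶
      (Adeq.restr A A').obj ((Adeq.underline A).obj M) :=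
  { app := fun X => ModuleCat.ofHom (cL A A' M X.unop.unop)
    naturality := by
      intro X Y g
      ext y
      exact cL_nat A A' M g.unop.unop y }

theorem cHom_isIso (M : ModuleCat.{u+1} A) : IsIso (cHom A A' M) := by
  apply isIso_of_bijective
  intro B'
  letI : Algebra A B' := ((algebraMap A' B').comp (algebraMap A A')).toAlgebra
  haveI : IsScalarTower A A' B' := IsScalarTower.of_algebraMap_eq (fun _ => rfl)
  exact (cbc A A' B' M).bijective

theorem restr_underline_adequate (M : ModuleCat.{u+1} A) :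
    Adeq.adequate A' ((Adeq.restr A A').obj ((Adeq.underline A).obj M)) := by
  haveI := cHom_isIso A A' M
  exact (Adeq.adequate A').prop_of_iso (asIso (cHom A A' M)) (adequate_underline _)

end Bundled

/-- **S8749** -/
theorem main8749 (A A' : Type u) [CommRing A] [CommRing A'] [Algebra A A'] (F : Adeq.MVF A)
    (hF : Adeq.adequate A F) : Adeq.adequate A' ((Adeq.restr A A').obj F) := by
  obtain ⟨M, N, α, ι, w, hinj, hex, -⟩ := adequate_unpack' hF
  refine adequate_of_iso_kernel ((Adeq.restr A A').map ι)
    ((Adeq.restr A A').map ((Adeq.underline A).map α)) ?_ ?_ ?_ ?_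
  · apply hom_ext_pt
    intro B' x
    exact congrArg (fun k => (k.app (Adeq.pt ((Adeq.Alg.restr A A').obj B'))).hom x) w
  · intro B' x y hxy
    exact hinj ((Adeq.Alg.restr A A').obj B') hxy
  · intro B' y hy
    exact hex ((Adeq.Alg.restr A A').obj B') y hy
  · exact main8744 A' _ (restr_underline_adequate A A' M) (restr_underline_adequate A A' N)

end

end Groth.Agent.Lib.Helper29.AdeqRestr
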