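import Mathlib
import Groth.Prelude.Def_Adeq
import Groth.Agent.Lib.Helper29.Adeq0
import Groth.Agent.Lib.Helper29.AdeqAb
import Groth.Agent.Lib.Helper29.AdeqSplit0
import Groth.Agent.Lib.Helper29.AdeqRestr
import Groth.Agent.Lib.Helper29.AdeqPush

/-!
# Descent of adequacy along `A → A'` (S8751)
-/

set_option autoImplicit false
set_option maxHeartbeats 800000
universe u
open CategoryTheory Limits Opposite TensorProduct

namespace Groth.Agent.Lib.Helper29.AdeqDesc
open Groth.Agent.Lib.Helper29.Adeq0 Groth.Agent.Lib.Helper29.AdeqAb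
  Groth.Agent.Lib.Helper29.AdeqSplit0 Groth.Agent.Lib.Helper29.AdeqRestr
  Groth.Agent.Lib.Helper29.AdeqPush

noncomputable section

variable (A A' : Type u) [CommRing A] [CommRing A'] [Algebra A A']

theorem sub_app_apply {A : Type u} [CommRing A] {F G : Adeq.MVF A} (f g : F ⟶ G) (B : Adeq.Alg A)
    (x : F.obj (Adeq.pt B)) :
    (f - g).app (Adeq.pt B) x = f.app (Adeq.pt B) x - g.app (Adeq.pt B) x := rfl

theorem unit_nat {B C : Adeq.Alg A} (g : B ⟶ C) :
    g ≫ Adeq.Alg.unit A A' C =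
      Adeq.Alg.unit A A' B ≫ (Adeq.Alg.restr A A').map ((Adeq.Alg.baseChange A A').map g) := by
  exact ConcreteCategory.hom_ext _ _ (fun b => rfl)

/-- the unit map at `B` -/
def uL (F : Adeq.MVF A) (B : Adeq.Alg A) :
    F.obj (Adeq.pt B) →ₗ[(B : Type u)]
      ((Adeq.push A A').obj ((Adeq.restr A A').obj F)).obj (Adeq.pt B) :=
  { toFun := fun z => tr F (Adeq.Alg.unit A A' B) z
    map_add' := fun z z' => tr_add F (Adeq.Alg.unit A A' B) z z'
    map_smul' := fun b z => tr_smul F (Adeq.Alg.unit A A' B) b z }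

theorem uL_nat (F : Adeq.MVF A) {B C : Adeq.Alg A} (g : B ⟶ C) (z : F.obj (Adeq.pt B)) :
    uL A A' F C (tr F g z) =
      tr ((Adeq.push A A').obj ((Adeq.restr A A').obj F)) g (uL A A' F B z) := by
  show tr F (Adeq.Alg.unit A A' C) (tr F g z) =
    tr F ((Adeq.Alg.restr A A').map ((Adeq.Alg.baseChange A A').map g))
      (tr F (Adeq.Alg.unit A A' B) z)
  rw [← tr_comp, ← tr_comp, unit_nat]

/-- the unit `F ⟶ push (restr F)` -/
def unitHom (F : Adeq.MVF A) : F ⟶ (Adeq.push A A').obj ((Adeq.restr A A').obj F) :=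
  { app := fun X => ConcreteCategory.ofHom (C := ModuleCat ((Adeq.ringOf A).obj X))
      (uL A A' F X.unop.unop)
    naturality := by
      intro X Y g
      ext y
      exact uL_nat A A' F g.unop.unop y }

/-- **S8751** -/
theorem main8751 (A A' : Type u) [CommRing A] [CommRing A'] [Algebra A A']
    (F : Adeq.MVF A) (h₁ : Adeq.adequate A' ((Adeq.restr A A').obj F))
    (h₂ : ∀ B : Adeq.Alg A, Function.Injective (F.map (Adeq.ptHom (Adeq.Alg.unit A A' B))) ∧
      ∀ y : F.obj (Adeq.pt ((Adeq.Alg.restr A A').obj ((Adeq.Alg.baseChange A A').obj B))),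
        F.map (Adeq.ptHom (Adeq.Alg.unit A A' ((Adeq.Alg.restr A A').obj ((Adeq.Alg.baseChange A A').obj B)))) y =
          F.map (Adeq.ptHom ((Adeq.Alg.restr A A').map ((Adeq.Alg.baseChange A A').map (Adeq.Alg.unit A A' B)))) y →
        y ∈ Set.range (F.map (Adeq.ptHom (Adeq.Alg.unit A A' B)))) :
    Adeq.adequate A F := by
  let P : Adeq.MVF A := (Adeq.push A A').obj ((Adeq.restr A A').obj F)
  let Q : Adeq.MVF A := (Adeq.push A A').obj ((Adeq.restr A A').obj P)
  let η : F ⟶ P := unitHom A A' F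
  let d₀ : P ⟶ Q := unitHom A A' P
  let d₁ : P ⟶ Q := (Adeq.push A A').map ((Adeq.restr A A').map η)
  have hP : Adeq.adequate A P := main8750 A A' _ h₁
  have hQ : Adeq.adequate A Q := main8750 A A' _ (main8749 A A' _ hP)
  have hd₁ : ∀ (B : Adeq.Alg A) (y : P.obj (Adeq.pt B)),
      d₁.app (Adeq.pt B) y =
        tr F (Adeq.Alg.unit A A' ((Adeq.Alg.restr A A').obj ((Adeq.Alg.baseChange A A').obj B))) y :=
    fun _ _ => rfl
  have hd₀ : ∀ (B : Adeq.Alg A) (y : P.obj (Adeq.pt B)),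
      d₀.app (Adeq.pt B) y =
        tr F ((Adeq.Alg.restr A A').map ((Adeq.Alg.baseChange A A').map (Adeq.Alg.unit A A' B))) y :=
    fun _ _ => rfl
  refine adequate_of_iso_kernel η (d₁ - d₀) ?_ ?_ ?_ (main8744 A (d₁ - d₀) hP hQ)
  · apply hom_ext_pt
    intro B x
    show (d₁ - d₀).app (Adeq.pt B) (η.app (Adeq.pt B) x) = 0
    rw [sub_app_apply, sub_eq_zero, hd₁, hd₀]
    show tr F _ (tr F (Adeq.Alg.unit A A' B) x) = tr F _ (tr F (Adeq.Alg.unit A A' B) x)
    rw [← tr_comp, ← tr_comp, unit_nat]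
  · intro B x y hxy
    exact (h₂ B).1 hxy
  · intro B y hy
    rw [sub_app_apply, sub_eq_zero, hd₁, hd₀] at hy
    obtain ⟨x, hx⟩ := (h₂ B).2 y hy
    exact ⟨x, hx⟩

end

end Groth.Agent.Lib.Helper29.AdeqDesc
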