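import Mathlib
import Groth.Prelude.Def_Adeq
import Groth.Agent.Lib.Helper29.Adeq0
import Groth.Agent.Lib.Helper29.AdeqAb
import Groth.Agent.Lib.Helper29.AdeqColim
import Groth.Agent.Lib.Helper29.AdeqSplit0
import Groth.Agent.Lib.Helper29.AdeqRestr
import Groth.Agent.Lib.Helper29.AdeqPush
import Groth.Agent.Lib.Helper29.AdeqDesc

/-!
# Finite products of adequate functors; descent of adequacy along a finite family of algebras
-/

set_option autoImplicit false
set_option maxHeartbeats 800000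
universe u v u₁ v₁ w
open CategoryTheory Limits Opposite TensorProduct

namespace Groth.Agent.Lib.Helper29.AdeqProd
open Groth.Agent.Lib.Helper29.Adeq0 Groth.Agent.Lib.Helper29.AdeqAb
  Groth.Agent.Lib.Helper29.AdeqColim
  Groth.Agent.Lib.Helper29.AdeqSplit0 Groth.Agent.Lib.Helper29.AdeqRestr
  Groth.Agent.Lib.Helper29.AdeqPush Groth.Agent.Lib.Helper29.AdeqDesc

noncomputable section

/-- elements of a product of presheaves of modules are determined by their projections -/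
theorem pi_ext_gen {C : Type u₁} [Category.{v₁} C] {R : Cᵒᵖ ⥤ RingCat.{u}} {ι : Type v}
    (L : ι → PresheafOfModules.{v} R) (X : Cᵒᵖ) (z z' : (∏ᶜ L).obj X)
    (h : ∀ j, (Pi.π L j).app X z = (Pi.π L j).app X z') : z = z' := by
  have hc : IsLimit ((PresheafOfModules.evaluation R X).mapCone (limit.cone (Discrete.functor L))) :=
    isLimitOfPreserves _ (limit.isLimit _)
  exact Concrete.isLimit_ext _ hc z z' (fun ⟨j⟩ => h j)

variable {A : Type u} [CommRing A]

theorem pi_ext {ι : Type (u+1)} (L : ι → Adeq.MVF A) (B : Adeq.Alg A)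
    (z z' : (∏ᶜ L).obj (Adeq.pt B))
    (h : ∀ j, (Pi.π L j).app (Adeq.pt B) z = (Pi.π L j).app (Adeq.pt B) z') : z = z' :=
  pi_ext_gen L (Adeq.pt B) z z' h

theorem pi_lift_π_apply {ι : Type (u+1)} (L : ι → Adeq.MVF A) {F : Adeq.MVF A}
    (η : ∀ j, F ⟶ L j) (j : ι) (B : Adeq.Alg A) (x : F.obj (Adeq.pt B)) :
    (Pi.π L j).app (Adeq.pt B) ((Pi.lift η).app (Adeq.pt B) x) = (η j).app (Adeq.pt B) x :=
  congrArg (fun m => (m.app (Adeq.pt B)).hom x) (Pi.lift_π η j)

theorem pi_adequate {ι : Type (u+1)} [Finite ι] (L : ι → Adeq.MVF A)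
    (hL : ∀ i, Adeq.adequate A (L i)) : Adeq.adequate A (∏ᶜ L) := by
  haveI : HasFiniteBiproducts (Adeq.MVF A) := Abelian.hasFiniteBiproducts
  exact (Adeq.adequate A).prop_of_iso
    ((biproduct.isoCoproduct L).symm ≪≫ biproduct.isoProduct L) (sigma_adequate L hL)

set_option maxHeartbeats 6400000 in
/-- descent of adequacy along a finite family of algebras -/
theorem family_descent (R : Type u) [CommRing R] (F : Adeq.MVF R) {ι : Type (u+1)} [Finite ι]
    (C : ι → Adeq.Alg R)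
    (h₁ : ∀ j, Adeq.adequate (C j) ((Adeq.restr R (C j)).obj F))
    (hinj : ∀ (B : Adeq.Alg R) (x x' : F.obj (Adeq.pt B)),
      (∀ j, tr F (Adeq.Alg.unit R (C j) B) x = tr F (Adeq.Alg.unit R (C j) B) x') → x = x')
    (hglue : ∀ (B : Adeq.Alg R)
      (y : ∀ j, F.obj (Adeq.pt ((Adeq.Alg.restr R (C j)).obj ((Adeq.Alg.baseChange R (C j)).obj B)))),
      (∀ j k, tr F (Adeq.Alg.unit R (C k)
            ((Adeq.Alg.restr R (C j)).obj ((Adeq.Alg.baseChange R (C j)).obj B))) (y j) =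
          tr F ((Adeq.Alg.restr R (C k)).map ((Adeq.Alg.baseChange R (C k)).map
            (Adeq.Alg.unit R (C j) B))) (y k)) →
      ∃ x : F.obj (Adeq.pt B), ∀ j, tr F (Adeq.Alg.unit R (C j) B) x = y j) :
    Adeq.adequate R F := by
  let P : ι → Adeq.MVF R := fun j => (Adeq.push R (C j)).obj ((Adeq.restr R (C j)).obj F)
  let Q : ι × ι → Adeq.MVF R := fun jk =>
    (Adeq.push R (C jk.1)).obj ((Adeq.restr R (C jk.1)).obj (P jk.2))
  have hP : ∀ j, Adeq.adequate R (P j) := fun j => main8750 R (C j) _ (h₁ j)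
  have hQ : ∀ jk, Adeq.adequate R (Q jk) := fun jk =>
    main8750 R (C jk.1) _ (main8749 R (C jk.1) _ (hP jk.2))
  let η : ∀ j, F ⟶ P j := fun j => unitHom R (C j) F
  let d₁ : ∀ jk : ι × ι, P jk.1 ⟶ Q jk := fun jk =>
    (Adeq.push R (C jk.1)).map ((Adeq.restr R (C jk.1)).map (η jk.2))
  let d₀ : ∀ jk : ι × ι, P jk.2 ⟶ Q jk := fun jk => unitHom R (C jk.1) (P jk.2)
  let c : F ⟶ ∏ᶜ P := Pi.lift η
  let r : ∏ᶜ P ⟶ ∏ᶜ Q := Pi.lift (fun jk => Pi.π P jk.1 ≫ d₁ jk - Pi.π P jk.2 ≫ d₀ jk)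
  have hc : ∀ (j : ι) (B : Adeq.Alg R) (x : F.obj (Adeq.pt B)),
      (Pi.π P j).app (Adeq.pt B) (c.app (Adeq.pt B) x) =
        tr F (Adeq.Alg.unit R (C j) B) x := fun j B x => pi_lift_π_apply P η j B x
  have hr : ∀ (j k : ι) (B : Adeq.Alg R) (z : (∏ᶜ P).obj (Adeq.pt B)),
      (Pi.π Q (j, k)).app (Adeq.pt B) (r.app (Adeq.pt B) z) =
        tr F (Adeq.Alg.unit R (C k)
            ((Adeq.Alg.restr R (C j)).obj ((Adeq.Alg.baseChange R (C j)).obj B)))
          ((Pi.π P j).app (Adeq.pt B) z) -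
        tr F ((Adeq.Alg.restr R (C k)).map ((Adeq.Alg.baseChange R (C k)).map
            (Adeq.Alg.unit R (C j) B))) ((Pi.π P k).app (Adeq.pt B) z) := fun j k B z =>
    pi_lift_π_apply Q (fun jk => Pi.π P jk.1 ≫ d₁ jk - Pi.π P jk.2 ≫ d₀ jk) (j, k) B z
  refine adequate_of_iso_kernel c r ?_ ?_ ?_ (main8744 R r (pi_adequate P hP) (pi_adequate Q hQ))
  · apply hom_ext_pt
    intro B x
    show r.app (Adeq.pt B) (c.app (Adeq.pt B) x) = 0
    apply pi_ext Q B
    rintro ⟨j, k⟩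
    refine (hr j k B _).trans ?_
    refine Eq.trans ?_ (map_zero ((Pi.π Q (j, k)).app (Adeq.pt B)).hom).symm
    refine sub_eq_zero.mpr ?_
    rw [hc, hc, ← tr_comp, ← tr_comp]
    exact tr_congr F (unit_nat R (C k) (Adeq.Alg.unit R (C j) B)) x
  · intro B x x' hxx
    apply hinj B
    intro j
    exact (hc j B x).symm.trans
      ((congrArg (fun w => (Pi.π P j).app (Adeq.pt B) w) hxx).trans (hc j B x'))
  · intro B z hz
    have hz' : ∀ j k, tr F (Adeq.Alg.unit R (C k)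
            ((Adeq.Alg.restr R (C j)).obj ((Adeq.Alg.baseChange R (C j)).obj B)))
          ((Pi.π P j).app (Adeq.pt B) z) =
        tr F ((Adeq.Alg.restr R (C k)).map ((Adeq.Alg.baseChange R (C k)).map
            (Adeq.Alg.unit R (C j) B))) ((Pi.π P k).app (Adeq.pt B) z) := fun j k =>
      sub_eq_zero.mp ((hr j k B z).symm.trans
        ((congrArg (fun w => (Pi.π Q (j, k)).app (Adeq.pt B) w) hz).trans
          (map_zero ((Pi.π Q (j, k)).app (Adeq.pt B)).hom)))
    obtain ⟨x, hx⟩ := hglue B (fun j => (Pi.π P j).app (Adeq.pt B) z) hz'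
    refine ⟨x, ?_⟩
    apply pi_ext P B
    intro j
    exact (hc j B x).trans (hx j)

end

end Groth.Agent.Lib.Helper29.AdeqProd
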