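import Mathlib
import Groth.Prelude.Def_Adeq
import Groth.Prelude.Def_Adeq2
import Groth.Agent.Lib.Helper29.Adeq0
import Groth.Agent.Lib.Helper29.AdeqSplit0

/-!
# `F_{M,R'}` is the restriction of `F_{M,R}` along `R → R'`
-/

set_option autoImplicit false
set_option maxHeartbeats 800000
universe u
open CategoryTheory Limits Opposite TensorProduct AlgebraicGeometry

namespace Groth.Agent.Lib.Helper29.AdeqSiteIso
open Groth.Agent.Lib.Helper29.Adeq0 Groth.Agent.Lib.Helper29.AdeqSplit0

noncomputable section

variable (K : Precoverage Scheme.{u}) [BigSite.OSh K] {S : Scheme.{u}} (M : BigSite.Mod K S)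

/-- composition law for the underlying presheaf of abelian groups, on elements -/
theorem pm_comp {X Y Z : Over S} (f : X ⟶ Y) (g : Y ⟶ Z) (x : M.val.presheaf.obj (op Z)) :
    M.val.presheaf.map f.op (M.val.presheaf.map g.op x) = M.val.presheaf.map (f ≫ g).op x := by
  rw [op_comp, CategoryTheory.Functor.map_comp]
  rfl

theorem pm_id {X : Over S} (x : M.val.presheaf.obj (op X)) :
    M.val.presheaf.map (𝟙 X).op x = x := by
  rw [op_id, CategoryTheory.Functor.map_id]
  rfl

theorem tr_toMVF {R : CommRingCat.{u}} (a : Spec R ⟶ S) {B B' : Adeq.Alg R} (g : B ⟶ B')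
    (x : ((Adeq.toMVF K a).obj M).obj (Adeq.pt B)) :
    tr ((Adeq.toMVF K a).obj M) g x = M.val.presheaf.map ((Adeq.specOver a).map g.op).op x := rfl

variable {R R' : CommRingCat.{u}} [Algebra R R'] (a : Spec R ⟶ S) (a' : Spec R' ⟶ S)
  (h : Spec.map (CommRingCat.ofHom (algebraMap R R')) ≫ a = a')

/-- the comparison of the two objects of the big site -/
def eHom (B' : Adeq.Alg R') :
    (Adeq.specOver a).obj (op ((Adeq.Alg.restr R R').obj B')) ⟶ (Adeq.specOver a').obj (op B') :=
  Over.homMk (𝟙 _) (by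
    subst h
    show 𝟙 _ ≫ (Spec.map (CommRingCat.ofHom (algebraMap R' B')) ≫
        Spec.map (CommRingCat.ofHom (algebraMap R R')) ≫ a) =
      Spec.map (CommRingCat.ofHom (algebraMap R ((Adeq.Alg.restr R R').obj B'))) ≫ a
    rw [Category.id_comp, ← Category.assoc, ← Spec.map_comp]
    rfl)

/-- its inverse -/
def eInv (B' : Adeq.Alg R') :
    (Adeq.specOver a').obj (op B') ⟶ (Adeq.specOver a).obj (op ((Adeq.Alg.restr R R').obj B')) :=
  Over.homMk (𝟙 _) (by
    subst h
    show 𝟙 _ ≫ (Spec.map (CommRingCat.ofHom (algebraMap R ((Adeq.Alg.restr R R').obj B'))) ≫ a) =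
      Spec.map (CommRingCat.ofHom (algebraMap R' B')) ≫
        Spec.map (CommRingCat.ofHom (algebraMap R R')) ≫ a
    rw [Category.id_comp, ← Category.assoc, ← Spec.map_comp]
    rfl)

theorem eHom_eInv (B' : Adeq.Alg R') : eHom a a' h B' ≫ eInv a a' h B' = 𝟙 _ := by
  apply Over.OverMorphism.ext
  simp only [Over.comp_left, eHom, eInv, Over.homMk_left, Category.id_comp, Over.id_left]
  rfl

theorem eInv_eHom (B' : Adeq.Alg R') : eInv a a' h B' ≫ eHom a a' h B' = 𝟙 _ := by
  apply Over.OverMorphism.ext
  simp only [Over.comp_left, eHom, eInv, Over.homMk_left, Category.id_comp, Over.id_left]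
  rfl

theorem eHom_nat {B' B'' : Adeq.Alg R'} (g : B' ⟶ B'') :
    eHom a a' h B'' ≫ (Adeq.specOver a').map g.op =
      (Adeq.specOver a).map ((Adeq.Alg.restr R R').map g).op ≫ eHom a a' h B' := by
  apply Over.OverMorphism.ext
  simp only [Over.comp_left, eHom, Over.homMk_left, Category.id_comp, Category.comp_id]
  rfl

theorem toSect_compat (B' : Adeq.Alg R') (b : B') :
    (BigSite.ORing K S).obj.map (eHom a a' h B').op (Adeq.toSect K a' B' b) =
      Adeq.toSect K a ((Adeq.Alg.restr R R').obj B') b := by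
  apply ULift.ext
  change ((Scheme.ΓSpecIso (CommRingCat.of B')).inv ≫
      Scheme.Hom.appTop (𝟙 (Spec (CommRingCat.of B')))) b = (Scheme.ΓSpecIso (CommRingCat.of B')).inv b
  simp

/-- the comparison map at `B'` -/
def tL (B' : Adeq.Alg R') :
    ((Adeq.toMVF K a').obj M).obj (Adeq.pt B') →ₗ[(B' : Type u)]
      ((Adeq.restr R R').obj ((Adeq.toMVF K a).obj M)).obj (Adeq.pt B') :=
  { toFun := fun x => M.val.presheaf.map (eHom a a' h B').op x
    map_add' := fun x y => map_add (M.val.presheaf.map (eHom a a' h B').op).hom x y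
    map_smul' := fun b x => by
      have h1 := M.val.map_smul (eHom a a' h B').op (Adeq.toSect K a' B' b) x
      rw [toSect_compat] at h1
      exact h1 }

theorem tL_nat {B' B'' : Adeq.Alg R'} (g : B' ⟶ B'')
    (x : ((Adeq.toMVF K a').obj M).obj (Adeq.pt B')) :
    tL K M a a' h B'' (tr _ g x) =
      tr ((Adeq.restr R R').obj ((Adeq.toMVF K a).obj M)) g (tL K M a a' h B' x) := by
  show M.val.presheaf.map (eHom a a' h B'').op
      (M.val.presheaf.map ((Adeq.specOver a').map g.op).op x) =
    M.val.presheaf.map ((Adeq.specOver a).map ((Adeq.Alg.restr R R').map g).op).op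
      (M.val.presheaf.map (eHom a a' h B').op x)
  rw [pm_comp, pm_comp, eHom_nat]

theorem tL_bij (B' : Adeq.Alg R') : Function.Bijective (tL K M a a' h B') := by
  refine Function.bijective_iff_has_inverse.mpr
    ⟨fun y => M.val.presheaf.map (eInv a a' h B').op y, ?_, ?_⟩
  · intro x
    show M.val.presheaf.map (eInv a a' h B').op (M.val.presheaf.map (eHom a a' h B').op x) = x
    rw [pm_comp, eInv_eHom, pm_id]
  · intro y
    show M.val.presheaf.map (eHom a a' h B').op (M.val.presheaf.map (eInv a a' h B').op y) = y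
    rw [pm_comp, eHom_eInv, pm_id]

/-- the comparison morphism -/
def tHom : (Adeq.toMVF K a').obj M ⟶ (Adeq.restr R R').obj ((Adeq.toMVF K a).obj M) :=
  { app := fun X => ConcreteCategory.ofHom (C := ModuleCat ((Adeq.ringOf R').obj X))
      (tL K M a a' h X.unop.unop)
    naturality := by
      intro X Y g
      ext y
      exact tL_nat K M a a' h g.unop.unop y }

include h in
theorem adequate_restr_iff :
    Adeq.adequate R' ((Adeq.restr R R').obj ((Adeq.toMVF K a).obj M)) ↔
      Adeq.adequate R' ((Adeq.toMVF K a').obj M) := by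
  haveI : IsIso (tHom K M a a' h) := isIso_of_bijective _ (fun B' => tL_bij K M a a' h B')
  exact ((Adeq.adequate R').prop_iff_of_iso (asIso (tHom K M a a' h))).symm

end

end Groth.Agent.Lib.Helper29.AdeqSiteIso
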