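import Mathlib
import Groth.Prelude.Def_Adeq
import Groth.Prelude.Def_Adeq2
import Groth.Agent.Lib.Helper29.Adeq0
import Groth.Agent.Lib.Helper29.AdeqSplit0
import Groth.Agent.Lib.Helper29.AdeqSiteIso

/-!
# The sheaf condition of a big-site module, read on the module-valued functors `F_{M,R}`
-/

set_option autoImplicit false
set_option maxHeartbeats 800000
universe u w
open CategoryTheory Limits Opposite TensorProduct AlgebraicGeometry

namespace Groth.Agent.Lib.Helper29.AdeqSiteSheaf
open Groth.Agent.Lib.Helper29.Adeq0 Groth.Agent.Lib.Helper29.AdeqSplit0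
  Groth.Agent.Lib.Helper29.AdeqSiteIso

noncomputable section

section Rings
variable {R : CommRingCat.{u}}

/-- the underlying morphism of commutative rings of a morphism of algebras (stated for variable
objects, so that the algebra instances are the bundled ones) -/
def rh {X Y : Adeq.Alg R} (g : X ⟶ Y) : CommRingCat.of X ⟶ CommRingCat.of Y :=
  CommRingCat.ofHom g.hom.toRingHom

theorem specOver_map_left {S : Scheme.{u}} (a : Spec R ⟶ S) {X Y : Adeq.Alg R} (g : X ⟶ Y) :
    ((Adeq.specOver a).map g.op).left = Spec.map (rh g) := rfl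

/-- `Spec (C ⊗ B)` is the fibre product of `Spec C` and `Spec B` over `Spec R` -/
theorem isPullback_unit (Cj B : Adeq.Alg R) :
    IsPullback (Spec.map (rh (Adeq.Alg.unit R Cj B)))
      (Spec.map (CommRingCat.ofHom (Algebra.TensorProduct.includeLeftRingHom :
        (Cj : Type u) →+* (Cj : Type u) ⊗[R] (B : Type u))))
      (Spec.map (CommRingCat.ofHom (algebraMap R B)))
      (Spec.map (CommRingCat.ofHom (algebraMap R Cj))) :=
  (isPullback_SpecMap_of_isPushout _ _ _ _ (CommRingCat.isPushout_tensorProduct R Cj B)).flip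

/-- the naturality square of the unit `B → C ⊗ B` is a pushout of rings -/
theorem isPushout_unit_nat (Ck : Adeq.Alg R) {B T : Adeq.Alg R} (g : B ⟶ T) :
    IsPushout (rh (Adeq.Alg.unit R Ck B)) (rh g)
      (rh ((Adeq.Alg.restr R Ck).map ((Adeq.Alg.baseChange R Ck).map g)))
      (rh (Adeq.Alg.unit R Ck T)) := by
  have t := CommRingCat.isPushout_tensorProduct R Ck B
  have s := CommRingCat.isPushout_tensorProduct R Ck T
  have e1 : CommRingCat.ofHom (algebraMap R T) =
      CommRingCat.ofHom (algebraMap R B) ≫ rh g := by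
    ext r
    exact (g.hom.commutes r).symm
  have e2 : CommRingCat.ofHom (Algebra.TensorProduct.includeLeftRingHom :
        (Ck : Type u) →+* (Ck : Type u) ⊗[R] (T : Type u)) =
      CommRingCat.ofHom (Algebra.TensorProduct.includeLeftRingHom :
        (Ck : Type u) →+* (Ck : Type u) ⊗[R] (B : Type u)) ≫
      rh ((Adeq.Alg.restr R Ck).map ((Adeq.Alg.baseChange R Ck).map g)) := by
    ext c
    show c ⊗ₜ[R] (1 : T) =
      Algebra.TensorProduct.map (AlgHom.id Ck Ck) g.hom (c ⊗ₜ[R] (1 : B))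
    rw [Algebra.TensorProduct.map_tmul, map_one]
    rfl
  have e : rh (Adeq.Alg.unit R Ck B) ≫
      rh ((Adeq.Alg.restr R Ck).map ((Adeq.Alg.baseChange R Ck).map g)) =
      rh g ≫ rh (Adeq.Alg.unit R Ck T) := by
    ext b
    show Algebra.TensorProduct.map (AlgHom.id Ck Ck) g.hom ((1 : Ck) ⊗ₜ[R] b) =
      (1 : Ck) ⊗ₜ[R] g.hom b
    rw [Algebra.TensorProduct.map_tmul]
    rfl
  rw [e1, e2] at s
  exact IsPushout.of_top s e t

theorem isPullback_double (Cj Ck B : Adeq.Alg R) :
    IsPullback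
      (Spec.map (rh ((Adeq.Alg.restr R Ck).map ((Adeq.Alg.baseChange R Ck).map
        (Adeq.Alg.unit R Cj B)))))
      (Spec.map (rh (Adeq.Alg.unit R Ck
        ((Adeq.Alg.restr R Cj).obj ((Adeq.Alg.baseChange R Cj).obj B)))))
      (Spec.map (rh (Adeq.Alg.unit R Ck B)))
      (Spec.map (rh (Adeq.Alg.unit R Cj B))) :=
  isPullback_SpecMap_of_isPushout _ _ _ _ (isPushout_unit_nat Ck (Adeq.Alg.unit R Cj B))

end Rings

section Sheaf
variable (K : Precoverage Scheme.{u}) [BigSite.OSh K] [K.IsStableUnderBaseChange]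
  {S : Scheme.{u}} (M : BigSite.Mod K S) {R : CommRingCat.{u}} (a : Spec R ⟶ S)
  {ι : Type w} (C : ι → Adeq.Alg R)
  (hcov : Presieve.ofArrows (fun j => Spec (CommRingCat.of (C j)))
    (fun j => Spec.map (CommRingCat.ofHom (algebraMap R (C j)))) ∈ K.coverings (Spec R))

/-- the object `Spec B → S` -/
abbrev XB (B : Adeq.Alg R) : Over S := (Adeq.specOver a).obj (op B)

/-- the object `Spec (C_j ⊗ B) → S` -/
abbrev Xj (j : ι) (B : Adeq.Alg R) : Over S :=
  (Adeq.specOver a).obj (op ((Adeq.Alg.restr R (C j)).obj ((Adeq.Alg.baseChange R (C j)).obj B)))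

/-- the object `Spec (C_k ⊗ (C_j ⊗ B)) → S` -/
abbrev Xjk (j k : ι) (B : Adeq.Alg R) : Over S :=
  (Adeq.specOver a).obj (op ((Adeq.Alg.restr R (C k)).obj ((Adeq.Alg.baseChange R (C k)).obj
    ((Adeq.Alg.restr R (C j)).obj ((Adeq.Alg.baseChange R (C j)).obj B)))))

/-- the covering map `Spec (C_j ⊗ B) → Spec B` -/
abbrev πj (j : ι) (B : Adeq.Alg R) : Xj a C j B ⟶ XB a B :=
  (Adeq.specOver a).map (Adeq.Alg.unit R (C j) B).op

include hcov in
theorem cover_mem (B : Adeq.Alg R) :
    Sieve.ofArrows (fun j => Xj a C j B) (fun j => πj a C j B) ∈ (QuotSh.J K S) (XB a B) := by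
  rw [GrothendieckTopology.mem_over_iff, Sieve.overEquiv_ofArrows]
  exact Precoverage.generate_mem_toGrothendieck
    (Precoverage.mem_coverings_of_isPullback _ hcov
      (Spec.map (CommRingCat.ofHom (algebraMap R B)))
      (fun j => Spec.map (rh (Adeq.Alg.unit R (C j) B)))
      (fun j => Spec.map (CommRingCat.ofHom (Algebra.TensorProduct.includeLeftRingHom :
        (C j : Type u) →+* (C j : Type u) ⊗[R] (B : Type u))))
      (fun j => isPullback_unit (C j) B))

include hcov in
theorem isSheafFor_family (B : Adeq.Alg R) :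
    Presieve.IsSheafFor (M.val.presheaf ⋙ forget AddCommGrpCat)
      (Presieve.ofArrows (fun j => Xj a C j B) (fun j => πj a C j B)) := by
  have h1 : Presheaf.IsSheaf (QuotSh.J K S) M.val.presheaf := M.isSheaf
  have h2 := (Presheaf.isSheaf_iff_isSheaf_forget (QuotSh.J K S) M.val.presheaf
    (forget AddCommGrpCat)).mp h1
  have h3 := (isSheaf_iff_isSheaf_of_type _ _).mp h2
  rw [Presieve.isSheafFor_iff_generate]
  exact h3 _ (cover_mem K a C hcov B)

include hcov in
theorem toMVF_sep (B : Adeq.Alg R) (x x' : ((Adeq.toMVF K a).obj M).obj (Adeq.pt B))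
    (hx : ∀ j, tr ((Adeq.toMVF K a).obj M) (Adeq.Alg.unit R (C j) B) x =
      tr ((Adeq.toMVF K a).obj M) (Adeq.Alg.unit R (C j) B) x') : x = x' := by
  have hs := (isSheafFor_family K M a C hcov B).isSeparatedFor
  apply hs.ext
  rintro Y f ⟨j⟩
  exact hx j

include hcov in
theorem toMVF_glue (B : Adeq.Alg R)
    (y : ∀ j, ((Adeq.toMVF K a).obj M).obj
      (Adeq.pt ((Adeq.Alg.restr R (C j)).obj ((Adeq.Alg.baseChange R (C j)).obj B))))
    (hy : ∀ j k, tr ((Adeq.toMVF K a).obj M) (Adeq.Alg.unit R (C k)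
            ((Adeq.Alg.restr R (C j)).obj ((Adeq.Alg.baseChange R (C j)).obj B))) (y j) =
          tr ((Adeq.toMVF K a).obj M) ((Adeq.Alg.restr R (C k)).map
            ((Adeq.Alg.baseChange R (C k)).map (Adeq.Alg.unit R (C j) B))) (y k)) :
    ∃ x : ((Adeq.toMVF K a).obj M).obj (Adeq.pt B),
      ∀ j, tr ((Adeq.toMVF K a).obj M) (Adeq.Alg.unit R (C j) B) x = y j := by
  have hs := (Presieve.isSheafFor_arrows_iff _ _).mp (isSheafFor_family K M a C hcov B)
  have hcompat : Presieve.Arrows.Compatible (M.val.presheaf ⋙ forget AddCommGrpCat)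
      (fun j => πj a C j B) y := by
    intro j k Z gj gk comm
    have hpb := isPullback_double (C j) (C k) B
    -- the two projections from the double overlap, as morphisms of the big site
    let p₁ : Xjk a C j k B ⟶ Xj a C j B :=
      (Adeq.specOver a).map (Adeq.Alg.unit R (C k)
        ((Adeq.Alg.restr R (C j)).obj ((Adeq.Alg.baseChange R (C j)).obj B))).op
    let p₂ : Xjk a C j k B ⟶ Xj a C k B :=
      (Adeq.specOver a).map ((Adeq.Alg.restr R (C k)).map
        ((Adeq.Alg.baseChange R (C k)).map (Adeq.Alg.unit R (C j) B))).op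
    have hcomm : gk.left ≫ (πj a C k B).left = gj.left ≫ (πj a C j B).left :=
      (congrArg CommaMorphism.left comm).symm
    let h₀ : Z.left ⟶ (Xjk a C j k B).left := hpb.lift gk.left gj.left hcomm
    have h₀1 : h₀ ≫ p₁.left = gj.left := hpb.lift_snd gk.left gj.left hcomm
    have h₀2 : h₀ ≫ p₂.left = gk.left := hpb.lift_fst gk.left gj.left hcomm
    have e1 : p₁.left ≫ (Xj a C j B).hom = (Xjk a C j k B).hom := Over.w p₁
    have e2 : gj.left ≫ (Xj a C j B).hom = Z.hom := Over.w gj
    let hh : Z ⟶ Xjk a C j k B :=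
      Over.homMk h₀ ((congrArg (fun q => h₀ ≫ q) e1.symm).trans
        ((Category.assoc _ _ _).symm.trans
          ((congrArg (fun q => q ≫ (Xj a C j B).hom) h₀1).trans e2)))
    have hh1 : hh ≫ p₁ = gj := Over.OverMorphism.ext h₀1
    have hh2 : hh ≫ p₂ = gk := Over.OverMorphism.ext h₀2
    have key := congrArg (fun w => M.val.presheaf.map hh.op w) (hy j k)
    show M.val.presheaf.map gj.op (y j) = M.val.presheaf.map gk.op (y k)
    rw [← hh1, ← hh2, ← pm_comp, ← pm_comp]
    exact key
  obtain ⟨t, ht, -⟩ := hs y hcompat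
  exact ⟨t, ht⟩

end Sheaf

end

end Groth.Agent.Lib.Helper29.AdeqSiteSheaf
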