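import Mathlib
import Groth.Prelude.Def_Adeq
import Groth.Prelude.Def_Adeq2
import Groth.Agent.Lib.Helper29.Adeq0
import Groth.Agent.Lib.Helper29.AdeqSplit0
import Groth.Agent.Lib.Helper29.AdeqRestr
import Groth.Agent.Lib.Helper29.AdeqProd
import Groth.Agent.Lib.Helper29.AdeqSiteIso
import Groth.Agent.Lib.Helper29.AdeqSiteSheaf

/-!
# Adequacy of a big-site module does not depend on the affine covering (S8755, S8756)
-/

set_option autoImplicit false
set_option maxHeartbeats 800000
universe u w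
open CategoryTheory Limits Opposite TensorProduct AlgebraicGeometry

namespace Groth.Agent.Lib.Helper29.AdeqSiteMain
open Groth.Agent.Lib.Helper29.Adeq0 Groth.Agent.Lib.Helper29.AdeqSplit0
  Groth.Agent.Lib.Helper29.AdeqRestr Groth.Agent.Lib.Helper29.AdeqProd
  Groth.Agent.Lib.Helper29.AdeqSiteIso Groth.Agent.Lib.Helper29.AdeqSiteSheaf

noncomputable section

/-- refinement of a covering by affines, pulled back to an affine scheme, by a finite family of
affine schemes -/
theorem exists_affine_refinement (P : MorphismProperty Scheme.{u}) [P.IsStableUnderBaseChange]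
    [P.IsStableUnderComposition]
    (himm : ∀ {X Y : Scheme.{u}} (f : X ⟶ Y) [IsOpenImmersion f], P f)
    (hopen : ∀ {X Y : Scheme.{u}} (f : X ⟶ Y), P f → IsOpenMap f.base)
    {S : Scheme.{u}} {ι : Type u} (Ri : ι → CommRingCat.{u}) (ai : ∀ i, Spec (Ri i) ⟶ S)
    (hcov : Presieve.ofArrows (fun i => Spec (Ri i)) ai ∈ (Scheme.precoverage P).coverings S)
    (R : CommRingCat.{u}) (a : Spec R ⟶ S) :
    ∃ (κ : Type (u+1)) (_ : Finite κ) (C : κ → CommRingCat.{u}) (φ : ∀ l, R ⟶ C l) (i : κ → ι)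
      (ψ : ∀ l, Ri (i l) ⟶ C l),
      Presieve.ofArrows (fun l => Spec (C l)) (fun l => Spec.map (φ l)) ∈
        (Scheme.precoverage P).coverings (Spec R) ∧
      ∀ l, Spec.map (ψ l) ≫ ai (i l) = Spec.map (φ l) ≫ a := by
  rw [Scheme.ofArrows_mem_precoverage_iff] at hcov
  obtain ⟨hsurj, hP⟩ := hcov
  have key : ∀ x : Spec R, ∃ (C : CommRingCat.{u}) (f : Spec C ⟶ Spec R) (i : ι)
      (g : Spec C ⟶ Spec (Ri i)), P f ∧ x ∈ Set.range f.base ∧ g ≫ ai i = f ≫ a := by
    intro x
    obtain ⟨i, y, hy⟩ := hsurj (a.base x)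
    obtain ⟨z, hz, -⟩ := Scheme.Pullback.exists_preimage_pullback (f := a) (g := ai i) x y hy.symm
    obtain ⟨w, hw⟩ := (pullback a (ai i)).affineOpenCover.covers z
    refine ⟨(pullback a (ai i)).affineOpenCover.X ((pullback a (ai i)).affineOpenCover.idx z),
      (pullback a (ai i)).affineOpenCover.f ((pullback a (ai i)).affineOpenCover.idx z) ≫
        pullback.fst a (ai i), i,
      (pullback a (ai i)).affineOpenCover.f ((pullback a (ai i)).affineOpenCover.idx z) ≫
        pullback.snd a (ai i), ?_, ?_, ?_⟩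
    · exact P.comp_mem _ _ (himm _) (P.pullback_fst _ _ (hP i))
    · refine ⟨w, ?_⟩
      rw [Scheme.Hom.comp_base, TopCat.comp_app]
      exact (congrArg (fun q => (pullback.fst a (ai i)).base q) hw).trans hz
    · rw [Category.assoc, Category.assoc, pullback.condition]
  choose C f i g hPf hx hfg using key
  obtain ⟨t, ht⟩ := isCompact_univ.elim_finite_subcover
    (fun x : Spec R => Set.range (f x).base)
    (fun x => (hopen _ (hPf x)).isOpen_range) (fun x _ => Set.mem_iUnion.2 ⟨x, hx x⟩)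
  refine ⟨ULift.{u+1} {x // x ∈ t}, inferInstance, fun l => C l.down.1,
    fun l => Spec.preimage (f l.down.1), fun l => i l.down.1,
    fun l => Spec.preimage (g l.down.1), ?_, ?_⟩
  · rw [Scheme.ofArrows_mem_precoverage_iff]
    refine ⟨fun x => ?_, fun l => ?_⟩
    · have hxt := ht (Set.mem_univ x)
      simp only [Set.mem_iUnion] at hxt
      obtain ⟨x', hx't, hx'⟩ := hxt
      refine ⟨⟨⟨x', hx't⟩⟩, ?_⟩
      rw [Spec.map_preimage]
      exact hx'
    · rw [Spec.map_preimage]
      exact hPf _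
  · intro l
    rw [Spec.map_preimage, Spec.map_preimage]
    exact hfg _

/-- a ring under `R`, as an `R`-algebra -/
def algOfHom {R C : CommRingCat.{u}} (φ : R ⟶ C) : Adeq.Alg R :=
  @CommAlgCat.of R _ C _ φ.hom.toAlgebra

/-- the general statement: adequacy of a big-site module can be tested on every affine -/
theorem adequate_toMVF (K : Precoverage Scheme.{u}) [BigSite.OSh K] [K.IsStableUnderBaseChange]
    (href : ∀ {S : Scheme.{u}} {ι : Type u} (Ri : ι → CommRingCat.{u})
      (ai : ∀ i, Spec (Ri i) ⟶ S),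
      Presieve.ofArrows (fun i => Spec (Ri i)) ai ∈ K.coverings S →
      ∀ (R : CommRingCat.{u}) (a : Spec R ⟶ S),
      ∃ (κ : Type (u+1)) (_ : Finite κ) (C : κ → CommRingCat.{u}) (φ : ∀ l, R ⟶ C l) (i : κ → ι)
        (ψ : ∀ l, Ri (i l) ⟶ C l),
        Presieve.ofArrows (fun l => Spec (C l)) (fun l => Spec.map (φ l)) ∈
          K.coverings (Spec R) ∧
        ∀ l, Spec.map (ψ l) ≫ ai (i l) = Spec.map (φ l) ≫ a)
    (S : Scheme.{u}) (M : BigSite.Mod K S) (hM : Adeq.adequateMod K S M)
    (R : CommRingCat.{u}) (a : Spec R ⟶ S) :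
    Adeq.adequate R ((Adeq.toMVF K a).obj M) := by
  obtain ⟨ι, Ri, ai, hcov, hadq⟩ := hM
  obtain ⟨κ, hκ, C, φ, i, ψ, hcovR, hfac⟩ := href Ri ai hcov R a
  let CA : κ → Adeq.Alg R := fun l => algOfHom (φ l)
  have hcov' : Presieve.ofArrows (fun j => Spec (CommRingCat.of (CA j)))
      (fun j => Spec.map (CommRingCat.ofHom (algebraMap R (CA j)))) ∈ K.coverings (Spec R) :=
    hcovR
  refine family_descent R ((Adeq.toMVF K a).obj M) CA ?_
    (fun B x x' hx => toMVF_sep K M a CA hcov' B x x' hx)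
    (fun B y hy => toMVF_glue K M a CA hcov' B y hy)
  intro l
  -- `F_{M,C_l}` is the restriction of `F_{M,R_i}`, hence adequate
  have h1 : Adeq.adequate (C l) ((Adeq.toMVF K (Spec.map (φ l) ≫ a)).obj M) := by
    letI : Algebra (Ri (i l)) (C l) := (ψ l).hom.toAlgebra
    exact (adequate_restr_iff K M (ai (i l)) (Spec.map (φ l) ≫ a) (hfac l)).mp
      (main8749 (Ri (i l)) (C l) _ (hadq (i l)))
  letI : Algebra R (C l) := (φ l).hom.toAlgebra
  exact (adequate_restr_iff K M a (Spec.map (φ l) ≫ a) rfl).mpr h1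

/-- **S8755** -/
theorem main8755 (S : Scheme.{u}) (M : BigSite.Mod Scheme.fppfPrecoverage S)
    (hM : Adeq.adequateMod Scheme.fppfPrecoverage S M) (R : CommRingCat.{u}) (a : Spec R ⟶ S) :
    Adeq.adequate R ((Adeq.toMVF Scheme.fppfPrecoverage a).obj M) := by
  refine adequate_toMVF Scheme.fppfPrecoverage ?_ S M hM R a
  intro S ι Ri ai hcov R a
  exact exists_affine_refinement (@Flat ⊓ @LocallyOfFinitePresentation)
    (fun f _ => ⟨inferInstance, inferInstance⟩)
    (fun f hf => by
      obtain ⟨h1, h2⟩ := hf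
      exact f.isOpenMap) Ri ai hcov R a

/-- **S8756** -/
theorem main8756 (S : Scheme.{u}) (M : BigSite.Mod Scheme.zariskiPrecoverage S)
    (hM : Adeq.adequateMod Scheme.zariskiPrecoverage S M) (R : CommRingCat.{u}) (a : Spec R ⟶ S) :
    Adeq.adequate R ((Adeq.toMVF Scheme.zariskiPrecoverage a).obj M) := by
  refine adequate_toMVF Scheme.zariskiPrecoverage ?_ S M hM R a
  intro S ι Ri ai hcov R a
  exact exists_affine_refinement @IsOpenImmersion
    (fun f hf => hf)
    (fun f hf => by
      have : IsOpenImmersion f := hf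
      exact f.isOpenEmbedding.isOpenMap) Ri ai hcov R a

end

end Groth.Agent.Lib.Helper29.AdeqSiteMain
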