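import Mathlib
import Groth.Prelude.Def_Adeq
import Groth.Prelude.Def_Adeq2
import Groth.Agent.Lib.Helper29.Adeq0
import Groth.Agent.Lib.Helper29.AdeqSplit0
import Groth.Agent.Lib.Helper29.AdeqSiteMain

/-!
# Faithfully flat descent for modules (first two degrees) and adequate functors (S8768)
-/

set_option autoImplicit false
set_option maxHeartbeats 800000
universe u v
open CategoryTheory Limits Opposite TensorProduct AlgebraicGeometry

namespace Groth.Agent.Lib.Helper29.AdeqCech
open Groth.Agent.Lib.Helper29.Adeq0 Groth.Agent.Lib.Helper29.AdeqSplit0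
  Groth.Agent.Lib.Helper29.AdeqSiteMain

noncomputable section

section Amitsur

variable (R : Type u) [CommRing R] (B : Type u) [CommRing B] [Algebra R B]
  (M : Type v) [AddCommGroup M] [Module R M]

/-- `m ↦ 1 ⊗ m` -/
def eM : M →ₗ[R] B ⊗[R] M := TensorProduct.mk R B M 1

/-- the difference of the two coface maps -/
def dM : B ⊗[R] M →ₗ[R] (B ⊗[R] B) ⊗[R] M :=
  (Algebra.TensorProduct.includeLeft : B →ₐ[R] B ⊗[R] B).toLinearMap.rTensor M -
    (Algebra.TensorProduct.includeRight : B →ₐ[R] B ⊗[R] B).toLinearMap.rTensor M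

theorem dM_tmul (b : B) (m : M) :
    dM R B M (b ⊗ₜ m) = (b ⊗ₜ[R] (1 : B)) ⊗ₜ[R] m - ((1 : B) ⊗ₜ[R] b) ⊗ₜ[R] m := by
  simp only [dM, LinearMap.sub_apply, LinearMap.rTensor_tmul, AlgHom.toLinearMap_apply,
    Algebra.TensorProduct.includeLeft_apply, Algebra.TensorProduct.includeRight_apply]

theorem dM_comp_eM : dM R B M ∘ₗ eM R B M = 0 := by
  ext m
  simp only [LinearMap.comp_apply, eM, TensorProduct.mk_apply, dM_tmul, sub_self,
    LinearMap.zero_apply]

/-- first contraction -/
def s1 : B ⊗[R] (B ⊗[R] M) →ₗ[R] B ⊗[R] M :=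
  (LinearMap.mul' R B).rTensor M ∘ₗ (TensorProduct.assoc R B B M).symm.toLinearMap

theorem s1_tmul (b b' : B) (m : M) : s1 R B M (b ⊗ₜ (b' ⊗ₜ m)) = (b * b') ⊗ₜ m := by
  simp only [s1, LinearMap.comp_apply, LinearEquiv.coe_coe, TensorProduct.assoc_symm_tmul,
    LinearMap.rTensor_tmul, LinearMap.mul'_apply]

/-- second contraction -/
def s2 : B ⊗[R] ((B ⊗[R] B) ⊗[R] M) →ₗ[R] B ⊗[R] (B ⊗[R] M) :=
  (TensorProduct.assoc R B B M).toLinearMap ∘ₗ
    (((LinearMap.mul' R B).rTensor B ∘ₗ
      (TensorProduct.assoc R B B B).symm.toLinearMap).rTensor M) ∘ₗ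
      (TensorProduct.assoc R B (B ⊗[R] B) M).symm.toLinearMap

theorem s2_tmul (b b₁ b₂ : B) (m : M) :
    s2 R B M (b ⊗ₜ ((b₁ ⊗ₜ b₂) ⊗ₜ m)) = (b * b₁) ⊗ₜ (b₂ ⊗ₜ m) := by
  simp only [s2, LinearMap.comp_apply, LinearEquiv.coe_coe, TensorProduct.assoc_symm_tmul,
    LinearMap.rTensor_tmul, LinearMap.mul'_apply, TensorProduct.assoc_tmul]

/-- the contracting homotopy identity -/
theorem homotopy (w : B ⊗[R] (B ⊗[R] M)) :
    ((eM R B M).lTensor B ∘ₗ s1 R B M - s2 R B M ∘ₗ (dM R B M).lTensor B) w = w := by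
  induction w using TensorProduct.induction_on with
  | zero => rw [map_zero]
  | add x y hx hy => rw [map_add, hx, hy]
  | tmul b y =>
    induction y using TensorProduct.induction_on with
    | zero => rw [TensorProduct.tmul_zero, map_zero]
    | add x y hx hy => rw [TensorProduct.tmul_add, map_add, hx, hy]
    | tmul b' m =>
      simp only [LinearMap.sub_apply, LinearMap.comp_apply, s1_tmul, LinearMap.lTensor_tmul, eM,
        TensorProduct.mk_apply, dM_tmul, TensorProduct.tmul_sub, map_sub, s2_tmul, mul_one,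
        sub_sub_cancel]

theorem amitsur_exact [Module.FaithfullyFlat R B] : Function.Exact (eM R B M) (dM R B M) := by
  rw [← Module.FaithfullyFlat.lTensor_exact_iff_exact R B]
  intro w
  constructor
  · intro hw
    refine ⟨s1 R B M w, ?_⟩
    have h := homotopy R B M w
    rw [LinearMap.sub_apply, LinearMap.comp_apply, LinearMap.comp_apply, hw, map_zero,
      sub_zero] at h
    exact h
  · rintro ⟨m, rfl⟩
    rw [← LinearMap.comp_apply, ← LinearMap.lTensor_comp, dM_comp_eM, LinearMap.lTensor_zero,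
      LinearMap.zero_apply]

/-- faithfully flat descent for elements of a module -/
theorem amitsur [Module.FaithfullyFlat R B] (z : B ⊗[R] M)
    (hz : (Algebra.TensorProduct.includeLeft : B →ₐ[R] B ⊗[R] B).toLinearMap.rTensor M z =
      (Algebra.TensorProduct.includeRight : B →ₐ[R] B ⊗[R] B).toLinearMap.rTensor M z) :
    ∃ m : M, (1 : B) ⊗ₜ[R] m = z := by
  have h : dM R B M z = 0 := by rw [dM, LinearMap.sub_apply, hz, sub_self]
  obtain ⟨m, hm⟩ := (amitsur_exact R B M z).mp h
  exact ⟨m, hm⟩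

end Amitsur

section Functor

variable {A : Type u} [CommRing A] (B : Type u) [CommRing B] [Algebra A B]

theorem rTensor_ofId_tmul (M : Type v) [AddCommGroup M] [Module A M] (a : A) (m : M) :
    (Algebra.ofId A B).toLinearMap.rTensor M (a ⊗ₜ m) = (1 : B) ⊗ₜ[A] (a • m) := by
  rw [LinearMap.rTensor_tmul, AlgHom.toLinearMap_apply, Algebra.ofId_apply,
    Algebra.algebraMap_eq_smul_one, TensorProduct.smul_tmul]

theorem rTensor_ofId_eq (M : Type v) [AddCommGroup M] [Module A M] :
    (Algebra.ofId A B).toLinearMap.rTensor M =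
      (TensorProduct.mk A B M 1) ∘ₗ (TensorProduct.lid A M).toLinearMap := by
  apply TensorProduct.ext'
  intro a m
  rw [rTensor_ofId_tmul, LinearMap.comp_apply, LinearEquiv.coe_coe, TensorProduct.lid_tmul,
    TensorProduct.mk_apply]

theorem rTensor_ofId_injective [Module.FaithfullyFlat A B] (M : Type v) [AddCommGroup M]
    [Module A M] : Function.Injective ((Algebra.ofId A B).toLinearMap.rTensor M) := by
  rw [rTensor_ofId_eq, LinearMap.coe_comp, LinearEquiv.coe_coe]
  exact (Module.FaithfullyFlat.tensorProduct_mk_injective (A := A) (B := B) M).comp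
    (TensorProduct.lid A M).injective

/-- the first two degrees of the Čech complex of a faithfully flat algebra, with values in an
adequate functor, are exact -/
theorem cech_two (F : Adeq.MVF A) (hF : Adeq.adequate A F) [Module.FaithfullyFlat A B] :
    Function.Injective
        (tr F (CommAlgCat.ofHom (Algebra.ofId A B) : Adeq.algOf A A ⟶ Adeq.algOf A B)) ∧
      ∀ y : F.obj (Adeq.pt (Adeq.algOf A B)),
        tr F (CommAlgCat.ofHom (Algebra.TensorProduct.includeLeft : B →ₐ[A] B ⊗[A] B) :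
            Adeq.algOf A B ⟶ Adeq.algOf A (B ⊗[A] B)) y =
          tr F (CommAlgCat.ofHom (Algebra.TensorProduct.includeRight : B →ₐ[A] B ⊗[A] B) :
            Adeq.algOf A B ⟶ Adeq.algOf A (B ⊗[A] B)) y →
        ∃ x, tr F (CommAlgCat.ofHom (Algebra.ofId A B) : Adeq.algOf A A ⟶ Adeq.algOf A B) x =
          y := by
  obtain ⟨M₀, N₀, α, ι, w, hinj, hex, -⟩ := adequate_unpack' hF
  have hι : ∀ (C : Adeq.Alg A) (y : F.obj (Adeq.pt C)),
      α.hom.baseChange C (ι.app (Adeq.pt C) y) = 0 := by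
    intro C y
    have h := congrArg (fun k => (k.app (Adeq.pt C)).hom y) w
    exact h
  have htr : ∀ x : F.obj (Adeq.pt (Adeq.algOf A A)),
      ι.app (Adeq.pt (Adeq.algOf A B))
          (tr F (CommAlgCat.ofHom (Algebra.ofId A B) : Adeq.algOf A A ⟶ Adeq.algOf A B) x) =
        (Algebra.ofId A B).toLinearMap.rTensor M₀ (ι.app (Adeq.pt (Adeq.algOf A A)) x) := by
    intro x
    rw [tr_nat]
    rfl
  constructor
  · intro x x' hxx'
    apply hinj (Adeq.algOf A A)
    apply rTensor_ofId_injective B M₀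
    exact ((htr x).symm.trans (congrArg _ hxx')).trans (htr x')
  · intro y hy
    have h1 : (Algebra.TensorProduct.includeLeft : B →ₐ[A] B ⊗[A] B).toLinearMap.rTensor M₀
          (ι.app (Adeq.pt (Adeq.algOf A B)) y) =
        (Algebra.TensorProduct.includeRight : B →ₐ[A] B ⊗[A] B).toLinearMap.rTensor M₀
          (ι.app (Adeq.pt (Adeq.algOf A B)) y) := by
      have h0 := congrArg (fun t => ι.app (Adeq.pt (Adeq.algOf A (B ⊗[A] B))) t) hy
      exact ((tr_nat ι _ y).symm.trans h0).trans (tr_nat ι _ y)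
    obtain ⟨m, hm⟩ := amitsur A B M₀ _ h1
    have h2 : α.hom m = 0 := by
      apply Module.FaithfullyFlat.tensorProduct_mk_injective (A := A) (B := B) N₀
      rw [map_zero]
      have h3 := hι (Adeq.algOf A B) y
      rw [← hm] at h3
      exact (LinearMap.baseChange_tmul (A := B) α.hom (1 : B) m).symm.trans h3
    obtain ⟨x, hx⟩ := hex (Adeq.algOf A A) ((1 : A) ⊗ₜ[A] m) (by
      refine (LinearMap.baseChange_tmul (A := A) α.hom (1 : A) m).trans ?_
      rw [h2, TensorProduct.tmul_zero])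
    refine ⟨x, ?_⟩
    apply hinj (Adeq.algOf A B)
    refine (htr x).trans ?_
    rw [hx, rTensor_ofId_tmul, one_smul]
    exact hm

end Functor

/-- **S8768** -/
theorem main8768 (S : Scheme.{u}) (M : BigSite.Mod Scheme.fppfPrecoverage S)
    (hM : Adeq.adequateMod Scheme.fppfPrecoverage S M) (R : CommRingCat.{u}) (a : Spec R ⟶ S)
    (B : Type u) [CommRing B] [Algebra R B] [Module.FaithfullyFlat R B] :
    Function.Injective (((Adeq.toMVF Scheme.fppfPrecoverage a).obj M).map
        (Adeq.ptHom (CommAlgCat.ofHom (Algebra.ofId R B) : Adeq.algOf R R ⟶ Adeq.algOf R B))) ∧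
      ∀ y : ((Adeq.toMVF Scheme.fppfPrecoverage a).obj M).obj (Adeq.pt (Adeq.algOf R B)),
        ((Adeq.toMVF Scheme.fppfPrecoverage a).obj M).map (Adeq.ptHom (CommAlgCat.ofHom
            (Algebra.TensorProduct.includeLeft : B →ₐ[R] B ⊗[R] B) :
              Adeq.algOf R B ⟶ Adeq.algOf R (B ⊗[R] B))) y =
          ((Adeq.toMVF Scheme.fppfPrecoverage a).obj M).map (Adeq.ptHom (CommAlgCat.ofHom
            (Algebra.TensorProduct.includeRight : B →ₐ[R] B ⊗[R] B) :
              Adeq.algOf R B ⟶ Adeq.algOf R (B ⊗[R] B))) y →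
        y ∈ Set.range (((Adeq.toMVF Scheme.fppfPrecoverage a).obj M).map
          (Adeq.ptHom (CommAlgCat.ofHom (Algebra.ofId R B) :
            Adeq.algOf R R ⟶ Adeq.algOf R B))) := by
  have hF := main8755 S M hM R a
  obtain ⟨h1, h2⟩ := cech_two B _ hF
  refine ⟨h1, fun y hy => ?_⟩
  obtain ⟨x, hx⟩ := h2 y hy
  exact ⟨x, hx⟩

end

end Groth.Agent.Lib.Helper29.AdeqCech
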