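import Mathlib
import Groth.Prelude.Def_Adeq
import Groth.Agent.Lib.Helper29.Adeq0
import Groth.Agent.Lib.Helper29.AdeqSplit0
import Groth.Agent.Lib.Helper29.AdeqCech

/-!
# Exactness of the Amitsur complex in degree one; vanishing of the first Čech cohomology of an
adequate functor for a faithfully flat algebra
-/

set_option autoImplicit false
set_option maxHeartbeats 1600000
universe u v
open CategoryTheory Limits Opposite TensorProduct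

namespace Groth.Agent.Lib.Helper29.AdeqCech2
open Groth.Agent.Lib.Helper29.Adeq0 Groth.Agent.Lib.Helper29.AdeqSplit0
  Groth.Agent.Lib.Helper29.AdeqCech

noncomputable section

section Amitsur

variable (R : Type u) [CommRing R] (B : Type u) [CommRing B] [Algebra R B]
  (M : Type v) [AddCommGroup M] [Module R M]

/-- coface map `b₁ ⊗ b₂ ↦ 1 ⊗ b₁ ⊗ b₂` -/
def c0 : B ⊗[R] B →ₐ[R] (B ⊗[R] B) ⊗[R] B :=
  Algebra.TensorProduct.map (Algebra.TensorProduct.includeRight : B →ₐ[R] B ⊗[R] B)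
    (AlgHom.id R B)

/-- coface map `b₁ ⊗ b₂ ↦ b₁ ⊗ 1 ⊗ b₂` -/
def c1 : B ⊗[R] B →ₐ[R] (B ⊗[R] B) ⊗[R] B :=
  Algebra.TensorProduct.map (Algebra.TensorProduct.includeLeft : B →ₐ[R] B ⊗[R] B)
    (AlgHom.id R B)

/-- coface map `b₁ ⊗ b₂ ↦ b₁ ⊗ b₂ ⊗ 1` -/
def c2 : B ⊗[R] B →ₐ[R] (B ⊗[R] B) ⊗[R] B := Algebra.TensorProduct.includeLeft

theorem c0_tmul (b₁ b₂ : B) : c0 R B (b₁ ⊗ₜ b₂) = ((1 : B) ⊗ₜ[R] b₁) ⊗ₜ[R] b₂ := rfl

theorem c1_tmul (b₁ b₂ : B) : c1 R B (b₁ ⊗ₜ b₂) = (b₁ ⊗ₜ[R] (1 : B)) ⊗ₜ[R] b₂ := rfl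

theorem c2_tmul (b₁ b₂ : B) : c2 R B (b₁ ⊗ₜ b₂) = (b₁ ⊗ₜ[R] b₂) ⊗ₜ[R] (1 : B) := rfl

/-- contraction on rings -/
def μ2 : B ⊗[R] (B ⊗[R] B) →ₗ[R] B ⊗[R] B :=
  (LinearMap.mul' R B).rTensor B ∘ₗ (TensorProduct.assoc R B B B).symm.toLinearMap

theorem μ2_tmul (b b₁ b₂ : B) : μ2 R B (b ⊗ₜ (b₁ ⊗ₜ b₂)) = (b * b₁) ⊗ₜ b₂ := by
  simp only [μ2, LinearMap.comp_apply, LinearEquiv.coe_coe, TensorProduct.assoc_symm_tmul,
    LinearMap.rTensor_tmul, LinearMap.mul'_apply]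

/-- contraction on rings, one degree up -/
def μ3 : B ⊗[R] ((B ⊗[R] B) ⊗[R] B) →ₗ[R] B ⊗[R] (B ⊗[R] B) :=
  (TensorProduct.assoc R B B B).toLinearMap ∘ₗ (μ2 R B).rTensor B ∘ₗ
    (TensorProduct.assoc R B (B ⊗[R] B) B).symm.toLinearMap

theorem μ3_tmul (b b₁ b₂ b₃ : B) :
    μ3 R B (b ⊗ₜ ((b₁ ⊗ₜ b₂) ⊗ₜ b₃)) = (b * b₁) ⊗ₜ (b₂ ⊗ₜ b₃) := by
  simp only [μ3, LinearMap.comp_apply, LinearEquiv.coe_coe, TensorProduct.assoc_symm_tmul,
    LinearMap.rTensor_tmul, μ2_tmul, TensorProduct.assoc_tmul]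

section Gen

variable (T : Type u) [CommRing T] [Algebra R T] (e0 e1 e2 : B ⊗[R] B →ₐ[R] T)
  (ν : B ⊗[R] T →ₗ[R] B ⊗[R] (B ⊗[R] B))

/-- the second differential of the Amitsur complex (for abstract coface maps) -/
def d2M : (B ⊗[R] B) ⊗[R] M →ₗ[R] T ⊗[R] M :=
  e0.toLinearMap.rTensor M - e1.toLinearMap.rTensor M + e2.toLinearMap.rTensor M

theorem d2M_tmul (x : B ⊗[R] B) (m : M) :
    d2M R B M T e0 e1 e2 (x ⊗ₜ[R] m) = e0 x ⊗ₜ[R] m - e1 x ⊗ₜ[R] m + e2 x ⊗ₜ[R] m := by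
  simp only [d2M, LinearMap.add_apply, LinearMap.sub_apply, LinearMap.rTensor_tmul,
    AlgHom.toLinearMap_apply]

theorem d2M_comp_dM
    (hc : ∀ b : B, e0 (b ⊗ₜ 1) - e1 (b ⊗ₜ 1) + e2 (b ⊗ₜ 1) =
      e0 (1 ⊗ₜ b) - e1 (1 ⊗ₜ b) + e2 (1 ⊗ₜ b)) :
    d2M R B M T e0 e1 e2 ∘ₗ dM R B M = 0 := by
  apply TensorProduct.ext'
  intro b m
  rw [LinearMap.comp_apply, dM_tmul, map_sub, d2M_tmul, d2M_tmul, LinearMap.zero_apply,
    ← TensorProduct.sub_tmul, ← TensorProduct.add_tmul, ← TensorProduct.sub_tmul,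
    ← TensorProduct.add_tmul, hc b, sub_self]

/-- third contraction -/
def s3 : B ⊗[R] (T ⊗[R] M) →ₗ[R] B ⊗[R] ((B ⊗[R] B) ⊗[R] M) :=
  (TensorProduct.assoc R B (B ⊗[R] B) M).toLinearMap ∘ₗ ν.rTensor M ∘ₗ
    (TensorProduct.assoc R B T M).symm.toLinearMap

theorem s3_tmul (b : B) (x : T) (m : M) :
    s3 R B M T ν (b ⊗ₜ (x ⊗ₜ m)) =
      TensorProduct.assoc R B (B ⊗[R] B) M (ν (b ⊗ₜ x) ⊗ₜ m) := by
  simp only [s3, LinearMap.comp_apply, LinearEquiv.coe_coe, TensorProduct.assoc_symm_tmul,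
    LinearMap.rTensor_tmul]

variable (h0 : ∀ b b₁ b₂ : B, ν (b ⊗ₜ e0 (b₁ ⊗ₜ b₂)) = b ⊗ₜ (b₁ ⊗ₜ b₂))
  (h1 : ∀ b b₁ b₂ : B, ν (b ⊗ₜ e1 (b₁ ⊗ₜ b₂)) = (b * b₁) ⊗ₜ ((1 : B) ⊗ₜ b₂))
  (h2 : ∀ b b₁ b₂ : B, ν (b ⊗ₜ e2 (b₁ ⊗ₜ b₂)) = (b * b₁) ⊗ₜ (b₂ ⊗ₜ (1 : B)))

include h0 h1 h2 in
/-- the contracting homotopy identity in degree one -/
theorem homotopy₂ (w : B ⊗[R] ((B ⊗[R] B) ⊗[R] M)) :
    (s3 R B M T ν ∘ₗ (d2M R B M T e0 e1 e2).lTensor B - (dM R B M).lTensor B ∘ₗ s2 R B M) w =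
      w := by
  induction w using TensorProduct.induction_on with
  | zero => rw [map_zero]
  | add x y hx hy => rw [map_add, hx, hy]
  | tmul b y =>
    induction y using TensorProduct.induction_on with
    | zero => rw [TensorProduct.tmul_zero, map_zero]
    | add x y hx hy => rw [TensorProduct.tmul_add, map_add, hx, hy]
    | tmul x m =>
      induction x using TensorProduct.induction_on with
      | zero => rw [TensorProduct.zero_tmul, TensorProduct.tmul_zero, map_zero]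
      | add x y hx hy => rw [TensorProduct.add_tmul, TensorProduct.tmul_add, map_add, hx, hy]
      | tmul b₁ b₂ =>
        simp only [LinearMap.sub_apply, LinearMap.comp_apply, LinearMap.lTensor_tmul, d2M_tmul,
          dM_tmul, TensorProduct.tmul_sub, TensorProduct.tmul_add, map_sub, map_add, s3_tmul,
          h0, h1, h2, TensorProduct.assoc_tmul, s2_tmul]
        abel

include h0 h1 h2 in
theorem amitsur_exact₂ [Module.FaithfullyFlat R B]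
    (hc : ∀ b : B, e0 (b ⊗ₜ 1) - e1 (b ⊗ₜ 1) + e2 (b ⊗ₜ 1) =
      e0 (1 ⊗ₜ b) - e1 (1 ⊗ₜ b) + e2 (1 ⊗ₜ b)) :
    Function.Exact (dM R B M) (d2M R B M T e0 e1 e2) := by
  rw [← Module.FaithfullyFlat.lTensor_exact_iff_exact R B]
  intro w
  constructor
  · intro hw
    refine ⟨-(s2 R B M w), ?_⟩
    have h := homotopy₂ R B M T e0 e1 e2 ν h0 h1 h2 w
    rw [LinearMap.sub_apply, LinearMap.comp_apply, LinearMap.comp_apply, hw, map_zero,
      zero_sub] at h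
    rw [map_neg]
    exact h
  · rintro ⟨m, rfl⟩
    rw [← LinearMap.comp_apply, ← LinearMap.lTensor_comp, d2M_comp_dM R B M T e0 e1 e2 hc,
      LinearMap.lTensor_zero, LinearMap.zero_apply]

end Gen

/-- the concrete second differential -/
abbrev d2M' : (B ⊗[R] B) ⊗[R] M →ₗ[R] ((B ⊗[R] B) ⊗[R] B) ⊗[R] M :=
  d2M R B M ((B ⊗[R] B) ⊗[R] B) (c0 R B) (c1 R B) (c2 R B)

theorem amitsur_exact₂' [Module.FaithfullyFlat R B] :
    Function.Exact (dM R B M) (d2M' R B M) := by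
  refine amitsur_exact₂ R B M ((B ⊗[R] B) ⊗[R] B) (c0 R B) (c1 R B) (c2 R B) (μ3 R B)
    ?_ ?_ ?_ ?_
  · intro b b₁ b₂
    rw [c0_tmul, μ3_tmul, mul_one]
  · intro b b₁ b₂
    rw [c1_tmul, μ3_tmul]
  · intro b b₁ b₂
    rw [c2_tmul, μ3_tmul]
  · intro b
    simp only [c0_tmul, c1_tmul, c2_tmul]
    abel

end Amitsur

section Functor

variable {A : Type u} [CommRing A] (B : Type u) [CommRing B] [Algebra A B]

/-- `b ↦ b ⊗ 1` -/
abbrev iL : Adeq.algOf A B ⟶ Adeq.algOf A (B ⊗[A] B) :=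
  CommAlgCat.ofHom (Algebra.TensorProduct.includeLeft : B →ₐ[A] B ⊗[A] B)

/-- `b ↦ 1 ⊗ b` -/
abbrev iR : Adeq.algOf A B ⟶ Adeq.algOf A (B ⊗[A] B) :=
  CommAlgCat.ofHom (Algebra.TensorProduct.includeRight : B →ₐ[A] B ⊗[A] B)

abbrev k0 : Adeq.algOf A (B ⊗[A] B) ⟶ Adeq.algOf A ((B ⊗[A] B) ⊗[A] B) :=
  CommAlgCat.ofHom (c0 A B)

abbrev k1 : Adeq.algOf A (B ⊗[A] B) ⟶ Adeq.algOf A ((B ⊗[A] B) ⊗[A] B) :=
  CommAlgCat.ofHom (c1 A B)

abbrev k2 : Adeq.algOf A (B ⊗[A] B) ⟶ Adeq.algOf A ((B ⊗[A] B) ⊗[A] B) :=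
  CommAlgCat.ofHom (c2 A B)

/-- the first Čech cohomology of an adequate functor for a faithfully flat algebra vanishes -/
theorem cech_H1 (F : Adeq.MVF A) (hF : Adeq.adequate A F) [Module.FaithfullyFlat A B]
    (ξ : F.obj (Adeq.pt (Adeq.algOf A (B ⊗[A] B))))
    (hξ : tr F (k0 B) ξ - tr F (k1 B) ξ + tr F (k2 B) ξ = 0) :
    ∃ t : F.obj (Adeq.pt (Adeq.algOf A B)), tr F (iL B) t - tr F (iR B) t = ξ := by
  obtain ⟨M₀, N₀, α, ι, w, hinj, hex, -⟩ := adequate_unpack' hF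
  have hι : ∀ (C : Adeq.Alg A) (y : F.obj (Adeq.pt C)),
      α.hom.baseChange C (ι.app (Adeq.pt C) y) = 0 := by
    intro C y
    have h := congrArg (fun k => (k.app (Adeq.pt C)).hom y) w
    exact h
  have hιtr : ∀ {C D : Adeq.Alg A} (g : C ⟶ D) (y : F.obj (Adeq.pt C)),
      ι.app (Adeq.pt D) (tr F g y) = g.hom.toLinearMap.rTensor M₀ (ι.app (Adeq.pt C) y) :=
    fun g y => tr_nat ι g y
  have hnat : ∀ {C D : Adeq.Alg A} (g : C ⟶ D) (x : (C : Type u) ⊗[A] M₀),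
      g.hom.toLinearMap.rTensor N₀ (α.hom.baseChange C x) =
        α.hom.baseChange D (g.hom.toLinearMap.rTensor M₀ x) := fun {C D} g x =>
    (tr_nat ((Adeq.underline A).map α) g
      (x : ((Adeq.underline A).obj M₀).obj (Adeq.pt C))).symm
  -- step 1: `ι ξ` is a cocycle
  have h1 : d2M' A B M₀ (ι.app (Adeq.pt (Adeq.algOf A (B ⊗[A] B))) ξ) = 0 := by
    have h0 := congrArg (fun t => ι.app (Adeq.pt (Adeq.algOf A ((B ⊗[A] B) ⊗[A] B))) t) hξ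
    have e0 := hιtr (k0 B) ξ
    have e1 := hιtr (k1 B) ξ
    have e2 := hιtr (k2 B) ξ
    have h0' : ι.app (Adeq.pt (Adeq.algOf A ((B ⊗[A] B) ⊗[A] B))) (tr F (k0 B) ξ) -
        ι.app (Adeq.pt (Adeq.algOf A ((B ⊗[A] B) ⊗[A] B))) (tr F (k1 B) ξ) +
        ι.app (Adeq.pt (Adeq.algOf A ((B ⊗[A] B) ⊗[A] B))) (tr F (k2 B) ξ) = 0 := by
      have hz := map_zero (ι.app (Adeq.pt (Adeq.algOf A ((B ⊗[A] B) ⊗[A] B)))).hom
      have ha := map_add (ι.app (Adeq.pt (Adeq.algOf A ((B ⊗[A] B) ⊗[A] B)))).hom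
        (tr F (k0 B) ξ - tr F (k1 B) ξ) (tr F (k2 B) ξ)
      have hs := map_sub (ι.app (Adeq.pt (Adeq.algOf A ((B ⊗[A] B) ⊗[A] B)))).hom
        (tr F (k0 B) ξ) (tr F (k1 B) ξ)
      exact ((congrArg₂ (· + ·) hs.symm rfl).trans ha.symm).trans (h0.trans hz)
    rw [e0, e1, e2] at h0'
    exact h0'
  obtain ⟨m, hm⟩ := (amitsur_exact₂' A B M₀ _).mp h1
  -- step 2: `α m` descends
  have h2 : dM A B N₀ (α.hom.baseChange B m) = 0 := by
    have e1 := hnat (iL B) m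
    have e2 := hnat (iR B) m
    have e3 : dM A B N₀ (α.hom.baseChange B m) =
        α.hom.baseChange (B ⊗[A] B) (dM A B M₀ m) := by
      show (Algebra.TensorProduct.includeLeft : B →ₐ[A] B ⊗[A] B).toLinearMap.rTensor N₀
            (α.hom.baseChange B m) -
          (Algebra.TensorProduct.includeRight : B →ₐ[A] B ⊗[A] B).toLinearMap.rTensor N₀
            (α.hom.baseChange B m) =
        α.hom.baseChange (B ⊗[A] B)
          ((Algebra.TensorProduct.includeLeft : B →ₐ[A] B ⊗[A] B).toLinearMap.rTensor M₀ m -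
            (Algebra.TensorProduct.includeRight : B →ₐ[A] B ⊗[A] B).toLinearMap.rTensor M₀ m)
      rw [map_sub]
      exact congrArg₂ (· - ·) e1 e2
    rw [e3, hm]
    exact hι _ ξ
  obtain ⟨n, hn⟩ := (amitsur_exact A B N₀ _).mp h2
  -- step 3: `n` is in the image of `α`
  have h4 : n ∈ LinearMap.range α.hom := by
    have hπα : (LinearMap.range α.hom).mkQ ∘ₗ α.hom = 0 := LinearMap.range_mkQ_comp α.hom
    have h5 : (LinearMap.range α.hom).mkQ.baseChange B (α.hom.baseChange B m) = 0 := by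
      rw [← LinearMap.comp_apply, ← LinearMap.baseChange_comp, hπα, LinearMap.baseChange_zero,
        LinearMap.zero_apply]
    rw [← hn] at h5
    have h6 : (1 : B) ⊗ₜ[A] ((LinearMap.range α.hom).mkQ n) = 0 :=
      (LinearMap.baseChange_tmul (A := B) (LinearMap.range α.hom).mkQ (1 : B) n).symm.trans h5
    have h7 : (LinearMap.range α.hom).mkQ n = 0 := by
      apply Module.FaithfullyFlat.tensorProduct_mk_injective (A := A) (B := B)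
        (N₀ ⧸ LinearMap.range α.hom)
      rw [map_zero]
      exact h6
    exact (Submodule.Quotient.mk_eq_zero _).mp h7
  obtain ⟨m₀, hm₀⟩ := h4
  -- step 4: correct `m`
  have h8 : α.hom.baseChange B (m - (1 : B) ⊗ₜ[A] m₀) = 0 := by
    rw [map_sub, ← hn, sub_eq_zero]
    refine Eq.trans ?_ (LinearMap.baseChange_tmul (A := B) α.hom (1 : B) m₀).symm
    rw [hm₀]
    rfl
  obtain ⟨t, ht⟩ := hex (Adeq.algOf A B) (m - (1 : B) ⊗ₜ[A] m₀) h8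
  refine ⟨t, ?_⟩
  apply hinj (Adeq.algOf A (B ⊗[A] B))
  have hs := map_sub (ι.app (Adeq.pt (Adeq.algOf A (B ⊗[A] B)))).hom (tr F (iL B) t)
    (tr F (iR B) t)
  refine hs.trans ?_
  rw [hιtr, hιtr, ht]
  have e5 : dM A B M₀ (m - (1 : B) ⊗ₜ[A] m₀) = ι.app (Adeq.pt (Adeq.algOf A (B ⊗[A] B))) ξ := by
    rw [map_sub, hm]
    have e6 : dM A B M₀ ((1 : B) ⊗ₜ[A] m₀) = 0 := by
      have := congrArg (fun k => k m₀) (dM_comp_eM A B M₀)
      exact this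
    rw [e6, sub_zero]
  exact e5

end Functor

end

end Groth.Agent.Lib.Helper29.AdeqCech2
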