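import Mathlib
import Groth.Prelude.Def_Adeq
import Groth.Agent.Lib.Helper29.Adeq0
import Groth.Agent.Lib.Helper29.AdeqSplit0
import Groth.Agent.Lib.Helper29.AdeqCech

/-!
# Adequate functors and finite products of algebras
-/

set_option autoImplicit false
set_option maxHeartbeats 800000
universe u v
open CategoryTheory Limits Opposite TensorProduct

namespace Groth.Agent.Lib.Helper29.AdeqFinProd
open Groth.Agent.Lib.Helper29.Adeq0 Groth.Agent.Lib.Helper29.AdeqSplit0
  Groth.Agent.Lib.Helper29.AdeqCech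

noncomputable section

section Algebra

variable (A : Type u) [CommRing A] {ι : Type u} [Fintype ι] [DecidableEq ι]
  (C : ι → Type u) [∀ l, CommRing (C l)] [∀ l, Algebra A (C l)]
  (M : Type v) [AddCommGroup M] [Module A M]

theorem piLeft_apply (w : (∀ l, C l) ⊗[A] M) (l : ι) :
    TensorProduct.piLeft A M C w l = (Pi.evalAlgHom A C l).toLinearMap.rTensor M w := by
  induction w using TensorProduct.induction_on with
  | zero => simp
  | tmul c m => simp [TensorProduct.piLeft]
  | add x y hx hy => rw [map_add, Pi.add_apply, hx, hy, map_add]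

theorem pi_inj (w w' : (∀ l, C l) ⊗[A] M)
    (h : ∀ l, (Pi.evalAlgHom A C l).toLinearMap.rTensor M w =
      (Pi.evalAlgHom A C l).toLinearMap.rTensor M w') : w = w' := by
  apply (TensorProduct.piLeft A M C).injective
  funext l
  rw [piLeft_apply, piLeft_apply, h l]

theorem pi_surj (v : ∀ l, C l ⊗[A] M) :
    ∃ w : (∀ l, C l) ⊗[A] M, ∀ l, (Pi.evalAlgHom A C l).toLinearMap.rTensor M w = v l := by
  refine ⟨(TensorProduct.piLeft A M C).symm v, fun l => ?_⟩
  rw [← piLeft_apply, LinearEquiv.apply_symm_apply]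

theorem ff_pi [∀ l, Module.Flat A (C l)]
    (hs : ∀ p : PrimeSpectrum A, ∃ (l : ι) (q : PrimeSpectrum (C l)),
      PrimeSpectrum.comap (algebraMap A (C l)) q = p) :
    Module.FaithfullyFlat A (∀ l, C l) := by
  haveI : Module.Flat A (∀ l, C l) :=
    Module.Flat.of_linearEquiv (DFinsupp.linearEquivFunOnFintype (R := A) (M := C)).symm
  apply Module.FaithfullyFlat.of_comap_surjective
  intro p
  obtain ⟨l, q, hq⟩ := hs p
  refine ⟨PrimeSpectrum.comap (Pi.evalRingHom C l) q, ?_⟩
  have hc : (Pi.evalRingHom C l).comp (algebraMap A (∀ l, C l)) = algebraMap A (C l) :=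
    RingHom.ext (fun a => rfl)
  rw [← PrimeSpectrum.comap_comp_apply, hc]
  exact hq

end Algebra

section Functor

variable {A : Type u} [CommRing A]

theorem alg_hom_unique {X : Adeq.Alg A} (f f' : Adeq.algOf A A ⟶ X) : f = f' :=
  CommAlgCat.hom_ext (AlgHom.ext fun r => (f.hom.commutes r).trans (f'.hom.commutes r).symm)

variable {ι : Type u} [Fintype ι] [DecidableEq ι]
  (C : ι → Type u) [∀ l, CommRing (C l)] [∀ l, Algebra A (C l)]

/-- projection from the product algebra -/
def pr (l : ι) : Adeq.algOf A (∀ l, C l) ⟶ Adeq.algOf A (C l) :=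
  CommAlgCat.ofHom (Pi.evalAlgHom A C l)

theorem fp_inj (F : Adeq.MVF A) (hF : Adeq.adequate A F)
    (z z' : F.obj (Adeq.pt (Adeq.algOf A (∀ l, C l))))
    (h : ∀ l, tr F (pr C l) z = tr F (pr C l) z') : z = z' := by
  obtain ⟨M₀, N₀, α, ι', w, hinj, hex, -⟩ := adequate_unpack' hF
  apply hinj (Adeq.algOf A (∀ l, C l))
  apply pi_inj A C M₀
  intro l
  have h1 := tr_nat ι' (pr C l) z
  have h2 := tr_nat ι' (pr C l) z'
  exact (h1.symm.trans (congrArg _ (h l))).trans h2

theorem fp_surj (F : Adeq.MVF A) (hF : Adeq.adequate A F)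
    (p : ∀ l, F.obj (Adeq.pt (Adeq.algOf A (C l)))) :
    ∃ y : F.obj (Adeq.pt (Adeq.algOf A (∀ l, C l))), ∀ l, tr F (pr C l) y = p l := by
  obtain ⟨M₀, N₀, α, ι', w, hinj, hex, -⟩ := adequate_unpack' hF
  have hι : ∀ (D : Adeq.Alg A) (y : F.obj (Adeq.pt D)),
      α.hom.baseChange D (ι'.app (Adeq.pt D) y) = 0 := by
    intro D y
    have h := congrArg (fun k => (k.app (Adeq.pt D)).hom y) w
    exact h
  obtain ⟨w₀, hw₀⟩ := pi_surj A C M₀ (fun l => ι'.app (Adeq.pt (Adeq.algOf A (C l))) (p l))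
  have hα : α.hom.baseChange (∀ l, C l) w₀ = 0 := by
    apply pi_inj A C N₀
    intro l
    rw [map_zero]
    have h1 := tr_nat ((Adeq.underline A).map α) (pr C l)
      (w₀ : ((Adeq.underline A).obj M₀).obj (Adeq.pt (Adeq.algOf A (∀ l, C l))))
    refine h1.symm.trans ?_
    show α.hom.baseChange (C l) ((Pi.evalAlgHom A C l).toLinearMap.rTensor M₀ w₀) = 0
    rw [hw₀ l]
    exact hι _ (p l)
  obtain ⟨y, hy⟩ := hex (Adeq.algOf A (∀ l, C l)) w₀ hα
  refine ⟨y, fun l => ?_⟩
  apply hinj (Adeq.algOf A (C l))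
  refine (tr_nat ι' (pr C l) y).trans ?_
  show (Pi.evalAlgHom A C l).toLinearMap.rTensor M₀ (ι'.app _ y) = _
  rw [hy, hw₀ l]

/-- separatedness of an adequate functor for a finite jointly faithfully flat family -/
theorem family_sep (F : Adeq.MVF A) (hF : Adeq.adequate A F)
    [Module.FaithfullyFlat A (∀ l, C l)] (x x' : F.obj (Adeq.pt (Adeq.algOf A A)))
    (h : ∀ l, tr F (CommAlgCat.ofHom (Algebra.ofId A (C l)) :
        Adeq.algOf A A ⟶ Adeq.algOf A (C l)) x =
      tr F (CommAlgCat.ofHom (Algebra.ofId A (C l)) :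
        Adeq.algOf A A ⟶ Adeq.algOf A (C l)) x') : x = x' := by
  obtain ⟨hinj, -⟩ := cech_two (∀ l, C l) F hF
  apply hinj
  apply fp_inj C F hF
  intro l
  have e : (CommAlgCat.ofHom (Algebra.ofId A (∀ l, C l)) :
      Adeq.algOf A A ⟶ Adeq.algOf A (∀ l, C l)) ≫ pr C l =
      (CommAlgCat.ofHom (Algebra.ofId A (C l)) : Adeq.algOf A A ⟶ Adeq.algOf A (C l)) :=
    alg_hom_unique _ _
  exact ((tr_comp F _ _ x).symm.trans ((tr_congr F e x).trans ((h l).trans
    ((tr_congr F e x').symm.trans (tr_comp F _ _ x')))))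

end Functor

end

end Groth.Agent.Lib.Helper29.AdeqFinProd
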