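import Mathlib

/-!
# Presheaves on `Over X` as presheaves on `C` over `yoneda X`, and the sheaf condition
-/

set_option autoImplicit false
set_option maxHeartbeats 800000
universe w v₁ u₁
open CategoryTheory Limits Opposite

namespace Groth.Agent.Lib.Helper29.SigmaOver

variable {C : Type u₁} [Category.{v₁} C] {X : C} (F : (Over X)ᵒᵖ ⥤ Type w)

/-- restriction along a morphism of `Over X` -/
def Fm {Z Z' : Over X} (φ : Z ⟶ Z') (x : F.obj (op Z')) : F.obj (op Z) := F.map φ.op x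

theorem Fm_comp {Z Z' Z'' : Over X} (φ : Z ⟶ Z') (ψ : Z' ⟶ Z'') (x : F.obj (op Z'')) :
    Fm F φ (Fm F ψ x) = Fm F (φ ≫ ψ) x := by
  simp only [Fm, op_comp, Functor.map_comp_apply]

theorem Fm_congr {Z Z' : Over X} {φ φ' : Z ⟶ Z'} (h : φ.left = φ'.left) (x : F.obj (op Z')) :
    Fm F φ x = Fm F φ' x := by
  rw [Over.OverMorphism.ext h]

theorem Fm_id {Z : Over X} (φ : Z ⟶ Z) (h : φ.left = 𝟙 _) (x : F.obj (op Z)) : Fm F φ x = x := by
  have h1 : φ = 𝟙 Z := Over.OverMorphism.ext h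
  rw [h1]
  simp [Fm]

theorem fam_congr {Y : Over X} {R' : Presieve Y} (x : Presieve.FamilyOfElements F R')
    {Z : Over X} {φ φ' : Z ⟶ Y} (h : φ = φ') (hφ : R' φ) (hφ' : R' φ') : x φ hφ = x φ' hφ' := by
  subst h
  rfl

/-- the canonical comparison `Z ⟶ Over.mk g` when `Z.hom = g` -/
def cm (Z : Over X) (g : Z.left ⟶ X) (h : Z.hom = g) : Z ⟶ Over.mk g :=
  Over.homMk (𝟙 Z.left) (by
    show 𝟙 Z.left ≫ g = Z.hom
    rw [h]
    exact Category.id_comp _)

@[simp] theorem cm_left (Z : Over X) (g : Z.left ⟶ X) (h : Z.hom = g) : (cm Z g h).left = 𝟙 _ := rfl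

/-- the sections of the associated presheaf on `C` -/
def sigObj (T : C) : Type (max v₁ w) := Σ g : T ⟶ X, F.obj (op (Over.mk g))

theorem sig_ext {T : C} (p q : sigObj F T) (h : p.1 = q.1)
    (hx : Fm F (cm (Over.mk p.1) q.1 h) q.2 = p.2) : p = q := by
  obtain ⟨g, x⟩ := p
  obtain ⟨g', x'⟩ := q
  dsimp only at h
  subst h
  rw [Fm_id F _ rfl] at hx
  dsimp only at hx
  rw [hx]

theorem cm_congr (Z : Over X) {p q : sigObj F Z.left} (hpq : p = q) (hp : Z.hom = p.1)
    (hq : Z.hom = q.1) : Fm F (cm Z p.1 hp) p.2 = Fm F (cm Z q.1 hq) q.2 := by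
  subst hpq
  rfl

/-- transition maps -/
def sigMap {T T' : C} (k : T' ⟶ T) (p : sigObj F T) : sigObj F T' :=
  ⟨k ≫ p.1, Fm F (Over.homMk k rfl : Over.mk (k ≫ p.1) ⟶ Over.mk p.1) p.2⟩

/-- the presheaf on `C` associated with a presheaf on `Over X` -/
def sig : Cᵒᵖ ⥤ Type (max v₁ w) where
  obj T := sigObj F T.unop
  map k := TypeCat.ofHom (sigMap F k.unop)
  map_id T := ConcreteCategory.hom_ext _ _ (fun p => by
    show sigMap F (𝟙 T.unop) p = p
    refine sig_ext F _ _ (Category.id_comp _) ?_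
    exact Fm_congr F rfl _)
  map_comp {T T' T''} k k' := ConcreteCategory.hom_ext _ _ (fun p => by
    show sigMap F (k'.unop ≫ k.unop) p = sigMap F k'.unop (sigMap F k.unop p)
    refine sig_ext F _ _ (Category.assoc _ _ _) ?_
    show Fm F _ (Fm F _ (Fm F _ p.2)) = Fm F _ p.2
    rw [Fm_comp, Fm_comp]
    exact Fm_congr F (by simp) _)

theorem sig_map_fst {T T' : C} (k : T' ⟶ T) (p : sigObj F T) :
    ((sig F).map k.op p).1 = k ≫ p.1 := rfl

/-- sheaf condition downstairs implies the sheaf condition upstairs -/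
theorem isSheafFor_over_of_sig {T : C} (R : Sieve T) (g : T ⟶ X)
    (hX : Presieve.IsSeparatedFor (yoneda.obj X) R.arrows)
    (h : Presieve.IsSheafFor (sig F) R.arrows) :
    Presieve.IsSheafFor F ((Sieve.overEquiv (Over.mk g)).symm R).arrows := by
  intro x hx
  have hxs := hx.to_sieveCompatible
  let y : Presieve.FamilyOfElements (sig F) R.arrows := fun V f hf =>
    (⟨f ≫ g, x (Over.homMk f rfl : Over.mk (f ≫ g) ⟶ Over.mk g) hf⟩ : sigObj F V)
  have hy : y.Compatible := by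
    rw [Presieve.compatible_iff_sieveCompatible]
    intro V W f k hf
    refine sig_ext F _ _ (Category.assoc k f g) ?_
    show Fm F _ (Fm F (Over.homMk k rfl : Over.mk (k ≫ f ≫ g) ⟶ Over.mk (f ≫ g))
      (x (Over.homMk f rfl : Over.mk (f ≫ g) ⟶ Over.mk g) hf)) =
      x (Over.homMk (k ≫ f) rfl : Over.mk ((k ≫ f) ≫ g) ⟶ Over.mk g) _
    have e1 := hxs (Over.homMk f rfl : Over.mk (f ≫ g) ⟶ Over.mk g)
      (cm (Over.mk ((k ≫ f) ≫ g)) (k ≫ f ≫ g) (Category.assoc k f g) ≫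
        (Over.homMk k rfl : Over.mk (k ≫ f ≫ g) ⟶ Over.mk (f ≫ g))) hf
    rw [Fm_comp]
    refine Eq.trans e1.symm ?_
    exact fam_congr F x (Over.OverMorphism.ext (by simp)) _ _
  obtain ⟨⟨g', t⟩, ht, huniq⟩ := h y hy
  have hg : g' = g := by
    apply hX.ext
    intro V f hf
    exact congrArg Sigma.fst (ht f hf)
  subst hg
  have ht2 : ∀ {V : C} (f : V ⟶ T) (hf : R f),
      Fm F (Over.homMk f rfl : Over.mk (f ≫ g') ⟶ Over.mk g') t =
        x (Over.homMk f rfl : Over.mk (f ≫ g') ⟶ Over.mk g') hf := by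
    intro V f hf
    exact eq_of_heq (Sigma.mk.inj (ht f hf)).2
  refine ⟨t, ?_, ?_⟩
  · intro Z φ hφ
    have e2 := hxs (Over.homMk φ.left rfl : Over.mk (φ.left ≫ g') ⟶ Over.mk g')
      (cm Z (φ.left ≫ g') (Over.w φ).symm) hφ
    have e3 : cm Z (φ.left ≫ g') (Over.w φ).symm ≫
        (Over.homMk φ.left rfl : Over.mk (φ.left ≫ g') ⟶ Over.mk g') = φ :=
      Over.OverMorphism.ext (by simp)
    show Fm F φ t = x φ hφ
    calc Fm F φ t = Fm F (cm Z (φ.left ≫ g') (Over.w φ).symm ≫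
          (Over.homMk φ.left rfl : Over.mk (φ.left ≫ g') ⟶ Over.mk g')) t := by rw [e3]
      _ = Fm F (cm Z (φ.left ≫ g') (Over.w φ).symm) (x (Over.homMk φ.left rfl) hφ) := by
          rw [← Fm_comp, ht2 φ.left hφ]
      _ = x (cm Z (φ.left ≫ g') (Over.w φ).symm ≫ Over.homMk φ.left rfl) _ := e2.symm
      _ = x φ hφ := fam_congr F x e3 _ _
  · intro t' ht'
    have h2 : y.IsAmalgamation (⟨g', t'⟩ : sigObj F T) := by
      intro V f hf
      show (⟨f ≫ g', Fm F (Over.homMk f rfl : Over.mk (f ≫ g') ⟶ Over.mk g') t'⟩ : sigObj F V) =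
        ⟨f ≫ g', x (Over.homMk f rfl : Over.mk (f ≫ g') ⟶ Over.mk g') hf⟩
      have e4 : Fm F (Over.homMk f rfl : Over.mk (f ≫ g') ⟶ Over.mk g') t' =
          x (Over.homMk f rfl : Over.mk (f ≫ g') ⟶ Over.mk g') hf :=
        ht' (Over.homMk f rfl : Over.mk (f ≫ g') ⟶ Over.mk g') hf
      rw [e4]
    exact eq_of_heq (Sigma.mk.inj (huniq _ h2)).2

/-- sheaf condition upstairs implies the sheaf condition downstairs -/
theorem isSheafFor_sig_of_over {T : C} (R : Sieve T)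
    (hX : Presieve.IsSheafFor (yoneda.obj X) R.arrows)
    (h : ∀ g : T ⟶ X, Presieve.IsSheafFor F ((Sieve.overEquiv (Over.mk g)).symm R).arrows) :
    Presieve.IsSheafFor (sig F) R.arrows := by
  intro y hy
  have hys := hy.to_sieveCompatible
  let y1 : Presieve.FamilyOfElements (yoneda.obj X) R.arrows := fun V f hf => (y f hf).1
  have hy1 : y1.Compatible := by
    rw [Presieve.compatible_iff_sieveCompatible]
    intro V W f k hf
    exact congrArg Sigma.fst (hys f k hf)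
  obtain ⟨g, hg, hguniq⟩ := hX y1 hy1
  have hg' : ∀ {V : C} (f : V ⟶ T) (hf : R f), f ≫ g = (y f hf).1 := fun f hf => hg f hf
  let x : Presieve.FamilyOfElements F ((Sieve.overEquiv (Over.mk g)).symm R).arrows :=
    fun Z φ hφ => Fm F (cm Z (y φ.left hφ).1 ((Over.w φ).symm.trans (hg' φ.left hφ)))
      (y φ.left hφ).2
  have hx : x.Compatible := by
    rw [Presieve.compatible_iff_sieveCompatible]
    intro Z Z' φ ψ hφ
    have hφ' : R (ψ.left ≫ φ.left) := R.downward_closed hφ ψ.left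
    have e1 : y (ψ.left ≫ φ.left) hφ' = sigMap F ψ.left (y φ.left hφ) := hys φ.left ψ.left hφ
    show Fm F (cm Z' (y (ψ.left ≫ φ.left) hφ').1 _) (y (ψ.left ≫ φ.left) hφ').2 =
      Fm F ψ (Fm F (cm Z (y φ.left hφ).1 _) (y φ.left hφ).2)
    rw [cm_congr F Z' e1 _ (by
      show Z'.hom = ψ.left ≫ (y φ.left hφ).1
      rw [← hg' φ.left hφ, ← Category.assoc]
      exact (Over.w (ψ ≫ φ)).symm)]
    show Fm F _ (Fm F _ (y φ.left hφ).2) = _
    rw [Fm_comp, Fm_comp]
    exact Fm_congr F (by simp) _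
  obtain ⟨t, ht, htuniq⟩ := h g x hx
  refine ⟨(⟨g, t⟩ : sigObj F T), ?_, ?_⟩
  · intro V f hf
    refine sig_ext F _ _ (hg' f hf) ?_
    have e2 : Fm F (Over.homMk f rfl : Over.mk (f ≫ g) ⟶ Over.mk g) t =
        x (Over.homMk f rfl : Over.mk (f ≫ g) ⟶ Over.mk g) hf :=
      ht (Over.homMk f rfl : Over.mk (f ≫ g) ⟶ Over.mk g) hf
    exact e2.symm
  · rintro ⟨g', t'⟩ ht'
    have hgg : g' = g := by
      apply hguniq
      intro V f hf
      exact congrArg Sigma.fst (ht' f hf)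
    subst hgg
    have h3 : t' = t := by
      apply htuniq
      intro Z φ hφ
      have e3 : sigMap F φ.left (⟨g', t'⟩ : sigObj F T) = y φ.left hφ := ht' φ.left hφ
      show Fm F φ t' = Fm F (cm Z (y φ.left hφ).1 _) (y φ.left hφ).2
      rw [cm_congr F Z e3.symm _ (Over.w φ).symm]
      show _ = Fm F _ (Fm F _ t')
      rw [Fm_comp]
      exact Fm_congr F (by simp) _
    rw [h3]

/-- the sieve over `Over.mk g` lying over the sieve generated by a single arrow -/
theorem overEquiv_symm_generate_singleton {T V : C} (π : V ⟶ T) (g : T ⟶ X) :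
    (Sieve.overEquiv (Over.mk g)).symm (Sieve.generate (Presieve.singleton π)) =
      Sieve.generate (Presieve.singleton (Over.homMk π rfl : Over.mk (π ≫ g) ⟶ Over.mk g)) := by
  ext Z ψ
  rw [Sieve.overEquiv_symm_iff]
  constructor
  · rintro ⟨W, p, q, ⟨⟩, hpq⟩
    refine ⟨Over.mk (π ≫ g), Over.homMk p (by
      show p ≫ π ≫ g = Z.hom
      rw [← Category.assoc, hpq]
      exact Over.w ψ), Over.homMk π rfl, Presieve.singleton.mk, ?_⟩
    apply Over.OverMorphism.ext
    exact hpq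
  · rintro ⟨W, ψ', q, ⟨⟩, rfl⟩
    exact ⟨_, ψ'.left, π, Presieve.singleton.mk, rfl⟩

end Groth.Agent.Lib.Helper29.SigmaOver
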