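import Mathlib
import Groth.Prelude.Def_Adeq
import Groth.Prelude.Def_Adeq2
import Groth.Agent.Lib.Helper29.Adeq0
import Groth.Agent.Lib.Helper29.AdeqSplit0
import Groth.Agent.Lib.Helper29.AdeqSiteIso
import Groth.Agent.Lib.Helper29.AdeqSiteMain
import Groth.Agent.Lib.Helper29.AdeqCech
import Groth.Agent.Lib.Helper29.AdeqFinProd
import Groth.Agent.Lib.Helper29.SigmaOver

/-!
# Sheafification of a presheaf of modules with adequate values (S8760)
-/

set_option autoImplicit false
set_option maxHeartbeats 1600000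
universe u
open CategoryTheory Limits Opposite TensorProduct AlgebraicGeometry

namespace Groth.Agent.Lib.Helper29.AdeqSheafify
open Groth.Agent.Lib.Helper29.Adeq0 Groth.Agent.Lib.Helper29.AdeqSplit0
  Groth.Agent.Lib.Helper29.AdeqSiteIso Groth.Agent.Lib.Helper29.AdeqSiteMain
  Groth.Agent.Lib.Helper29.AdeqCech Groth.Agent.Lib.Helper29.AdeqFinProd
  Groth.Agent.Lib.Helper29.SigmaOver

noncomputable section

set_option backward.isDefEq.respectTransparency.types false in
theorem fppf_hasPullbacks : Scheme.fppfPrecoverage.{u}.HasPullbacks := by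
  unfold Scheme.fppfPrecoverage; infer_instance

theorem fppf_hasIsos : Scheme.fppfPrecoverage.{u}.HasIsos :=
  ⟨fun f _ => Scheme.Hom.singleton_mem_fppfPrecoverage f⟩

/-- a covering sieve of an affine scheme for the fppf topology contains a finite fppf covering
family of affine schemes -/
theorem exists_affine_refinement_sieve {A : CommRingCat.{u}} (R' : Sieve (Spec A))
    (hR' : R' ∈ Scheme.fppfPrecoverage.toGrothendieck (Spec A)) :
    ∃ (t : Finset (Spec A)) (C : t → CommRingCat.{u}) (φ : ∀ l, A ⟶ C l),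
      Presieve.ofArrows (fun l => Spec (C l)) (fun l => Spec.map (φ l)) ∈
        Scheme.fppfPrecoverage.coverings (Spec A) ∧ ∀ l, R' (Spec.map (φ l)) := by
  have := fppf_hasPullbacks.{u}
  have := fppf_hasIsos.{u}
  obtain ⟨P', hP', hle⟩ :=
    Precoverage.mem_toGrothendieck_iff_of_isStableUnderComposition.mp hR'
  obtain ⟨ι, Y, f, rfl⟩ := P'.exists_eq_ofArrows
  obtain ⟨hsurj, hP⟩ := (Scheme.ofArrows_mem_precoverage_iff
    (P := @Flat ⊓ @LocallyOfFinitePresentation)).mp hP'
  have key : ∀ x : Spec A, ∃ (C : CommRingCat.{u}) (k : Spec C ⟶ Spec A),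
      (@Flat ⊓ @LocallyOfFinitePresentation) k ∧ x ∈ Set.range k.base ∧ R' k := by
    intro x
    obtain ⟨i, y, hy⟩ := hsurj x
    obtain ⟨w, hw⟩ := (Y i).affineOpenCover.covers y
    refine ⟨(Y i).affineOpenCover.X ((Y i).affineOpenCover.idx y),
      (Y i).affineOpenCover.f ((Y i).affineOpenCover.idx y) ≫ f i, ?_, ?_, ?_⟩
    · have h1 := (hP i).1
      have h2 := (hP i).2
      exact ⟨inferInstance, inferInstance⟩
    · refine ⟨w, ?_⟩
      rw [Scheme.Hom.comp_base, TopCat.comp_app]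
      exact (congrArg (fun q => (f i).base q) hw).trans hy
    · exact R'.downward_closed (hle _ _ (Presieve.ofArrows.mk i)) _
  choose C k hPk hx hRk using key
  have hopen : ∀ x, IsOpen (Set.range (k x).base) := by
    intro x
    obtain ⟨h1, h2⟩ := hPk x
    exact (k x).isOpenMap.isOpen_range
  obtain ⟨t, ht⟩ := isCompact_univ.elim_finite_subcover
    (fun x : Spec A => Set.range (k x).base) hopen (fun x _ => Set.mem_iUnion.2 ⟨x, hx x⟩)
  refine ⟨t, fun l => C l.1, fun l => Spec.preimage (k l.1), ?_, fun l => ?_⟩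
  · refine (Scheme.ofArrows_mem_precoverage_iff
      (P := @Flat ⊓ @LocallyOfFinitePresentation)).mpr ⟨fun x => ?_, fun l => ?_⟩
    · have hxt := ht (Set.mem_univ x)
      simp only [Set.mem_iUnion] at hxt
      obtain ⟨x', hx't, hx'⟩ := hxt
      refine ⟨⟨x', hx't⟩, ?_⟩
      rw [Spec.map_preimage]
      exact hx'
    · rw [Spec.map_preimage]
      exact hPk _
  · rw [Spec.map_preimage]
    exact hRk _

/-- a sheaf of modules is separated for covering families -/
theorem sep_of_cover (K : Precoverage Scheme.{u}) [BigSite.OSh K] {S : Scheme.{u}}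
    (N : BigSite.Mod K S) {U : Over S} {κ : Type u} (V : κ → Over S) (ψ : ∀ l, V l ⟶ U)
    (hcov : Presieve.ofArrows (fun l => (V l).left) (fun l => (ψ l).left) ∈ K.coverings U.left)
    (x x' : N.val.presheaf.obj (op U))
    (h : ∀ l, N.val.presheaf.map (ψ l).op x = N.val.presheaf.map (ψ l).op x') : x = x' := by
  have h1 : Presheaf.IsSheaf (QuotSh.J K S) N.val.presheaf := N.isSheaf
  have h2 := (Presheaf.isSheaf_iff_isSheaf_forget (QuotSh.J K S) N.val.presheaf
    (forget AddCommGrpCat)).mp h1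
  have h3 := (isSheaf_iff_isSheaf_of_type _ _).mp h2
  have hmem : Sieve.ofArrows V ψ ∈ (QuotSh.J K S) U := by
    rw [GrothendieckTopology.mem_over_iff, Sieve.overEquiv_ofArrows]
    exact Precoverage.generate_mem_toGrothendieck hcov
  have h4 : Presieve.IsSheafFor (N.val.presheaf ⋙ forget AddCommGrpCat)
      (Presieve.ofArrows V ψ) := by
    rw [Presieve.isSheafFor_iff_generate]
    exact h3 _ hmem
  apply h4.isSeparatedFor.ext
  rintro Y f ⟨l⟩
  exact h l

variable {S : Scheme.{u}}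
  (P : PresheafOfModules.{u+1} (BigSite.ORing Scheme.fppfPrecoverage S).obj)
  (N : BigSite.Mod Scheme.fppfPrecoverage S) (η : P.presheaf ⟶ N.val.presheaf)

/-- underlying presheaves of types -/
abbrev PP : (Over S)ᵒᵖ ⥤ Type (u+1) := P.presheaf ⋙ forget AddCommGrpCat.{u+1}

abbrev NN : (Over S)ᵒᵖ ⥤ Type (u+1) := N.val.presheaf ⋙ forget AddCommGrpCat.{u+1}

theorem η_nat {Z Z' : Over S} (φ : Z ⟶ Z') (x : P.presheaf.obj (op Z')) :
    η.app (op Z) (Fm (PP P) φ x) = Fm (NN N) φ (η.app (op Z') x) :=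
  NatTrans.naturality_apply η φ.op x

section Fix

variable {R : CommRingCat.{u}} (a : Spec R ⟶ S)

/-- `Spec R → S` versus `Spec (R as an R-algebra) → S` -/
def jHom : Over.mk a ⟶ (Adeq.specOver a).obj (op (Adeq.algOf R R)) :=
  Over.homMk (𝟙 (Spec R)) (by
    show 𝟙 (Spec R) ≫ Spec.map (CommRingCat.ofHom (algebraMap R R)) ≫ a = a
    have h1 : Spec.map (CommRingCat.ofHom (algebraMap R R)) = 𝟙 (Spec R) := Spec.map_id R
    exact (Category.id_comp _).trans ((congrArg (fun k => k ≫ a) h1).trans (Category.id_comp a)))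

def jInv : (Adeq.specOver a).obj (op (Adeq.algOf R R)) ⟶ Over.mk a :=
  Over.homMk (𝟙 (Spec R)) (by
    show 𝟙 (Spec R) ≫ a = Spec.map (CommRingCat.ofHom (algebraMap R R)) ≫ a
    have h1 : Spec.map (CommRingCat.ofHom (algebraMap R R)) = 𝟙 (Spec R) := Spec.map_id R
    exact (congrArg (fun k => k ≫ a) h1).symm)

theorem jHom_jInv : jHom a ≫ jInv a = 𝟙 _ := Over.OverMorphism.ext (by
  show 𝟙 (Spec R) ≫ 𝟙 (Spec R) = 𝟙 _
  exact Category.id_comp _)

theorem jInv_jHom : jInv a ≫ jHom a = 𝟙 _ := Over.OverMorphism.ext (by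
  show 𝟙 (Spec R) ≫ 𝟙 (Spec R) = 𝟙 _
  exact Category.id_comp _)

variable {t : Type u} (C : t → Type u) [∀ l, CommRing (C l)] [∀ l, Algebra R (C l)]

/-- the structure map of the algebra `C l` -/
def uHom (l : t) : Adeq.algOf R R ⟶ Adeq.algOf R (C l) :=
  CommAlgCat.ofHom (Algebra.ofId R (C l))

/-- `Spec (C l) → Spec R` over `S` -/
def σ (l : t) : (Adeq.specOver a).obj (op (Adeq.algOf R (C l))) ⟶ Over.mk a :=
  (Adeq.specOver a).map (uHom C l).op ≫ jInv a

theorem σ_left (l : t) :
    (σ a C l).left = Spec.map (CommRingCat.ofHom (algebraMap R (C l))) :=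
  Category.comp_id _

theorem σ_jHom (l : t) : σ a C l ≫ jHom a = (Adeq.specOver a).map (uHom C l).op := by
  rw [σ, Category.assoc, jInv_jHom, Category.comp_id]

theorem inj_of_family (hP : Adeq.adequate R ((Adeq.toMVFPre Scheme.fppfPrecoverage a).obj P))
    [Fintype t] [DecidableEq t] [Module.FaithfullyFlat R (∀ l, C l)]
    (x x' : P.presheaf.obj (op (Over.mk a)))
    (h : ∀ l, Fm (PP P) (σ a C l) x = Fm (PP P) (σ a C l) x') : x = x' := by
  have h1 : Fm (PP P) (jInv a) x = Fm (PP P) (jInv a) x' := by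
    refine family_sep C ((Adeq.toMVFPre Scheme.fppfPrecoverage a).obj P) hP
      (Fm (PP P) (jInv a) x) (Fm (PP P) (jInv a) x') (fun l => ?_)
    show Fm (PP P) ((Adeq.specOver a).map (uHom C l).op) (Fm (PP P) (jInv a) x) =
      Fm (PP P) ((Adeq.specOver a).map (uHom C l).op) (Fm (PP P) (jInv a) x')
    rw [Fm_comp, Fm_comp]
    exact h l
  have h2 := congrArg (fun z => Fm (PP P) (jHom a) z) h1
  simp only [Fm_comp, jHom_jInv] at h2
  rw [Fm_id (PP P) (𝟙 _) rfl x, Fm_id (PP P) (𝟙 _) rfl x'] at h2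
  exact h2

theorem surj_of_family (hP : Adeq.adequate R ((Adeq.toMVFPre Scheme.fppfPrecoverage a).obj P))
    (hinjAll : ∀ (R' : CommRingCat.{u}) (a' : Spec R' ⟶ S),
      Function.Injective (η.app (op (Over.mk a'))))
    [Fintype t] [DecidableEq t] [Module.FaithfullyFlat R (∀ l, C l)]
    (hcov : Presieve.ofArrows
      (fun l => ((Adeq.specOver a).obj (op (Adeq.algOf R (C l)))).left)
      (fun l => (σ a C l).left) ∈ Scheme.fppfPrecoverage.coverings (Spec R))
    (q : N.val.presheaf.obj (op (Over.mk a)))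
    (p : ∀ l, P.presheaf.obj (op ((Adeq.specOver a).obj (op (Adeq.algOf R (C l))))))
    (hp : ∀ l, η.app _ (p l) = Fm (NN N) (σ a C l) q) :
    ∃ x : P.presheaf.obj (op (Over.mk a)), η.app _ x = q := by
  obtain ⟨y₀, hy⟩ := fp_surj C ((Adeq.toMVFPre Scheme.fppfPrecoverage a).obj P) hP p
  let y : P.presheaf.obj (op ((Adeq.specOver a).obj (op (Adeq.algOf R (∀ l, C l))))) := y₀
  let e₀ : Adeq.algOf R R ⟶ Adeq.algOf R (∀ l, C l) :=
    CommAlgCat.ofHom (Algebra.ofId R (∀ l, C l))
  let iL : Adeq.algOf R (∀ l, C l) ⟶ Adeq.algOf R ((∀ l, C l) ⊗[R] (∀ l, C l)) :=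
    CommAlgCat.ofHom (Algebra.TensorProduct.includeLeft :
      (∀ l, C l) →ₐ[R] (∀ l, C l) ⊗[R] (∀ l, C l))
  let iR : Adeq.algOf R (∀ l, C l) ⟶ Adeq.algOf R ((∀ l, C l) ⊗[R] (∀ l, C l)) :=
    CommAlgCat.ofHom (Algebra.TensorProduct.includeRight :
      (∀ l, C l) →ₐ[R] (∀ l, C l) ⊗[R] (∀ l, C l))
  let πB : (Adeq.specOver a).obj (op (Adeq.algOf R (∀ l, C l))) ⟶ Over.mk a :=
    (Adeq.specOver a).map e₀.op ≫ jInv a
  let τ : ∀ l, (Adeq.specOver a).obj (op (Adeq.algOf R (C l))) ⟶
      (Adeq.specOver a).obj (op (Adeq.algOf R (∀ l, C l))) :=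
    fun l => (Adeq.specOver a).map (pr C l).op
  have hy' : ∀ l, Fm (PP P) (τ l) y = p l := hy
  have hτπ : ∀ l, τ l ≫ πB = σ a C l := by
    intro l
    show (Adeq.specOver a).map (pr C l).op ≫ (Adeq.specOver a).map e₀.op ≫ jInv a =
      (Adeq.specOver a).map (uHom C l).op ≫ jInv a
    rw [← Category.assoc, ← Functor.map_comp, ← op_comp,
      alg_hom_unique (e₀ ≫ pr C l) (uHom C l)]
  -- the covering of `Spec (∏ C l)` by the `Spec (C l)`
  have hcovB : Presieve.ofArrows
      (fun l => ((Adeq.specOver a).obj (op (Adeq.algOf R (C l)))).left)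
      (fun l => (τ l).left) ∈ Scheme.fppfPrecoverage.coverings
        ((Adeq.specOver a).obj (op (Adeq.algOf R (∀ l, C l)))).left := by
    refine (Scheme.ofArrows_mem_precoverage_iff
      (P := @Flat ⊓ @LocallyOfFinitePresentation)).mpr ⟨fun x => ?_, fun l => ?_⟩
    · obtain ⟨⟨l, q'⟩, hq'⟩ := (PrimeSpectrum.sigmaToPi_bijective C).surjective x
      rw [PrimeSpectrum.sigmaToPi_apply] at hq'
      exact ⟨l, q', hq'⟩
    · haveI : IsOpenImmersion (τ l).left := by
        show IsOpenImmersion (Spec.map (CommRingCat.ofHom (Pi.evalRingHom C l)))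
        infer_instance
      exact ⟨inferInstance, inferInstance⟩
  -- Claim A
  have hA : η.app (op ((Adeq.specOver a).obj (op (Adeq.algOf R (∀ l, C l))))) y =
      Fm (NN N) πB q := by
    refine sep_of_cover Scheme.fppfPrecoverage N _ τ hcovB _ _ (fun l => ?_)
    show Fm (NN N) (τ l)
        (η.app (op ((Adeq.specOver a).obj (op (Adeq.algOf R (∀ l, C l))))) y) =
      Fm (NN N) (τ l) (Fm (NN N) πB q)
    rw [← η_nat, hy' l, hp l, Fm_comp, hτπ l]
  -- Claim B
  have hB : tr ((Adeq.toMVFPre Scheme.fppfPrecoverage a).obj P) iL y =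
      tr ((Adeq.toMVFPre Scheme.fppfPrecoverage a).obj P) iR y := by
    apply hinjAll (CommRingCat.of ((∀ l, C l) ⊗[R] (∀ l, C l)))
      (Spec.map (CommRingCat.ofHom (algebraMap R ((∀ l, C l) ⊗[R] (∀ l, C l)))) ≫ a)
    show η.app (op ((Adeq.specOver a).obj
          (op (Adeq.algOf R ((∀ l, C l) ⊗[R] (∀ l, C l))))))
        (Fm (PP P) ((Adeq.specOver a).map iL.op) y) =
      η.app (op ((Adeq.specOver a).obj
          (op (Adeq.algOf R ((∀ l, C l) ⊗[R] (∀ l, C l))))))
        (Fm (PP P) ((Adeq.specOver a).map iR.op) y)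
    rw [η_nat, η_nat, hA, Fm_comp, Fm_comp]
    have h1 : (Adeq.specOver a).map iL.op ≫ πB = (Adeq.specOver a).map iR.op ≫ πB := by
      show (Adeq.specOver a).map iL.op ≫ (Adeq.specOver a).map e₀.op ≫ jInv a =
        (Adeq.specOver a).map iR.op ≫ (Adeq.specOver a).map e₀.op ≫ jInv a
      rw [← Category.assoc, ← Category.assoc, ← Functor.map_comp, ← Functor.map_comp,
        ← op_comp, ← op_comp, alg_hom_unique (e₀ ≫ iL) (e₀ ≫ iR)]
    rw [h1]
  obtain ⟨-, hglue⟩ := cech_two (∀ l, C l) _ hP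
  obtain ⟨x₁, hx₁⟩ := hglue y hB
  let x₀ : P.presheaf.obj (op ((Adeq.specOver a).obj (op (Adeq.algOf R R)))) := x₁
  have hx₀' : Fm (PP P) ((Adeq.specOver a).map e₀.op) x₀ = y := hx₁
  refine ⟨Fm (PP P) (jHom a) x₀, ?_⟩
  refine sep_of_cover Scheme.fppfPrecoverage N _ (σ a C) hcov _ _ (fun l => ?_)
  show Fm (NN N) (σ a C l) (η.app (op (Over.mk a)) (Fm (PP P) (jHom a) x₀)) =
    Fm (NN N) (σ a C l) q
  rw [← η_nat, Fm_comp, σ_jHom, ← hp l, ← hy' l, ← hx₀', Fm_comp]
  have h2 : τ l ≫ (Adeq.specOver a).map e₀.op = (Adeq.specOver a).map (uHom C l).op := by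
    show (Adeq.specOver a).map (pr C l).op ≫ (Adeq.specOver a).map e₀.op = _
    rw [← Functor.map_comp, ← op_comp, alg_hom_unique (e₀ ≫ pr C l) (uHom C l)]
  rw [h2]

end Fix

variable (hP : ∀ (R : CommRingCat.{u}) (a : Spec R ⟶ S),
  Adeq.adequate R ((Adeq.toMVFPre Scheme.fppfPrecoverage a).obj P))

/-- faithful flatness of the product of the members of a finite affine fppf covering -/
theorem ff_of_cover {R : CommRingCat.{u}} {t : Type u} [Fintype t] [DecidableEq t]
    (C : t → CommRingCat.{u}) (φ : ∀ l, R ⟶ C l)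
    (hcov : Presieve.ofArrows (fun l => Spec (C l)) (fun l => Spec.map (φ l)) ∈
      Scheme.fppfPrecoverage.coverings (Spec R)) :
    letI : ∀ l, Algebra R (C l) := fun l => (φ l).hom.toAlgebra
    Module.FaithfullyFlat R (∀ l, C l) := by
  letI : ∀ l, Algebra R (C l) := fun l => (φ l).hom.toAlgebra
  obtain ⟨hsurj, hPφ⟩ := (Scheme.ofArrows_mem_precoverage_iff
    (P := @Flat ⊓ @LocallyOfFinitePresentation)).mp hcov
  haveI : ∀ l, Module.Flat R (C l) := fun l => (Flat.SpecMap_iff.mp (hPφ l).1)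
  refine ff_pi R (fun l => (C l : Type u)) (fun p => ?_)
  obtain ⟨l, q, hq⟩ := hsurj p
  exact ⟨l, q, hq⟩

include hP in
theorem app_injective [Presheaf.IsLocallyInjective (QuotSh.J Scheme.fppfPrecoverage S) η]
    (R : CommRingCat.{u}) (a : Spec R ⟶ S) : Function.Injective (η.app (op (Over.mk a))) := by
  classical
  intro x x' hxx'
  have hmem : Sieve.overEquiv (Over.mk a) (Presheaf.equalizerSieve x x') ∈
      Scheme.fppfPrecoverage.toGrothendieck (Spec R) :=
    Presheaf.equalizerSieve_mem (QuotSh.J Scheme.fppfPrecoverage S) η x x' hxx'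
  obtain ⟨t, C, φ, hcov, hmemφ⟩ := exists_affine_refinement_sieve _ hmem
  letI : ∀ l : t, Algebra R (C l) := fun l => (φ l).hom.toAlgebra
  haveI : Module.FaithfullyFlat R (∀ l : t, C l) := ff_of_cover C φ hcov
  refine inj_of_family P a (fun l : t => (C l : Type u)) (hP R a) x x' (fun l => ?_)
  have h1 : Fm (PP P) (Over.homMk (Spec.map (φ l)) rfl :
      Over.mk (Spec.map (φ l) ≫ a) ⟶ Over.mk a) x =
      Fm (PP P) (Over.homMk (Spec.map (φ l)) rfl :
        Over.mk (Spec.map (φ l) ≫ a) ⟶ Over.mk a) x' :=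
    (Sieve.overEquiv_iff _ _).mp (hmemφ l)
  have e : (Over.homMk (Spec.map (φ l)) rfl : Over.mk (Spec.map (φ l) ≫ a) ⟶ Over.mk a) =
      σ a (fun l : t => (C l : Type u)) l :=
    Over.OverMorphism.ext (σ_left a (fun l : t => (C l : Type u)) l).symm
  rw [← e]
  exact h1

include hP in
theorem app_surjective [Presheaf.IsLocallyInjective (QuotSh.J Scheme.fppfPrecoverage S) η]
    [Presheaf.IsLocallySurjective (QuotSh.J Scheme.fppfPrecoverage S) η]
    (R : CommRingCat.{u}) (a : Spec R ⟶ S) : Function.Surjective (η.app (op (Over.mk a))) := by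
  classical
  intro q
  have hmem : Sieve.overEquiv (Over.mk a) (Presheaf.imageSieve η q) ∈
      Scheme.fppfPrecoverage.toGrothendieck (Spec R) :=
    Presheaf.imageSieve_mem (QuotSh.J Scheme.fppfPrecoverage S) η q
  obtain ⟨t, C, φ, hcov, hmemφ⟩ := exists_affine_refinement_sieve _ hmem
  letI : ∀ l : t, Algebra R (C l) := fun l => (φ l).hom.toAlgebra
  haveI : Module.FaithfullyFlat R (∀ l : t, C l) := ff_of_cover C φ hcov
  have e : ∀ l : t,
      (Over.homMk (Spec.map (φ l)) rfl : Over.mk (Spec.map (φ l) ≫ a) ⟶ Over.mk a) =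
      σ a (fun l : t => (C l : Type u)) l := fun l =>
    Over.OverMorphism.ext (σ_left a (fun l : t => (C l : Type u)) l).symm
  have h1 : ∀ l : t, ∃ p : P.presheaf.obj
      (op ((Adeq.specOver a).obj (op (Adeq.algOf R (C l))))),
      η.app _ p = Fm (NN N) (σ a (fun l : t => (C l : Type u)) l) q := by
    intro l
    obtain ⟨p, hp⟩ := (Sieve.overEquiv_iff _ _).mp (hmemφ l)
    refine ⟨p, ?_⟩
    rw [← e l]
    exact hp
  choose p hp using h1
  obtain ⟨hsurj, hPφ⟩ := (Scheme.ofArrows_mem_precoverage_iff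
    (P := @Flat ⊓ @LocallyOfFinitePresentation)).mp hcov
  refine surj_of_family P N η a (fun l : t => (C l : Type u)) (hP R a)
    (fun R' a' => app_injective P N η hP R' a') ?_ q p hp
  refine (Scheme.ofArrows_mem_precoverage_iff
    (P := @Flat ⊓ @LocallyOfFinitePresentation)).mpr ⟨fun x => ?_, fun l => ?_⟩
  · obtain ⟨l, hl⟩ := hsurj x
    refine ⟨l, ?_⟩
    rw [σ_left]
    exact hl
  · rw [σ_left]
    exact hPφ l

/-- the comparison map at `B` -/
def cmpL (hlin : ∀ (U : (Over S)ᵒᵖ) (r : (BigSite.ORing Scheme.fppfPrecoverage S).obj.obj U)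
      (x : P.obj U), η.app U (r • x) = r • η.app U x)
    {R : CommRingCat.{u}} (a : Spec R ⟶ S) (B : Adeq.Alg R) :
    ((Adeq.toMVFPre Scheme.fppfPrecoverage a).obj P).obj (Adeq.pt B) →ₗ[(B : Type u)]
      ((Adeq.toMVF Scheme.fppfPrecoverage a).obj N).obj (Adeq.pt B) :=
  { toFun := fun x => η.app (op ((Adeq.specOver a).obj (op B))) x
    map_add' := fun x y => map_add (η.app (op ((Adeq.specOver a).obj (op B)))).hom x y
    map_smul' := fun b x => hlin (op ((Adeq.specOver a).obj (op B)))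
      (Adeq.toSect Scheme.fppfPrecoverage a B b) x }

/-- the comparison morphism -/
def cmpMor (hlin : ∀ (U : (Over S)ᵒᵖ) (r : (BigSite.ORing Scheme.fppfPrecoverage S).obj.obj U)
      (x : P.obj U), η.app U (r • x) = r • η.app U x)
    {R : CommRingCat.{u}} (a : Spec R ⟶ S) :
    (Adeq.toMVFPre Scheme.fppfPrecoverage a).obj P ⟶
      (Adeq.toMVF Scheme.fppfPrecoverage a).obj N :=
  { app := fun X => ConcreteCategory.ofHom (C := ModuleCat ((Adeq.ringOf R).obj X))
      (cmpL P N η hlin a X.unop.unop)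
    naturality := by
      intro X Y g
      ext y
      exact η_nat P N η ((Adeq.specOver a).map g.unop) y }

include hP in
/-- a sheaf of modules receiving a locally bijective linear map from a presheaf with adequate
values has adequate values -/
theorem adequate_of_locallyBijective
    (hlin : ∀ (U : (Over S)ᵒᵖ) (r : (BigSite.ORing Scheme.fppfPrecoverage S).obj.obj U)
      (x : P.obj U), η.app U (r • x) = r • η.app U x)
    [Presheaf.IsLocallyInjective (QuotSh.J Scheme.fppfPrecoverage S) η]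
    [Presheaf.IsLocallySurjective (QuotSh.J Scheme.fppfPrecoverage S) η]
    (R : CommRingCat.{u}) (a : Spec R ⟶ S) :
    Adeq.adequate R ((Adeq.toMVF Scheme.fppfPrecoverage a).obj N) := by
  haveI : IsIso (cmpMor P N η hlin a) := isIso_of_bijective _ (fun B =>
    ⟨app_injective P N η hP _ _, app_surjective P N η hP _ _⟩)
  exact (Adeq.adequate R).prop_of_iso (asIso (cmpMor P N η hlin a)) (hP R a)

/-- **S8760** -/
theorem main8760 (S : Scheme.{u})
    (P : PresheafOfModules.{u + 1} (BigSite.ORing Scheme.fppfPrecoverage S).obj)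
    (h : ∀ (R : CommRingCat.{u}) (a : Spec R ⟶ S),
      Adeq.adequate R ((Adeq.toMVFPre Scheme.fppfPrecoverage a).obj P)) :
    Adeq.adequateMod Scheme.fppfPrecoverage S
      ((PresheafOfModules.sheafification
        (𝟙 (BigSite.ORing Scheme.fppfPrecoverage S).obj)).obj P) := by
  refine ⟨S.affineOpenCover.I₀, S.affineOpenCover.X, S.affineOpenCover.f, ?_, fun i => ?_⟩
  · refine (Scheme.ofArrows_mem_precoverage_iff
      (P := @Flat ⊓ @LocallyOfFinitePresentation)).mpr
      ⟨fun x => ⟨S.affineOpenCover.idx x, S.affineOpenCover.covers x⟩,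
        fun i => ⟨inferInstance, inferInstance⟩⟩
  · let N := (PresheafOfModules.sheafification
      (𝟙 (BigSite.ORing Scheme.fppfPrecoverage S).obj)).obj P
    let η : P.presheaf ⟶ N.val.presheaf :=
      CategoryTheory.toSheafify (QuotSh.J Scheme.fppfPrecoverage S) P.presheaf
    haveI : Presheaf.IsLocallyInjective (QuotSh.J Scheme.fppfPrecoverage S) η :=
      inferInstanceAs (Presheaf.IsLocallyInjective (QuotSh.J Scheme.fppfPrecoverage S)
        (CategoryTheory.toSheafify (QuotSh.J Scheme.fppfPrecoverage S) P.presheaf))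
    haveI : Presheaf.IsLocallySurjective (QuotSh.J Scheme.fppfPrecoverage S) η :=
      inferInstanceAs (Presheaf.IsLocallySurjective (QuotSh.J Scheme.fppfPrecoverage S)
        (CategoryTheory.toSheafify (QuotSh.J Scheme.fppfPrecoverage S) P.presheaf))
    refine adequate_of_locallyBijective P N η h ?_ _ _
    intro U r x
    exact (((PresheafOfModules.sheafificationAdjunction
      (𝟙 (BigSite.ORing Scheme.fppfPrecoverage S).obj)).unit.app P).app U).hom.map_smul r x

end

end Groth.Agent.Lib.Helper29.AdeqSheafify
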