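import Mathlib
import Groth.Prelude.Def_Adeq
import Groth.Prelude.Def_Adeq2
import Groth.Agent.Lib.Helper29.Adeq0
import Groth.Agent.Lib.Helper29.AdeqAb
import Groth.Agent.Lib.Helper29.AdeqColim
import Groth.Agent.Lib.Helper29.AdeqSiteMain
import Groth.Agent.Lib.Helper29.AdeqSheafify

/-!
# Cokernels and colimits of adequate modules on the big fppf site (S8762, S8764)
-/

set_option autoImplicit false
set_option maxHeartbeats 1600000
universe u w w'
open CategoryTheory Limits Opposite AlgebraicGeometry

namespace Groth.Agent.Lib.Helper29.AdeqSiteColim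
open Groth.Agent.Lib.Helper29.Adeq0 Groth.Agent.Lib.Helper29.AdeqAb
  Groth.Agent.Lib.Helper29.AdeqColim Groth.Agent.Lib.Helper29.AdeqSiteMain
  Groth.Agent.Lib.Helper29.AdeqSheafify

noncomputable section

section Preserves

variable (K : Precoverage Scheme.{u}) [BigSite.OSh K] {S : Scheme.{u}} {R : CommRingCat.{u}}
  (a : Spec R ⟶ S)

/-- `toMVFPre` followed by the forgetful functor is restriction along `specOver` -/
def compIso : Adeq.toMVFPre K a ⋙ PresheafOfModules.toPresheaf (Adeq.ringOf R) ≅
    PresheafOfModules.toPresheaf (BigSite.ORing K S).obj ⋙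
      (Functor.whiskeringLeft _ _ _).obj (Adeq.specOver a).op :=
  NatIso.ofComponents (fun P => NatIso.ofComponents (fun X => Iso.refl _)
    (fun f => by ext x; rfl)) (fun ψ => by ext X x; rfl)

theorem preservesColimitsOfShape_toMVFPre (J : Type w) [Category.{w'} J]
    [HasColimitsOfShape J AddCommGrpCat.{u+1}] :
    PreservesColimitsOfShape J (Adeq.toMVFPre K a) := by
  haveI : PreservesColimitsOfShape J
      (Adeq.toMVFPre K a ⋙ PresheafOfModules.toPresheaf (Adeq.ringOf R)) :=
    preservesColimitsOfShape_of_natIso (compIso K a).symm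
  haveI : ReflectsColimitsOfShape J (PresheafOfModules.toPresheaf.{u+1} (Adeq.ringOf R)) :=
    reflectsColimitsOfShape_of_reflectsIsomorphisms
  exact preservesColimitsOfShape_of_reflects_of_preserves (Adeq.toMVFPre K a)
    (PresheafOfModules.toPresheaf (Adeq.ringOf R))

end Preserves

variable (S : Scheme.{u})

/-- sheafification -/
abbrev L : PresheafOfModules.{u+1} (BigSite.ORing Scheme.fppfPrecoverage S).obj ⥤
    BigSite.Mod Scheme.fppfPrecoverage S :=
  PresheafOfModules.sheafification (𝟙 (BigSite.ORing Scheme.fppfPrecoverage S).obj)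

/-- its right adjoint -/
abbrev G : BigSite.Mod Scheme.fppfPrecoverage S ⥤
    PresheafOfModules.{u+1} (BigSite.ORing Scheme.fppfPrecoverage S).obj :=
  SheafOfModules.forget (BigSite.ORing Scheme.fppfPrecoverage S) ⋙
    PresheafOfModules.restrictScalars (𝟙 (BigSite.ORing Scheme.fppfPrecoverage S).obj)

/-- the adjunction -/
abbrev adj : L S ⊣ G S :=
  PresheafOfModules.sheafificationAdjunction (𝟙 (BigSite.ORing Scheme.fppfPrecoverage S).obj)

theorem adequate_G (M : BigSite.Mod Scheme.fppfPrecoverage S)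
    (hM : Adeq.adequateMod Scheme.fppfPrecoverage S M) (R : CommRingCat.{u}) (a : Spec R ⟶ S) :
    Adeq.adequate R ((Adeq.toMVFPre Scheme.fppfPrecoverage a).obj ((G S).obj M)) :=
  main8755 S M hM R a

/-- **S8764** -/
theorem main8764 (S : Scheme.{u}) {J : Type (u + 1)} [SmallCategory J]
    (D : J ⥤ BigSite.Mod Scheme.fppfPrecoverage S)
    (hD : ∀ j, Adeq.adequateMod Scheme.fppfPrecoverage S (D.obj j)) :
    Adeq.adequateMod Scheme.fppfPrecoverage S (colimit D) := by
  let P := colimit (D ⋙ G S)
  have e1 : (L S).obj P ≅ colimit ((D ⋙ G S) ⋙ L S) := preservesColimitIso (L S) (D ⋙ G S)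
  have e2 : (D ⋙ G S) ⋙ L S ≅ D :=
    Functor.associator _ _ _ ≪≫ Functor.isoWhiskerLeft D (asIso (adj S).counit) ≪≫
      Functor.rightUnitor D
  have e : colimit D ≅ (L S).obj P := (HasColimit.isoOfNatIso e2).symm ≪≫ e1.symm
  refine (Adeq.adequateMod Scheme.fppfPrecoverage S).prop_of_iso e.symm (main8760 S P ?_)
  intro R a
  haveI := preservesColimitsOfShape_toMVFPre Scheme.fppfPrecoverage a J
  have e3 := preservesColimitIso (Adeq.toMVFPre Scheme.fppfPrecoverage a) (D ⋙ G S)
  refine (Adeq.adequate R).prop_of_iso e3.symm (main8745 R _ (fun j => ?_))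
  exact adequate_G S (D.obj j) (hD j) R a

/-- **S8762** -/
theorem main8762 (S : Scheme.{u}) {M N : BigSite.Mod Scheme.fppfPrecoverage S} (φ : M ⟶ N)
    (hM : Adeq.adequateMod Scheme.fppfPrecoverage S M)
    (hN : Adeq.adequateMod Scheme.fppfPrecoverage S N) :
    Adeq.adequateMod Scheme.fppfPrecoverage S (cokernel φ) := by
  let ψ := (G S).map φ
  have e1 : (L S).obj (cokernel ψ) ≅ cokernel ((L S).map ψ) := PreservesCokernel.iso (L S) ψ
  have e2 : cokernel ((L S).map ψ) ≅ cokernel φ :=
    cokernel.mapIso ((L S).map ψ) φ (asIso ((adj S).counit.app M))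
      (asIso ((adj S).counit.app N)) ((adj S).counit.naturality φ)
  refine (Adeq.adequateMod Scheme.fppfPrecoverage S).prop_of_iso (e1 ≪≫ e2)
    (main8760 S (cokernel ψ) ?_)
  intro R a
  haveI := preservesColimitsOfShape_toMVFPre Scheme.fppfPrecoverage a WalkingParallelPair
  have e3 := PreservesCokernel.iso (Adeq.toMVFPre Scheme.fppfPrecoverage a) ψ
  exact (Adeq.adequate R).prop_of_iso e3.symm
    (main8743 R _ (adequate_G S M hM R a) (adequate_G S N hN R a))

end

end Groth.Agent.Lib.Helper29.AdeqSiteColim
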