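import Mathlib
import Groth.Prelude.Def_Adeq
import Groth.Prelude.Def_Adeq2
import Groth.Agent.Lib.Helper29.Adeq0
import Groth.Agent.Lib.Helper29.AdeqSiteIso
import Groth.Agent.Lib.Helper29.AdeqSheafify
import Groth.Agent.Lib.Helper29.AdeqSiteColim

/-!
# Local lifting of sections along epimorphisms of sheaves of modules; parasitic modules (S8784)
-/

set_option autoImplicit false
set_option maxHeartbeats 1600000
universe u w
open CategoryTheory Limits Opposite AlgebraicGeometry

namespace Groth.Agent.Lib.Helper29.AdeqLocLift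
open Groth.Agent.Lib.Helper29.Adeq0 Groth.Agent.Lib.Helper29.AdeqSiteIso
  Groth.Agent.Lib.Helper29.AdeqSheafify Groth.Agent.Lib.Helper29.AdeqSiteColim

noncomputable section

/-- a sheaf of modules is separated for covering families (any index universe) -/
theorem sep_of_cover' (K : Precoverage Scheme.{u}) [BigSite.OSh K] {S : Scheme.{u}}
    (N : BigSite.Mod K S) {U : Over S} {κ : Type w} (V : κ → Over S) (ψ : ∀ l, V l ⟶ U)
    (hcov : Presieve.ofArrows (fun l => (V l).left) (fun l => (ψ l).left) ∈ K.coverings U.left)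
    (x x' : N.val.presheaf.obj (op U))
    (h : ∀ l, N.val.presheaf.map (ψ l).op x = N.val.presheaf.map (ψ l).op x') : x = x' := by
  have h1 : Presheaf.IsSheaf (QuotSh.J K S) N.val.presheaf := N.isSheaf
  have h2 := (Presheaf.isSheaf_iff_isSheaf_forget (QuotSh.J K S) N.val.presheaf
    (forget AddCommGrpCat)).mp h1
  have h3 := (isSheaf_iff_isSheaf_of_type _ _).mp h2
  have hmem : Sieve.ofArrows V ψ ∈ (QuotSh.J K S) U := by
    rw [GrothendieckTopology.mem_over_iff, Sieve.overEquiv_ofArrows]
    exact Precoverage.generate_mem_toGrothendieck hcov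
  have h4 : Presieve.IsSheafFor (N.val.presheaf ⋙ forget AddCommGrpCat)
      (Presieve.ofArrows V ψ) := by
    rw [Presieve.isSheafFor_iff_generate]
    exact h3 _ hmem
  apply h4.isSeparatedFor.ext
  rintro Y f ⟨l⟩
  exact h l

variable (S : Scheme.{u})

/-- the underlying map of presheaves of abelian groups -/
abbrev pre {M N : BigSite.Mod Scheme.fppfPrecoverage S} (ψ : M ⟶ N) :
    M.val.presheaf ⟶ N.val.presheaf :=
  (PresheafOfModules.toPresheaf (BigSite.ORing Scheme.fppfPrecoverage S).obj).map ψ.val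

theorem pre_nat {M N : BigSite.Mod Scheme.fppfPrecoverage S} (ψ : M ⟶ N) {V U : Over S}
    (g : V ⟶ U) (x : M.val.presheaf.obj (op U)) :
    (pre S ψ).app (op V) (M.val.presheaf.map g.op x) =
      N.val.presheaf.map g.op ((pre S ψ).app (op U) x) :=
  NatTrans.naturality_apply (pre S ψ) g.op x

/-- sections lift locally along an epimorphism of sheaves of modules (sieve form) -/
theorem locally_lift_sieve {M N : BigSite.Mod Scheme.fppfPrecoverage S} (ψ : M ⟶ N) [Epi ψ]
    (U : Over S) (z : N.val.presheaf.obj (op U)) :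
    ∃ R' : Sieve U, R' ∈ (QuotSh.J Scheme.fppfPrecoverage S) U ∧
      ∀ {V : Over S} (g : V ⟶ U), R' g →
        ∃ y : M.val.presheaf.obj (op V),
          (pre S ψ).app (op V) y = N.val.presheaf.map g.op z := by
  let ψ' := (G S).map ψ
  let Q := cokernel ψ'
  let π : (G S).obj N ⟶ Q := cokernel.π ψ'
  have hepi : Epi ((L S).map ψ') := by
    have h : (L S).map ψ' ≫ (adj S).counit.app N = (adj S).counit.app M ≫ ψ :=
      (adj S).counit.naturality ψ
    have h' : (L S).map ψ' = (adj S).counit.app M ≫ ψ ≫ inv ((adj S).counit.app N) := by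
      rw [← Category.assoc, ← h, Category.assoc, IsIso.hom_inv_id, Category.comp_id]
    rw [h']
    infer_instance
  have h2 : (L S).map π = 0 := by
    rw [← cancel_epi ((L S).map ψ'), ← Functor.map_comp, cokernel.condition, Functor.map_zero,
      comp_zero]
  have h3 : π ≫ (adj S).unit.app Q = 0 := by
    have h := (adj S).unit.naturality π
    rw [Functor.id_map] at h
    rw [h, Functor.comp_map, h2, Functor.map_zero, comp_zero]
  let η : Q.presheaf ⟶ ((L S).obj Q).val.presheaf :=
    CategoryTheory.toSheafify (QuotSh.J Scheme.fppfPrecoverage S) Q.presheaf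
  haveI : Presheaf.IsLocallyInjective (QuotSh.J Scheme.fppfPrecoverage S) η :=
    inferInstanceAs (Presheaf.IsLocallyInjective (QuotSh.J Scheme.fppfPrecoverage S)
      (CategoryTheory.toSheafify (QuotSh.J Scheme.fppfPrecoverage S) Q.presheaf))
  let q : Q.presheaf.obj (op U) := π.app (op U) z
  have hq : η.app (op U) q = η.app (op U) 0 := by
    have h := congrArg (fun k => (k.app (op U)).hom z) h3
    rw [map_zero]
    exact h
  refine ⟨Presheaf.equalizerSieve q 0, Presheaf.equalizerSieve_mem _ η q 0 hq, ?_⟩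
  intro V g hg
  have hg' : Q.presheaf.map g.op q = Q.presheaf.map g.op 0 := hg
  have h4 : π.app (op V) (N.val.presheaf.map g.op z) = 0 := by
    have h := PresheafOfModules.naturality_apply π g.op z
    refine h.trans ?_
    refine hg'.trans ?_
    exact map_zero (Q.presheaf.map g.op).hom
  have hex : (ShortComplex.mk ψ' π (cokernel.condition ψ')).Exact :=
    ShortComplex.exact_of_g_is_cokernel _ (cokernelIsCokernel ψ')
  obtain ⟨y, hy⟩ := exact_app_gen hex (op V) (N.val.presheaf.map g.op z) h4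
  exact ⟨y, hy⟩

/-- sections lift locally along an epimorphism of sheaves of modules (family form) -/
theorem locally_lift {M N : BigSite.Mod Scheme.fppfPrecoverage S} (ψ : M ⟶ N) [Epi ψ]
    (U : Over S) (z : N.val.presheaf.obj (op U)) :
    ∃ (κ : Type (u+1)) (Y : κ → Scheme.{u}) (f : ∀ l, Y l ⟶ U.left),
      Presieve.ofArrows Y f ∈ Scheme.fppfPrecoverage.coverings U.left ∧
      ∀ l, ∃ y : M.val.presheaf.obj (op (Over.mk (f l ≫ U.hom))),
        (pre S ψ).app (op (Over.mk (f l ≫ U.hom))) y =
          N.val.presheaf.map (Over.homMk (f l) rfl : Over.mk (f l ≫ U.hom) ⟶ U).op z := by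
  obtain ⟨R', hR', hlift⟩ := locally_lift_sieve S ψ U z
  have := fppf_hasPullbacks.{u}
  have := fppf_hasIsos.{u}
  have hR'' : Sieve.overEquiv U R' ∈ Scheme.fppfPrecoverage.toGrothendieck U.left := hR'
  obtain ⟨P', hP', hle⟩ :=
    Precoverage.mem_toGrothendieck_iff_of_isStableUnderComposition.mp hR''
  obtain ⟨ι, Y, f, rfl⟩ := P'.exists_eq_ofArrows
  refine ⟨ι, Y, f, hP', fun l => ?_⟩
  have hmem : R' (Over.homMk (f l) rfl : Over.mk (f l ≫ U.hom) ⟶ U) :=
    (Sieve.overEquiv_iff _ _).mp (hle _ _ (Presieve.ofArrows.mk l))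
  exact hlift _ hmem

/-- **S8784** -/
theorem main8784 (S : Scheme.{u}) (C : ShortComplex (BigSite.Mod Scheme.fppfPrecoverage S))
    (hC : C.Exact) (p₁ : Adeq.parasitic Scheme.fppfPrecoverage S C.X₁)
    (p₃ : Adeq.parasitic Scheme.fppfPrecoverage S C.X₃) :
    Adeq.parasitic Scheme.fppfPrecoverage S C.X₂ := by
  intro U hU
  haveI hepi : Epi (kernel.lift C.g C.f C.zero) := C.exact_iff_epi_kernel_lift.mp hC
  let SC : ShortComplex (BigSite.Mod Scheme.fppfPrecoverage S) :=
    ShortComplex.mk (kernel.ι C.g) C.g (kernel.condition C.g)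
  have hSC : SC.Exact := ShortComplex.exact_of_f_is_kernel _ (kernelIsKernel C.g)
  have hSC' : (SC.map (SheafOfModules.forget _)).Exact :=
    hSC.map_of_mono_of_preservesKernel (SheafOfModules.forget _)
      (inferInstanceAs (Mono (kernel.ι C.g))) inferInstance
  suffices hz : ∀ x : C.X₂.val.presheaf.obj (op U), x = 0 from
    ⟨fun x x' => (hz x).trans (hz x').symm⟩
  intro x
  have hgx : (pre S C.g).app (op U) x = 0 := (p₃ U hU).elim _ _
  obtain ⟨xt, hxt⟩ := exact_app_gen hSC' (op U) x hgx
  have hxt' : (pre S (kernel.ι C.g)).app (op U) xt = x := hxt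
  obtain ⟨κ, Y, f, hcov, hlift⟩ := locally_lift S (kernel.lift C.g C.f C.zero) U xt
  obtain ⟨hsurj, hP⟩ := (Scheme.ofArrows_mem_precoverage_iff
    (P := @Flat ⊓ @LocallyOfFinitePresentation)).mp hcov
  refine sep_of_cover' Scheme.fppfPrecoverage C.X₂ (fun l => Over.mk (f l ≫ U.hom))
    (fun l => Over.homMk (f l) rfl) hcov x 0 (fun l => ?_)
  obtain ⟨y, hy⟩ := hlift l
  have hflat : Flat (f l ≫ U.hom) := by
    have h1 := (hP l).1
    infer_instance
  have hy0 : y = 0 := (p₁ (Over.mk (f l ≫ U.hom)) hflat).elim _ _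
  have hk0 : (kernel C.g).val.presheaf.map
      (Over.homMk (f l) rfl : Over.mk (f l ≫ U.hom) ⟶ U).op xt = 0 := by
    rw [← hy, hy0]
    exact map_zero ((pre S (kernel.lift C.g C.f C.zero)).app _).hom
  rw [← hxt', ← pre_nat, hk0]
  refine (map_zero ((pre S (kernel.ι C.g)).app _).hom).trans ?_
  exact (map_zero (C.X₂.val.presheaf.map
    (Over.homMk (f l) rfl : Over.mk (f l ≫ U.hom) ⟶ U).op).hom).symm

end

end Groth.Agent.Lib.Helper29.AdeqLocLift
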