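import Mathlib
import Groth.Prelude.Def_Adeq
import Groth.Prelude.Def_Adeq2
import Groth.Agent.Lib.Helper29.AdeqSiteIso
import Groth.Agent.Lib.Helper29.AdeqSheafify

/-!
# Sheaf-theoretic lemmas for the pushforward of adequate modules (S8765)
-/

set_option autoImplicit false
set_option maxHeartbeats 1600000
universe u
open CategoryTheory Limits Opposite AlgebraicGeometry

namespace Groth.Agent.Lib.Helper29.AdeqPushSh
open Groth.Agent.Lib.Helper29.AdeqSiteIso Groth.Agent.Lib.Helper29.AdeqSheafify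

noncomputable section

/-- a compact scheme has a finite affine open cover -/
theorem finite_affine_cover (X : Scheme.{u}) [CompactSpace X] :
    ∃ (I : Type u) (_ : Finite I) (A : I → CommRingCat.{u}) (w : ∀ i, Spec (A i) ⟶ X),
      (∀ i, IsOpenImmersion (w i)) ∧ ∀ x : X, ∃ i, x ∈ Set.range (w i).base := by
  obtain ⟨t, ht⟩ := isCompact_univ.elim_finite_subcover
    (fun x : X => Set.range (X.affineOpenCover.f (X.affineOpenCover.idx x)).base)
    (fun x => (X.affineOpenCover.f (X.affineOpenCover.idx x)).isOpenEmbedding.isOpen_range)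
    (fun x _ => Set.mem_iUnion.2 ⟨x, X.affineOpenCover.covers x⟩)
  refine ⟨{x // x ∈ t}, inferInstance, fun l => X.affineOpenCover.X (X.affineOpenCover.idx l.1),
    fun l => X.affineOpenCover.f (X.affineOpenCover.idx l.1), fun l => inferInstance, fun x => ?_⟩
  have hxt := ht (Set.mem_univ x)
  simp only [Set.mem_iUnion] at hxt
  obtain ⟨x', hx't, hx'⟩ := hxt
  exact ⟨⟨x', hx't⟩, hx'⟩

/-- a jointly surjective family of open immersions is an fppf covering -/
theorem zar_mem_fppf {X : Scheme.{u}} {I : Type u} (Y : I → Scheme.{u}) (w : ∀ i, Y i ⟶ X)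
    (hw : ∀ i, IsOpenImmersion (w i)) (hs : ∀ x : X, ∃ i, x ∈ Set.range (w i).base) :
    Presieve.ofArrows Y w ∈ Scheme.fppfPrecoverage.coverings X :=
  (Scheme.ofArrows_mem_precoverage_iff (P := @Flat ⊓ @LocallyOfFinitePresentation)).mpr
    ⟨hs, fun i => ⟨inferInstance, inferInstance⟩⟩

variable (K : Precoverage Scheme.{u}) [BigSite.OSh K] {T : Scheme.{u}} (M : BigSite.Mod K T)

/-- gluing sections of a sheaf of modules along a covering family -/
theorem glue_of_cover {X : Over T} {I : Type u} (Xs : I → Over T) (θ : ∀ i, Xs i ⟶ X)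
    (hcov : Presieve.ofArrows (fun i => (Xs i).left) (fun i => (θ i).left) ∈ K.coverings X.left)
    (y : ∀ i, M.val.presheaf.obj (op (Xs i)))
    (hcompat : ∀ (i j : I) (Z : Over T) (gi : Z ⟶ Xs i) (gj : Z ⟶ Xs j), gi ≫ θ i = gj ≫ θ j →
      M.val.presheaf.map gi.op (y i) = M.val.presheaf.map gj.op (y j)) :
    ∃ x : M.val.presheaf.obj (op X), ∀ i, M.val.presheaf.map (θ i).op x = y i := by
  have h1 : Presheaf.IsSheaf (QuotSh.J K T) M.val.presheaf := M.isSheaf
  have h2 := (Presheaf.isSheaf_iff_isSheaf_forget (QuotSh.J K T) M.val.presheaf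
    (forget AddCommGrpCat)).mp h1
  have h3 := (isSheaf_iff_isSheaf_of_type _ _).mp h2
  have hmem : Sieve.ofArrows Xs θ ∈ (QuotSh.J K T) X := by
    rw [GrothendieckTopology.mem_over_iff, Sieve.overEquiv_ofArrows]
    exact Precoverage.generate_mem_toGrothendieck hcov
  have h4 : Presieve.IsSheafFor (M.val.presheaf ⋙ forget AddCommGrpCat)
      (Presieve.ofArrows Xs θ) := by
    rw [Presieve.isSheafFor_iff_generate]
    exact h3 _ hmem
  have hs := (Presieve.isSheafFor_arrows_iff _ _).mp h4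
  obtain ⟨t, ht, -⟩ := hs y (fun i j Z gi gj comm => hcompat i j Z gi gj comm)
  exact ⟨t, ht⟩

variable [K.IsStableUnderBaseChange]

/-- compatibility of a family of sections on pairwise overlaps can be checked on a covering of the
overlap of the base opens -/
theorem compat_of_cover {X Xi Xj : Over T} (θi : Xi ⟶ X) (θj : Xj ⟶ X)
    {Y Wi Wj : Scheme.{u}} (m : X.left ⟶ Y) (wi : Wi ⟶ Y) (wj : Wj ⟶ Y)
    (ei : Xi.left ⟶ Wi) (ej : Xj.left ⟶ Wj)
    (hi : IsPullback θi.left ei m wi) (hj : IsPullback θj.left ej m wj)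
    {κ : Type u} (X₃ : κ → Over T) (W₃ : κ → Scheme.{u}) (g : ∀ k, W₃ k ⟶ pullback wi wj)
    (hg : Presieve.ofArrows W₃ g ∈ K.coverings (pullback wi wj))
    (θ₃ : ∀ k, X₃ k ⟶ X) (e₃ : ∀ k, (X₃ k).left ⟶ W₃ k)
    (h₃ : ∀ k, IsPullback (θ₃ k).left (e₃ k) m (g k ≫ pullback.fst wi wj ≫ wi))
    (δα : ∀ k, X₃ k ⟶ Xi) (δβ : ∀ k, X₃ k ⟶ Xj)
    (hα : ∀ k, δα k ≫ θi = θ₃ k) (hβ : ∀ k, δβ k ≫ θj = θ₃ k)
    (hαe : ∀ k, (δα k).left ≫ ei = e₃ k ≫ g k ≫ pullback.fst wi wj)
    (hβe : ∀ k, (δβ k).left ≫ ej = e₃ k ≫ g k ≫ pullback.snd wi wj)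
    (yi : M.val.presheaf.obj (op Xi)) (yj : M.val.presheaf.obj (op Xj))
    (hy : ∀ k, M.val.presheaf.map (δα k).op yi = M.val.presheaf.map (δβ k).op yj)
    {Z : Over T} (gi : Z ⟶ Xi) (gj : Z ⟶ Xj) (comm : gi ≫ θi = gj ≫ θj) :
    M.val.presheaf.map gi.op yi = M.val.presheaf.map gj.op yj := by
  have commL : gi.left ≫ θi.left = gj.left ≫ θj.left := congrArg CommaMorphism.left comm
  have c1 : (gi.left ≫ ei) ≫ wi = (gj.left ≫ ej) ≫ wj := by
    rw [Category.assoc, Category.assoc, ← hi.w, ← hj.w, ← Category.assoc, ← Category.assoc, commL]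
  let ζ : Z.left ⟶ pullback wi wj := pullback.lift (gi.left ≫ ei) (gj.left ≫ ej) c1
  have ζ1 : ζ ≫ pullback.fst wi wj = gi.left ≫ ei := pullback.lift_fst _ _ _
  have ζ2 : ζ ≫ pullback.snd wi wj = gj.left ≫ ej := pullback.lift_snd _ _ _
  let ZZ : κ → Over T := fun k => Over.mk (pullback.fst ζ (g k) ≫ Z.hom)
  let ψ : ∀ k, ZZ k ⟶ Z := fun k => Over.homMk (pullback.fst ζ (g k)) rfl
  have hcov : Presieve.ofArrows (fun k => (ZZ k).left) (fun k => (ψ k).left) ∈
      K.coverings Z.left :=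
    Precoverage.mem_coverings_of_isPullback g hg ζ (fun k => pullback.fst ζ (g k))
      (fun k => pullback.snd ζ (g k)) (fun k => IsPullback.of_hasPullback ζ (g k))
  refine sep_of_cover K M ZZ ψ hcov _ _ (fun k => ?_)
  have cnd : pullback.fst ζ (g k) ≫ ζ = pullback.snd ζ (g k) ≫ g k := pullback.condition
  have q1 : pullback.fst ζ (g k) ≫ gi.left ≫ ei =
      pullback.snd ζ (g k) ≫ g k ≫ pullback.fst wi wj := by
    rw [← ζ1, ← Category.assoc, cnd, Category.assoc]
  have q2 : pullback.fst ζ (g k) ≫ gj.left ≫ ej =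
      pullback.snd ζ (g k) ≫ g k ≫ pullback.snd wi wj := by
    rw [← ζ2, ← Category.assoc, cnd, Category.assoc]
  have c2 : (pullback.fst ζ (g k) ≫ gi.left ≫ θi.left) ≫ m =
      pullback.snd ζ (g k) ≫ g k ≫ pullback.fst wi wj ≫ wi := by
    calc (pullback.fst ζ (g k) ≫ gi.left ≫ θi.left) ≫ m
        = pullback.fst ζ (g k) ≫ gi.left ≫ θi.left ≫ m := by
          simp only [Category.assoc]
      _ = pullback.fst ζ (g k) ≫ gi.left ≫ ei ≫ wi := by rw [hi.w]
      _ = (pullback.fst ζ (g k) ≫ gi.left ≫ ei) ≫ wi := by simp only [Category.assoc]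
      _ = (pullback.snd ζ (g k) ≫ g k ≫ pullback.fst wi wj) ≫ wi := by rw [q1]
      _ = pullback.snd ζ (g k) ≫ g k ≫ pullback.fst wi wj ≫ wi := by
          simp only [Category.assoc]
  let hl : (ZZ k).left ⟶ (X₃ k).left :=
    (h₃ k).lift (pullback.fst ζ (g k) ≫ gi.left ≫ θi.left) (pullback.snd ζ (g k)) c2
  have hl1 : hl ≫ (θ₃ k).left = pullback.fst ζ (g k) ≫ gi.left ≫ θi.left :=
    (h₃ k).lift_fst _ _ _
  have hl2 : hl ≫ e₃ k = pullback.snd ζ (g k) := (h₃ k).lift_snd _ _ _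
  have c3 : hl ≫ (X₃ k).hom = (ZZ k).hom := by
    calc hl ≫ (X₃ k).hom = hl ≫ (θ₃ k).left ≫ X.hom := by rw [Over.w (θ₃ k)]
      _ = (hl ≫ (θ₃ k).left) ≫ X.hom := (Category.assoc _ _ _).symm
      _ = (pullback.fst ζ (g k) ≫ gi.left ≫ θi.left) ≫ X.hom := by rw [hl1]
      _ = pullback.fst ζ (g k) ≫ gi.left ≫ θi.left ≫ X.hom := by simp only [Category.assoc]
      _ = pullback.fst ζ (g k) ≫ Z.hom := by rw [Over.w θi, Over.w gi]
  let h : ZZ k ⟶ X₃ k := Over.homMk hl c3
  have e1 : h ≫ δα k = ψ k ≫ gi := by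
    apply Over.OverMorphism.ext
    apply hi.hom_ext
    · show (hl ≫ (δα k).left) ≫ θi.left = (pullback.fst ζ (g k) ≫ gi.left) ≫ θi.left
      have : (δα k).left ≫ θi.left = (θ₃ k).left := congrArg CommaMorphism.left (hα k)
      rw [Category.assoc, this, hl1, Category.assoc]
    · show (hl ≫ (δα k).left) ≫ ei = (pullback.fst ζ (g k) ≫ gi.left) ≫ ei
      rw [Category.assoc, hαe, ← Category.assoc, hl2, Category.assoc, q1]
  have e2 : h ≫ δβ k = ψ k ≫ gj := by
    apply Over.OverMorphism.ext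
    apply hj.hom_ext
    · show (hl ≫ (δβ k).left) ≫ θj.left = (pullback.fst ζ (g k) ≫ gj.left) ≫ θj.left
      have : (δβ k).left ≫ θj.left = (θ₃ k).left := congrArg CommaMorphism.left (hβ k)
      rw [Category.assoc, this, hl1, Category.assoc, commL]
    · show (hl ≫ (δβ k).left) ≫ ej = (pullback.fst ζ (g k) ≫ gj.left) ≫ ej
      rw [Category.assoc, hβe, ← Category.assoc, hl2, Category.assoc, q2]
  rw [pm_comp, pm_comp, ← e1, ← e2, ← pm_comp, ← pm_comp, hy k]

end

end Groth.Agent.Lib.Helper29.AdeqPushSh
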