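import Mathlib
import Groth.Prelude.Def_Adeq
import Groth.Prelude.Def_Adeq2
import Groth.Agent.Lib.Helper29.Adeq0
import Groth.Agent.Lib.Helper29.AdeqSplit0
import Groth.Agent.Lib.Helper29.AdeqExtn
import Groth.Agent.Lib.Helper29.AdeqSiteIso
import Groth.Agent.Lib.Helper29.AdeqSiteSheaf
import Groth.Agent.Lib.Helper29.AdeqSiteMain
import Groth.Agent.Lib.Helper29.AdeqSheafify
import Groth.Agent.Lib.Helper29.AdeqPushSh
import Groth.Agent.Lib.Helper29.AdeqLocLift
import Groth.Agent.Lib.Helper29.AdeqCech2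

/-!
# Extensions of adequate modules on the big fppf site are adequate (S8763)

The key input is the vanishing of the first Čech cohomology of an adequate functor for a
faithfully flat algebra (`AdeqCech2.cech_H1`), which gives the surjectivity of `M₂(U) → M₃(U)` on
affine objects.
-/

set_option autoImplicit false
set_option maxHeartbeats 1600000
universe u w
open CategoryTheory Limits Opposite TensorProduct AlgebraicGeometry

namespace Groth.Agent.Lib.Helper29.AdeqExtSheaf
open Groth.Agent.Lib.Helper29.Adeq0 Groth.Agent.Lib.Helper29.AdeqSplit0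
  Groth.Agent.Lib.Helper29.AdeqSiteIso Groth.Agent.Lib.Helper29.AdeqSiteSheaf
  Groth.Agent.Lib.Helper29.AdeqSiteMain Groth.Agent.Lib.Helper29.AdeqSheafify
  Groth.Agent.Lib.Helper29.AdeqPushSh Groth.Agent.Lib.Helper29.AdeqLocLift
  Groth.Agent.Lib.Helper29.AdeqCech2 Groth.Agent.Lib.Helper29.AdeqExtn

noncomputable section

theorem aux_sub {G : Type*} [AddCommGroup G] (a b c d : G) (h : b - d = a - c) :
    a - b = c - d := by
  have h1 : a - b - (c - d) = (a - c) - (b - d) := by abel
  exact sub_eq_zero.mp (by rw [h1, h, sub_self])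

/-! ### generalities on sheaves of modules on the big site -/

section Sheaf
variable (K : Precoverage Scheme.{u}) [BigSite.OSh K] {S : Scheme.{u}} (M : BigSite.Mod K S)

theorem pm_sub {X Y : Over S} (f : X ⟶ Y) (x x' : M.val.presheaf.obj (op Y)) :
    M.val.presheaf.map f.op (x - x') =
      M.val.presheaf.map f.op x - M.val.presheaf.map f.op x' :=
  map_sub (M.val.presheaf.map f.op).hom x x'

theorem mem_of_cover {U : Over S} {κ : Type w} (V : κ → Over S) (ψ : ∀ l, V l ⟶ U)
    (hcov : Presieve.ofArrows (fun l => (V l).left) (fun l => (ψ l).left) ∈ K.coverings U.left) :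
    Sieve.ofArrows V ψ ∈ (QuotSh.J K S) U := by
  rw [GrothendieckTopology.mem_over_iff, Sieve.overEquiv_ofArrows]
  exact Precoverage.generate_mem_toGrothendieck hcov

theorem isSheafFor_of_mem {U : Over S} {κ : Type w} (V : κ → Over S) (ψ : ∀ l, V l ⟶ U)
    (hmem : Sieve.ofArrows V ψ ∈ (QuotSh.J K S) U) :
    Presieve.IsSheafFor (M.val.presheaf ⋙ forget AddCommGrpCat) (Presieve.ofArrows V ψ) := by
  have h1 : Presheaf.IsSheaf (QuotSh.J K S) M.val.presheaf := M.isSheaf
  have h2 := (Presheaf.isSheaf_iff_isSheaf_forget (QuotSh.J K S) M.val.presheaf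
    (forget AddCommGrpCat)).mp h1
  have h3 := (isSheaf_iff_isSheaf_of_type _ _).mp h2
  rw [Presieve.isSheafFor_iff_generate]
  exact h3 _ hmem

theorem sep_of_mem {U : Over S} {κ : Type w} (V : κ → Over S) (ψ : ∀ l, V l ⟶ U)
    (hmem : Sieve.ofArrows V ψ ∈ (QuotSh.J K S) U) (x x' : M.val.presheaf.obj (op U))
    (h : ∀ l, M.val.presheaf.map (ψ l).op x = M.val.presheaf.map (ψ l).op x') : x = x' := by
  apply (isSheafFor_of_mem K M V ψ hmem).isSeparatedFor.ext
  rintro Y f ⟨l⟩
  exact h l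

theorem glue_of_mem {U : Over S} {κ : Type w} (V : κ → Over S) (ψ : ∀ l, V l ⟶ U)
    (hmem : Sieve.ofArrows V ψ ∈ (QuotSh.J K S) U) (y : ∀ l, M.val.presheaf.obj (op (V l)))
    (hcompat : ∀ (i j : κ) (Z : Over S) (gi : Z ⟶ V i) (gj : Z ⟶ V j), gi ≫ ψ i = gj ≫ ψ j →
      M.val.presheaf.map gi.op (y i) = M.val.presheaf.map gj.op (y j)) :
    ∃ x : M.val.presheaf.obj (op U), ∀ l, M.val.presheaf.map (ψ l).op x = y l := by
  have hs := (Presieve.isSheafFor_arrows_iff _ _).mp (isSheafFor_of_mem K M V ψ hmem)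
  obtain ⟨t, ht, -⟩ := hs y (fun i j Z gi gj comm => hcompat i j Z gi gj comm)
  exact ⟨t, ht⟩

/-- descent of sections along a single covering morphism whose self fibre product is given -/
theorem glue_single {U V W : Over S} (π : V ⟶ U) (p₁ p₂ : W ⟶ V)
    (hpb : IsPullback p₁.left p₂.left π.left π.left)
    (hmem : Sieve.ofArrows (fun _ : PUnit.{1} => V) (fun _ => π) ∈ (QuotSh.J K S) U)
    (y : M.val.presheaf.obj (op V))
    (hy : M.val.presheaf.map p₁.op y = M.val.presheaf.map p₂.op y) :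
    ∃ x : M.val.presheaf.obj (op U), M.val.presheaf.map π.op x = y := by
  have hc : ∀ (i j : PUnit.{1}) (Z : Over S) (gi : Z ⟶ V) (gj : Z ⟶ V), gi ≫ π = gj ≫ π →
      M.val.presheaf.map gi.op y = M.val.presheaf.map gj.op y := by
    intro _ _ Z gi gj comm
    have commL : gi.left ≫ π.left = gj.left ≫ π.left := congrArg CommaMorphism.left comm
    have l1 : hpb.lift gi.left gj.left commL ≫ p₁.left = gi.left := hpb.lift_fst _ _ _
    have l2 : hpb.lift gi.left gj.left commL ≫ p₂.left = gj.left := hpb.lift_snd _ _ _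
    have hw : hpb.lift gi.left gj.left commL ≫ W.hom = Z.hom := by
      calc hpb.lift gi.left gj.left commL ≫ W.hom
          = hpb.lift gi.left gj.left commL ≫ p₁.left ≫ V.hom := by rw [Over.w p₁]
        _ = (hpb.lift gi.left gj.left commL ≫ p₁.left) ≫ V.hom := (Category.assoc _ _ _).symm
        _ = gi.left ≫ V.hom := by rw [l1]
        _ = Z.hom := Over.w gi
    have e1 : (Over.homMk (hpb.lift gi.left gj.left commL) hw : Z ⟶ W) ≫ p₁ = gi :=
      Over.OverMorphism.ext l1
    have e2 : (Over.homMk (hpb.lift gi.left gj.left commL) hw : Z ⟶ W) ≫ p₂ = gj :=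
      Over.OverMorphism.ext l2
    calc M.val.presheaf.map gi.op y
        = M.val.presheaf.map ((Over.homMk (hpb.lift gi.left gj.left commL) hw : Z ⟶ W) ≫ p₁).op y := by
          rw [e1]
      _ = M.val.presheaf.map (Over.homMk (hpb.lift gi.left gj.left commL) hw : Z ⟶ W).op
            (M.val.presheaf.map p₁.op y) := (pm_comp K M _ p₁ y).symm
      _ = M.val.presheaf.map (Over.homMk (hpb.lift gi.left gj.left commL) hw : Z ⟶ W).op
            (M.val.presheaf.map p₂.op y) := by rw [hy]
      _ = M.val.presheaf.map ((Over.homMk (hpb.lift gi.left gj.left commL) hw : Z ⟶ W) ≫ p₂).op y :=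
          pm_comp K M _ p₂ y
      _ = M.val.presheaf.map gj.op y := by rw [e2]
  obtain ⟨x, hx⟩ := glue_of_mem K M (fun _ : PUnit.{1} => V) (fun _ => π) hmem (fun _ => y) hc
  exact ⟨x, hx PUnit.unit⟩

theorem sep_single {U V : Over S} (π : V ⟶ U)
    (hmem : Sieve.ofArrows (fun _ : PUnit.{1} => V) (fun _ => π) ∈ (QuotSh.J K S) U)
    (x x' : M.val.presheaf.obj (op U))
    (h : M.val.presheaf.map π.op x = M.val.presheaf.map π.op x') : x = x' :=
  sep_of_mem K M (fun _ : PUnit.{1} => V) (fun _ => π) hmem x x' (fun _ => h)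

end Sheaf

/-! ### the fppf site: additivity of `pre`, empty objects -/

section Pre
variable (S : Scheme.{u}) {M N : BigSite.Mod Scheme.fppfPrecoverage S} (ψ : M ⟶ N)

theorem pre_sub (U : Over S) (x x' : M.val.presheaf.obj (op U)) :
    (pre S ψ).app (op U) (x - x') = (pre S ψ).app (op U) x - (pre S ψ).app (op U) x' :=
  map_sub ((pre S ψ).app (op U)).hom x x'

theorem pre_add (U : Over S) (x x' : M.val.presheaf.obj (op U)) :
    (pre S ψ).app (op U) (x + x') = (pre S ψ).app (op U) x + (pre S ψ).app (op U) x' :=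
  map_add ((pre S ψ).app (op U)).hom x x'

theorem pre_zero (U : Over S) :
    (pre S ψ).app (op U) (0 : M.val.presheaf.obj (op U)) = 0 :=
  map_zero ((pre S ψ).app (op U)).hom

end Pre

theorem subsingleton_of_isEmpty {S : Scheme.{u}} (M : BigSite.Mod Scheme.fppfPrecoverage S)
    (Z : Over S) [IsEmpty Z.left] (x x' : M.val.presheaf.obj (op Z)) : x = x' := by
  refine sep_of_cover' Scheme.fppfPrecoverage M (κ := PEmpty.{1}) (fun l => l.elim)
    (fun l => l.elim) ?_ x x' (fun l => l.elim)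
  exact (Scheme.ofArrows_mem_precoverage_iff
    (P := @Flat ⊓ @LocallyOfFinitePresentation)).mpr
    ⟨fun z => (IsEmpty.false z).elim, fun l => l.elim⟩

/-! ### left exactness on sections -/

section Exact
variable {S : Scheme.{u}} (C : ShortComplex (BigSite.Mod Scheme.fppfPrecoverage S))
  (hC : C.ShortExact)

include hC in
theorem f_injective (U : Over S) : Function.Injective ((pre S C.f).app (op U)) := by
  haveI : Mono C.f := hC.mono_f
  haveI : Mono ((SheafOfModules.forget _).map C.f) := inferInstance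
  exact PresheafOfModules.injective_of_mono ((SheafOfModules.forget _).map C.f) (op U)

theorem gf_zero (U : Over S) (x : C.X₁.val.presheaf.obj (op U)) :
    (pre S C.g).app (op U) ((pre S C.f).app (op U) x) = 0 := by
  have h0 : (SheafOfModules.forget _).map C.f ≫ (SheafOfModules.forget _).map C.g = 0 := by
    rw [← Functor.map_comp, C.zero, Functor.map_zero]
  have h := congrArg (fun k => (k.app (op U)).hom x) h0
  exact h

include hC in
theorem exact_sections (U : Over S) (x : C.X₂.val.presheaf.obj (op U))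
    (hx : (pre S C.g).app (op U) x = 0) :
    ∃ x₁ : C.X₁.val.presheaf.obj (op U), (pre S C.f).app (op U) x₁ = x := by
  haveI : Mono C.f := hC.mono_f
  have hSC' : (C.map (SheafOfModules.forget _)).Exact :=
    hC.exact.map_of_mono_of_preservesKernel (SheafOfModules.forget _) hC.mono_f inferInstance
  exact exact_app_gen hSC' (op U) x hx

end Exact

/-! ### descent along a faithfully flat algebra -/

section Descend
variable {S : Scheme.{u}} {R : CommRingCat.{u}} (a : Spec R ⟶ S) (B : Type u) [CommRing B]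
  [Algebra R B]

/-- `Spec B → S` -/
abbrev V1 : Over S := (Adeq.specOver a).obj (op (Adeq.algOf R B))
/-- `Spec (B ⊗ B) → S` -/
abbrev V2 : Over S := (Adeq.specOver a).obj (op (Adeq.algOf R (B ⊗[R] B)))
/-- `Spec (B ⊗ B ⊗ B) → S` -/
abbrev V3 : Over S := (Adeq.specOver a).obj (op (Adeq.algOf R ((B ⊗[R] B) ⊗[R] B)))

/-- the covering map `Spec B → Spec R` over `S` -/
abbrev πB : V1 a B ⟶ Over.mk a :=
  Over.homMk (Spec.map (CommRingCat.ofHom (algebraMap R B))) rfl

abbrev sL : V2 a B ⟶ V1 a B := (Adeq.specOver a).map (iL B).op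
abbrev sR : V2 a B ⟶ V1 a B := (Adeq.specOver a).map (iR B).op
abbrev d0 : V3 a B ⟶ V2 a B := (Adeq.specOver a).map (k0 B).op
abbrev d1 : V3 a B ⟶ V2 a B := (Adeq.specOver a).map (k1 B).op
abbrev d2 : V3 a B ⟶ V2 a B := (Adeq.specOver a).map (k2 B).op

theorem sL_π : sL a B ≫ πB a B = sR a B ≫ πB a B := by
  apply Over.OverMorphism.ext
  have h : CommRingCat.ofHom (algebraMap R B) ≫ rh (R := R) (iL (A := R) B) =
      CommRingCat.ofHom (algebraMap R B) ≫ rh (R := R) (iR (A := R) B) := by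
    ext r
    show (Algebra.TensorProduct.includeLeft : B →ₐ[R] B ⊗[R] B) (algebraMap R B r) =
      (Algebra.TensorProduct.includeRight : B →ₐ[R] B ⊗[R] B) (algebraMap R B r)
    rw [AlgHom.commutes, AlgHom.commutes]
  exact (Spec.map_comp _ _).symm.trans ((congrArg Spec.map h).trans (Spec.map_comp _ _))

theorem rel1 : iL (A := R) B ≫ k0 B = iR B ≫ k2 B :=
  CommAlgCat.hom_ext (AlgHom.ext fun _ => rfl)
theorem rel2 : iR (A := R) B ≫ k0 B = iR B ≫ k1 B :=
  CommAlgCat.hom_ext (AlgHom.ext fun _ => rfl)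
theorem rel3 : iL (A := R) B ≫ k1 B = iL B ≫ k2 B :=
  CommAlgCat.hom_ext (AlgHom.ext fun _ => rfl)

theorem Rel1 : d0 a B ≫ sL a B = d2 a B ≫ sR a B := by
  show (Adeq.specOver a).map (k0 B).op ≫ (Adeq.specOver a).map (iL B).op =
    (Adeq.specOver a).map (k2 B).op ≫ (Adeq.specOver a).map (iR B).op
  rw [← Functor.map_comp, ← Functor.map_comp, ← op_comp, ← op_comp, rel1]

theorem Rel2 : d0 a B ≫ sR a B = d1 a B ≫ sR a B := by
  show (Adeq.specOver a).map (k0 B).op ≫ (Adeq.specOver a).map (iR B).op =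
    (Adeq.specOver a).map (k1 B).op ≫ (Adeq.specOver a).map (iR B).op
  rw [← Functor.map_comp, ← Functor.map_comp, ← op_comp, ← op_comp, rel2]

theorem Rel3 : d1 a B ≫ sL a B = d2 a B ≫ sL a B := by
  show (Adeq.specOver a).map (k1 B).op ≫ (Adeq.specOver a).map (iL B).op =
    (Adeq.specOver a).map (k2 B).op ≫ (Adeq.specOver a).map (iL B).op
  rw [← Functor.map_comp, ← Functor.map_comp, ← op_comp, ← op_comp, rel3]

theorem isPullback_s :
    IsPullback (sL a B).left (sR a B).left (πB a B).left (πB a B).left := by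
  have h := isPullback_SpecMap_of_isPushout _ _ _ _ (CommRingCat.isPushout_tensorProduct R B B)
  exact h

variable {a B} in
/-- a section of `M₃` over `Spec R` which lifts to `M₂` over a faithfully flat `Spec B` lifts over
`Spec R` -/
theorem lift_descend (C : ShortComplex (BigSite.Mod Scheme.fppfPrecoverage S))
    (hC : C.ShortExact)
    (h₁ : Adeq.adequate R ((Adeq.toMVF Scheme.fppfPrecoverage a).obj C.X₁))
    [Module.FaithfullyFlat R B]
    (hmem : Sieve.ofArrows (fun _ : PUnit.{1} => V1 a B) (fun _ => πB a B) ∈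
      (QuotSh.J Scheme.fppfPrecoverage S) (Over.mk a))
    (z : C.X₃.val.presheaf.obj (op (Over.mk a)))
    (y' : C.X₂.val.presheaf.obj (op (V1 a B)))
    (hy' : (pre S C.g).app (op (V1 a B)) y' = C.X₃.val.presheaf.map (πB a B).op z) :
    ∃ y : C.X₂.val.presheaf.obj (op (Over.mk a)), (pre S C.g).app (op (Over.mk a)) y = z := by
  have hgξ₂ : (pre S C.g).app (op (V2 a B))
      (C.X₂.val.presheaf.map (sL a B).op y' - C.X₂.val.presheaf.map (sR a B).op y') = 0 := by
    rw [pre_sub, pre_nat, pre_nat, hy', pm_comp, pm_comp, sL_π, sub_self]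
  obtain ⟨ξ, hξ⟩ := exact_sections C hC (V2 a B) _ hgξ₂
  have hcoc : C.X₁.val.presheaf.map (d0 a B).op ξ - C.X₁.val.presheaf.map (d1 a B).op ξ +
      C.X₁.val.presheaf.map (d2 a B).op ξ = 0 := by
    apply f_injective C hC (V3 a B)
    rw [pre_zero, pre_add, pre_sub, pre_nat, pre_nat, pre_nat, hξ, pm_sub, pm_sub, pm_sub,
      pm_comp, pm_comp, pm_comp, pm_comp, pm_comp, pm_comp, Rel1, Rel2, Rel3]
    abel
  obtain ⟨t, ht⟩ := cech_H1 (A := R) B ((Adeq.toMVF Scheme.fppfPrecoverage a).obj C.X₁) h₁ ξ hcoc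
  have ht' : C.X₁.val.presheaf.map (sL a B).op t - C.X₁.val.presheaf.map (sR a B).op t = ξ := ht
  have hy''1 : C.X₂.val.presheaf.map (sL a B).op (y' - (pre S C.f).app (op (V1 a B)) t) =
      C.X₂.val.presheaf.map (sR a B).op (y' - (pre S C.f).app (op (V1 a B)) t) := by
    rw [pm_sub, pm_sub, ← pre_nat, ← pre_nat]
    have h5 : (pre S C.f).app (op (V2 a B)) (C.X₁.val.presheaf.map (sL a B).op t) -
        (pre S C.f).app (op (V2 a B)) (C.X₁.val.presheaf.map (sR a B).op t) =
        C.X₂.val.presheaf.map (sL a B).op y' - C.X₂.val.presheaf.map (sR a B).op y' := by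
      rw [← pre_sub, ht', hξ]
    exact aux_sub _ _ _ _ h5
  obtain ⟨y, hy⟩ := glue_single Scheme.fppfPrecoverage C.X₂ (πB a B) (sL a B) (sR a B)
    (isPullback_s a B) hmem _ hy''1
  refine ⟨y, ?_⟩
  apply sep_single Scheme.fppfPrecoverage C.X₃ (πB a B) hmem
  rw [← pre_nat, hy, pre_sub, gf_zero, sub_zero, hy']

end Descend

/-! ### finite products of rings: glueing on the disjoint union -/

section Family
variable {S : Scheme.{u}} {R : CommRingCat.{u}} (a : Spec R ⟶ S)
  {t : Type u} [Finite t] (Cl : t → Type u) [∀ l, CommRing (Cl l)] [∀ l, Algebra R (Cl l)]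

/-- the projection from the product algebra -/
abbrev prA (l : t) : Adeq.algOf R (∀ l, Cl l) ⟶ Adeq.algOf R (Cl l) :=
  CommAlgCat.ofHom (Pi.evalAlgHom R Cl l)

/-- `Spec (C_l) → Spec (∏ C_l)` over `S` -/
abbrev θ (l : t) : V1 a (Cl l) ⟶ V1 a (∀ l, Cl l) := (Adeq.specOver a).map (prA Cl l).op

theorem θ_left (l : t) :
    (θ a Cl l).left = Spec.map (CommRingCat.ofHom (Pi.evalRingHom Cl l)) := rfl

theorem θ_π (l : t) : θ a Cl l ≫ πB a (∀ l, Cl l) = πB a (Cl l) := by
  apply Over.OverMorphism.ext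
  have h : CommRingCat.ofHom (algebraMap R (∀ l, Cl l)) ≫ rh (R := R) (prA Cl l) =
      CommRingCat.ofHom (algebraMap R (Cl l)) := by
    ext r
    rfl
  exact (Spec.map_comp _ _).symm.trans (congrArg Spec.map h)

theorem pi_mem : Sieve.ofArrows (fun l => V1 a (Cl l)) (fun l => θ a Cl l) ∈
    (QuotSh.J Scheme.fppfPrecoverage S) (V1 a (∀ l, Cl l)) := by
  refine mem_of_cover Scheme.fppfPrecoverage _ _ ?_
  refine zar_mem_fppf _ _ (fun l => ?_) (fun x => ?_)
  · show IsOpenImmersion (Spec.map (CommRingCat.ofHom (Pi.evalRingHom Cl l)))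
    infer_instance
  · obtain ⟨l, q, hq⟩ := PrimeSpectrum.exists_comap_evalRingHom_eq (R := Cl) x
    exact ⟨l, q, hq⟩

/-- sections over the members of a finite disjoint union glue -/
theorem glue_pi (M : BigSite.Mod Scheme.fppfPrecoverage S)
    (y : ∀ l, M.val.presheaf.obj (op (V1 a (Cl l)))) :
    ∃ x : M.val.presheaf.obj (op (V1 a (∀ l, Cl l))),
      ∀ l, M.val.presheaf.map (θ a Cl l).op x = y l := by
  classical
  refine glue_of_mem Scheme.fppfPrecoverage M _ _ (pi_mem a Cl) y ?_
  intro i j Z gi gj comm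
  have commL : gi.left ≫ (θ a Cl i).left = gj.left ≫ (θ a Cl j).left :=
    congrArg CommaMorphism.left comm
  by_cases hij : i = j
  · subst hij
    haveI : IsOpenImmersion (θ a Cl i).left := by
      show IsOpenImmersion (Spec.map (CommRingCat.ofHom (Pi.evalRingHom Cl i)))
      infer_instance
    have hgg : gi = gj := Over.OverMorphism.ext ((cancel_mono (θ a Cl i).left).mp commL)
    rw [hgg]
  · have hemp : IsEmpty Z.left := by
      refine ⟨fun x => ?_⟩
      have hx := congrArg (fun k => k x) commL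
      simp only [Scheme.Hom.comp_apply] at hx
      let qi : PrimeSpectrum (Cl i) := gi.left x
      let qj : PrimeSpectrum (Cl j) := gj.left x
      have hx' : PrimeSpectrum.comap (Pi.evalRingHom Cl i) qi =
          PrimeSpectrum.comap (Pi.evalRingHom Cl j) qj := hx
      have h3 : (Pi.single i (1 : Cl i) : ∀ l, Cl l) ∈
          (PrimeSpectrum.comap (Pi.evalRingHom Cl j) qj).asIdeal := by
        show (Pi.single i (1 : Cl i) : ∀ l, Cl l) j ∈ qj.asIdeal
        rw [Pi.single_eq_of_ne (Ne.symm hij)]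
        exact qj.asIdeal.zero_mem
      rw [← hx'] at h3
      have h4 : (Pi.single i (1 : Cl i) : ∀ l, Cl l) i ∈ qi.asIdeal := h3
      rw [Pi.single_eq_same] at h4
      exact qi.isPrime.ne_top ((Ideal.eq_top_iff_one _).mpr h4)
    haveI := hemp
    exact subsingleton_of_isEmpty M Z _ _

variable {a Cl} in
/-- a section of `M₃` over `Spec R` which lifts to `M₂` over the members of a finite affine fppf
covering lifts over `Spec R` -/
theorem lift_of_family (C : ShortComplex (BigSite.Mod Scheme.fppfPrecoverage S))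
    (hC : C.ShortExact)
    (h₁ : Adeq.adequate R ((Adeq.toMVF Scheme.fppfPrecoverage a).obj C.X₁))
    [Module.FaithfullyFlat R (∀ l, Cl l)]
    (hcov : Presieve.ofArrows (fun l => (V1 a (Cl l)).left) (fun l => (πB a (Cl l)).left) ∈
      Scheme.fppfPrecoverage.coverings (Over.mk a).left)
    (z : C.X₃.val.presheaf.obj (op (Over.mk a)))
    (y : ∀ l, C.X₂.val.presheaf.obj (op (V1 a (Cl l))))
    (hy : ∀ l, (pre S C.g).app (op (V1 a (Cl l))) (y l) =
      C.X₃.val.presheaf.map (πB a (Cl l)).op z) :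
    ∃ y : C.X₂.val.presheaf.obj (op (Over.mk a)), (pre S C.g).app (op (Over.mk a)) y = z := by
  have hfam : Sieve.ofArrows (fun l => V1 a (Cl l)) (fun l => πB a (Cl l)) ∈
      (QuotSh.J Scheme.fppfPrecoverage S) (Over.mk a) :=
    mem_of_cover Scheme.fppfPrecoverage _ _ hcov
  have hmemπ : Sieve.ofArrows (fun _ : PUnit.{1} => V1 a (∀ l, Cl l))
      (fun _ => πB a (∀ l, Cl l)) ∈ (QuotSh.J Scheme.fppfPrecoverage S) (Over.mk a) := by
    refine (QuotSh.J Scheme.fppfPrecoverage S).superset_covering ?_ hfam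
    refine (Sieve.generate_le_iff _ _).mpr ?_
    rintro Y f ⟨l⟩
    have h0 : (Sieve.ofArrows (fun _ : PUnit.{1} => V1 a (∀ l, Cl l))
        (fun _ => πB a (∀ l, Cl l))).arrows (πB a (∀ l, Cl l)) :=
      Sieve.ofArrows_mk (fun _ : PUnit.{1} => V1 a (∀ l, Cl l))
        (fun _ => πB a (∀ l, Cl l)) PUnit.unit
    have h2 : (Sieve.ofArrows (fun _ : PUnit.{1} => V1 a (∀ l, Cl l))
        (fun _ => πB a (∀ l, Cl l))).arrows (θ a Cl l ≫ πB a (∀ l, Cl l)) :=
      Sieve.downward_closed (Sieve.ofArrows (fun _ : PUnit.{1} => V1 a (∀ l, Cl l))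
        (fun _ => πB a (∀ l, Cl l))) h0 (θ a Cl l)
    rw [θ_π a Cl l] at h2
    exact h2
  obtain ⟨y', hy'⟩ := glue_pi a Cl C.X₂ y
  have hgy' : (pre S C.g).app (op (V1 a (∀ l, Cl l))) y' =
      C.X₃.val.presheaf.map (πB a (∀ l, Cl l)).op z := by
    refine sep_of_mem Scheme.fppfPrecoverage C.X₃ _ _ (pi_mem a Cl) _ _ (fun l => ?_)
    rw [← pre_nat, hy' l, hy l, pm_comp, θ_π]
  exact lift_descend C hC h₁ hmemπ z y' hgy'

end Family

/-! ### the main theorem -/

section Main
variable {S : Scheme.{u}} (C : ShortComplex (BigSite.Mod Scheme.fppfPrecoverage S))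
  (hC : C.ShortExact) (h₁ : Adeq.adequateMod Scheme.fppfPrecoverage S C.X₁)

include hC h₁ in
/-- sections of `M₃` over an affine object lift to `M₂` -/
theorem lift_affine (R : CommRingCat.{u}) (a : Spec R ⟶ S)
    (z : C.X₃.val.presheaf.obj (op (Over.mk a))) :
    ∃ y : C.X₂.val.presheaf.obj (op (Over.mk a)), (pre S C.g).app (op (Over.mk a)) y = z := by
  classical
  haveI : Epi C.g := hC.epi_g
  obtain ⟨R', hR', hlift⟩ := locally_lift_sieve S C.g (Over.mk a) z
  have hR'' : Sieve.overEquiv (Over.mk a) R' ∈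
      Scheme.fppfPrecoverage.toGrothendieck (Spec R) := hR'
  obtain ⟨t, Cl, φ, hcov, hmemφ⟩ := exists_affine_refinement_sieve _ hR''
  letI : ∀ l : t, Algebra R (Cl l) := fun l => (φ l).hom.toAlgebra
  haveI : Module.FaithfullyFlat R (∀ l : t, Cl l) := ff_of_cover Cl φ hcov
  have h1 : ∀ l : t, ∃ y : C.X₂.val.presheaf.obj (op (Over.mk (Spec.map (φ l) ≫ a))),
      (pre S C.g).app (op (Over.mk (Spec.map (φ l) ≫ a))) y =
        C.X₃.val.presheaf.map (Over.homMk (Spec.map (φ l)) rfl :
          Over.mk (Spec.map (φ l) ≫ a) ⟶ Over.mk a).op z := fun l =>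
    hlift _ ((Sieve.overEquiv_iff _ _).mp (hmemφ l))
  choose y hy using h1
  exact lift_of_family (a := a) (Cl := fun l : t => (Cl l : Type u)) C hC
    (main8755 S C.X₁ h₁ R a) hcov z y hy

end Main

theorem iso_kernel {A : Type u} [CommRing A] {X Y Z : Adeq.MVF A} (c : X ⟶ Y) (r : Y ⟶ Z)
    (w : c ≫ r = 0)
    (hinj : ∀ B : Adeq.Alg A, Function.Injective (c.app (Adeq.pt B)))
    (hex : ∀ (B : Adeq.Alg A) (y : Y.obj (Adeq.pt B)), r.app (Adeq.pt B) y = 0 →
      ∃ x : X.obj (Adeq.pt B), c.app (Adeq.pt B) x = y) : IsIso (kernel.lift r c w) := by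
  have hk : kernel.lift r c w ≫ kernel.ι r = c := kernel.lift_ι _ _ _
  have hk' : ∀ (B : Adeq.Alg A) (a : X.obj (Adeq.pt B)),
      (kernel.ι r).app (Adeq.pt B) ((kernel.lift r c w).app (Adeq.pt B) a) =
        c.app (Adeq.pt B) a := by
    intro B a
    have h := congrArg (fun m => (m.app (Adeq.pt B)).hom a) hk
    exact h
  apply isIso_of_bijective
  intro B
  constructor
  · intro a b hab
    apply hinj B
    rw [← hk' B a, ← hk' B b, hab]
  · intro y
    obtain ⟨x, hx⟩ := hex B ((kernel.ι r).app (Adeq.pt B) y) (kernel_condition_apply _ B y)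
    refine ⟨x, ?_⟩
    apply kernel_ι_inj _ B
    rw [hk' B x]
    exact hx

/-- a pointwise short exact sequence of module-valued functors with adequate ends has adequate
middle -/
theorem adequate_of_pointwise {A : Type u} [CommRing A] {X Y Z : Adeq.MVF A} (c : X ⟶ Y)
    (r : Y ⟶ Z) (w : c ≫ r = 0)
    (hinj : ∀ B : Adeq.Alg A, Function.Injective (c.app (Adeq.pt B)))
    (hex : ∀ (B : Adeq.Alg A) (y : Y.obj (Adeq.pt B)), r.app (Adeq.pt B) y = 0 →
      ∃ x : X.obj (Adeq.pt B), c.app (Adeq.pt B) x = y)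
    (hsurj : ∀ B : Adeq.Alg A, Function.Surjective (r.app (Adeq.pt B)))
    (hX : Adeq.adequate A X) (hZ : Adeq.adequate A Z) : Adeq.adequate A Y := by
  haveI : Epi r := PresheafOfModules.epi_of_surjective (fun X => hsurj X.unop.unop)
  haveI : IsIso (kernel.lift r c w) := iso_kernel c r w hinj hex
  have hK : Adeq.adequate A (kernel r) :=
    (Adeq.adequate A).prop_of_iso (asIso (kernel.lift r c w)) hX
  exact main8748 A (ShortComplex.mk (kernel.ι r) r (kernel.condition r))
    (ShortComplex.ShortExact.mk' (ShortComplex.exact_of_f_is_kernel _ (kernelIsKernel r))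
      inferInstance inferInstance) hK hZ

theorem adequate_ext_affine {S : Scheme.{u}}
    (C : ShortComplex (BigSite.Mod Scheme.fppfPrecoverage S)) (hC : C.ShortExact)
    (h₁ : Adeq.adequateMod Scheme.fppfPrecoverage S C.X₁)
    (h₃ : Adeq.adequateMod Scheme.fppfPrecoverage S C.X₃) (R : CommRingCat.{u})
    (a : Spec R ⟶ S) :
    Adeq.adequate R ((Adeq.toMVF Scheme.fppfPrecoverage a).obj C.X₂) := by
  refine adequate_of_pointwise ((Adeq.toMVF Scheme.fppfPrecoverage a).map C.f)
    ((Adeq.toMVF Scheme.fppfPrecoverage a).map C.g) ?_ ?_ ?_ ?_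
    (main8755 S C.X₁ h₁ R a) (main8755 S C.X₃ h₃ R a)
  · rw [← Functor.map_comp, C.zero, Functor.map_zero]
  · intro B
    exact f_injective C hC ((Adeq.specOver a).obj (op B))
  · intro B y hy
    exact exact_sections C hC ((Adeq.specOver a).obj (op B)) y hy
  · intro B z
    exact lift_affine C hC h₁ (CommRingCat.of B)
      (Spec.map (CommRingCat.ofHom (algebraMap R B)) ≫ a) z

/-- **S8763** -/
theorem main8763 (S : Scheme.{u}) (C : ShortComplex (BigSite.Mod Scheme.fppfPrecoverage S))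
    (hC : C.ShortExact) (h₁ : Adeq.adequateMod Scheme.fppfPrecoverage S C.X₁)
    (h₃ : Adeq.adequateMod Scheme.fppfPrecoverage S C.X₃) :
    Adeq.adequateMod Scheme.fppfPrecoverage S C.X₂ := by
  refine ⟨S.affineOpenCover.I₀, S.affineOpenCover.X, S.affineOpenCover.f, ?_, fun i => ?_⟩
  · refine (Scheme.ofArrows_mem_precoverage_iff
      (P := @Flat ⊓ @LocallyOfFinitePresentation)).mpr
      ⟨fun x => ⟨S.affineOpenCover.idx x, S.affineOpenCover.covers x⟩,
        fun i => ⟨inferInstance, inferInstance⟩⟩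
  · exact adequate_ext_affine C hC h₁ h₃ _ (S.affineOpenCover.f i)

end

end Groth.Agent.Lib.Helper29.AdeqExtSheaf
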