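import Mathlib
import Groth.Prelude.Def_Adeq
import Groth.Agent.Lib.Helper29.Adeq0
import Groth.Agent.Lib.Helper29.AdeqAb
import Groth.Agent.Lib.Helper29.AdeqSplit0

/-!
# Flat base change for adequate functors (S8740)
-/

set_option autoImplicit false
set_option maxHeartbeats 800000
universe u v w
open CategoryTheory Limits Opposite TensorProduct ChangeOfRings

namespace Groth.Agent.Lib.Helper29.AdeqFlat
open Groth.Agent.Lib.Helper29.Adeq0 Groth.Agent.Lib.Helper29.AdeqAb
  Groth.Agent.Lib.Helper29.AdeqSplit0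

noncomputable section

section Abstract
variable {R S : Type u} [CommRing R] [CommRing S] [Algebra R S] [Module.Flat R S]
variable {X₁ X₂ X₃ : Type v} [AddCommGroup X₁] [Module R X₁] [AddCommGroup X₂] [Module R X₂]
  [AddCommGroup X₃] [Module R X₃]
variable {Y₁ Y₂ Y₃ : Type w} [AddCommGroup Y₁] [AddCommGroup Y₂] [AddCommGroup Y₃]

theorem flat_five (i : X₁ →ₗ[R] X₂) (p : X₂ →ₗ[R] X₃) (hi : Function.Injective i)
    (hex : Function.Exact i p)
    (i' : Y₁ → Y₂) (p' : Y₂ → Y₃) (hi' : Function.Injective i') (hpi' : ∀ y, p' (i' y) = 0)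
    (a : S ⊗[R] X₁ → Y₁) (b : S ⊗[R] X₂ → Y₂) (c : S ⊗[R] X₃ → Y₃)
    (h1 : ∀ z, i' (a z) = b (i.lTensor S z)) (h2 : ∀ w, p' (b w) = c (p.lTensor S w))
    (hb : Function.Bijective b) (hc : ∀ w, c w = 0 → w = 0) : Function.Bijective a := by
  have hinj : Function.Injective (i.lTensor S) :=
    Module.Flat.lTensor_preserves_injective_linearMap i hi
  have hexS : Function.Exact (i.lTensor S) (p.lTensor S) := Module.Flat.lTensor_exact S hex
  constructor
  · intro z z' hzz
    apply hinj
    apply hb.1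
    rw [← h1, ← h1, hzz]
  · intro y
    obtain ⟨w, hw⟩ := hb.2 (i' y)
    have hw0 : p.lTensor S w = 0 := by
      apply hc
      rw [← h2, hw, hpi']
    obtain ⟨z, hz⟩ := (hexS w).mp hw0
    refine ⟨z, hi' ?_⟩
    rw [h1, hz, hw]

theorem adj_symm_tmul {R S : Type u} [CommRing R] [CommRing S] (g : R →+* S)
    {X : ModuleCat.{u+1} R} {Y : ModuleCat.{u+1} S}
    (φ : X ⟶ (ModuleCat.restrictScalars g).obj Y) :
    letI : Algebra R S := g.toAlgebra
    ∀ (s : S) (x : X),
      (((ModuleCat.extendRestrictScalarsAdj.{u+1,u,u} g).homEquiv X Y).symm φ).hom (s ⊗ₜ[R] x) =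
        s • (φ.hom x : Y) := by
  letI : Algebra R S := g.toAlgebra
  intro s x
  have h1 : (ModuleCat.extendRestrictScalarsAdj.{u+1,u,u} g).homEquiv X Y
      (((ModuleCat.extendRestrictScalarsAdj.{u+1,u,u} g).homEquiv X Y).symm φ) = φ :=
    Equiv.apply_symm_apply _ _
  let l : S ⊗[R] X →ₗ[S] Y :=
    (((ModuleCat.extendRestrictScalarsAdj.{u+1,u,u} g).homEquiv X Y).symm φ).hom
  have h2 : l ((1 : S) ⊗ₜ[R] x) = φ.hom x := congrArg (fun k => k.hom x) h1
  have h3 : (s ⊗ₜ[R] x : S ⊗[R] X) = s • ((1 : S) ⊗ₜ[R] x) := by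
    rw [TensorProduct.smul_tmul', smul_eq_mul, mul_one]
  show l (s ⊗ₜ[R] x) = s • (φ.hom x : Y)
  rw [h3, map_smul, h2]
  rfl

end Abstract

section Apply
variable {A : Type u} [CommRing A]

/-- `F.bc f` as an additive map on `B' ⊗[B] F(B)` -/
def hat (F : Adeq.MVF A) {B B' : Adeq.Alg A} (f : B ⟶ B') :
    letI : Algebra B B' := f.hom.toRingHom.toAlgebra
    ((B' : Type u) ⊗[(B : Type u)] F.obj (Adeq.pt B)) →+ F.obj (Adeq.pt B') :=
  letI : Algebra B B' := f.hom.toRingHom.toAlgebra
  { toFun := fun z => (F.bc f).hom z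
    map_zero' := map_zero (F.bc f).hom
    map_add' := fun z z' => map_add (F.bc f).hom z z' }

theorem hat_tmul (F : Adeq.MVF A) {B B' : Adeq.Alg A} (f : B ⟶ B') (s : B')
    (x : F.obj (Adeq.pt B)) :
    letI : Algebra B B' := f.hom.toRingHom.toAlgebra
    hat F f (s ⊗ₜ[(B : Type u)] x) = s • tr F f x :=
  adj_symm_tmul f.hom.toRingHom (F.map (Adeq.ptHom f)) s x

theorem bc_nat {F G : Adeq.MVF A} (t : F ⟶ G) {B B' : Adeq.Alg A} (f : B ⟶ B') :
    letI : Algebra B B' := f.hom.toRingHom.toAlgebra
    ∀ z : (B' : Type u) ⊗[(B : Type u)] F.obj (Adeq.pt B),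
      t.app (Adeq.pt B') (hat F f z) =
        hat G f (((t.app (Adeq.pt B)).hom :
          F.obj (Adeq.pt B) →ₗ[(B : Type u)] G.obj (Adeq.pt B)).lTensor B' z) := by
  letI : Algebra B B' := f.hom.toRingHom.toAlgebra
  intro z
  induction z using TensorProduct.induction_on with
  | zero => simp only [map_zero]
  | tmul s x =>
    rw [LinearMap.lTensor_tmul]
    refine (congrArg (fun y => t.app (Adeq.pt B') y) (hat_tmul F f s x)).trans ?_
    refine Eq.trans ?_ (hat_tmul G f s _).symm
    exact (app_smul t B' s (tr F f x)).trans (congrArg (fun y => s • y) (tr_nat t f x))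
  | add z z' hz hz' => simp only [map_add, hz, hz']

theorem bc_underline_eq (M : ModuleCat.{u+1} A) {B B' : Adeq.Alg A} (f : B ⟶ B') :
    letI : Algebra B B' := f.hom.toRingHom.toAlgebra
    haveI : IsScalarTower A B B' :=
      IsScalarTower.of_algebraMap_eq (fun a => (f.hom.commutes a).symm)
    ∀ z : (B' : Type u) ⊗[(B : Type u)] ((B : Type u) ⊗[A] M),
      hat ((Adeq.underline A).obj M) f z =
        TensorProduct.AlgebraTensorModule.cancelBaseChange A B B' B' M z := by
  letI : Algebra B B' := f.hom.toRingHom.toAlgebra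
  haveI : IsScalarTower A B B' :=
    IsScalarTower.of_algebraMap_eq (fun a => (f.hom.commutes a).symm)
  have key : ∀ (s : B') (y : (B : Type u) ⊗[A] M),
      hat ((Adeq.underline A).obj M) f (s ⊗ₜ[(B : Type u)] y) =
        TensorProduct.AlgebraTensorModule.cancelBaseChange A B B' B' M (s ⊗ₜ[(B : Type u)] y) := by
    intro s y
    induction y using TensorProduct.induction_on with
    | zero =>
      rw [TensorProduct.tmul_zero]
      exact (map_zero (hat ((Adeq.underline A).obj M) f)).trans
        (map_zero (TensorProduct.AlgebraTensorModule.cancelBaseChange A B B' B' M)).symm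
    | tmul b m =>
      refine (hat_tmul ((Adeq.underline A).obj M) f s (b ⊗ₜ[A] m)).trans ?_
      show s • ((f.hom b) ⊗ₜ[A] m : (B' : Type u) ⊗[A] M) = (b • s) ⊗ₜ[A] m
      rw [TensorProduct.smul_tmul', smul_eq_mul, Algebra.smul_def, mul_comm]
      rfl
    | add y y' hy hy' =>
      have e : s ⊗ₜ[(B : Type u)] (y + y') = s ⊗ₜ[(B : Type u)] y + s ⊗ₜ[(B : Type u)] y' :=
        TensorProduct.tmul_add s y y'
      exact (congrArg (fun z => hat ((Adeq.underline A).obj M) f z) e).trans
        ((map_add (hat ((Adeq.underline A).obj M) f) _ _).trans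
        ((congrArg₂ (· + ·) hy hy').trans
          ((map_add (TensorProduct.AlgebraTensorModule.cancelBaseChange A B B' B' M) _ _).symm.trans
            (congrArg (fun z => TensorProduct.AlgebraTensorModule.cancelBaseChange A B B' B' M z)
              e).symm)))
  intro z
  induction z using TensorProduct.induction_on with
  | zero =>
    exact (map_zero (hat ((Adeq.underline A).obj M) f)).trans
      (map_zero (TensorProduct.AlgebraTensorModule.cancelBaseChange A B B' B' M)).symm
  | tmul s y => exact key s y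
  | add z z' hz hz' =>
    exact (map_add (hat ((Adeq.underline A).obj M) f) _ _).trans
      ((congrArg₂ (· + ·) hz hz').trans
        (map_add (TensorProduct.AlgebraTensorModule.cancelBaseChange A B B' B' M) _ _).symm)

/-- **S8740** -/
theorem main8740 (A : Type u) [CommRing A] (F : Adeq.MVF A) (hF : Adeq.adequate A F)
    {B B' : Adeq.Alg A} (f : B ⟶ B') (hf : f.hom.toRingHom.Flat) : IsIso (F.bc f) := by
  obtain ⟨M, N, α, ι, w, hinj, hex, -⟩ := adequate_unpack' hF
  letI : Algebra B B' := f.hom.toRingHom.toAlgebra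
  haveI : IsScalarTower A B B' :=
    IsScalarTower.of_algebraMap_eq (fun a => (f.hom.commutes a).symm)
  haveI : Module.Flat B B' := hf
  have hw : ∀ (C : Adeq.Alg A) (x : F.obj (Adeq.pt C)),
      ((Adeq.underline A).map α).app (Adeq.pt C) (ι.app (Adeq.pt C) x) = 0 := fun C x =>
    congrArg (fun k => (k.app (Adeq.pt C)).hom x) w
  let i : F.obj (Adeq.pt B) →ₗ[(B : Type u)] ((Adeq.underline A).obj M).obj (Adeq.pt B) :=
    (ι.app (Adeq.pt B)).hom
  let p : ((Adeq.underline A).obj M).obj (Adeq.pt B) →ₗ[(B : Type u)]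
      ((Adeq.underline A).obj N).obj (Adeq.pt B) :=
    (((Adeq.underline A).map α).app (Adeq.pt B)).hom
  have hexact : Function.Exact i p := by
    intro y
    constructor
    · intro hy
      obtain ⟨x, hx⟩ := hex B y hy
      exact ⟨x, hx⟩
    · rintro ⟨x, rfl⟩
      exact hw B x
  have hb : Function.Bijective (hat ((Adeq.underline A).obj M) f) := by
    have e : ⇑(hat ((Adeq.underline A).obj M) f) =
        fun z => TensorProduct.AlgebraTensorModule.cancelBaseChange A B B' B' M z :=
      funext (bc_underline_eq M f)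
    rw [e]
    exact (TensorProduct.AlgebraTensorModule.cancelBaseChange A B B' B' M).bijective
  have hc : ∀ z : (B' : Type u) ⊗[(B : Type u)] ((B : Type u) ⊗[A] N),
      hat ((Adeq.underline A).obj N) f z = 0 → z = 0 := by
    intro z hz
    have h := (bc_underline_eq N f z).symm.trans hz
    exact (LinearEquiv.map_eq_zero_iff _).mp h
  rw [ConcreteCategory.isIso_iff_bijective]
  exact flat_five (R := (B : Type u)) (S := (B' : Type u)) i p (hinj B) hexact
    (fun y => ι.app (Adeq.pt B') y) (fun y => ((Adeq.underline A).map α).app (Adeq.pt B') y)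
    (hinj B') (hw B') (hat F f) (hat ((Adeq.underline A).obj M) f)
    (hat ((Adeq.underline A).obj N) f) (bc_nat ι f)
    (bc_nat ((Adeq.underline A).map α) f) hb hc

end Apply

end

end Groth.Agent.Lib.Helper29.AdeqFlat
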