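import Mathlib
import Groth.Prelude.Def_Adeq
import Groth.Prelude.Def_Adeq2
import Groth.Agent.Lib.Helper29.Adeq0
import Groth.Agent.Lib.Helper29.AdeqSplit0
import Groth.Agent.Lib.Helper29.AdeqSiteIso
import Groth.Agent.Lib.Helper29.AdeqSiteMain
import Groth.Agent.Lib.Helper29.AdeqCech
import Groth.Agent.Lib.Helper29.SigmaOver

/-!
# Adequate modules are sheaves for the fpqc topology (S8786, S8787)
-/

set_option autoImplicit false
set_option maxHeartbeats 1600000
universe u
open CategoryTheory Limits Opposite TensorProduct AlgebraicGeometry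

namespace Groth.Agent.Lib.Helper29.AdeqFpqc
open Groth.Agent.Lib.Helper29.Adeq0 Groth.Agent.Lib.Helper29.AdeqSplit0
  Groth.Agent.Lib.Helper29.AdeqSiteIso Groth.Agent.Lib.Helper29.AdeqSiteMain
  Groth.Agent.Lib.Helper29.AdeqCech Groth.Agent.Lib.Helper29.SigmaOver

noncomputable section

variable (K : Precoverage Scheme.{u}) [BigSite.OSh K] {S : Scheme.{u}} (M : BigSite.Mod K S)

/-- underlying presheaf of types -/
abbrev F₀ : (Over S)ᵒᵖ ⥤ Type (u+1) := M.val.presheaf ⋙ forget AddCommGrpCat.{u+1}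

theorem alg_hom_unique {R : CommRingCat.{u}} {X : Adeq.Alg R} (f f' : Adeq.algOf R R ⟶ X) :
    f = f' :=
  CommAlgCat.hom_ext (AlgHom.ext fun r => (f.hom.commutes r).trans (f'.hom.commutes r).symm)

/-- the sheaf condition for a faithfully flat map of affine schemes over `S` -/
theorem isSheafFor_singleton_over {R B : CommRingCat.{u}} (φ : R ⟶ B) (hfl : Flat (Spec.map φ))
    (hsurj : Surjective (Spec.map φ)) (g : Spec R ⟶ S)
    (hadq : Adeq.adequate R ((Adeq.toMVF K g).obj M)) :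
    Presieve.IsSheafFor (F₀ K M)
      (Presieve.singleton
        (Over.homMk (Spec.map φ) rfl : Over.mk (Spec.map φ ≫ g) ⟶ Over.mk g)) := by
  letI : Algebra R B := φ.hom.toAlgebra
  haveI : Module.FaithfullyFlat R B := (flat_and_surjective_SpecMap_iff φ).mp ⟨hfl, hsurj⟩
  obtain ⟨hinj, hglue⟩ := cech_two (A := R) B _ hadq
  rw [Presieve.isSheafFor_singleton]
  intro x hx
  let e₀ : Adeq.algOf R R ⟶ Adeq.algOf R B := CommAlgCat.ofHom (Algebra.ofId R B)
  let iL : Adeq.algOf R B ⟶ Adeq.algOf R (B ⊗[R] B) :=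
    CommAlgCat.ofHom (Algebra.TensorProduct.includeLeft : B →ₐ[R] B ⊗[R] B)
  let iR : Adeq.algOf R B ⟶ Adeq.algOf R (B ⊗[R] B) :=
    CommAlgCat.ofHom (Algebra.TensorProduct.includeRight : B →ₐ[R] B ⊗[R] B)
  let π : Over.mk (Spec.map φ ≫ g) ⟶ Over.mk g := Over.homMk (Spec.map φ) rfl
  let j : Over.mk g ⟶ (Adeq.specOver g).obj (op (Adeq.algOf R R)) :=
    Over.homMk (𝟙 (Spec R)) (by
      show 𝟙 (Spec R) ≫ Spec.map (CommRingCat.ofHom (algebraMap R R)) ≫ g = g
      have h1 : Spec.map (CommRingCat.ofHom (algebraMap R R)) = 𝟙 (Spec R) := Spec.map_id R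
      exact (Category.id_comp _).trans ((congrArg (fun k => k ≫ g) h1).trans (Category.id_comp g)))
  let jinv : (Adeq.specOver g).obj (op (Adeq.algOf R R)) ⟶ Over.mk g :=
    Over.homMk (𝟙 (Spec R)) (by
      show 𝟙 (Spec R) ≫ g = Spec.map (CommRingCat.ofHom (algebraMap R R)) ≫ g
      have h1 : Spec.map (CommRingCat.ofHom (algebraMap R R)) = 𝟙 (Spec R) := Spec.map_id R
      exact (congrArg (fun k => k ≫ g) h1).symm)
  let pe : Over.mk (Spec.map φ ≫ g) ⟶ (Adeq.specOver g).obj (op (Adeq.algOf R R)) :=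
    (Adeq.specOver g).map e₀.op
  let pL : (Adeq.specOver g).obj (op (Adeq.algOf R (B ⊗[R] B))) ⟶ Over.mk (Spec.map φ ≫ g) :=
    (Adeq.specOver g).map iL.op
  let pR : (Adeq.specOver g).obj (op (Adeq.algOf R (B ⊗[R] B))) ⟶ Over.mk (Spec.map φ ≫ g) :=
    (Adeq.specOver g).map iR.op
  have hpe_left : pe.left = Spec.map φ := rfl
  have E2 : pe ≫ jinv = π := Over.OverMorphism.ext (by
    show pe.left ≫ 𝟙 _ = Spec.map φ
    rw [Category.comp_id, hpe_left])
  have E1 : π ≫ j = pe := Over.OverMorphism.ext (by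
    show Spec.map φ ≫ 𝟙 _ = pe.left
    rw [Category.comp_id, hpe_left])
  have E3 : j ≫ jinv = 𝟙 _ := Over.OverMorphism.ext (by
    show 𝟙 (Spec R) ≫ 𝟙 (Spec R) = 𝟙 _
    exact Category.id_comp _)
  have E4 : pL ≫ π = pR ≫ π := by
    have h1 : pL ≫ pe = pR ≫ pe := by
      show (Adeq.specOver g).map iL.op ≫ (Adeq.specOver g).map e₀.op =
        (Adeq.specOver g).map iR.op ≫ (Adeq.specOver g).map e₀.op
      rw [← Functor.map_comp, ← Functor.map_comp, ← op_comp, ← op_comp,
        alg_hom_unique (e₀ ≫ iL) (e₀ ≫ iR)]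
    rw [← E2, ← Category.assoc, ← Category.assoc, h1]
  -- the glueing condition
  have hcoc : tr ((Adeq.toMVF K g).obj M) iL x = tr ((Adeq.toMVF K g).obj M) iR x :=
    hx pL pR E4
  obtain ⟨t', ht'⟩ := hglue x hcoc
  have ht'' : Fm (F₀ K M) pe t' = x := ht'
  refine ⟨Fm (F₀ K M) j t', ?_, ?_⟩
  · show Fm (F₀ K M) π (Fm (F₀ K M) j t') = x
    rw [Fm_comp, E1]
    exact ht''
  · intro t₂ ht₂
    have ht₂' : Fm (F₀ K M) π t₂ = x := ht₂
    have h3 : Fm (F₀ K M) jinv t₂ = t' := by
      apply hinj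
      show Fm (F₀ K M) pe (Fm (F₀ K M) jinv t₂) = Fm (F₀ K M) pe t'
      rw [Fm_comp, E2, ht₂', ht'']
    rw [← h3, Fm_comp, E3]
    exact (Fm_id (F₀ K M) (𝟙 _) rfl t₂).symm

/-- an adequate module for a topology between Zariski and fpqc is an fpqc sheaf -/
theorem isSheaf_fpqc_of_adequate (hzar : Scheme.zariskiPrecoverage ≤ K)
    (hadq : ∀ (R : CommRingCat.{u}) (g : Spec R ⟶ S),
      Adeq.adequate R ((Adeq.toMVF K g).obj M)) :
    Presheaf.IsSheaf (QuotSh.J Scheme.fpqcPrecoverage S) M.val.presheaf := by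
  rw [Presheaf.isSheaf_iff_isSheaf_forget _ _ (forget AddCommGrpCat.{u+1}),
    isSheaf_iff_isSheaf_of_type]
  have hM : Presieve.IsSheaf (QuotSh.J K S) (F₀ K M) := by
    have h0 := M.isSheaf
    rw [Presheaf.isSheaf_iff_isSheaf_forget _ _ (forget AddCommGrpCat.{u+1}),
      isSheaf_iff_isSheaf_of_type] at h0
    exact h0
  have hZ : Presieve.IsSheaf Scheme.zariskiTopology (sig (F₀ K M)) := by
    intro T R hR
    refine isSheafFor_sig_of_over _ R ?_ (fun g => ?_)
    · exact GrothendieckTopology.Subcanonical.isSheaf_of_isRepresentable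
        (J := Scheme.zariskiTopology) (yoneda.obj S) R hR
    · apply hM
      apply GrothendieckTopology.overEquiv_symm_mem_over
      exact Precoverage.toGrothendieck_mono hzar _ hR
  have hFF : ∀ {R B : CommRingCat.{u}} (φ : R ⟶ B), Flat (Spec.map φ) →
      Surjective (Spec.map φ) →
      Presieve.IsSheafFor (sig (F₀ K M)) (Presieve.singleton (Spec.map φ)) := by
    intro R B φ hfl hsurj
    rw [Presieve.isSheafFor_iff_generate]
    refine isSheafFor_sig_of_over _ _ ?_ (fun g => ?_)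
    · rw [← Presieve.isSheafFor_iff_generate]
      have := hfl
      have := hsurj
      exact (GrothendieckTopology.Subcanonical.isSheaf_of_isRepresentable
        (J := Scheme.fpqcTopology) (yoneda.obj S)).isSheafFor _
        (Precoverage.generate_mem_toGrothendieck
          (Scheme.Hom.singleton_mem_fpqcPrecoverage (Spec.map φ)))
    · rw [overEquiv_symm_generate_singleton, ← Presieve.isSheafFor_iff_generate]
      exact isSheafFor_singleton_over K M φ hfl hsurj g (hadq R g)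
  have hQ : Presieve.IsSheaf (Scheme.propQCTopology @Flat) (sig (F₀ K M)) :=
    (isSheaf_type_propQCTopology_iff _).mpr ⟨hZ, fun φ h1 h2 => hFF φ h1 h2⟩
  intro Y R' hR'
  have hsep : Presieve.IsSeparatedFor (yoneda.obj S) (Sieve.overEquiv Y R').arrows :=
    ((GrothendieckTopology.Subcanonical.isSheaf_of_isRepresentable
      (J := Scheme.fpqcTopology) (yoneda.obj S)) _ hR').isSeparatedFor
  have h1 := isSheafFor_over_of_sig (F₀ K M) (Sieve.overEquiv Y R') Y.hom hsep (hQ _ hR')
  have h2 : (Sieve.overEquiv Y).symm (Sieve.overEquiv Y R') = R' :=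
    OrderIso.symm_apply_apply _ _
  rw [← h2]
  exact h1

/-- **S8786** -/
theorem main8786 (S : Scheme.{u}) (M : BigSite.Mod Scheme.zariskiPrecoverage S)
    (hM : Adeq.adequateMod Scheme.zariskiPrecoverage S M) :
    Presheaf.IsSheaf (QuotSh.J Scheme.fpqcPrecoverage S)
      ((BigSite.toAbMod Scheme.zariskiPrecoverage S).obj M).obj :=
  isSheaf_fpqc_of_adequate Scheme.zariskiPrecoverage M le_rfl
    (fun R g => main8756 S M hM R g)

/-- **S8787** -/
theorem main8787 (S : Scheme.{u}) (M : BigSite.Mod Scheme.fppfPrecoverage S)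
    (hM : Adeq.adequateMod Scheme.fppfPrecoverage S M) :
    Presheaf.IsSheaf (QuotSh.J Scheme.fpqcPrecoverage S)
      ((BigSite.toAbMod Scheme.fppfPrecoverage S).obj M).obj :=
  isSheaf_fpqc_of_adequate Scheme.fppfPrecoverage M Scheme.zariskiPrecoverage_le_fppfPrecoverage
    (fun R g => main8755 S M hM R g)

end

end Groth.Agent.Lib.Helper29.AdeqFpqc
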