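import Mathlib
import Groth.Prelude.Def_Adeq
import Groth.Prelude.Def_Adeq2
import Groth.Agent.Lib.Helper29.Adeq0
import Groth.Agent.Lib.Helper29.AdeqSplit0
import Groth.Agent.Lib.Helper29.AdeqFlat
import Groth.Agent.Lib.Helper29.AdeqSiteIso
import Groth.Agent.Lib.Helper29.AdeqSiteMain
import Groth.Agent.Lib.Helper29.AdeqSheafify
import Groth.Agent.Lib.Helper29.AdeqPushSh
import Groth.Agent.Lib.Helper29.AdeqLocLift

/-!
# Characterisations of parasitic adequate modules (S8767)
-/

set_option autoImplicit false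
set_option maxHeartbeats 1600000
universe u
open CategoryTheory Limits Opposite TensorProduct AlgebraicGeometry

namespace Groth.Agent.Lib.Helper29.AdeqParasitic
open Groth.Agent.Lib.Helper29.Adeq0 Groth.Agent.Lib.Helper29.AdeqSplit0
  Groth.Agent.Lib.Helper29.AdeqFlat
  Groth.Agent.Lib.Helper29.AdeqSiteIso Groth.Agent.Lib.Helper29.AdeqSiteMain
  Groth.Agent.Lib.Helper29.AdeqSheafify Groth.Agent.Lib.Helper29.AdeqPushSh
  Groth.Agent.Lib.Helper29.AdeqLocLift

noncomputable section

/-- vanishing of sections is invariant under isomorphism of objects -/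
theorem subsingleton_of_iso_over (K : Precoverage Scheme.{u}) [BigSite.OSh K] {S : Scheme.{u}}
    (M : BigSite.Mod K S) {X Y : Over S} (e : X ≅ Y)
    (h : Subsingleton (M.val.presheaf.obj (op X))) :
    Subsingleton (M.val.presheaf.obj (op Y)) := by
  refine ⟨fun y y' => ?_⟩
  have h1 : M.val.presheaf.map e.hom.op y = M.val.presheaf.map e.hom.op y' :=
    Subsingleton.elim _ _
  have h2 : M.val.presheaf.map e.inv.op (M.val.presheaf.map e.hom.op y) =
      M.val.presheaf.map e.inv.op (M.val.presheaf.map e.hom.op y') := congrArg _ h1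
  rw [pm_comp, pm_comp, Iso.inv_hom_id, pm_id, pm_id] at h2
  exact h2

/-- an adequate functor vanishing at `B` vanishes at every flat `B`-algebra -/
theorem subsingleton_of_flat (A : Type u) [CommRing A] (F : Adeq.MVF A)
    (hF : Adeq.adequate A F) {B B' : Adeq.Alg A} (f : B ⟶ B') (hf : f.hom.toRingHom.Flat)
    (h : Subsingleton (F.obj (Adeq.pt B))) : Subsingleton (F.obj (Adeq.pt B')) := by
  haveI := main8740 A F hF f hf
  letI : Algebra B B' := f.hom.toRingHom.toAlgebra
  have hsurj : Function.Surjective (hat F f) :=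
    (ConcreteCategory.bijective_of_isIso (F.bc f)).2
  have hz : ∀ z : (B' : Type u) ⊗[(B : Type u)] F.obj (Adeq.pt B), z = 0 := by
    intro z
    induction z using TensorProduct.induction_on with
    | zero => rfl
    | tmul s x => rw [Subsingleton.elim x 0, TensorProduct.tmul_zero]
    | add z z' hz hz' => rw [hz, hz', add_zero]
  refine ⟨fun y y' => ?_⟩
  obtain ⟨z, rfl⟩ := hsurj y
  obtain ⟨z', rfl⟩ := hsurj y'
  rw [hz z, hz z']

/-- an adequate module vanishing on an affine open `U` vanishes on every affine scheme flat over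
`S` mapping into `U` -/
theorem piece (S : Scheme.{u}) (M : BigSite.Mod Scheme.fppfPrecoverage S)
    (hM : Adeq.adequateMod Scheme.fppfPrecoverage S M) {U : S.Opens} (hU : IsAffineOpen U)
    (h0 : Subsingleton (BigSite.sectMod Scheme.fppfPrecoverage M ((BigSite.zarIncl S).obj U)))
    {C : CommRingCat.{u}} (g : Spec C ⟶ S) [Flat g] (hg : Set.range g ⊆ U) :
    Subsingleton (M.val.presheaf.obj (op (Over.mk g))) := by
  let a : Spec Γ(S, U) ⟶ S := hU.fromSpec
  have hrange : Set.range g ⊆ Set.range a := by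
    rw [hU.range_fromSpec]
    exact hg
  let l : Spec C ⟶ Spec Γ(S, U) := IsOpenImmersion.lift a g hrange
  have hl : l ≫ a = g := IsOpenImmersion.lift_fac a g hrange
  have hlflat : Flat l := by
    refine MorphismProperty.of_postcomp (W := @Flat) (W' := @IsOpenImmersion) l a
      inferInstance ?_
    rw [hl]
    infer_instance
  let φ : Γ(S, U) ⟶ C := Spec.preimage l
  have hφ : Spec.map φ = l := Spec.map_preimage l
  have hφflat : φ.hom.Flat := Flat.SpecMap_iff.mp (by rw [hφ]; exact hlflat)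
  have hF : Adeq.adequate Γ(S, U) ((Adeq.toMVF Scheme.fppfPrecoverage a).obj M) :=
    main8755 S M hM _ a
  have e1 : (BigSite.zarIncl S).obj U ≅ Over.mk a := Over.isoMk hU.isoSpec (by
    show hU.isoSpec.hom ≫ hU.fromSpec = U.ι
    rw [← hU.isoSpec_inv_ι, Iso.hom_inv_id_assoc])
  have h1 : Subsingleton (M.val.presheaf.obj (op (Over.mk a))) :=
    subsingleton_of_iso_over _ M e1 h0
  have e2 : Over.mk a ≅ (Adeq.specOver a).obj (op (Adeq.algOf Γ(S, U) Γ(S, U))) :=
    ⟨jHom a, jInv a, jHom_jInv a, jInv_jHom a⟩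
  have h2 : Subsingleton (((Adeq.toMVF Scheme.fppfPrecoverage a).obj M).obj
      (Adeq.pt (Adeq.algOf Γ(S, U) Γ(S, U)))) := subsingleton_of_iso_over _ M e2 h1
  letI : Algebra Γ(S, U) C := φ.hom.toAlgebra
  let f : Adeq.algOf Γ(S, U) Γ(S, U) ⟶ Adeq.algOf Γ(S, U) C :=
    CommAlgCat.ofHom (Algebra.ofId Γ(S, U) C)
  have h3 : Subsingleton (((Adeq.toMVF Scheme.fppfPrecoverage a).obj M).obj
      (Adeq.pt (Adeq.algOf Γ(S, U) C))) :=
    subsingleton_of_flat _ _ hF f hφflat h2
  have e3 : (Adeq.specOver a).obj (op (Adeq.algOf Γ(S, U) C)) ≅ Over.mk g :=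
    Over.isoMk (Iso.refl _) (by
      show 𝟙 _ ≫ g = Spec.map (CommRingCat.ofHom (algebraMap Γ(S, U) C)) ≫ a
      rw [Category.id_comp, ← hl, ← hφ]
      rfl)
  exact subsingleton_of_iso_over _ M e3 h3

/-- **S8767** -/
theorem main8767 (S : Scheme.{u}) (M : BigSite.Mod Scheme.fppfPrecoverage S)
    (hM : Adeq.adequateMod Scheme.fppfPrecoverage S M) :
    List.TFAE [Adeq.parasitic Scheme.fppfPrecoverage S M,
      Adeq.parasiticFor Scheme.fppfPrecoverage S M,
      ∀ U : S.Opens, Subsingleton (BigSite.sectMod Scheme.fppfPrecoverage M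
        ((BigSite.zarIncl S).obj U)),
      ∃ (ι : Type u) (U : ι → S.Opens), (∀ i, IsAffineOpen (U i)) ∧ (⨆ i, U i) = ⊤ ∧
        ∀ i, Subsingleton (BigSite.sectMod Scheme.fppfPrecoverage M
          ((BigSite.zarIncl S).obj (U i)))] := by
  tfae_have 1 → 2 := by
    intro h P hP V g hg
    obtain ⟨ι, Y, f, rfl⟩ := P.exists_eq_ofArrows
    obtain ⟨-, hPf⟩ := (Scheme.ofArrows_mem_precoverage_iff
      (P := @Flat ⊓ @LocallyOfFinitePresentation)).mp hP
    obtain ⟨i⟩ := hg
    exact h (Over.mk (f i)) (hPf i).1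
  tfae_have 2 → 3 := by
    intro h U
    have hcov : Presieve.ofArrows
        (fun V : {V : S.Opens // V = U ∨ IsAffineOpen V} => (V.1 : Scheme.{u}))
        (fun V : {V : S.Opens // V = U ∨ IsAffineOpen V} => V.1.ι) ∈
        Scheme.fppfPrecoverage.coverings S := by
      refine (Scheme.ofArrows_mem_precoverage_iff
        (P := @Flat ⊓ @LocallyOfFinitePresentation)).mpr
        ⟨fun x => ?_, fun V => ⟨inferInstance, inferInstance⟩⟩
      have hx : x ∈ (⊤ : S.Opens) := trivial
      rw [← iSup_affineOpens_eq_top S, TopologicalSpace.Opens.mem_iSup] at hx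
      obtain ⟨V, hV⟩ := hx
      refine ⟨⟨V.1, Or.inr V.2⟩, ?_⟩
      rw [Scheme.Opens.range_ι]
      exact hV
    exact h hcov U.ι (Presieve.ofArrows.mk
      (⟨U, Or.inl rfl⟩ : {V : S.Opens // V = U ∨ IsAffineOpen V}))
  tfae_have 3 → 4 := by
    intro h
    exact ⟨S.affineOpens, fun i => i.1, fun i => i.2, iSup_affineOpens_eq_top S,
      fun i => h i.1⟩
  tfae_have 4 → 1 := by
    rintro ⟨ι, U, hU, hsup, hzero⟩ V hV
    have key : ∀ x : V.left, ∃ (i : ι) (W : V.left.Opens),
        IsAffineOpen W ∧ x ∈ W ∧ W ≤ V.hom ⁻¹ᵁ (U i) := by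
      intro x
      have hs : V.hom.base x ∈ (⊤ : S.Opens) := trivial
      rw [← hsup, TopologicalSpace.Opens.mem_iSup] at hs
      obtain ⟨i, hi⟩ := hs
      obtain ⟨W, hWaff, hxW, hWle⟩ := TopologicalSpace.Opens.isBasis_iff_nbhd.mp
        V.left.isBasis_affineOpens (show x ∈ V.hom ⁻¹ᵁ (U i) from hi)
      exact ⟨i, W, hWaff, hxW, hWle⟩
    choose i W hW hxW hWle using key
    suffices hz : ∀ m : M.val.presheaf.obj (op V), m = 0 from
      ⟨fun m m' => (hz m).trans (hz m').symm⟩
    intro m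
    refine sep_of_cover' Scheme.fppfPrecoverage M
      (fun x : V.left => Over.mk ((hW x).fromSpec ≫ V.hom))
      (fun x => Over.homMk (hW x).fromSpec rfl)
      (zar_mem_fppf _ (fun x => (hW x).fromSpec) (fun x => inferInstance) (fun x => ⟨x, ?_⟩))
      m 0 (fun x => ?_)
    · rw [(hW x).range_fromSpec]
      exact hxW x
    · have hg : Set.range ((hW x).fromSpec ≫ V.hom) ⊆ U (i x) := by
        rintro _ ⟨y, rfl⟩
        have hy : (hW x).fromSpec y ∈ Set.range (hW x).fromSpec := ⟨y, rfl⟩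
        rw [(hW x).range_fromSpec] at hy
        exact hWle x hy
      haveI := piece S M hM (hU (i x)) (hzero (i x)) ((hW x).fromSpec ≫ V.hom) hg
      exact Subsingleton.elim _ _
  tfae_finish

end

end Groth.Agent.Lib.Helper29.AdeqParasitic
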