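import Mathlib
import Groth.Prelude.Def_Adeq
import Groth.Prelude.Def_Adeq2
import Groth.Agent.Lib.Helper29.Adeq0
import Groth.Agent.Lib.Helper29.AdeqSplit0
import Groth.Agent.Lib.Helper29.AdeqSiteIso
import Groth.Agent.Lib.Helper29.AdeqSiteSheaf

/-!
# The objects `Spec (A ⊗ B) → Spec B ×_S T` of the big site of `T` (S8765)
-/

set_option autoImplicit false
set_option maxHeartbeats 1600000
universe u
open CategoryTheory Limits Opposite TensorProduct AlgebraicGeometry

namespace Groth.Agent.Lib.Helper29.AdeqPushObj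
open Groth.Agent.Lib.Helper29.Adeq0 Groth.Agent.Lib.Helper29.AdeqSplit0
  Groth.Agent.Lib.Helper29.AdeqSiteIso Groth.Agent.Lib.Helper29.AdeqSiteSheaf

noncomputable section

variable {S T : Scheme.{u}} (f : T ⟶ S) {R : CommRingCat.{u}} (a : Spec R ⟶ S)

/-- `Spec B → S` -/
abbrev UB (B : Adeq.Alg R) : Over S := (Adeq.specOver a).obj (op B)

/-- `Spec B ×_S T → T` -/
abbrev TB (B : Adeq.Alg R) : Over T := (Over.pullback f).obj (UB a B)

theorem over_pullback_ext {X : Over T} {U : Over S} (φ ψ : X ⟶ (Over.pullback f).obj U)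
    (h : φ.left ≫ pullback.fst U.hom f = ψ.left ≫ pullback.fst U.hom f) : φ = ψ := by
  apply Over.OverMorphism.ext
  refine pullback.hom_ext h ?_
  exact (Over.w φ).trans (Over.w ψ).symm

/-- `Spec B ×_S T → Spec R ×_S T` -/
def mB (B : Adeq.Alg R) : (TB f a B).left ⟶ pullback a f :=
  pullback.lift (pullback.fst (UB a B).hom f ≫ Spec.map (CommRingCat.ofHom (algebraMap R B)))
    (pullback.snd (UB a B).hom f)
    (by rw [Category.assoc]; exact pullback.condition)

theorem mB_fst (B : Adeq.Alg R) : mB f a B ≫ pullback.fst a f =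
    pullback.fst (UB a B).hom f ≫ Spec.map (CommRingCat.ofHom (algebraMap R B)) :=
  pullback.lift_fst _ _ _

theorem mB_snd (B : Adeq.Alg R) : mB f a B ≫ pullback.snd a f = pullback.snd (UB a B).hom f :=
  pullback.lift_snd _ _ _

theorem isPullback_mB (B : Adeq.Alg R) :
    IsPullback (mB f a B) (pullback.fst (UB a B).hom f) (pullback.fst a f)
      (Spec.map (CommRingCat.ofHom (algebraMap R B))) := by
  have t : IsPullback (pullback.snd a f) (pullback.fst a f) f a :=
    (IsPullback.of_hasPullback a f).flip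
  have s : IsPullback (mB f a B ≫ pullback.snd a f) (pullback.fst (UB a B).hom f) f
      (Spec.map (CommRingCat.ofHom (algebraMap R B)) ≫ a) := by
    rw [mB_snd]
    exact (IsPullback.of_hasPullback (UB a B).hom f).flip
  exact IsPullback.of_right s (mB_fst f a B) t

section Piece

variable (A : CommRingCat.{u}) [Algebra R A] (w : Spec A ⟶ pullback a f)
  (hw : w ≫ pullback.fst a f = Spec.map (CommRingCat.ofHom (algebraMap R A)))

/-- the object `Spec (A ⊗ B) → T` -/
abbrev XA (B : Adeq.Alg R) : Over T :=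
  (Adeq.specOver (w ≫ pullback.snd a f)).obj (op ((Adeq.Alg.baseChange R A).obj B))

/-- `Spec (A ⊗ B) → Spec A` -/
def eA (B : Adeq.Alg R) : Spec (CommRingCat.of ((A : Type u) ⊗[R] (B : Type u))) ⟶ Spec A :=
  Spec.map (CommRingCat.ofHom (Algebra.TensorProduct.includeLeftRingHom :
    (A : Type u) →+* (A : Type u) ⊗[R] (B : Type u)))

theorem XA_hom (B : Adeq.Alg R) : (XA f a A w B).hom = eA A B ≫ w ≫ pullback.snd a f := rfl

theorem isPullback_unit' (B : Adeq.Alg R) :
    IsPullback (Spec.map (rh (Adeq.Alg.unit R A B))) (eA A B)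
      (Spec.map (CommRingCat.ofHom (algebraMap R B)))
      (Spec.map (CommRingCat.ofHom (algebraMap R A))) :=
  isPullback_unit (Adeq.algOf R A) B

/-- `Spec (A ⊗ B) → Spec B ×_S T` -/
def θl (B : Adeq.Alg R) :
    Spec (CommRingCat.of ((A : Type u) ⊗[R] (B : Type u))) ⟶ pullback (UB a B).hom f :=
  pullback.lift (Spec.map (rh (Adeq.Alg.unit R A B))) (eA A B ≫ w ≫ pullback.snd a f) (by
    have h1 := (isPullback_unit' A B).w
    show Spec.map (rh (Adeq.Alg.unit R A B)) ≫
        Spec.map (CommRingCat.ofHom (algebraMap R B)) ≫ a =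
      (eA A B ≫ w ≫ pullback.snd a f) ≫ f
    calc Spec.map (rh (Adeq.Alg.unit R A B)) ≫ Spec.map (CommRingCat.ofHom (algebraMap R B)) ≫ a
        = (Spec.map (rh (Adeq.Alg.unit R A B)) ≫
            Spec.map (CommRingCat.ofHom (algebraMap R B))) ≫ a := (Category.assoc _ _ _).symm
      _ = (eA A B ≫ Spec.map (CommRingCat.ofHom (algebraMap R A))) ≫ a := by rw [h1]
      _ = (eA A B ≫ w ≫ pullback.fst a f) ≫ a := by rw [hw]
      _ = eA A B ≫ w ≫ pullback.fst a f ≫ a := by simp only [Category.assoc]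
      _ = eA A B ≫ w ≫ pullback.snd a f ≫ f := by rw [pullback.condition]
      _ = (eA A B ≫ w ≫ pullback.snd a f) ≫ f := by simp only [Category.assoc])

theorem θl_fst (B : Adeq.Alg R) : θl f a A w hw B ≫ pullback.fst (UB a B).hom f =
    Spec.map (rh (Adeq.Alg.unit R A B)) := pullback.lift_fst _ _ _

theorem θl_snd (B : Adeq.Alg R) : θl f a A w hw B ≫ pullback.snd (UB a B).hom f =
    eA A B ≫ w ≫ pullback.snd a f := pullback.lift_snd _ _ _

/-- `Spec (A ⊗ B) → Spec B ×_S T` as a morphism of the big site of `T` -/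
def θ (B : Adeq.Alg R) : XA f a A w B ⟶ TB f a B :=
  Over.homMk (θl f a A w hw B) (θl_snd f a A w hw B)

theorem θ_left (B : Adeq.Alg R) : (θ f a A w hw B).left = θl f a A w hw B := rfl

theorem θl_mB (B : Adeq.Alg R) : θl f a A w hw B ≫ mB f a B = eA A B ≫ w := by
  apply pullback.hom_ext
  · rw [Category.assoc, mB_fst, ← Category.assoc, θl_fst, Category.assoc, hw]
    exact (isPullback_unit' A B).w
  · rw [Category.assoc, mB_snd, θl_snd, Category.assoc]

theorem isPullback_θ (B : Adeq.Alg R) :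
    IsPullback (θl f a A w hw B) (eA A B) (mB f a B) w := by
  have t := (isPullback_mB f a B).flip
  have s : IsPullback (θl f a A w hw B ≫ pullback.fst (UB a B).hom f) (eA A B)
      (Spec.map (CommRingCat.ofHom (algebraMap R B))) (w ≫ pullback.fst a f) := by
    rw [θl_fst, hw]
    exact isPullback_unit' A B
  exact IsPullback.of_right s (θl_mB f a A w hw B) t

theorem θ_nat {B B' : Adeq.Alg R} (g : B ⟶ B') :
    θ f a A w hw B' ≫ (Over.pullback f).map ((Adeq.specOver a).map g.op) =
      (Adeq.specOver (w ≫ pullback.snd a f)).map ((Adeq.Alg.baseChange R A).map g).op ≫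
        θ f a A w hw B := by
  apply over_pullback_ext
  show (θl f a A w hw B' ≫ ((Over.pullback f).map ((Adeq.specOver a).map g.op)).left) ≫
      pullback.fst (UB a B).hom f =
    (Spec.map (rh ((Adeq.Alg.baseChange R A).map g)) ≫ θl f a A w hw B) ≫
      pullback.fst (UB a B).hom f
  have h1 : ((Over.pullback f).map ((Adeq.specOver a).map g.op)).left ≫
      pullback.fst (UB a B).hom f = pullback.fst (UB a B').hom f ≫ Spec.map (rh g) :=
    pullback.lift_fst _ _ _
  refine (Category.assoc _ _ _).trans ?_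
  refine (congrArg (fun q => θl f a A w hw B' ≫ q) h1).trans ?_
  refine (Category.assoc _ _ _).symm.trans ?_
  refine (congrArg (fun q => q ≫ Spec.map (rh g)) (θl_fst f a A w hw B')).trans ?_
  refine (Spec.map_comp _ _).symm.trans ?_
  refine (congrArg Spec.map ((isPushout_unit_nat (Adeq.algOf R A) g).w).symm).trans ?_
  refine (Spec.map_comp _ _).trans ?_
  refine (congrArg (fun q => Spec.map (rh ((Adeq.Alg.baseChange R A).map g)) ≫ q)
    (θl_fst f a A w hw B).symm).trans ?_
  exact (Category.assoc _ _ _).symm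

section Two

variable (A' : CommRingCat.{u}) [Algebra R A'] (w' : Spec A' ⟶ pullback a f)
  (hw' : w' ≫ pullback.fst a f = Spec.map (CommRingCat.ofHom (algebraMap R A')))
  (α : A ⟶ A') (hα : Spec.map α ≫ w = w')

include hw hw' hα in
theorem α_comm :
    CommRingCat.ofHom (algebraMap R A) ≫ α = CommRingCat.ofHom (algebraMap R A') := by
  apply Spec.map_injective
  rw [Spec.map_comp, ← hw, ← hw', ← hα, Category.assoc]

/-- `α` as a map of `R`-algebras -/
def αAlg : (A : Type u) →ₐ[R] (A' : Type u) :=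
  { α.hom with
    commutes' := fun r =>
      congrArg (fun q => q.hom r) (α_comm f a A w hw A' w' hw' α hα) }

/-- the ring map `A ⊗ B → A' ⊗ B` -/
def τ (B : Adeq.Alg R) : CommRingCat.of ((A : Type u) ⊗[R] (B : Type u)) ⟶
    CommRingCat.of ((A' : Type u) ⊗[R] (B : Type u)) :=
  CommRingCat.ofHom (Algebra.TensorProduct.map (αAlg f a A w hw A' w' hw' α hα)
    (AlgHom.id R B)).toRingHom

theorem τ_tmul (B : Adeq.Alg R) (x : A) (b : B) :
    τ f a A w hw A' w' hw' α hα B (x ⊗ₜ[R] b) = (α.hom x) ⊗ₜ[R] b := rfl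

theorem τ_incL (B : Adeq.Alg R) :
    CommRingCat.ofHom (Algebra.TensorProduct.includeLeftRingHom :
      (A : Type u) →+* (A : Type u) ⊗[R] (B : Type u)) ≫ τ f a A w hw A' w' hw' α hα B =
    α ≫ CommRingCat.ofHom (Algebra.TensorProduct.includeLeftRingHom :
      (A' : Type u) →+* (A' : Type u) ⊗[R] (B : Type u)) := by
  ext x
  exact τ_tmul f a A w hw A' w' hw' α hα B x 1

theorem τ_unit (B : Adeq.Alg R) :
    rh (Adeq.Alg.unit R A B) ≫ τ f a A w hw A' w' hw' α hα B = rh (Adeq.Alg.unit R A' B) := by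
  ext b
  refine (τ_tmul f a A w hw A' w' hw' α hα B 1 b).trans ?_
  show (α.hom 1) ⊗ₜ[R] b = (1 : A') ⊗ₜ[R] b
  rw [map_one]

theorem τ_nat {B B' : Adeq.Alg R} (g : B ⟶ B') :
    τ f a A w hw A' w' hw' α hα B ≫ rh ((Adeq.Alg.baseChange R A').map g) =
      rh ((Adeq.Alg.baseChange R A).map g) ≫ τ f a A w hw A' w' hw' α hα B' := by
  refine CommRingCat.hom_ext (RingHom.ext fun x => ?_)
  induction x using TensorProduct.induction_on with
  | zero => simp only [map_zero]
  | tmul x b => rfl
  | add x y hx hy => simp only [map_add, hx, hy]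

theorem eA_τ (B : Adeq.Alg R) :
    Spec.map (τ f a A w hw A' w' hw' α hα B) ≫ eA A B = eA A' B ≫ Spec.map α := by
  unfold eA
  rw [← Spec.map_comp, ← Spec.map_comp, τ_incL]

/-- `Spec (A' ⊗ B) → Spec (A ⊗ B)` as a morphism of the big site of `T` -/
def δ (B : Adeq.Alg R) : XA f a A' w' B ⟶ XA f a A w B :=
  Over.homMk (Spec.map (τ f a A w hw A' w' hw' α hα B)) (by
    show Spec.map (τ f a A w hw A' w' hw' α hα B) ≫ (XA f a A w B).hom = (XA f a A' w' B).hom
    rw [XA_hom, XA_hom, ← Category.assoc, eA_τ, Category.assoc, ← Category.assoc (Spec.map α),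
      hα])

theorem δ_left (B : Adeq.Alg R) :
    (δ f a A w hw A' w' hw' α hα B).left = Spec.map (τ f a A w hw A' w' hw' α hα B) := rfl

theorem δ_θ (B : Adeq.Alg R) :
    δ f a A w hw A' w' hw' α hα B ≫ θ f a A w hw B = θ f a A' w' hw' B := by
  apply over_pullback_ext
  show (Spec.map (τ f a A w hw A' w' hw' α hα B) ≫ θl f a A w hw B) ≫
      pullback.fst (UB a B).hom f = θl f a A' w' hw' B ≫ pullback.fst (UB a B).hom f
  refine (Category.assoc _ _ _).trans ?_
  refine (congrArg (fun q => Spec.map (τ f a A w hw A' w' hw' α hα B) ≫ q)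
    (θl_fst f a A w hw B)).trans ?_
  refine (Spec.map_comp _ _).symm.trans ?_
  refine (congrArg Spec.map (τ_unit f a A w hw A' w' hw' α hα B)).trans ?_
  exact (θl_fst f a A' w' hw' B).symm

theorem δ_eA (B : Adeq.Alg R) :
    (δ f a A w hw A' w' hw' α hα B).left ≫ eA A B = eA A' B ≫ Spec.map α :=
  eA_τ f a A w hw A' w' hw' α hα B

theorem δ_nat {B B' : Adeq.Alg R} (g : B ⟶ B') :
    δ f a A w hw A' w' hw' α hα B' ≫
        (Adeq.specOver (w ≫ pullback.snd a f)).map ((Adeq.Alg.baseChange R A).map g).op =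
      (Adeq.specOver (w' ≫ pullback.snd a f)).map ((Adeq.Alg.baseChange R A').map g).op ≫
        δ f a A w hw A' w' hw' α hα B := by
  apply Over.OverMorphism.ext
  show Spec.map (τ f a A w hw A' w' hw' α hα B') ≫
      Spec.map (rh ((Adeq.Alg.baseChange R A).map g)) =
    Spec.map (rh ((Adeq.Alg.baseChange R A').map g)) ≫ Spec.map (τ f a A w hw A' w' hw' α hα B)
  rw [← Spec.map_comp, ← Spec.map_comp, τ_nat]

end Two

end Piece

end

end Groth.Agent.Lib.Helper29.AdeqPushObj
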