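import Mathlib
import Groth.Prelude.Def_Adeq
import Groth.Prelude.Def_Adeq2
import Groth.Agent.Lib.Helper29.Adeq0
import Groth.Agent.Lib.Helper29.AdeqAb
import Groth.Agent.Lib.Helper29.AdeqSplit0
import Groth.Agent.Lib.Helper29.AdeqPush
import Groth.Agent.Lib.Helper29.AdeqProd
import Groth.Agent.Lib.Helper29.AdeqSiteIso
import Groth.Agent.Lib.Helper29.AdeqSiteSheaf
import Groth.Agent.Lib.Helper29.AdeqSiteMain
import Groth.Agent.Lib.Helper29.AdeqSheafify
import Groth.Agent.Lib.Helper29.AdeqPushSh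
import Groth.Agent.Lib.Helper29.AdeqPushObj

/-!
# The morphisms of module-valued functors attached to `Spec (A ⊗ B) → Spec B ×_S T` (S8765)
-/

set_option autoImplicit false
set_option maxHeartbeats 1600000
universe u
open CategoryTheory Limits Opposite TensorProduct AlgebraicGeometry

namespace Groth.Agent.Lib.Helper29.AdeqPushMor
open Groth.Agent.Lib.Helper29.Adeq0 Groth.Agent.Lib.Helper29.AdeqAb
  Groth.Agent.Lib.Helper29.AdeqSplit0 Groth.Agent.Lib.Helper29.AdeqPush
  Groth.Agent.Lib.Helper29.AdeqProd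
  Groth.Agent.Lib.Helper29.AdeqSiteIso Groth.Agent.Lib.Helper29.AdeqSiteSheaf
  Groth.Agent.Lib.Helper29.AdeqSiteMain Groth.Agent.Lib.Helper29.AdeqSheafify
  Groth.Agent.Lib.Helper29.AdeqPushSh Groth.Agent.Lib.Helper29.AdeqPushObj

noncomputable section

variable (K : Precoverage Scheme.{u}) [BigSite.OSh K] {S T : Scheme.{u}} (f : T ⟶ S)
  (M : BigSite.Mod K T) {R : CommRingCat.{u}} (a : Spec R ⟶ S)

/-- `F_{f_* M, R}` -/
abbrev FN : Adeq.MVF R := (Adeq.toMVF K a).obj ((BigSite.pushMod K f).obj M)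

section Piece

variable (A : CommRingCat.{u}) [Algebra R A] (w : Spec A ⟶ pullback a f)
  (hw : w ≫ pullback.fst a f = Spec.map (CommRingCat.ofHom (algebraMap R A)))

/-- `B ↦ M(Spec (A ⊗ B) → T)` -/
abbrev PA : Adeq.MVF R :=
  (Adeq.push R A).obj ((Adeq.toMVF K (w ≫ pullback.snd a f)).obj M)

theorem toSect_compat_c (B : Adeq.Alg R) (b : B) :
    (BigSite.ORing K T).obj.map (θ f a A w hw B).op
      (((Sheaf.toPushforwardOverPullback (BigSite.ORingAbs K) f).hom.app (op (UB a B))).hom
        (Adeq.toSect K a B b)) =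
    Adeq.toSect K (w ≫ pullback.snd a f) ((Adeq.Alg.baseChange R A).obj B)
      ((Adeq.Alg.unit R A B).hom b) := by
  apply ULift.ext
  change ((Scheme.ΓSpecIso (CommRingCat.of B)).inv ≫ (pullback.fst (UB a B).hom f).appTop ≫
      (θl f a A w hw B).appTop) b =
    (rh (Adeq.Alg.unit R A B) ≫
      (Scheme.ΓSpecIso (CommRingCat.of ((A : Type u) ⊗[R] (B : Type u)))).inv) b
  have e1 : (pullback.fst (UB a B).hom f).appTop ≫ (θl f a A w hw B).appTop =
      (Spec.map (rh (Adeq.Alg.unit R A B))).appTop := by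
    rw [← Scheme.Hom.comp_appTop, θl_fst]
    rfl
  have e2 : (Scheme.ΓSpecIso (CommRingCat.of B)).inv ≫
      (pullback.fst (UB a B).hom f).appTop ≫ (θl f a A w hw B).appTop =
      rh (Adeq.Alg.unit R A B) ≫
        (Scheme.ΓSpecIso (CommRingCat.of ((A : Type u) ⊗[R] (B : Type u)))).inv :=
    (congrArg (fun q => (Scheme.ΓSpecIso (CommRingCat.of B)).inv ≫ q) e1).trans
      (Scheme.ΓSpecIso_inv_naturality (rh (Adeq.Alg.unit R A B))).symm
  exact congrArg (fun q => q.hom b) e2

/-- the comparison map at `B` -/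
def cL (B : Adeq.Alg R) :
    (FN K f M a).obj (Adeq.pt B) →ₗ[(B : Type u)] (PA K f M a A w).obj (Adeq.pt B) :=
  { toFun := fun x => M.val.presheaf.map (θ f a A w hw B).op x
    map_add' := fun x y => map_add (M.val.presheaf.map (θ f a A w hw B).op).hom x y
    map_smul' := fun b x => by
      have h1 := M.val.map_smul (θ f a A w hw B).op
        (((Sheaf.toPushforwardOverPullback (BigSite.ORingAbs K) f).hom.app (op (UB a B))).hom
          (Adeq.toSect K a B b)) x
      rw [toSect_compat_c] at h1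
      exact h1 }

theorem cL_nat {B B' : Adeq.Alg R} (g : B ⟶ B') (x : (FN K f M a).obj (Adeq.pt B)) :
    cL K f M a A w hw B' (tr _ g x) = tr (PA K f M a A w) g (cL K f M a A w hw B x) := by
  show M.val.presheaf.map (θ f a A w hw B').op
      (M.val.presheaf.map ((Over.pullback f).map ((Adeq.specOver a).map g.op)).op x) =
    M.val.presheaf.map ((Adeq.specOver (w ≫ pullback.snd a f)).map
        ((Adeq.Alg.baseChange R A).map g).op).op
      (M.val.presheaf.map (θ f a A w hw B).op x)
  rw [pm_comp, pm_comp, θ_nat]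

/-- the comparison morphism `F_{f_* M, R} ⟶ (B ↦ M(Spec (A ⊗ B)))` -/
def cMor : FN K f M a ⟶ PA K f M a A w :=
  { app := fun X => ConcreteCategory.ofHom (C := ModuleCat ((Adeq.ringOf R).obj X))
      (cL K f M a A w hw X.unop.unop)
    naturality := by
      intro X Y g
      ext y
      exact cL_nat K f M a A w hw g.unop.unop y }

theorem cMor_app (B : Adeq.Alg R) (x : (FN K f M a).obj (Adeq.pt B)) :
    (cMor K f M a A w hw).app (Adeq.pt B) x = M.val.presheaf.map (θ f a A w hw B).op x := rfl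

section Two

variable (A' : CommRingCat.{u}) [Algebra R A'] (w' : Spec A' ⟶ pullback a f)
  (hw' : w' ≫ pullback.fst a f = Spec.map (CommRingCat.ofHom (algebraMap R A')))
  (α : A ⟶ A') (hα : Spec.map α ≫ w = w')

theorem toSect_compat_d (B : Adeq.Alg R) (b : B) :
    (BigSite.ORing K T).obj.map (δ f a A w hw A' w' hw' α hα B).op
      (Adeq.toSect K (w ≫ pullback.snd a f) ((Adeq.Alg.baseChange R A).obj B)
        ((Adeq.Alg.unit R A B).hom b)) =
    Adeq.toSect K (w' ≫ pullback.snd a f) ((Adeq.Alg.baseChange R A').obj B)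
      ((Adeq.Alg.unit R A' B).hom b) := by
  apply ULift.ext
  change ((Scheme.ΓSpecIso (CommRingCat.of ((A : Type u) ⊗[R] (B : Type u)))).inv ≫
      (Spec.map (τ f a A w hw A' w' hw' α hα B)).appTop) ((Adeq.Alg.unit R A B).hom b) =
    (Scheme.ΓSpecIso (CommRingCat.of ((A' : Type u) ⊗[R] (B : Type u)))).inv
      ((Adeq.Alg.unit R A' B).hom b)
  rw [← Scheme.ΓSpecIso_inv_naturality]
  exact congrArg (fun q => (Scheme.ΓSpecIso (CommRingCat.of ((A' : Type u) ⊗[R] (B : Type u)))).inv
    (q.hom b)) (τ_unit f a A w hw A' w' hw' α hα B)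

/-- the restriction map at `B` -/
def dL (B : Adeq.Alg R) :
    (PA K f M a A w).obj (Adeq.pt B) →ₗ[(B : Type u)] (PA K f M a A' w').obj (Adeq.pt B) :=
  { toFun := fun x => M.val.presheaf.map (δ f a A w hw A' w' hw' α hα B).op x
    map_add' := fun x y =>
      map_add (M.val.presheaf.map (δ f a A w hw A' w' hw' α hα B).op).hom x y
    map_smul' := fun b x => by
      have h1 := M.val.map_smul (δ f a A w hw A' w' hw' α hα B).op
        (Adeq.toSect K (w ≫ pullback.snd a f) ((Adeq.Alg.baseChange R A).obj B)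
          ((Adeq.Alg.unit R A B).hom b)) x
      rw [toSect_compat_d] at h1
      exact h1 }

theorem dL_nat {B B' : Adeq.Alg R} (g : B ⟶ B') (x : (PA K f M a A w).obj (Adeq.pt B)) :
    dL K f M a A w hw A' w' hw' α hα B' (tr _ g x) =
      tr (PA K f M a A' w') g (dL K f M a A w hw A' w' hw' α hα B x) := by
  show M.val.presheaf.map (δ f a A w hw A' w' hw' α hα B').op
      (M.val.presheaf.map ((Adeq.specOver (w ≫ pullback.snd a f)).map
        ((Adeq.Alg.baseChange R A).map g).op).op x) =
    M.val.presheaf.map ((Adeq.specOver (w' ≫ pullback.snd a f)).map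
        ((Adeq.Alg.baseChange R A').map g).op).op
      (M.val.presheaf.map (δ f a A w hw A' w' hw' α hα B).op x)
  rw [pm_comp, pm_comp, δ_nat]

/-- the restriction morphism -/
def dMor : PA K f M a A w ⟶ PA K f M a A' w' :=
  { app := fun X => ConcreteCategory.ofHom (C := ModuleCat ((Adeq.ringOf R).obj X))
      (dL K f M a A w hw A' w' hw' α hα X.unop.unop)
    naturality := by
      intro X Y g
      ext y
      exact dL_nat K f M a A w hw A' w' hw' α hα g.unop.unop y }

theorem dMor_app (B : Adeq.Alg R) (x : (PA K f M a A w).obj (Adeq.pt B)) :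
    (dMor K f M a A w hw A' w' hw' α hα).app (Adeq.pt B) x =
      M.val.presheaf.map (δ f a A w hw A' w' hw' α hα B).op x := rfl

end Two

end Piece

end

end Groth.Agent.Lib.Helper29.AdeqPushMor
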