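import Mathlib
import Groth.Prelude.Def_Adeq
import Groth.Prelude.Def_Adeq2
import Groth.Agent.Lib.Helper29.Adeq0
import Groth.Agent.Lib.Helper29.AdeqAb
import Groth.Agent.Lib.Helper29.AdeqSplit0
import Groth.Agent.Lib.Helper29.AdeqPush
import Groth.Agent.Lib.Helper29.AdeqProd
import Groth.Agent.Lib.Helper29.AdeqSiteIso
import Groth.Agent.Lib.Helper29.AdeqSiteSheaf
import Groth.Agent.Lib.Helper29.AdeqSiteMain
import Groth.Agent.Lib.Helper29.AdeqSheafify
import Groth.Agent.Lib.Helper29.AdeqPushSh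
import Groth.Agent.Lib.Helper29.AdeqPushObj
import Groth.Agent.Lib.Helper29.AdeqPushMor

/-!
# Pushforward of adequate modules along quasi-compact quasi-separated morphisms (S8765)
-/

set_option autoImplicit false
set_option maxHeartbeats 3200000
universe u
open CategoryTheory Limits Opposite TensorProduct AlgebraicGeometry

namespace Groth.Agent.Lib.Helper29.AdeqPushMain
open Groth.Agent.Lib.Helper29.Adeq0 Groth.Agent.Lib.Helper29.AdeqAb
  Groth.Agent.Lib.Helper29.AdeqSplit0 Groth.Agent.Lib.Helper29.AdeqPush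
  Groth.Agent.Lib.Helper29.AdeqProd
  Groth.Agent.Lib.Helper29.AdeqSiteIso Groth.Agent.Lib.Helper29.AdeqSiteSheaf
  Groth.Agent.Lib.Helper29.AdeqSiteMain Groth.Agent.Lib.Helper29.AdeqSheafify
  Groth.Agent.Lib.Helper29.AdeqPushSh Groth.Agent.Lib.Helper29.AdeqPushObj
  Groth.Agent.Lib.Helper29.AdeqPushMor

noncomputable section

section Data

variable {S T : Scheme.{u}} (f : T ⟶ S) {R : CommRingCat.{u}} (a : Spec R ⟶ S)
  {I : Type u} (A : I → CommRingCat.{u}) [∀ i, Algebra R (A i)]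
  (w : ∀ i, Spec (A i) ⟶ pullback a f)
  (hw : ∀ i, w i ≫ pullback.fst a f = Spec.map (CommRingCat.ofHom (algebraMap R (A i))))
  {J : I → I → Type u} (A₃ : ∀ i j, J i j → CommRingCat.{u}) [∀ i j k, Algebra R (A₃ i j k)]
  (g : ∀ i j k, Spec (A₃ i j k) ⟶ pullback (w i) (w j))
  (hw₃ : ∀ i j k, (g i j k ≫ pullback.fst (w i) (w j) ≫ w i) ≫ pullback.fst a f =
    Spec.map (CommRingCat.ofHom (algebraMap R (A₃ i j k))))

/-- the ring map `A_i → A_ijk` -/
def αr (i j : I) (k : J i j) : A i ⟶ A₃ i j k :=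
  Spec.preimage (g i j k ≫ pullback.fst (w i) (w j))

/-- the ring map `A_j → A_ijk` -/
def βr (i j : I) (k : J i j) : A j ⟶ A₃ i j k :=
  Spec.preimage (g i j k ≫ pullback.snd (w i) (w j))

theorem αr_map (i j : I) (k : J i j) :
    Spec.map (αr f a A w A₃ g i j k) = g i j k ≫ pullback.fst (w i) (w j) := Spec.map_preimage _

theorem βr_map (i j : I) (k : J i j) :
    Spec.map (βr f a A w A₃ g i j k) = g i j k ≫ pullback.snd (w i) (w j) := Spec.map_preimage _

theorem hαr (i j : I) (k : J i j) :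
    Spec.map (αr f a A w A₃ g i j k) ≫ w i = g i j k ≫ pullback.fst (w i) (w j) ≫ w i := by
  rw [αr_map, Category.assoc]

theorem hβr (i j : I) (k : J i j) :
    Spec.map (βr f a A w A₃ g i j k) ≫ w j = g i j k ≫ pullback.fst (w i) (w j) ≫ w i := by
  rw [βr_map, Category.assoc, pullback.condition]

section Sheaf

variable (K : Precoverage Scheme.{u}) [BigSite.OSh K] [K.IsStableUnderBaseChange]
  (M : BigSite.Mod K T)

include hw in
theorem θ_cover
    (hcov : Presieve.ofArrows (fun i => Spec (A i)) w ∈ K.coverings (pullback a f))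
    (B : Adeq.Alg R) :
    Presieve.ofArrows (fun i => (XA f a (A i) (w i) B).left)
      (fun i => (θ f a (A i) (w i) (hw i) B).left) ∈ K.coverings (TB f a B).left :=
  Precoverage.mem_coverings_of_isPullback w hcov (mB f a B)
    (fun i => θl f a (A i) (w i) (hw i) B) (fun i => eA (A i) B)
    (fun i => isPullback_θ f a (A i) (w i) (hw i) B)

theorem sep_data
    (hcov : Presieve.ofArrows (fun i => Spec (A i)) w ∈ K.coverings (pullback a f))
    (B : Adeq.Alg R) (x x' : M.val.presheaf.obj (op (TB f a B)))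
    (h : ∀ i, M.val.presheaf.map (θ f a (A i) (w i) (hw i) B).op x =
      M.val.presheaf.map (θ f a (A i) (w i) (hw i) B).op x') : x = x' :=
  sep_of_cover K M (fun i => XA f a (A i) (w i) B) (fun i => θ f a (A i) (w i) (hw i) B)
    (θ_cover f a A w hw K hcov B) x x' h

theorem glue_data
    (hcov : Presieve.ofArrows (fun i => Spec (A i)) w ∈ K.coverings (pullback a f))
    (hg : ∀ i j, Presieve.ofArrows (fun k => Spec (A₃ i j k)) (g i j) ∈
      K.coverings (pullback (w i) (w j)))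
    (B : Adeq.Alg R)
    (y : ∀ i, M.val.presheaf.obj (op (XA f a (A i) (w i) B)))
    (hy : ∀ i j k,
      M.val.presheaf.map (δ f a (A i) (w i) (hw i) (A₃ i j k)
        (g i j k ≫ pullback.fst (w i) (w j) ≫ w i) (hw₃ i j k)
        (αr f a A w A₃ g i j k) (hαr f a A w A₃ g i j k) B).op (y i) =
      M.val.presheaf.map (δ f a (A j) (w j) (hw j) (A₃ i j k)
        (g i j k ≫ pullback.fst (w i) (w j) ≫ w i) (hw₃ i j k)
        (βr f a A w A₃ g i j k) (hβr f a A w A₃ g i j k) B).op (y j)) :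
    ∃ x : M.val.presheaf.obj (op (TB f a B)),
      ∀ i, M.val.presheaf.map (θ f a (A i) (w i) (hw i) B).op x = y i := by
  refine glue_of_cover K M (fun i => XA f a (A i) (w i) B)
    (fun i => θ f a (A i) (w i) (hw i) B) (θ_cover f a A w hw K hcov B) y ?_
  intro i j Z gi gj comm
  exact compat_of_cover K M (θ f a (A i) (w i) (hw i) B) (θ f a (A j) (w j) (hw j) B)
    (mB f a B) (w i) (w j) (eA (A i) B) (eA (A j) B)
    (isPullback_θ f a (A i) (w i) (hw i) B) (isPullback_θ f a (A j) (w j) (hw j) B)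
    (fun k => XA f a (A₃ i j k) (g i j k ≫ pullback.fst (w i) (w j) ≫ w i) B)
    (fun k => Spec (A₃ i j k)) (g i j) (hg i j)
    (fun k => θ f a (A₃ i j k) (g i j k ≫ pullback.fst (w i) (w j) ≫ w i) (hw₃ i j k) B)
    (fun k => eA (A₃ i j k) B)
    (fun k => isPullback_θ f a (A₃ i j k) (g i j k ≫ pullback.fst (w i) (w j) ≫ w i)
      (hw₃ i j k) B)
    (fun k => δ f a (A i) (w i) (hw i) (A₃ i j k)
      (g i j k ≫ pullback.fst (w i) (w j) ≫ w i) (hw₃ i j k)
      (αr f a A w A₃ g i j k) (hαr f a A w A₃ g i j k) B)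
    (fun k => δ f a (A j) (w j) (hw j) (A₃ i j k)
      (g i j k ≫ pullback.fst (w i) (w j) ≫ w i) (hw₃ i j k)
      (βr f a A w A₃ g i j k) (hβr f a A w A₃ g i j k) B)
    (fun k => δ_θ f a (A i) (w i) (hw i) (A₃ i j k) _ (hw₃ i j k) _ _ B)
    (fun k => δ_θ f a (A j) (w j) (hw j) (A₃ i j k) _ (hw₃ i j k) _ _ B)
    (fun k => (δ_eA f a (A i) (w i) (hw i) (A₃ i j k) _ (hw₃ i j k) _
      (hαr f a A w A₃ g i j k) B).trans
      (congrArg (fun q => eA (A₃ i j k) B ≫ q) (αr_map f a A w A₃ g i j k)))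
    (fun k => (δ_eA f a (A j) (w j) (hw j) (A₃ i j k) _ (hw₃ i j k) _
      (hβr f a A w A₃ g i j k) B).trans
      (congrArg (fun q => eA (A₃ i j k) B ≫ q) (βr_map f a A w A₃ g i j k)))
    (y i) (y j) (hy i j) gi gj comm

end Sheaf

include hw hw₃ in
set_option maxHeartbeats 6400000 in
/-- the pushforward is adequate on `Spec R`, given the affine data -/
theorem adequate_of_data [Finite I] [∀ i j, Finite (J i j)]
    (M : BigSite.Mod Scheme.fppfPrecoverage T)
    (hM : Adeq.adequateMod Scheme.fppfPrecoverage T M)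
    (hcov : Presieve.ofArrows (fun i => Spec (A i)) w ∈
      Scheme.fppfPrecoverage.coverings (pullback a f))
    (hg : ∀ i j, Presieve.ofArrows (fun k => Spec (A₃ i j k)) (g i j) ∈
      Scheme.fppfPrecoverage.coverings (pullback (w i) (w j))) :
    Adeq.adequate R (FN Scheme.fppfPrecoverage f M a) := by
  let P : ULift.{u+1} I → Adeq.MVF R := fun i =>
    PA Scheme.fppfPrecoverage f M a (A i.down) (w i.down)
  let Q : ULift.{u+1} (Σ i : I, Σ j : I, J i j) → Adeq.MVF R := fun l =>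
    PA Scheme.fppfPrecoverage f M a (A₃ l.down.1 l.down.2.1 l.down.2.2)
      (g l.down.1 l.down.2.1 l.down.2.2 ≫ pullback.fst (w l.down.1) (w l.down.2.1) ≫ w l.down.1)
  have hP : ∀ i, Adeq.adequate R (P i) := fun i =>
    main8750 R (A i.down) _ (main8755 T M hM (A i.down) (w i.down ≫ pullback.snd a f))
  have hQ : ∀ l, Adeq.adequate R (Q l) := fun l =>
    main8750 R (A₃ l.down.1 l.down.2.1 l.down.2.2) _ (main8755 T M hM _ _)
  let η : ∀ i, FN Scheme.fppfPrecoverage f M a ⟶ P i := fun i =>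
    cMor Scheme.fppfPrecoverage f M a (A i.down) (w i.down) (hw i.down)
  let d₁ : ∀ l : ULift.{u+1} (Σ i : I, Σ j : I, J i j), P ⟨l.down.1⟩ ⟶ Q l := fun l =>
    dMor Scheme.fppfPrecoverage f M a (A l.down.1) (w l.down.1) (hw l.down.1)
      (A₃ l.down.1 l.down.2.1 l.down.2.2)
      (g l.down.1 l.down.2.1 l.down.2.2 ≫ pullback.fst (w l.down.1) (w l.down.2.1) ≫ w l.down.1)
      (hw₃ l.down.1 l.down.2.1 l.down.2.2)
      (αr f a A w A₃ g l.down.1 l.down.2.1 l.down.2.2)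
      (hαr f a A w A₃ g l.down.1 l.down.2.1 l.down.2.2)
  let d₀ : ∀ l : ULift.{u+1} (Σ i : I, Σ j : I, J i j), P ⟨l.down.2.1⟩ ⟶ Q l := fun l =>
    dMor Scheme.fppfPrecoverage f M a (A l.down.2.1) (w l.down.2.1) (hw l.down.2.1)
      (A₃ l.down.1 l.down.2.1 l.down.2.2)
      (g l.down.1 l.down.2.1 l.down.2.2 ≫ pullback.fst (w l.down.1) (w l.down.2.1) ≫ w l.down.1)
      (hw₃ l.down.1 l.down.2.1 l.down.2.2)
      (βr f a A w A₃ g l.down.1 l.down.2.1 l.down.2.2)
      (hβr f a A w A₃ g l.down.1 l.down.2.1 l.down.2.2)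
  let c : FN Scheme.fppfPrecoverage f M a ⟶ ∏ᶜ P := Pi.lift η
  let r : ∏ᶜ P ⟶ ∏ᶜ Q :=
    Pi.lift (fun l => Pi.π P ⟨l.down.1⟩ ≫ d₁ l - Pi.π P ⟨l.down.2.1⟩ ≫ d₀ l)
  have hc : ∀ (i : ULift.{u+1} I) (B : Adeq.Alg R)
      (x : (FN Scheme.fppfPrecoverage f M a).obj (Adeq.pt B)),
      (Pi.π P i).app (Adeq.pt B) (c.app (Adeq.pt B) x) =
        M.val.presheaf.map (θ f a (A i.down) (w i.down) (hw i.down) B).op x :=
    fun i B x => pi_lift_π_apply P η i B x
  have hr : ∀ (l : ULift.{u+1} (Σ i : I, Σ j : I, J i j)) (B : Adeq.Alg R)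
      (z : (∏ᶜ P).obj (Adeq.pt B)),
      (Pi.π Q l).app (Adeq.pt B) (r.app (Adeq.pt B) z) =
        (d₁ l).app (Adeq.pt B) ((Pi.π P ⟨l.down.1⟩).app (Adeq.pt B) z) -
        (d₀ l).app (Adeq.pt B) ((Pi.π P ⟨l.down.2.1⟩).app (Adeq.pt B) z) :=
    fun l B z => pi_lift_π_apply Q
      (fun l => Pi.π P ⟨l.down.1⟩ ≫ d₁ l - Pi.π P ⟨l.down.2.1⟩ ≫ d₀ l) l B z
  have hd₁ : ∀ (l : ULift.{u+1} (Σ i : I, Σ j : I, J i j)) (B : Adeq.Alg R)
      (y : (P ⟨l.down.1⟩).obj (Adeq.pt B)),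
      (d₁ l).app (Adeq.pt B) y =
        M.val.presheaf.map (δ f a (A l.down.1) (w l.down.1) (hw l.down.1)
          (A₃ l.down.1 l.down.2.1 l.down.2.2)
          (g l.down.1 l.down.2.1 l.down.2.2 ≫ pullback.fst (w l.down.1) (w l.down.2.1) ≫
            w l.down.1)
          (hw₃ l.down.1 l.down.2.1 l.down.2.2)
          (αr f a A w A₃ g l.down.1 l.down.2.1 l.down.2.2)
          (hαr f a A w A₃ g l.down.1 l.down.2.1 l.down.2.2) B).op y := fun _ _ _ => rfl
  have hd₀ : ∀ (l : ULift.{u+1} (Σ i : I, Σ j : I, J i j)) (B : Adeq.Alg R)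
      (y : (P ⟨l.down.2.1⟩).obj (Adeq.pt B)),
      (d₀ l).app (Adeq.pt B) y =
        M.val.presheaf.map (δ f a (A l.down.2.1) (w l.down.2.1) (hw l.down.2.1)
          (A₃ l.down.1 l.down.2.1 l.down.2.2)
          (g l.down.1 l.down.2.1 l.down.2.2 ≫ pullback.fst (w l.down.1) (w l.down.2.1) ≫
            w l.down.1)
          (hw₃ l.down.1 l.down.2.1 l.down.2.2)
          (βr f a A w A₃ g l.down.1 l.down.2.1 l.down.2.2)
          (hβr f a A w A₃ g l.down.1 l.down.2.1 l.down.2.2) B).op y := fun _ _ _ => rfl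
  refine adequate_of_iso_kernel c r ?_ ?_ ?_
    (main8744 R r (pi_adequate P hP) (pi_adequate Q hQ))
  · apply hom_ext_pt
    intro B x
    show r.app (Adeq.pt B) (c.app (Adeq.pt B) x) = 0
    apply pi_ext Q B
    intro l
    refine (hr l B _).trans ?_
    refine Eq.trans ?_ (map_zero ((Pi.π Q l).app (Adeq.pt B)).hom).symm
    refine sub_eq_zero.mpr ?_
    rw [hc, hc, hd₁, hd₀, pm_comp, pm_comp, δ_θ, δ_θ]
  · intro B x x' hxx
    apply sep_data f a A w hw Scheme.fppfPrecoverage M hcov B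
    intro i
    exact (hc ⟨i⟩ B x).symm.trans
      ((congrArg (fun z => (Pi.π P ⟨i⟩).app (Adeq.pt B) z) hxx).trans (hc ⟨i⟩ B x'))
  · intro B z hz
    have hz' : ∀ (i j : I) (k : J i j),
        (d₁ ⟨⟨i, j, k⟩⟩).app (Adeq.pt B) ((Pi.π P ⟨i⟩).app (Adeq.pt B) z) =
        (d₀ ⟨⟨i, j, k⟩⟩).app (Adeq.pt B) ((Pi.π P ⟨j⟩).app (Adeq.pt B) z) := fun i j k =>
      sub_eq_zero.mp ((hr ⟨⟨i, j, k⟩⟩ B z).symm.trans
        ((congrArg (fun z' => (Pi.π Q ⟨⟨i, j, k⟩⟩).app (Adeq.pt B) z') hz).trans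
          (map_zero ((Pi.π Q ⟨⟨i, j, k⟩⟩).app (Adeq.pt B)).hom)))
    obtain ⟨x, hx⟩ := glue_data f a A w hw A₃ g hw₃ Scheme.fppfPrecoverage M hcov hg B
      (fun i => (Pi.π P ⟨i⟩).app (Adeq.pt B) z) (fun i j k => hz' i j k)
    refine ⟨x, ?_⟩
    apply pi_ext P B
    intro i
    exact (hc i B x).trans (hx i.down)

end Data

theorem adequate_push_affine {S T : Scheme.{u}} (f : T ⟶ S) [QuasiCompact f] [QuasiSeparated f]
    (M : BigSite.Mod Scheme.fppfPrecoverage T)
    (hM : Adeq.adequateMod Scheme.fppfPrecoverage T M) (R : CommRingCat.{u}) (a : Spec R ⟶ S) :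
    Adeq.adequate R (FN Scheme.fppfPrecoverage f M a) := by
  haveI : QuasiSeparatedSpace ↥(pullback a f) :=
    quasiSeparatedSpace_of_quasiSeparated (pullback.fst a f)
  obtain ⟨I, hI, A, w, hwo, hws⟩ := finite_affine_cover (pullback a f)
  have key : ∀ i j, ∃ (J : Type u) (_ : Finite J) (A₃ : J → CommRingCat.{u})
      (g : ∀ k, Spec (A₃ k) ⟶ pullback (w i) (w j)),
      (∀ k, IsOpenImmersion (g k)) ∧
        ∀ x : ↥(pullback (w i) (w j)), ∃ k, x ∈ Set.range (g k).base :=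
    fun i j => finite_affine_cover (pullback (w i) (w j))
  choose J hJ A₃ g hgo hgs using key
  letI algA : ∀ i, Algebra R (A i) := fun i =>
    (Spec.preimage (w i ≫ pullback.fst a f)).hom.toAlgebra
  letI alg₃ : ∀ i j k, Algebra R (A₃ i j k) := fun i j k =>
    (Spec.preimage ((g i j k ≫ pullback.fst (w i) (w j) ≫ w i) ≫ pullback.fst a f)).hom.toAlgebra
  exact adequate_of_data f a A w (fun i => (Spec.map_preimage _).symm) A₃ g
    (fun i j k => (Spec.map_preimage _).symm) M hM (zar_mem_fppf _ w hwo hws)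
    (fun i j => zar_mem_fppf _ (g i j) (hgo i j) (hgs i j))

/-- **S8765** -/
theorem main8765 {S T : Scheme.{u}} (f : T ⟶ S) [QuasiCompact f] [QuasiSeparated f]
    (M : BigSite.Mod Scheme.fppfPrecoverage T)
    (hM : Adeq.adequateMod Scheme.fppfPrecoverage T M) :
    Adeq.adequateMod Scheme.fppfPrecoverage S
      ((BigSite.pushMod Scheme.fppfPrecoverage f).obj M) := by
  refine ⟨S.affineOpenCover.I₀, S.affineOpenCover.X, S.affineOpenCover.f, ?_, fun i => ?_⟩
  · refine (Scheme.ofArrows_mem_precoverage_iff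
      (P := @Flat ⊓ @LocallyOfFinitePresentation)).mpr
      ⟨fun x => ⟨S.affineOpenCover.idx x, S.affineOpenCover.covers x⟩,
        fun i => ⟨inferInstance, inferInstance⟩⟩
  · exact adequate_push_affine f M hM _ _

end

end Groth.Agent.Lib.Helper29.AdeqPushMain
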