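import Mathlib
import Groth.Prelude.Def_Adeq
import Groth.Prelude.Def_Adeq2
import Groth.Agent.Lib.Helper29.Adeq0
import Groth.Agent.Lib.Helper29.AdeqSplit0
import Groth.Agent.Lib.Helper29.AdeqAb
import Groth.Agent.Lib.Helper29.AdeqSiteMain

/-!
# Kernels of maps of adequate modules on the big site (S8761)
-/

set_option autoImplicit false
set_option maxHeartbeats 800000
universe u
open CategoryTheory Limits Opposite TensorProduct AlgebraicGeometry

namespace Groth.Agent.Lib.Helper29.AdeqSiteKer
open Groth.Agent.Lib.Helper29.Adeq0 Groth.Agent.Lib.Helper29.AdeqSplit0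
  Groth.Agent.Lib.Helper29.AdeqAb Groth.Agent.Lib.Helper29.AdeqSiteMain

noncomputable section

/-- `F_{ker φ, R}` is adequate if `F_{M,R}` and `F_{N,R}` are -/
theorem adequate_toMVF_kernel (K : Precoverage Scheme.{u}) [BigSite.OSh K] {S : Scheme.{u}}
    {M N : BigSite.Mod K S} (φ : M ⟶ N) {R : CommRingCat.{u}} (a : Spec R ⟶ S)
    (hM : Adeq.adequate R ((Adeq.toMVF K a).obj M))
    (hN : Adeq.adequate R ((Adeq.toMVF K a).obj N)) :
    Adeq.adequate R ((Adeq.toMVF K a).obj (kernel φ)) := by
  let SC : ShortComplex (BigSite.Mod K S) := ShortComplex.mk (kernel.ι φ) φ (kernel.condition φ)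
  have hSC : SC.Exact := ShortComplex.exact_of_f_is_kernel _ (kernelIsKernel φ)
  have hSC' : (SC.map (SheafOfModules.forget _)).Exact :=
    hSC.map_of_mono_of_preservesKernel (SheafOfModules.forget _)
      (inferInstanceAs (Mono (kernel.ι φ))) inferInstance
  haveI : Mono ((SheafOfModules.forget _).map (kernel.ι φ)) := inferInstance
  refine adequate_of_iso_kernel ((Adeq.toMVF K a).map (kernel.ι φ)) ((Adeq.toMVF K a).map φ)
    ?_ ?_ ?_ (main8744 R _ hM hN)
  · rw [← Functor.map_comp, kernel.condition, Functor.map_zero]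
  · intro B
    exact PresheafOfModules.injective_of_mono ((SheafOfModules.forget _).map (kernel.ι φ))
      (op ((Adeq.specOver a).obj (op B)))
  · intro B y hy
    exact exact_app_gen hSC' (op ((Adeq.specOver a).obj (op B))) y hy

/-- **S8761** -/
theorem main8761 (S : Scheme.{u}) {M N : BigSite.Mod Scheme.fppfPrecoverage S} (φ : M ⟶ N)
    (hM : Adeq.adequateMod Scheme.fppfPrecoverage S M)
    (hN : Adeq.adequateMod Scheme.fppfPrecoverage S N) :
    Adeq.adequateMod Scheme.fppfPrecoverage S (kernel φ) := by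
  refine ⟨S.affineOpenCover.I₀, S.affineOpenCover.X, S.affineOpenCover.f, ?_, fun i => ?_⟩
  · refine (Scheme.ofArrows_mem_precoverage_iff
      (P := @Flat ⊓ @LocallyOfFinitePresentation)).mpr
      ⟨fun x => ⟨S.affineOpenCover.idx x, S.affineOpenCover.covers x⟩,
        fun i => ⟨inferInstance, inferInstance⟩⟩
  · exact adequate_toMVF_kernel Scheme.fppfPrecoverage φ _ (main8755 S M hM _ _)
      (main8755 S N hN _ _)

end

end Groth.Agent.Lib.Helper29.AdeqSiteKer
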