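import Mathlib
import Groth.Prelude.Def_Adeq
import Groth.Prelude.Def_Adeq2
import Groth.Agent.Lib.Helper29.Adeq0
import Groth.Agent.Lib.Helper29.AdeqSplit0
import Groth.Agent.Lib.Helper29.AdeqSiteIso
import Groth.Agent.Lib.Helper29.AdeqSiteMain

/-!
# `F_{f^* M, R} ≅ F_{M, R}` and adequacy of pullbacks (S8757, S8758)
-/

set_option autoImplicit false
set_option maxHeartbeats 800000
universe u
open CategoryTheory Limits Opposite TensorProduct AlgebraicGeometry

namespace Groth.Agent.Lib.Helper29.AdeqSitePull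
open Groth.Agent.Lib.Helper29.Adeq0 Groth.Agent.Lib.Helper29.AdeqSplit0
  Groth.Agent.Lib.Helper29.AdeqSiteIso Groth.Agent.Lib.Helper29.AdeqSiteMain

noncomputable section

section Objects

variable {S T : Scheme.{u}} (f : T ⟶ S) {R : CommRingCat.{u}} (a' : Spec R ⟶ T)

/-- the comparison of the two objects of the big site of `S` -/
def hHom (B : Adeq.Alg R) :
    (Adeq.specOver (a' ≫ f)).obj (op B) ⟶ (Over.map f).obj ((Adeq.specOver a').obj (op B)) :=
  Over.homMk (𝟙 (Spec (CommRingCat.of B))) (by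
    show 𝟙 _ ≫ ((Spec.map (CommRingCat.ofHom (algebraMap R B)) ≫ a') ≫ f) =
      Spec.map (CommRingCat.ofHom (algebraMap R B)) ≫ a' ≫ f
    rw [Category.id_comp, Category.assoc])

/-- its inverse -/
def hInv (B : Adeq.Alg R) :
    (Over.map f).obj ((Adeq.specOver a').obj (op B)) ⟶ (Adeq.specOver (a' ≫ f)).obj (op B) :=
  Over.homMk (𝟙 (Spec (CommRingCat.of B))) (by
    show 𝟙 _ ≫ (Spec.map (CommRingCat.ofHom (algebraMap R B)) ≫ a' ≫ f) =
      (Spec.map (CommRingCat.ofHom (algebraMap R B)) ≫ a') ≫ f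
    rw [Category.id_comp, Category.assoc])

theorem hHom_hInv (B : Adeq.Alg R) : hHom f a' B ≫ hInv f a' B = 𝟙 _ := by
  apply Over.OverMorphism.ext
  simp only [Over.comp_left, hHom, hInv, Over.homMk_left, Category.id_comp, Over.id_left]
  rfl

theorem hInv_hHom (B : Adeq.Alg R) : hInv f a' B ≫ hHom f a' B = 𝟙 _ := by
  apply Over.OverMorphism.ext
  simp only [Over.comp_left, hHom, hInv, Over.homMk_left, Category.id_comp, Over.id_left]
  rfl

theorem hHom_nat {B B' : Adeq.Alg R} (g : B ⟶ B') :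
    hHom f a' B' ≫ (Over.map f).map ((Adeq.specOver a').map g.op) =
      (Adeq.specOver (a' ≫ f)).map g.op ≫ hHom f a' B := by
  apply Over.OverMorphism.ext
  simp only [Over.comp_left, hHom, Over.homMk_left, Category.id_comp, Category.comp_id]
  rfl

end Objects

variable (K : Precoverage Scheme.{u}) [BigSite.OSh K] {S T : Scheme.{u}} (f : T ⟶ S)
  (M : BigSite.Mod K S) {R : CommRingCat.{u}} (a' : Spec R ⟶ T)

theorem toSect_compat (B : Adeq.Alg R) (b : B) :
    (BigSite.ORing K S).obj.map (hHom f a' B).op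
      (show (BigSite.ORing K S).obj.obj (op ((Over.map f).obj ((Adeq.specOver a').obj (op B))))
        from Adeq.toSect K a' B b) =
      Adeq.toSect K (a' ≫ f) B b := by
  apply ULift.ext
  change ((Scheme.ΓSpecIso (CommRingCat.of B)).inv ≫
      Scheme.Hom.appTop (𝟙 (Spec (CommRingCat.of B)))) b = (Scheme.ΓSpecIso (CommRingCat.of B)).inv b
  simp

/-- the comparison map at `B` -/
def hL (B : Adeq.Alg R) :
    ((Adeq.toMVF K a').obj ((BigSite.pullMod K f).obj M)).obj (Adeq.pt B) →ₗ[(B : Type u)]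
      ((Adeq.toMVF K (a' ≫ f)).obj M).obj (Adeq.pt B) :=
  { toFun := fun x => M.val.presheaf.map (hHom f a' B).op x
    map_add' := fun x y => map_add (M.val.presheaf.map (hHom f a' B).op).hom x y
    map_smul' := fun b x => by
      have h1 := M.val.map_smul (hHom f a' B).op
        (show (BigSite.ORing K S).obj.obj (op ((Over.map f).obj ((Adeq.specOver a').obj (op B))))
          from Adeq.toSect K a' B b) x
      rw [toSect_compat] at h1
      exact h1 }

theorem hL_nat {B B' : Adeq.Alg R} (g : B ⟶ B')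
    (x : ((Adeq.toMVF K a').obj ((BigSite.pullMod K f).obj M)).obj (Adeq.pt B)) :
    hL K f M a' B' (tr _ g x) = tr ((Adeq.toMVF K (a' ≫ f)).obj M) g (hL K f M a' B x) := by
  show M.val.presheaf.map (hHom f a' B').op
      (M.val.presheaf.map ((Over.map f).map ((Adeq.specOver a').map g.op)).op x) =
    M.val.presheaf.map ((Adeq.specOver (a' ≫ f)).map g.op).op
      (M.val.presheaf.map (hHom f a' B).op x)
  rw [pm_comp, pm_comp, hHom_nat]

theorem hL_bij (B : Adeq.Alg R) : Function.Bijective (hL K f M a' B) := by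
  refine Function.bijective_iff_has_inverse.mpr
    ⟨fun y => M.val.presheaf.map (hInv f a' B).op y, ?_, ?_⟩
  · intro x
    show M.val.presheaf.map (hInv f a' B).op (M.val.presheaf.map (hHom f a' B).op x) = x
    rw [pm_comp, hInv_hHom, pm_id]
  · intro y
    show M.val.presheaf.map (hHom f a' B).op (M.val.presheaf.map (hInv f a' B).op y) = y
    rw [pm_comp, hHom_hInv, pm_id]

/-- the comparison morphism -/
def hMor : (Adeq.toMVF K a').obj ((BigSite.pullMod K f).obj M) ⟶ (Adeq.toMVF K (a' ≫ f)).obj M :=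
  { app := fun X => ConcreteCategory.ofHom (C := ModuleCat ((Adeq.ringOf R).obj X))
      (hL K f M a' X.unop.unop)
    naturality := by
      intro X Y g
      ext y
      exact hL_nat K f M a' g.unop.unop y }

theorem adequate_pull_iff :
    Adeq.adequate R ((Adeq.toMVF K a').obj ((BigSite.pullMod K f).obj M)) ↔
      Adeq.adequate R ((Adeq.toMVF K (a' ≫ f)).obj M) := by
  haveI : IsIso (hMor K f M a') := isIso_of_bijective _ (fun B => hL_bij K f M a' B)
  exact (Adeq.adequate R).prop_iff_of_iso (asIso (hMor K f M a'))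

/-- **S8757** -/
theorem main8757 {S T : Scheme.{u}} (f : T ⟶ S) (M : BigSite.Mod Scheme.fppfPrecoverage S)
    (hM : Adeq.adequateMod Scheme.fppfPrecoverage S M) :
    Adeq.adequateMod Scheme.fppfPrecoverage T
      ((BigSite.pullMod Scheme.fppfPrecoverage f).obj M) := by
  refine ⟨T.affineOpenCover.I₀, T.affineOpenCover.X, T.affineOpenCover.f, ?_, fun i => ?_⟩
  · refine (Scheme.ofArrows_mem_precoverage_iff
      (P := @Flat ⊓ @LocallyOfFinitePresentation)).mpr
      ⟨fun x => ⟨T.affineOpenCover.idx x, T.affineOpenCover.covers x⟩,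
        fun i => ⟨inferInstance, inferInstance⟩⟩
  · exact (adequate_pull_iff Scheme.fppfPrecoverage f M (T.affineOpenCover.f i)).mpr
      (main8755 S M hM _ _)

/-- **S8758** -/
theorem main8758 (S : Scheme.{u}) (M : BigSite.Mod Scheme.fppfPrecoverage S) (ι : Type u)
    (T : ι → Scheme.{u}) (f : ∀ i, T i ⟶ S)
    (hcov : Presieve.ofArrows T f ∈ Scheme.fppfPrecoverage.coverings S)
    (h : ∀ i, Adeq.adequateMod Scheme.fppfPrecoverage (T i)
      ((BigSite.pullMod Scheme.fppfPrecoverage (f i)).obj M)) :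
    Adeq.adequateMod Scheme.fppfPrecoverage S M := by
  have h' : ∀ i, ∃ (κ : Type u) (R : κ → CommRingCat.{u}) (a : ∀ j, Spec (R j) ⟶ T i),
      Presieve.ofArrows (fun j => Spec (R j)) a ∈ Scheme.fppfPrecoverage.coverings (T i) ∧
      ∀ j, Adeq.adequate (R j) ((Adeq.toMVF Scheme.fppfPrecoverage (a j)).obj
        ((BigSite.pullMod Scheme.fppfPrecoverage (f i)).obj M)) := h
  choose κ R a hc hadq using h'
  have hcov' := (Scheme.ofArrows_mem_precoverage_iff
    (P := @Flat ⊓ @LocallyOfFinitePresentation)).mp hcov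
  have hc' := fun i => (Scheme.ofArrows_mem_precoverage_iff
    (P := @Flat ⊓ @LocallyOfFinitePresentation)).mp (hc i)
  refine ⟨Σ i, κ i, fun p => R p.1 p.2, fun p => a p.1 p.2 ≫ f p.1, ?_, fun p => ?_⟩
  · refine (Scheme.ofArrows_mem_precoverage_iff
      (P := @Flat ⊓ @LocallyOfFinitePresentation)).mpr ⟨fun x => ?_, fun p => ?_⟩
    · obtain ⟨i, y, hy⟩ := hcov'.1 x
      obtain ⟨j, z, hz⟩ := (hc' i).1 y
      refine ⟨⟨i, j⟩, z, ?_⟩
      show (a i j ≫ f i).base z = x
      rw [Scheme.Hom.comp_base, TopCat.comp_app]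
      exact (congrArg (fun q => (f i).base q) hz).trans hy
    · exact MorphismProperty.comp_mem _ _ _ ((hc' p.1).2 p.2) (hcov'.2 p.1)
  · exact (adequate_pull_iff Scheme.fppfPrecoverage (f p.1) M (a p.1 p.2)).mp (hadq p.1 p.2)

end

end Groth.Agent.Lib.Helper29.AdeqSitePull
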