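import Mathlib

/-!
# Limits of adic systems of modules (helper29)

Let `I` be a finitely generated ideal and `(N_m)` an inverse system of modules whose transition maps
`N_b → N_a` (`a ≤ b`) are surjective with kernel `I^(a+1) N_b`.  Then the projections from the limit
`M` are surjective with kernel `I^(n+1) M` (Stacks 09B8).
-/

set_option autoImplicit false
set_option linter.style.haveILetI false
set_option linter.unusedSectionVars false
set_option linter.unusedVariables false
set_option maxHeartbeats 1600000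

open CategoryTheory CategoryTheory.Limits Opposite

namespace Groth.Agent.Lib.Helper29.AdicLim1

universe w v v'

theorem adic_limit {Λ : Type w} [CommRing Λ] (I : Ideal Λ)
    {M : Type v} [AddCommGroup M] [Module Λ M] (N : ℕ → Type v') [∀ m, AddCommGroup (N m)]
    [∀ m, Module Λ (N m)]
    (π : ∀ m, M →ₗ[Λ] N m) (tr : ∀ a b, a ≤ b → (N b →ₗ[Λ] N a))
    (hπtr : ∀ a b (h : a ≤ b) x, tr a b h (π b x) = π a x)
    (htrtr : ∀ a b c (h : a ≤ b) (h' : b ≤ c) z, tr a b h (tr b c h' z) = tr a c (h.trans h') z)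
    (hext : ∀ x : M, (∀ m, π m x = 0) → x = 0)
    (hex : ∀ f : ∀ m, N m, (∀ a b (h : a ≤ b), tr a b h (f b) = f a) → ∃ x : M, ∀ m, π m x = f m)
    (hs : ∀ a b (h : a ≤ b), Function.Surjective (tr a b h))
    (hk : ∀ a b (h : a ≤ b), LinearMap.ker (tr a b h) = I ^ (a + 1) • (⊤ : Submodule Λ (N b)))
    (hI : I.FG) (n : ℕ) :
    Function.Surjective (π n) ∧ LinearMap.ker (π n) = I ^ (n + 1) • (⊤ : Submodule Λ M) := by
  classical
  have htrid : ∀ m (z : N m), tr m m le_rfl z = z := by
    intro m z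
    obtain ⟨z', rfl⟩ := hs m m le_rfl z
    rw [htrtr]
  have hkill : ∀ m, I ^ (m + 1) • (⊤ : Submodule Λ (N m)) = ⊥ := by
    intro m
    rw [← hk m m le_rfl]
    ext z
    simp only [LinearMap.mem_ker, Submodule.mem_bot]
    rw [htrid]
  have hpow_le : ∀ (m j : ℕ), m + 1 ≤ j → ∀ a ∈ I ^ j • (⊤ : Submodule Λ M), π m a = 0 := by
    intro m j hj a ha
    have h1 : I ^ j • (⊤ : Submodule Λ M) ≤ I ^ (m + 1) • ⊤ :=
      Submodule.smul_mono (Ideal.pow_le_pow_right hj) le_rfl
    have h3 : a ∈ I ^ (m + 1) • (⊤ : Submodule Λ M) := h1 ha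
    have h4 : (I ^ (m + 1) • (⊤ : Submodule Λ M)).map (π m) ≤
        I ^ (m + 1) • (⊤ : Submodule Λ (N m)) := by
      rw [Submodule.map_smul'']
      exact Submodule.smul_mono le_rfl le_top
    have h2 : π m a ∈ I ^ (m + 1) • (⊤ : Submodule Λ (N m)) := h4 (Submodule.mem_map_of_mem h3)
    rw [hkill m] at h2
    exact (Submodule.mem_bot Λ).mp h2
  have hsurj : ∀ m, Function.Surjective (π m) := by
    intro m y
    let s : ∀ k, N (m + k) → N (m + k + 1) := fun k =>
      Function.surjInv (hs (m + k) (m + k + 1) (Nat.le_succ _))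
    have hs' : ∀ k z, tr (m + k) (m + k + 1) (Nat.le_succ _) (s k z) = z :=
      fun k z => Function.surjInv_eq _ z
    let g : ∀ k, N (m + k) := fun k => Nat.rec (motive := fun k => N (m + k)) y (fun k z => s k z) k
    have hg : ∀ a b (h : a ≤ b), tr (m + a) (m + b) (Nat.add_le_add_left h m) (g b) = g a := by
      intro a b h
      induction b, h using Nat.le_induction with
      | base => exact htrid _ _
      | succ b hab ih =>
        calc tr (m + a) (m + (b + 1)) (Nat.add_le_add_left (Nat.le_succ_of_le hab) m) (g (b + 1))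
            = tr (m + a) (m + b) (Nat.add_le_add_left hab m)
                (tr (m + b) (m + b + 1) (Nat.le_succ _) (g (b + 1))) :=
              (htrtr (m + a) (m + b) (m + b + 1) _ _ _).symm
          _ = tr (m + a) (m + b) (Nat.add_le_add_left hab m) (g b) := by
              show tr (m + a) (m + b) _ (tr (m + b) (m + b + 1) _ (s b (g b))) = _
              rw [hs' b (g b)]
          _ = g a := ih
    let f : ∀ j, N j := fun j => tr j (m + j) (Nat.le_add_left j m) (g j)
    have hf : ∀ a b (h : a ≤ b), tr a b h (f b) = f a := by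
      intro a b h
      show tr a b h (tr b (m + b) _ (g b)) = tr a (m + a) _ (g a)
      rw [htrtr, ← hg a b h, htrtr]
    obtain ⟨x, hx⟩ := hex f hf
    refine ⟨x, ?_⟩
    rw [hx m]
    exact hg 0 m (Nat.zero_le m)
  have hKanti : ∀ a b (h : a ≤ b) x, π b x = 0 → π a x = 0 := by
    intro a b h x hx
    rw [← hπtr a b h x, hx, map_zero]
  have hstep : ∀ m x, π m x = 0 →
      ∃ a ∈ I ^ (m + 1) • (⊤ : Submodule Λ M), π (m + 1) (x - a) = 0 := by
    intro m x hx
    have h1 : π (m + 1) x ∈ LinearMap.ker (tr m (m + 1) (Nat.le_succ m)) := by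
      rw [LinearMap.mem_ker, hπtr, hx]
    rw [hk] at h1
    have h2 : I ^ (m + 1) • (⊤ : Submodule Λ (N (m + 1))) =
        (I ^ (m + 1) • (⊤ : Submodule Λ M)).map (π (m + 1)) := by
      rw [Submodule.map_smul'', Submodule.map_top, LinearMap.range_eq_top.mpr (hsurj (m + 1))]
    rw [h2] at h1
    obtain ⟨a, ha, hax⟩ := Submodule.mem_map.mp h1
    exact ⟨a, ha, by rw [map_sub, hax, sub_self]⟩
  obtain ⟨s, hs_span⟩ : ∃ s : Finset Λ, Ideal.span (s : Set Λ) = I ^ (n + 1) := hI.pow (n := n + 1)
  have hD1 : ∀ (k : ℕ) (a : M), a ∈ (I ^ k * I ^ (n + 1)) • (⊤ : Submodule Λ M) →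
      ∃ y : Λ → M, (∀ g, y g ∈ I ^ k • (⊤ : Submodule Λ M)) ∧ ∑ g ∈ s, g • y g = a := by
    intro k a ha
    rw [mul_comm, Submodule.mul_smul] at ha
    refine Submodule.smul_induction_on ha ?_ ?_
    · intro r hr z hz
      rw [← hs_span] at hr
      refine Submodule.span_induction (p := fun r _ => ∃ y : Λ → M,
        (∀ g, y g ∈ I ^ k • (⊤ : Submodule Λ M)) ∧ ∑ g ∈ s, g • y g = r • z) ?_ ?_ ?_ ?_ hr
      · intro g hg
        refine ⟨fun g' => if g' = g then z else 0, fun g' => ?_, ?_⟩
        · by_cases h : g' = g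
          · simp only [h, if_true]; exact hz
          · simp only [h, if_false]; exact Submodule.zero_mem _
        · rw [Finset.sum_eq_single g]
          · simp
          · intro b _ hb; simp [hb]
          · intro hgn; exact absurd (Finset.mem_coe.mp hg) hgn
      · exact ⟨0, fun _ => Submodule.zero_mem _, by simp⟩
      · rintro r1 r2 _ _ ⟨y1, hy1, e1⟩ ⟨y2, hy2, e2⟩
        exact ⟨y1 + y2, fun g => Submodule.add_mem _ (hy1 g) (hy2 g), by
          simp only [Pi.add_apply, smul_add, Finset.sum_add_distrib, e1, e2, add_smul]⟩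
      · rintro c r1 _ ⟨y1, hy1, e1⟩
        refine ⟨c • y1, fun g => Submodule.smul_mem _ c (hy1 g), ?_⟩
        calc ∑ g ∈ s, g • (c • y1) g = ∑ g ∈ s, c • (g • y1 g) := by
              refine Finset.sum_congr rfl (fun g _ => ?_)
              rw [Pi.smul_apply, smul_comm]
          _ = c • ∑ g ∈ s, g • y1 g := by rw [Finset.smul_sum]
          _ = (c • r1) • z := by rw [e1, smul_assoc]
    · rintro a1 a2 ⟨y1, hy1, e1⟩ ⟨y2, hy2, e2⟩
      exact ⟨y1 + y2, fun g => Submodule.add_mem _ (hy1 g) (hy2 g), by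
        simp only [Pi.add_apply, smul_add, Finset.sum_add_distrib, e1, e2]⟩
  have hSt : ∀ (k : ℕ) (z : M), π (n + k) z = 0 →
      ∃ y : Λ → M, (∀ g, y g ∈ I ^ k • (⊤ : Submodule Λ M)) ∧
        π (n + k + 1) (z - ∑ g ∈ s, g • y g) = 0 := by
    intro k z hz
    obtain ⟨a, ha, haz⟩ := hstep (n + k) z hz
    have hpow : I ^ (n + k + 1) = I ^ k * I ^ (n + 1) := by
      rw [← pow_add]; congr 1; omega
    rw [hpow] at ha
    obtain ⟨y, hy, hya⟩ := hD1 k a ha
    exact ⟨y, hy, by rw [hya]; exact haz⟩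
  choose! Y hY1 hY2 using hSt
  refine ⟨hsurj n, le_antisymm ?_ ?_⟩
  · intro x hx
    rw [LinearMap.mem_ker] at hx
    let xs : ℕ → M := fun k => Nat.rec x (fun k z => z - ∑ g ∈ s, g • Y k z g) k
    have hxsS : ∀ k, xs (k + 1) = xs k - ∑ g ∈ s, g • Y k (xs k) g := fun k => rfl
    have hxsK : ∀ k, π (n + k) (xs k) = 0 := by
      intro k
      induction k with
      | zero => exact hx
      | succ k ih => rw [hxsS]; exact hY2 k (xs k) ih
    let Ys : ℕ → Λ → M := fun k => Nat.rec (fun _ => 0) (fun k acc => acc + Y k (xs k)) k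
    have hYs0 : Ys 0 = fun _ => 0 := rfl
    have hYsS : ∀ k, Ys (k + 1) = Ys k + Y k (xs k) := fun k => rfl
    have hF1 : ∀ k, x - ∑ g ∈ s, g • Ys k g = xs k := by
      intro k
      induction k with
      | zero =>
        show x - ∑ g ∈ s, g • (0 : M) = x
        simp
      | succ k ih =>
        rw [hYsS, hxsS, ← ih]
        simp only [Pi.add_apply, smul_add, Finset.sum_add_distrib]
        abel
    have hF2 : ∀ (m j : ℕ), m + 1 ≤ j → ∀ g, π m (Ys j g) = π m (Ys (m + 1) g) := by
      intro m j hj g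
      induction j, hj using Nat.le_induction with
      | base => rfl
      | succ j hmj ih =>
        rw [hYsS, Pi.add_apply, map_add, ih,
          hpow_le m j hmj _ (hY1 j (xs j) (hxsK j) g), add_zero]
    have hlim : ∀ g : Λ, ∃ y : M, ∀ m, π m y = π m (Ys (m + 1) g) := by
      intro g
      apply hex (fun m => π m (Ys (m + 1) g))
      intro a b h
      show tr a b h (π b (Ys (b + 1) g)) = π a (Ys (a + 1) g)
      rw [hπtr, hF2 a (b + 1) (by omega) g]
    choose ylim hylim using hlim
    have hxeq : x = ∑ g ∈ s, g • ylim g := by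
      have h0 : x - ∑ g ∈ s, g • ylim g = 0 := by
        apply hext
        intro m
        rw [map_sub, map_sum]
        have h1 : ∀ g ∈ s, π m (g • ylim g) = π m (g • Ys (m + 1) g) := by
          intro g _
          rw [map_smul, map_smul, hylim]
        rw [Finset.sum_congr rfl h1, ← map_sum, ← map_sub, hF1 (m + 1)]
        exact hKanti m (n + (m + 1)) (by omega) _ (hxsK (m + 1))
      exact sub_eq_zero.mp h0
    rw [hxeq]
    refine Submodule.sum_mem _ (fun g hg => ?_)
    apply Submodule.smul_mem_smul _ Submodule.mem_top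
    rw [← hs_span]
    exact Ideal.subset_span (Finset.mem_coe.mpr hg)
  · intro x hx
    rw [LinearMap.mem_ker]
    exact hpow_le n (n + 1) le_rfl x hx

theorem adic_limit_cone {Λ : Type w} [CommRing Λ] (I : Ideal Λ) (hI : I.FG)
    (D : ℕᵒᵖ ⥤ ModuleCat.{w} Λ) (c : Cone D) (hc : IsLimit c)
    (hs : ∀ (a b : ℕ) (h : a ≤ b), Function.Surjective (D.map (homOfLE h).op).hom)
    (hk : ∀ (a b : ℕ) (h : a ≤ b), LinearMap.ker (D.map (homOfLE h).op).hom =
      I ^ (a + 1) • (⊤ : Submodule Λ (D.obj (op b))))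
    (n : ℕ) :
    Function.Surjective (c.π.app (op n)).hom ∧
      LinearMap.ker (c.π.app (op n)).hom = I ^ (n + 1) • (⊤ : Submodule Λ c.pt) := by
  let π' : ∀ m, ↑c.pt →ₗ[Λ] ↑(D.obj (op m)) := fun m => (c.π.app (op m)).hom
  let tr' : ∀ a b, a ≤ b → (↑(D.obj (op b)) →ₗ[Λ] ↑(D.obj (op a))) :=
    fun a b h => (D.map (homOfLE h).op).hom
  refine adic_limit I (M := ↑c.pt) (N := fun m => ↑(D.obj (op m))) π' tr' ?_ ?_ ?_ ?_ hs hk hI n
  · intro a b h x
    have e := congrArg (fun φ => φ.hom x) (c.w (homOfLE h).op)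
    exact e
  · intro a b c' h h' z
    have e : D.map (homOfLE (h.trans h')).op = D.map (homOfLE h').op ≫ D.map (homOfLE h).op := by
      rw [← D.map_comp, ← op_comp, homOfLE_comp]
    show (D.map (homOfLE h).op).hom ((D.map (homOfLE h').op).hom z) =
      (D.map (homOfLE (h.trans h')).op).hom z
    rw [e]
    rfl
  · intro x hx
    apply Concrete.isLimit_ext D hc x 0
    intro j
    have e : (c.π.app j) x = 0 := by
      induction j using Opposite.rec with
      | _ m => exact hx m
    rw [e, map_zero]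
  · intro f hf
    have hlim := isLimitOfPreserves (forget (ModuleCat.{w} Λ)) hc
    have hcompat : (fun j : ℕᵒᵖ => f j.unop) ∈ (D ⋙ forget (ModuleCat.{w} Λ)).sections := by
      intro j j' φ
      have e : φ = (homOfLE φ.unop.le).op := by
        apply Quiver.Hom.unop_inj
        apply Subsingleton.elim
      rw [e]
      exact hf j'.unop j.unop φ.unop.le
    let sec : (D ⋙ forget (ModuleCat.{w} Λ)).sections := ⟨fun j => f j.unop, hcompat⟩
    refine ⟨(Types.isLimitEquivSections hlim).symm sec, fun m => ?_⟩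
    exact Types.isLimitEquivSections_symm_apply hlim sec (op m)

end Groth.Agent.Lib.Helper29.AdicLim1
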