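import Mathlib
import Groth.Prelude.Def_ProEtS
import Groth.Prelude.Def_EtModW
import Groth.Prelude.Def_ARSys
import Groth.Agent.Lib.Helper15.ProEtRestr

/-!
# Extension by zero of adic pro-étale sheaves of modules, part 1 (helper29)

* A left adjoint of a linear functor preserves universal quotients modulo an ideal.
* `ε⁻¹ j_! ≅ j_! ε⁻¹` for sheaves of `Λ`-modules.
-/

set_option autoImplicit false
set_option linter.style.haveILetI false
set_option linter.unusedSectionVars false
set_option maxHeartbeats 1600000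

open CategoryTheory CategoryTheory.Limits AlgebraicGeometry Opposite

namespace Groth.Agent.Lib.Helper29.AdicShriek1

section General

universe w v₁ v₂ u₁ u₂

variable {Λ : Type w} [CommRing Λ] {C : Type u₁} [Category.{v₁} C] {D : Type u₂} [Category.{v₂} D]
  [Preadditive C] [Preadditive D] [Linear Λ C] [Linear Λ D] {L : C ⥤ D} {R : D ⥤ C} (adj : L ⊣ R)
  (hR : ∀ (a : Λ) {X Y : D} (f : X ⟶ Y), R.map (a • f) = a • R.map f)

include hR in
theorem homEquiv_smul (a : Λ) {X : C} {Y : D} (φ : L.obj X ⟶ Y) :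
    adj.homEquiv X Y (a • φ) = a • adj.homEquiv X Y φ := by
  rw [Adjunction.homEquiv_unit, Adjunction.homEquiv_unit, hR, Linear.comp_smul]

include adj hR in
theorem map_smul_left (a : Λ) {X Y : C} (f : X ⟶ Y) : L.map (a • f) = a • L.map f := by
  apply (adj.homEquiv X (L.obj Y)).injective
  rw [homEquiv_smul adj hR, Adjunction.homEquiv_unit, Adjunction.homEquiv_unit,
    adj.unit_naturality, adj.unit_naturality, Linear.smul_comp]

include adj hR in
theorem isQuot_map (I : Ideal Λ) {X Q : C} (p : X ⟶ Q) (hp : ARSys.IsQuot I p) :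
    ARSys.IsQuot I (L.map p) := by
  obtain ⟨hk, hu⟩ := hp
  have hzero : ∀ {X Y : C}, L.map (0 : X ⟶ Y) = 0 := by
    intro X Y
    have h := map_smul_left adj hR (0 : Λ) (0 : X ⟶ Y)
    rw [zero_smul, zero_smul] at h
    exact h
  have hzeroE : ∀ {X : C} {Y : D}, adj.homEquiv X Y (0 : L.obj X ⟶ Y) = 0 := by
    intro X Y
    have h := homEquiv_smul adj hR (0 : Λ) (0 : L.obj X ⟶ Y)
    rw [zero_smul, zero_smul] at h
    exact h
  refine And.intro ?_ ?_
  · intro a ha
    have h1 : (a • 𝟙 (L.obj Q) : L.obj Q ⟶ L.obj Q) = L.map (a • 𝟙 Q) := by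
      rw [map_smul_left adj hR, L.map_id]
    rw [h1, hk a ha, hzero]
  · intro Y φ hφ
    have hφ' : ARSys.HomKilledBy I (adj.homEquiv X Y φ) := by
      intro a ha
      rw [← homEquiv_smul adj hR, hφ a ha, hzeroE]
    obtain ⟨ψ', hψ', huniq⟩ := hu (R.obj Y) (adj.homEquiv X Y φ) hφ'
    refine ExistsUnique.intro ((adj.homEquiv Q Y).symm ψ') ?_ ?_
    · show L.map p ≫ (adj.homEquiv Q Y).symm ψ' = φ
      rw [← Adjunction.homEquiv_naturality_left_symm, hψ', Equiv.symm_apply_apply]
    · intro ψ₂ hψ₂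
      have h2 : p ≫ adj.homEquiv Q Y ψ₂ = adj.homEquiv X Y φ := by
        rw [← Adjunction.homEquiv_naturality_left, hψ₂]
      have h3 := huniq _ h2
      rw [← h3, Equiv.symm_apply_apply]

end General

section Eps

universe u

variable (Λ : Type (u + 1)) [CommRing Λ] {U X : Scheme.{u}} (j : U ⟶ X) [WeaklyEtale j]
  (Je : U.Etale ⥤ X.Etale) (si : Je ⋙ ProEtS.eps X ≅ ProEtS.eps U ⋙ ProEtS.compP j)
  [Je.IsContinuous U.smallEtaleTopology X.smallEtaleTopology]
  [(Je.sheafPushforwardContinuous (ModuleCat.{u + 1} Λ) U.smallEtaleTopology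
    X.smallEtaleTopology).IsRightAdjoint]
  [ProEtS.EpsCont U] [ProEtS.EpsCont X] [ProEtS.JPCont j]

/-- `j_et^{-1} ε_* ≅ ε_* j_proet^{-1}` for sheaves of modules. -/
noncomputable def rightIsoMod :
    (ProEtS.eps X).sheafPushforwardContinuous (ModuleCat.{u + 1} Λ) X.smallEtaleTopology
        (Scheme.ProEt.topology X) ⋙
      Je.sheafPushforwardContinuous (ModuleCat.{u + 1} Λ) U.smallEtaleTopology
        X.smallEtaleTopology ≅
    (ProEtS.compP j).sheafPushforwardContinuous (ModuleCat.{u + 1} Λ) (Scheme.ProEt.topology U)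
        (Scheme.ProEt.topology X) ⋙
      (ProEtS.eps U).sheafPushforwardContinuous (ModuleCat.{u + 1} Λ) U.smallEtaleTopology
        (Scheme.ProEt.topology U) :=
  letI : (ProEtS.eps U ⋙ ProEtS.compP j).IsContinuous U.smallEtaleTopology
      (Scheme.ProEt.topology X) :=
    Functor.isContinuous_comp _ _ _ (Scheme.ProEt.topology U) _
  Functor.sheafPushforwardContinuousComp' (F := Je) (G := ProEtS.eps X)
      (FG := ProEtS.eps U ⋙ ProEtS.compP j) si (ModuleCat.{u + 1} Λ)
      U.smallEtaleTopology X.smallEtaleTopology (Scheme.ProEt.topology X) ≪≫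
    (Functor.sheafPushforwardContinuousComp (ProEtS.eps U) (ProEtS.compP j) (ModuleCat.{u + 1} Λ)
      U.smallEtaleTopology (Scheme.ProEt.topology U) (Scheme.ProEt.topology X)).symm

/-- `ε^{-1} j_! ≅ j_! ε^{-1}` for sheaves of modules. -/
noncomputable def leftIsoMod :
    Je.sheafPullback (ModuleCat.{u + 1} Λ) U.smallEtaleTopology X.smallEtaleTopology ⋙
      EtModW.epsPullMod Λ X ≅
    EtModW.epsPullMod Λ U ⋙ (ProEtS.compP j).sheafPullback (ModuleCat.{u + 1} Λ)
      (Scheme.ProEt.topology U) (Scheme.ProEt.topology X) :=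
  Adjunction.leftAdjointUniq
    ((Je.sheafAdjunctionContinuous (ModuleCat.{u + 1} Λ) U.smallEtaleTopology
        X.smallEtaleTopology).comp
      ((ProEtS.eps X).sheafAdjunctionContinuous (ModuleCat.{u + 1} Λ) X.smallEtaleTopology
        (Scheme.ProEt.topology X)))
    ((((ProEtS.eps U).sheafAdjunctionContinuous (ModuleCat.{u + 1} Λ) U.smallEtaleTopology
        (Scheme.ProEt.topology U)).comp
      ((ProEtS.compP j).sheafAdjunctionContinuous (ModuleCat.{u + 1} Λ) (Scheme.ProEt.topology U)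
        (Scheme.ProEt.topology X))).ofNatIsoRight (rightIsoMod Λ j Je si).symm)

end Eps

end Groth.Agent.Lib.Helper29.AdicShriek1
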