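import Mathlib
import Groth.Prelude.Def_ProEtS
import Groth.Prelude.Def_PBC
import Groth.Prelude.Def_EtModW
import Groth.Prelude.Def_ARSys
import Groth.Agent.S14017
import Groth.Agent.Lib.Helper29.Main7286
import Groth.Agent.Lib.Helper29.ProEtWC
import Groth.Agent.Lib.Helper29.AdicShriek1
import Groth.Agent.Lib.Helper29.AdicLim1

/-!
# The limit of an adic system of pro-étale sheaves of modules (helper29)

If `P` is an `I`-adic inverse system of pro-étale sheaves of `Λ`-modules (`I` finitely generated),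
the projections `lim P ⟶ P_n` are universal quotients modulo `I^(n+1)`.
-/

set_option autoImplicit false
set_option linter.style.haveILetI false
set_option linter.unusedSectionVars false
set_option maxHeartbeats 1600000

universe u

open CategoryTheory CategoryTheory.Limits AlgebraicGeometry Opposite

namespace Groth.Agent.Lib.Helper29.AdicLim2

open Groth.Agent.Lib.Helper29.AdicShriek1 Groth.Agent.Lib.Helper29.AdicLim1

variable (Λ : Type (u + 1)) [CommRing Λ]

set_option backward.isDefEq.respectTransparency.types false in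
/-- A morphism of pro-étale sheaves of modules vanishing on sections over affine w-contractible
objects is zero. -/
theorem hom_eq_zero_of_wc {X : Scheme.{u}} {A B : EtModW.ModP Λ X} (f : A ⟶ B)
    (h : ∀ (V : X.ProEt), IsAffine V.left → EtPBC.IsWContractible ↥(Γ(V.left, ⊤)) →
      ∀ z : A.obj.obj (op V), (f.hom.app (op V)).hom z = 0) : f = 0 := by
  apply Sheaf.hom_ext
  apply NatTrans.ext
  funext W
  apply ModuleCat.hom_ext
  apply LinearMap.ext
  intro s
  have h0 : (((0 : A ⟶ B).hom.app W).hom s) = 0 := rfl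
  rw [h0]
  have hsh : Presieve.IsSheaf (Scheme.ProEt.topology X)
      (B.obj ⋙ forget (ModuleCat.{u + 1} Λ)) :=
    (isSheaf_iff_isSheaf_of_type _ _).1
      ((Presheaf.isSheaf_iff_isSheaf_forget _ _ (forget (ModuleCat.{u + 1} Λ))).1 B.2)
  obtain ⟨I, V, g, hcov, hV⟩ := Groth.Agent.Lib.Helper29.Main7286.main7286 W.unop
  refine (hsh.isSeparated _ hcov).ext (fun Y k hk => ?_)
  obtain ⟨Y', a, b, ⟨i⟩, rfl⟩ := hk
  change B.obj.map (a ≫ g i).op ((f.hom.app W).hom s) = B.obj.map (a ≫ g i).op 0
  rw [op_comp, Functor.map_comp]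
  change B.obj.map a.op (B.obj.map (g i).op ((f.hom.app W).hom s)) = _
  have h1 := NatTrans.naturality_apply f.hom (g i).op s
  have h2 : B.obj.map (g i).op ((f.hom.app W).hom s) = 0 := by
    rw [← h (V i) (hV i).1 (hV i).2 (A.obj.map (g i).op s)]
    exact h1.symm
  rw [h2, map_zero, map_zero]

set_option backward.isDefEq.respectTransparency.types false in
/-- A morphism of pro-étale sheaves of modules surjective on sections over affine w-contractible
objects is an epimorphism. -/
theorem epi_of_surjective_on_wc {X : Scheme.{u}} {F G : EtModW.ModP Λ X} (φ : F ⟶ G)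
    (h : ∀ (V : X.ProEt), IsAffine V.left → EtPBC.IsWContractible ↥(Γ(V.left, ⊤)) →
      Function.Surjective (φ.hom.app (op V)).hom) : Epi φ := by
  haveI hsurj : Sheaf.IsLocallySurjective φ := by
    refine ⟨fun {W} s => ?_⟩
    obtain ⟨I, V, g, hcov, hV⟩ := Groth.Agent.Lib.Helper29.Main7286.main7286 W
    refine (Scheme.ProEt.topology X).superset_covering ?_ hcov
    rw [Sieve.generate_le_iff]
    rintro Y f ⟨i⟩
    obtain ⟨t, ht⟩ := (h (V i) (hV i).1 (hV i).2) (G.obj.map (g i).op s)
    exact ⟨t, ht⟩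
  exact Sheaf.epi_of_isLocallySurjective φ

set_option backward.isDefEq.respectTransparency.types false in
theorem isQuot_limit_π {X : Scheme.{u}} (I : Ideal Λ) (hI : I.FG) (P : ℕᵒᵖ ⥤ EtModW.ModP Λ X)
    (hP : ∀ (a b : ℕ) (h : a ≤ b), ARSys.IsQuot (I ^ (a + 1)) (P.map (homOfLE h).op)) (n : ℕ) :
    ARSys.IsQuot (I ^ (n + 1)) (limit.π P (op n)) := by
  have hsec : ∀ (V : X.ProEt), IsAffine V.left → EtPBC.IsWContractible ↥(Γ(V.left, ⊤)) →
      Function.Surjective ((limit.π P (op n)).hom.app (op V)).hom ∧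
      LinearMap.ker ((limit.π P (op n)).hom.app (op V)).hom =
        I ^ (n + 1) • (⊤ : Submodule Λ ((limit P).obj.obj (op V))) := by
    intro V hVa hVw
    haveI := hVa
    have hWC : ProEtS.IsWC V := Groth.Agent.Lib.Helper29.ProEtWC.wc_forward V hVw
    let E : EtModW.ModP Λ X ⥤ ModuleCat.{u + 1} Λ :=
      sheafToPresheaf (Scheme.ProEt.topology X) (ModuleCat.{u + 1} Λ) ⋙
        (evaluation _ _).obj (op V)
    have hc : IsLimit (E.mapCone (limit.cone P)) := isLimitOfPreserves E (limit.isLimit P)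
    exact adic_limit_cone I hI (P ⋙ E) (E.mapCone (limit.cone P)) hc
      (fun a b h => (Groth.Agent.S14017.result Λ (I ^ (a + 1)) hI.pow X _ _
        (P.map (homOfLE h).op) (hP a b h) V hWC).1)
      (fun a b h => (Groth.Agent.S14017.result Λ (I ^ (a + 1)) hI.pow X _ _
        (P.map (homOfLE h).op) (hP a b h) V hWC).2) n
  obtain ⟨hkilled, -⟩ := hP n n le_rfl
  refine And.intro hkilled ?_
  intro Y φ hφ
  haveI hepi : Epi (limit.π P (op n)) :=
    epi_of_surjective_on_wc Λ _ (fun V hVa hVw => (hsec V hVa hVw).1)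
  have hzero : kernel.ι (limit.π P (op n)) ≫ φ = 0 := by
    apply hom_eq_zero_of_wc
    intro V hVa hVw z
    have hxk : ((kernel.ι (limit.π P (op n))).hom.app (op V)).hom z ∈
        LinearMap.ker ((limit.π P (op n)).hom.app (op V)).hom := by
      rw [LinearMap.mem_ker]
      have e := congrArg (fun ψ => (ψ.hom.app (op V)).hom z)
        (kernel.condition (limit.π P (op n)))
      exact e
    rw [(hsec V hVa hVw).2] at hxk
    show (φ.hom.app (op V)).hom (((kernel.ι (limit.π P (op n))).hom.app (op V)).hom z) = 0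
    refine Submodule.smul_induction_on hxk ?_ ?_
    · intro a ha y _
      rw [map_smul]
      have e := congrArg (fun ψ => (ψ.hom.app (op V)).hom y) (hφ a ha)
      exact e
    · intro y1 y2 h1 h2
      rw [map_add, h1, h2, add_zero]
  have hcok : IsColimit (CokernelCofork.ofπ (limit.π P (op n))
      (KernelFork.condition (KernelFork.ofι (kernel.ι (limit.π P (op n)))
        (kernel.condition (limit.π P (op n)))))) :=
    Abelian.epiIsCokernelOfKernel _ (kernelIsKernel (limit.π P (op n)))
  obtain ⟨ψ, hψ⟩ := CokernelCofork.IsColimit.desc' hcok φ hzero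
  refine ExistsUnique.intro ψ hψ ?_
  intro ψ₂ hψ₂
  have h1 : limit.π P (op n) ≫ ψ₂ = limit.π P (op n) ≫ ψ := hψ₂.trans hψ.symm
  exact (cancel_epi (limit.π P (op n))).mp h1

set_option backward.isDefEq.respectTransparency.types false in
theorem epsPush_map_smul (X : Scheme.{u}) [ProEtS.EpsCont X] (a : Λ) {F G : EtModW.ModP Λ X}
    (f : F ⟶ G) :
    ((ProEtS.eps X).sheafPushforwardContinuous (ModuleCat.{u + 1} Λ) X.smallEtaleTopology
      (Scheme.ProEt.topology X)).map (a • f) =
    a • ((ProEtS.eps X).sheafPushforwardContinuous (ModuleCat.{u + 1} Λ) X.smallEtaleTopology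
      (Scheme.ProEt.topology X)).map f := by
  apply Sheaf.hom_ext
  apply NatTrans.ext
  funext V
  rfl

set_option backward.isDefEq.respectTransparency.types false in
theorem main14009 (I : Ideal Λ) (hI : I.FG)
    (X : Scheme.{u}) [ProEtS.EpsCont X]
    (G : ARSys.PS (EtModW.Mod Λ X)) (hG : ARSys.IsAdic I G) (n : ℕ) :
    ARSys.IsQuot (I ^ (n + 1)) (limit.π (G ⋙ EtModW.epsPullMod Λ X) (op n)) := by
  apply isQuot_limit_π Λ I hI (G ⋙ EtModW.epsPullMod Λ X)
  intro a b h
  exact isQuot_map ((ProEtS.eps X).sheafAdjunctionContinuous (ModuleCat.{u + 1} Λ)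
    X.smallEtaleTopology (Scheme.ProEt.topology X))
    (fun a {_ _} f => epsPush_map_smul Λ X a f) (I ^ (a + 1)) (G.map (homOfLE h).op) (hG.2 a b h)

end Groth.Agent.Lib.Helper29.AdicLim2
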