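import Mathlib
import Groth.Prelude.Def_ProEtS
import Groth.Prelude.Def_PBC
import Groth.Agent.Lib.Helper29.ProEtClopen

/-!
# Sections of `j_!` vanish on affine objects all of whose points specialize into the closed
complement (helper29)
-/

set_option autoImplicit false
set_option linter.style.haveILetI false
set_option linter.unusedSectionVars false
set_option maxHeartbeats 1600000

universe u

open CategoryTheory CategoryTheory.Limits AlgebraicGeometry Opposite

namespace Groth.Agent.Lib.Helper29.Main0732

open Groth.Agent.Lib.Helper5.ProEtQcqs Groth.Agent.Lib.Helper29.ProEtClopen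

set_option backward.isDefEq.respectTransparency.types false in
/-- A finite jointly surjective family of quasi-compact morphisms generates a covering sieve. -/
lemma finite_generate_mem {X : Scheme.{u}} (V : X.ProEt) {ι : Type*} [Finite ι]
    (W : ι → X.ProEt) (a : ∀ k, W k ⟶ V) (hqc : ∀ k, QuasiCompact (a k).left)
    (hsurj : ∀ x : V.left, ∃ k, ∃ y : (W k).left, (a k).left y = x) :
    Sieve.generate (Presieve.ofArrows W a) ∈ Scheme.ProEt.topology X V := by
  have hwe : ∀ k, WeaklyEtale (a k).left := fun k => by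
    haveI : WeaklyEtale ((a k).left ≫ V.hom) := by
      rw [MorphismProperty.Over.w (a k)]; infer_instance
    exact WeaklyEtale.of_comp (a k).left V.hom
  let 𝒞 : Scheme.Cover (Scheme.precoverage weMP.{u}) V.left :=
    Scheme.Cover.mkOfCovers ι (fun k => (W k).left) (fun k => (a k).left) hsurj hwe
  apply Precoverage.generate_mem_toGrothendieck
  change (Presieve.ofArrows W a).map (toSch X) ∈ Scheme.proetalePrecoverage V.left
  rw [Presieve.map_ofArrows]
  haveI : ∀ k, QuasiCompact (𝒞.f k) := hqc
  haveI : Finite 𝒞.I₀ := (inferInstance : Finite ι)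
  have hqc' : QuasiCompactCover 𝒞.toPreZeroHypercover := QuasiCompactCover.of_finite
  exact ⟨Scheme.presieve₀_mem_qcPrecoverage_iff.2 hqc', 𝒞.mem₀⟩

/-- The left Kan extension along `compP j` vanishes on objects admitting no morphism to an object
coming from `U`. -/
lemma subsingleton_lan {U X : Scheme.{u}} (j : U ⟶ X) [WeaklyEtale j]
    (P : U.ProEtᵒᵖ ⥤ AddCommGrpCat.{u + 1}) (W : X.ProEt)
    (hW : ∀ V' : U.ProEt, IsEmpty (W ⟶ (ProEtS.compP j).obj V')) :
    Subsingleton (((ProEtS.compP j).op.lan.obj P).obj (op W)) := by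
  haveI : IsEmpty (CostructuredArrow (ProEtS.compP j).op (op W)) :=
    ⟨fun c => (hW c.left.unop).false c.hom.unop⟩
  have hinit : IsInitial (colimit (CostructuredArrow.proj (ProEtS.compP j).op (op W) ⋙ P)) :=
    (isColimitEquivIsInitialOfIsEmpty _ _) (colimit.isColimit _)
  have hz : IsZero (colimit (CostructuredArrow.proj (ProEtS.compP j).op (op W) ⋙ P)) :=
    (isZero_zero _).of_iso (hinit.uniqueUpToIso HasZeroObject.zeroIsInitial)
  have hz' : IsZero (((ProEtS.compP j).op.lan.obj P).obj (op W)) :=
    hz.of_iso (Functor.leftKanExtensionObjIsoColimit (ProEtS.compP j).op P (op W))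
  exact AddCommGrpCat.subsingleton_of_isZero hz'

set_option backward.isDefEq.respectTransparency.types false in
theorem main0732 {U X Z : Scheme.{u}} (j : U ⟶ X) [WeaklyEtale j] (i : Z ⟶ X)
    [IsClosedImmersion i] (hUZ : Disjoint (Set.range j.base) (Set.range i.base)) [ProEtS.JPCont j]
    (V : X.ProEt) [IsAffine V.left]
    (hV : ∀ v : ↥V.left, ∃ z : ↥V.left, V.hom.base z ∈ Set.range i.base ∧ v ⤳ z)
    (F : ProEtS.AbP U) :
    Subsingleton (ProEtS.sectP ((ProEtS.extZeroP j).obj F) V) := by
  -- replace by the explicit construction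
  let e := (Functor.sheafPullbackConstruction.sheafPullbackIso (ProEtS.compP j)
    AddCommGrpCat.{u + 1} (Scheme.ProEt.topology U) (Scheme.ProEt.topology X)).app F
  let P : X.ProEtᵒᵖ ⥤ AddCommGrpCat.{u + 1} := (ProEtS.compP j).op.lan.obj F.obj
  let Gc : ProEtS.AbP X := (presheafToSheaf (Scheme.ProEt.topology X) AddCommGrpCat.{u + 1}).obj P
  let I := ((sheafToPresheaf (Scheme.ProEt.topology X) AddCommGrpCat.{u + 1}).mapIso e).app (op V)
  have hb : Function.Bijective (ConcreteCategory.hom I.hom) :=
    ConcreteCategory.bijective_of_isIso I.hom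
  suffices hGc : Subsingleton (Gc.obj.obj (op V)) from
    @Function.Injective.subsingleton _ _ _ hb.injective hGc
  let η : P ⟶ Gc.obj := toSheafify (Scheme.ProEt.topology X) P
  refine ⟨fun s s' => ?_⟩
  -- it suffices to treat differences; we show every section is zero
  suffices h0 : ∀ s : Gc.obj.obj (op V), s = 0 by rw [h0 s, h0 s']
  intro s
  have hmem : Presheaf.imageSieve η s ∈ Scheme.ProEt.topology X V :=
    Presheaf.imageSieve_mem (Scheme.ProEt.topology X) η (U := op V) s
  obtain ⟨n, W, a, haff, hcov, hmemS⟩ := exists_affine_refinement_fin V _ hmem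
  -- the members meeting the closed part
  let K₀ := {k : Fin n // ∃ w : ↥(W k).left, (W k).hom.base w ∈ Set.range i.base}
  have hwe : ∀ k, WeaklyEtale (a k).left := fun k => by
    haveI : WeaklyEtale ((a k).left ≫ V.hom) := by
      rw [MorphismProperty.Over.w (a k)]; infer_instance
    exact WeaklyEtale.of_comp (a k).left V.hom
  have hsurj : ∀ x : V.left, ∃ k : K₀, ∃ y : (W k.1).left, (a k.1).left y = x := by
    intro v
    obtain ⟨z, hz, hvz⟩ := hV v
    obtain ⟨k, w, hw⟩ := hcov z
    have hk : ∃ w : ↥(W k).left, (W k).hom.base w ∈ Set.range i.base := by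
      refine ⟨w, ?_⟩
      have h1 : (W k).hom = (a k).left ≫ V.hom := (MorphismProperty.Over.w (a k)).symm
      have h2 : (W k).hom.base w = V.hom.base ((a k).left w) := by
        rw [h1]; rfl
      rw [h2, hw]
      exact hz
    haveI := hwe k
    have hgen : GeneralizingMap (a k).left := Flat.generalizingMap (a k).left
    have hvz' : v ⤳ (a k).left w := by rw [hw]; exact hvz
    obtain ⟨w', -, hw'⟩ := hgen hvz'
    exact ⟨⟨k, hk⟩, w', hw'⟩
  have hcovK : Sieve.generate (Presieve.ofArrows (fun k : K₀ => W k.1) (fun k => a k.1)) ∈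
      Scheme.ProEt.topology X V := by
    apply finite_generate_mem V (fun k : K₀ => W k.1) (fun k => a k.1) _ hsurj
    intro k
    haveI := haff k.1
    infer_instance
  -- `s` vanishes on these members
  have hzero : ∀ k : K₀, Gc.obj.map (a k.1).op s = 0 := by
    intro k
    obtain ⟨t, ht⟩ := hmemS k.1
    obtain ⟨w, hw⟩ := k.2
    haveI : Subsingleton (P.obj (op (W k.1))) := by
      apply subsingleton_lan j F.obj (W k.1)
      intro V'
      refine ⟨fun g => ?_⟩
      have h1 : (W k.1).hom = g.left ≫ (V'.hom ≫ j) := (MorphismProperty.Over.w g).symm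
      have h2 : (W k.1).hom.base w = j.base ((g.left ≫ V'.hom).base w) := by
        rw [h1]; rfl
      have h3 : (W k.1).hom.base w ∈ Set.range j.base := ⟨_, h2.symm⟩
      exact Set.disjoint_left.mp hUZ h3 hw
    have ht0 : t = 0 := Subsingleton.elim _ _
    rw [← ht, ht0, map_zero]
  -- separatedness
  have hsh : Presieve.IsSheaf (Scheme.ProEt.topology X) (Gc.obj ⋙ forget AddCommGrpCat.{u + 1}) :=
    (isSheaf_iff_isSheaf_of_type _ _).1
      ((Presheaf.isSheaf_iff_isSheaf_forget _ _ (forget AddCommGrpCat.{u + 1})).1 Gc.2)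
  refine (hsh.isSeparated _ hcovK).ext (fun Y f hf => ?_)
  obtain ⟨Y', h, g, ⟨k⟩, rfl⟩ := hf
  change Gc.obj.map (h ≫ a k.1).op s = Gc.obj.map (h ≫ a k.1).op 0
  rw [op_comp, Functor.map_comp]
  change Gc.obj.map h.op (Gc.obj.map (a k.1).op s) = _
  rw [hzero k, map_zero, map_zero]

end Groth.Agent.Lib.Helper29.Main0732
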