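import Mathlib
import Groth.Prelude.Def_ProEtS
import Groth.Prelude.Def_PBC
import Groth.Prelude.Def_EtModW
import Groth.Agent.Lib.Helper29.ProEtClopen
import Groth.Agent.Lib.Helper29.Main0732
import Groth.Agent.Lib.Helper29.Main7286
import Groth.Agent.Lib.Helper15.ProEtRestr
import Groth.Agent.Lib.Helper15.ProEtCont

/-!
# Extension by zero of adic pro-étale sheaves of modules, part 2 (helper29)

Module-valued versions of: the unit of `j_! ⊣ j⁻¹` is an isomorphism for a monomorphism `j`,
the isomorphism criterion via affine w-contractible objects, and the vanishing of `j_!` on objects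
specializing out of the image.
-/

set_option autoImplicit false
set_option linter.style.haveILetI false
set_option linter.unusedSectionVars false
set_option maxHeartbeats 1600000

universe u

open CategoryTheory CategoryTheory.Limits AlgebraicGeometry Opposite

namespace Groth.Agent.Lib.Helper29.AdicShriek2

open Groth.Agent.Lib.Helper5.ProEtQcqs Groth.Agent.Lib.Helper29.ProEtClopen
  Groth.Agent.Lib.Helper29.Main0732 Groth.Agent.Lib.Helper15.ProEtRestr

variable (Λ : Type (u + 1)) [CommRing Λ]

section Defs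

variable {U X : Scheme.{u}} (j : U ⟶ X) [WeaklyEtale j] [ProEtS.JPCont j]

/-- `j_!` on pro-étale sheaves of modules. -/
noncomputable abbrev shriek : EtModW.ModP Λ U ⥤ EtModW.ModP Λ X :=
  (ProEtS.compP j).sheafPullback (ModuleCat.{u + 1} Λ) (Scheme.ProEt.topology U)
    (Scheme.ProEt.topology X)

/-- `j⁻¹` on pro-étale sheaves of modules. -/
noncomputable abbrev restr : EtModW.ModP Λ X ⥤ EtModW.ModP Λ U :=
  (ProEtS.compP j).sheafPushforwardContinuous (ModuleCat.{u + 1} Λ) (Scheme.ProEt.topology U)
    (Scheme.ProEt.topology X)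

/-- The adjunction `j_! ⊣ j⁻¹`. -/
noncomputable abbrev shriekAdj : shriek Λ j ⊣ restr Λ j :=
  (ProEtS.compP j).sheafAdjunctionContinuous (ModuleCat.{u + 1} Λ) (Scheme.ProEt.topology U)
    (Scheme.ProEt.topology X)

set_option backward.isDefEq.respectTransparency.types false in
theorem restr_map_smul (a : Λ) {F G : EtModW.ModP Λ X} (f : F ⟶ G) :
    (restr Λ j).map (a • f) = a • (restr Λ j).map f := by
  apply Sheaf.hom_ext
  apply NatTrans.ext
  funext V
  rfl

end Defs

section Unit

variable {U X : Scheme.{u}} (j : U ⟶ X) [hj : WeaklyEtale j] [ProEtS.JPCont j] [ProEtS.PCont j]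

/-- `j⁻¹` (restriction) is left adjoint to `j_*`. -/
noncomputable def restrPushAdjMod : restr Λ j ⊣
    (ProEtS.bcP j).sheafPushforwardContinuous (ModuleCat.{u + 1} Λ) (Scheme.ProEt.topology X)
      (Scheme.ProEt.topology U) :=
  (adjSitesP j).sheafPushforwardContinuous (E := ModuleCat.{u + 1} Λ) (Scheme.ProEt.topology U)
    (Scheme.ProEt.topology X)

variable [Mono j]

/-- For a monomorphism `j`, `j⁻¹ j_* ≅ id`. -/
noncomputable def pushRestrIsoMod :
    (ProEtS.bcP j).sheafPushforwardContinuous (ModuleCat.{u + 1} Λ) (Scheme.ProEt.topology X)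
      (Scheme.ProEt.topology U) ⋙ restr Λ j ≅ 𝟭 (EtModW.ModP Λ U) :=
  letI := Functor.isContinuous_comp (ProEtS.compP j) (ProEtS.bcP j) (Scheme.ProEt.topology U)
    (Scheme.ProEt.topology X) (Scheme.ProEt.topology U)
  Functor.sheafPushforwardContinuousComp (ProEtS.compP j) (ProEtS.bcP j) (ModuleCat.{u + 1} Λ)
      (Scheme.ProEt.topology U) (Scheme.ProEt.topology X) (Scheme.ProEt.topology U) ≪≫
    Functor.sheafPushforwardContinuousId' (asIso (adjSitesP j).unit).symm (ModuleCat.{u + 1} Λ)
      (Scheme.ProEt.topology U)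

theorem isIso_counit_restrPushMod : IsIso (restrPushAdjMod Λ j).counit :=
  (restrPushAdjMod Λ j).isIso_counit_of_iso (pushRestrIsoMod Λ j)

theorem isIso_unit_shriekAdj : IsIso (shriekAdj Λ j).unit :=
  haveI := isIso_counit_restrPushMod Λ j
  (Adjunction.Triple.isIso_unit_iff_isIso_counit
    (⟨shriekAdj Λ j, restrPushAdjMod Λ j⟩ : Adjunction.Triple _ _ _)).2 inferInstance

end Unit

set_option backward.isDefEq.respectTransparency.types false in
/-- A morphism of pro-étale sheaves of modules which is bijective on sections over affine objects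
with w-contractible ring of functions is an isomorphism. -/
theorem isIso_of_bijective_on_wc {X : Scheme.{u}} {F G : EtModW.ModP Λ X} (φ : F ⟶ G)
    (h : ∀ (V : X.ProEt), IsAffine V.left → EtPBC.IsWContractible ↥(Γ(V.left, ⊤)) →
      Function.Bijective (φ.hom.app (op V))) : IsIso φ := by
  haveI hinj : Sheaf.IsLocallyInjective φ := by
    refine ⟨fun {W} x y hxy => ?_⟩
    obtain ⟨I, V, g, hcov, hV⟩ := Groth.Agent.Lib.Helper29.Main7286.main7286 W.unop
    refine (Scheme.ProEt.topology X).superset_covering ?_ hcov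
    rw [Sieve.generate_le_iff]
    rintro Y f ⟨i⟩
    show F.obj.map (g i).op x = F.obj.map (g i).op y
    apply (h (V i) (hV i).1 (hV i).2).1
    have h1 := NatTrans.naturality_apply φ.hom (g i).op x
    have h2 := NatTrans.naturality_apply φ.hom (g i).op y
    rw [h1, h2, hxy]
  haveI hsurj : Sheaf.IsLocallySurjective φ := by
    refine ⟨fun {W} s => ?_⟩
    obtain ⟨I, V, g, hcov, hV⟩ := Groth.Agent.Lib.Helper29.Main7286.main7286 W
    refine (Scheme.ProEt.topology X).superset_covering ?_ hcov
    rw [Sieve.generate_le_iff]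
    rintro Y f ⟨i⟩
    obtain ⟨t, ht⟩ := (h (V i) (hV i).1 (hV i).2).2 (G.obj.map (g i).op s)
    exact ⟨t, ht⟩
  haveI : Mono φ := Sheaf.mono_of_isLocallyInjective φ
  haveI : Epi φ := Sheaf.epi_of_isLocallySurjective φ
  exact isIso_of_mono_of_epi φ

/-- The left Kan extension along `compP j` vanishes on objects admitting no morphism to an object
coming from `U`. -/
lemma subsingleton_lan {U X : Scheme.{u}} (j : U ⟶ X) [WeaklyEtale j]
    (P : U.ProEtᵒᵖ ⥤ ModuleCat.{u + 1} Λ) (W : X.ProEt)
    (hW : ∀ V' : U.ProEt, IsEmpty (W ⟶ (ProEtS.compP j).obj V')) :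
    Subsingleton (((ProEtS.compP j).op.lan.obj P).obj (op W)) := by
  haveI : IsEmpty (CostructuredArrow (ProEtS.compP j).op (op W)) :=
    ⟨fun c => (hW c.left.unop).false c.hom.unop⟩
  have hinit : IsInitial (colimit (CostructuredArrow.proj (ProEtS.compP j).op (op W) ⋙ P)) :=
    (isColimitEquivIsInitialOfIsEmpty _ _) (colimit.isColimit _)
  have hz : IsZero (colimit (CostructuredArrow.proj (ProEtS.compP j).op (op W) ⋙ P)) :=
    (isZero_zero _).of_iso (hinit.uniqueUpToIso HasZeroObject.zeroIsInitial)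
  have hz' : IsZero (((ProEtS.compP j).op.lan.obj P).obj (op W)) :=
    hz.of_iso (Functor.leftKanExtensionObjIsoColimit (ProEtS.compP j).op P (op W))
  exact ModuleCat.subsingleton_of_isZero hz'

set_option backward.isDefEq.respectTransparency.types false in
/-- Sections of `j_!` vanish on quasi-compact quasi-separated objects all of whose points
specialize to a point outside the image of `j`. -/
theorem vanish {U X : Scheme.{u}} (j : U ⟶ X) [WeaklyEtale j] [ProEtS.JPCont j]
    (V : X.ProEt) [CompactSpace V.left] [QuasiSeparatedSpace V.left]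
    (hV : ∀ v : ↥V.left, ∃ z : ↥V.left, V.hom.base z ∉ Set.range j.base ∧ v ⤳ z)
    (F : EtModW.ModP Λ U) :
    Subsingleton (((shriek Λ j).obj F).obj.obj (op V)) := by
  let e := (Functor.sheafPullbackConstruction.sheafPullbackIso (ProEtS.compP j)
    (ModuleCat.{u + 1} Λ) (Scheme.ProEt.topology U) (Scheme.ProEt.topology X)).app F
  let P : X.ProEtᵒᵖ ⥤ ModuleCat.{u + 1} Λ := (ProEtS.compP j).op.lan.obj F.obj
  let Gc : EtModW.ModP Λ X :=
    (presheafToSheaf (Scheme.ProEt.topology X) (ModuleCat.{u + 1} Λ)).obj P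
  let I := ((sheafToPresheaf (Scheme.ProEt.topology X) (ModuleCat.{u + 1} Λ)).mapIso e).app (op V)
  have hb : Function.Bijective (ConcreteCategory.hom I.hom) :=
    ConcreteCategory.bijective_of_isIso I.hom
  suffices hGc : Subsingleton (Gc.obj.obj (op V)) from
    @Function.Injective.subsingleton _ _ _ hb.injective hGc
  let η : P ⟶ Gc.obj := toSheafify (Scheme.ProEt.topology X) P
  refine ⟨fun s s' => ?_⟩
  suffices h0 : ∀ s : Gc.obj.obj (op V), s = 0 by rw [h0 s, h0 s']
  intro s
  have hmem : Presheaf.imageSieve η s ∈ Scheme.ProEt.topology X V :=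
    Presheaf.imageSieve_mem (Scheme.ProEt.topology X) η (U := op V) s
  obtain ⟨n, W, a, haff, hcov, hmemS⟩ := exists_affine_refinement_fin V _ hmem
  let K₀ := {k : Fin n // ∃ w : ↥(W k).left, (W k).hom.base w ∉ Set.range j.base}
  have hwe : ∀ k, WeaklyEtale (a k).left := fun k => by
    haveI : WeaklyEtale ((a k).left ≫ V.hom) := by
      rw [MorphismProperty.Over.w (a k)]; infer_instance
    exact WeaklyEtale.of_comp (a k).left V.hom
  have hsurj : ∀ x : V.left, ∃ k : K₀, ∃ y : (W k.1).left, (a k.1).left y = x := by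
    intro v
    obtain ⟨z, hz, hvz⟩ := hV v
    obtain ⟨k, w, hw⟩ := hcov z
    have hk : ∃ w : ↥(W k).left, (W k).hom.base w ∉ Set.range j.base := by
      refine ⟨w, ?_⟩
      have h1 : (W k).hom = (a k).left ≫ V.hom := (MorphismProperty.Over.w (a k)).symm
      have h2 : (W k).hom.base w = V.hom.base ((a k).left w) := by
        rw [h1]; rfl
      rw [h2, hw]
      exact hz
    haveI := hwe k
    have hgen : GeneralizingMap (a k).left := Flat.generalizingMap (a k).left
    have hvz' : v ⤳ (a k).left w := by rw [hw]; exact hvz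
    obtain ⟨w', -, hw'⟩ := hgen hvz'
    exact ⟨⟨k, hk⟩, w', hw'⟩
  have hcovK : Sieve.generate (Presieve.ofArrows (fun k : K₀ => W k.1) (fun k => a k.1)) ∈
      Scheme.ProEt.topology X V := by
    apply finite_generate_mem V (fun k : K₀ => W k.1) (fun k => a k.1) _ hsurj
    intro k
    haveI := haff k.1
    exact quasiCompact_of_compactSpace (a k.1).left
  have hzero : ∀ k : K₀, Gc.obj.map (a k.1).op s = 0 := by
    intro k
    obtain ⟨t, ht⟩ := hmemS k.1
    obtain ⟨w, hw⟩ := k.2
    haveI : Subsingleton (P.obj (op (W k.1))) := by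
      apply subsingleton_lan Λ j F.obj (W k.1)
      intro V'
      refine ⟨fun g => ?_⟩
      have h1 : (W k.1).hom = g.left ≫ (V'.hom ≫ j) := (MorphismProperty.Over.w g).symm
      have h2 : (W k.1).hom.base w = j.base ((g.left ≫ V'.hom).base w) := by
        rw [h1]; rfl
      have h3 : (W k.1).hom.base w ∈ Set.range j.base := ⟨_, h2.symm⟩
      exact hw h3
    have ht0 : t = 0 := Subsingleton.elim _ _
    rw [← ht, ht0, map_zero]
  have hsh : Presieve.IsSheaf (Scheme.ProEt.topology X)
      (Gc.obj ⋙ forget (ModuleCat.{u + 1} Λ)) :=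
    (isSheaf_iff_isSheaf_of_type _ _).1
      ((Presheaf.isSheaf_iff_isSheaf_forget _ _ (forget (ModuleCat.{u + 1} Λ))).1 Gc.2)
  refine (hsh.isSeparated _ hcovK).ext (fun Y f hf => ?_)
  obtain ⟨Y', h, g, ⟨k⟩, rfl⟩ := hf
  change Gc.obj.map (h ≫ a k.1).op s = Gc.obj.map (h ≫ a k.1).op 0
  rw [op_comp, Functor.map_comp]
  change Gc.obj.map h.op (Gc.obj.map (a k.1).op s) = _
  rw [hzero k, map_zero, map_zero]

end Groth.Agent.Lib.Helper29.AdicShriek2
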