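import Mathlib
import Groth.Prelude.Def_ProEtS
import Groth.Prelude.Def_PBC
import Groth.Agent.Lib.Helper29.ProEtClopen
import Groth.Agent.Lib.Helper29.Main0732
import Groth.Agent.Lib.Helper29.Main7286

/-!
# `j_!` commutes with limits for quasi-compact open immersions, part 1 (helper29)

Site-level generalities: an isomorphism criterion via affine w-contractible objects, vanishing of
`j_!` on objects specializing out of the image, and gluing over a two-piece clopen decomposition.
-/

set_option autoImplicit false
set_option linter.style.haveILetI false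
set_option linter.unusedSectionVars false
set_option maxHeartbeats 1600000

universe u w

open CategoryTheory CategoryTheory.Limits AlgebraicGeometry Opposite

namespace Groth.Agent.Lib.Helper29.ExtZeroLim1

open Groth.Agent.Lib.Helper5.ProEtQcqs Groth.Agent.Lib.Helper29.ProEtClopen
  Groth.Agent.Lib.Helper29.Main0732

set_option backward.isDefEq.respectTransparency.types false in
/-- A morphism of abelian pro-étale sheaves which is bijective on sections over affine objects with
w-contractible ring of functions is an isomorphism. -/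
theorem isIso_of_bijective_on_wc {X : Scheme.{u}} {F G : ProEtS.AbP X} (φ : F ⟶ G)
    (h : ∀ (V : X.ProEt), IsAffine V.left → EtPBC.IsWContractible ↥(Γ(V.left, ⊤)) →
      Function.Bijective (φ.hom.app (op V))) : IsIso φ := by
  haveI hinj : Sheaf.IsLocallyInjective φ := by
    refine ⟨fun {W} x y hxy => ?_⟩
    obtain ⟨I, V, g, hcov, hV⟩ := Groth.Agent.Lib.Helper29.Main7286.main7286 W.unop
    refine (Scheme.ProEt.topology X).superset_covering ?_ hcov
    rw [Sieve.generate_le_iff]
    rintro Y f ⟨i⟩
    show F.obj.map (g i).op x = F.obj.map (g i).op y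
    apply (h (V i) (hV i).1 (hV i).2).1
    have h1 := NatTrans.naturality_apply φ.hom (g i).op x
    have h2 := NatTrans.naturality_apply φ.hom (g i).op y
    rw [h1, h2, hxy]
  haveI hsurj : Sheaf.IsLocallySurjective φ := by
    refine ⟨fun {W} s => ?_⟩
    obtain ⟨I, V, g, hcov, hV⟩ := Groth.Agent.Lib.Helper29.Main7286.main7286 W
    refine (Scheme.ProEt.topology X).superset_covering ?_ hcov
    rw [Sieve.generate_le_iff]
    rintro Y f ⟨i⟩
    obtain ⟨t, ht⟩ := (h (V i) (hV i).1 (hV i).2).2 (G.obj.map (g i).op s)
    exact ⟨t, ht⟩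
  haveI : Mono φ := Sheaf.mono_of_isLocallyInjective φ
  haveI : Epi φ := (Sheaf.isLocallySurjective_iff_epi' AddCommGrpCat.{u + 1} φ).mp hsurj
  exact isIso_of_mono_of_epi φ

set_option backward.isDefEq.respectTransparency.types false in
/-- Sections of `j_!` vanish on quasi-compact quasi-separated objects all of whose points
specialize to a point outside the image of `j`. -/
theorem vanish {U X : Scheme.{u}} (j : U ⟶ X) [WeaklyEtale j] [ProEtS.JPCont j]
    (V : X.ProEt) [CompactSpace V.left] [QuasiSeparatedSpace V.left]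
    (hV : ∀ v : ↥V.left, ∃ z : ↥V.left, V.hom.base z ∉ Set.range j.base ∧ v ⤳ z)
    (F : ProEtS.AbP U) :
    Subsingleton (((ProEtS.extZeroP j).obj F).obj.obj (op V)) := by
  let e := (Functor.sheafPullbackConstruction.sheafPullbackIso (ProEtS.compP j)
    AddCommGrpCat.{u + 1} (Scheme.ProEt.topology U) (Scheme.ProEt.topology X)).app F
  let P : X.ProEtᵒᵖ ⥤ AddCommGrpCat.{u + 1} := (ProEtS.compP j).op.lan.obj F.obj
  let Gc : ProEtS.AbP X := (presheafToSheaf (Scheme.ProEt.topology X) AddCommGrpCat.{u + 1}).obj P
  let I := ((sheafToPresheaf (Scheme.ProEt.topology X) AddCommGrpCat.{u + 1}).mapIso e).app (op V)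
  have hb : Function.Bijective (ConcreteCategory.hom I.hom) :=
    ConcreteCategory.bijective_of_isIso I.hom
  suffices hGc : Subsingleton (Gc.obj.obj (op V)) from
    @Function.Injective.subsingleton _ _ _ hb.injective hGc
  let η : P ⟶ Gc.obj := toSheafify (Scheme.ProEt.topology X) P
  refine ⟨fun s s' => ?_⟩
  suffices h0 : ∀ s : Gc.obj.obj (op V), s = 0 by rw [h0 s, h0 s']
  intro s
  have hmem : Presheaf.imageSieve η s ∈ Scheme.ProEt.topology X V :=
    Presheaf.imageSieve_mem (Scheme.ProEt.topology X) η (U := op V) s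
  obtain ⟨n, W, a, haff, hcov, hmemS⟩ := exists_affine_refinement_fin V _ hmem
  let K₀ := {k : Fin n // ∃ w : ↥(W k).left, (W k).hom.base w ∉ Set.range j.base}
  have hwe : ∀ k, WeaklyEtale (a k).left := fun k => by
    haveI : WeaklyEtale ((a k).left ≫ V.hom) := by
      rw [MorphismProperty.Over.w (a k)]; infer_instance
    exact WeaklyEtale.of_comp (a k).left V.hom
  have hsurj : ∀ x : V.left, ∃ k : K₀, ∃ y : (W k.1).left, (a k.1).left y = x := by
    intro v
    obtain ⟨z, hz, hvz⟩ := hV v
    obtain ⟨k, w, hw⟩ := hcov z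
    have hk : ∃ w : ↥(W k).left, (W k).hom.base w ∉ Set.range j.base := by
      refine ⟨w, ?_⟩
      have h1 : (W k).hom = (a k).left ≫ V.hom := (MorphismProperty.Over.w (a k)).symm
      have h2 : (W k).hom.base w = V.hom.base ((a k).left w) := by
        rw [h1]; rfl
      rw [h2, hw]
      exact hz
    haveI := hwe k
    have hgen : GeneralizingMap (a k).left := Flat.generalizingMap (a k).left
    have hvz' : v ⤳ (a k).left w := by rw [hw]; exact hvz
    obtain ⟨w', -, hw'⟩ := hgen hvz'
    exact ⟨⟨k, hk⟩, w', hw'⟩
  have hcovK : Sieve.generate (Presieve.ofArrows (fun k : K₀ => W k.1) (fun k => a k.1)) ∈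
      Scheme.ProEt.topology X V := by
    apply finite_generate_mem V (fun k : K₀ => W k.1) (fun k => a k.1) _ hsurj
    intro k
    haveI := haff k.1
    exact quasiCompact_of_compactSpace (a k.1).left
  have hzero : ∀ k : K₀, Gc.obj.map (a k.1).op s = 0 := by
    intro k
    obtain ⟨t, ht⟩ := hmemS k.1
    obtain ⟨w, hw⟩ := k.2
    haveI : Subsingleton (P.obj (op (W k.1))) := by
      apply subsingleton_lan j F.obj (W k.1)
      intro V'
      refine ⟨fun g => ?_⟩
      have h1 : (W k.1).hom = g.left ≫ (V'.hom ≫ j) := (MorphismProperty.Over.w g).symm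
      have h2 : (W k.1).hom.base w = j.base ((g.left ≫ V'.hom).base w) := by
        rw [h1]; rfl
      have h3 : (W k.1).hom.base w ∈ Set.range j.base := ⟨_, h2.symm⟩
      exact hw h3
    have ht0 : t = 0 := Subsingleton.elim _ _
    rw [← ht, ht0, map_zero]
  have hsh : Presieve.IsSheaf (Scheme.ProEt.topology X) (Gc.obj ⋙ forget AddCommGrpCat.{u + 1}) :=
    (isSheaf_iff_isSheaf_of_type _ _).1
      ((Presheaf.isSheaf_iff_isSheaf_forget _ _ (forget AddCommGrpCat.{u + 1})).1 Gc.2)
  refine (hsh.isSeparated _ hcovK).ext (fun Y f hf => ?_)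
  obtain ⟨Y', h, g, ⟨k⟩, rfl⟩ := hf
  change Gc.obj.map (h ≫ a k.1).op s = Gc.obj.map (h ≫ a k.1).op 0
  rw [op_comp, Functor.map_comp]
  change Gc.obj.map h.op (Gc.obj.map (a k.1).op s) = _
  rw [hzero k, map_zero, map_zero]

set_option backward.isDefEq.respectTransparency.types false in
/-- Gluing over a two-piece decomposition: if `V` is the disjoint union of (the images of) `A` and
`B` and the sheaf has exactly one section over `B`, restriction to `A` is bijective. -/
theorem bijective_restrict {X : Scheme.{u}} {P : X.ProEtᵒᵖ ⥤ Type w}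
    (hP : Presieve.IsSheaf (Scheme.ProEt.topology X) P)
    {V A B : X.ProEt} (a : A ⟶ V) (b : B ⟶ V) [Mono a.left] [Mono b.left]
    (hqa : QuasiCompact a.left) (hqb : QuasiCompact b.left)
    (hsurj : ∀ x : V.left, (∃ y, a.left y = x) ∨ (∃ y, b.left y = x))
    (hdisj : ∀ (y : A.left) (y' : B.left), a.left y ≠ b.left y')
    [Subsingleton (P.obj (op B))] (t₀ : P.obj (op B)) :
    Function.Bijective (P.map a.op) := by
  let Wf : Bool → X.ProEt := fun k => bif k then A else B
  let af : ∀ k, Wf k ⟶ V := fun k => match k with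
    | true => a
    | false => b
  have hmono : ∀ k, Mono (af k).left := fun k => by
    cases k
    · exact (inferInstance : Mono b.left)
    · exact (inferInstance : Mono a.left)
  have hcov : Sieve.generate (Presieve.ofArrows Wf af) ∈ Scheme.ProEt.topology X V := by
    apply finite_generate_mem V Wf af
    · intro k
      cases k
      · exact hqb
      · exact hqa
    · intro x
      rcases hsurj x with ⟨y, hy⟩ | ⟨y, hy⟩
      · exact ⟨true, y, hy⟩
      · exact ⟨false, y, hy⟩
  have hPf : Presieve.IsSheafFor P (Presieve.ofArrows Wf af) :=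
    (Presieve.isSheafFor_iff_generate _).mpr (hP _ hcov)
  have hempty : ∀ (Z : X.ProEt) (gi : Z ⟶ A) (gj : Z ⟶ B), gi ≫ a = gj ≫ b →
      ∀ (x y : P.obj (op Z)), x = y := by
    intro Z gi gj hij x y
    haveI : IsEmpty Z.left := by
      refine ⟨fun z => ?_⟩
      have h1 : gi.left ≫ a.left = gj.left ≫ b.left := congrArg (fun t => t.left) hij
      have h2 : a.left (gi.left z) = b.left (gj.left z) := by
        rw [← Scheme.Hom.comp_apply, ← Scheme.Hom.comp_apply, h1]
      exact hdisj _ _ h2
    have hbot : (⊥ : Sieve Z) ∈ Scheme.ProEt.topology X Z := Scheme.ProEt.bot_mem_topology Z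
    exact (hP.isSeparated _ hbot).ext (fun Y f hf => False.elim hf)
  constructor
  · intro s s' hss
    refine hPf.isSeparatedFor.ext (fun Y f hf => ?_)
    obtain ⟨k⟩ := hf
    cases k
    · exact @Subsingleton.elim (P.obj (op B)) _ _ _
    · exact hss
  · intro t
    let sk : ∀ k, P.obj (op (Wf k)) := fun k => match k with
      | true => t
      | false => t₀
    have hcompat : Presieve.Arrows.Compatible P af sk := by
      intro i j Z gi gj hij
      cases i <;> cases j
      · have hgg : gi = gj := by
          apply MorphismProperty.Over.Hom.ext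
          have h1 : gi.left ≫ b.left = gj.left ≫ b.left := congrArg (fun t => t.left) hij
          exact (cancel_mono b.left).mp h1
        rw [hgg]
      · exact hempty Z gj gi hij.symm _ _
      · exact hempty Z gi gj hij _ _
      · have hgg : gi = gj := by
          apply MorphismProperty.Over.Hom.ext
          have h1 : gi.left ≫ a.left = gj.left ≫ a.left := congrArg (fun t => t.left) hij
          exact (cancel_mono a.left).mp h1
        rw [hgg]
    obtain ⟨s, hs, -⟩ := (Presieve.isSheafFor_arrows_iff _ _).mp hPf sk hcompat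
    exact ⟨s, hs true⟩

end Groth.Agent.Lib.Helper29.ExtZeroLim1
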