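import Mathlib
import Groth.Agent.Lib.Helper29.Main0677
import Groth.Agent.Lib.Helper8.HenselQuot

/-!
# Quotients of w-contractible rings by ideals with quasi-compact open complement (helper29)
-/

set_option autoImplicit false
set_option linter.style.haveILetI false
set_option linter.unusedSectionVars false
set_option maxHeartbeats 1600000

universe u

open Groth.Agent.Lib.Helper29.ThetaHom Groth.Agent.Lib.Helper29.Main0700
  Groth.Agent.Lib.Helper29.WLocalIso

namespace Groth.Agent.Lib.Helper29.Quot0722

/-- A nontrivial quotient of a strictly henselian local ring is strictly henselian. -/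
theorem strictlyHenselian_of_surjective {R S : Type u} [CommRing R] [CommRing S] [Nontrivial S]
    (ψ : R →+* S) (hψ : Function.Surjective ψ) (h : EtCoh.IsStrictlyHenselianLocalRing R) :
    EtCoh.IsStrictlyHenselianLocalRing S := by
  obtain ⟨hH, hsc⟩ := h
  haveI := hH
  haveI := hsc
  have hJ : RingHom.ker ψ ≠ ⊤ := RingHom.ker_ne_top ψ
  haveI hQ : HenselianLocalRing (R ⧸ RingHom.ker ψ) :=
    Groth.Agent.Lib.Helper8.henselianLocalRing_quotient R _ hJ
  haveI hloc : IsLocalHom (Ideal.Quotient.mk (RingHom.ker ψ)) :=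
    Groth.Agent.Lib.Helper8.isLocalHom_quotient_mk R _ hJ
  have hbij : Function.Bijective
      (IsLocalRing.ResidueField.map (Ideal.Quotient.mk (RingHom.ker ψ))) := by
    refine ⟨RingHom.injective _, fun x => ?_⟩
    obtain ⟨y, rfl⟩ := IsLocalRing.residue_surjective x
    obtain ⟨z, rfl⟩ := Ideal.Quotient.mk_surjective y
    exact ⟨IsLocalRing.residue R z, rfl⟩
  haveI : IsSepClosed (IsLocalRing.ResidueField (R ⧸ RingHom.ker ψ)) :=
    Groth.Agent.Lib.Helper29.Aux0692.isSepClosed_of_ringEquiv (RingEquiv.ofBijective _ hbij)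
  exact Groth.Agent.Lib.Helper29.Aux0692.strictlyHenselian_of_ringEquiv
    (RingHom.quotientKerEquivOfSurjective hψ) ⟨hQ, inferInstance⟩

section

variable {A B : Type u} [CommRing A] [CommRing B] (φ : A →+* B) (hφ : Function.Surjective φ)

include hφ

theorem surjective_localRingHom (n : Ideal B) [n.IsPrime] :
    Function.Surjective (Localization.localRingHom (n.comap φ) n φ rfl) := by
  intro z
  obtain ⟨b, s, rfl⟩ := IsLocalization.exists_mk'_eq n.primeCompl z
  obtain ⟨a, rfl⟩ := hφ b
  obtain ⟨t, ht⟩ := hφ s.1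
  have htm : t ∈ (n.comap φ).primeCompl := by
    intro hmem
    apply s.2
    rw [← ht]
    exact hmem
  refine ⟨IsLocalization.mk' _ a ⟨t, htm⟩, ?_⟩
  rw [Localization.localRingHom_mk']
  congr 1
  exact Subtype.ext ht

theorem strictlyHenselian_localization
    (hA : ∀ (m : Ideal A) [m.IsMaximal],
      EtCoh.IsStrictlyHenselianLocalRing (Localization.AtPrime m))
    (n : Ideal B) [hn : n.IsMaximal] :
    EtCoh.IsStrictlyHenselianLocalRing (Localization.AtPrime n) := by
  haveI : (n.comap φ).IsMaximal := Ideal.comap_isMaximal_of_surjective φ hφ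
  exact strictlyHenselian_of_surjective _ (surjective_localRingHom φ hφ n) (hA (n.comap φ))

theorem extrDisc (hA : ProEtW.IsWLocal (PrimeSpectrum A))
    (hED : ExtremallyDisconnected (TB A))
    (hK : IsCompact (Set.range (PrimeSpectrum.comap φ))ᶜ) :
    ExtremallyDisconnected (TB B) := by
  have hemb := PrimeSpectrum.isClosedEmbedding_comap_of_surjective _ φ hφ
  have hB : ProEtW.IsWLocal (PrimeSpectrum B) :=
    Groth.Agent.Lib.Helper29.Main0678.isWLocal_of_isClosedEmbedding hA _ hemb
  have hcc : Continuous (PrimeSpectrum.comap φ) := hemb.continuous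
  have hpt : ∀ y : PrimeSpectrum B, IsClosed ({y} : Set (PrimeSpectrum B)) →
      IsClosed ({PrimeSpectrum.comap φ y} : Set (PrimeSpectrum A)) := by
    intro y hy
    have := (hemb.isClosed_iff_image_isClosed).mp hy
    rwa [Set.image_singleton] at this
  have hbijA := wlocal_bij (PrimeSpectrum A) hA.2.1 hA.2.2
  -- the induced map on connected components
  have hqc : Continuous hcc.connectedComponentsMap := hcc.connectedComponentsMap_continuous
  have hqmk : ∀ y : PrimeSpectrum B, hcc.connectedComponentsMap (_root_.ConnectedComponents.mk y) =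
      _root_.ConnectedComponents.mk (PrimeSpectrum.comap φ y) := fun y => rfl
  have hinj : Function.Injective hcc.connectedComponentsMap := by
    intro t₁ t₂ h12
    rw [← mk_cp B hB t₁, ← mk_cp B hB t₂, hqmk, hqmk] at h12
    have h1 := hpt _ (cp_closed B hB t₁)
    have h2 := hpt _ (cp_closed B hB t₂)
    have h3 : (⟨_, h1⟩ : {x : PrimeSpectrum A // IsClosed ({x} : Set (PrimeSpectrum A))}) =
        ⟨_, h2⟩ := hbijA.1 h12
    have h4 : PrimeSpectrum.comap φ (cp B hB t₁) = PrimeSpectrum.comap φ (cp B hB t₂) :=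
      congrArg Subtype.val h3
    have h5 := hemb.injective h4
    rw [← mk_cp B hB t₁, ← mk_cp B hB t₂, h5]
  have hrange : (Set.range hcc.connectedComponentsMap)ᶜ =
      _root_.ConnectedComponents.mk ''
        ((Set.range (PrimeSpectrum.comap φ))ᶜ ∩
          {x : PrimeSpectrum A | IsClosed ({x} : Set (PrimeSpectrum A))}) := by
    ext t
    constructor
    · intro ht
      refine ⟨cp A hA t, ⟨?_, cp_closed A hA t⟩, mk_cp A hA t⟩
      rintro ⟨y, hy⟩
      apply ht
      refine ⟨_root_.ConnectedComponents.mk y, ?_⟩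
      rw [hqmk, hy, mk_cp]
    · rintro ⟨x, ⟨hxD, hxc⟩, rfl⟩ ⟨t', ht'⟩
      apply hxD
      rw [← mk_cp B hB t', hqmk] at ht'
      have h1 := hpt _ (cp_closed B hB t')
      have h3 : (⟨_, h1⟩ : {x : PrimeSpectrum A // IsClosed ({x} : Set (PrimeSpectrum A))}) =
          ⟨x, hxc⟩ := hbijA.1 ht'
      exact ⟨cp B hB t', congrArg Subtype.val h3⟩
  have hopen : IsOpen (Set.range hcc.connectedComponentsMap) := by
    rw [← isClosed_compl_iff, hrange]
    exact ((hK.inter_right hA.2.1).image _root_.ConnectedComponents.continuous_coe).isClosed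
  have hce : Topology.IsClosedEmbedding hcc.connectedComponentsMap :=
    hqc.isClosedEmbedding hinj
  have hoe : Topology.IsOpenEmbedding hcc.connectedComponentsMap := ⟨hce.isEmbedding, hopen⟩
  refine ⟨fun O hO => ?_⟩
  rw [hoe.isInducing.closure_eq_preimage_closure_image O]
  exact (hED.open_closure _ (hoe.isOpenMap _ hO)).preimage hqc

theorem isWContractible_of_surjective
    (hK : IsCompact (Set.range (PrimeSpectrum.comap φ))ᶜ)
    (hA : EtPBC.IsWContractible A) : EtPBC.IsWContractible B := by
  obtain ⟨h1, h2, h3⟩ := (Groth.Agent.Lib.Helper29.Main0677.main0677 A).mp hA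
  rw [Groth.Agent.Lib.Helper29.Main0677.main0677 B]
  have hemb := PrimeSpectrum.isClosedEmbedding_comap_of_surjective _ φ hφ
  refine ⟨Groth.Agent.Lib.Helper29.Main0678.isWLocal_of_isClosedEmbedding h1 _ hemb,
    extrDisc φ hφ h1 h2 hK, ?_⟩
  intro n hn
  exact strictlyHenselian_localization φ hφ (fun m _ => h3 m) n

end

end Groth.Agent.Lib.Helper29.Quot0722
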