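import Mathlib
import Groth.Agent.Lib.Helper29.Main0677
import Groth.Agent.Lib.Helper29.Quot0722
import Groth.Agent.S0505

/-!
# Finite finitely presented algebras over w-contractible rings, part 1 (helper29)

Topological lemmas (local injectivity + openness gives extremal disconnectedness; constructible sets
cut out clopen subsets of `π₀` of a w-local spectrum), injectivity of Frobenius powers, and finite
local algebras over strictly henselian local rings.
-/

set_option autoImplicit false
set_option linter.style.haveILetI false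
set_option linter.unusedSectionVars false
set_option maxHeartbeats 1600000

universe u

open Groth.Agent.Lib.Helper29.ThetaHom Groth.Agent.Lib.Helper29.Main0700 Topology

namespace Groth.Agent.Lib.Helper29.WCFin1

/-- A space admitting a continuous open locally injective map to an extremally disconnected space
is extremally disconnected. -/
theorem extrDisc_of_locally_injective {T T' : Type*} [TopologicalSpace T] [TopologicalSpace T']
    [ExtremallyDisconnected T'] (g : T → T') (hg : Continuous g) (hopen : IsOpenMap g)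
    (hloc : ∀ t : T, ∃ N : Set T, IsOpen N ∧ t ∈ N ∧ Set.InjOn g N) :
    ExtremallyDisconnected T := by
  refine ⟨fun O hO => ?_⟩
  rw [isOpen_iff_mem_nhds]
  intro t ht
  obtain ⟨N, hNo, htN, hinj⟩ := hloc t
  have hK : IsOpen (closure (g '' (O ∩ N))) :=
    ExtremallyDisconnected.open_closure _ (hopen _ (hO.inter hNo))
  have htK : g t ∈ closure (g '' (O ∩ N)) := by
    have h1 : t ∈ closure (O ∩ N) := by
      rw [mem_closure_iff] at ht ⊢
      intro o ho hto
      obtain ⟨z, ⟨hzo, hzN⟩, hzO⟩ := ht (o ∩ N) (ho.inter hNo) ⟨hto, htN⟩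
      exact ⟨z, hzo, hzO, hzN⟩
    exact image_closure_subset_closure_image hg ⟨t, h1, rfl⟩
  have hsub : g ⁻¹' (closure (g '' (O ∩ N))) ∩ N ⊆ closure O := by
    rintro s ⟨hs1, hsN⟩
    rw [mem_closure_iff]
    intro M hM hsM
    have hMN : IsOpen (g '' (M ∩ N)) := hopen _ (hM.inter hNo)
    have hgs : g s ∈ g '' (M ∩ N) := ⟨s, ⟨hsM, hsN⟩, rfl⟩
    obtain ⟨w, hw1, hw2⟩ := mem_closure_iff.mp hs1 _ hMN hgs
    obtain ⟨a, ⟨haM, haN⟩, rfl⟩ := hw1
    obtain ⟨b, ⟨hbO, hbN⟩, hab⟩ := hw2
    have hba : b = a := hinj hbN haN hab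
    subst hba
    exact ⟨b, haM, hbO⟩
  exact Filter.mem_of_superset (((hK.preimage hg).inter hNo).mem_nhds ⟨htK, htN⟩) hsub

/-- For a w-local spectrum, a constructible subset cuts out a clopen subset of `π₀` (via the closed
point of each connected component). -/
theorem isClopen_cp_preimage {A : Type u} [CommRing A] (hA : ProEtW.IsWLocal (PrimeSpectrum A))
    {E : Set (PrimeSpectrum A)} (hE : IsConstructible E) :
    IsClopen {t : TB A | cp A hA t ∈ E} := by
  have key : ∀ K : Set (PrimeSpectrum A), IsCompact K →
      IsClosed {t : TB A | cp A hA t ∈ K} := by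
    intro K hK
    have h1 : {t : TB A | cp A hA t ∈ K} = _root_.ConnectedComponents.mk ''
        (K ∩ {x | IsClosed ({x} : Set (PrimeSpectrum A))}) := by
      ext t
      constructor
      · intro ht
        exact ⟨cp A hA t, ⟨ht, cp_closed A hA t⟩, mk_cp A hA t⟩
      · rintro ⟨x, ⟨hxK, hxc⟩, rfl⟩
        show cp A hA _ ∈ K
        rw [cp_mk A hA x hxc]
        exact hxK
    rw [h1]
    exact ((hK.inter_right hA.2.1).image _root_.ConnectedComponents.continuous_coe).isClosed
  induction hE using IsConstructible.empty_union_induction with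
  | open_retrocompact U hUo hUc =>
    have hUcomp : IsCompact U := by simpa using hUc isCompact_univ isOpen_univ
    refine ⟨key U hUcomp, ?_⟩
    rw [← isClosed_compl_iff]
    have h2 : {t : TB A | cp A hA t ∈ U}ᶜ = {t : TB A | cp A hA t ∈ Uᶜ} := rfl
    rw [h2]
    exact key _ hUo.isClosed_compl.isCompact
  | union s₁ hs₁ s₂ hs₂ h₁ h₂ => exact h₁.union h₂
  | compl s hs h => exact h.compl

/-- Injectivity of `x ↦ x ^ q ^ n` in a field of exponential characteristic `q`. -/
theorem pow_inj_of_expChar {Ω : Type*} [Field Ω] (q : ℕ) (hq : q = 1 ∨ (q.Prime ∧ (q : Ω) = 0))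
    (n : ℕ) {a b : Ω} (h : a ^ q ^ n = b ^ q ^ n) : a = b := by
  rcases hq with rfl | ⟨hp, h0⟩
  · simpa using h
  · haveI : CharP Ω q := (CharP.charP_iff_prime_eq_zero hp).mpr h0
    haveI : ExpChar Ω q := ExpChar.prime hp
    apply iterateFrobenius_inj Ω q n
    rw [iterateFrobenius_def, iterateFrobenius_def]
    exact h

/-- A local ring finite over a strictly henselian local ring is strictly henselian. -/
theorem strictlyHenselian_of_finite_local (R S : Type u) [CommRing R] [CommRing S] [IsLocalRing S]
    [Algebra R S] [Module.Finite R S] (hR : EtCoh.IsStrictlyHenselianLocalRing R) :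
    EtCoh.IsStrictlyHenselianLocalRing S := by
  obtain ⟨hH, hS⟩ := hR
  haveI := hH
  haveI := hS
  haveI hHS : HenselianLocalRing S := Groth.Agent.S0505.result R S
  haveI hloc : IsLocalHom (algebraMap R S) := by
    have hmax : (IsLocalRing.maximalIdeal S).comap (algebraMap R S) = IsLocalRing.maximalIdeal R := by
      have h1 : ((IsLocalRing.maximalIdeal S).comap (algebraMap R S)).IsMaximal :=
        Ideal.isMaximal_comap_of_isIntegral_of_isMaximal (R := R) (IsLocalRing.maximalIdeal S)
      exact IsLocalRing.eq_maximalIdeal h1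
    exact ((IsLocalRing.local_hom_TFAE (algebraMap R S)).out 0 4).mpr hmax
  refine ⟨hHS, ?_⟩
  haveI : Algebra.IsIntegral (IsLocalRing.ResidueField R) (IsLocalRing.ResidueField S) :=
    ⟨fun x => by
      obtain ⟨c, rfl⟩ := IsLocalRing.residue_surjective x
      exact IsIntegral.map_of_comp_eq (IsLocalRing.residue R) (IsLocalRing.residue S)
        (RingHom.ext fun _ => rfl) (Algebra.IsIntegral.isIntegral c)⟩
  haveI : Algebra.IsAlgebraic (IsLocalRing.ResidueField R) (IsLocalRing.ResidueField S) :=
    Algebra.IsIntegral.isAlgebraic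
  exact Algebra.IsAlgebraic.isSepClosed (F := IsLocalRing.ResidueField R)
    (E := IsLocalRing.ResidueField S)

end Groth.Agent.Lib.Helper29.WCFin1
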