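import Mathlib
import Groth.Agent.Lib.Helper29.WCFin1

/-!
# `j_!` commutes with limits for quasi-compact open immersions, part 2 (helper29)

Geometry: for a w-local spectrum and a quasi-compact open subset, the connected components whose
closed point lies in the open subset form an open and closed subset contained in it.
-/

set_option autoImplicit false
set_option linter.style.haveILetI false
set_option linter.unusedSectionVars false
set_option maxHeartbeats 1600000

universe u

open Groth.Agent.Lib.Helper29.ThetaHom Groth.Agent.Lib.Helper29.Main0700 Topology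
open CategoryTheory AlgebraicGeometry

namespace Groth.Agent.Lib.Helper29.ExtZeroLim2

lemma mk_eq_of_specializes {T : Type*} [TopologicalSpace T] {x z : T} (h : x ⤳ z) :
    (_root_.ConnectedComponents.mk z : _root_.ConnectedComponents T) =
      _root_.ConnectedComponents.mk x := by
  apply ConnectedComponents.coe_eq_coe'.mpr
  have h1 : IsPreconnected (closure ({x} : Set T)) := isPreconnected_singleton.closure
  exact h1.subset_connectedComponent (subset_closure rfl) (specializes_iff_mem_closure.mp h)

lemma specializes_cp {A : Type u} [CommRing A] (hA : ProEtW.IsWLocal (PrimeSpectrum A))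
    (x : PrimeSpectrum A) : x ⤳ cp A hA (_root_.ConnectedComponents.mk x) := by
  obtain ⟨z, ⟨hzc, hxz⟩, -⟩ := hA.2.2 x
  have h1 := mk_eq_of_specializes hxz
  rw [← h1, cp_mk A hA z hzc]
  exact hxz

/-- The idempotent cutting out the components whose closed point lies in a given compact open. -/
theorem exists_idem {T : Type*} [TopologicalSpace T] {A : Type u} [CommRing A]
    (hA : ProEtW.IsWLocal (PrimeSpectrum A)) (h : T ≃ₜ PrimeSpectrum A)
    (O : Set T) (hOo : IsOpen O) (hOc : IsCompact O) :
    ∃ e : A, IsIdempotentElem e ∧ (∀ w : T, e ∉ (h w).asIdeal → w ∈ O) ∧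
      (∀ w : T, e ∈ (h w).asIdeal → ∃ z : T, z ∉ O ∧ w ⤳ z) := by
  have hO'o : IsOpen (h.symm ⁻¹' O) := hOo.preimage h.symm.continuous
  have hO'c : IsCompact (h.symm ⁻¹' O) := (h.symm.isCompact_preimage).mpr hOc
  have hretro : IsRetrocompact (h.symm ⁻¹' O) := fun K hK hKo =>
    QuasiSeparatedSpace.inter_isCompact _ _ hO'o hO'c hKo hK
  have hcons : IsConstructible (h.symm ⁻¹' O) := hretro.isConstructible hO'o
  have hC := WCFin1.isClopen_cp_preimage hA hcons
  have hW : IsClopen (_root_.ConnectedComponents.mk ⁻¹' {t : TB A | cp A hA t ∈ h.symm ⁻¹' O} :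
      Set (PrimeSpectrum A)) := hC.preimage _root_.ConnectedComponents.continuous_coe
  obtain ⟨e, he, hWe⟩ := PrimeSpectrum.isClopen_iff.mp hW
  have hmem : ∀ x : PrimeSpectrum A, e ∉ x.asIdeal ↔
      cp A hA (_root_.ConnectedComponents.mk x) ∈ h.symm ⁻¹' O := by
    intro x
    have h1 : x ∈ (PrimeSpectrum.basicOpen e : Set (PrimeSpectrum A)) ↔ e ∉ x.asIdeal := Iff.rfl
    rw [← h1, ← hWe]
    rfl
  refine ⟨e, he, ?_, ?_⟩
  · intro w hw
    have h2 := (hmem (h w)).mp hw
    have h3 : h w ∈ h.symm ⁻¹' O := (specializes_cp hA (h w)).mem_open hO'o h2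
    have h4 : h.symm (h w) ∈ O := h3
    rwa [h.symm_apply_apply] at h4
  · intro w hw
    have h2 : cp A hA (_root_.ConnectedComponents.mk (h w)) ∉ h.symm ⁻¹' O := fun hc =>
      ((hmem (h w)).mpr hc) hw
    refine ⟨h.symm (cp A hA (_root_.ConnectedComponents.mk (h w))), h2, ?_⟩
    have h3 := (specializes_cp hA (h w)).map h.symm.continuous
    rwa [h.symm_apply_apply] at h3

end Groth.Agent.Lib.Helper29.ExtZeroLim2
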