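import Mathlib
import Groth.Prelude.Def_ProEtS
import Groth.Prelude.Def_PBC
import Groth.Agent.Lib.Helper29.ProEtWC
import Groth.Agent.Lib.Helper29.Main7286

/-!
# The pro-étale site has enough points (helper29)

Points: for an affine object `W` of `X_proet` with w-contractible ring of functions and a point
`c` of `W`, the cofiltered system of clopen neighbourhoods of `c` in `W`.
-/

set_option autoImplicit false
set_option linter.style.haveILetI false
set_option linter.unusedSectionVars false
set_option maxHeartbeats 1600000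

universe u

open CategoryTheory CategoryTheory.Limits AlgebraicGeometry Opposite

namespace Groth.Agent.Lib.Helper29.Main7284

open Groth.Agent.Lib.Helper5.ProEtQcqs Groth.Agent.Lib.Helper29.ProEtClopen

variable {X : Scheme.{u}}

/-- The object of the pro-étale site given by an open subscheme. -/
noncomputable abbrev opOb (W : X.ProEt) (U : W.left.Opens) : X.ProEt :=
  Scheme.ProEt.mk (U.ι ≫ W.hom)

noncomputable abbrev opIncl (W : X.ProEt) (U : W.left.Opens) : opOb W U ⟶ W :=
  MorphismProperty.Over.homMk U.ι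

noncomputable def opLE (W : X.ProEt) {U V : W.left.Opens} (h : U ≤ V) : opOb W U ⟶ opOb W V :=
  MorphismProperty.Over.homMk (W.left.homOfLE h) (by
    change W.left.homOfLE h ≫ (V.ι ≫ W.hom) = U.ι ≫ W.hom
    rw [← Category.assoc, Scheme.homOfLE_ι]) trivial

lemma opLE_left (W : X.ProEt) {U V : W.left.Opens} (h : U ≤ V) :
    (opLE W h).left = W.left.homOfLE h := rfl

lemma opLE_incl (W : X.ProEt) {U V : W.left.Opens} (h : U ≤ V) :
    opLE W h ≫ opIncl W V = opIncl W U := by
  apply MorphismProperty.Over.Hom.ext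
  exact Scheme.homOfLE_ι _ h

lemma opLE_comp (W : X.ProEt) {U V V' : W.left.Opens} (h : U ≤ V) (h' : V ≤ V') :
    opLE W h ≫ opLE W h' = opLE W (h.trans h') := by
  apply MorphismProperty.Over.Hom.ext
  exact Scheme.homOfLE_homOfLE _ h h'

lemma opLE_refl (W : X.ProEt) (U : W.left.Opens) : opLE W (le_refl U) = 𝟙 _ := by
  apply MorphismProperty.Over.Hom.ext
  exact Scheme.homOfLE_rfl _ U

set_option backward.isDefEq.respectTransparency.types false in
/-- An open cover generates a covering sieve of the pro-étale site. -/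
lemma opens_generate_mem (W : X.ProEt) {I : Type*} (V : I → W.left.Opens)
    (hV : ∀ x : W.left, ∃ i, x ∈ V i) :
    Sieve.generate (Presieve.ofArrows (fun i => opOb W (V i)) (fun i => opIncl W (V i))) ∈
      Scheme.ProEt.topology X W := by
  let 𝒞 : Scheme.Cover (Scheme.precoverage weMP.{u}) W.left :=
    Scheme.Cover.mkOfCovers I (fun i => ((V i : W.left.Opens) : Scheme.{u})) (fun i => (V i).ι)
      (fun x => by
        obtain ⟨i, hi⟩ := hV x
        exact ⟨i, ⟨x, hi⟩, rfl⟩)
      (fun i => (inferInstance : WeaklyEtale (V i).ι))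
  apply Precoverage.generate_mem_toGrothendieck
  change (Presieve.ofArrows (fun i => opOb W (V i)) (fun i => opIncl W (V i))).map (toSch X) ∈
      Scheme.proetalePrecoverage W.left
  rw [Presieve.map_ofArrows]
  have hqc : QuasiCompactCover 𝒞.toPreZeroHypercover :=
    QuasiCompactCover.of_isOpenMap (fun i => (V i).ι.isOpenEmbedding.isOpenMap)
  exact ⟨Scheme.presieve₀_mem_qcPrecoverage_iff.2 hqc, 𝒞.mem₀⟩

set_option backward.isDefEq.respectTransparency.types false in
/-- Key lemma: a covering sieve of a clopen piece of a w-contractible affine object contains the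
inclusion of a clopen neighbourhood of any given point. -/
theorem exists_clopen_mem (W : X.ProEt) [IsAffine W.left]
    (hA : EtPBC.IsWContractible ↥(Γ(W.left, ⊤)))
    (U : W.left.Opens) (hU : IsClopen (U : Set ↥W.left)) (c : ↥W.left) (hc : c ∈ U)
    (R : Sieve (opOb W U)) (hR : R ∈ Scheme.ProEt.topology X (opOb W U)) :
    ∃ (V : W.left.Opens) (hVU : V ≤ U), IsClopen (V : Set ↥W.left) ∧ c ∈ V ∧
      R.arrows (opLE W hVU) := by
  let Uc : W.left.Opens := ⟨(U : Set ↥W.left)ᶜ, hU.compl.isOpen⟩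
  let R'' : Sieve W :=
    { arrows := fun Y => {g | (∃ g' : Y ⟶ opOb W U, R.arrows g' ∧ g' ≫ opIncl W U = g) ∨
        (∃ g' : Y ⟶ opOb W Uc, g' ≫ opIncl W Uc = g)}
      downward_closed := by
        rintro Y Z g (⟨g', hg', rfl⟩ | ⟨g', rfl⟩) h
        · exact Or.inl ⟨h ≫ g', R.downward_closed hg' h, Category.assoc _ _ _⟩
        · exact Or.inr ⟨h ≫ g', Category.assoc _ _ _⟩ }
  let VV : Bool → W.left.Opens := fun b => bif b then U else Uc
  have hS₀ : Sieve.generate (Presieve.ofArrows (fun b => opOb W (VV b))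
      (fun b => opIncl W (VV b))) ∈ Scheme.ProEt.topology X W := by
    apply opens_generate_mem W VV
    intro x
    by_cases hx : x ∈ U
    · exact ⟨true, hx⟩
    · exact ⟨false, hx⟩
  have hR'' : R'' ∈ Scheme.ProEt.topology X W := by
    refine (Scheme.ProEt.topology X).transitive hS₀ R'' ?_
    intro Y f hf
    obtain ⟨Z, h, g, hg, rfl⟩ := hf
    obtain ⟨b⟩ := hg
    cases b
    · -- the complement
      refine (Scheme.ProEt.topology X).superset_covering ?_ ((Scheme.ProEt.topology X).top_mem _)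
      intro Y' k _
      exact Or.inr ⟨k ≫ h, Category.assoc _ _ _⟩
    · refine (Scheme.ProEt.topology X).superset_covering ?_
        ((Scheme.ProEt.topology X).pullback_stable h hR)
      intro Y' k hk
      exact Or.inl ⟨k ≫ h, hk, Category.assoc _ _ _⟩
  obtain ⟨n, Wk, hclopen, -, hcover, hWk⟩ := forward W hA R'' hR''
  have hcmem : c ∈ ⋃ k, (Wk k : Set ↥W.left) := by rw [hcover]; trivial
  obtain ⟨k, hk⟩ := Set.mem_iUnion.mp hcmem
  have hmemV : ∀ (V' : W.left.Opens) (Y : X.ProEt) (g' : Y ⟶ opOb W V') (y : ↥Y.left),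
      (g' ≫ opIncl W V').left y ∈ V' := by
    intro V' Y g' y
    have h0 : V'.ι (g'.left y) ∈ Set.range V'.ι := ⟨_, rfl⟩
    rw [Scheme.Opens.range_ι] at h0
    exact h0
  rcases hWk k with ⟨g', hg', hcomp⟩ | ⟨g', hcomp⟩
  · have hVU : Wk k ≤ U := by
      intro x hx
      have hx' : x ∈ Set.range (Wk k).ι := by rw [Scheme.Opens.range_ι]; exact hx
      obtain ⟨y, rfl⟩ := hx'
      have := hmemV U _ g' y
      rw [hcomp] at this
      exact this
    refine ⟨Wk k, hVU, hclopen k, hk, ?_⟩
    have hgeq : g' = opLE W hVU := by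
      apply MorphismProperty.Over.Hom.ext
      have h1 : g'.left ≫ U.ι = (Wk k).ι := congrArg (fun t => t.left) hcomp
      have h2 : (opLE W hVU).left ≫ U.ι = (Wk k).ι := Scheme.homOfLE_ι _ hVU
      exact (cancel_mono U.ι).mp (h1.trans h2.symm)
    rw [← hgeq]
    exact hg'
  · exfalso
    have hx' : c ∈ Set.range (Wk k).ι := by rw [Scheme.Opens.range_ι]; exact hk
    obtain ⟨y, hy⟩ := hx'
    have := hmemV Uc _ g' y
    rw [hcomp] at this
    have h3 : c ∈ Uc := by rw [← hy]; exact this
    exact h3 hc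

/-- Data for a point of the pro-étale site. -/
structure PtData (X : Scheme.{u}) : Type (u + 1) where
  W : X.ProEt
  aff : IsAffine W.left
  wc : EtPBC.IsWContractible ↥(Γ(W.left, ⊤))
  c : ↥W.left

/-- Clopen neighbourhoods of the chosen point. -/
def Nb (d : PtData X) : Type u :=
  {U : d.W.left.Opens // IsClopen (U : Set ↥d.W.left) ∧ d.c ∈ U}

noncomputable instance (d : PtData X) : SemilatticeInf (Nb d) :=
  Subtype.semilatticeInf
    (P := fun U : d.W.left.Opens => IsClopen (U : Set ↥d.W.left) ∧ d.c ∈ U) (fun U V hU hV =>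
    ⟨by rw [TopologicalSpace.Opens.coe_inf]; exact hU.1.inter hV.1,
      show d.c ∈ U ⊓ V from ⟨hU.2, hV.2⟩⟩)

instance (d : PtData X) : Nonempty (Nb d) := ⟨⟨⊤, isClopen_univ, trivial⟩⟩

instance (d : PtData X) : InitiallySmall.{u + 1} (Nb d) :=
  initiallySmall_of_essentiallySmall.{u + 1} _

/-- The cofiltered system of clopen neighbourhoods as objects of the site. -/
noncomputable def pF (d : PtData X) : Nb d ⥤ X.ProEt where
  obj U := opOb d.W U.1
  map {U V} h := opLE d.W (show U.1 ≤ V.1 from leOfHom h)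
  map_id U := opLE_refl d.W U.1
  map_comp f g := (opLE_comp d.W _ _).symm

set_option backward.isDefEq.respectTransparency.types false in
lemma pF_lift (d : PtData X) ⦃T : X.ProEt⦄ (R : Sieve T)
    (hR : R ∈ Scheme.ProEt.topology X T) ⦃U : Nb d⦄ (f : (pF d).obj U ⟶ T) :
    ∃ (Y : X.ProEt) (g : Y ⟶ T) (_ : R g) (V : Nb d) (q : V ⟶ U) (a : (pF d).obj V ⟶ Y),
      a ≫ g = (pF d).map q ≫ f := by
  haveI := d.aff
  obtain ⟨V, hVU, hVcl, hcV, hV⟩ := exists_clopen_mem d.W d.wc U.1 U.2.1 d.c U.2.2
    (R.pullback f) ((Scheme.ProEt.topology X).pullback_stable f hR)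
  exact ⟨opOb d.W V, opLE d.W hVU ≫ f, hV, ⟨V, hVcl, hcV⟩, homOfLE hVU, 𝟙 _,
    Category.id_comp _⟩

/-- The point of the pro-étale site attached to the data `d`. -/
noncomputable def pt (d : PtData X) : GrothendieckTopology.Point.{u + 1} (Scheme.ProEt.topology X) :=
  GrothendieckTopology.Point.ofIsCofiltered.{u + 1} (pF d) (pF_lift d)

open GrothendieckTopology.Point.ofIsCofiltered in
set_option backward.isDefEq.respectTransparency.types false in
theorem conservative (X : Scheme.{u}) :
    (ObjectProperty.ofObj (pt (X := X))).IsConservativeFamilyOfPoints := by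
  apply ObjectProperty.IsConservativeFamilyOfPoints.mk'
  intro T S hS
  obtain ⟨I, V, g, hcov, hV⟩ := Groth.Agent.Lib.Helper29.Main7286.main7286 T
  refine (Scheme.ProEt.topology X).transitive hcov S ?_
  intro Y f hf
  obtain ⟨Z, h, g', hg', rfl⟩ := hf
  obtain ⟨i⟩ := hg'
  rw [Sieve.pullback_comp]
  apply (Scheme.ProEt.topology X).pullback_stable
  haveI := (hV i).1
  have key : ∀ c : ↥(V i).left, ∃ (Vc : (V i).left.Opens), c ∈ Vc ∧
      (S.pullback (g i)).arrows (opIncl (V i) Vc) := by
    intro c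
    let d : PtData X := ⟨V i, (hV i).1, (hV i).2, c⟩
    let top : Nb d := ⟨⊤, isClopen_univ, trivial⟩
    let f₀ : (pF d).obj top ⟶ T := opIncl (V i) ⊤ ≫ g i
    obtain ⟨Y, k, hk, y, hy⟩ := hS ⟨pt d, ObjectProperty.ofObj_apply _ d⟩
      (fiberMk.{u + 1} (p := pF d) f₀)
    obtain ⟨U, b, rfl⟩ := fiberMk_jointly_surjective.{u + 1} (p := pF d) y
    have hy' : fiberMk.{u + 1} (p := pF d) (b ≫ k) = fiberMk.{u + 1} (p := pF d) f₀ :=
      (fiber_map_fiberMk.{u + 1} (p := pF d) b k).symm.trans hy
    have hle : U ≤ top := fun x _ => trivial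
    have h1 : fiberMk.{u + 1} (p := pF d) ((pF d).map (homOfLE hle) ≫ f₀) = fiberMk.{u + 1} (p := pF d) f₀ :=
      fiberMk_map_comp.{u + 1} (p := pF d) (homOfLE hle) f₀
    rw [← h1] at hy'
    obtain ⟨V', q, hq⟩ := exists_of_fiberMk_eq_fiberMk.{u + 1} hy'
    refine ⟨V'.1, V'.2.2, ?_⟩
    have h2 : opIncl (V i) V'.1 ≫ g i = ((pF d).map q ≫ b) ≫ k := by
      rw [Category.assoc, hq]
      change _ = opLE d.W _ ≫ opLE d.W _ ≫ opIncl (V i) ⊤ ≫ g i
      rw [← Category.assoc, ← Category.assoc, opLE_comp, opLE_incl]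
    change S.arrows (opIncl (V i) V'.1 ≫ g i)
    rw [h2]
    exact S.downward_closed hk _
  choose Vc hcVc hVc using key
  refine (Scheme.ProEt.topology X).superset_covering ?_
    (opens_generate_mem (V i) Vc (fun x => ⟨x, hcVc x⟩))
  rw [Sieve.generate_le_iff]
  rintro Y k ⟨c⟩
  exact hVc c

theorem main7284 (S : Scheme.{u}) :
    GrothendieckTopology.HasEnoughPoints.{u + 1} (Scheme.ProEt.topology S) :=
  ⟨⟨ObjectProperty.ofObj (pt (X := S)), inferInstance, conservative S⟩⟩

end Groth.Agent.Lib.Helper29.Main7284
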