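import Mathlib
import Groth.Prelude.Def_ProEtS
import Groth.Prelude.Def_PBC
import Groth.Agent.Lib.Helper29.ExtZeroLim1
import Groth.Agent.Lib.Helper29.ExtZeroLim2
import Groth.Agent.Lib.Helper29.Main0677
import Groth.Agent.Lib.Helper29.Main7284
import Groth.Agent.Lib.Helper15.ProEtRestr
import Groth.Agent.Lib.Helper15.ProEtCont

/-!
# `j_!` commutes with limits for quasi-compact open immersions, part 3 (helper29)
-/

set_option autoImplicit false
set_option linter.style.haveILetI false
set_option linter.unusedSectionVars false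
set_option maxHeartbeats 1600000

universe u

open CategoryTheory CategoryTheory.Limits AlgebraicGeometry Opposite

namespace Groth.Agent.Lib.Helper29.ExtZeroLim3

variable {U X : Scheme.{u}} (j : U ⟶ X) [IsOpenImmersion j] [QuasiCompact j]

set_option backward.isDefEq.respectTransparency.types false in
theorem exists_idem_scheme {V' : Scheme.{u}} [IsAffine V'] (v : V' ⟶ X)
    (hV : EtPBC.IsWContractible ↥(Γ(V', ⊤))) :
    ∃ e : ↥(Γ(V', ⊤)), IsIdempotentElem e ∧
      (∀ w : ↥V', w ∈ V'.basicOpen e → v.base w ∈ Set.range j.base) ∧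
      (∀ w : ↥V', w ∈ V'.basicOpen (1 - e) ↔ w ∉ V'.basicOpen e) ∧
      (∀ w : ↥V', w ∈ V'.basicOpen (1 - e) → ∃ z : ↥V', z ∈ V'.basicOpen (1 - e) ∧
        v.base z ∉ Set.range j.base ∧ w ⤳ z) := by
  obtain ⟨hA, -, -⟩ := (Groth.Agent.Lib.Helper29.Main0677.main0677 ↥(Γ(V', ⊤))).mp hV
  let h : ↥V' ≃ₜ PrimeSpectrum ↥(Γ(V', ⊤)) := Scheme.homeoOfIso V'.isoSpec
  have hOo : IsOpen (v.base ⁻¹' Set.range j.base) :=
    j.isOpenEmbedding.isOpen_range.preimage v.continuous
  have hOc : IsCompact (v.base ⁻¹' Set.range j.base) := by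
    rw [← Scheme.Pullback.range_fst]
    haveI : QuasiCompact (pullback.fst v j) :=
      MorphismProperty.pullback_fst (P := @QuasiCompact) v j inferInstance
    have h1 : IsCompact (Set.univ : Set ↥(pullback v j)) := by
      have h0 := (inferInstance : QuasiCompact (pullback.fst v j)).isCompact_preimage Set.univ
        isOpen_univ isCompact_univ
      simpa using h0
    rw [← Set.image_univ]
    exact h1.image (pullback.fst v j).continuous
  obtain ⟨e, he, h1, h2⟩ := ExtZeroLim2.exists_idem hA h _ hOo hOc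
  have hmem : ∀ (r : ↥(Γ(V', ⊤))) (w : ↥V'), w ∈ V'.basicOpen r ↔ r ∉ (h w).asIdeal := by
    intro r w
    rw [← Scheme.toSpecΓ_preimage_basicOpen]
    rfl
  have hcompl : ∀ w : ↥V', w ∈ V'.basicOpen (1 - e) ↔ e ∈ (h w).asIdeal := by
    intro w
    rw [hmem]
    constructor
    · intro hne
      have h0 : e * (1 - e) = 0 := by rw [mul_sub, mul_one, he.eq, sub_self]
      have h3 : e * (1 - e) ∈ (h w).asIdeal := h0 ▸ (h w).asIdeal.zero_mem
      exact ((h w).isPrime.mem_or_mem h3).resolve_right hne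
    · intro hin hne
      have h4 : (1 : ↥(Γ(V', ⊤))) ∈ (h w).asIdeal := by
        have h5 := (h w).asIdeal.add_mem hin hne
        simpa using h5
      exact (h w).isPrime.ne_top ((Ideal.eq_top_iff_one _).mpr h4)
  have hiff : ∀ w : ↥V', w ∈ V'.basicOpen (1 - e) ↔ w ∉ V'.basicOpen e := by
    intro w
    rw [hcompl, hmem, not_not]
  refine ⟨e, he, fun w hw => h1 w ((hmem e w).mp hw), hiff, fun w hw => ?_⟩
  obtain ⟨z, hz, hwz⟩ := h2 w ((hcompl w).mp hw)
  refine ⟨z, ?_, hz, hwz⟩
  have hcl : IsClosed ((V'.basicOpen (1 - e) : Set ↥V')) := by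
    have h6 : ((V'.basicOpen (1 - e) : Set ↥V')) = ((V'.basicOpen e : Set ↥V'))ᶜ := by
      ext x
      exact hiff x
    rw [h6]
    exact (V'.basicOpen e).isOpen.isClosed_compl
  exact hwz.mem_closed hcl hw

set_option backward.isDefEq.respectTransparency.types false in
theorem exists_data [ProEtS.JPCont j] (V : X.ProEt) [IsAffine V.left]
    (hV : EtPBC.IsWContractible ↥(Γ(V.left, ⊤))) :
    ∃ (WU : U.ProEt) (a : (ProEtS.compP j).obj WU ⟶ V), ∀ G : ProEtS.AbP U,
      Function.Bijective (((ProEtS.extZeroP j).obj G).obj.map a.op) := by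
  obtain ⟨e, he, h1, hiff, h2⟩ := exists_idem_scheme j (V' := V.left) V.hom hV
  have hWoaff : IsAffineOpen (V.left.basicOpen e) := (isAffineOpen_top V.left).basicOpen e
  have hWcaff : IsAffineOpen (V.left.basicOpen (1 - e)) :=
    (isAffineOpen_top V.left).basicOpen (1 - e)
  haveI : IsAffine (V.left.basicOpen e).toScheme := hWoaff
  haveI : IsAffine (V.left.basicOpen (1 - e)).toScheme := hWcaff
  have hmemι : ∀ (O : V.left.Opens) (w : ↥O), O.ι w ∈ O := by
    intro O w
    have h0 : O.ι w ∈ Set.range O.ι := ⟨w, rfl⟩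
    rw [Scheme.Opens.range_ι] at h0
    exact h0
  have hrange : Set.range ((V.left.basicOpen e).ι ≫ V.hom).base ⊆ Set.range j.base := by
    rintro _ ⟨w, rfl⟩
    exact h1 _ (hmemι _ w)
  let l : (V.left.basicOpen e).toScheme ⟶ U :=
    IsOpenImmersion.lift j ((V.left.basicOpen e).ι ≫ V.hom) hrange
  have hl : l ≫ j = (V.left.basicOpen e).ι ≫ V.hom := IsOpenImmersion.lift_fac _ _ _
  haveI : WeaklyEtale (l ≫ j) := by rw [hl]; infer_instance
  haveI : WeaklyEtale l := WeaklyEtale.of_comp l j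
  let WU : U.ProEt := Scheme.ProEt.mk l
  let a : (ProEtS.compP j).obj WU ⟶ V :=
    MorphismProperty.Over.homMk (V.left.basicOpen e).ι hl.symm trivial
  let B : X.ProEt := Groth.Agent.Lib.Helper29.Main7284.opOb V (V.left.basicOpen (1 - e))
  let b : B ⟶ V := Groth.Agent.Lib.Helper29.Main7284.opIncl V (V.left.basicOpen (1 - e))
  refine ⟨WU, a, fun G => ?_⟩
  haveI : IsAffine B.left := hWcaff
  have hVB : ∀ y : ↥B.left, ∃ z : ↥B.left, B.hom.base z ∉ Set.range j.base ∧ y ⤳ z := by
    intro y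
    obtain ⟨z₀, hz₀, hzj, hyz⟩ := h2 _ (hmemι (V.left.basicOpen (1 - e)) y)
    have hz₀' : z₀ ∈ Set.range (V.left.basicOpen (1 - e)).ι := by
      rw [Scheme.Opens.range_ι]; exact hz₀
    obtain ⟨z, rfl⟩ := hz₀'
    refine ⟨z, hzj, ?_⟩
    exact (V.left.basicOpen (1 - e)).ι.isOpenEmbedding.isInducing.specializes_iff.mp hyz
  haveI hsub : Subsingleton (((ProEtS.extZeroP j).obj G).obj.obj (op B)) :=
    ExtZeroLim1.vanish j B hVB G
  have hsh : Presieve.IsSheaf (Scheme.ProEt.topology X)
      (((ProEtS.extZeroP j).obj G).obj ⋙ forget AddCommGrpCat.{u + 1}) :=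
    (isSheaf_iff_isSheaf_of_type _ _).1
      ((Presheaf.isSheaf_iff_isSheaf_forget _ _ (forget AddCommGrpCat.{u + 1})).1
        ((ProEtS.extZeroP j).obj G).2)
  haveI : Mono a.left := (inferInstance : Mono (V.left.basicOpen e).ι)
  haveI : Mono b.left := (inferInstance : Mono (V.left.basicOpen (1 - e)).ι)
  have hqa : QuasiCompact a.left := (inferInstance : QuasiCompact (V.left.basicOpen e).ι)
  have hqb : QuasiCompact b.left := (inferInstance : QuasiCompact (V.left.basicOpen (1 - e)).ι)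
  have hsurj : ∀ x : V.left, (∃ y, a.left y = x) ∨ (∃ y, b.left y = x) := by
    intro x
    by_cases hx : x ∈ V.left.basicOpen e
    · left
      have hx' : x ∈ Set.range (V.left.basicOpen e).ι := by
        rw [Scheme.Opens.range_ι]; exact hx
      exact hx'
    · right
      have hx' : x ∈ Set.range (V.left.basicOpen (1 - e)).ι := by
        rw [Scheme.Opens.range_ι]; exact (hiff x).mpr hx
      exact hx'
  have hdisj : ∀ (y : ((ProEtS.compP j).obj WU).left) (y' : B.left), a.left y ≠ b.left y' := by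
    intro y y' hyy
    have h3 : a.left y ∈ V.left.basicOpen e := hmemι (V.left.basicOpen e) y
    have h4 : b.left y' ∈ V.left.basicOpen (1 - e) := hmemι (V.left.basicOpen (1 - e)) y'
    rw [← hyy] at h4
    exact ((hiff _).mp h4) h3
  haveI : Subsingleton ((((ProEtS.extZeroP j).obj G).obj ⋙ forget AddCommGrpCat.{u + 1}).obj
      (op B)) := hsub
  exact ExtZeroLim1.bijective_restrict hsh a b hqa hqb hsurj hdisj
    (0 : ((ProEtS.extZeroP j).obj G).obj.obj (op B))

set_option backward.isDefEq.respectTransparency.types false in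
theorem preservesLimit_of_data [ProEtS.JPCont j] {J : Type u} [SmallCategory J]
    (K : J ⥤ ProEtS.AbP U) (V : X.ProEt) (WU : U.ProEt) (a : (ProEtS.compP j).obj WU ⟶ V)
    (ha : ∀ G : ProEtS.AbP U,
      Function.Bijective (((ProEtS.extZeroP j).obj G).obj.map a.op)) :
    PreservesLimit K (ProEtS.extZeroP j ⋙
      (sheafToPresheaf (Scheme.ProEt.topology X) AddCommGrpCat.{u + 1} ⋙
        (evaluation _ _).obj (op V))) := by
  haveI : ProEtS.PCont j := Groth.Agent.Lib.Helper15.ProEtCont.pCont j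
  let E : ProEtS.AbP X ⥤ AddCommGrpCat.{u + 1} :=
    sheafToPresheaf (Scheme.ProEt.topology X) AddCommGrpCat.{u + 1} ⋙ (evaluation _ _).obj (op V)
  let E' : ProEtS.AbP U ⥤ AddCommGrpCat.{u + 1} :=
    sheafToPresheaf (Scheme.ProEt.topology U) AddCommGrpCat.{u + 1} ⋙ (evaluation _ _).obj (op WU)
  have hiso : ∀ G : ProEtS.AbP U, IsIso (((ProEtS.extZeroP j).obj G).obj.map a.op) := fun G =>
    (ConcreteCategory.isIso_iff_bijective _).mpr (ha G)
  let α : ProEtS.extZeroP j ⋙ E ≅ (ProEtS.extZeroP j ⋙ ProEtS.restrP j) ⋙ E' :=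
    NatIso.ofComponents
      (fun G => @asIso _ _ _ _ (((ProEtS.extZeroP j).obj G).obj.map a.op) (hiso G))
      (fun {G G'} g => (((ProEtS.extZeroP j).map g).hom.naturality a.op).symm)
  haveI : IsIso (ProEtS.extZeroPAdj j).unit := inferInstance
  let β : (ProEtS.extZeroP j ⋙ ProEtS.restrP j) ⋙ E' ≅ E' :=
    Functor.isoWhiskerRight (asIso (ProEtS.extZeroPAdj j).unit).symm E' ≪≫ Functor.leftUnitor E'
  haveI : PreservesLimit K E' := inferInstance
  exact preservesLimit_of_natIso K (α ≪≫ β).symm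

set_option backward.isDefEq.respectTransparency.types false in
theorem main0731 [ProEtS.JPCont j] (J : Type u) [SmallCategory J] :
    PreservesLimitsOfShape J (ProEtS.extZeroP j) := by
  refine ⟨fun {K} => ?_⟩
  apply preservesLimit_of_preserves_limit_cone (limit.isLimit K)
  haveI : IsIso ((limit.isLimit (K ⋙ ProEtS.extZeroP j)).lift
      ((ProEtS.extZeroP j).mapCone (limit.cone K))) := by
    apply ExtZeroLim1.isIso_of_bijective_on_wc
    intro V hVaff hVwc
    haveI := hVaff
    obtain ⟨WU, a, ha⟩ := exists_data j V hVwc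
    haveI := preservesLimit_of_data j K V WU a ha
    let E : ProEtS.AbP X ⥤ AddCommGrpCat.{u + 1} :=
      sheafToPresheaf (Scheme.ProEt.topology X) AddCommGrpCat.{u + 1} ⋙
        (evaluation _ _).obj (op V)
    have h1 : IsLimit (E.mapCone ((ProEtS.extZeroP j).mapCone (limit.cone K))) :=
      isLimitOfPreserves (ProEtS.extZeroP j ⋙ E) (limit.isLimit K)
    have h2 : IsLimit (E.mapCone (limit.cone (K ⋙ ProEtS.extZeroP j))) :=
      isLimitOfPreserves E (limit.isLimit (K ⋙ ProEtS.extZeroP j))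
    let f : E.mapCone ((ProEtS.extZeroP j).mapCone (limit.cone K)) ⟶
        E.mapCone (limit.cone (K ⋙ ProEtS.extZeroP j)) :=
      { hom := E.map ((limit.isLimit (K ⋙ ProEtS.extZeroP j)).lift
          ((ProEtS.extZeroP j).mapCone (limit.cone K)))
        w := fun k => by
          show E.map _ ≫ E.map _ = E.map _
          rw [← E.map_comp, (limit.isLimit (K ⋙ ProEtS.extZeroP j)).fac] }
    haveI : IsIso f := IsLimit.hom_isIso h1 h2 f
    have h3 : IsIso f.hom := (Cone.forget _).map_isIso f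
    exact ConcreteCategory.bijective_of_isIso f.hom
  exact IsLimit.ofPointIso (limit.isLimit (K ⋙ ProEtS.extZeroP j))

end Groth.Agent.Lib.Helper29.ExtZeroLim3
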