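import Mathlib
import Groth.Prelude.Def_ProEtS
import Groth.Prelude.Def_PBC
import Groth.Prelude.Def_EtModW
import Groth.Prelude.Def_ARSys
import Groth.Agent.Lib.Helper29.ExtZeroLim1
import Groth.Agent.Lib.Helper29.ExtZeroLim2
import Groth.Agent.Lib.Helper29.ExtZeroLim3
import Groth.Agent.Lib.Helper29.Main0677
import Groth.Agent.Lib.Helper29.Main7284
import Groth.Agent.Lib.Helper29.AdicShriek1
import Groth.Agent.Lib.Helper29.AdicShriek2
import Groth.Agent.Lib.Helper15.ProEtRestr
import Groth.Agent.Lib.Helper15.ProEtCont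

/-!
# Extension by zero of adic pro-étale sheaves of modules, part 3 (helper29)

`j_!` on pro-étale sheaves of `Λ`-modules commutes with sequential limits for a quasi-compact open
immersion `j`, and `j_!` of an `I`-adic sheaf is `I`-adic.
-/

set_option autoImplicit false
set_option linter.style.haveILetI false
set_option linter.unusedSectionVars false
set_option maxHeartbeats 1600000

universe u

open CategoryTheory CategoryTheory.Limits AlgebraicGeometry Opposite

namespace Groth.Agent.Lib.Helper29.AdicShriek3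

open Groth.Agent.Lib.Helper29.AdicShriek1 Groth.Agent.Lib.Helper29.AdicShriek2

variable (Λ : Type (u + 1)) [CommRing Λ]
variable {U X : Scheme.{u}} (j : U ⟶ X) [IsOpenImmersion j] [QuasiCompact j] [WeaklyEtale j]
  [ProEtS.JPCont j]

set_option backward.isDefEq.respectTransparency.types false in
theorem exists_data (V : X.ProEt) [IsAffine V.left]
    (hV : EtPBC.IsWContractible ↥(Γ(V.left, ⊤))) :
    ∃ (WU : U.ProEt) (a : (ProEtS.compP j).obj WU ⟶ V), ∀ G : EtModW.ModP Λ U,
      Function.Bijective (((shriek Λ j).obj G).obj.map a.op) := by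
  obtain ⟨e, he, h1, hiff, h2⟩ :=
    Groth.Agent.Lib.Helper29.ExtZeroLim3.exists_idem_scheme j (V' := V.left) V.hom hV
  have hWoaff : IsAffineOpen (V.left.basicOpen e) := (isAffineOpen_top V.left).basicOpen e
  have hWcaff : IsAffineOpen (V.left.basicOpen (1 - e)) :=
    (isAffineOpen_top V.left).basicOpen (1 - e)
  haveI : IsAffine (V.left.basicOpen e).toScheme := hWoaff
  haveI : IsAffine (V.left.basicOpen (1 - e)).toScheme := hWcaff
  have hmemι : ∀ (O : V.left.Opens) (w : ↥O), O.ι w ∈ O := by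
    intro O w
    have h0 : O.ι w ∈ Set.range O.ι := ⟨w, rfl⟩
    rw [Scheme.Opens.range_ι] at h0
    exact h0
  have hrange : Set.range ((V.left.basicOpen e).ι ≫ V.hom).base ⊆ Set.range j.base := by
    rintro _ ⟨w, rfl⟩
    exact h1 _ (hmemι _ w)
  let l : (V.left.basicOpen e).toScheme ⟶ U :=
    IsOpenImmersion.lift j ((V.left.basicOpen e).ι ≫ V.hom) hrange
  have hl : l ≫ j = (V.left.basicOpen e).ι ≫ V.hom := IsOpenImmersion.lift_fac _ _ _
  haveI : WeaklyEtale (l ≫ j) := by rw [hl]; infer_instance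
  haveI : WeaklyEtale l := WeaklyEtale.of_comp l j
  let WU : U.ProEt := Scheme.ProEt.mk l
  let a : (ProEtS.compP j).obj WU ⟶ V :=
    MorphismProperty.Over.homMk (V.left.basicOpen e).ι hl.symm trivial
  let B : X.ProEt := Groth.Agent.Lib.Helper29.Main7284.opOb V (V.left.basicOpen (1 - e))
  let b : B ⟶ V := Groth.Agent.Lib.Helper29.Main7284.opIncl V (V.left.basicOpen (1 - e))
  refine ⟨WU, a, fun G => ?_⟩
  haveI : IsAffine B.left := hWcaff
  have hVB : ∀ y : ↥B.left, ∃ z : ↥B.left, B.hom.base z ∉ Set.range j.base ∧ y ⤳ z := by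
    intro y
    obtain ⟨z₀, hz₀, hzj, hyz⟩ := h2 _ (hmemι (V.left.basicOpen (1 - e)) y)
    have hz₀' : z₀ ∈ Set.range (V.left.basicOpen (1 - e)).ι := by
      rw [Scheme.Opens.range_ι]; exact hz₀
    obtain ⟨z, rfl⟩ := hz₀'
    refine ⟨z, hzj, ?_⟩
    exact (V.left.basicOpen (1 - e)).ι.isOpenEmbedding.isInducing.specializes_iff.mp hyz
  haveI hsub : Subsingleton (((shriek Λ j).obj G).obj.obj (op B)) :=
    AdicShriek2.vanish Λ j B hVB G
  have hsh : Presieve.IsSheaf (Scheme.ProEt.topology X)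
      (((shriek Λ j).obj G).obj ⋙ forget (ModuleCat.{u + 1} Λ)) :=
    (isSheaf_iff_isSheaf_of_type _ _).1
      ((Presheaf.isSheaf_iff_isSheaf_forget _ _ (forget (ModuleCat.{u + 1} Λ))).1
        ((shriek Λ j).obj G).2)
  haveI : Mono a.left := (inferInstance : Mono (V.left.basicOpen e).ι)
  haveI : Mono b.left := (inferInstance : Mono (V.left.basicOpen (1 - e)).ι)
  have hqa : QuasiCompact a.left := (inferInstance : QuasiCompact (V.left.basicOpen e).ι)
  have hqb : QuasiCompact b.left := (inferInstance : QuasiCompact (V.left.basicOpen (1 - e)).ι)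
  have hsurj : ∀ x : V.left, (∃ y, a.left y = x) ∨ (∃ y, b.left y = x) := by
    intro x
    by_cases hx : x ∈ V.left.basicOpen e
    · left
      have hx' : x ∈ Set.range (V.left.basicOpen e).ι := by
        rw [Scheme.Opens.range_ι]; exact hx
      exact hx'
    · right
      have hx' : x ∈ Set.range (V.left.basicOpen (1 - e)).ι := by
        rw [Scheme.Opens.range_ι]; exact (hiff x).mpr hx
      exact hx'
  have hdisj : ∀ (y : ((ProEtS.compP j).obj WU).left) (y' : B.left), a.left y ≠ b.left y' := by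
    intro y y' hyy
    have h3 : a.left y ∈ V.left.basicOpen e := hmemι (V.left.basicOpen e) y
    have h4 : b.left y' ∈ V.left.basicOpen (1 - e) := hmemι (V.left.basicOpen (1 - e)) y'
    rw [← hyy] at h4
    exact ((hiff _).mp h4) h3
  haveI : Subsingleton ((((shriek Λ j).obj G).obj ⋙ forget (ModuleCat.{u + 1} Λ)).obj
      (op B)) := hsub
  exact Groth.Agent.Lib.Helper29.ExtZeroLim1.bijective_restrict hsh a b hqa hqb hsurj hdisj
    (0 : ((shriek Λ j).obj G).obj.obj (op B))

set_option backward.isDefEq.respectTransparency.types false in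
theorem preservesLimit_of_data (K : ℕᵒᵖ ⥤ EtModW.ModP Λ U) (V : X.ProEt) (WU : U.ProEt)
    (a : (ProEtS.compP j).obj WU ⟶ V)
    (ha : ∀ G : EtModW.ModP Λ U,
      Function.Bijective (((shriek Λ j).obj G).obj.map a.op)) :
    PreservesLimit K (shriek Λ j ⋙
      (sheafToPresheaf (Scheme.ProEt.topology X) (ModuleCat.{u + 1} Λ) ⋙
        (evaluation _ _).obj (op V))) := by
  haveI : ProEtS.PCont j := Groth.Agent.Lib.Helper15.ProEtCont.pCont j
  let E : EtModW.ModP Λ X ⥤ ModuleCat.{u + 1} Λ :=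
    sheafToPresheaf (Scheme.ProEt.topology X) (ModuleCat.{u + 1} Λ) ⋙ (evaluation _ _).obj (op V)
  let E' : EtModW.ModP Λ U ⥤ ModuleCat.{u + 1} Λ :=
    sheafToPresheaf (Scheme.ProEt.topology U) (ModuleCat.{u + 1} Λ) ⋙
      (evaluation _ _).obj (op WU)
  have hiso : ∀ G : EtModW.ModP Λ U, IsIso (((shriek Λ j).obj G).obj.map a.op) := fun G =>
    (ConcreteCategory.isIso_iff_bijective _).mpr (ha G)
  let α : shriek Λ j ⋙ E ≅ (shriek Λ j ⋙ restr Λ j) ⋙ E' :=
    NatIso.ofComponents
      (fun G => @asIso _ _ _ _ (((shriek Λ j).obj G).obj.map a.op) (hiso G))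
      (fun {G G'} g => (((shriek Λ j).map g).hom.naturality a.op).symm)
  haveI : IsIso (shriekAdj Λ j).unit := isIso_unit_shriekAdj Λ j
  let β : (shriek Λ j ⋙ restr Λ j) ⋙ E' ≅ E' :=
    Functor.isoWhiskerRight (asIso (shriekAdj Λ j).unit).symm E' ≪≫ Functor.leftUnitor E'
  haveI : PreservesLimit K E' := inferInstance
  exact preservesLimit_of_natIso K (α ≪≫ β).symm

set_option backward.isDefEq.respectTransparency.types false in
theorem preservesLimit_shriek (K : ℕᵒᵖ ⥤ EtModW.ModP Λ U) :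
    PreservesLimit K (shriek Λ j) := by
  apply preservesLimit_of_preserves_limit_cone (limit.isLimit K)
  haveI : IsIso ((limit.isLimit (K ⋙ shriek Λ j)).lift
      ((shriek Λ j).mapCone (limit.cone K))) := by
    apply AdicShriek2.isIso_of_bijective_on_wc
    intro V hVaff hVwc
    haveI := hVaff
    obtain ⟨WU, a, ha⟩ := exists_data Λ j V hVwc
    haveI := preservesLimit_of_data Λ j K V WU a ha
    let E : EtModW.ModP Λ X ⥤ ModuleCat.{u + 1} Λ :=
      sheafToPresheaf (Scheme.ProEt.topology X) (ModuleCat.{u + 1} Λ) ⋙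
        (evaluation _ _).obj (op V)
    have h1 : IsLimit (E.mapCone ((shriek Λ j).mapCone (limit.cone K))) :=
      isLimitOfPreserves (shriek Λ j ⋙ E) (limit.isLimit K)
    have h2 : IsLimit (E.mapCone (limit.cone (K ⋙ shriek Λ j))) :=
      isLimitOfPreserves E (limit.isLimit (K ⋙ shriek Λ j))
    let f : E.mapCone ((shriek Λ j).mapCone (limit.cone K)) ⟶
        E.mapCone (limit.cone (K ⋙ shriek Λ j)) :=
      { hom := E.map ((limit.isLimit (K ⋙ shriek Λ j)).lift
          ((shriek Λ j).mapCone (limit.cone K)))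
        w := fun k => by
          show E.map _ ≫ E.map _ = E.map _
          rw [← E.map_comp, (limit.isLimit (K ⋙ shriek Λ j)).fac] }
    haveI : IsIso f := IsLimit.hom_isIso h1 h2 f
    have h3 : IsIso f.hom := (Cone.forget _).map_isIso f
    exact ConcreteCategory.bijective_of_isIso f.hom
  exact IsLimit.ofPointIso (limit.isLimit (K ⋙ shriek Λ j))

set_option backward.isDefEq.respectTransparency.types false in
theorem main14030
    (I : Ideal Λ)
    {U X : Scheme.{u}} (j : U ⟶ X) [IsOpenImmersion j] [QuasiCompact j] [hje : Etale j]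
    [WeaklyEtale j]
    [ProEtS.EpsCont U] [ProEtS.EpsCont X] [ProEtS.JPCont j]
    [hJc : (MorphismProperty.Over.map (P := EtCoh.etaleMP.{u}) ⊤ (f := j) hje).IsContinuous U.smallEtaleTopology X.smallEtaleTopology]
    [hJr : ((MorphismProperty.Over.map (P := EtCoh.etaleMP.{u}) ⊤ (f := j) hje).sheafPushforwardContinuous (ModuleCat.{u + 1} Λ) U.smallEtaleTopology X.smallEtaleTopology).IsRightAdjoint]
    (hext : ∀ E : EtModW.Mod Λ U, EtModW.IsConstructible Λ E →
      EtModW.IsConstructible Λ (((MorphismProperty.Over.map (P := EtCoh.etaleMP.{u}) ⊤ (f := j) hje).sheafPullback (ModuleCat.{u + 1} Λ) U.smallEtaleTopology X.smallEtaleTopology).obj E))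
    (F : EtModW.ModP Λ U)
    (hF : (∃ (Q : ℕᵒᵖ ⥤ EtModW.ModP Λ U) (p : (Functor.const ℕᵒᵖ).obj F ⟶ Q),
        (∀ n : ℕ, ARSys.IsQuot (I ^ (n + 1)) (p.app (op n))) ∧
        (∀ n : ℕ, ∃ E : EtModW.Mod Λ U, EtModW.IsConstructible Λ E ∧
          Nonempty ((EtModW.epsPullMod Λ U).obj E ≅ Q.obj (op n))) ∧
        IsIso (limit.lift Q (Cone.mk F p)))) :
    (∃ (Q : ℕᵒᵖ ⥤ EtModW.ModP Λ X) (p : (Functor.const ℕᵒᵖ).obj (((ProEtS.compP j).sheafPullback (ModuleCat.{u + 1} Λ) (Scheme.ProEt.topology U) (Scheme.ProEt.topology X)).obj F) ⟶ Q),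
      (∀ n : ℕ, ARSys.IsQuot (I ^ (n + 1)) (p.app (op n))) ∧
      (∀ n : ℕ, ∃ E : EtModW.Mod Λ X, EtModW.IsConstructible Λ E ∧
        Nonempty ((EtModW.epsPullMod Λ X).obj E ≅ Q.obj (op n))) ∧
      IsIso (limit.lift Q (Cone.mk (((ProEtS.compP j).sheafPullback (ModuleCat.{u + 1} Λ) (Scheme.ProEt.topology U) (Scheme.ProEt.topology X)).obj F) p))) := by
  obtain ⟨Q, p, hq, hE, hlim⟩ := hF
  have hc : IsLimit (Cone.mk F p) := by
    haveI : IsIso ((limit.isLimit Q).lift (Cone.mk F p)) := hlim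
    exact IsLimit.ofPointIso (limit.isLimit Q)
  haveI : PreservesLimit Q (shriek Λ j) := preservesLimit_shriek Λ j Q
  have hc' : IsLimit ((shriek Λ j).mapCone (Cone.mk F p)) := isLimitOfPreserves (shriek Λ j) hc
  refine ⟨Q ⋙ shriek Λ j, ((shriek Λ j).mapCone (Cone.mk F p)).π, ?_, ?_, ?_⟩
  · intro n
    exact isQuot_map (shriekAdj Λ j) (fun a {_ _} f => restr_map_smul Λ j a f) (I ^ (n + 1))
      (p.app (op n)) (hq n)
  · intro n
    obtain ⟨E, hEc, ⟨e⟩⟩ := hE n
    refine ⟨((MorphismProperty.Over.map (P := EtCoh.etaleMP.{u}) ⊤ (f := j) hje).sheafPullback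
      (ModuleCat.{u + 1} Λ) U.smallEtaleTopology X.smallEtaleTopology).obj E, hext E hEc, ⟨?_⟩⟩
    let Je : U.Etale ⥤ X.Etale :=
      MorphismProperty.Over.map (P := EtCoh.etaleMP.{u}) ⊤ (f := j) hje
    haveI hc1 : Je.IsContinuous U.smallEtaleTopology X.smallEtaleTopology := hJc
    haveI hc2 : (Je.sheafPushforwardContinuous (ModuleCat.{u + 1} Λ) U.smallEtaleTopology
      X.smallEtaleTopology).IsRightAdjoint := hJr
    exact (leftIsoMod Λ j Je (Groth.Agent.Lib.Helper15.ProEtRestr.sitesIso j)).app E ≪≫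
      (shriek Λ j).mapIso e
  · have h3 : IsIso (hc'.conePointUniqueUpToIso (limit.isLimit (Q ⋙ shriek Λ j))).hom :=
      inferInstance
    exact h3

end Groth.Agent.Lib.Helper29.AdicShriek3
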