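import Mathlib

set_option autoImplicit false
universe u
open Polynomial

namespace Groth.Agent.Lib.Helper29.AdjRootLoc

section loc
variable {P : Type u} [CommRing P] (h : P[X]) (S : Submonoid P)

/-- the localisation of `AdjoinRoot h` at the image of `S` -/
abbrev Al : Type u := Localization (Algebra.algebraMapSubmonoid (AdjoinRoot h) S)

theorem tower (x : P) :
    algebraMap (AdjoinRoot h) (Al h S) (algebraMap P (AdjoinRoot h) x) =
      algebraMap (Localization S) (Al h S) (algebraMap P (Localization S) x) := by
  rw [← IsScalarTower.algebraMap_apply P (AdjoinRoot h) (Al h S),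
    ← IsScalarTower.algebraMap_apply P (Localization S) (Al h S)]

theorem mk_C' (x : P) : AdjoinRoot.mk h (C x) = algebraMap P (AdjoinRoot h) x := rfl

theorem theta_integral (hu : IsUnit (algebraMap P (Localization S) h.leadingCoeff)) :
    IsIntegral (Localization S) (algebraMap (AdjoinRoot h) (Al h S) (AdjoinRoot.root h)) := by
  have h0 : aeval (AdjoinRoot.root h) h = 0 := by
    rw [AdjoinRoot.aeval_eq, AdjoinRoot.mk_self]
  have h1 : IsIntegral P (h.leadingCoeff • AdjoinRoot.root h) :=
    isIntegral_leadingCoeff_smul h (AdjoinRoot.root h) h0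
  have h2 : IsIntegral P (algebraMap (AdjoinRoot h) (Al h S)
      (h.leadingCoeff • AdjoinRoot.root h)) := h1.algebraMap
  have h3 : IsIntegral (Localization S) (algebraMap (AdjoinRoot h) (Al h S)
      (h.leadingCoeff • AdjoinRoot.root h)) := h2.tower_top
  rw [Algebra.smul_def, map_mul, tower] at h3
  obtain ⟨u, hu⟩ := hu
  rw [← hu] at h3
  have e : algebraMap (AdjoinRoot h) (Al h S) (AdjoinRoot.root h) =
      algebraMap (Localization S) (Al h S) ((u⁻¹ : (Localization S)ˣ) : Localization S) *
        (algebraMap (Localization S) (Al h S) (u : Localization S) *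
          algebraMap (AdjoinRoot h) (Al h S) (AdjoinRoot.root h)) := by
    rw [← mul_assoc, ← map_mul, Units.inv_mul, map_one, one_mul]
  rw [e]
  exact IsIntegral.mul isIntegral_algebraMap h3

theorem image_integral
    (hθ : IsIntegral (Localization S) (algebraMap (AdjoinRoot h) (Al h S) (AdjoinRoot.root h)))
    (x : AdjoinRoot h) : IsIntegral (Localization S) (algebraMap (AdjoinRoot h) (Al h S) x) := by
  induction x using AdjoinRoot.induction_on with
  | ih f =>
    induction f using Polynomial.induction_on with
    | C r =>
      rw [mk_C', tower]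
      exact isIntegral_algebraMap
    | add p q hp hq =>
      rw [map_add, map_add]
      exact IsIntegral.add hp hq
    | monomial n r ih =>
      have e : AdjoinRoot.mk h (C r * X ^ (n + 1)) =
          AdjoinRoot.mk h (C r * X ^ n) * AdjoinRoot.root h := by
        rw [pow_succ, ← mul_assoc, map_mul, AdjoinRoot.mk_X]
      rw [e, map_mul]
      exact IsIntegral.mul ih hθ

theorem all_integral (hu : IsUnit (algebraMap P (Localization S) h.leadingCoeff)) :
    Algebra.IsIntegral (Localization S) (Al h S) := by
  constructor
  intro y
  obtain ⟨⟨x, t⟩, hxt⟩ := IsLocalization.surj (Algebra.algebraMapSubmonoid (AdjoinRoot h) S) y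
  obtain ⟨s, hs, hst⟩ := t.2
  obtain ⟨v, hv⟩ := IsLocalization.map_units (Localization S) (⟨s, hs⟩ : S)
  have hv' : (v : Localization S) = algebraMap P (Localization S) s := hv
  have h1 : y * algebraMap (Localization S) (Al h S) (v : Localization S) =
      algebraMap (AdjoinRoot h) (Al h S) x := by
    rw [hv', ← tower]
    have : algebraMap P (AdjoinRoot h) s = (t : AdjoinRoot h) := hst
    rw [this]
    exact hxt
  have e : y = algebraMap (AdjoinRoot h) (Al h S) x *
      algebraMap (Localization S) (Al h S) ((v⁻¹ : (Localization S)ˣ) : Localization S) := by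
    rw [← h1, mul_assoc, ← map_mul, Units.mul_inv, map_one, mul_one]
  rw [e]
  exact IsIntegral.mul (image_integral h S (theta_integral h S hu) x) isIntegral_algebraMap

theorem unit_of_integral [IsDomain P] (hint : Algebra.IsIntegral (Localization S) (Al h S)) :
    IsUnit (algebraMap P (Localization S) h.leadingCoeff) := by
  by_cases h0 : (0 : P) ∈ S
  · haveI : Subsingleton (Localization S) := IsLocalization.subsingleton (M := S) h0
    exact isUnit_of_subsingleton _
  · have hS : S ≤ nonZeroDivisors P := fun s hs =>
      mem_nonZeroDivisors_of_ne_zero (fun e => h0 (e ▸ hs))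
    haveI : IsDomain (Localization S) := IsLocalization.isDomain_of_le_nonZeroDivisors _ hS
    have hinj : Function.Injective (algebraMap P (Localization S)) :=
      IsLocalization.injective _ hS
    obtain ⟨m, hm_monic, hm_eval⟩ :=
      hint.isIntegral (algebraMap (AdjoinRoot h) (Al h S) (AdjoinRoot.root h))
    obtain ⟨b, hbS, hb⟩ := IsLocalization.integerNormalization_spec S m
    have e0 := IsLocalization.integerNormalization_eval₂_eq_zero (M := S)
      (algebraMap (Localization S) (Al h S)) m hm_eval
    have e1 : algebraMap (AdjoinRoot h) (Al h S)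
        (AdjoinRoot.mk h (IsLocalization.integerNormalization S m)) = 0 := by
      rw [← AdjoinRoot.aeval_eq, Polynomial.aeval_def, Polynomial.hom_eval₂,
        ← IsScalarTower.algebraMap_eq P (AdjoinRoot h) (Al h S),
        IsScalarTower.algebraMap_eq P (Localization S) (Al h S)]
      exact e0
    obtain ⟨c, hc⟩ := (IsLocalization.map_eq_zero_iff
      (Algebra.algebraMapSubmonoid (AdjoinRoot h) S) (Al h S) _).mp e1
    obtain ⟨s, hs, hsc⟩ := c.2
    have e2 : AdjoinRoot.mk h (C s * IsLocalization.integerNormalization S m) = 0 := by
      rw [map_mul, mk_C']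
      have : algebraMap P (AdjoinRoot h) s = (c : AdjoinRoot h) := hsc
      rw [this]
      exact hc
    obtain ⟨q₀, hq₀⟩ := AdjoinRoot.mk_eq_zero.mp e2
    have hbm : (b • m : (Localization S)[X]) = C (algebraMap P (Localization S) b) * m := by
      ext i
      rw [coeff_smul, coeff_C_mul, Algebra.smul_def]
    have e3 := congrArg (Polynomial.map (algebraMap P (Localization S))) hq₀
    rw [Polynomial.map_mul, Polynomial.map_mul, Polynomial.map_C, hb, hbm] at e3
    have e4 := congrArg Polynomial.leadingCoeff e3
    rw [leadingCoeff_mul, leadingCoeff_mul, leadingCoeff_C, leadingCoeff_C, hm_monic.leadingCoeff,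
      leadingCoeff_mul, leadingCoeff_map_of_injective hinj] at e4
    have hunit : IsUnit (algebraMap P (Localization S) s * (algebraMap P (Localization S) b * 1)) :=
      (IsLocalization.map_units (Localization S) (⟨s, hs⟩ : S)).mul
        ((IsLocalization.map_units (Localization S) (⟨b, hbS⟩ : S)).mul isUnit_one)
    rw [e4] at hunit
    exact isUnit_of_mul_isUnit_left hunit

end loc

section frac
variable {P : Type u} [CommRing P] [IsDomain P] (h : P[X])

theorem finrank_tensor (hne : h ≠ 0) :
    Module.finrank (FractionRing P) (TensorProduct P (FractionRing P) (AdjoinRoot h)) =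
      h.natDegree := by
  have hinj : Function.Injective (algebraMap P (FractionRing P)) :=
    IsFractionRing.injective P (FractionRing P)
  set q : (TensorProduct P (FractionRing P) P)[X] :=
    h.map (Algebra.TensorProduct.includeRight : P →ₐ[P] TensorProduct P (FractionRing P) P).toRingHom
    with hq
  have e1 := AdjoinRoot.tensorAlgEquiv (R := P) (S := P) (T := FractionRing P) h q rfl
  have hmap : q.map ((Algebra.TensorProduct.rid P (FractionRing P) (FractionRing P)) :
      TensorProduct P (FractionRing P) P →+* FractionRing P) =
      h.map (algebraMap P (FractionRing P)) := by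
    rw [hq, Polynomial.map_map]
    congr 1
    ext x
    simp [Algebra.smul_def]
  have e2 := AdjoinRoot.mapAlgEquiv (Algebra.TensorProduct.rid P (FractionRing P) (FractionRing P))
    q (h.map (algebraMap P (FractionRing P))) (by rw [← hmap])
  have hne' : h.map (algebraMap P (FractionRing P)) ≠ 0 := by
    rw [Ne, Polynomial.map_eq_zero_iff hinj]
    exact hne
  rw [(e1.trans e2).toLinearEquiv.finrank_eq, (AdjoinRoot.powerBasis hne').finrank,
    AdjoinRoot.powerBasis_dim, natDegree_map_eq_of_injective hinj]

end frac

theorem main17410 (K : Type u) [Field K]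
    (h : Polynomial (MvPolynomial (Fin 2) K)) (hdeg : h.natDegree = 2)
    (S : Submonoid (MvPolynomial (Fin 2) K)) :
    (Algebra.IsIntegral (Localization S) (Localization (Algebra.algebraMapSubmonoid (AdjoinRoot h) S))
        ↔ IsUnit (algebraMap (MvPolynomial (Fin 2) K) (Localization S) h.leadingCoeff))
      ∧ Module.finrank (FractionRing (MvPolynomial (Fin 2) K))
          (TensorProduct (MvPolynomial (Fin 2) K) (FractionRing (MvPolynomial (Fin 2) K)) (AdjoinRoot h)) = 2 := by
  refine ⟨⟨fun hint => unit_of_integral h S hint, fun hu => all_integral h S hu⟩, ?_⟩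
  have hne : h ≠ 0 := by
    intro e
    rw [e, natDegree_zero] at hdeg
    omega
  rw [finrank_tensor h hne, hdeg]

end Groth.Agent.Lib.Helper29.AdjRootLoc
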