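import Mathlib
import Groth.Prelude.Def_AlgGrp
import Groth.Agent.Lib.Helper29.AbHom
import Groth.Agent.Lib.Helper29.AbComm

/-!
# The Albanese of a product (S14830)
-/
set_option autoImplicit false
set_option maxHeartbeats 1600000
set_option linter.style.haveILetI false
universe u
open CategoryTheory CategoryTheory.Limits MonoidalCategory CartesianMonoidalCategory MonObj GrpObj
  AlgebraicGeometry

noncomputable section

namespace Groth.Agent.Lib.Helper29.AlbProd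

theorem albanese_prod_over (k : Type u) [Field k] (X Y : Over (Spec (CommRingCat.of k)))
    [IsProper X.hom] [IsProper Y.hom] [GeometricallyIntegral X.hom] [GeometricallyIntegral Y.hom]
    (x₀ : 𝟙_ (Over (Spec (CommRingCat.of k))) ⟶ X) (y₀ : 𝟙_ (Over (Spec (CommRingCat.of k))) ⟶ Y)
    (A : Over (Spec (CommRingCat.of k))) [GrpObj A] [IsProper A.hom] [GeometricallyIntegral A.hom]
    (albX : X ⟶ A) (halbX : x₀ ≫ albX = η[A])
    (hunivA : ∀ (C : Over (Spec (CommRingCat.of k))) [GrpObj C] [IsProper C.hom]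
      [GeometricallyReduced C.hom] [ConnectedSpace ↥C.left]
      (g : X ⟶ C), x₀ ≫ g = η[C] → ∃! h : A ⟶ C, IsMonHom h ∧ albX ≫ h = g)
    (B : Over (Spec (CommRingCat.of k))) [GrpObj B] [IsProper B.hom] [GeometricallyIntegral B.hom]
    (albY : Y ⟶ B) (halbY : y₀ ≫ albY = η[B])
    (hunivB : ∀ (C : Over (Spec (CommRingCat.of k))) [GrpObj C] [IsProper C.hom]
      [GeometricallyReduced C.hom] [ConnectedSpace ↥C.left]
      (g : Y ⟶ C), y₀ ≫ g = η[C] → ∃! h : B ⟶ C, IsMonHom h ∧ albY ≫ h = g)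
    (C : Over (Spec (CommRingCat.of k))) [GrpObj C] [IsProper C.hom] [GeometricallyReduced C.hom]
    [ConnectedSpace ↥C.left]
    (g : X ⊗ Y ⟶ C) (hg : lift x₀ y₀ ≫ g = η[C]) :
    ∃! h : A ⊗ B ⟶ C, IsMonHom h ∧ (albX ⊗ₘ albY) ≫ h = g := by
  haveI : GeometricallyIntegral C.hom :=
    Groth.Agent.Lib.Helper29.AbHom.geometricallyIntegral_of_geometricallyReduced k C
  haveI : IsCommMonObj C := Groth.Agent.Lib.Helper29.AbComm.isCommMonObj_of_abelianVariety k C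
  obtain ⟨i₁, hi₁⟩ : ∃ i₁ : X ⟶ X ⊗ Y, i₁ = lift (𝟙 X) (toUnit X ≫ y₀) := ⟨_, rfl⟩
  obtain ⟨i₂, hi₂⟩ : ∃ i₂ : Y ⟶ X ⊗ Y, i₂ = lift (toUnit Y ≫ x₀) (𝟙 Y) := ⟨_, rfl⟩
  obtain ⟨g₁, hg₁⟩ : ∃ g₁ : X ⟶ C, g₁ = i₁ ≫ g := ⟨_, rfl⟩
  obtain ⟨g₂, hg₂⟩ : ∃ g₂ : Y ⟶ C, g₂ = i₂ ≫ g := ⟨_, rfl⟩
  have hx₀i₁ : x₀ ≫ i₁ = lift x₀ y₀ := by
    rw [hi₁, comp_lift, Category.comp_id, ← Category.assoc,
      toUnit_unique (x₀ ≫ toUnit X) (𝟙 _), Category.id_comp]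
  have hy₀i₂ : y₀ ≫ i₂ = lift x₀ y₀ := by
    rw [hi₂, comp_lift, Category.comp_id, ← Category.assoc,
      toUnit_unique (y₀ ≫ toUnit Y) (𝟙 _), Category.id_comp]
  have hg₁0 : x₀ ≫ g₁ = η[C] := by rw [hg₁, ← Category.assoc, hx₀i₁, hg]
  have hg₂0 : y₀ ≫ g₂ = η[C] := by rw [hg₂, ← Category.assoc, hy₀i₂, hg]
  -- rigidity on `X × Y`
  have hkey : g = (fst X Y ≫ g₁) * (snd X Y ≫ g₂) := by
    have e1 : i₁ ≫ fst X Y ≫ g₁ = g₁ := by rw [hi₁, lift_fst_assoc, Category.id_comp]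
    have e2 : i₁ ≫ snd X Y ≫ g₂ = 1 := by
      rw [hi₁, lift_snd_assoc, Category.assoc, hg₂0, ← Hom.one_def]
    have e1' : i₂ ≫ fst X Y ≫ g₁ = 1 := by
      rw [hi₂, lift_fst_assoc, Category.assoc, hg₁0, ← Hom.one_def]
    have e2' : i₂ ≫ snd X Y ≫ g₂ = g₂ := by rw [hi₂, lift_snd_assoc, Category.id_comp]
    have hV : i₁ ≫ (g * ((fst X Y ≫ g₁) * (snd X Y ≫ g₂))⁻¹) = toUnit X ≫ η[C] := by
      rw [MonObj.comp_mul, GrpObj.comp_inv, MonObj.comp_mul, e1, e2, ← hg₁, _root_.mul_one,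
        _root_.mul_inv_cancel, Hom.one_def]
    have hW : i₂ ≫ (g * ((fst X Y ≫ g₁) * (snd X Y ≫ g₂))⁻¹) = toUnit Y ≫ η[C] := by
      rw [MonObj.comp_mul, GrpObj.comp_inv, MonObj.comp_mul, e1', e2', ← hg₂, _root_.one_mul,
        _root_.mul_inv_cancel, Hom.one_def]
    rw [hi₁] at hV
    rw [hi₂] at hW
    have h1 := Groth.Agent.S8117.result k X Y C _ x₀ y₀ η[C] hV hW
    rw [← Hom.one_def] at h1
    exact mul_inv_eq_one.mp h1
  obtain ⟨h₁, ⟨hh₁m, hh₁⟩, hu₁⟩ := hunivA C g₁ hg₁0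
  obtain ⟨h₂, ⟨hh₂m, hh₂⟩, hu₂⟩ := hunivB C g₂ hg₂0
  haveI := hh₁m
  haveI := hh₂m
  obtain ⟨h, hh⟩ : ∃ h : A ⊗ B ⟶ C, h = lift (fst A B ≫ h₁) (snd A B ≫ h₂) ≫ μ[C] := ⟨_, rfl⟩
  have hmon : IsMonHom h := by rw [hh]; infer_instance
  have hcomp : (albX ⊗ₘ albY) ≫ h = g := by
    rw [hkey, hh, ← Category.assoc, comp_lift, tensorHom_fst_assoc, tensorHom_snd_assoc, hh₁, hh₂,
      Hom.mul_def]
  -- restrictions to the factors
  obtain ⟨j₁, hj₁⟩ : ∃ j₁ : A ⟶ A ⊗ B, j₁ = lift (𝟙 A) (toUnit A ≫ η[B]) := ⟨_, rfl⟩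
  obtain ⟨j₂, hj₂⟩ : ∃ j₂ : B ⟶ A ⊗ B, j₂ = lift (toUnit B ≫ η[A]) (𝟙 B) := ⟨_, rfl⟩
  haveI hj₁m : IsMonHom j₁ := by rw [hj₁]; infer_instance
  haveI hj₂m : IsMonHom j₂ := by rw [hj₂]; infer_instance
  have hij₁ : albX ≫ j₁ = i₁ ≫ (albX ⊗ₘ albY) := by
    have e : albX ≫ toUnit A ≫ η[B] = toUnit X ≫ η[B] := by
      rw [← Category.assoc, toUnit_unique (albX ≫ toUnit A) (toUnit X)]
    rw [hj₁, hi₁, comp_lift, lift_map, Category.comp_id, Category.id_comp, Category.assoc, halbY, e]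
  have hij₂ : albY ≫ j₂ = i₂ ≫ (albX ⊗ₘ albY) := by
    have e : albY ≫ toUnit B ≫ η[A] = toUnit Y ≫ η[A] := by
      rw [← Category.assoc, toUnit_unique (albY ≫ toUnit B) (toUnit Y)]
    rw [hj₂, hi₂, comp_lift, lift_map, Category.comp_id, Category.id_comp, Category.assoc, halbX, e]
  have hrestr : ∀ h' : A ⊗ B ⟶ C, IsMonHom h' → (albX ⊗ₘ albY) ≫ h' = g →
      j₁ ≫ h' = h₁ ∧ j₂ ≫ h' = h₂ := by
    intro h' hm' hc'
    haveI := hm'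
    constructor
    · refine hu₁ (j₁ ≫ h') ⟨inferInstance, ?_⟩
      rw [← Category.assoc, hij₁, Category.assoc, hc', hg₁]
    · refine hu₂ (j₂ ≫ h') ⟨inferInstance, ?_⟩
      rw [← Category.assoc, hij₂, Category.assoc, hc', hg₂]
  refine ⟨h, ⟨hmon, hcomp⟩, ?_⟩
  rintro h' ⟨hm', hc'⟩
  obtain ⟨r1, r2⟩ := hrestr h hmon hcomp
  obtain ⟨r1', r2'⟩ := hrestr h' hm' hc'
  have hV : j₁ ≫ (h' * h⁻¹) = toUnit A ≫ η[C] := by
    rw [MonObj.comp_mul, GrpObj.comp_inv, r1, r1', _root_.mul_inv_cancel, Hom.one_def]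
  have hW : j₂ ≫ (h' * h⁻¹) = toUnit B ≫ η[C] := by
    rw [MonObj.comp_mul, GrpObj.comp_inv, r2, r2', _root_.mul_inv_cancel, Hom.one_def]
  rw [hj₁] at hV
  rw [hj₂] at hW
  have h1 := Groth.Agent.S8117.result k A B C _ η[A] η[B] η[C] hV hW
  rw [← Hom.one_def] at h1
  exact mul_inv_eq_one.mp h1

theorem main14830 (k : Type u) [Field k] (X Y : Scheme.{u}) [X.Over (Spec (CommRingCat.of k))]
    [Y.Over (Spec (CommRingCat.of k))]
    [IsProper (X ↘ Spec (CommRingCat.of k))] [IsProper (Y ↘ Spec (CommRingCat.of k))]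
    [GeometricallyIntegral (X ↘ Spec (CommRingCat.of k))]
    [GeometricallyIntegral (Y ↘ Spec (CommRingCat.of k))]
    (x₀ : 𝟙_ (Over (Spec (CommRingCat.of k))) ⟶ Over.mk (X ↘ Spec (CommRingCat.of k)))
    (y₀ : 𝟙_ (Over (Spec (CommRingCat.of k))) ⟶ Over.mk (Y ↘ Spec (CommRingCat.of k)))
    (A : Over (Spec (CommRingCat.of k))) [GrpObj A] [IsProper A.hom] [GeometricallyIntegral A.hom]
    (albX : Over.mk (X ↘ Spec (CommRingCat.of k)) ⟶ A) (halbX : x₀ ≫ albX = η[A])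
    (hunivA : ∀ (C : Over (Spec (CommRingCat.of k))) [GrpObj C] [IsProper C.hom]
      [GeometricallyReduced C.hom] [ConnectedSpace ↥C.left]
      (g : Over.mk (X ↘ Spec (CommRingCat.of k)) ⟶ C), x₀ ≫ g = η[C] →
        ∃! h : A ⟶ C, IsMonHom h ∧ albX ≫ h = g)
    (B : Over (Spec (CommRingCat.of k))) [GrpObj B] [IsProper B.hom] [GeometricallyIntegral B.hom]
    (albY : Over.mk (Y ↘ Spec (CommRingCat.of k)) ⟶ B) (halbY : y₀ ≫ albY = η[B])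
    (hunivB : ∀ (C : Over (Spec (CommRingCat.of k))) [GrpObj C] [IsProper C.hom]
      [GeometricallyReduced C.hom] [ConnectedSpace ↥C.left]
      (g : Over.mk (Y ↘ Spec (CommRingCat.of k)) ⟶ C), y₀ ≫ g = η[C] →
        ∃! h : B ⟶ C, IsMonHom h ∧ albY ≫ h = g)
    (C : Over (Spec (CommRingCat.of k))) [GrpObj C] [IsProper C.hom] [GeometricallyReduced C.hom]
    [ConnectedSpace ↥C.left]
    (g : Over.mk (X ↘ Spec (CommRingCat.of k)) ⊗ Over.mk (Y ↘ Spec (CommRingCat.of k)) ⟶ C)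
    (hg : lift x₀ y₀ ≫ g = η[C]) :
    ∃! h : A ⊗ B ⟶ C, IsMonHom h ∧ (albX ⊗ₘ albY) ≫ h = g := by
  haveI : IsProper (Over.mk (X ↘ Spec (CommRingCat.of k))).hom :=
    ‹IsProper (X ↘ Spec (CommRingCat.of k))›
  haveI : IsProper (Over.mk (Y ↘ Spec (CommRingCat.of k))).hom :=
    ‹IsProper (Y ↘ Spec (CommRingCat.of k))›
  haveI : GeometricallyIntegral (Over.mk (X ↘ Spec (CommRingCat.of k))).hom :=
    ‹GeometricallyIntegral (X ↘ Spec (CommRingCat.of k))›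
  haveI : GeometricallyIntegral (Over.mk (Y ↘ Spec (CommRingCat.of k))).hom :=
    ‹GeometricallyIntegral (Y ↘ Spec (CommRingCat.of k))›
  exact albanese_prod_over k _ _ x₀ y₀ A albX halbX hunivA B albY halbY hunivB C g hg

end Groth.Agent.Lib.Helper29.AlbProd
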