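import Mathlib

set_option autoImplicit false
universe u

namespace Groth.Agent.Lib.Helper29.Alternants

open MvPolynomial

section
variable (k : Type u) [Field k] (n : ℕ)

/-- The matrix attached to an exponent family. -/
noncomputable def Mx (p : Fin n → ℕ × ℕ) :
    Matrix (Fin n) (Fin n) (MvPolynomial (Fin n × Fin 2) k) :=
  Matrix.of fun i j : Fin n =>
    (X (i, 0) : MvPolynomial (Fin n × Fin 2) k) ^ (p j).1 * X (i, 1) ^ (p j).2

/-- The action of a permutation. -/
noncomputable def ρ (σ : Equiv.Perm (Fin n)) :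
    MvPolynomial (Fin n × Fin 2) k →ₐ[k] MvPolynomial (Fin n × Fin 2) k :=
  rename (fun v : Fin n × Fin 2 => (σ v.1, v.2))

theorem ρ_entry (σ : Equiv.Perm (Fin n)) (p : Fin n → ℕ × ℕ) (i j : Fin n) :
    ρ k n σ (Mx k n p i j) = Mx k n p (σ i) j := by
  simp only [ρ, Mx, Matrix.of_apply, map_mul, map_pow, rename_X]

theorem ρ_det (σ : Equiv.Perm (Fin n)) (p : Fin n → ℕ × ℕ) :
    ρ k n σ (Mx k n p).det = ((Equiv.Perm.sign σ : ℤˣ) : ℤ) • (Mx k n p).det := by
  rw [AlgHom.map_det]
  have : (ρ k n σ).mapMatrix (Mx k n p) = (Mx k n p).submatrix σ id := by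
    refine Matrix.ext fun i j => ?_
    simp only [AlgHom.mapMatrix_apply, Matrix.map_apply, Matrix.submatrix_apply, id_eq]
    exact ρ_entry k n σ p i j
  rw [this, Matrix.det_permute, zsmul_eq_mul]

/-- exponent family of a monomial -/
def pm (m : (Fin n × Fin 2) →₀ ℕ) : Fin n → ℕ × ℕ := fun j => (m (j, 0), m (j, 1))

/-- monomial of an exponent family -/
noncomputable def mon (p : Fin n → ℕ × ℕ) : (Fin n × Fin 2) →₀ ℕ :=
  Finsupp.equivFunOnFinite.symm (fun v => if v.2 = 0 then (p v.1).1 else (p v.1).2)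

theorem pm_mon (p : Fin n → ℕ × ℕ) : pm n (mon n p) = p := by
  funext j
  apply Prod.ext
  · simp [pm, mon]
  · simp [pm, mon]

theorem mon_injective : Function.Injective (mon n) := fun p q h => by
  rw [← pm_mon n p, ← pm_mon n q, h]

theorem monomial_eq_prod (m : (Fin n × Fin 2) →₀ ℕ) :
    monomial m (1 : k) = ∏ i : Fin n, Mx k n (pm n m) i i := by
  rw [monomial_eq, C_1, one_mul, Finsupp.prod_fintype _ _ (fun _ => pow_zero _),
    Fintype.prod_prod_type]
  refine Finset.prod_congr rfl fun i _ => ?_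
  rw [Fin.prod_univ_two]
  rfl

theorem det_eq_sum (p : Fin n → ℕ × ℕ) :
    (Mx k n p).det = ∑ σ : Equiv.Perm (Fin n),
      ((Equiv.Perm.sign σ : ℤˣ) : ℤ) • monomial (mon n (p ∘ σ)) (1 : k) := by
  rw [← Matrix.det_transpose, Matrix.det_apply]
  refine Finset.sum_congr rfl fun σ _ => ?_
  rw [Units.smul_def, monomial_eq_prod k n (mon n (p ∘ σ))]
  congr 1

theorem coeff_det (p q : Fin n → ℕ × ℕ) :
    coeff (mon n q) (Mx k n p).det =
      ∑ σ : Equiv.Perm (Fin n),
        if p ∘ σ = q then (((Equiv.Perm.sign σ : ℤˣ) : ℤ) : k) else 0 := by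
  classical
  rw [det_eq_sum, coeff_sum]
  refine Finset.sum_congr rfl fun σ _ => ?_
  rw [coeff_smul, coeff_monomial]
  by_cases h : p ∘ σ = q
  · rw [if_pos h, if_pos (by rw [h]), zsmul_eq_mul, mul_one]
  · rw [if_neg h, if_neg (fun h' => h (mon_injective n h')), smul_zero]

/-- alternating polynomials -/
def IsAlt (f : MvPolynomial (Fin n × Fin 2) k) : Prop :=
  ∀ σ : Equiv.Perm (Fin n), ρ k n σ f = ((Equiv.Perm.sign σ : ℤˣ) : ℤ) • f

theorem alt_of_mem_span (f : MvPolynomial (Fin n × Fin 2) k)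
    (hf : f ∈ Submodule.span k (Set.range fun p : Fin n → ℕ × ℕ => (Mx k n p).det)) :
    IsAlt k n f := by
  intro σ
  induction hf using Submodule.span_induction with
  | mem y hy =>
    obtain ⟨p, rfl⟩ := hy
    exact ρ_det k n σ p
  | zero => rw [map_zero, smul_zero]
  | add y z _ _ ihy ihz => rw [map_add, ihy, ihz, smul_add]
  | smul a y _ ih => rw [map_smul, ih, smul_comm]

theorem mem_span_of_alt [CharZero k] (f : MvPolynomial (Fin n × Fin 2) k) (hf : IsAlt k n f) :
    f ∈ Submodule.span k (Set.range fun p : Fin n → ℕ × ℕ => (Mx k n p).det) := by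
  classical
  have h1 : ((n.factorial : ℕ) : k) • f =
      ∑ σ : Equiv.Perm (Fin n), ((Equiv.Perm.sign σ : ℤˣ) : ℤ) • ρ k n σ f := by
    have : ∀ σ : Equiv.Perm (Fin n), ((Equiv.Perm.sign σ : ℤˣ) : ℤ) • ρ k n σ f = f := by
      intro σ
      rw [hf σ, smul_smul, ← Units.val_mul, Int.units_mul_self, Units.val_one, one_smul]
    rw [Finset.sum_congr rfl (fun σ _ => this σ), Finset.sum_const, Finset.card_univ,
      Fintype.card_perm, Fintype.card_fin, Nat.cast_smul_eq_nsmul]
  have h2 : ∀ m : (Fin n × Fin 2) →₀ ℕ,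
      ∑ σ : Equiv.Perm (Fin n), ((Equiv.Perm.sign σ : ℤˣ) : ℤ) • ρ k n σ (monomial m (1 : k)) =
        (Mx k n (pm n m)).det := by
    intro m
    rw [Matrix.det_apply]
    refine Finset.sum_congr rfl fun σ _ => ?_
    rw [Units.smul_def, monomial_eq_prod k n m, map_prod]
    congr 1
    exact Finset.prod_congr rfl fun i _ => ρ_entry k n σ _ i i
  have h4 : ∀ σ : Equiv.Perm (Fin n),
      ρ k n σ f = ∑ m ∈ f.support, coeff m f • ρ k n σ (monomial m (1 : k)) := by
    intro σ
    conv_lhs => rw [f.as_sum]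
    rw [map_sum]
    refine Finset.sum_congr rfl fun m _ => ?_
    rw [← map_smul, smul_monomial, smul_eq_mul, mul_one]
  have h3 : ((n.factorial : ℕ) : k) • f =
      ∑ m ∈ f.support, coeff m f • (Mx k n (pm n m)).det := by
    rw [h1]
    simp only [h4, Finset.smul_sum]
    rw [Finset.sum_comm]
    refine Finset.sum_congr rfl fun m _ => ?_
    rw [← h2 m, Finset.smul_sum]
    refine Finset.sum_congr rfl fun σ _ => ?_
    rw [smul_comm]
  have hne : ((n.factorial : ℕ) : k) ≠ 0 := Nat.cast_ne_zero.mpr (Nat.factorial_ne_zero n)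
  have hfe : f = ((n.factorial : ℕ) : k)⁻¹ • (((n.factorial : ℕ) : k) • f) := by
    rw [smul_smul, inv_mul_cancel₀ hne, one_smul]
  rw [hfe, h3]
  exact Submodule.smul_mem _ _ (Submodule.sum_mem _ fun m _ =>
    Submodule.smul_mem _ _ (Submodule.subset_span ⟨_, rfl⟩))

theorem li : LinearIndependent k (fun p : {p : Fin n → ℕ ×ₗ ℕ // StrictMono p} =>
    (Mx k n (fun j => ofLex (p.1 j))).det) := by
  classical
  rw [linearIndependent_iff']
  intro s g hg q hq
  have hcoef := congrArg (coeff (mon n (fun j => ofLex (q.1 j)))) hg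
  rw [coeff_sum, coeff_zero] at hcoef
  have key : ∀ p : {p : Fin n → ℕ ×ₗ ℕ // StrictMono p},
      coeff (mon n (fun j => ofLex (q.1 j))) ((Mx k n (fun j => ofLex (p.1 j))).det) =
        if p = q then 1 else 0 := by
    intro p
    rw [coeff_det]
    by_cases hpq : p = q
    · rw [if_pos hpq, hpq]
      rw [Finset.sum_eq_single_of_mem (1 : Equiv.Perm (Fin n)) (Finset.mem_univ _)]
      · rw [if_pos (by rfl)]
        simp
      · intro σ _ hσ
        rw [if_neg]
        intro h
        apply hσ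
        refine Equiv.ext fun i => q.2.injective ?_
        exact ofLex.injective (congrFun h i)
    · rw [if_neg hpq]
      refine Finset.sum_eq_zero fun σ _ => ?_
      rw [if_neg]
      intro h
      apply hpq
      have h' : p.1 ∘ σ = q.1 := by
        funext i
        exact ofLex.injective (congrFun h i)
      have hr : Set.range q.1 = Set.range p.1 := by
        rw [← h', EquivLike.range_comp]
      exact Subtype.ext ((StrictMono.range_inj p.2 q.2).mp hr.symm)
  have h1 : ∑ p ∈ s, g p * (if p = q then (1 : k) else 0) = 0 := by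
    refine Eq.trans (Finset.sum_congr rfl fun p _ => ?_) hcoef
    rw [coeff_smul, key p, smul_eq_mul]
  rw [Finset.sum_eq_single_of_mem q hq (fun p _ hpq => by rw [if_neg hpq, mul_zero]),
    if_pos rfl, mul_one] at h1
  exact h1

end

theorem main19449 (k : Type u) [Field k] [CharZero k] (n : ℕ) :
    (∀ f : MvPolynomial (Fin n × Fin 2) k,
      (∀ σ : Equiv.Perm (Fin n),
          MvPolynomial.rename (fun v : Fin n × Fin 2 => (σ v.1, v.2)) f = ((Equiv.Perm.sign σ : ℤˣ) : ℤ) • f) ↔
        f ∈ Submodule.span k (Set.range fun p : Fin n → ℕ × ℕ =>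
          (Matrix.of fun i j : Fin n =>
            (MvPolynomial.X (i, 0) : MvPolynomial (Fin n × Fin 2) k) ^ (p j).1 * MvPolynomial.X (i, 1) ^ (p j).2).det)) ∧
    LinearIndependent k (fun p : {p : Fin n → ℕ ×ₗ ℕ // StrictMono p} =>
      (Matrix.of fun i j : Fin n =>
        (MvPolynomial.X (i, 0) : MvPolynomial (Fin n × Fin 2) k) ^ (ofLex (p.1 j)).1 *
          MvPolynomial.X (i, 1) ^ (ofLex (p.1 j)).2).det) :=
  ⟨fun f => ⟨fun h => mem_span_of_alt k n f h, fun h => alt_of_mem_span k n f h⟩, li k n⟩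

end Groth.Agent.Lib.Helper29.Alternants
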