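import Mathlib
import Groth.Agent.S14578
import Groth.Agent.Lib.Helper11.IM2
import Groth.Agent.Lib.Helper11.GrpD
import Groth.Agent.Lib.Helper16.SchImgKer

/-!
# A pointed morphism from an anti-affine group factors through the largest anti-affine subgroup

`f : G ⟶ H` pointed with `O(G) = k` is a homomorphism (S14578); its scheme-theoretic image is a
closed subgroup scheme of `H` (helper11 `IM2.image_grpObj`) with only constant global functions
(the map to the image is scheme-theoretically dominant), so it lies in the largest anti-affine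
subgroup scheme.
-/

set_option autoImplicit false
set_option maxHeartbeats 1600000
universe u
open CategoryTheory MonoidalCategory CartesianMonoidalCategory MonObj GrpObj AlgebraicGeometry
  CategoryTheory.Limits

namespace Groth.Agent.Lib.Helper29.AntiAffFactor

theorem main19703 (k : Type u) [Field k]
    (G H : Over (Spec (CommRingCat.of k))) [GrpObj G] [Smooth G.hom] [QuasiCompact G.hom]
    (hG : Function.Bijective ((Scheme.ΓSpecIso (CommRingCat.of k)).inv ≫ G.hom.appTop).hom)
    [GrpObj H] [LocallyOfFiniteType H.hom] [QuasiCompact H.hom] [ConnectedSpace ↥H.left]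
    (M : Over (Spec (CommRingCat.of k))) [GrpObj M] [LocallyOfFiniteType M.hom] [QuasiCompact M.hom] (j : M ⟶ H) [IsMonHom j] [IsClosedImmersion j.left]
    (hM : Function.Bijective ((Scheme.ΓSpecIso (CommRingCat.of k)).inv ≫ M.hom.appTop).hom)
    (hMmax : ∀ (M₁ : Over (Spec (CommRingCat.of k))) [GrpObj M₁] [LocallyOfFiniteType M₁.hom] [QuasiCompact M₁.hom] (j₁ : M₁ ⟶ H) [IsMonHom j₁] [IsClosedImmersion j₁.left],
      Function.Bijective ((Scheme.ΓSpecIso (CommRingCat.of k)).inv ≫ M₁.hom.appTop).hom → ∃ g : M₁ ⟶ M, g ≫ j = j₁)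
    (f : G ⟶ H) (hf : η[G] ≫ f = η[H]) :
    ∃ g : G ⟶ M, g ≫ j = f := by
  haveI : LocallyOfFiniteType G.hom := inferInstance
  haveI hfm : IsMonHom f := Groth.Agent.S14578.result k G H hG f hf
  haveI : IsSeparated H.hom := Groth.Agent.Lib.Helper11.GrpD.isSeparated_hom H
  haveI : QuasiCompact f.left := by
    haveI : QuasiCompact (f.left ≫ H.hom) := by
      rw [Over.w f]
      infer_instance
    exact QuasiCompact.of_comp f.left H.hom
  let K : Over (Spec (CommRingCat.of k)) := Over.mk (f.left.imageι ≫ H.hom)
  let i : K ⟶ H := Over.homMk f.left.imageι rfl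
  let g : G ⟶ K := Over.homMk f.left.toImage (by
    change f.left.toImage ≫ f.left.imageι ≫ H.hom = G.hom
    rw [← Category.assoc, Scheme.Hom.toImage_imageι, Over.w f])
  have hgi : g ≫ i = f := by
    ext1
    exact Scheme.Hom.toImage_imageι f.left
  haveI : IsClosedImmersion i.left := (inferInstance : IsClosedImmersion f.left.imageι)
  haveI : IsSchemeTheoreticallyDominant g.left :=
    ⟨Groth.Agent.Lib.Helper16.SchImgKer.ker_toImage f.left⟩
  haveI : QuasiCompact g.left := (inferInstance : QuasiCompact f.left.toImage)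
  obtain ⟨GrK, hiK, -⟩ := Groth.Agent.Lib.Helper11.IM2.image_grpObj G H K f i g hgi
  letI := GrK
  haveI := hiK
  haveI : LocallyOfFiniteType K.hom :=
    (inferInstance : LocallyOfFiniteType (f.left.imageι ≫ H.hom))
  haveI : QuasiCompact K.hom := (inferInstance : QuasiCompact (f.left.imageι ≫ H.hom))
  have hK : Function.Bijective ((Scheme.ΓSpecIso (CommRingCat.of k)).inv ≫ K.hom.appTop).hom := by
    have e : G.hom.appTop = K.hom.appTop ≫ g.left.appTop := by
      rw [← Scheme.Hom.comp_appTop]
      exact congrArg Scheme.Hom.appTop (Over.w g).symm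
    have hinj : Function.Injective g.left.appTop.hom := Scheme.Hom.app_injective g.left ⊤
    have hcomp : ∀ c, ((Scheme.ΓSpecIso (CommRingCat.of k)).inv ≫ G.hom.appTop).hom c =
        g.left.appTop.hom (((Scheme.ΓSpecIso (CommRingCat.of k)).inv ≫ K.hom.appTop).hom c) := by
      intro c
      rw [e]
      rfl
    constructor
    · intro a b hab
      apply hG.1
      rw [hcomp, hcomp, hab]
    · intro s
      obtain ⟨c, hc⟩ := hG.2 (g.left.appTop.hom s)
      exact ⟨c, hinj (by rw [← hcomp, hc])⟩
  obtain ⟨g', hg'⟩ := hMmax K i hK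
  exact ⟨g ≫ g', by rw [Category.assoc, hg', hgi]⟩

end Groth.Agent.Lib.Helper29.AntiAffFactor
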