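import Mathlib
import Groth.Statements.S11411

/-!
# Helper library (helper29): the kernel of the affinization morphism

`N = ρ⁻¹(ρ(e))` for `ρ : G ⟶ Spec O(G)`: every homomorphism to an affine group factors through `ρ`,
so `N` lies in its kernel; every anti-affine subgroup maps to a point under `ρ`, so lies in `N`.
-/

set_option autoImplicit false
set_option maxHeartbeats 1600000
universe u
open CategoryTheory MonoidalCategory CartesianMonoidalCategory MonObj GrpObj AlgebraicGeometry
  CategoryTheory.Limits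

namespace Groth.Agent.Lib.Helper29.AntiAffineB

/-- a morphism from a scheme with only constant functions to an affine scheme is constant -/
theorem eq_const_scheme (k : Type u) [Field k] {G : Over (Spec (CommRingCat.of k))}
    [GrpObj G]
    (hG : Function.Bijective ((Scheme.ΓSpecIso (CommRingCat.of k)).inv ≫ G.hom.appTop).hom)
    {Y : Scheme.{u}} [IsAffine Y] (n : G.left ⟶ Y) :
    n = (toUnit G).left ≫ η[G].left ≫ n := by
  have hu : (toUnit G).left = G.hom := by
    have := Over.w (toUnit G)
    simpa using this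
  have hη : η[G].left ≫ G.hom = 𝟙 _ := by
    have := Over.w η[G]
    simpa using this
  have key : ∀ r : Γ(G.left, ⊤), G.hom.appTop (η[G].left.appTop r) = r := by
    intro r
    obtain ⟨c, rfl⟩ := hG.2 r
    have h := congrArg (fun t => t.appTop ((Scheme.ΓSpecIso (CommRingCat.of k)).inv c)) hη
    have h' : η[G].left.appTop (G.hom.appTop ((Scheme.ΓSpecIso (CommRingCat.of k)).inv c)) =
        (Scheme.ΓSpecIso (CommRingCat.of k)).inv c := h
    show G.hom.appTop (η[G].left.appTop
      (G.hom.appTop ((Scheme.ΓSpecIso (CommRingCat.of k)).inv c))) = _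
    rw [h']
    rfl
  apply ext_of_isAffine
  rw [hu]
  ext s
  exact (key (n.appTop s)).symm

theorem comp_eq_of_toSpecΓ {S : Scheme.{u}} {G Q : Over S} [GrpObj G] {P : Scheme.{u}} (p₁ : P ⟶ G.left)
    (p₂ : P ⟶ (𝟙_ (Over S)).left)
    (hp : p₁ ≫ G.left.toSpecΓ = p₂ ≫ η[G].left ≫ G.left.toSpecΓ) (q : G ⟶ Q) [IsAffine Q.left] :
    p₁ ≫ q.left = p₂ ≫ η[G].left ≫ q.left := by
  rw [← cancel_mono Q.left.toSpecΓ]
  simp only [Category.assoc]
  rw [Scheme.toSpecΓ_naturality, ← Category.assoc, hp]
  simp only [Category.assoc]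

theorem main11411 (k : Type u) [Field k] [IsAlgClosed k]
    (G : Over (Spec (CommRingCat.of k))) [GrpObj G] [Smooth G.hom] [QuasiCompact G.hom] :
    (∀ (H Q : Over (Spec (CommRingCat.of k))) [GrpObj H] [GrpObj Q] (h : H ⟶ G) [IsMonHom h] [IsClosedImmersion h.left]
        [LocallyOfFiniteType Q.hom] [QuasiCompact Q.hom] (q : G ⟶ Q) [IsMonHom q] [Surjective q.left] [Flat q.left],
        AlgGrp.IsKernel h q → IsAffine Q.left →
        ∃ f : pullback G.left.toSpecΓ (η[G].left ≫ G.left.toSpecΓ) ⟶ H.left, f ≫ h.left = pullback.fst G.left.toSpecΓ (η[G].left ≫ G.left.toSpecΓ)) ∧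
    (∀ (M : Over (Spec (CommRingCat.of k))) [GrpObj M] (j : M ⟶ G) [IsMonHom j] [IsClosedImmersion j.left],
        Function.Bijective ((Scheme.ΓSpecIso (CommRingCat.of k)).inv ≫ M.hom.appTop).hom →
        ∃ f : M.left ⟶ pullback G.left.toSpecΓ (η[G].left ≫ G.left.toSpecΓ), f ≫ pullback.fst G.left.toSpecΓ (η[G].left ≫ G.left.toSpecΓ) = j.left) := by
  refine ⟨?_, ?_⟩
  · intro H Q _ _ h _ _ _ _ q _ _ _ hk hQ
    haveI := hQ
    have hk' : IsPullback h (toUnit H) q η[Q] := hk
    have hkL : IsPullback h.left (toUnit H).left q.left η[Q].left := hk'.map (Over.forget _)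
    have hone : η[G].left ≫ q.left = η[Q].left := by
      rw [← Over.comp_left, IsMonHom.one_hom]
    have hc : pullback.fst G.left.toSpecΓ (η[G].left ≫ G.left.toSpecΓ) ≫ q.left =
        pullback.snd G.left.toSpecΓ (η[G].left ≫ G.left.toSpecΓ) ≫ η[Q].left := by
      rw [← hone]
      exact comp_eq_of_toSpecΓ _ _ pullback.condition q
    exact ⟨hkL.lift _ _ hc, hkL.lift_fst _ _ _⟩
  · intro M _ j _ _ hM
    have hone : η[M].left ≫ j.left = η[G].left := by
      rw [← Over.comp_left, IsMonHom.one_hom]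
    have hc : j.left ≫ G.left.toSpecΓ = (toUnit M).left ≫ η[G].left ≫ G.left.toSpecΓ := by
      have := eq_const_scheme k hM (j.left ≫ G.left.toSpecΓ)
      rw [this, ← hone]
      simp only [Category.assoc]
    exact ⟨pullback.lift j.left (toUnit M).left hc, pullback.lift_fst _ _ _⟩

end Groth.Agent.Lib.Helper29.AntiAffineB
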