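import Groth.Agent.Lib.Helper29.IsogFib

/-!
# Helper library (helper29): subgroup schemes over a local artinian ring are closed
(`main5384`; reduction to the residue field and helper1's
`GrpSchLib.isClosed_range_of_eq_closure_inter`)
-/

set_option autoImplicit false
set_option maxHeartbeats 1600000
universe u
open CategoryTheory CategoryTheory.Limits MonoidalCategory CartesianMonoidalCategory MonObj GrpObj
  AlgebraicGeometry

namespace Groth.Agent.Lib.Helper29.ArtinSubgrp

open Groth.Agent.Lib.Helper29 Groth.Agent.Lib.Helper29.IsogFib

theorem main5384 (A : Type u) [CommRing A] [IsArtinianRing A] [IsLocalRing A]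
    (G H : Over (Spec (CommRingCat.of A))) [GrpObj G] [GrpObj H]
    (u : H ⟶ G) [IsMonHom u] [IsImmersion u.left] : IsClosedImmersion u.left := by
  let t : Spec (CommRingCat.of (IsLocalRing.ResidueField A)) ⟶ Spec (CommRingCat.of A) :=
    Spec.map (CommRingCat.ofHom (IsLocalRing.residue A))
  haveI : IsClosedImmersion t :=
    IsClosedImmersion.spec_of_surjective _ IsLocalRing.residue_surjective
  haveI : Subsingleton (PrimeSpectrum A) := inferInstance
  haveI : Subsingleton (Spec (CommRingCat.of A)) := ‹Subsingleton (PrimeSpectrum A)›
  haveI : Surjective t := ⟨fun x => ⟨Classical.arbitrary _, Subsingleton.elim _ _⟩⟩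
  have hsq := fibre_sq t u
  haveI : IsImmersion ((Over.pullback t).map u).left :=
    MorphismProperty.of_isPullback (P := @IsImmersion) hsq inferInstance
  have hlc := ((Over.pullback t).map u).left.isLocallyClosed_range
  have hcl : IsClosed (Set.range ((Over.pullback t).map u).left) :=
    Groth.Agent.Lib.Helper1.GrpSchLib.isClosed_range_of_eq_closure_inter ((Over.pullback t).map u)
      (coborder (Set.range ((Over.pullback t).map u).left)) hlc.isOpen_coborder
      (by rw [Set.inter_comm, coborder_inter_closure])
  haveI : Surjective (pullback.fst H.hom t) :=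
    MorphismProperty.pullback_fst (P := @Surjective) H.hom t inferInstance
  haveI : IsClosedImmersion (pullback.fst G.hom t) := inferInstance
  have hrange : Set.range u.left =
      (pullback.fst G.hom t) '' Set.range ((Over.pullback t).map u).left := by
    ext g
    constructor
    · rintro ⟨h, rfl⟩
      obtain ⟨h', rfl⟩ := (pullback.fst H.hom t).surjective h
      refine ⟨_, ⟨h', rfl⟩, ?_⟩
      rw [← Scheme.Hom.comp_apply, ← hsq.w, Scheme.Hom.comp_apply]
    · rintro ⟨_, ⟨h', rfl⟩, rfl⟩
      refine ⟨pullback.fst H.hom t h', ?_⟩
      rw [← Scheme.Hom.comp_apply, hsq.w, Scheme.Hom.comp_apply]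
  have hclosed : IsClosed (Set.range u.left) := by
    rw [hrange]
    exact (pullback.fst G.hom t).isClosedEmbedding.isClosedMap _ hcl
  exact IsClosedImmersion.of_isPreimmersion _ hclosed

end Groth.Agent.Lib.Helper29.ArtinSubgrp
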