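import Mathlib
import Groth.Prelude.Def_CInt

/-!
# Faithfully flat separated schematically birational morphisms are isomorphisms (S15993)
-/
set_option autoImplicit false
set_option maxHeartbeats 1600000
set_option linter.style.haveILetI false
universe u
open CategoryTheory CategoryTheory.Limits AlgebraicGeometry

noncomputable section

namespace Groth.Agent.Lib.Helper29.FFlatBirat

theorem isSchDom_of_dense {X : Scheme.{u}} (V : X.Opens) [QuasiCompact V.ι]
    (hV : CInt.IsSchematicallyDense V) : IsSchemeTheoreticallyDominant V.ι := by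
  rw [isSchemeTheoreticallyDominant_iff]
  ext W : 2
  rw [Scheme.IdealSheafData.ideal_bot, Pi.bot_apply, eq_bot_iff]
  intro x hx
  have h1 := (V.ι).ideal_ker_le W hx
  have h2 : ((V.ι).app W.1).hom x = 0 := h1
  rw [Ideal.mem_bot]
  have key : ∀ (A : X.Opens) (_ : A = W.1 ⊓ V) (h : A ≤ W.1),
      Function.Injective (X.presheaf.map (homOfLE h).op) := by
    rintro _ rfl h
    exact hV W.1
  rw [Scheme.Opens.ι_app] at h2
  refine (map_eq_zero_iff _ (key _ ?_ _)).mp h2
  rw [Scheme.Hom.image_preimage_eq_opensRange_inf, Scheme.Opens.opensRange_ι, inf_comm]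

theorem mono_of_dense {X S Y : Scheme.{u}} (f : X ⟶ S) [Flat f] [IsSeparated f]
    (j : Y ⟶ X) [IsOpenImmersion j] [QuasiCompact j] [IsSchemeTheoreticallyDominant j]
    [Mono (j ≫ f)] : Mono f := by
  let p1 : pullback f f ⟶ X := pullback.fst f f
  let p2 : pullback f f ⟶ X := pullback.snd f f
  let a₁ : pullback p1 j ⟶ pullback f f := pullback.fst p1 j
  let q : pullback p1 j ⟶ X := a₁ ≫ p2
  haveI : Flat q := by dsimp only [q, a₁, p2]; infer_instance
  let a₂ : pullback q j ⟶ pullback p1 j := pullback.fst q j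
  let m : pullback q j ⟶ pullback f f := a₂ ≫ a₁
  haveI : IsSchemeTheoreticallyDominant a₁ := by dsimp only [a₁]; infer_instance
  haveI : IsSchemeTheoreticallyDominant a₂ := by dsimp only [a₂]; infer_instance
  haveI : IsSchemeTheoreticallyDominant m := by dsimp only [m]; infer_instance
  let v₁ : pullback q j ⟶ Y := a₂ ≫ pullback.snd p1 j
  let v₂ : pullback q j ⟶ Y := pullback.snd q j
  have e1 : m ≫ p1 = v₁ ≫ j := by
    dsimp only [m, v₁, a₁]
    rw [Category.assoc, Category.assoc, pullback.condition]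
  have e2 : m ≫ p2 = v₂ ≫ j := by
    dsimp only [m, v₂, a₂]
    rw [Category.assoc]
    exact pullback.condition
  clear_value m v₁ v₂
  have hc : (m ≫ p1) ≫ f = (m ≫ p2) ≫ f := by
    rw [Category.assoc, Category.assoc, show p1 ≫ f = p2 ≫ f from pullback.condition]
  have hv : v₁ = v₂ := by
    rw [← cancel_mono (j ≫ f)]
    calc v₁ ≫ j ≫ f = (m ≫ p1) ≫ f := by rw [e1, Category.assoc]
      _ = (m ≫ p2) ≫ f := hc
      _ = v₂ ≫ j ≫ f := by rw [e2, Category.assoc]
  have hm : m = (v₁ ≫ j) ≫ pullback.diagonal f := by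
    apply pullback.hom_ext
    · have h3 : ((v₁ ≫ j) ≫ pullback.diagonal f) ≫ pullback.fst f f = v₁ ≫ j := by
        rw [Category.assoc, pullback.diagonal_fst, Category.comp_id]
      rw [h3]
      exact e1
    · have h3 : ((v₁ ≫ j) ≫ pullback.diagonal f) ≫ pullback.snd f f = v₂ ≫ j := by
        rw [Category.assoc, pullback.diagonal_snd, Category.comp_id, hv]
      rw [h3]
      exact e2
  have hker : (pullback.diagonal f).ker = ⊥ := by
    rw [eq_bot_iff, ← Scheme.Hom.ker_eq_bot m, hm]
    exact Scheme.Hom.le_ker_comp _ _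
  haveI : IsIso (pullback.diagonal f) := IsClosedImmersion.isIso_iff_ker_eq_bot.mpr hker
  exact (pullback.isIso_diagonal_iff f).mp inferInstance

theorem main15993 {X S : Scheme.{u}} (f : X ⟶ S)
    [Flat f] [Surjective f] [QuasiCompact f] [IsSeparated f]
    (U : S.Opens) (V : X.Opens) [QuasiCompact V.ι]
    (hU : CInt.IsSchematicallyDense U) (hV : CInt.IsSchematicallyDense V)
    (hle : V ≤ f ⁻¹ᵁ U) (hiso : IsIso (f.resLE U V hle)) : IsIso f := by
  haveI := isSchDom_of_dense V hV
  haveI := hiso
  haveI : Mono (V.ι ≫ f) := by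
    rw [← Scheme.Hom.resLE_comp_ι f hle]
    infer_instance
  haveI : Mono f := mono_of_dense f V.ι
  exact isIso_of_mono_of_strongEpi f

end Groth.Agent.Lib.Helper29.FFlatBirat
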