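import Mathlib
import Groth.Prelude.Def_AlgGrp

/-!
# Scheme-theoretically dominant morphisms are epimorphisms towards separated targets (S14834)
-/
set_option autoImplicit false
set_option maxHeartbeats 1600000
set_option linter.style.haveILetI false
universe u
open CategoryTheory CategoryTheory.Limits MonoidalCategory CartesianMonoidalCategory MonObj GrpObj
  AlgebraicGeometry

noncomputable section

namespace Groth.Agent.Lib.Helper29.SchDomEpi

theorem ker_eq_bot_of_isIso_app {X Y : Scheme.{u}} (r : X ⟶ Y)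
    (hr : ∀ U : Y.Opens, IsIso (r.app U)) : r.ker = ⊥ := by
  ext U : 2
  rw [Scheme.IdealSheafData.ideal_bot, Pi.bot_apply, eq_bot_iff]
  intro x hx
  have h1 := r.ideal_ker_le U hx
  haveI := hr U.1
  have h2 : (r.app U.1).hom x = 0 := h1
  rw [Ideal.mem_bot]
  exact (map_eq_zero_iff _ (ConcreteCategory.bijective_of_isIso (r.app U.1)).1).mp h2

theorem eq_of_comp_eq_of_ker_eq_bot {S : Scheme.{u}} {X Y B : Over S} [IsSeparated B.hom]
    (r : X ⟶ Y) (hr : r.left.ker = ⊥) (f g : Y ⟶ B) (h : r ≫ f = r ≫ g) : f = g := by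
  have hfac : equalizer.lift r h ≫ equalizer.ι f g = r := equalizer.lift_ι _ _
  have hker : (equalizer.ι f g).left.ker = ⊥ := by
    rw [eq_bot_iff, ← hr, ← hfac, Over.comp_left]
    exact Scheme.Hom.le_ker_comp _ _
  haveI : IsIso (equalizer.ι f g).left := IsClosedImmersion.isIso_iff_ker_eq_bot.mpr hker
  apply Over.OverMorphism.ext
  rw [← cancel_epi (equalizer.ι f g).left, ← Over.comp_left, ← Over.comp_left,
    equalizer.condition]

theorem main14834 (k : Type u) [Field k] (X Y : Over (Spec (CommRingCat.of k)))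
    [IsProper X.hom] [IsProper Y.hom] (h0 : Function.Bijective (X.hom.appTop).hom)
    (x₀ : 𝟙_ (Over (Spec (CommRingCat.of k))) ⟶ X)
    (A : Over (Spec (CommRingCat.of k))) [GrpObj A] [IsProper A.hom] [GeometricallyIntegral A.hom]
    (alb : X ⟶ A) (halb : x₀ ≫ alb = η[A])
    (huniv : ∀ (B : Over (Spec (CommRingCat.of k))) [GrpObj B] [IsProper B.hom]
      [GeometricallyReduced B.hom] [ConnectedSpace ↥B.left]
      (g : X ⟶ B), x₀ ≫ g = η[B] → ∃! h : A ⟶ B, IsMonHom h ∧ alb ≫ h = g)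
    (r : X ⟶ Y) (hr : ∀ U : Y.left.Opens, IsIso (r.left.app U)) (s : Y ⟶ A) [IsFinite s.left]
    (hrs : r ≫ s = alb)
    (B : Over (Spec (CommRingCat.of k))) [GrpObj B] [IsProper B.hom] [GeometricallyReduced B.hom]
    [ConnectedSpace ↥B.left]
    (g : Y ⟶ B) (hg : x₀ ≫ r ≫ g = η[B]) :
    ∃! h : A ⟶ B, IsMonHom h ∧ s ≫ h = g := by
  have hker : r.left.ker = ⊥ := ker_eq_bot_of_isIso_app r.left hr
  obtain ⟨h, ⟨hm, hc⟩, hu⟩ := huniv B (r ≫ g) hg
  refine ⟨h, ⟨hm, ?_⟩, ?_⟩
  · apply eq_of_comp_eq_of_ker_eq_bot r hker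
    rw [← Category.assoc, hrs, hc]
  · rintro h' ⟨hm', hc'⟩
    exact hu h' ⟨hm', by rw [← hrs, Category.assoc, hc']⟩

end Groth.Agent.Lib.Helper29.SchDomEpi
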