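import Mathlib
import Groth.Prelude.Def_CInt
import Groth.Agent.Lib.Helper29.FFlatBirat
import Groth.Agent.Lib.Helper29.SchDomEpi

/-!
# Opens containing all associated points are schematically dense (S15806)
-/
set_option autoImplicit false
set_option maxHeartbeats 1600000
set_option linter.style.haveILetI false
universe u
open CategoryTheory CategoryTheory.Limits AlgebraicGeometry

noncomputable section

namespace Groth.Agent.Lib.Helper29.AssDense

theorem alg_ass (R R' : Type u) [CommRing R] [CommRing R'] [Algebra R R'] (P : Ideal R)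
    [P.IsPrime] [IsLocalization.AtPrime R' P] [IsLocalRing R']
    (hP : P ∈ associatedPrimes R R) :
    IsLocalRing.maximalIdeal R' ∈ associatedPrimes R' R' := by
  haveI : IsLocalizedModule P.primeCompl (Algebra.linearMap R R') :=
    (isLocalizedModule_iff_isLocalization).mpr inferInstance
  apply Module.associatedPrimes.mem_associatedPrimes_of_comap_mem_associatedPrimes_of_isLocalizedModule
    P.primeCompl (Algebra.linearMap R R')
  have h1 : (IsLocalRing.maximalIdeal R').comap (algebraMap R R') = P :=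
    IsLocalization.AtPrime.under_maximalIdeal R' P
  rw [h1]
  exact hP

theorem alg_ne (R R' : Type u) [CommRing R] [CommRing R'] [Algebra R R'] (P : Ideal R)
    [P.IsPrime] [IsLocalization.AtPrime R' P] (s : R)
    (hs : (⊥ : Submodule R R).colon {s} ≤ P) : algebraMap R R' s ≠ 0 := by
  intro h0
  obtain ⟨m, hm⟩ := (IsLocalization.map_eq_zero_iff P.primeCompl R' s).mp h0
  have h1 : (m : R) ∈ (⊥ : Submodule R R).colon {s} := by
    rw [Submodule.mem_colon_singleton]
    simpa using hm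
  exact m.2 (hs h1)

theorem dense_of_ass (S : Scheme.{u}) [AlgebraicGeometry.IsNoetherian S] (U : S.Opens)
    (hU : ∀ s : S, IsLocalRing.maximalIdeal (S.presheaf.stalk s) ∈
        associatedPrimes (S.presheaf.stalk s) (S.presheaf.stalk s) → s ∈ U) :
    CInt.IsSchematicallyDense U := by
  intro W
  rw [injective_iff_map_eq_zero]
  intro s hs
  by_contra hne
  have hex : ∃ x, ∃ hx : x ∈ W, S.presheaf.germ W x hx s ≠ 0 := by
    by_contra hcon
    push_neg at hcon
    exact hne (TopCat.Presheaf.section_ext S.sheaf W s 0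
      (fun x hx => by rw [map_zero]; exact hcon x hx))
  obtain ⟨x, hx, hgx⟩ := hex
  obtain ⟨V, hV, hxV, hVW⟩ := (TopologicalSpace.Opens.isBasis_iff_nbhd.mp S.isBasis_affineOpens)
    (show x ∈ W from hx)
  have hVaff : IsAffineOpen V := hV
  set t := S.presheaf.map (homOfLE hVW).op s with ht
  have htne : t ≠ 0 := by
    intro h0
    apply hgx
    have h1 : S.presheaf.germ V x hxV t = S.presheaf.germ W x hx s :=
      TopCat.Presheaf.germ_res_apply S.presheaf (homOfLE hVW) x hxV s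
    rw [← h1, h0, map_zero]
  haveI : IsNoetherianRing Γ(S, V) := IsLocallyNoetherian.component_noetherian ⟨V, hV⟩
  obtain ⟨P, hP, hle⟩ := exists_le_isAssociatedPrime_of_isNoetherianRing Γ(S, V) t htne
  haveI : P.IsPrime := hP.isPrime
  let y : PrimeSpectrum Γ(S, V) := ⟨P, hP.isPrime⟩
  have hz : hVaff.fromSpec y ∈ V := by
    have h1 : hVaff.fromSpec y ∈ Set.range hVaff.fromSpec := ⟨y, rfl⟩
    rw [hVaff.range_fromSpec] at h1
    exact h1
  letI alg : Algebra Γ(S, V) (S.presheaf.stalk (hVaff.fromSpec y)) :=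
    TopCat.Presheaf.algebra_section_stalk S.presheaf ⟨hVaff.fromSpec y, hz⟩
  haveI hloc : IsLocalization.AtPrime (S.presheaf.stalk (hVaff.fromSpec y)) P :=
    hVaff.isLocalization_stalk' y hz
  have hass := alg_ass Γ(S, V) (S.presheaf.stalk (hVaff.fromSpec y)) P hP
  have hzU : hVaff.fromSpec y ∈ U := hU _ hass
  have hne2 := alg_ne Γ(S, V) (S.presheaf.stalk (hVaff.fromSpec y)) P t hle
  apply hne2
  have h2 : algebraMap Γ(S, V) (S.presheaf.stalk (hVaff.fromSpec y)) t =
      S.presheaf.germ V (hVaff.fromSpec y) hz t := rfl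
  rw [h2]
  have h3 : S.presheaf.germ V (hVaff.fromSpec y) hz t =
      S.presheaf.germ W (hVaff.fromSpec y) (hVW hz) s :=
    TopCat.Presheaf.germ_res_apply S.presheaf (homOfLE hVW) _ hz s
  have h4 : S.presheaf.germ (W ⊓ U) (hVaff.fromSpec y) ⟨hVW hz, hzU⟩
      (S.presheaf.map (homOfLE (inf_le_left : W ⊓ U ≤ W)).op s) =
      S.presheaf.germ W (hVaff.fromSpec y) (hVW hz) s :=
    TopCat.Presheaf.germ_res_apply S.presheaf (homOfLE (inf_le_left : W ⊓ U ≤ W)) _ _ s
  rw [h3, ← h4, hs, map_zero]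

theorem main15806
    (S G₁ G₂ : Scheme.{u}) [AlgebraicGeometry.IsNoetherian S] (f₁ : G₁ ⟶ S) (f₂ : G₂ ⟶ S)
    [AlgebraicGeometry.IsFinite f₁] [AlgebraicGeometry.Flat f₁]
    [AlgebraicGeometry.IsFinite f₂] [AlgebraicGeometry.Flat f₂]
    (U : S.Opens)
    (hU : ∀ s : S, IsLocalRing.maximalIdeal (S.presheaf.stalk s) ∈
        associatedPrimes (S.presheaf.stalk s) (S.presheaf.stalk s) → s ∈ U)
    (φ ψ : G₁ ⟶ G₂) (hφ : φ ≫ f₂ = f₁) (hψ : ψ ≫ f₂ = f₁)
    (h : (f₁ ⁻¹ᵁ U).ι ≫ φ = (f₁ ⁻¹ᵁ U).ι ≫ ψ) : φ = ψ := by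
  haveI : QuasiCompact U.ι := inferInstance
  haveI : IsSchemeTheoreticallyDominant U.ι :=
    Groth.Agent.Lib.Helper29.FFlatBirat.isSchDom_of_dense U (dense_of_ass S U hU)
  haveI : IsSchemeTheoreticallyDominant (f₁ ⁻¹ᵁ U).ι :=
    IsSchemeTheoreticallyDominant.of_isPullback (isPullback_morphismRestrict f₁ U)
  have hker : (f₁ ⁻¹ᵁ U).ι.ker = ⊥ := Scheme.Hom.ker_eq_bot _
  let X' : Over S := Over.mk ((f₁ ⁻¹ᵁ U).ι ≫ f₁)
  let Y' : Over S := Over.mk f₁
  let B' : Over S := Over.mk f₂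
  haveI : IsSeparated B'.hom := by
    dsimp only [B', Over.mk_hom]; infer_instance
  let r : X' ⟶ Y' := Over.homMk (f₁ ⁻¹ᵁ U).ι rfl
  let a : Y' ⟶ B' := Over.homMk φ hφ
  let b : Y' ⟶ B' := Over.homMk ψ hψ
  have hab : a = b := by
    refine Groth.Agent.Lib.Helper29.SchDomEpi.eq_of_comp_eq_of_ker_eq_bot r hker a b ?_
    apply Over.OverMorphism.ext
    exact h
  exact congrArg (fun m => m.left) hab

end Groth.Agent.Lib.Helper29.AssDense
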