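import Groth.Agent.Lib.Helper29.QuotUnpack

/-!
# Helper library (helper29): quotient sheaves of equivalence relations of schemes

* `isKernelPair_of_isQuotient`, `isQuotient_of_isKernelPair`: effectivity of equivalence relations.
* `existsUnique_desc`: descent of a section of the quotient sheaf along a covering morphism.
* `prop_of_localSections`: a morphism with local sections over an fpqc covering inherits the descending
  properties of its base change along itself.
* `main6041`, `main5224`, `main5225`.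
-/

set_option autoImplicit false
set_option maxHeartbeats 1600000
universe u
open CategoryTheory CategoryTheory.Limits AlgebraicGeometry Opposite MonoidalCategory
  CartesianMonoidalCategory

namespace Groth.Agent.Lib.Helper29.QuotMain

open Groth.Agent.Lib.Helper29.QuotUnpack Groth.Agent.Lib.Helper29

noncomputable section

theorem fppf_hasPullbacks : Scheme.fppfPrecoverage.{u}.HasPullbacks := by
  unfold Scheme.fppfPrecoverage; infer_instance

theorem fppf_hasIsos : Scheme.fppfPrecoverage.{u}.HasIsos :=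
  ⟨fun f _ => Scheme.Hom.singleton_mem_fppfPrecoverage f⟩

theorem etale_le_fppf : Scheme.etalePrecoverage ≤ Scheme.fppfPrecoverage.{u} :=
  Scheme.precoverage_mono fun _ _ f hf => by
    have : Etale f := hf
    exact ⟨inferInstance, inferInstance⟩

theorem etale_hasPullbacks : Scheme.etalePrecoverage.{u}.HasPullbacks := by
  unfold Scheme.etalePrecoverage; infer_instance

theorem etale_hasIsos : Scheme.etalePrecoverage.{u}.HasIsos := by
  unfold Scheme.etalePrecoverage; infer_instance

theorem etale_isStableUnderBaseChange : Scheme.etalePrecoverage.{u}.IsStableUnderBaseChange := by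
  unfold Scheme.etalePrecoverage; infer_instance

theorem etale_isStableUnderComposition : Scheme.etalePrecoverage.{u}.IsStableUnderComposition := by
  unfold Scheme.etalePrecoverage; infer_instance

theorem etale_subcanonical : (Scheme.etalePrecoverage.{u}.toGrothendieck).Subcanonical :=
  GrothendieckTopology.Subcanonical.of_le (K := Scheme.fppfTopology)
    (Precoverage.toGrothendieck_mono etale_le_fppf)

section

variable (K : Precoverage Scheme.{u}) {S : Scheme.{u}}

theorem ptRel_equivalence {R U : Over S} (s t : R ⟶ U) [hst : IsEquivalenceRelation s t]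
    (T : Over S) : _root_.Equivalence (PtRel s t T) := by
  obtain ⟨e⟩ := hst.nonempty_equivalenceRelation
  refine ⟨fun a => ⟨a ≫ e.r, ?_, ?_⟩, ?_, ?_⟩
  · rw [Category.assoc, e.reflexivity₁, Category.comp_id]
  · rw [Category.assoc, e.reflexivity₂, Category.comp_id]
  · rintro a b ⟨r, h1, h2⟩
    exact ⟨r ≫ e.s, by rw [Category.assoc, e.symmetry₁, h2],
      by rw [Category.assoc, e.symmetry₂, h1]⟩
  · rintro a b c ⟨r₁, h1, h2⟩ ⟨r₂, h3, h4⟩
    have hw : r₁ ≫ t = r₂ ≫ s := h2.trans h3.symm
    refine ⟨PullbackCone.IsLimit.lift e.isLimit r₁ r₂ hw ≫ e.t, ?_, ?_⟩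
    · rw [Category.assoc, e.transitivity₁, ← Category.assoc, PullbackCone.IsLimit.lift_fst, h1]
    · rw [Category.assoc, e.transitivity₂, ← Category.assoc, PullbackCone.IsLimit.lift_snd, h4]

theorem isKernelPair_of_isQuotient [(QuotSh.J K S).Subcanonical] {R U M : Over S} (s t : R ⟶ U)
    [hst : IsEquivalenceRelation s t] (q : U ⟶ M) (hq : QuotSh.IsQuotient K s t q) :
    IsKernelPair q s t := by
  obtain ⟨e⟩ := hst.nonempty_equivalenceRelation
  have hmono : ∀ ⦃W : Over S⦄ (f g : W ⟶ R), f ≫ s = g ≫ s → f ≫ t = g ≫ t → f = g :=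
    e.right_cancellation
  have hE := ptRel_equivalence s t
  have w : s ≫ q = t ≫ q := hq.choose
  have hex : ∀ {W : Over S} (a b : W ⟶ U), a ≫ q = b ≫ q →
      ∃ r : W ⟶ R, r ≫ s = a ∧ r ≫ t = b := by
    intro W a b hab
    obtain ⟨R', hR', h⟩ := exists_rel_of_quotπ_eq K s t hE a b (quotπ_eq_of_comp_eq K hq a b hab)
    exact glue_of_jointlyMono K hmono R' hR' a b h
  exact ⟨⟨w⟩, ⟨PullbackCone.IsLimit.mk w
    (fun c => Classical.choose (hex c.fst c.snd c.condition))
    (fun c => (Classical.choose_spec (hex c.fst c.snd c.condition)).1)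
    (fun c => (Classical.choose_spec (hex c.fst c.snd c.condition)).2)
    (fun c m h1 h2 => hmono _ _
      (h1.trans (Classical.choose_spec (hex c.fst c.snd c.condition)).1.symm)
      (h2.trans (Classical.choose_spec (hex c.fst c.snd c.condition)).2.symm))⟩⟩

theorem isQuotient_of_isKernelPair [K.IsStableUnderBaseChange] [(QuotSh.J K S).Subcanonical]
    {R U M : Over S} (s t : R ⟶ U) (q : U ⟶ M) (hk : IsKernelPair q s t)
    (hcov : Presieve.ofArrows (fun _ : PUnit.{1} => U.left) (fun _ => q.left) ∈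
      K.coverings M.left) :
    QuotSh.IsQuotient K s t q := by
  have w : s ≫ q = t ≫ q := hk.w
  have w' : t.left ≫ q.left = s.left ≫ q.left := (congrArg (fun k => k.left) w).symm
  have h₂ : Epi (QuotSh.repMap K q) := epi_repMap_of_cover K q hcov
  have hp : pullback.lift t.left s.left w' ≫
      (Over.mk (pullback.fst q.left q.left ≫ U.hom)).hom = R.hom := by
    show pullback.lift t.left s.left w' ≫ pullback.fst q.left q.left ≫ U.hom = R.hom
    rw [pullback.lift_fst_assoc]
    exact Over.w t
  refine H10QS.main K s t q w w' h₂ hp ?_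
  have hk' : IsPullback t.left s.left q.left q.left := (hk.map (Over.forget S)).flip
  have hiso : IsIso (pullback.lift t.left s.left w') := by
    have e : pullback.lift t.left s.left w' = hk'.isoPullback.hom := by
      apply pullback.hom_ext
      · rw [pullback.lift_fst, IsPullback.isoPullback_hom_fst]
      · rw [pullback.lift_snd, IsPullback.isoPullback_hom_snd]
    rw [e]
    infer_instance
  haveI : IsIso (Over.homMk (pullback.lift t.left s.left w') hp :
      R ⟶ Over.mk (pullback.fst q.left q.left ≫ U.hom)) := by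
    haveI : IsIso ((Over.forget S).map (Over.homMk (pullback.lift t.left s.left w') hp :
        R ⟶ Over.mk (pullback.fst q.left q.left ≫ U.hom))) := hiso
    exact isIso_of_reflects_iso _ (Over.forget S)
  haveI : IsIso (QuotSh.repMap K (Over.homMk (pullback.lift t.left s.left w') hp :
      R ⟶ Over.mk (pullback.fst q.left q.left ≫ U.hom))) :=
    show IsIso ((H10QS.repF K).map _) from inferInstance
  infer_instance

theorem existsUnique_desc [K.IsStableUnderBaseChange] [(QuotSh.J K S).Subcanonical]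
    {R U T Z : Over S} (s t : R ⟶ U) (p : Z ⟶ T) (v : Z ⟶ U)
    (hcov : Presieve.ofArrows (fun _ : PUnit.{1} => Z.left) (fun _ => p.left) ∈
      K.coverings T.left)
    (hZZ : ∀ (T' : Over S) (z₁ z₂ : T' ⟶ Z), z₁ ≫ p = z₂ ≫ p →
      ∃ r : T' ⟶ R, r ≫ s = z₁ ≫ v ∧ r ≫ t = z₂ ≫ v) :
    ∃! σ : QuotSh.rep K T ⟶ QuotSh.quot K s t,
      QuotSh.repMap K v ≫ QuotSh.quotπ K s t = QuotSh.repMap K p ≫ σ := by
  haveI hepi : Epi (QuotSh.repMap K p) := epi_repMap_of_cover K p hcov
  haveI : EffectiveEpi (QuotSh.repMap K p) := by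
    have := IsRegularEpiCategory.regularEpiOfEpi (QuotSh.repMap K p)
    rw [isRegularEpi_iff_effectiveEpi] at this
    exact this
  have hsq : IsPullback (pullback.fst p p) (pullback.snd p p) p p := IsPullback.of_hasPullback p p
  have hsq' : IsPullback (QuotSh.repMap K (pullback.fst p p)) (QuotSh.repMap K (pullback.snd p p))
      (QuotSh.repMap K p) (QuotSh.repMap K p) := hsq.map (H10QS.repF K)
  obtain ⟨r, hr1, hr2⟩ :=
    hZZ (pullback p p) (pullback.fst p p) (pullback.snd p p) pullback.condition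
  have key : QuotSh.repMap K (pullback.fst p p) ≫ (QuotSh.repMap K v ≫ QuotSh.quotπ K s t) =
      QuotSh.repMap K (pullback.snd p p) ≫ (QuotSh.repMap K v ≫ QuotSh.quotπ K s t) := by
    rw [← Category.assoc, ← Category.assoc, ← repMap_comp, ← repMap_comp, ← hr1, ← hr2,
      repMap_comp, repMap_comp, Category.assoc, Category.assoc, QuotSh.quot_condition]
  have hdesc : ∀ {W : QuotSh.Sh K S} (g₁ g₂ : W ⟶ QuotSh.rep K Z),
      g₁ ≫ QuotSh.repMap K p = g₂ ≫ QuotSh.repMap K p →
      g₁ ≫ (QuotSh.repMap K v ≫ QuotSh.quotπ K s t) =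
        g₂ ≫ (QuotSh.repMap K v ≫ QuotSh.quotπ K s t) := by
    intro W g₁ g₂ hg
    rw [← hsq'.lift_fst g₁ g₂ hg, Category.assoc, key, ← Category.assoc, hsq'.lift_snd]
  refine ⟨EffectiveEpi.desc (QuotSh.repMap K p) (QuotSh.repMap K v ≫ QuotSh.quotπ K s t) hdesc,
    (EffectiveEpi.fac _ _ hdesc).symm, ?_⟩
  intro σ' hσ'
  rw [← cancel_epi (QuotSh.repMap K p), EffectiveEpi.fac]
  exact hσ'.symm

end

/-! ### Descent of properties along local sections -/

theorem snd_of_isPullback (P : MorphismProperty Scheme.{u}) [P.RespectsIso] {A X M : Scheme.{u}}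
    {q : X ⟶ M} {a b : A ⟶ X} (h : IsPullback a b q q) (hb : P b) : P (pullback.snd q q) := by
  rw [← P.cancel_left_of_respectsIso h.isoPullback.hom (pullback.snd q q), h.isoPullback_hom_snd]
  exact hb

theorem prop_of_localSections (P : MorphismProperty Scheme.{u}) [P.IsStableUnderBaseChange]
    [IsZariskiLocalAtTarget P]
    [P.DescendsAlong (@Surjective ⊓ @Flat ⊓ @QuasiCompact : MorphismProperty Scheme.{u})]
    {X M : Scheme.{u}} (q : X ⟶ M) (hself : P (pullback.snd q q))
    {ι : Type*} {Y : ι → Scheme.{u}} (c : ∀ l, Y l ⟶ M)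
    (hc : Presieve.ofArrows Y c ∈ Scheme.fpqcPrecoverage M)
    (hx : ∀ l, ∃ x : Y l ⟶ X, x ≫ q = c l) : P q := by
  refine TorsorDesc.of_fpqc P q hc (fun {V} g hg => ?_)
  obtain ⟨l⟩ := hg
  obtain ⟨x, hx⟩ := hx l
  exact (TorsorDesc.snd_congr P q hx).mp (TorsorDesc.snd_comp P q q x hself)

theorem surjective_of_cover {X M : Scheme.{u}} (q : X ⟶ M) {ι : Type*} {Y : ι → Scheme.{u}}
    (c : ∀ l, Y l ⟶ M) (hc : Presieve.ofArrows Y c ∈ Scheme.fppfPrecoverage M)
    (hx : ∀ l, ∃ x : Y l ⟶ X, x ≫ q = c l) : Surjective q := by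
  obtain ⟨hs, -⟩ :=
    (Scheme.ofArrows_mem_precoverage_iff (P := @Flat ⊓ @LocallyOfFinitePresentation)).mp hc
  refine ⟨fun y => ?_⟩
  obtain ⟨l, z, hz⟩ := hs y
  obtain ⟨x, hx⟩ := hx l
  refine ⟨x z, ?_⟩
  rw [← Scheme.Hom.comp_apply, hx]
  exact hz

/-! ### Main statements -/

theorem main6041 {S : Scheme.{u}} {R U : Over S} (s t : R ⟶ U)
    (T Z : Over S) (i : Z ⟶ U ⊗ T)
    [Flat (i ≫ snd U T).left] [Surjective (i ≫ snd U T).left]
    [LocallyOfFinitePresentation (i ≫ snd U T).left]
    (hZZ : ∀ (T' : Over S) (z₁ z₂ : T' ⟶ Z), z₁ ≫ i ≫ snd U T = z₂ ≫ i ≫ snd U T →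
      ∃ r : T' ⟶ R, r ≫ s = z₁ ≫ i ≫ fst U T ∧ r ≫ t = z₂ ≫ i ≫ fst U T) :
    ∃! σ : QuotSh.rep Scheme.fppfPrecoverage T ⟶ QuotSh.quot Scheme.fppfPrecoverage s t,
      QuotSh.repMap Scheme.fppfPrecoverage (i ≫ fst U T) ≫ QuotSh.quotπ Scheme.fppfPrecoverage s t =
        QuotSh.repMap Scheme.fppfPrecoverage (i ≫ snd U T) ≫ σ := by
  refine existsUnique_desc Scheme.fppfPrecoverage s t (i ≫ snd U T) (i ≫ fst U T) ?_ hZZ
  rw [Presieve.ofArrows_pUnit]
  exact Scheme.Hom.singleton_mem_fppfPrecoverage (i ≫ snd U T).left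

theorem main5224 {S : Scheme.{u}} {R U Y : Over S} (s t : R ⟶ U)
    [IsEquivalenceRelation s t]
    [Flat s.left] [Surjective s.left] [LocallyOfFinitePresentation s.left]
    (q : U ⟶ Y) :
    (IsKernelPair q s t ∧ Flat q.left ∧ Surjective q.left ∧ LocallyOfFinitePresentation q.left) ↔
      QuotSh.IsQuotient Scheme.fppfPrecoverage s t q := by
  haveI := fppf_hasPullbacks.{u}
  haveI := fppf_hasIsos.{u}
  constructor
  · rintro ⟨hk, h1, h2, h3⟩
    haveI := h1
    haveI := h2
    haveI := h3
    refine isQuotient_of_isKernelPair Scheme.fppfPrecoverage s t q hk ?_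
    rw [Presieve.ofArrows_pUnit]
    exact Scheme.Hom.singleton_mem_fppfPrecoverage q.left
  · intro hq
    have hk := isKernelPair_of_isQuotient Scheme.fppfPrecoverage s t q hq
    have hepi := epi_repMap_of_isQuotient Scheme.fppfPrecoverage s t q hq
    obtain ⟨ι, Yc, c, hc, hx⟩ := exists_cover_lift Scheme.fppfPrecoverage q hepi (𝟙 Y)
    have hx' : ∀ l, ∃ x : Yc l ⟶ U.left, x ≫ q.left = c l := fun l => by
      obtain ⟨x, hx⟩ := hx l
      exact ⟨x, hx.trans (Category.comp_id _)⟩
    have hcq : Presieve.ofArrows Yc c ∈ Scheme.fpqcPrecoverage Y.left :=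
      Scheme.fppfPrecoverage_le_fpqcPrecoverage _ hc
    have hk' : IsPullback t.left s.left q.left q.left := (hk.map (Over.forget S)).flip
    refine ⟨hk, ?_, ?_, ?_⟩
    · exact prop_of_localSections @Flat q.left (snd_of_isPullback @Flat hk' inferInstance) c hcq hx'
    · exact surjective_of_cover q.left c hc hx'
    · exact prop_of_localSections @LocallyOfFinitePresentation q.left
        (snd_of_isPullback @LocallyOfFinitePresentation hk' inferInstance) c hcq hx'

theorem main5225 {S : Scheme.{u}} {R U Y : Over S} (s t : R ⟶ U)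
    [IsEquivalenceRelation s t] [Etale s.left] [Surjective s.left]
    (q : U ⟶ Y) :
    (IsKernelPair q s t ∧ Etale q.left ∧ Surjective q.left) ↔
      QuotSh.IsQuotient Scheme.etalePrecoverage s t q := by
  haveI := etale_hasPullbacks.{u}
  haveI := etale_hasIsos.{u}
  haveI := etale_isStableUnderBaseChange.{u}
  haveI := etale_isStableUnderComposition.{u}
  haveI := etale_subcanonical.{u}
  constructor
  · rintro ⟨hk, h1, h2⟩
    haveI := h1
    haveI := h2
    refine isQuotient_of_isKernelPair Scheme.etalePrecoverage s t q hk ?_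
    rw [Presieve.ofArrows_pUnit]
    exact (Scheme.singleton_mem_precoverage_iff (P := @Etale) q.left).2 ⟨h2.surj, h1⟩
  · intro hq
    have hk := isKernelPair_of_isQuotient Scheme.etalePrecoverage s t q hq
    have hepi := epi_repMap_of_isQuotient Scheme.etalePrecoverage s t q hq
    obtain ⟨ι, Yc, c, hc, hx⟩ := exists_cover_lift Scheme.etalePrecoverage q hepi (𝟙 Y)
    have hx' : ∀ l, ∃ x : Yc l ⟶ U.left, x ≫ q.left = c l := fun l => by
      obtain ⟨x, hx⟩ := hx l
      exact ⟨x, hx.trans (Category.comp_id _)⟩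
    have hc' : Presieve.ofArrows Yc c ∈ Scheme.fppfPrecoverage Y.left := etale_le_fppf _ hc
    have hcq : Presieve.ofArrows Yc c ∈ Scheme.fpqcPrecoverage Y.left :=
      Scheme.fppfPrecoverage_le_fpqcPrecoverage _ hc'
    have hk' : IsPullback t.left s.left q.left q.left := (hk.map (Over.forget S)).flip
    exact ⟨hk, prop_of_localSections @Etale q.left (snd_of_isPullback @Etale hk' inferInstance)
      c hcq hx', surjective_of_cover q.left c hc' hx'⟩

end

end Groth.Agent.Lib.Helper29.QuotMain
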