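import Groth.Agent.Lib.Helper29.TorsorComp
import Groth.Agent.Lib.Helper29.TorsorMisc
import Groth.Agent.Lib.Helper29.QuotMain
import Groth.Agent.Lib.Helper5.UnivSubmersive
import Groth.Prelude.Def_W4bk4git07Quot

/-!
# Helper library (helper29): principal bundles, associated bundles, point calculus over a cover

* `OCov q`: an fpqc covering family of the target of `q : E ⟶ Q` with lifts to `E`; `OCov.sep`,
  `OCov.exists_of_local` (local existence + uniqueness gives global existence).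
* `isPullback_of_isIso_PsiY`: `GIT.PsiY` iso gives the cartesian square in `Over S`.
* `isPullback_of_equivariant`: an equivariant morphism of principal bundles is cartesian over the quotients.
* `isPullback_quot_prod`: quotient of a fibre product of bundles is the fibre product of the quotients.
* `isPullback_of_locTriv`: local triviality gives the pseudo-torsor square.
* descent of `IsSeparated`, `IsProper` along fpqc morphisms.
* `main14883`, `main14884`, `main14886`, `main14877`.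
-/

set_option autoImplicit false
set_option maxHeartbeats 1600000
universe u
open CategoryTheory CategoryTheory.Limits AlgebraicGeometry MonoidalCategory CartesianMonoidalCategory
  MonObj GrpObj

namespace Groth.Agent.Lib.Helper29.AssocBundle

open Groth.Agent.Lib.Helper29.InvFun Groth.Agent.Lib.Helper22 Groth.Agent.Lib.Helper29.TorsorPush
  Groth.Agent.Lib.Helper29.TorsorComp Groth.Agent.Lib.Helper29

noncomputable section

variable {S : Scheme.{u}}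

/-- an fpqc covering family of `Q` with lifts to `E` along `q` -/
structure OCov {E Q : Over S} (q : E ⟶ Q) where
  κ : Type u
  Vo : κ → Over S
  vι : ∀ l, Vo l ⟶ Q
  vσ : ∀ l, Vo l ⟶ E
  mem : Presieve.ofArrows (fun l => (Vo l).left) (fun l => (vι l).left) ∈
    Scheme.fpqcPrecoverage Q.left
  w : ∀ l, vσ l ≫ q = vι l

namespace OCov

variable {E Q : Over S} {q : E ⟶ Q} (c : OCov q) {Z : Over S} (z : Z ⟶ Q)

abbrev EZ (l : c.κ) : Scheme.{u} := pullback z.left (c.vι l).left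

abbrev eZ (l : c.κ) : c.EZ z l ⟶ Z.left := pullback.fst z.left (c.vι l).left

theorem mem_EZ : Presieve.ofArrows (c.EZ z) (c.eZ z) ∈ Scheme.fpqcPrecoverage Z.left :=
  Precoverage.mem_coverings_of_isPullback (fun l => (c.vι l).left) c.mem z.left
    (fun l => pullback.fst z.left (c.vι l).left)
    (fun l => pullback.snd z.left (c.vι l).left)
    (fun l => IsPullback.of_hasPullback z.left (c.vι l).left)

abbrev Eo (l : c.κ) : Over S := Over.mk (c.eZ z l ≫ Z.hom)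

def zz (l : c.κ) : c.Eo z l ⟶ Z := Over.homMk (c.eZ z l) rfl

def vv (l : c.κ) : c.Eo z l ⟶ c.Vo l :=
  Over.homMk (pullback.snd z.left (c.vι l).left) (by
    show pullback.snd z.left (c.vι l).left ≫ (c.Vo l).hom =
      pullback.fst z.left (c.vι l).left ≫ Z.hom
    calc pullback.snd z.left (c.vι l).left ≫ (c.Vo l).hom
        = pullback.snd z.left (c.vι l).left ≫ (c.vι l).left ≫ Q.hom := by rw [Over.w]
      _ = pullback.fst z.left (c.vι l).left ≫ z.left ≫ Q.hom := by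
        rw [← pullback.condition_assoc]
      _ = pullback.fst z.left (c.vι l).left ≫ Z.hom := by rw [Over.w])

theorem zz_z (l : c.κ) : c.zz z l ≫ z = c.vv z l ≫ c.vι l :=
  Over.OverMorphism.ext pullback.condition

def pp (l : c.κ) : c.Eo z l ⟶ E := c.vv z l ≫ c.vσ l

theorem pp_q (l : c.κ) : c.pp z l ≫ q = c.zz z l ≫ z := by
  rw [pp, Category.assoc, c.w, zz_z]

theorem sep {C : Over S} (f g : Z ⟶ C) (h : ∀ l, c.zz z l ≫ f = c.zz z l ≫ g) : f = g := by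
  apply Over.OverMorphism.ext
  refine fpqc_sep' C.left (c.eZ z) (c.mem_EZ z) f.left g.left (fun l => ?_)
  exact congrArg (fun k => k.left) (h l)

theorem exists_of_local {C : Over S}
    (Pr : ∀ (T' : Over S), (T' ⟶ Z) → (T' ⟶ C) → Prop)
    (hnat : ∀ (T' T'' : Over S) (s : T'' ⟶ T') (t : T' ⟶ Z) (x : T' ⟶ C),
      Pr T' t x → Pr T'' (s ≫ t) (s ≫ x))
    (huniq : ∀ (T' : Over S) (t : T' ⟶ Z) (x₁ x₂ : T' ⟶ C), Pr T' t x₁ → Pr T' t x₂ → x₁ = x₂)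
    (hloc : ∀ l, ∃ x, Pr (c.Eo z l) (c.zz z l) x) :
    ∃ x : Z ⟶ C, ∀ l, Pr (c.Eo z l) (c.zz z l) (c.zz z l ≫ x) := by
  choose xl hxl using hloc
  have hcompat : ∀ (l l' : c.κ) (Z' : Scheme.{u}) (α : Z' ⟶ c.EZ z l) (β : Z' ⟶ c.EZ z l'),
      α ≫ c.eZ z l = β ≫ c.eZ z l' → α ≫ (xl l).left = β ≫ (xl l').left := by
    intro l l' Z' α β hαβ
    let Zo : Over S := Over.mk (α ≫ c.eZ z l ≫ Z.hom)
    let αo : Zo ⟶ c.Eo z l := Over.homMk α rfl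
    let βo : Zo ⟶ c.Eo z l' := Over.homMk β (by
      show β ≫ c.eZ z l' ≫ Z.hom = α ≫ c.eZ z l ≫ Z.hom
      rw [← Category.assoc, ← hαβ, Category.assoc])
    have h1 : αo ≫ c.zz z l = βo ≫ c.zz z l' := Over.OverMorphism.ext hαβ
    have h2 : αo ≫ xl l = βo ≫ xl l' := by
      refine huniq Zo (αo ≫ c.zz z l) _ _ (hnat _ _ αo _ _ (hxl l)) ?_
      rw [h1]
      exact hnat _ _ βo _ _ (hxl l')
    exact congrArg (fun k => k.left) h2
  obtain ⟨r₀, hr₀'⟩ := fpqc_glue' C.left (c.eZ z) (c.mem_EZ z) (fun l => (xl l).left) hcompat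
  have hr₀ : ∀ l, c.eZ z l ≫ r₀ = (xl l).left := hr₀'
  have hw : r₀ ≫ C.hom = Z.hom := by
    refine fpqc_sep' S (c.eZ z) (c.mem_EZ z) _ _ (fun l => ?_)
    rw [← Category.assoc, hr₀ l]
    exact Over.w (xl l)
  refine ⟨Over.homMk r₀ hw, fun l => ?_⟩
  have e : c.zz z l ≫ Over.homMk r₀ hw = xl l := Over.OverMorphism.ext (hr₀ l)
  rw [e]
  exact hxl l

/-- the covering given by a single flat surjective quasi-compact morphism -/
def single {E Q : Over S} (q : E ⟶ Q) [Flat q.left] [Surjective q.left] [QuasiCompact q.left] :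
    OCov q where
  κ := PUnit.{u+1}
  Vo := fun _ => E
  vι := fun _ => q
  vσ := fun _ => 𝟙 E
  mem := by
    rw [Presieve.ofArrows_pUnit]
    exact q.left.singleton_mem_fpqcPrecoverage
  w := fun _ => Category.id_comp q

end OCov

/-! ### Generalities -/

theorem isPullback_of_isIso_PsiY {G X Y : Over S} [GrpObj G] (a : AlgGrp.Action G X) (φ : X ⟶ Y)
    (h : GIT.IsInvariant a φ) (hiso : IsIso (GIT.PsiY a φ h)) :
    IsPullback a.act (snd G X) φ φ := by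
  haveI := hiso
  have h' : IsPullback a.act.left (snd G X).left φ.left φ.left :=
    IsPullback.of_iso_pullback ⟨h.left⟩ (asIso (GIT.PsiY a φ h))
      (by rw [asIso_hom]; exact pullback.lift_fst _ _ _)
      (by rw [asIso_hom]; exact pullback.lift_snd _ _ _)
  exact IsPullback.of_map (Over.forget S) h h'

theorem quasiCompact_left {A B : Over S} (f : A ⟶ B) [QuasiCompact A.hom] [QuasiSeparated B.hom] :
    QuasiCompact f.left := by
  haveI : QuasiCompact (f.left ≫ B.hom) := by rw [Over.w f]; infer_instance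
  exact QuasiCompact.of_comp f.left B.hom

instance quasiCompact_tensor_hom (A B : Over S) [QuasiCompact A.hom] [QuasiCompact B.hom] :
    QuasiCompact (A ⊗ B).hom := by
  show QuasiCompact (pullback.fst A.hom B.hom ≫ A.hom)
  infer_instance

theorem fpqc_le_univSubmersive :
    (@Surjective ⊓ @Flat ⊓ @QuasiCompact : MorphismProperty Scheme.{u}) ≤ SGA1.UnivSubmersive := by
  intro X Y f hf
  obtain ⟨⟨h1, h2⟩, h3⟩ := hf
  intro X' Y' i₁ i₂ f' hpb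
  haveI : Surjective f' := MorphismProperty.of_isPullback (P := @Surjective) hpb.flip h1
  haveI : Flat f' := MorphismProperty.of_isPullback (P := @Flat) hpb.flip h2
  haveI : QuasiCompact f' := MorphismProperty.of_isPullback (P := @QuasiCompact) hpb.flip h3
  exact Flat.isQuotientMap_of_surjective f'

instance isSeparated_descendsAlong_fpqc :
    MorphismProperty.DescendsAlong @IsSeparated
      (@Surjective ⊓ @Flat ⊓ @QuasiCompact : MorphismProperty Scheme.{u}) :=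
  MorphismProperty.DescendsAlong.of_le (Q := SGA1.UnivSubmersive) fpqc_le_univSubmersive

theorem isProper_descendsAlong_fpqc :
    MorphismProperty.DescendsAlong @IsProper
      (@Surjective ⊓ @Flat ⊓ @QuasiCompact : MorphismProperty Scheme.{u}) := by
  rw [isProper_eq]
  infer_instance

theorem isPullback_whiskerLeft_fst_snd {C : Type*} [Category C] [CartesianMonoidalCategory C]
    (G X Y : C) : IsPullback (G ◁ fst X Y) (G ◁ snd X Y) (fst G X) (fst G Y) := by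
  refine isPullback_of_existsUnique (by rw [whiskerLeft_fst, whiskerLeft_fst])
    (fun T e₁ e₂ h => ?_)
  refine ⟨lift (e₁ ≫ fst G X) (lift (e₁ ≫ snd G X) (e₂ ≫ snd G Y)), ⟨?_, ?_⟩, ?_⟩
  · rw [lift_whiskerLeft, lift_fst, lift_comp_fst_snd]
  · rw [lift_whiskerLeft, lift_snd, h, lift_comp_fst_snd]
  · rintro m ⟨h1, h2⟩
    apply CartesianMonoidalCategory.hom_ext
    · rw [lift_fst, ← h1, Category.assoc, whiskerLeft_fst]
    · rw [lift_snd]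
      apply CartesianMonoidalCategory.hom_ext
      · rw [lift_fst, ← h1, Category.assoc, Category.assoc, whiskerLeft_snd]
      · rw [lift_snd, ← h2, Category.assoc, Category.assoc, whiskerLeft_snd]

/-! ### Equivariant morphisms of principal bundles -/

theorem isPullback_of_equivariant {H E₁ Q₁ E₂ Q₂ : Over S} [GrpObj H]
    (b₁ : AlgGrp.Action H E₁) (q₁ : E₁ ⟶ Q₁) (hq₁ : IsPullback b₁.act (snd H E₁) q₁ q₁)
    (c : OCov q₁)
    (b₂ : AlgGrp.Action H E₂) (q₂ : E₂ ⟶ Q₂) (hq₂ : IsPullback b₂.act (snd H E₂) q₂ q₂)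
    (f : E₁ ⟶ E₂)
    (hf : ∀ (T : Over S) (h : T ⟶ H) (e : T ⟶ E₁), smul b₁ h e ≫ f = smul b₂ h (e ≫ f))
    (m : Q₁ ⟶ Q₂) (hm : q₁ ≫ m = f ≫ q₂) :
    IsPullback q₁ f m q₂ := by
  have inv₁ : ∀ {T : Over S} (h : T ⟶ H) (e : T ⟶ E₁), smul b₁ h e ≫ q₁ = e ≫ q₁ := by
    intro T h e
    rw [smul_def, Category.assoc, hq₁.w, lift_snd_assoc]
  have huniq : ∀ (T : Over S) (e₁ e₂ : T ⟶ E₁), e₁ ≫ q₁ = e₂ ≫ q₁ → e₁ ≫ f = e₂ ≫ f →
      e₁ = e₂ := by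
    intro T e₁ e₂ h1 h2
    obtain ⟨h, hh⟩ := exists_of_isPullback b₁ q₁ hq₁ e₁ e₂ h1
    have h3 : smul b₂ h (e₂ ≫ f) = smul b₂ 1 (e₂ ≫ f) := by
      rw [← hf, hh, h2, pt_one_smul]
    have h4 : h = 1 := inj_of_isPullback b₂ q₂ hq₂ h 1 _ h3
    rw [← hh, h4, pt_one_smul]
  refine isPullback_of_existsUnique hm (fun T z g hzg => ?_)
  have hloc : ∀ (T' : Over S) (t : T' ⟶ T) (e₀ : T' ⟶ E₁), e₀ ≫ q₁ = t ≫ z →
      ∃ e : T' ⟶ E₁, e ≫ q₁ = t ≫ z ∧ e ≫ f = t ≫ g := by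
    intro T' t e₀ he₀
    have h1 : (t ≫ g) ≫ q₂ = (e₀ ≫ f) ≫ q₂ := by
      calc (t ≫ g) ≫ q₂ = t ≫ z ≫ m := by rw [Category.assoc, hzg]
        _ = (e₀ ≫ q₁) ≫ m := by rw [he₀, Category.assoc]
        _ = (e₀ ≫ f) ≫ q₂ := by simp only [Category.assoc, hm]
    obtain ⟨h, hh⟩ := exists_of_isPullback b₂ q₂ hq₂ (t ≫ g) (e₀ ≫ f) h1
    exact ⟨smul b₁ h e₀, by rw [inv₁, he₀], by rw [hf, hh]⟩
  obtain ⟨x, hx⟩ := c.exists_of_local z (C := E₁)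
    (fun T' t e => e ≫ q₁ = t ≫ z ∧ e ≫ f = t ≫ g)
    (fun T' T'' s t e he => ⟨by simp only [Category.assoc, he.1],
      by simp only [Category.assoc, he.2]⟩)
    (fun T' t e e' he he' => huniq T' e e' (he.1.trans he'.1.symm) (he.2.trans he'.2.symm))
    (fun l => hloc _ _ _ (c.pp_q z l))
  have h1 : x ≫ q₁ = z := c.sep z _ _ (fun l => by rw [← Category.assoc]; exact (hx l).1)
  have h2 : x ≫ f = g := c.sep z _ _ (fun l => by rw [← Category.assoc]; exact (hx l).2)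
  exact ⟨x, ⟨h1, h2⟩, fun y hy => huniq T y x (hy.1.trans h1.symm) (hy.2.trans h2.symm)⟩

theorem isPullback_quot_prod {H G B E₁ Q₁ E₂ Q₂ E₃ Q₃ : Over S} [GrpObj H]
    (r : AlgGrp.Action H G) (π : G ⟶ B) (hπ : IsPullback r.act (snd H G) π π)
    (b₁ : AlgGrp.Action H E₁) (q₁ : E₁ ⟶ Q₁) (hq₁ : IsPullback b₁.act (snd H E₁) q₁ q₁)
    (c₁ : OCov q₁)
    (b₂ : AlgGrp.Action H E₂) (q₂ : E₂ ⟶ Q₂) (hq₂ : IsPullback b₂.act (snd H E₂) q₂ q₂)
    (c₂ : OCov q₂)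
    (b₃ : AlgGrp.Action H E₃) (q₃ : E₃ ⟶ Q₃) (hq₃ : IsPullback b₃.act (snd H E₃) q₃ q₃)
    (c₃ : OCov q₃)
    (g₁ : E₁ ⟶ G)
    (g₂ : E₂ ⟶ G)
    (hg₂ : ∀ (T : Over S) (h : T ⟶ H) (e : T ⟶ E₂), smul b₂ h e ≫ g₂ = smul r h (e ≫ g₂))
    (f₁ : E₃ ⟶ E₁)
    (hf₁ : ∀ (T : Over S) (h : T ⟶ H) (e : T ⟶ E₃), smul b₃ h e ≫ f₁ = smul b₁ h (e ≫ f₁))
    (f₂ : E₃ ⟶ E₂)
    (hE : IsPullback f₁ f₂ g₁ g₂)
    (p₁ : Q₁ ⟶ B) (hp₁ : q₁ ≫ p₁ = g₁ ≫ π) (p₂ : Q₂ ⟶ B) (hp₂ : q₂ ≫ p₂ = g₂ ≫ π)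
    (m₁ : Q₃ ⟶ Q₁) (hm₁ : q₃ ≫ m₁ = f₁ ≫ q₁) (m₂ : Q₃ ⟶ Q₂) (hm₂ : q₃ ≫ m₂ = f₂ ≫ q₂)
    (hw : m₁ ≫ p₁ = m₂ ≫ p₂) : IsPullback m₁ m₂ p₁ p₂ := by
  have P2 : IsPullback q₂ g₂ p₂ π := isPullback_of_equivariant b₂ q₂ hq₂ c₂ r π hπ g₂ hg₂ p₂ hp₂
  have P3 : IsPullback q₃ f₁ m₁ q₁ :=
    isPullback_of_equivariant b₃ q₃ hq₃ c₃ b₁ q₁ hq₁ f₁ hf₁ m₁ hm₁
  have hU : ∀ (T : Over S) (w w' : T ⟶ Q₃), w ≫ m₁ = w' ≫ m₁ → w ≫ m₂ = w' ≫ m₂ → w = w' := by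
    intro T w w' h1 h2
    have main : ∀ (T' : Over S) (t : T' ⟶ T) (e₁ : T' ⟶ E₁), e₁ ≫ q₁ = t ≫ w ≫ m₁ →
        t ≫ w = t ≫ w' := by
      intro T' t e₁ he₁
      have c1 : (t ≫ w) ≫ m₁ = e₁ ≫ q₁ := by rw [Category.assoc, he₁]
      have c2 : (t ≫ w') ≫ m₁ = e₁ ≫ q₁ := by rw [Category.assoc, ← h1, he₁]
      obtain ⟨e₃, a1, a2⟩ : ∃ e₃ : T' ⟶ E₃, e₃ ≫ q₃ = t ≫ w ∧ e₃ ≫ f₁ = e₁ :=
        ⟨P3.lift _ _ c1, P3.lift_fst _ _ _, P3.lift_snd _ _ _⟩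
      obtain ⟨e₃', a1', a2'⟩ : ∃ e₃' : T' ⟶ E₃, e₃' ≫ q₃ = t ≫ w' ∧ e₃' ≫ f₁ = e₁ :=
        ⟨P3.lift _ _ c2, P3.lift_fst _ _ _, P3.lift_snd _ _ _⟩
      have hq2 : (e₃ ≫ f₂) ≫ q₂ = (e₃' ≫ f₂) ≫ q₂ := by
        calc (e₃ ≫ f₂) ≫ q₂ = (e₃ ≫ q₃) ≫ m₂ := by simp only [Category.assoc, hm₂]
          _ = (e₃' ≫ q₃) ≫ m₂ := by rw [a1, a1', Category.assoc, Category.assoc, h2]
          _ = (e₃' ≫ f₂) ≫ q₂ := by simp only [Category.assoc, hm₂]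
      obtain ⟨h, hh⟩ := exists_of_isPullback b₂ q₂ hq₂ (e₃ ≫ f₂) (e₃' ≫ f₂) hq2
      have hγ : (e₃ ≫ f₂) ≫ g₂ = (e₃' ≫ f₂) ≫ g₂ := by
        calc (e₃ ≫ f₂) ≫ g₂ = (e₃ ≫ f₁) ≫ g₁ := by simp only [Category.assoc, hE.w]
          _ = (e₃' ≫ f₁) ≫ g₁ := by rw [a2, a2']
          _ = (e₃' ≫ f₂) ≫ g₂ := by simp only [Category.assoc, hE.w]
      have h3 : smul r h ((e₃' ≫ f₂) ≫ g₂) = smul r 1 ((e₃' ≫ f₂) ≫ g₂) := by
        rw [← hg₂, hh, hγ, pt_one_smul]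
      have h4 : h = 1 := inj_of_isPullback r π hπ h 1 _ h3
      have h5 : e₃ ≫ f₂ = e₃' ≫ f₂ := by rw [← hh, h4, pt_one_smul]
      have h6 : e₃ = e₃' := hE.hom_ext (a2.trans a2'.symm) h5
      rw [← a1, ← a1', h6]
    exact c₁.sep (w ≫ m₁) w w' (fun l => main _ _ _ (c₁.pp_q (w ≫ m₁) l))
  refine isPullback_of_existsUnique hw (fun T z₁ z₂ hz => ?_)
  have hloc : ∀ (T' : Over S) (t : T' ⟶ T) (e₁ : T' ⟶ E₁), e₁ ≫ q₁ = t ≫ z₁ →
      ∃ w : T' ⟶ Q₃, w ≫ m₁ = t ≫ z₁ ∧ w ≫ m₂ = t ≫ z₂ := by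
    intro T' t e₁ he₁
    have c2 : (t ≫ z₂) ≫ p₂ = (e₁ ≫ g₁) ≫ π := by
      calc (t ≫ z₂) ≫ p₂ = t ≫ z₁ ≫ p₁ := by rw [Category.assoc, hz]
        _ = (e₁ ≫ q₁) ≫ p₁ := by rw [he₁, Category.assoc]
        _ = (e₁ ≫ g₁) ≫ π := by simp only [Category.assoc, hp₁]
    obtain ⟨e₂, b1, b2⟩ : ∃ e₂ : T' ⟶ E₂, e₂ ≫ q₂ = t ≫ z₂ ∧ e₂ ≫ g₂ = e₁ ≫ g₁ :=
      ⟨P2.lift _ _ c2, P2.lift_fst _ _ _, P2.lift_snd _ _ _⟩
    obtain ⟨e₃, d1, d2⟩ : ∃ e₃ : T' ⟶ E₃, e₃ ≫ f₁ = e₁ ∧ e₃ ≫ f₂ = e₂ :=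
      ⟨hE.lift e₁ e₂ b2.symm, hE.lift_fst _ _ _, hE.lift_snd _ _ _⟩
    refine ⟨e₃ ≫ q₃, ?_, ?_⟩
    · rw [Category.assoc, hm₁, ← Category.assoc, d1, he₁]
    · rw [Category.assoc, hm₂, ← Category.assoc, d2, b1]
  obtain ⟨x, hx⟩ := c₁.exists_of_local z₁ (C := Q₃)
    (fun T' t w => w ≫ m₁ = t ≫ z₁ ∧ w ≫ m₂ = t ≫ z₂)
    (fun T' T'' s t w hw' => ⟨by simp only [Category.assoc, hw'.1],
      by simp only [Category.assoc, hw'.2]⟩)
    (fun T' t w w' hw1 hw2 => hU T' w w' (hw1.1.trans hw2.1.symm) (hw1.2.trans hw2.2.symm))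
    (fun l => hloc _ _ _ (c₁.pp_q z₁ l))
  have h1 : x ≫ m₁ = z₁ := c₁.sep z₁ _ _ (fun l => by rw [← Category.assoc]; exact (hx l).1)
  have h2 : x ≫ m₂ = z₂ := c₁.sep z₁ _ _ (fun l => by rw [← Category.assoc]; exact (hx l).2)
  exact ⟨x, ⟨h1, h2⟩, fun y hy => hU T y x (hy.1.trans h1.symm) (hy.2.trans h2.symm)⟩

/-! ### Local triviality gives the pseudo-torsor square -/

theorem isPullback_of_locTriv {G P X : Over S} [GrpObj G] (a : AlgGrp.Action G P) (π : P ⟶ X)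
    (hinv : a.act ≫ π = snd G P ≫ π) (c : OCov π)
    (hc : ∀ l, IsPullback (fst (c.Vo l) G)
      (lift (snd (c.Vo l) G) (fst (c.Vo l) G ≫ c.vσ l) ≫ a.act) (c.vι l) π) :
    IsPullback a.act (snd G P) π π := by
  have hi : ∀ (l : c.κ) (T' : Over S) (v : T' ⟶ c.Vo l) (x : T' ⟶ P), v ≫ c.vι l = x ≫ π →
      ∃ g : T' ⟶ G, smul a g (v ≫ c.vσ l) = x := by
    intro l T' v x hvx
    obtain ⟨w, e1, e2⟩ : ∃ w : T' ⟶ c.Vo l ⊗ G, w ≫ fst (c.Vo l) G = v ∧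
        w ≫ (lift (snd (c.Vo l) G) (fst (c.Vo l) G ≫ c.vσ l) ≫ a.act) = x :=
      ⟨(hc l).lift v x hvx, (hc l).lift_fst _ _ _, (hc l).lift_snd _ _ _⟩
    refine ⟨w ≫ snd (c.Vo l) G, ?_⟩
    calc smul a (w ≫ snd (c.Vo l) G) (v ≫ c.vσ l)
        = (w ≫ lift (snd (c.Vo l) G) (fst (c.Vo l) G ≫ c.vσ l)) ≫ a.act := by
          rw [smul_def, comp_lift, ← Category.assoc, e1]
      _ = x := by rw [Category.assoc, e2]
  have hii : ∀ (l : c.κ) (T' : Over S) (v : T' ⟶ c.Vo l) (g g' : T' ⟶ G),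
      smul a g (v ≫ c.vσ l) = smul a g' (v ≫ c.vσ l) → g = g' := by
    intro l T' v g g' hgg
    have key : ∀ g₀ : T' ⟶ G, lift v g₀ ≫
        (lift (snd (c.Vo l) G) (fst (c.Vo l) G ≫ c.vσ l) ≫ a.act) = smul a g₀ (v ≫ c.vσ l) := by
      intro g₀
      rw [← Category.assoc, comp_lift, lift_snd, ← Category.assoc, lift_fst, smul_def]
    have e : lift v g = lift v g' := by
      apply (hc l).hom_ext
      · rw [lift_fst, lift_fst]
      · rw [key, key, hgg]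
    calc g = lift v g ≫ snd _ _ := (lift_snd _ _).symm
      _ = lift v g' ≫ snd _ _ := by rw [e]
      _ = g' := lift_snd _ _
  have hU : ∀ (T : Over S) (g g' : T ⟶ G) (x : T ⟶ P), smul a g x = smul a g' x → g = g' := by
    intro T g g' x hgg
    refine c.sep (x ≫ π) g g' (fun l => ?_)
    obtain ⟨g₀, hg₀⟩ := hi l _ (c.vv (x ≫ π) l) (c.zz (x ≫ π) l ≫ x)
      (by rw [Category.assoc]; exact (c.zz_z (x ≫ π) l).symm)
    have h1 : smul a (c.zz (x ≫ π) l ≫ g) (c.zz (x ≫ π) l ≫ x) =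
        smul a (c.zz (x ≫ π) l ≫ g') (c.zz (x ≫ π) l ≫ x) := by
      rw [← comp_smul, ← comp_smul, hgg]
    rw [← hg₀, ← pt_mul_smul, ← pt_mul_smul] at h1
    exact _root_.mul_right_cancel (hii l _ _ _ _ h1)
  refine isPullback_of_existsUnique hinv (fun T x₁ x₂ hx => ?_)
  obtain ⟨g, hg⟩ := c.exists_of_local (x₂ ≫ π) (C := G)
    (fun T' t g => smul a g (t ≫ x₂) = t ≫ x₁)
    (fun T' T'' s t g hg => by rw [Category.assoc, Category.assoc, ← comp_smul, hg])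
    (fun T' t g g' hg hg' => hU T' g g' (t ≫ x₂) (hg.trans hg'.symm))
    (fun l => by
      show ∃ g : c.Eo (x₂ ≫ π) l ⟶ G,
        smul a g (c.zz (x₂ ≫ π) l ≫ x₂) = c.zz (x₂ ≫ π) l ≫ x₁
      obtain ⟨g₂, hg₂⟩ := hi l _ (c.vv (x₂ ≫ π) l) (c.zz (x₂ ≫ π) l ≫ x₂)
        (by rw [Category.assoc]; exact (c.zz_z (x₂ ≫ π) l).symm)
      obtain ⟨g₁, hg₁⟩ := hi l _ (c.vv (x₂ ≫ π) l) (c.zz (x₂ ≫ π) l ≫ x₁)
        (by rw [Category.assoc, hx]; exact (c.zz_z (x₂ ≫ π) l).symm)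
      refine ⟨g₁ * g₂⁻¹, ?_⟩
      rw [← hg₂, pt_mul_smul, pt_inv_smul_smul, hg₁])
  have hg' : smul a g x₂ = x₁ :=
    c.sep (x₂ ≫ π) _ _ (fun l => by rw [comp_smul]; exact hg l)
  refine ⟨lift g x₂, ⟨hg', lift_snd _ _⟩, fun m hm => ?_⟩
  have hm1 : smul a (m ≫ fst G P) x₂ = x₁ := by
    rw [smul_def, ← hm.2, lift_comp_fst_snd, hm.1]
  have hm2 : m ≫ fst G P = g := hU T _ _ x₂ (hm1.trans hg'.symm)
  rw [← lift_comp_fst_snd m, hm2, hm.2]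

end

end Groth.Agent.Lib.Helper29.AssocBundle
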