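import Groth.Agent.Lib.Helper29.AssocBundle

/-!
# Helper library (helper29): locally isotrivial bundles are principal (S14877)
-/

set_option autoImplicit false
set_option maxHeartbeats 1600000
universe u
open CategoryTheory CategoryTheory.Limits AlgebraicGeometry MonoidalCategory CartesianMonoidalCategory
  MonObj GrpObj

namespace Groth.Agent.Lib.Helper29.AssocBundleLoc

open Groth.Agent.Lib.Helper29.InvFun Groth.Agent.Lib.Helper22 Groth.Agent.Lib.Helper29.TorsorPush
  Groth.Agent.Lib.Helper29.TorsorComp Groth.Agent.Lib.Helper29 Groth.Agent.Lib.Helper29.AssocBundle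

noncomputable section

theorem main14877 (k : Type u) [Field k] [IsAlgClosed k] [CharZero k]
    (G P X : Over (Spec (CommRingCat.of k))) [GrpObj G] [Smooth G.hom] [QuasiCompact G.hom]
    [LocallyOfFiniteType P.hom] [QuasiCompact P.hom] [IsSeparated P.hom] [IsReduced P.left]
    [LocallyOfFiniteType X.hom] [QuasiCompact X.hom] [IsSeparated X.hom] [IsReduced X.left]
    (a : AlgGrp.Action G P) (π : P ⟶ X) (hinv : GIT.IsInvariant a π)
    (hq : Function.Surjective π.left.base ∧ IsOpenMap π.left.base ∧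
      Function.Surjective (GIT.PsiY a π hinv).base ∧
      ∀ U : X.left.Opens, Function.Injective (π.left.app U) ∧
        Set.range (π.left.app U) = {f | GIT.IsInvSection a π U f})
    (hli : ∀ x : ↥X.left, ∃ (U : X.left.Opens) (_ : x ∈ U) (U' : Scheme.{u}) (φ : U' ⟶ ↑U)
      (_ : IsFinite φ) (_ : Etale φ) (_ : Surjective φ) (s : Over.mk (φ ≫ U.ι ≫ X.hom) ⟶ P),
      s.left ≫ π.left = φ ≫ U.ι ∧
      IsPullback (fst (Over.mk (φ ≫ U.ι ≫ X.hom)) G).left (lift (snd (Over.mk (φ ≫ U.ι ≫ X.hom)) G) (fst (Over.mk (φ ≫ U.ι ≫ X.hom)) G ≫ s) ≫ a.act).left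
        (φ ≫ U.ι) π.left) :
    IsIso (GIT.PsiY a π hinv) ∧ Flat π.left := by
  choose U hxU U' φ hfin het hsurj s hs hpb using hli
  have hmem_et : Presieve.ofArrows U' (fun x => φ x ≫ (U x).ι) ∈
      Scheme.etalePrecoverage X.left := by
    show _ ∈ Scheme.precoverage @Etale X.left
    rw [Scheme.ofArrows_mem_precoverage_iff]
    refine ⟨fun x => ⟨x, ?_⟩, fun x => ?_⟩
    · have hx' : x ∈ Set.range (U x).ι := by
        rw [Scheme.Opens.range_ι]; exact hxU x
      obtain ⟨y, hy⟩ := hx'
      obtain ⟨u, hu⟩ := (hsurj x).surj y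
      exact ⟨u, by rw [Scheme.Hom.comp_apply, hu, hy]⟩
    · haveI := het x
      infer_instance
  have hmem : Presieve.ofArrows U' (fun x => φ x ≫ (U x).ι) ∈
      Scheme.fpqcPrecoverage X.left :=
    Scheme.fppfPrecoverage_le_fpqcPrecoverage _ (QuotMain.etale_le_fppf _ hmem_et)
  let c : OCov π :=
    { κ := X.left
      Vo := fun x => Over.mk (φ x ≫ (U x).ι ≫ X.hom)
      vι := fun x => Over.homMk (φ x ≫ (U x).ι) (Category.assoc _ _ _)
      vσ := s
      mem := hmem
      w := fun x => Over.OverMorphism.ext (hs x) }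
  have hc : ∀ x, IsPullback (fst (c.Vo x) G)
      (lift (snd (c.Vo x) G) (fst (c.Vo x) G ≫ c.vσ x) ≫ a.act) (c.vι x) π := by
    intro x
    refine IsPullback.of_map (Over.forget _) ?_ (hpb x)
    apply Over.OverMorphism.ext
    exact (hpb x).w
  have hD : IsPullback a.act (snd G P) π π := isPullback_of_locTriv a π hinv c hc
  have hD' : IsPullback a.act.left (snd G P).left π.left π.left := hD.map (Over.forget _)
  have hflat : Flat π.left := by
    refine TorsorDesc.of_fpqc @Flat π.left hmem (fun {V} g hg => ?_)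
    obtain ⟨x⟩ := hg
    have sq := hpb x
    have e : pullback.snd π.left (φ x ≫ (U x).ι) =
        sq.flip.isoPullback.inv ≫ (fst (Over.mk (φ x ≫ (U x).ι ≫ X.hom)) G).left := by
      rw [Iso.eq_inv_comp]; exact sq.flip.isoPullback_hom_snd
    rw [e]
    haveI : Flat (fst (Over.mk (φ x ≫ (U x).ι ≫ X.hom)) G).left := by
      show Flat (pullback.fst _ _); infer_instance
    infer_instance
  refine ⟨?_, hflat⟩
  have e : GIT.PsiY a π hinv = hD'.isoPullback.hom := by
    apply pullback.hom_ext
    · rw [hD'.isoPullback_hom_fst]; exact pullback.lift_fst _ _ _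
    · rw [hD'.isoPullback_hom_snd]; exact pullback.lift_snd _ _ _
  rw [e]; infer_instance

end

end Groth.Agent.Lib.Helper29.AssocBundleLoc
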