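import Groth.Agent.Lib.Helper29.AssocBundle

/-!
# Helper library (helper29): associated bundles `G ×^H X` (S14883, S14884, S14886, S14877)
-/

set_option autoImplicit false
set_option maxHeartbeats 1600000
universe u
open CategoryTheory CategoryTheory.Limits AlgebraicGeometry MonoidalCategory CartesianMonoidalCategory
  MonObj GrpObj

namespace Groth.Agent.Lib.Helper29.AssocBundleMain

open Groth.Agent.Lib.Helper29.InvFun Groth.Agent.Lib.Helper22 Groth.Agent.Lib.Helper29.TorsorPush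
  Groth.Agent.Lib.Helper29.TorsorComp Groth.Agent.Lib.Helper29 Groth.Agent.Lib.Helper29.AssocBundle

noncomputable section

theorem main14883 (k : Type u) [Field k] [IsAlgClosed k] [CharZero k]
    (G H : Over (Spec (CommRingCat.of k))) [GrpObj G] [Smooth G.hom] [QuasiCompact G.hom]
    [GrpObj H] (j : H ⟶ G) [IsMonHom j] [IsClosedImmersion j.left] [Smooth H.hom]
    (B : Over (Spec (CommRingCat.of k))) [LocallyOfFiniteType B.hom] [QuasiCompact B.hom] [IsSeparated B.hom] [IsReduced B.left]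
    (r : AlgGrp.Action H G) (hr : ∀ (T : Over (Spec (CommRingCat.of k))) (h : T ⟶ H) (g : T ⟶ G),
      lift h g ≫ r.act = g * (h ≫ j)⁻¹)
    (π : G ⟶ B) (hπinv : GIT.IsInvariant r π)
    (hπ : (Function.Surjective π.left.base ∧ IsOpenMap π.left.base ∧
      Function.Surjective (GIT.PsiY r π hπinv).base ∧
      (∀ U : B.left.Opens, Function.Injective (π.left.app U) ∧
        Set.range (π.left.app U) = {f | GIT.IsInvSection r π U f}) ∧
      IsIso (GIT.PsiY r π hπinv) ∧ Flat π.left))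
    (X : Over (Spec (CommRingCat.of k))) [IsProper X.hom] [IsReduced X.left]
    (hF : ∀ F : Finset ↥X.left, ∃ U : X.left.Opens, IsAffineOpen U ∧ (↑F : Set ↥X.left) ⊆ (U : Set ↥X.left))
    (aX : AlgGrp.Action H X) (b : AlgGrp.Action H (G ⊗ X))
    (hb : ∀ (T : Over (Spec (CommRingCat.of k))) (h : T ⟶ H) (g : T ⟶ G) (x : T ⟶ X),
      lift h (lift g x) ≫ b.act = lift (g * (h ≫ j)⁻¹) (lift h x ≫ aX.act))
    (QX : Over (Spec (CommRingCat.of k))) [LocallyOfFiniteType QX.hom] [QuasiCompact QX.hom] [IsSeparated QX.hom] [IsReduced QX.left] (qX : G ⊗ X ⟶ QX) (hqinv : GIT.IsInvariant b qX)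
    (hq : (Function.Surjective qX.left.base ∧ IsOpenMap qX.left.base ∧
      Function.Surjective (GIT.PsiY b qX hqinv).base ∧
      (∀ U : QX.left.Opens, Function.Injective (qX.left.app U) ∧
        Set.range (qX.left.app U) = {f | GIT.IsInvSection b qX U f}) ∧
      IsIso (GIT.PsiY b qX hqinv) ∧ Flat qX.left))
    (pX : QX ⟶ B) (hp : qX ≫ pX = fst G X ≫ π) :
    IsProper pX.left := by
  obtain ⟨hπs, -, -, -, hπiso, hπflat⟩ := hπ
  obtain ⟨hqs, -, -, -, hqiso, hqflat⟩ := hq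
  have Pπ : IsPullback r.act (snd H G) π π := isPullback_of_isIso_PsiY r π hπinv hπiso
  have Pq : IsPullback b.act (snd H (G ⊗ X)) qX qX := isPullback_of_isIso_PsiY b qX hqinv hqiso
  haveI : Flat qX.left := hqflat
  haveI : Surjective qX.left := ⟨hqs⟩
  haveI : QuasiCompact qX.left := quasiCompact_left qX
  haveI : Flat π.left := hπflat
  haveI : Surjective π.left := ⟨hπs⟩
  haveI : QuasiCompact π.left := quasiCompact_left π
  have hfst : ∀ (T : Over (Spec (CommRingCat.of k))) (h : T ⟶ H) (e : T ⟶ G ⊗ X),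
      smul b h e ≫ fst G X = smul r h (e ≫ fst G X) := by
    intro T h e
    obtain ⟨g, x, rfl⟩ : ∃ g x, e = lift g x := ⟨_, _, (lift_comp_fst_snd e).symm⟩
    rw [smul_def, hb, lift_fst, lift_fst, smul_def, hr]
  have key : IsPullback qX (fst G X) pX π :=
    isPullback_of_equivariant b qX Pq (OCov.single qX) r π Pπ (fst G X) hfst pX hp
  have key' : IsPullback (fst G X).left qX.left π.left pX.left := key.flip.map (Over.forget _)
  haveI := isProper_descendsAlong_fpqc.{u}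
  haveI : IsProper (fst G X).left := by
    show IsProper (pullback.fst G.hom X.hom)
    infer_instance
  exact MorphismProperty.of_isPullback_of_descendsAlong (P := @IsProper)
    (Q := (@Surjective ⊓ @Flat ⊓ @QuasiCompact : MorphismProperty Scheme.{u})) key'
    ⟨⟨inferInstance, inferInstance⟩, inferInstance⟩ inferInstance

theorem main14884 (k : Type u) [Field k] [IsAlgClosed k] [CharZero k]
    (G H : Over (Spec (CommRingCat.of k))) [GrpObj G] [Smooth G.hom] [QuasiCompact G.hom]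
    [GrpObj H] (j : H ⟶ G) [IsMonHom j] [IsClosedImmersion j.left] [Smooth H.hom]
    (B : Over (Spec (CommRingCat.of k))) [LocallyOfFiniteType B.hom] [QuasiCompact B.hom] [IsSeparated B.hom] [IsReduced B.left]
    (r : AlgGrp.Action H G) (hr : ∀ (T : Over (Spec (CommRingCat.of k))) (h : T ⟶ H) (g : T ⟶ G),
      lift h g ≫ r.act = g * (h ≫ j)⁻¹)
    (π : G ⟶ B) (hπinv : GIT.IsInvariant r π)
    (hπ : (Function.Surjective π.left.base ∧ IsOpenMap π.left.base ∧
      Function.Surjective (GIT.PsiY r π hπinv).base ∧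
      (∀ U : B.left.Opens, Function.Injective (π.left.app U) ∧
        Set.range (π.left.app U) = {f | GIT.IsInvSection r π U f}) ∧
      IsIso (GIT.PsiY r π hπinv) ∧ Flat π.left))
    (X Y : Over (Spec (CommRingCat.of k))) [LocallyOfFiniteType X.hom] [QuasiCompact X.hom] [IsSeparated X.hom] [IsReduced X.left] [LocallyOfFiniteType Y.hom] [QuasiCompact Y.hom] [IsSeparated Y.hom] [IsReduced Y.left]
    (hFX : ∀ F : Finset ↥X.left, ∃ U : X.left.Opens, IsAffineOpen U ∧ (↑F : Set ↥X.left) ⊆ (U : Set ↥X.left))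
    (hFY : ∀ F : Finset ↥Y.left, ∃ U : Y.left.Opens, IsAffineOpen U ∧ (↑F : Set ↥Y.left) ⊆ (U : Set ↥Y.left))
    (aX : AlgGrp.Action H X) (aY : AlgGrp.Action H Y) (i : X ⟶ Y) [IsOpenImmersion i.left]
    (hi : aX.act ≫ i = (H ◁ i) ≫ aY.act)
    (b : AlgGrp.Action H (G ⊗ X))
    (hb : ∀ (T : Over (Spec (CommRingCat.of k))) (h : T ⟶ H) (g : T ⟶ G) (x : T ⟶ X),
      lift h (lift g x) ≫ b.act = lift (g * (h ≫ j)⁻¹) (lift h x ≫ aX.act))
    (c : AlgGrp.Action H (G ⊗ Y))
    (hc : ∀ (T : Over (Spec (CommRingCat.of k))) (h : T ⟶ H) (g : T ⟶ G) (x : T ⟶ Y),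
      lift h (lift g x) ≫ c.act = lift (g * (h ≫ j)⁻¹) (lift h x ≫ aY.act))
    (QX QY : Over (Spec (CommRingCat.of k))) [LocallyOfFiniteType QX.hom] [QuasiCompact QX.hom] [IsSeparated QX.hom] [IsReduced QX.left] [LocallyOfFiniteType QY.hom] [QuasiCompact QY.hom] [IsSeparated QY.hom] [IsReduced QY.left]
    (qX : G ⊗ X ⟶ QX) (hqXinv : GIT.IsInvariant b qX) (hqX : (Function.Surjective qX.left.base ∧ IsOpenMap qX.left.base ∧
      Function.Surjective (GIT.PsiY b qX hqXinv).base ∧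
      (∀ U : QX.left.Opens, Function.Injective (qX.left.app U) ∧
        Set.range (qX.left.app U) = {f | GIT.IsInvSection b qX U f}) ∧
      IsIso (GIT.PsiY b qX hqXinv) ∧ Flat qX.left))
    (qY : G ⊗ Y ⟶ QY) (hqYinv : GIT.IsInvariant c qY) (hqY : (Function.Surjective qY.left.base ∧ IsOpenMap qY.left.base ∧
      Function.Surjective (GIT.PsiY c qY hqYinv).base ∧
      (∀ U : QY.left.Opens, Function.Injective (qY.left.app U) ∧
        Set.range (qY.left.app U) = {f | GIT.IsInvSection c qY U f}) ∧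
      IsIso (GIT.PsiY c qY hqYinv) ∧ Flat qY.left))
    (pX : QX ⟶ B) (hpX : qX ≫ pX = fst G X ≫ π) (pY : QY ⟶ B) (hpY : qY ≫ pY = fst G Y ≫ π)
    (m : QX ⟶ QY) (hm : qX ≫ m = (G ◁ i) ≫ qY) (hmp : m ≫ pY = pX) :
    IsOpenImmersion m.left := by
  obtain ⟨hXs, -, -, -, hXiso, hXflat⟩ := hqX
  obtain ⟨hYs, -, -, -, hYiso, hYflat⟩ := hqY
  have PqX := isPullback_of_isIso_PsiY b qX hqXinv hXiso
  have PqY := isPullback_of_isIso_PsiY c qY hqYinv hYiso
  haveI : Flat qX.left := hXflat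
  haveI : Surjective qX.left := ⟨hXs⟩
  haveI : QuasiCompact qX.left := quasiCompact_left qX
  haveI : Flat qY.left := hYflat
  haveI : Surjective qY.left := ⟨hYs⟩
  haveI : QuasiCompact qY.left := quasiCompact_left qY
  have hGi : ∀ (T : Over (Spec (CommRingCat.of k))) (h : T ⟶ H) (e : T ⟶ G ⊗ X),
      smul b h e ≫ (G ◁ i) = smul c h (e ≫ (G ◁ i)) := by
    intro T h e
    obtain ⟨g, x, rfl⟩ : ∃ g x, e = lift g x := ⟨_, _, (lift_comp_fst_snd e).symm⟩
    rw [smul_def, hb, lift_whiskerLeft, lift_whiskerLeft, smul_def, hc, Category.assoc, hi,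
      lift_whiskerLeft_assoc]
  have key : IsPullback qX (G ◁ i) m qY :=
    isPullback_of_equivariant b qX PqX (OCov.single qX) c qY PqY (G ◁ i) hGi m hm
  have key' : IsPullback (G ◁ i).left qX.left qY.left m.left := key.flip.map (Over.forget _)
  have sq : IsPullback (G ◁ i).left (snd G X).left (snd G Y).left i.left :=
    (TorsorMisc.isPullback_whiskerLeft_snd G i).map (Over.forget _)
  have hoi : IsOpenImmersion (G ◁ i).left :=
    MorphismProperty.of_isPullback (P := @IsOpenImmersion) sq.flip inferInstance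
  exact MorphismProperty.of_isPullback_of_descendsAlong (P := @IsOpenImmersion)
    (Q := (@Surjective ⊓ @Flat ⊓ @QuasiCompact : MorphismProperty Scheme.{u})) key'
    ⟨⟨inferInstance, inferInstance⟩, inferInstance⟩ hoi

theorem main14886 (k : Type u) [Field k] [IsAlgClosed k] [CharZero k]
    (G H : Over (Spec (CommRingCat.of k))) [GrpObj G] [Smooth G.hom] [QuasiCompact G.hom]
    [ConnectedSpace ↥G.left] [GrpObj H] (j : H ⟶ G) [IsMonHom j] [IsClosedImmersion j.left] [Smooth H.hom]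
    (B : Over (Spec (CommRingCat.of k))) [LocallyOfFiniteType B.hom] [QuasiCompact B.hom] [IsSeparated B.hom] [IsReduced B.left]
    (r : AlgGrp.Action H G) (hr : ∀ (T : Over (Spec (CommRingCat.of k))) (h : T ⟶ H) (g : T ⟶ G),
      lift h g ≫ r.act = g * (h ≫ j)⁻¹)
    (π : G ⟶ B) (hπinv : GIT.IsInvariant r π)
    (hπ : (Function.Surjective π.left.base ∧ IsOpenMap π.left.base ∧
      Function.Surjective (GIT.PsiY r π hπinv).base ∧
      (∀ U : B.left.Opens, Function.Injective (π.left.app U) ∧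
        Set.range (π.left.app U) = {f | GIT.IsInvSection r π U f}) ∧
      IsIso (GIT.PsiY r π hπinv) ∧ Flat π.left))
    (X Y : Over (Spec (CommRingCat.of k))) [LocallyOfFiniteType X.hom] [QuasiCompact X.hom] [IsSeparated X.hom] [IsReduced X.left] [LocallyOfFiniteType Y.hom] [QuasiCompact Y.hom] [IsSeparated Y.hom] [IsReduced Y.left]
    (hFX : ∀ F : Finset ↥X.left, ∃ U : X.left.Opens, IsAffineOpen U ∧ (↑F : Set ↥X.left) ⊆ (U : Set ↥X.left))
    (hFY : ∀ F : Finset ↥Y.left, ∃ U : Y.left.Opens, IsAffineOpen U ∧ (↑F : Set ↥Y.left) ⊆ (U : Set ↥Y.left))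
    (aX : AlgGrp.Action H X) (aY : AlgGrp.Action H Y)
    (b : AlgGrp.Action H (G ⊗ X))
    (hb : ∀ (T : Over (Spec (CommRingCat.of k))) (h : T ⟶ H) (g : T ⟶ G) (x : T ⟶ X),
      lift h (lift g x) ≫ b.act = lift (g * (h ≫ j)⁻¹) (lift h x ≫ aX.act))
    (c : AlgGrp.Action H (G ⊗ Y))
    (hc : ∀ (T : Over (Spec (CommRingCat.of k))) (h : T ⟶ H) (g : T ⟶ G) (x : T ⟶ Y),
      lift h (lift g x) ≫ c.act = lift (g * (h ≫ j)⁻¹) (lift h x ≫ aY.act))
    (d : AlgGrp.Action H (G ⊗ (X ⊗ Y)))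
    (hd : ∀ (T : Over (Spec (CommRingCat.of k))) (h : T ⟶ H) (g : T ⟶ G) (x : T ⟶ X) (y : T ⟶ Y),
      lift h (lift g (lift x y)) ≫ d.act = lift (g * (h ≫ j)⁻¹) (lift (lift h x ≫ aX.act) (lift h y ≫ aY.act)))
    (QX QY QXY : Over (Spec (CommRingCat.of k))) [LocallyOfFiniteType QX.hom] [QuasiCompact QX.hom] [IsSeparated QX.hom] [IsReduced QX.left] [LocallyOfFiniteType QY.hom] [QuasiCompact QY.hom] [IsSeparated QY.hom] [IsReduced QY.left] [LocallyOfFiniteType QXY.hom] [QuasiCompact QXY.hom] [IsSeparated QXY.hom] [IsReduced QXY.left]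
    (qX : G ⊗ X ⟶ QX) (hqXinv : GIT.IsInvariant b qX) (hqX : (Function.Surjective qX.left.base ∧ IsOpenMap qX.left.base ∧
      Function.Surjective (GIT.PsiY b qX hqXinv).base ∧
      (∀ U : QX.left.Opens, Function.Injective (qX.left.app U) ∧
        Set.range (qX.left.app U) = {f | GIT.IsInvSection b qX U f}) ∧
      IsIso (GIT.PsiY b qX hqXinv) ∧ Flat qX.left))
    (qY : G ⊗ Y ⟶ QY) (hqYinv : GIT.IsInvariant c qY) (hqY : (Function.Surjective qY.left.base ∧ IsOpenMap qY.left.base ∧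
      Function.Surjective (GIT.PsiY c qY hqYinv).base ∧
      (∀ U : QY.left.Opens, Function.Injective (qY.left.app U) ∧
        Set.range (qY.left.app U) = {f | GIT.IsInvSection c qY U f}) ∧
      IsIso (GIT.PsiY c qY hqYinv) ∧ Flat qY.left))
    (qXY : G ⊗ (X ⊗ Y) ⟶ QXY) (hqXYinv : GIT.IsInvariant d qXY) (hqXY : (Function.Surjective qXY.left.base ∧ IsOpenMap qXY.left.base ∧
      Function.Surjective (GIT.PsiY d qXY hqXYinv).base ∧
      (∀ U : QXY.left.Opens, Function.Injective (qXY.left.app U) ∧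
        Set.range (qXY.left.app U) = {f | GIT.IsInvSection d qXY U f}) ∧
      IsIso (GIT.PsiY d qXY hqXYinv) ∧ Flat qXY.left))
    (pX : QX ⟶ B) (hpX : qX ≫ pX = fst G X ≫ π) (pY : QY ⟶ B) (hpY : qY ≫ pY = fst G Y ≫ π)
    (pXY : QXY ⟶ B) (hpXY : qXY ≫ pXY = fst G (X ⊗ Y) ≫ π)
    (fX : QXY ⟶ QX) (hfX : qXY ≫ fX = (G ◁ fst X Y) ≫ qX) (hfXp : fX ≫ pX = pXY)
    (fY : QXY ⟶ QY) (hfY : qXY ≫ fY = (G ◁ snd X Y) ≫ qY) (hfYp : fY ≫ pY = pXY) :
    IsPullback fX.left fY.left pX.left pY.left := by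
  obtain ⟨hπs, -, -, -, hπiso, hπflat⟩ := hπ
  obtain ⟨hXs, -, -, -, hXiso, hXflat⟩ := hqX
  obtain ⟨hYs, -, -, -, hYiso, hYflat⟩ := hqY
  obtain ⟨hXYs, -, -, -, hXYiso, hXYflat⟩ := hqXY
  have Pπ := isPullback_of_isIso_PsiY r π hπinv hπiso
  have PqX := isPullback_of_isIso_PsiY b qX hqXinv hXiso
  have PqY := isPullback_of_isIso_PsiY c qY hqYinv hYiso
  have PqXY := isPullback_of_isIso_PsiY d qXY hqXYinv hXYiso
  haveI : Flat qX.left := hXflat
  haveI : Surjective qX.left := ⟨hXs⟩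
  haveI : QuasiCompact qX.left := quasiCompact_left qX
  haveI : Flat qY.left := hYflat
  haveI : Surjective qY.left := ⟨hYs⟩
  haveI : QuasiCompact qY.left := quasiCompact_left qY
  haveI : Flat qXY.left := hXYflat
  haveI : Surjective qXY.left := ⟨hXYs⟩
  haveI : QuasiCompact qXY.left := quasiCompact_left qXY
  have hg₂ : ∀ (T : Over (Spec (CommRingCat.of k))) (h : T ⟶ H) (e : T ⟶ G ⊗ Y),
      smul c h e ≫ fst G Y = smul r h (e ≫ fst G Y) := by
    intro T h e
    obtain ⟨g, x, rfl⟩ : ∃ g x, e = lift g x := ⟨_, _, (lift_comp_fst_snd e).symm⟩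
    rw [smul_def, hc, lift_fst, lift_fst, smul_def, hr]
  have hf₁ : ∀ (T : Over (Spec (CommRingCat.of k))) (h : T ⟶ H) (e : T ⟶ G ⊗ (X ⊗ Y)),
      smul d h e ≫ (G ◁ fst X Y) = smul b h (e ≫ (G ◁ fst X Y)) := by
    intro T h e
    obtain ⟨g, x, y, rfl⟩ : ∃ g x y, e = lift g (lift x y) :=
      ⟨e ≫ fst _ _, e ≫ snd _ _ ≫ fst _ _, e ≫ snd _ _ ≫ snd _ _, by
        rw [← Category.assoc, ← Category.assoc, lift_comp_fst_snd, lift_comp_fst_snd]⟩
    rw [smul_def, hd, lift_whiskerLeft, lift_fst, lift_whiskerLeft, lift_fst, smul_def, hb]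
  have hw : fX ≫ pX = fY ≫ pY := hfXp.trans hfYp.symm
  exact (isPullback_quot_prod r π Pπ b qX PqX (OCov.single qX) c qY PqY (OCov.single qY)
    d qXY PqXY (OCov.single qXY) (fst G X) (fst G Y) hg₂ (G ◁ fst X Y) hf₁ (G ◁ snd X Y)
    (isPullback_whiskerLeft_fst_snd G X Y) pX hpX pY hpY fX hfX fY hfY hw).map (Over.forget _)

end

end Groth.Agent.Lib.Helper29.AssocBundleMain
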