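import Groth.Agent.Lib.Helper29.AssocBundle
import Groth.Agent.Lib.Helper29.QuotGeom

/-!
# Helper library (helper29): principal bundles are geometric quotients; mixed spaces (S18502, S18510)
-/

set_option autoImplicit false
set_option maxHeartbeats 1600000
universe u
open CategoryTheory CategoryTheory.Limits AlgebraicGeometry MonoidalCategory CartesianMonoidalCategory
  MonObj GrpObj

namespace Groth.Agent.Lib.Helper29.AssocBundleMore

open Groth.Agent.Lib.Helper29.InvFun Groth.Agent.Lib.Helper22 Groth.Agent.Lib.Helper29.TorsorPush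
  Groth.Agent.Lib.Helper29.TorsorComp Groth.Agent.Lib.Helper29 Groth.Agent.Lib.Helper29.AssocBundle

noncomputable section

theorem main18510 (k : Type u) [Field k]
    (G X Y U XG YG : Over (Spec (CommRingCat.of k))) [GrpObj G] [IsAffine G.left] [LocallyOfFiniteType G.hom]
    [LocallyOfFiniteType X.hom] [QuasiCompact X.hom] [QuasiSeparated X.hom]
    [LocallyOfFiniteType Y.hom] [QuasiCompact Y.hom] [QuasiSeparated Y.hom]
    [LocallyOfFiniteType U.hom] [QuasiCompact U.hom] [QuasiSeparated U.hom]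
    [LocallyOfFiniteType XG.hom] [QuasiCompact XG.hom] [QuasiSeparated XG.hom]
    [LocallyOfFiniteType YG.hom] [QuasiCompact YG.hom] [QuasiSeparated YG.hom]
    (a : AlgGrp.Action G X) (aY : AlgGrp.Action G Y) (b : AlgGrp.Action G U)
    (f : X ⟶ Y) (hf : AlgGrp.Action.IsEquivariant a aY f)
    (qX : X ⊗ U ⟶ XG) (hqX : GIT.IsInvariant (a.prod b) qX) [Flat qX.left] [Surjective qX.left]
    (hcX : IsIso (GIT.PsiY (a.prod b) qX hqX))
    (qY : Y ⊗ U ⟶ YG) (hqY : GIT.IsInvariant (aY.prod b) qY) [Flat qY.left] [Surjective qY.left]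
    (hcY : IsIso (GIT.PsiY (aY.prod b) qY hqY))
    (fG : XG ⟶ YG) (hfG : qX ≫ fG = (f ▷ U) ≫ qY) :
    (IsProper f.left → IsProper fG.left) ∧ (Flat f.left → Flat fG.left) ∧
      (Smooth f.left → Smooth fG.left) := by
  have PqX := isPullback_of_isIso_PsiY (a.prod b) qX hqX hcX
  have PqY := isPullback_of_isIso_PsiY (aY.prod b) qY hqY hcY
  haveI : QuasiCompact qX.left := quasiCompact_left qX
  haveI : QuasiCompact qY.left := quasiCompact_left qY
  have hf' : a.act ≫ f = (G ◁ f) ≫ aY.act := hf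
  have hfU : ∀ (T : Over (Spec (CommRingCat.of k))) (g : T ⟶ G) (e : T ⟶ X ⊗ U),
      smul (a.prod b) g e ≫ (f ▷ U) = smul (aY.prod b) g (e ≫ (f ▷ U)) := by
    intro T g e
    obtain ⟨x, u, rfl⟩ : ∃ x u, e = lift x u := ⟨_, _, (lift_comp_fst_snd e).symm⟩
    rw [smul_def, AlgGrp.Action.lift_prod_act, lift_whiskerRight, lift_whiskerRight, smul_def,
      AlgGrp.Action.lift_prod_act, Category.assoc, hf', lift_whiskerLeft_assoc]
  have key : IsPullback qX (f ▷ U) fG qY :=
    isPullback_of_equivariant (a.prod b) qX PqX (OCov.single qX) (aY.prod b) qY PqY (f ▷ U) hfU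
      fG hfG
  have key' : IsPullback (f ▷ U).left qX.left qY.left fG.left := key.flip.map (Over.forget _)
  have sq : IsPullback (fst X U).left (f ▷ U).left f.left (fst Y U).left :=
    ((TorsorMisc.isPullback_whiskerRight_fst f U).map (Over.forget _)).flip
  have hQ : (@Surjective ⊓ @Flat ⊓ @QuasiCompact : MorphismProperty Scheme.{u}) qY.left :=
    ⟨⟨inferInstance, inferInstance⟩, inferInstance⟩
  have gen : ∀ (P : MorphismProperty Scheme.{u}) [P.IsStableUnderBaseChange]
      [P.DescendsAlong (@Surjective ⊓ @Flat ⊓ @QuasiCompact : MorphismProperty Scheme.{u})],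
      P f.left → P fG.left := by
    intro P _ _ hP
    exact MorphismProperty.of_isPullback_of_descendsAlong (P := P) key' hQ
      (MorphismProperty.of_isPullback (P := P) sq hP)
  haveI := isProper_descendsAlong_fpqc.{u}
  exact ⟨gen @IsProper, gen @Flat, gen @Smooth⟩

theorem main18502 (k : Type u) [Field k]
    (G X Y : Over (Spec (CommRingCat.of k))) [GrpObj G] [IsAffine G.left] [LocallyOfFiniteType G.hom]
    [LocallyOfFiniteType X.hom] [QuasiCompact X.hom] [IsSeparated X.hom]
    [LocallyOfFiniteType Y.hom] [QuasiCompact Y.hom] [IsSeparated Y.hom]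
    (a : AlgGrp.Action G X) (φ : X ⟶ Y) (hinv : GIT.IsInvariant a φ) [Flat φ.left] [Surjective φ.left]
    (hcart : IsIso (GIT.PsiY a φ hinv)) :
    GIT.IsGeomQuot a φ ∧ IsClosedImmersion (GIT.psi a (𝟙 X)).left := by
  have Pq : IsPullback a.act (snd G X) φ φ := isPullback_of_isIso_PsiY a φ hinv hcart
  have Pq' : IsPullback a.act.left (snd G X).left φ.left φ.left := Pq.map (Over.forget _)
  haveI : QuasiCompact φ.left := quasiCompact_left φ
  have hinv' : a.act ≫ φ = snd G X ≫ φ := hinv
  constructor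
  · refine ⟨hinv, (inferInstance : Surjective φ.left).surj, ?_, ?_, ?_⟩
    · intro z
      haveI := hcart
      refine ⟨(inv (GIT.PsiY a φ hinv)) z, ?_⟩
      show (GIT.PsiY a φ hinv) ((inv (GIT.PsiY a φ hinv)) z) = z
      rw [← Scheme.Hom.comp_apply, IsIso.inv_hom_id]
      rfl
    · exact fpqc_le_univSubmersive _ ⟨⟨inferInstance, inferInstance⟩, inferInstance⟩
    · intro U
      refine QuotGeom.sections_of_local φ.left a.act.left (snd G X).left U hinv.left
        (I₀ := PUnit.{u+2}) (Yc := fun _ => X.left) (fun _ => φ.left) ?_ (fun _ => 𝟙 X.left)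
        (fun _ => Category.id_comp _) ?_
      · rw [Presieve.ofArrows_pUnit]; exact φ.left.singleton_mem_fpqcPrecoverage
      · intro Z x₁ x₂ h
        refine ⟨PUnit.{u+2}, fun _ => Z, fun _ => 𝟙 Z, ?_, fun _ => ⟨Pq'.lift x₁ x₂ h, ?_, ?_⟩⟩
        · rw [Presieve.ofArrows_pUnit]; exact Scheme.Hom.singleton_mem_fpqcPrecoverage (𝟙 Z)
        · rw [Pq'.lift_fst, Category.id_comp]
        · rw [Pq'.lift_snd, Category.id_comp]
  · have w : GIT.psi a (𝟙 X) ≫ (φ ⊗ₘ φ) = (snd G X ≫ φ) ≫ lift (𝟙 Y) (𝟙 Y) := by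
      unfold GIT.psi
      rw [lift_map, comp_lift, Category.comp_id, whiskerLeft_id, Category.id_comp, hinv']
    have sq : IsPullback (GIT.psi a (𝟙 X)) (snd G X ≫ φ) (φ ⊗ₘ φ) (lift (𝟙 Y) (𝟙 Y)) := by
      refine isPullback_of_existsUnique w (fun T p y hpy => ?_)
      have h1 : (p ≫ fst X X) ≫ φ = y := by
        have := congrArg (fun t => t ≫ fst Y Y) hpy
        simpa only [Category.assoc, tensorHom_fst, lift_fst, Category.comp_id] using this
      have h2 : (p ≫ snd X X) ≫ φ = y := by
        have := congrArg (fun t => t ≫ snd Y Y) hpy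
        simpa only [Category.assoc, tensorHom_snd, lift_snd, Category.comp_id] using this
      have h12 : (p ≫ fst X X) ≫ φ = (p ≫ snd X X) ≫ φ := h1.trans h2.symm
      have hpsi : ∀ m : T ⟶ G ⊗ X,
          m ≫ GIT.psi a (𝟙 X) = lift (m ≫ a.act) (m ≫ snd G X) := by
        intro m
        unfold GIT.psi
        rw [comp_lift, whiskerLeft_id, Category.id_comp]
      refine ⟨Pq.lift _ _ h12, ⟨?_, ?_⟩, fun m' hm' => ?_⟩
      · rw [hpsi, Pq.lift_fst, Pq.lift_snd, lift_comp_fst_snd]
      · rw [← Category.assoc, Pq.lift_snd, h2]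
      · apply Pq.hom_ext
        · rw [Pq.lift_fst, ← hm'.1, hpsi, lift_fst]
        · rw [Pq.lift_snd, ← hm'.1, hpsi, lift_snd]
    have sq' := sq.flip.map (Over.forget _)
    have hd : IsClosedImmersion (lift (𝟙 Y) (𝟙 Y)).left := by
      show IsClosedImmersion (pullback.diagonal Y.hom)
      infer_instance
    exact MorphismProperty.of_isPullback (P := @IsClosedImmersion) sq' hd

end

end Groth.Agent.Lib.Helper29.AssocBundleMore
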