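import Mathlib

/-!
# Counting automorphisms of a non-split self-extension (helper29, for helper11's S18788)

* `card_units_of_nilpotent_ker` (L1): for a surjective ring hom `π : R →+* S` of (possibly
  non-commutative) rings with `R` finite and nil kernel, `|Rˣ| = |ker π| * |Sˣ|`.
* `Hyp ι p`: a non-split short exact sequence `0 → O → F → O → 0` with `End O` a division ring.
  `Hyp.comp_p`, `Hyp.ι_comp` (C1, C2), `Hyp.chiHom : End F →+* End O` (C3).
* `card_aut_nonsplit_mid` (AT1a): `|Aut F| = (q - 1) q`.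
-/

set_option autoImplicit false
set_option maxHeartbeats 1600000
universe v u

open CategoryTheory CategoryTheory.Limits

namespace Groth.Agent.Lib.Helper29.AutExtA

section L1

variable {R S : Type*} [Ring R] [Ring S]

theorem isUnit_of_map_isUnit (π : R →+* S) (hπ : Function.Surjective π)
    (hker : ∀ x, π x = 0 → IsNilpotent x) (a : R) (ha : IsUnit (π a)) : IsUnit a := by
  obtain ⟨v, hv⟩ := ha
  obtain ⟨b, hb⟩ := hπ (↑v⁻¹ : S)
  have h1 : IsUnit (a * b) := by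
    have hn : IsNilpotent (a * b - 1) := hker _ (by
      rw [map_sub, map_mul, map_one, hb, ← hv, Units.mul_inv, sub_self])
    have h := hn.isUnit_one_add
    rwa [add_sub_cancel] at h
  have h2 : IsUnit (b * a) := by
    have hn : IsNilpotent (b * a - 1) := hker _ (by
      rw [map_sub, map_mul, map_one, hb, ← hv, Units.inv_mul, sub_self])
    have h := hn.isUnit_one_add
    rwa [add_sub_cancel] at h
  obtain ⟨u1, hu1⟩ := h1
  obtain ⟨u2, hu2⟩ := h2
  have hr : a * (b * ↑u1⁻¹) = 1 := by rw [← mul_assoc, ← hu1, Units.mul_inv]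
  have hl : (↑u2⁻¹ * b) * a = 1 := by rw [mul_assoc, ← hu2, Units.inv_mul]
  have heq : ↑u2⁻¹ * b = b * ↑u1⁻¹ := left_inv_eq_right_inv hl hr
  exact ⟨⟨a, b * ↑u1⁻¹, hr, by rw [← heq]; exact hl⟩, rfl⟩

/-- (L1) -/
theorem card_units_of_nilpotent_ker [Finite R] (π : R →+* S) (hπ : Function.Surjective π)
    (hker : ∀ x, π x = 0 → IsNilpotent x) :
    Nat.card Rˣ = Nat.card (RingHom.ker π) * Nat.card Sˣ := by
  obtain ⟨φ, hφ⟩ : ∃ φ : Rˣ →* Sˣ, ∀ u : Rˣ, ((φ u : Sˣ) : S) = π (u : R) :=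
    ⟨Units.map (π : R →* S), fun u => rfl⟩
  have hsurj : Function.Surjective φ := by
    intro v
    obtain ⟨a, ha⟩ := hπ (v : S)
    obtain ⟨u, hu⟩ := isUnit_of_map_isUnit π hπ hker a (ha ▸ v.isUnit)
    refine ⟨u, Units.ext ?_⟩
    rw [hφ, hu]
    exact ha
  have hcard := Subgroup.card_eq_card_quotient_mul_card_subgroup φ.ker
  rw [Nat.card_congr (QuotientGroup.quotientKerEquivOfSurjective φ hsurj).toEquiv] at hcard
  rw [hcard, mul_comm]
  congr 1
  have hmem : ∀ u : φ.ker, ((u : Rˣ) : R) - 1 ∈ RingHom.ker π := by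
    intro u
    have h : φ (u : Rˣ) = 1 := u.2
    have h' : π ((u : Rˣ) : R) = 1 := by
      rw [← hφ, h]
      rfl
    rw [RingHom.mem_ker, map_sub, h', map_one, sub_self]
  obtain ⟨f, hf⟩ : ∃ f : φ.ker → RingHom.ker π, ∀ u, ((f u : RingHom.ker π) : R) =
      ((u : Rˣ) : R) - 1 := ⟨fun u => ⟨((u : Rˣ) : R) - 1, hmem u⟩, fun u => rfl⟩
  have hinj : Function.Injective f := by
    intro u u' h
    have h2 : ((u : Rˣ) : R) - 1 = ((u' : Rˣ) : R) - 1 := by rw [← hf, ← hf, h]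
    exact Subtype.ext (Units.ext (sub_left_injective h2))
  have hsur : Function.Surjective f := by
    intro x
    have hx : π (x : R) = 0 := x.2
    obtain ⟨u, hu⟩ := (hker _ hx).isUnit_one_add
    have hu1 : u ∈ φ.ker := by
      rw [MonoidHom.mem_ker]
      apply Units.ext
      rw [hφ, hu, map_add, map_one, hx, add_zero]
      rfl
    refine ⟨⟨u, hu1⟩, Subtype.ext ?_⟩
    rw [hf]
    show (u : R) - 1 = x
    rw [hu, add_sub_cancel_left]
  exact Nat.card_congr (Equiv.ofBijective f ⟨hinj, hsur⟩)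

theorem card_ne_zero_subtype (α : Type*) [Zero α] [Finite α] :
    Nat.card {a : α // a ≠ 0} = Nat.card α - 1 := by
  classical
  rw [eq_comm, ← Nat.card_congr (Equiv.sumCompl (· = (0 : α))), Nat.card_sum, Nat.card_unique,
    add_tsub_cancel_left]

end L1

section Ext

variable {C : Type u} [Category.{v} C] [Abelian C]

/-- a non-split short exact sequence `0 → O → F → O → 0` with `End O` a division ring. -/
structure Hyp {O F : C} (ι : O ⟶ F) (p : F ⟶ O) : Prop where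
  w : ι ≫ p = 0
  hS : (ShortComplex.mk ι p w).ShortExact
  hns : ¬ IsSplitEpi p
  hdiv : ∀ c : O ⟶ O, c ≠ 0 → IsIso c

namespace Hyp

variable {O F : C} {ι : O ⟶ F} {p : F ⟶ O} (h : Hyp ι p)
include h

theorem mono_ι : Mono ι := h.hS.mono_f

theorem epi_p : Epi p := h.hS.epi_g

/-- (C1) -/
theorem comp_p (s : O ⟶ F) : s ≫ p = 0 := by
  by_contra hne
  haveI := h.hdiv _ hne
  exact h.hns (IsSplitEpi.mk' ⟨inv (s ≫ p) ≫ s, by rw [Category.assoc, IsIso.inv_hom_id]⟩)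

/-- (C2) -/
theorem ι_comp (φ : F ⟶ O) : ι ≫ φ = 0 := by
  by_contra hne
  haveI := h.hdiv _ hne
  have spl := ShortComplex.Splitting.ofExactOfRetraction _ h.hS.exact (φ ≫ inv (ι ≫ φ))
    (by
      show ι ≫ φ ≫ inv (ι ≫ φ) = 𝟙 O
      rw [← Category.assoc, IsIso.hom_inv_id]) h.hS.epi_g
  exact h.hns (IsSplitEpi.mk' ⟨spl.s, spl.s_g⟩)

theorem exists_eq_comp_ι (s : O ⟶ F) : ∃ c : O ⟶ O, s = c ≫ ι := by
  haveI : Mono (ShortComplex.mk ι p h.w).f := h.hS.mono_f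
  exact ⟨h.hS.exact.lift s (h.comp_p s), (h.hS.exact.lift_f s (h.comp_p s)).symm⟩

theorem exists_eq_p_comp (φ : F ⟶ O) : ∃ c : O ⟶ O, φ = p ≫ c := by
  haveI : Epi (ShortComplex.mk ι p h.w).g := h.hS.epi_g
  exact ⟨h.hS.exact.desc φ (h.ι_comp φ), (h.hS.exact.g_desc φ (h.ι_comp φ)).symm⟩

theorem exists_of_comp_p_eq_zero (m : F ⟶ F) (hm : m ≫ p = 0) :
    ∃ c : O ⟶ O, m = p ≫ c ≫ ι := by
  haveI : Mono (ShortComplex.mk ι p h.w).f := h.hS.mono_f
  obtain ⟨c, hc⟩ := h.exists_eq_p_comp (h.hS.exact.lift m hm)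
  refine ⟨c, ?_⟩
  rw [← Category.assoc, ← hc]
  exact (h.hS.exact.lift_f m hm).symm

theorem id_ne_zero : (𝟙 O : O ⟶ O) ≠ 0 := by
  intro h0
  exact h.hns (IsSplitEpi.mk' ⟨0, by rw [zero_comp, h0]⟩)

/-- every composite `O ⟶ F ⟶ O` vanishes. -/
theorem comp_eq_zero (s : O ⟶ F) (φ : F ⟶ O) : s ≫ φ = 0 := by
  obtain ⟨c, rfl⟩ := h.exists_eq_comp_ι s
  rw [Category.assoc, h.ι_comp, comp_zero]

/-- (C3) the induced endomorphism of the quotient. -/
noncomputable def chi (m : F ⟶ F) : O ⟶ O := (h.exists_eq_p_comp (m ≫ p)).choose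

theorem chi_spec (m : F ⟶ F) : m ≫ p = p ≫ h.chi m := (h.exists_eq_p_comp (m ≫ p)).choose_spec

theorem chi_unique (m : F ⟶ F) (c : O ⟶ O) (hc : m ≫ p = p ≫ c) : h.chi m = c := by
  haveI := h.epi_p
  rw [← cancel_epi p, ← h.chi_spec, hc]

noncomputable def chiHom : End F →+* End O where
  toFun m := h.chi m
  map_one' := h.chi_unique _ _ (by
    show 𝟙 F ≫ p = p ≫ 𝟙 O
    rw [Category.id_comp, Category.comp_id])
  map_mul' m m' := h.chi_unique _ _ (by
    show (m' ≫ m) ≫ p = p ≫ (h.chi m' ≫ h.chi m)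
    rw [Category.assoc, h.chi_spec m, ← Category.assoc, h.chi_spec m', Category.assoc])
  map_zero' := h.chi_unique _ _ (by
    show (0 : F ⟶ F) ≫ p = p ≫ (0 : O ⟶ O)
    rw [zero_comp, comp_zero])
  map_add' m m' := h.chi_unique _ _ (by
    show (m + m') ≫ p = p ≫ (h.chi m + h.chi m')
    rw [Preadditive.add_comp, Preadditive.comp_add, h.chi_spec, h.chi_spec])

theorem chiHom_apply (m : End F) : h.chiHom m = h.chi m := rfl

theorem chiHom_eq_zero_iff (m : End F) : h.chiHom m = 0 ↔ (m : F ⟶ F) ≫ p = 0 := by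
  rw [chiHom_apply]
  constructor
  · intro h0
    rw [h.chi_spec, h0]
    exact comp_zero
  · intro h0
    exact h.chi_unique m 0 (by rw [h0, comp_zero])

theorem nilpotent_of_ker (m : End F) (hm : h.chiHom m = 0) : IsNilpotent m := by
  obtain ⟨c, hc⟩ := h.exists_of_comp_p_eq_zero m ((h.chiHom_eq_zero_iff m).mp hm)
  refine ⟨2, ?_⟩
  rw [pow_two]
  show (m : F ⟶ F) ≫ (m : F ⟶ F) = 0
  have h1 : (m : F ⟶ F) ≫ p = 0 := (h.chiHom_eq_zero_iff m).mp hm
  rw [hc] at h1 ⊢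
  simp only [Category.assoc] at h1 ⊢
  rw [reassoc_of% h.w]
  simp

section lift

variable (hlift : ∀ c : O ⟶ O, ∃ z : F ⟶ F, ι ≫ z = c ≫ ι ∧ z ≫ p = p ≫ c)
include hlift

theorem chiHom_surjective : Function.Surjective h.chiHom := by
  intro c
  obtain ⟨z, -, hz⟩ := hlift c
  exact ⟨z, h.chi_unique z c hz⟩

theorem finite_end [Finite (O ⟶ O)] : Finite (End F) := by
  choose ζ hζ1 hζ2 using hlift
  refine Finite.of_surjective (fun x : (O ⟶ O) × (O ⟶ O) => (ζ x.1 + p ≫ x.2 ≫ ι : F ⟶ F)) ?_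
  intro (m : F ⟶ F)
  have hm : (m - ζ (h.chi m)) ≫ p = 0 := by
    rw [Preadditive.sub_comp, hζ2, h.chi_spec, sub_self]
  obtain ⟨c, hc⟩ := h.exists_of_comp_p_eq_zero _ hm
  refine ⟨(h.chi m, c), ?_⟩
  show ζ (h.chi m) + p ≫ c ≫ ι = m
  rw [← hc]
  abel

end lift

theorem card_ker [Finite (O ⟶ O)] : Nat.card (RingHom.ker h.chiHom) = Nat.card (O ⟶ O) := by
  haveI := h.epi_p
  haveI := h.mono_ι
  have hmem : ∀ c : O ⟶ O, End.of (p ≫ c ≫ ι) ∈ RingHom.ker h.chiHom := by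
    intro c
    rw [RingHom.mem_ker, chiHom_eq_zero_iff]
    show (p ≫ c ≫ ι) ≫ p = 0
    simp only [Category.assoc, h.w, comp_zero]
  obtain ⟨f, hf⟩ : ∃ f : (O ⟶ O) → RingHom.ker h.chiHom, ∀ c, End.asHom (f c : End F) =
      p ≫ c ≫ ι := ⟨fun c => ⟨End.of (p ≫ c ≫ ι), hmem c⟩, fun c => rfl⟩
  have hinj : Function.Injective f := by
    intro c c' hcc
    have h2 : p ≫ c ≫ ι = p ≫ c' ≫ ι := by rw [← hf, ← hf, hcc]
    rw [cancel_epi, cancel_mono] at h2
    exact h2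
  have hsur : Function.Surjective f := by
    intro m
    obtain ⟨c, hc⟩ := h.exists_of_comp_p_eq_zero (m : End F)
      ((h.chiHom_eq_zero_iff _).mp m.2)
    exact ⟨c, Subtype.ext ((hf c).trans hc.symm)⟩
  exact (Nat.card_congr (Equiv.ofBijective f ⟨hinj, hsur⟩)).symm

theorem card_units [Finite (O ⟶ O)] : Nat.card (End O)ˣ = Nat.card (O ⟶ O) - 1 := by
  have hne : ∀ u : (End O)ˣ, ((u : End O) : O ⟶ O) ≠ 0 := by
    intro u h0
    apply h.id_ne_zero
    have h1 : (u : End O) * ((u⁻¹ : (End O)ˣ) : End O) = 1 := Units.mul_inv u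
    have h2 : (((u⁻¹ : (End O)ˣ) : End O) : O ⟶ O) ≫ ((u : End O) : O ⟶ O) = 𝟙 O := h1
    rw [← h2, h0, comp_zero]
  obtain ⟨f, hf⟩ : ∃ f : (End O)ˣ → {c : O ⟶ O // c ≠ 0}, ∀ u, ((f u : {c : O ⟶ O // c ≠ 0}) :
      O ⟶ O) = ((u : End O) : O ⟶ O) := ⟨fun u => ⟨(u : End O), hne u⟩, fun u => rfl⟩
  have hinj : Function.Injective f := by
    intro u u' huu
    apply Units.ext
    show ((u : End O) : O ⟶ O) = ((u' : End O) : O ⟶ O)
    rw [← hf, ← hf, huu]
  have hsur : Function.Surjective f := by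
    intro c
    haveI := h.hdiv c.1 c.2
    obtain ⟨u, hu⟩ := (isUnit_iff_isIso (c.1 : End O)).mpr inferInstance
    exact ⟨u, Subtype.ext ((hf u).trans hu)⟩
  rw [Nat.card_congr (Equiv.ofBijective f ⟨hinj, hsur⟩)]
  exact card_ne_zero_subtype (O ⟶ O)

end Hyp

/-- (AT1a) -/
theorem card_aut_nonsplit_mid {O F : C} (ι : O ⟶ F) (p : F ⟶ O) (w : ι ≫ p = 0)
    (hS : (ShortComplex.mk ι p w).ShortExact) (hns : ¬ IsSplitEpi p)
    (hdiv : ∀ c : O ⟶ O, c ≠ 0 → IsIso c)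
    (hlift : ∀ c : O ⟶ O, ∃ z : F ⟶ F, ι ≫ z = c ≫ ι ∧ z ≫ p = p ≫ c) [Finite (O ⟶ O)] :
    Nat.card (Aut F) = (Nat.card (O ⟶ O) - 1) * Nat.card (O ⟶ O) := by
  have h : Hyp ι p := ⟨w, hS, hns, hdiv⟩
  haveI : Finite (End F) := h.finite_end hlift
  rw [← Nat.card_congr (Aut.unitsEndEquivAut F).toEquiv,
    card_units_of_nilpotent_ker h.chiHom (h.chiHom_surjective hlift) h.nilpotent_of_ker,
    h.card_ker, h.card_units, mul_comm]

end Ext

end Groth.Agent.Lib.Helper29.AutExtA
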