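import Mathlib
import Groth.Agent.Lib.Helper29.AutExtA

/-!
# Automorphisms of `O ⊞ F` for a non-split self-extension `F` of `O` (helper29, AT1b)
-/

set_option autoImplicit false
set_option maxHeartbeats 1600000
universe v u

open CategoryTheory CategoryTheory.Limits

namespace Groth.Agent.Lib.Helper29.AutExtB

open Groth.Agent.Lib.Helper29.AutExtA

variable {C : Type u} [Category.{v} C] [Abelian C] {O F : C}

/-- matrix entries of an endomorphism of `O ⊞ F`. -/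
noncomputable def e11 (u : O ⊞ F ⟶ O ⊞ F) : O ⟶ O := biprod.inl ≫ u ≫ biprod.fst
noncomputable def e12 (u : O ⊞ F ⟶ O ⊞ F) : O ⟶ F := biprod.inl ≫ u ≫ biprod.snd
noncomputable def e21 (u : O ⊞ F ⟶ O ⊞ F) : F ⟶ O := biprod.inr ≫ u ≫ biprod.fst
noncomputable def e22 (u : O ⊞ F ⟶ O ⊞ F) : F ⟶ F := biprod.inr ≫ u ≫ biprod.snd

theorem comp_entry {A B : C} (a : A ⟶ O ⊞ F) (b : O ⊞ F ⟶ B) (u u' : O ⊞ F ⟶ O ⊞ F) :
    a ≫ (u ≫ u') ≫ b = (a ≫ u ≫ biprod.fst) ≫ (biprod.inl ≫ u' ≫ b) +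
      (a ≫ u ≫ biprod.snd) ≫ (biprod.inr ≫ u' ≫ b) := by
  have h : u ≫ u' = u ≫ (biprod.fst ≫ biprod.inl + biprod.snd ≫ biprod.inr) ≫ u' := by
    rw [biprod.total, Category.id_comp]
  rw [h]
  simp only [Preadditive.comp_add, Preadditive.add_comp, Category.assoc]

theorem e11_comp (u u' : O ⊞ F ⟶ O ⊞ F) : e11 (u ≫ u') = e11 u ≫ e11 u' + e12 u ≫ e21 u' :=
  comp_entry _ _ u u'
theorem e12_comp (u u' : O ⊞ F ⟶ O ⊞ F) : e12 (u ≫ u') = e11 u ≫ e12 u' + e12 u ≫ e22 u' :=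
  comp_entry _ _ u u'
theorem e21_comp (u u' : O ⊞ F ⟶ O ⊞ F) : e21 (u ≫ u') = e21 u ≫ e11 u' + e22 u ≫ e21 u' :=
  comp_entry _ _ u u'
theorem e22_comp (u u' : O ⊞ F ⟶ O ⊞ F) : e22 (u ≫ u') = e21 u ≫ e12 u' + e22 u ≫ e22 u' :=
  comp_entry _ _ u u'

theorem ext_entries {u u' : O ⊞ F ⟶ O ⊞ F} (h11 : e11 u = e11 u') (h12 : e12 u = e12 u')
    (h21 : e21 u = e21 u') (h22 : e22 u = e22 u') : u = u' := by
  apply biprod.hom_ext'
  · apply biprod.hom_ext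
    · rw [Category.assoc, Category.assoc]; exact h11
    · rw [Category.assoc, Category.assoc]; exact h12
  · apply biprod.hom_ext
    · rw [Category.assoc, Category.assoc]; exact h21
    · rw [Category.assoc, Category.assoc]; exact h22

@[simp] theorem e11_zero : e11 (0 : O ⊞ F ⟶ O ⊞ F) = 0 := by simp [e11]
@[simp] theorem e12_zero : e12 (0 : O ⊞ F ⟶ O ⊞ F) = 0 := by simp [e12]
@[simp] theorem e21_zero : e21 (0 : O ⊞ F ⟶ O ⊞ F) = 0 := by simp [e21]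
@[simp] theorem e22_zero : e22 (0 : O ⊞ F ⟶ O ⊞ F) = 0 := by simp [e22]

theorem e11_add (u u' : O ⊞ F ⟶ O ⊞ F) : e11 (u + u') = e11 u + e11 u' := by simp [e11]
theorem e22_add (u u' : O ⊞ F ⟶ O ⊞ F) : e22 (u + u') = e22 u + e22 u' := by simp [e22]

theorem e11_id : e11 (𝟙 (O ⊞ F)) = 𝟙 O := by simp [e11]
theorem e22_id : e22 (𝟙 (O ⊞ F)) = 𝟙 F := by simp [e22]

section

variable {ι : O ⟶ F} {p : F ⟶ O} (h : Hyp ι p)
include h

theorem Z2 (s : O ⟶ F) (n : F ⟶ F) (hn : n ≫ p = 0) : s ≫ n = 0 := by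
  obtain ⟨c, rfl⟩ := h.exists_of_comp_p_eq_zero n hn
  rw [← Category.assoc, h.comp_p, zero_comp]

theorem Z3 (n : F ⟶ F) (hn : n ≫ p = 0) (φ : F ⟶ O) : n ≫ φ = 0 := by
  obtain ⟨c, rfl⟩ := h.exists_of_comp_p_eq_zero n hn
  simp only [Category.assoc, h.ι_comp, comp_zero]

theorem Z4 (n n' : F ⟶ F) (hn : n ≫ p = 0) (hn' : n' ≫ p = 0) : n ≫ n' = 0 := by
  obtain ⟨c, rfl⟩ := h.exists_of_comp_p_eq_zero n' hn'
  rw [← Category.assoc, hn, zero_comp]

noncomputable def pi1 : End (O ⊞ F) →+* End O where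
  toFun u := e11 u
  map_one' := e11_id
  map_mul' u u' := by
    show e11 (u' ≫ u) = e11 u' ≫ e11 u
    rw [e11_comp, h.comp_eq_zero, add_zero]
  map_zero' := e11_zero
  map_add' u u' := e11_add u u'

noncomputable def pi2 : End (O ⊞ F) →+* End O where
  toFun u := h.chi (e22 u)
  map_one' := by
    show h.chi (e22 (𝟙 (O ⊞ F))) = 𝟙 O
    rw [e22_id]
    exact h.chi_unique _ _ (by rw [Category.id_comp, Category.comp_id])
  map_mul' u u' := by
    show h.chi (e22 (u' ≫ u)) = h.chi (e22 u') ≫ h.chi (e22 u)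
    apply h.chi_unique
    rw [e22_comp, Preadditive.add_comp, Category.assoc, h.comp_p, comp_zero, zero_add,
      Category.assoc, h.chi_spec (e22 u), ← Category.assoc, h.chi_spec (e22 u'), Category.assoc]
  map_zero' := by
    show h.chi (e22 (0 : O ⊞ F ⟶ O ⊞ F)) = 0
    rw [e22_zero]
    exact h.chi_unique _ _ (by rw [zero_comp, comp_zero])
  map_add' u u' := by
    show h.chi (e22 (u + u')) = h.chi (e22 u) + h.chi (e22 u')
    apply h.chi_unique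
    rw [e22_add, Preadditive.add_comp, Preadditive.comp_add, h.chi_spec, h.chi_spec]

theorem pi1_apply (u : End (O ⊞ F)) : pi1 h u = e11 u := rfl
theorem pi2_apply (u : End (O ⊞ F)) : pi2 h u = h.chi (e22 u) := rfl

noncomputable def piHom : End (O ⊞ F) →+* End O × End O := (pi1 h).prod (pi2 h)

theorem piHom_eq_zero_iff (u : End (O ⊞ F)) :
    piHom h u = 0 ↔ e11 u = 0 ∧ e22 u ≫ p = 0 := by
  unfold piHom
  rw [RingHom.prod_apply, Prod.mk_eq_zero, pi1_apply, pi2_apply]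
  constructor
  · rintro ⟨h1, h2⟩
    refine ⟨h1, ?_⟩
    rw [h.chi_spec, h2]
    exact comp_zero
  · rintro ⟨h1, h2⟩
    exact ⟨h1, h.chi_unique _ 0 (by rw [h2, comp_zero])⟩

theorem nilpotent_of_ker (u : End (O ⊞ F)) (hu : piHom h u = 0) : IsNilpotent u := by
  obtain ⟨h1, h2⟩ := (piHom_eq_zero_iff h u).mp hu
  refine ⟨3, ?_⟩
  rw [pow_succ, pow_two]
  show (u ≫ u ≫ u : O ⊞ F ⟶ O ⊞ F) = 0
  rw [← Category.assoc]
  have a11 : e11 (u ≫ u) = 0 := by rw [e11_comp, h1, zero_comp, h.comp_eq_zero, add_zero]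
  have a12 : e12 (u ≫ u) = 0 := by rw [e12_comp, h1, zero_comp, Z2 h _ _ h2, add_zero]
  have a21 : e21 (u ≫ u) = 0 := by rw [e21_comp, h1, comp_zero, Z3 h _ h2, add_zero]
  have a22 : e22 (u ≫ u) = e21 u ≫ e12 u := by rw [e22_comp, Z4 h _ _ h2 h2, add_zero]
  apply ext_entries
  · rw [e11_comp, a11, a12, zero_comp, zero_comp, add_zero, e11_zero]
  · rw [e12_comp, a11, a12, zero_comp, zero_comp, add_zero, e12_zero]
  · rw [e21_comp, a21, a22, zero_comp, Category.assoc, h.comp_eq_zero, comp_zero, add_zero,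
      e21_zero]
  · rw [e22_comp, a21, a22, zero_comp, Category.assoc, Z2 h _ _ h2, comp_zero, add_zero,
      e22_zero]

/-- the kernel element with entries `(0, a ≫ ι, p ≫ b, p ≫ c ≫ ι)`. -/
noncomputable def N (ι : O ⟶ F) (p : F ⟶ O) (x : (O ⟶ O) × (O ⟶ O) × (O ⟶ O)) : O ⊞ F ⟶ O ⊞ F :=
  biprod.fst ≫ x.1 ≫ ι ≫ biprod.inr + biprod.snd ≫ p ≫ x.2.1 ≫ biprod.inl +
    biprod.snd ≫ p ≫ x.2.2 ≫ ι ≫ biprod.inr

omit h in
theorem e11_N (x : (O ⟶ O) × (O ⟶ O) × (O ⟶ O)) : e11 (N ι p x) = 0 := by simp [e11, N]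
omit h in
theorem e12_N (x : (O ⟶ O) × (O ⟶ O) × (O ⟶ O)) : e12 (N ι p x) = x.1 ≫ ι := by simp [e12, N]
omit h in
theorem e21_N (x : (O ⟶ O) × (O ⟶ O) × (O ⟶ O)) : e21 (N ι p x) = p ≫ x.2.1 := by simp [e21, N]
omit h in
theorem e22_N (x : (O ⟶ O) × (O ⟶ O) × (O ⟶ O)) : e22 (N ι p x) = p ≫ x.2.2 ≫ ι := by
  simp [e22, N]

theorem card_ker [Finite (O ⟶ O)] :
    Nat.card (RingHom.ker (piHom h)) = Nat.card (O ⟶ O) ^ 3 := by
  haveI := h.epi_p
  haveI := h.mono_ι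
  have hmem : ∀ x : (O ⟶ O) × (O ⟶ O) × (O ⟶ O), End.of (N ι p x) ∈ RingHom.ker (piHom h) := by
    intro x
    rw [RingHom.mem_ker, piHom_eq_zero_iff]
    refine ⟨e11_N x, ?_⟩
    show e22 (N ι p x) ≫ p = 0
    rw [e22_N]
    simp only [Category.assoc, h.w, comp_zero]
  obtain ⟨f, hf⟩ : ∃ f : (O ⟶ O) × (O ⟶ O) × (O ⟶ O) → RingHom.ker (piHom h),
      ∀ x, End.asHom (f x : End (O ⊞ F)) = N ι p x :=
    ⟨fun x => ⟨End.of (N ι p x), hmem x⟩, fun x => rfl⟩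
  have hinj : Function.Injective f := by
    intro x y hxy
    have h0 : N ι p x = N ι p y := by rw [← hf, ← hf, hxy]
    have h1 := congrArg e12 h0
    have h2 := congrArg e21 h0
    have h3 := congrArg e22 h0
    rw [e12_N, e12_N, cancel_mono] at h1
    rw [e21_N, e21_N, cancel_epi] at h2
    rw [e22_N, e22_N, cancel_epi, cancel_mono] at h3
    exact Prod.ext h1 (Prod.ext h2 h3)
  have hsur : Function.Surjective f := by
    intro u
    obtain ⟨h1, h2⟩ := (piHom_eq_zero_iff h (u : End (O ⊞ F))).mp u.2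
    obtain ⟨a, ha⟩ := h.exists_eq_comp_ι (e12 (u : End (O ⊞ F)))
    obtain ⟨b, hb⟩ := h.exists_eq_p_comp (e21 (u : End (O ⊞ F)))
    obtain ⟨c, hc⟩ := h.exists_of_comp_p_eq_zero (e22 (u : End (O ⊞ F))) h2
    refine ⟨(a, b, c), Subtype.ext ?_⟩
    show End.asHom (f (a, b, c) : End (O ⊞ F)) = End.asHom (u : End (O ⊞ F))
    rw [hf]
    apply ext_entries
    · rw [e11_N]; exact h1.symm
    · rw [e12_N]; exact ha.symm
    · rw [e21_N]; exact hb.symm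
    · rw [e22_N]; exact hc.symm
  rw [← Nat.card_congr (Equiv.ofBijective f ⟨hinj, hsur⟩), Nat.card_prod, Nat.card_prod]
  ring

section lift

variable (hlift : ∀ c : O ⟶ O, ∃ z : F ⟶ F, ι ≫ z = c ≫ ι ∧ z ≫ p = p ≫ c)
include hlift

theorem piHom_surjective : Function.Surjective (piHom h) := by
  rintro ⟨c, c'⟩
  obtain ⟨z, -, hz⟩ := hlift c'
  refine ⟨End.of (biprod.map c z), ?_⟩
  unfold piHom
  rw [RingHom.prod_apply, pi1_apply, pi2_apply]
  have h1 : e11 (biprod.map c z) = c := by simp [e11]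
  have h2 : e22 (biprod.map c z) = z := by simp [e22]
  refine Prod.ext ?_ ?_
  · exact h1
  · show h.chi (e22 (biprod.map c z)) = c'
    rw [h2]
    exact h.chi_unique z c' hz

theorem finite_end [Finite (O ⟶ O)] : Finite (End (O ⊞ F)) := by
  haveI : Finite (F ⟶ F) := h.finite_end hlift
  haveI : Finite (O ⟶ F) := Finite.of_surjective (fun c : O ⟶ O => c ≫ ι) (fun s => by
    obtain ⟨c, hc⟩ := h.exists_eq_comp_ι s
    exact ⟨c, hc.symm⟩)
  haveI : Finite (F ⟶ O) := Finite.of_surjective (fun c : O ⟶ O => p ≫ c) (fun s => by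
    obtain ⟨c, hc⟩ := h.exists_eq_p_comp s
    exact ⟨c, hc.symm⟩)
  refine Finite.of_injective
    (fun u : O ⊞ F ⟶ O ⊞ F => (e11 u, e12 u, e21 u, e22 u)) ?_
  intro u u' huu
  simp only [Prod.mk.injEq] at huu
  exact ext_entries huu.1 huu.2.1 huu.2.2.1 huu.2.2.2

end lift

end

/-- (AT1b) -/
theorem card_aut_biprod_nonsplit {O F : C} (ι : O ⟶ F) (p : F ⟶ O) (w : ι ≫ p = 0)
    (hS : (ShortComplex.mk ι p w).ShortExact) (hns : ¬ IsSplitEpi p)
    (hdiv : ∀ c : O ⟶ O, c ≠ 0 → IsIso c)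
    (hlift : ∀ c : O ⟶ O, ∃ z : F ⟶ F, ι ≫ z = c ≫ ι ∧ z ≫ p = p ≫ c) [Finite (O ⟶ O)] :
    Nat.card (Aut (O ⊞ F)) = (Nat.card (O ⟶ O) - 1) ^ 2 * Nat.card (O ⟶ O) ^ 3 := by
  have h : Hyp ι p := ⟨w, hS, hns, hdiv⟩
  haveI : Finite (End (O ⊞ F)) := finite_end h hlift
  rw [← Nat.card_congr (Aut.unitsEndEquivAut (O ⊞ F)).toEquiv,
    card_units_of_nilpotent_ker (piHom h) (piHom_surjective h hlift) (nilpotent_of_ker h),
    card_ker h, Nat.card_congr (MulEquiv.prodUnits (M := End O) (N := End O)).toEquiv,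
    Nat.card_prod, h.card_units]
  ring

end Groth.Agent.Lib.Helper29.AutExtB
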