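import Mathlib
import Groth.Prelude.Def_AlgGrp

/-!
# A point avoiding two translates of a proper closed subset (S10959)
-/
set_option autoImplicit false
set_option maxHeartbeats 1600000
set_option linter.style.haveILetI false
universe u
open CategoryTheory CategoryTheory.Limits MonoidalCategory CartesianMonoidalCategory MonObj GrpObj
  AlgebraicGeometry

noncomputable section

namespace Groth.Agent.Lib.Helper29.AvoidTransl

theorem comp_left_apply {S : Scheme.{u}} {A B C : Over S} (f : A ⟶ B) (g : B ⟶ C) (p : ↥A.left) :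
    g.left (f.left p) = (f ≫ g).left p := by
  rw [Over.comp_left, Scheme.Hom.comp_apply]

theorem id_left_apply {S : Scheme.{u}} {A : Over S} (p : ↥A.left) : (𝟙 A : A ⟶ A).left p = p := by
  first | rfl | simp

theorem main10959
    (K : Type u) [Field K] [IsAlgClosed K] (A : Over (Spec (CommRingCat.of K)))
    [GrpObj A] [IsProper A.hom] [Smooth A.hom] [IrreducibleSpace A.left]
    (Z : Set A.left) (hZ : IsClosed Z) (hZne : Z ≠ Set.univ)
    (z : 𝟙_ (Over (Spec (CommRingCat.of K))) ⟶ A) :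
    ∃ x : 𝟙_ (Over (Spec (CommRingCat.of K))) ⟶ A,
      Disjoint (Set.range z.left.base)
        ((𝟙 A * (toUnit A ≫ x)).left.base '' Z ∪ (𝟙 A * (toUnit A ≫ x)⁻¹).left.base '' Z) := by
  obtain ⟨tz, htz⟩ : ∃ tz : A ⟶ A, tz = toUnit A ≫ z := ⟨_, rfl⟩
  obtain ⟨L₁, hL₁⟩ : ∃ L₁ : A ⟶ A, L₁ = tz * (𝟙 A)⁻¹ := ⟨_, rfl⟩
  obtain ⟨M₁, hM₁⟩ : ∃ M₁ : A ⟶ A, M₁ = (𝟙 A)⁻¹ * tz := ⟨_, rfl⟩
  obtain ⟨L₂, hL₂⟩ : ∃ L₂ : A ⟶ A, L₂ = tz * 𝟙 A := ⟨_, rfl⟩
  obtain ⟨M₂, hM₂⟩ : ∃ M₂ : A ⟶ A, M₂ = tz⁻¹ * 𝟙 A := ⟨_, rfl⟩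
  have hcomp_tz : ∀ f : A ⟶ A, f ≫ tz = tz := by
    intro f
    rw [htz, ← Category.assoc, toUnit_unique (f ≫ toUnit A) (toUnit A)]
  have h1 : M₁ ≫ L₁ = 𝟙 A := by
    rw [hL₁, MonObj.comp_mul, GrpObj.comp_inv, Category.comp_id, hcomp_tz, hM₁]
    group
  have h2 : M₂ ≫ L₂ = 𝟙 A := by
    rw [hL₂, MonObj.comp_mul, Category.comp_id, hcomp_tz, hM₂]
    group
  obtain ⟨u, hu⟩ : ∃ u : A.left, u ∉ Z := by
    by_contra h
    push_neg at h
    exact hZne (Set.eq_univ_of_forall h)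
  have hW₁ne : (L₁.left ⁻¹' Zᶜ).Nonempty := by
    refine ⟨M₁.left u, ?_⟩
    show L₁.left (M₁.left u) ∈ Zᶜ
    rw [comp_left_apply, h1, id_left_apply]
    exact hu
  have hW₂ne : (L₂.left ⁻¹' Zᶜ).Nonempty := by
    refine ⟨M₂.left u, ?_⟩
    show L₂.left (M₂.left u) ∈ Zᶜ
    rw [comp_left_apply, h2, id_left_apply]
    exact hu
  haveI : JacobsonSpace ↥A.left := LocallyOfFiniteType.jacobsonSpace (Y := Spec _) A.hom
  have hopen : IsOpen (Zᶜ) := hZ.isOpen_compl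
  have hW₁o : IsOpen (L₁.left ⁻¹' Zᶜ) := hopen.preimage L₁.left.continuous
  have hW₂o : IsOpen (L₂.left ⁻¹' Zᶜ) := hopen.preimage L₂.left.continuous
  have hne := nonempty_preirreducible_inter hW₁o hW₂o hW₁ne hW₂ne
  obtain ⟨a, ⟨ha1, ha2⟩, hac⟩ :=
    nonempty_inter_closedPoints hne (hW₁o.inter hW₂o).isLocallyClosed
  have hac' : IsClosed ({a} : Set A.left) := hac
  obtain ⟨x, hx⟩ : ∃ x : 𝟙_ (Over (Spec (CommRingCat.of K))) ⟶ A, ∀ s, x.left s = a :=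
    ⟨Over.homMk (pointOfClosedPoint A.hom a hac') (by simp),
      fun s => pointOfClosedPoint_apply A.hom a hac' s⟩
  refine ⟨x, ?_⟩
  obtain ⟨t₁, ht₁⟩ : ∃ t₁ : A ⟶ A, t₁ = 𝟙 A * (toUnit A ≫ x) := ⟨_, rfl⟩
  obtain ⟨t₂, ht₂⟩ : ∃ t₂ : A ⟶ A, t₂ = 𝟙 A * (toUnit A ≫ x)⁻¹ := ⟨_, rfl⟩
  rw [← ht₁, ← ht₂]
  have hcomp_tx : ∀ f : A ⟶ A, f ≫ toUnit A ≫ x = toUnit A ≫ x := by
    intro f
    rw [← Category.assoc, toUnit_unique (f ≫ toUnit A) (toUnit A)]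
  have h12 : t₁ ≫ t₂ = 𝟙 A := by
    rw [ht₂, MonObj.comp_mul, GrpObj.comp_inv, Category.comp_id, hcomp_tx, ht₁]
    group
  have h21 : t₂ ≫ t₁ = 𝟙 A := by
    rw [ht₁, MonObj.comp_mul, Category.comp_id, hcomp_tx, ht₂]
    group
  have hzu : z ≫ toUnit A = 𝟙 _ := toUnit_unique _ _
  have hxu : x ≫ toUnit A = 𝟙 _ := toUnit_unique _ _
  have e1 : z ≫ toUnit A ≫ x = x := by rw [← Category.assoc, hzu, Category.id_comp]
  have e2 : x ≫ toUnit A ≫ z = z := by rw [← Category.assoc, hxu, Category.id_comp]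
  have hz2 : z ≫ t₂ = x ≫ L₁ := by
    rw [ht₂, hL₁, htz, MonObj.comp_mul, GrpObj.comp_inv, Category.comp_id, e1, MonObj.comp_mul,
      GrpObj.comp_inv, Category.comp_id, e2]
  have hz1 : z ≫ t₁ = x ≫ L₂ := by
    rw [ht₁, hL₂, htz, MonObj.comp_mul, Category.comp_id, e1, MonObj.comp_mul, Category.comp_id, e2]
  rw [Set.disjoint_left]
  rintro _ ⟨s, rfl⟩ hmem
  have hxs : x.left s = a := hx s
  rcases hmem with ⟨w, hwZ, hw⟩ | ⟨w, hwZ, hw⟩
  · have hw' : t₁.left w = z.left s := hw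
    have h3 : t₂.left (t₁.left w) = w := by
      rw [comp_left_apply, h12, id_left_apply]
    have h4 : t₂.left (z.left s) = L₁.left a := by
      rw [comp_left_apply, hz2, ← comp_left_apply, hxs]
    rw [hw', h4] at h3
    exact ha1 (h3 ▸ hwZ)
  · have hw' : t₂.left w = z.left s := hw
    have h3 : t₁.left (t₂.left w) = w := by
      rw [comp_left_apply, h21, id_left_apply]
    have h4 : t₁.left (z.left s) = L₂.left a := by
      rw [comp_left_apply, hz1, ← comp_left_apply, hxs]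
    rw [hw', h4] at h3
    exact ha2 (h3 ▸ hwZ)

end Groth.Agent.Lib.Helper29.AvoidTransl
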