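import Mathlib

/-!
# Helper lemmas on finitely generated projective faithful modules (helper29)

* `Helper29.Azumaya.exists_contractLeft_eq_one`: the trace ideal of a f.g. projective faithful
  module is everything.
* `Helper29.Azumaya.smul_eq_zero_of_tensor`: if `r` kills `P ⊗ N` (P f.g. projective faithful)
  then `r` kills `N`.
* `Helper29.Azumaya.faithfulSMul_tensorProduct`, `faithfulSMul_baseChange`.
-/

set_option autoImplicit false

namespace Helper29.Azumaya

open TensorProduct

universe u v w

variable (R : Type u) [CommRing R] (P : Type v) [AddCommGroup P] [Module R P]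

/-- The trace ideal of a finitely generated projective faithful module is the unit ideal. -/
theorem exists_contractLeft_eq_one [Module.Finite R P] [Module.Projective R P]
    [FaithfulSMul R P] : ∃ t : Module.Dual R P ⊗[R] P, contractLeft R P t = 1 := by
  classical
  obtain ⟨n, f, g, -, -, hfg⟩ := Module.Finite.exists_comp_eq_id_of_projective R P
  let T : Ideal R := LinearMap.range (contractLeft R P)
  have hle : (⊤ : Submodule R P) ≤ T • ⊤ := by
    intro y _
    have h1 := LinearMap.pi_apply_eq_sum_univ f (g y)
    have h2 : f (g y) = y := LinearMap.congr_fun hfg y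
    rw [h2] at h1
    rw [h1]
    refine Submodule.sum_mem _ fun i _ => ?_
    refine Submodule.smul_mem_smul ?_ Submodule.mem_top
    exact ⟨((LinearMap.proj i) ∘ₗ g : P →ₗ[R] R) ⊗ₜ[R] y, by simp [contractLeft_apply]⟩
  obtain ⟨r, hr1, hr0⟩ := Submodule.exists_sub_one_mem_and_smul_eq_zero_of_fg_of_le_smul T
    (⊤ : Submodule R P) Module.Finite.fg_top hle
  have hr : r = 0 := by
    apply eq_of_smul_eq_smul (α := P)
    intro p
    rw [hr0 p Submodule.mem_top, zero_smul]
  rw [hr, zero_sub] at hr1
  have h1 : (1 : R) ∈ T := by
    have := T.neg_mem hr1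
    simpa using this
  exact h1

variable {R P}

/-- If `r` kills `P ⊗ N`, with `P` f.g. projective and faithful, then `r` kills `N`. -/
theorem smul_eq_zero_of_tensor [Module.Finite R P] [Module.Projective R P] [FaithfulSMul R P]
    {N : Type w} [AddCommGroup N] [Module R N] (r : R)
    (h : ∀ x : P ⊗[R] N, r • x = 0) (n : N) : r • n = 0 := by
  obtain ⟨t, ht⟩ := exists_contractLeft_eq_one R P
  have key : ∀ t : Module.Dual R P ⊗[R] P, r • (contractLeft R P t • n) = 0 := by
    intro t
    induction t using TensorProduct.induction_on with
    | zero => simp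
    | tmul φ p =>
      have h1 := h (p ⊗ₜ[R] n)
      have h2 := congrArg (fun x => TensorProduct.lid R N (LinearMap.rTensor N φ x)) h1
      simp only [map_smul, LinearMap.rTensor_tmul, TensorProduct.lid_tmul, map_zero] at h2
      rw [contractLeft_apply]
      exact h2
    | add x y hx hy => rw [map_add, add_smul, smul_add, hx, hy, add_zero]
  have := key t
  rwa [ht, one_smul] at this

/-- The tensor product of a f.g. projective faithful module with a faithful module is faithful. -/
theorem faithfulSMul_tensorProduct [Module.Finite R P] [Module.Projective R P] [FaithfulSMul R P]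
    {N : Type w} [AddCommGroup N] [Module R N] [FaithfulSMul R N] :
    FaithfulSMul R (P ⊗[R] N) := by
  refine ⟨fun {r1 r2} h => ?_⟩
  apply eq_of_smul_eq_smul (α := N)
  intro n
  have h0 : ∀ x : P ⊗[R] N, (r1 - r2) • x = 0 := fun x => by rw [sub_smul, h x, sub_self]
  have := smul_eq_zero_of_tensor (r1 - r2) h0 n
  rwa [sub_smul, sub_eq_zero] at this

/-- The base change of a f.g. projective faithful module is faithful. -/
theorem faithfulSMul_baseChange [Module.Finite R P] [Module.Projective R P] [FaithfulSMul R P]
    (S : Type w) [CommRing S] [Algebra R S] : FaithfulSMul S (S ⊗[R] P) := by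
  obtain ⟨t, ht⟩ := exists_contractLeft_eq_one R P
  have key : ∀ (s : S), (∀ x : S ⊗[R] P, s • x = 0) →
      ∀ t : Module.Dual R P ⊗[R] P, s * algebraMap R S (contractLeft R P t) = 0 := by
    intro s hs t
    induction t using TensorProduct.induction_on with
    | zero => simp
    | tmul φ p =>
      have h1 := hs ((1 : S) ⊗ₜ[R] p)
      have h2 := congrArg (fun x => TensorProduct.AlgebraTensorModule.rid R S S
        (LinearMap.baseChange S φ x)) h1
      simp only [map_smul, LinearMap.baseChange_tmul, TensorProduct.AlgebraTensorModule.rid_tmul,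
        map_zero, smul_eq_mul] at h2
      rw [contractLeft_apply, Algebra.algebraMap_eq_smul_one]
      exact h2
    | add x y hx hy => rw [map_add, map_add, mul_add, hx, hy, add_zero]
  refine ⟨fun {s1 s2} h => ?_⟩
  have h0 : ∀ x : S ⊗[R] P, (s1 - s2) • x = 0 := fun x => by
    have e := sub_smul s1 s2 x
    rw [e, h x, sub_self]
  have := key (s1 - s2) h0 t
  rw [ht, map_one, mul_one] at this
  exact sub_eq_zero.mp this

end Helper29.Azumaya
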