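import Mathlib
import Groth.Prelude.Def_Exal2

/-!
# Baer difference of two extensions (helper29)

Generalised from the proof of S11292: for `k → Λ → R`, two `k`-extensions `Y`, `Y'` of `R` by `L`
and covers of them by `k`-extensions of `Λ` that are equivalent, the Baer difference is a
`Λ`-extension of `R` by `L`; if it is trivial then `Y` and `Y'` are equivalent.
-/

set_option autoImplicit false
universe u

namespace Helper29.Baer

section general

variable {A : Type u} {B L : Type u} [CommRing A] [CommRing B] [Algebra A B] [AddCommGroup L]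
  [Module B L] (X : Exal.Ext A B L)

theorem proj_incl (z : L) : X.proj (X.incl z) = 0 :=
  (X.isExtension.exact _).mpr ⟨z, rfl⟩

theorem incl_mul_incl (z z' : L) : X.incl z * X.incl z' = 0 := by
  rw [X.isExtension.mul_incl, proj_incl, zero_smul, map_zero]

theorem exists_incl (e : X.E) (h : X.proj e = 0) : ∃ z, X.incl z = e :=
  (X.isExtension.exact e).mp h

/-- a homomorphism of extensions is an equivalence -/
theorem equiv_of_hom (P P' : Exal.Ext A B L) (g : P.E →ₐ[A] P'.E)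
    (h1 : ∀ x, P'.proj (g x) = P.proj x) (h2 : ∀ z, g (P.incl z) = P'.incl z) :
    Nonempty (P.Equiv P') := by
  have hinj : Function.Injective g := by
    rw [injective_iff_map_eq_zero]
    intro x hx
    have h3 : P.proj x = 0 := by rw [← h1, hx, map_zero]
    obtain ⟨z, rfl⟩ := exists_incl P x h3
    rw [h2] at hx
    have h4 : z = 0 := P'.isExtension.incl_injective (by rw [hx, map_zero])
    rw [h4, map_zero]
  have hsurj : Function.Surjective g := by
    intro y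
    obtain ⟨x, hx⟩ := P.isExtension.proj_surjective (P'.proj y)
    obtain ⟨z, hz⟩ := exists_incl P' (y - g x) (by rw [map_sub, h1, hx, sub_self])
    refine ⟨x + P.incl z, ?_⟩
    rw [map_add, h2, hz]
    ring
  exact ⟨{ toAlgEquiv := AlgEquiv.ofBijective g ⟨hinj, hsurj⟩
           proj_apply := h1
           apply_incl := h2 }⟩

end general

section baer

variable {k : Type u} [CommRing k] {Λ : Type u} [CommRing Λ] [Algebra k Λ]
  {R : Type u} [CommRing R] [Algebra Λ R] [Algebra k R] [IsScalarTower k Λ R]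
  {L : Type u} [AddCommGroup L] [Module R L] [Module Λ L] [IsScalarTower Λ R L]

theorem mem_fp (Y : Exal.Ext k R L) (p : Y.E × Λ) :
    p ∈ Y.fiberProd Λ ↔ Y.proj p.1 = algebraMap Λ R p.2 := Iff.rfl

theorem std_hf (Y : Exal.Ext k R L) (p : ↥(Y.fiberProd Λ)) :
    Y.proj (p : Y.E × Λ).1 = algebraMap Λ R (p : Y.E × Λ).2 := p.2

variable (Λ) in
/-- an extension of `Λ` lying over an extension `Y` of `R` (abstracting the inverse image) -/
structure Cover (Y : Exal.Ext k R L) where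
  /-- the extension of `Λ` -/
  P : Exal.Ext k Λ L
  /-- the map to the extension of `R` -/
  f : P.E →ₐ[k] Y.E
  hf : ∀ p, Y.proj (f p) = algebraMap Λ R (P.proj p)
  hfi : ∀ z, f (P.incl z) = Y.incl z

variable (Λ) in
/-- the inverse image as a cover -/
noncomputable def stdCover (Y : Exal.Ext k R L) : Cover Λ Y where
  P := Y.pullback Λ
  f := (AlgHom.fst k Y.E Λ).comp (Y.fiberProd Λ).val
  hf := fun p => std_hf Y p
  hfi := fun _ => rfl

variable (Y Y' : Exal.Ext k R L)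

/-- the fibre product of the two middle rings over `R` -/
noncomputable def W : Subalgebra k (Y.E × Y'.E) :=
  AlgHom.equalizer (Y.proj.comp (AlgHom.fst k Y.E Y'.E)) (Y'.proj.comp (AlgHom.snd k Y.E Y'.E))

theorem mem_W (p : Y.E × Y'.E) : p ∈ W Y Y' ↔ Y.proj p.1 = Y'.proj p.2 := Iff.rfl

/-- the diagonal copy of the kernel -/
noncomputable def Δ : Ideal ↥(W Y Y') where
  carrier := {w | ∃ z, (w : Y.E × Y'.E) = (Y.incl z, Y'.incl z)}
  add_mem' := by
    rintro a b ⟨z, hz⟩ ⟨z', hz'⟩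
    refine ⟨z + z', ?_⟩
    have e1 : ((a + b : ↥(W Y Y')) : Y.E × Y'.E) = (a : Y.E × Y'.E) + (b : Y.E × Y'.E) := rfl
    rw [e1, hz, hz', map_add, map_add, Prod.mk_add_mk]
  zero_mem' := ⟨0, by
    have e1 : ((0 : ↥(W Y Y')) : Y.E × Y'.E) = 0 := rfl
    rw [e1, map_zero, map_zero]; rfl⟩
  smul_mem' := by
    rintro c a ⟨z, hz⟩
    have hc : Y.proj (c : Y.E × Y'.E).1 = Y'.proj (c : Y.E × Y'.E).2 := c.2
    refine ⟨Y.proj (c : Y.E × Y'.E).1 • z, ?_⟩
    have e1 : ((c • a : ↥(W Y Y')) : Y.E × Y'.E) = (c : Y.E × Y'.E) * (a : Y.E × Y'.E) := rfl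
    rw [e1, hz]
    refine Prod.ext ?_ ?_
    · exact Y.isExtension.mul_incl _ _
    · show (c : Y.E × Y'.E).2 * Y'.incl z = Y'.incl (Y.proj (c : Y.E × Y'.E).1 • z)
      rw [hc]; exact Y'.isExtension.mul_incl _ _

theorem mem_Δ (w : ↥(W Y Y')) :
    w ∈ Δ Y Y' ↔ ∃ z, (w : Y.E × Y'.E) = (Y.incl z, Y'.incl z) := Iff.rfl

variable {Y Y'}
variable (C : Cover Λ Y) (C' : Cover Λ Y') (ψ : C.P.Equiv C'.P)

/-- `p ↦ (f p, f' (ψ p))` -/
noncomputable def Phi0 : C.P.E →ₐ[k] ↥(W Y Y') :=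
  AlgHom.codRestrict (AlgHom.prod C.f (C'.f.comp (ψ.toAlgEquiv : C.P.E →ₐ[k] C'.P.E)))
    (W Y Y') (fun p => by
      refine (mem_W Y Y' _).mpr ?_
      show Y.proj (C.f p) = Y'.proj (C'.f (ψ.toAlgEquiv p))
      rw [C.hf, C'.hf, ψ.proj_apply])

theorem Phi0_coe (p : C.P.E) :
    ((Phi0 C C' ψ p : ↥(W Y Y')) : Y.E × Y'.E) = (C.f p, C'.f (ψ.toAlgEquiv p)) := rfl

/-- `Phi0` followed by the quotient map -/
noncomputable def Phi : C.P.E →+* ↥(W Y Y') ⧸ Δ Y Y' :=
  (Ideal.Quotient.mk (Δ Y Y')).comp (Phi0 C C' ψ : C.P.E →+* ↥(W Y Y'))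

theorem Phi_ker : RingHom.ker (C.P.proj : C.P.E →+* Λ) ≤ RingHom.ker (Phi C C' ψ) := by
  intro p hp
  have hp0 : C.P.proj p = 0 := RingHom.mem_ker.mp hp
  obtain ⟨z, rfl⟩ := exists_incl C.P p hp0
  refine RingHom.mem_ker.mpr ?_
  show Ideal.Quotient.mk (Δ Y Y') (Phi0 C C' ψ (C.P.incl z)) = 0
  rw [Ideal.Quotient.eq_zero_iff_mem, mem_Δ]
  refine ⟨z, ?_⟩
  rw [Phi0_coe, ψ.apply_incl, C.hfi, C'.hfi]

/-- the `Λ`-algebra structure map of the Baer difference -/
noncomputable def tau : Λ →+* ↥(W Y Y') ⧸ Δ Y Y' :=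
  RingHom.liftOfSurjective (C.P.proj : C.P.E →+* Λ) C.P.isExtension.proj_surjective
    ⟨Phi C C' ψ, Phi_ker C C' ψ⟩

theorem tau_spec (p : C.P.E) :
    tau C C' ψ (C.P.proj p) = Ideal.Quotient.mk (Δ Y Y') (Phi0 C C' ψ p) :=
  RingHom.liftOfSurjective_comp_apply (C.P.proj : C.P.E →+* Λ) C.P.isExtension.proj_surjective
    ⟨Phi C C' ψ, Phi_ker C C' ψ⟩ p

/-- the middle ring of the Baer difference, with its `Λ`-algebra structure -/
def ZC (C : Cover Λ Y) (C' : Cover Λ Y') (_ψ : C.P.Equiv C'.P) : Type u := ↥(W Y Y') ⧸ Δ Y Y'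

noncomputable instance : CommRing (ZC C C' ψ) :=
  inferInstanceAs (CommRing (↥(W Y Y') ⧸ Δ Y Y'))

noncomputable instance : Algebra Λ (ZC C C' ψ) :=
  (tau C C' ψ : Λ →+* ZC C C' ψ).toAlgebra

/-- the quotient map as a map to `ZC` -/
noncomputable def mkZ : ↥(W Y Y') →+* ZC C C' ψ := Ideal.Quotient.mk (Δ Y Y')

theorem mkZ_surj : Function.Surjective (mkZ C C' ψ) := Ideal.Quotient.mk_surjective

theorem mkZ_eq_zero (w : ↥(W Y Y')) : mkZ C C' ψ w = 0 ↔ w ∈ Δ Y Y' :=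
  Ideal.Quotient.eq_zero_iff_mem

theorem mkZ_eq (w w' : ↥(W Y Y')) : mkZ C C' ψ w = mkZ C C' ψ w' ↔ w - w' ∈ Δ Y Y' :=
  Ideal.Quotient.eq

theorem algebraMap_ZC (l : Λ) : algebraMap Λ (ZC C C' ψ) l = tau C C' ψ l := rfl

/-- the projection of the Baer difference as a ring hom -/
noncomputable def projZr : ZC C C' ψ →+* R :=
  Ideal.Quotient.lift (Δ Y Y')
    (((Y.proj : Y.E →+* R).comp (RingHom.fst Y.E Y'.E)).comp (W Y Y').val.toRingHom)
    (fun w hw => by
      obtain ⟨z, hz⟩ := hw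
      show Y.proj (w : Y.E × Y'.E).1 = 0
      rw [hz]
      exact proj_incl Y z)

theorem projZr_mk (w : ↥(W Y Y')) :
    projZr C C' ψ (mkZ C C' ψ w) = Y.proj (w : Y.E × Y'.E).1 := rfl

/-- the projection of the Baer difference -/
noncomputable def projZ : ZC C C' ψ →ₐ[Λ] R :=
  { projZr C C' ψ with
    commutes' := fun l => by
      obtain ⟨p, rfl⟩ := C.P.isExtension.proj_surjective l
      show projZr C C' ψ (tau C C' ψ (C.P.proj p)) = _
      rw [tau_spec]
      show Y.proj ((Phi0 C C' ψ p : ↥(W Y Y')) : Y.E × Y'.E).1 = _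
      rw [Phi0_coe]
      exact C.hf p }

theorem projZ_mk (w : ↥(W Y Y')) :
    projZ C C' ψ (mkZ C C' ψ w) = Y.proj (w : Y.E × Y'.E).1 := rfl

variable (Y Y') in
/-- the element `(i z, 0)` of the fibre product -/
noncomputable def wincl (z : L) : ↥(W Y Y') :=
  ⟨(Y.incl z, 0), by
    refine (mem_W Y Y' _).mpr ?_
    show Y.proj (Y.incl z) = Y'.proj 0
    rw [map_zero, proj_incl]⟩

/-- the inclusion of the kernel of the Baer difference -/
noncomputable def inclZ : L →+ ZC C C' ψ where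
  toFun z := mkZ C C' ψ (wincl Y Y' z)
  map_zero' := by
    have e1 : wincl Y Y' (0 : L) = 0 := by
      apply Subtype.ext
      show (Y.incl 0, (0 : Y'.E)) = 0
      rw [map_zero]; rfl
    rw [e1, map_zero]
  map_add' z z' := by
    have e1 : wincl Y Y' (z + z') = wincl Y Y' z + wincl Y Y' z' := by
      apply Subtype.ext
      show (Y.incl (z + z'), (0 : Y'.E)) = (Y.incl z, (0 : Y'.E)) + (Y.incl z', (0 : Y'.E))
      rw [map_add, Prod.mk_add_mk, add_zero]
    rw [e1, map_add]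

theorem inclZ_apply (z : L) : inclZ C C' ψ z = mkZ C C' ψ (wincl Y Y' z) := rfl

theorem isExtZ : Exal.IsExtension (projZ C C' ψ) (inclZ C C' ψ) where
  proj_surjective := fun r => by
    obtain ⟨y, hy⟩ := Y.isExtension.proj_surjective r
    obtain ⟨y', hy'⟩ := Y'.isExtension.proj_surjective r
    have hw : Y.proj y = Y'.proj y' := by rw [hy, hy']
    refine ⟨mkZ C C' ψ ⟨(y, y'), hw⟩, ?_⟩
    rw [projZ_mk]; exact hy
  incl_injective := by
    rw [injective_iff_map_eq_zero]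
    intro z hz
    rw [inclZ_apply, mkZ_eq_zero, mem_Δ] at hz
    obtain ⟨w, hw⟩ := hz
    have h1 : Y.incl z = Y.incl w := congrArg Prod.fst hw
    have h2 : (0 : Y'.E) = Y'.incl w := congrArg Prod.snd hw
    have h3 : w = 0 := Y'.isExtension.incl_injective (by rw [← h2, map_zero])
    rw [h3, map_zero] at h1
    exact Y.isExtension.incl_injective (by rw [h1, map_zero])
  exact := fun x => by
    obtain ⟨⟨⟨y, y'⟩, hw⟩, rfl⟩ := mkZ_surj C C' ψ x
    have hw' : Y.proj y = Y'.proj y' := hw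
    rw [projZ_mk]
    constructor
    · intro h0
      have h0' : Y.proj y = 0 := h0
      obtain ⟨z, hz⟩ := exists_incl Y y h0'
      obtain ⟨z', hz'⟩ := exists_incl Y' y' (by rw [← hw', h0'])
      refine ⟨z - z', ?_⟩
      rw [inclZ_apply, mkZ_eq, mem_Δ]
      refine ⟨-z', ?_⟩
      show ((Y.incl (z - z'), (0 : Y'.E)) - (y, y') : Y.E × Y'.E) = _
      rw [← hz, ← hz', Prod.mk_sub_mk, map_sub, map_neg, map_neg]
      refine Prod.ext ?_ ?_
      · show Y.incl z - Y.incl z' - Y.incl z = -Y.incl z'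
        ring
      · show (0 : Y'.E) - Y'.incl z' = -Y'.incl z'
        ring
    · rintro ⟨z, hz⟩
      have h1 := congrArg (projZ C C' ψ) hz
      rw [inclZ_apply, projZ_mk, projZ_mk] at h1
      have h2 : Y.proj (Y.incl z) = Y.proj y := h1
      show Y.proj y = 0
      rw [← h2]
      exact proj_incl Y z
  mul_incl := fun x z => by
    obtain ⟨⟨⟨y, y'⟩, hw⟩, rfl⟩ := mkZ_surj C C' ψ x
    rw [projZ_mk, inclZ_apply, inclZ_apply, ← map_mul]
    congr 1
    apply Subtype.ext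
    show ((y, y') : Y.E × Y'.E) * (Y.incl z, (0 : Y'.E)) = (Y.incl (Y.proj y • z), (0 : Y'.E))
    rw [Prod.mk_mul_mk, mul_zero, Y.isExtension.mul_incl]

/-- the Baer difference as a `Λ`-extension -/
noncomputable def Zext : Exal.Ext Λ R L where
  E := ZC C C' ψ
  proj := projZ C C' ψ
  incl := inclZ C C' ψ
  isExtension := isExtZ C C' ψ

include C C' ψ in
theorem partB (htriv : ∀ X : Exal.Ext Λ R L, X.IsTrivial) :
    Nonempty (Y.Equiv Y') := by
  obtain ⟨σ, hσ⟩ := htriv (Zext C C' ψ)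
  obtain ⟨s, hs⟩ : ∃ s : R →+* ZC C C' ψ, ∀ r, s r = σ r :=
    ⟨(σ : R →+* (Zext C C' ψ).E), fun _ => rfl⟩
  have hs1 : ∀ r, projZ C C' ψ (s r) = r := fun r => by rw [hs]; exact hσ r
  have hs2 : ∀ l, s (algebraMap Λ R l) = tau C C' ψ l := fun l => by
    rw [hs]; exact AlgHom.commutes σ l
  -- the relation defining the isomorphism
  have hex : ∀ y : Y.E, ∃ y' : Y'.E, ∃ h : Y.proj y = Y'.proj y',
      mkZ C C' ψ ⟨(y, y'), h⟩ = s (Y.proj y) := by
    intro y
    obtain ⟨⟨⟨y₁, y₁'⟩, hw⟩, hw1⟩ := mkZ_surj C C' ψ (s (Y.proj y))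
    have hw' : Y.proj y₁ = Y'.proj y₁' := hw
    have h1 : Y.proj y₁ = Y.proj y := by
      have h2 := congrArg (projZ C C' ψ) hw1
      rw [projZ_mk, hs1] at h2
      exact h2
    obtain ⟨z, hz⟩ := exists_incl Y (y - y₁) (by rw [map_sub, h1, sub_self])
    have h3 : Y.proj y = Y'.proj (y₁' + Y'.incl z) := by
      rw [map_add, proj_incl, add_zero, ← hw', h1]
    refine ⟨y₁' + Y'.incl z, h3, ?_⟩
    rw [← hw1, mkZ_eq, mem_Δ]
    refine ⟨z, ?_⟩
    show ((y, y₁' + Y'.incl z) - (y₁, y₁') : Y.E × Y'.E) = _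
    rw [Prod.mk_sub_mk, hz]
    refine Prod.ext rfl ?_
    show y₁' + Y'.incl z - y₁' = Y'.incl z
    ring
  have huniq : ∀ (y : Y.E) (y' y'' : Y'.E) (h : Y.proj y = Y'.proj y')
      (h' : Y.proj y = Y'.proj y''),
      mkZ C C' ψ ⟨(y, y'), h⟩ = s (Y.proj y) → mkZ C C' ψ ⟨(y, y''), h'⟩ = s (Y.proj y) →
      y' = y'' := by
    intro y y' y'' h h' e e'
    have h1 := e.trans e'.symm
    rw [mkZ_eq, mem_Δ] at h1
    obtain ⟨w, hw⟩ := h1
    have h2 : y - y = Y.incl w := congrArg Prod.fst hw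
    have h3 : y' - y'' = Y'.incl w := congrArg Prod.snd hw
    have h4 : w = 0 := Y.isExtension.incl_injective (by rw [← h2, sub_self, map_zero])
    rw [h4, map_zero] at h3
    exact sub_eq_zero.mp h3
  choose Θ hΘ1 hΘ2 using hex
  have hΘ : ∀ (y : Y.E) (y' : Y'.E) (h : Y.proj y = Y'.proj y'),
      mkZ C C' ψ ⟨(y, y'), h⟩ = s (Y.proj y) → Θ y = y' :=
    fun y y' h e => huniq y _ _ (hΘ1 y) h (hΘ2 y) e
  -- ring homomorphism properties
  have h_one : Θ 1 = 1 := by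
    have hpr : Y.proj 1 = Y'.proj 1 := by rw [map_one, map_one]
    refine hΘ 1 1 hpr ?_
    have e1 : (⟨((1 : Y.E), (1 : Y'.E)), hpr⟩ : ↥(W Y Y')) = 1 := Subtype.ext rfl
    rw [e1, map_one, map_one, map_one]
  have h_mul : ∀ a b, Θ (a * b) = Θ a * Θ b := by
    intro a b
    have hpr : Y.proj (a * b) = Y'.proj (Θ a * Θ b) := by
      rw [map_mul, map_mul, hΘ1 a, hΘ1 b]
    refine hΘ (a * b) (Θ a * Θ b) hpr ?_
    have e1 : (⟨(a * b, Θ a * Θ b), hpr⟩ : ↥(W Y Y'))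
        = ⟨(a, Θ a), hΘ1 a⟩ * ⟨(b, Θ b), hΘ1 b⟩ := Subtype.ext rfl
    rw [e1, map_mul, hΘ2, hΘ2, ← map_mul, ← map_mul]
  have h_zero : Θ 0 = 0 := by
    have hpr : Y.proj 0 = Y'.proj 0 := by rw [map_zero, map_zero]
    refine hΘ 0 0 hpr ?_
    have e1 : (⟨((0 : Y.E), (0 : Y'.E)), hpr⟩ : ↥(W Y Y')) = 0 := Subtype.ext rfl
    rw [e1, map_zero, map_zero, map_zero]
  have h_add : ∀ a b, Θ (a + b) = Θ a + Θ b := by
    intro a b
    have hpr : Y.proj (a + b) = Y'.proj (Θ a + Θ b) := by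
      rw [map_add, map_add, hΘ1 a, hΘ1 b]
    refine hΘ (a + b) (Θ a + Θ b) hpr ?_
    have e1 : (⟨(a + b, Θ a + Θ b), hpr⟩ : ↥(W Y Y'))
        = ⟨(a, Θ a), hΘ1 a⟩ + ⟨(b, Θ b), hΘ1 b⟩ := Subtype.ext rfl
    rw [e1, map_add, hΘ2, hΘ2, ← map_add, ← map_add]
  have h_alg : ∀ c : k, Θ (algebraMap k Y.E c) = algebraMap k Y'.E c := by
    intro c
    have hpr : Y.proj (algebraMap k Y.E c) = Y'.proj (algebraMap k Y'.E c) := by
      rw [AlgHom.commutes, AlgHom.commutes]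
    refine hΘ _ _ hpr ?_
    have e1 : Y.proj (algebraMap k Y.E c) = algebraMap Λ R (algebraMap k Λ c) := by
      rw [AlgHom.commutes, IsScalarTower.algebraMap_apply k Λ R]
    rw [e1, hs2]
    have e2 := tau_spec C C' ψ (algebraMap k C.P.E c)
    rw [AlgHom.commutes C.P.proj] at e2
    rw [e2, AlgHom.commutes (Phi0 C C' ψ)]
    exact congrArg (Ideal.Quotient.mk (Δ Y Y')) (Subtype.ext rfl)
  have h_incl : ∀ z, Θ (Y.incl z) = Y'.incl z := by
    intro z
    have hpr : Y.proj (Y.incl z) = Y'.proj (Y'.incl z) := by rw [proj_incl, proj_incl]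
    refine hΘ _ _ hpr ?_
    rw [proj_incl, map_zero, mkZ_eq_zero, mem_Δ]
    exact ⟨z, rfl⟩
  exact equiv_of_hom Y Y'
    { toFun := Θ, map_one' := h_one, map_mul' := h_mul, map_zero' := h_zero,
      map_add' := h_add, commutes' := h_alg }
    (fun y => (hΘ1 y).symm) h_incl

end baer

end Helper29.Baer
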