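import Mathlib
import Groth.Prelude.Def_W4c4cptpiccptjacBI

set_option autoImplicit false
set_option linter.unusedSectionVars false
set_option linter.unusedDecidableInType false
universe u
open LabGraph

namespace Groth.Agent.Lib.Helper29.BasicIneq

variable {V E : Type u} [Fintype V] [Fintype E] [DecidableEq V] [DecidableEq E]

/-- edge difference -/
def dl (ends : E → V × V) (φ : V → ℤ) (e : E) : ℤ := φ (ends e).1 - φ (ends e).2

/-- indicator -/
def ind (Y : Finset V) (v : V) : ℤ := if v ∈ Y then 1 else 0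

/-- total variation -/
def S (ends : E → V × V) (φ : V → ℤ) : ℤ := ∑ e : E, |dl ends φ e|

/-- energy -/
def F (ends : E → V × V) (K : ℤ) (a : V → ℤ) (φ : V → ℤ) : ℤ :=
  K * ∑ e : E, (dl ends φ e) ^ 2 - 2 * ∑ v : V, a v * φ v

lemma twist_eq (ends : E → V × V) (φ : V → ℤ) (v : V) :
    twist ends φ v = ∑ e : E, dl ends φ e *
      ((if (ends e).2 = v then (1:ℤ) else 0) - (if (ends e).1 = v then (1:ℤ) else 0)) := by
  unfold twist dl
  refine Finset.sum_congr rfl (fun e _ => ?_)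
  split_ifs <;> ring

lemma sum_mul_twist (ends : E → V × V) (φ ψ : V → ℤ) :
    ∑ v : V, ψ v * twist ends φ v = - ∑ e : E, dl ends φ e * dl ends ψ e := by
  simp_rw [twist_eq, Finset.mul_sum]
  rw [Finset.sum_comm, ← Finset.sum_neg_distrib]
  refine Finset.sum_congr rfl (fun e _ => ?_)
  have h1 : ∑ v : V, ψ v * (dl ends φ e *
      ((if (ends e).2 = v then (1:ℤ) else 0) - (if (ends e).1 = v then (1:ℤ) else 0)))
      = dl ends φ e * (∑ v : V, (if (ends e).2 = v then ψ v else 0)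
        - ∑ v : V, (if (ends e).1 = v then ψ v else 0)) := by
    rw [← Finset.sum_sub_distrib, Finset.mul_sum]
    refine Finset.sum_congr rfl (fun v _ => ?_)
    split_ifs <;> ring
  rw [h1, Finset.sum_ite_eq, Finset.sum_ite_eq]
  simp only [Finset.mem_univ, if_true]
  unfold dl
  ring

lemma sum_subset_eq (Y : Finset V) (f : V → ℤ) :
    ∑ v ∈ Y, f v = ∑ v : V, ind Y v * f v := by
  simp only [ind, ite_mul, one_mul, zero_mul, Finset.sum_ite_mem, Finset.univ_inter]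

lemma cut_eq (ends : E → V × V) (Y : Finset V) :
    (cut ends Y : ℤ) = ∑ e : E, (dl ends (ind Y) e) ^ 2 := by
  unfold cut
  rw [Finset.card_filter]
  push_cast
  refine Finset.sum_congr rfl (fun e _ => ?_)
  unfold dl ind
  by_cases h1 : (ends e).1 ∈ Y <;> by_cases h2 : (ends e).2 ∈ Y <;> simp [h1, h2]

lemma dl_add_mul (ends : E → V × V) (φ ψ : V → ℤ) (s : ℤ) (e : E) :
    dl ends (fun v => φ v + s * ψ v) e = dl ends φ e + s * dl ends ψ e := by
  unfold dl; ring

lemma F_shift (ends : E → V × V) (K : ℤ) (a φ ψ : V → ℤ) (s : ℤ) :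
    F ends K a (fun v => φ v + s * ψ v) = F ends K a φ
      - 2 * s * K * ∑ v : V, ψ v * twist ends φ v
      + s ^ 2 * K * ∑ e : E, (dl ends ψ e) ^ 2 - 2 * s * ∑ v : V, a v * ψ v := by
  rw [sum_mul_twist]
  unfold F
  simp only [dl_add_mul]
  have e1 : ∑ e : E, (dl ends φ e + s * dl ends ψ e) ^ 2 = ∑ e : E, (dl ends φ e) ^ 2
      + 2 * s * ∑ e : E, dl ends φ e * dl ends ψ e + s ^ 2 * ∑ e : E, (dl ends ψ e) ^ 2 := by
    rw [Finset.mul_sum, Finset.mul_sum, ← Finset.sum_add_distrib, ← Finset.sum_add_distrib]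
    exact Finset.sum_congr rfl (fun e _ => by ring)
  have e2 : ∑ v : V, a v * (φ v + s * ψ v) = ∑ v : V, a v * φ v + s * ∑ v : V, a v * ψ v := by
    rw [Finset.mul_sum, ← Finset.sum_add_distrib]
    exact Finset.sum_congr rfl (fun v _ => by ring)
  rw [e1, e2]
  ring

lemma sum_endCount (ends : E → V × V) :
    ∑ v : V, (endCount ends Finset.univ v : ℤ) = 2 * (Fintype.card E : ℤ) := by
  unfold endCount
  push_cast
  rw [Finset.sum_comm]
  simp only [Finset.sum_add_distrib, Finset.sum_ite_eq, Finset.mem_univ, if_true]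
  rw [Finset.sum_const, Finset.card_univ, nsmul_eq_mul]
  ring

lemma canDeg_univ (ends : E → V × V) (w : V → ℕ) :
    canDeg ends w Finset.univ = 2 * genus ends w - 2 := by
  unfold canDeg genus
  rw [Finset.sum_add_distrib, Finset.sum_sub_distrib, sum_endCount, ← Finset.mul_sum,
    Finset.sum_const, Finset.card_univ, nsmul_eq_mul]
  ring

lemma abs_dl_le (ends : E → V × V) (φ : V → ℤ) (e : E) : |dl ends φ e| ≤ S ends φ :=
  Finset.single_le_sum (f := fun e => |dl ends φ e|) (fun _ _ => abs_nonneg _) (Finset.mem_univ e)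

lemma path_bound (ends : E → V × V) {v w : V} (h : Relation.ReflTransGen (Adj ends) v w) :
    ∃ L : ℕ, ∀ φ : V → ℤ, |φ w - φ v| ≤ L * S ends φ := by
  induction h with
  | refl => exact ⟨0, fun φ => by simp⟩
  | @tail b c _ hbc ih =>
    obtain ⟨L, hL⟩ := ih
    obtain ⟨e, he⟩ := hbc
    refine ⟨L + 1, fun φ => ?_⟩
    have h2 : |φ c - φ b| = |dl ends φ e| := by
      rcases he with he | he
      · have : dl ends φ e = φ b - φ c := by unfold dl; rw [he]
        rw [this, abs_sub_comm]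
      · have : dl ends φ e = φ c - φ b := by unfold dl; rw [he]
        rw [this]
    have h1 : |φ c - φ b| ≤ S ends φ := h2 ▸ abs_dl_le ends φ e
    have h3 := abs_sub_le (φ c) (φ b) (φ v)
    have h4 : ((L + 1 : ℕ) : ℤ) * S ends φ = L * S ends φ + S ends φ := by push_cast; ring
    rw [h4]
    linarith [hL φ]

lemma bounded_below (ends : E → V × V) (hc : Connected ends) (K : ℤ) (hK : 1 ≤ K) (a : V → ℤ)
    (ha : ∑ v : V, a v = 0) :
    ∃ M : ℤ, ∀ φ : V → ℤ, M ≤ K * ∑ e : E, (dl ends φ e) ^ 2 - 2 * ∑ v : V, a v * φ v := by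
  obtain ⟨⟨v₀⟩, hconn⟩ := hc
  choose L hL using fun v => path_bound ends (hconn v₀ v)
  obtain ⟨A, hA⟩ : ∃ A : ℤ, A = ∑ v : V, |a v| * L v := ⟨_, rfl⟩
  have hA0 : 0 ≤ A := by
    rw [hA]
    exact Finset.sum_nonneg (fun v _ => mul_nonneg (abs_nonneg _) (Nat.cast_nonneg _))
  refine ⟨-(Fintype.card E * A ^ 2), fun φ => ?_⟩
  have hS0 : 0 ≤ S ends φ := Finset.sum_nonneg (fun e _ => abs_nonneg _)
  have h1 : ∑ v : V, a v * φ v = ∑ v : V, a v * (φ v - φ v₀) := by
    have : ∑ v : V, a v * (φ v - φ v₀) = ∑ v : V, a v * φ v - (∑ v : V, a v) * φ v₀ := by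
      rw [Finset.sum_mul, ← Finset.sum_sub_distrib]
      exact Finset.sum_congr rfl (fun v _ => by ring)
    rw [this, ha, zero_mul, sub_zero]
  have h2 : ∑ v : V, a v * φ v ≤ A * S ends φ := by
    rw [h1, hA, Finset.sum_mul]
    refine Finset.sum_le_sum (fun v _ => ?_)
    calc a v * (φ v - φ v₀) ≤ |a v * (φ v - φ v₀)| := le_abs_self _
      _ = |a v| * |φ v - φ v₀| := abs_mul _ _
      _ ≤ |a v| * (L v * S ends φ) := mul_le_mul_of_nonneg_left (hL v φ) (abs_nonneg _)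
      _ = |a v| * L v * S ends φ := by ring
  have h3 : ∀ e : E, -(A ^ 2) ≤ K * (dl ends φ e) ^ 2 - 2 * A * |dl ends φ e| := by
    intro e
    have ht : (dl ends φ e) ^ 2 = |dl ends φ e| ^ 2 := (sq_abs _).symm
    rw [ht]
    have := mul_nonneg (sub_nonneg.mpr hK) (sq_nonneg |dl ends φ e|)
    nlinarith [sq_nonneg (|dl ends φ e| - A)]
  have h4 : -((Fintype.card E : ℤ) * A ^ 2)
      ≤ K * ∑ e : E, (dl ends φ e) ^ 2 - 2 * A * S ends φ := by
    have : K * ∑ e : E, (dl ends φ e) ^ 2 - 2 * A * S ends φ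
        = ∑ e : E, (K * (dl ends φ e) ^ 2 - 2 * A * |dl ends φ e|) := by
      unfold S
      rw [Finset.sum_sub_distrib, Finset.mul_sum, Finset.mul_sum]
    rw [this]
    calc -((Fintype.card E : ℤ) * A ^ 2) = ∑ _e : E, -(A ^ 2) := by
          rw [Finset.sum_const, Finset.card_univ, nsmul_eq_mul]; ring
      _ ≤ _ := Finset.sum_le_sum (fun e _ => h3 e)
  linarith

lemma exists_min (ends : E → V × V) (hc : Connected ends) (K : ℤ) (hK : 1 ≤ K) (a : V → ℤ)
    (ha : ∑ v : V, a v = 0) :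
    ∃ φ : V → ℤ, ∀ ψ : V → ℤ, F ends K a φ ≤ F ends K a ψ := by
  obtain ⟨M, hM⟩ := bounded_below ends hc K hK a ha
  obtain ⟨lb, ⟨φ, hφ⟩, hlb⟩ :=
    Int.exists_least_of_bdd (P := fun z => ∃ φ : V → ℤ, F ends K a φ = z)
      ⟨M, fun z hz => by obtain ⟨φ, rfl⟩ := hz; exact hM φ⟩ ⟨_, fun _ => 0, rfl⟩
  exact ⟨φ, fun ψ => hφ ▸ hlb _ ⟨ψ, rfl⟩⟩

theorem main17173 (ends : E → V × V) (w : V → ℕ) (hX : IsQuasistableGraph ends w)
    (hg : 3 ≤ genus ends w) (d : V → ℤ) :
    ∃ d' : V → ℤ, TwistEquiv ends d' d ∧ SatisfiesBI ends w d' := by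
  obtain ⟨K, hKdef⟩ : ∃ K : ℤ, K = canDeg ends w Finset.univ := ⟨_, rfl⟩
  have hK : 1 ≤ K := by rw [hKdef, canDeg_univ]; linarith
  obtain ⟨c, hc⟩ : ∃ c : V → ℤ, ∀ Y : Finset V, canDeg ends w Y = ∑ v ∈ Y, c v :=
    ⟨fun v => 2 * (w v : ℤ) - 2 + (endCount ends Finset.univ v : ℤ), fun Y => rfl⟩
  obtain ⟨D, hD⟩ : ∃ D : ℤ, D = ∑ v : V, d v := ⟨_, rfl⟩
  obtain ⟨a, ha⟩ : ∃ a : V → ℤ, ∀ v, a v = K * d v - D * c v := ⟨_, fun _ => rfl⟩
  have hasum : ∑ v : V, a v = 0 := by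
    simp only [ha]
    rw [Finset.sum_sub_distrib, ← Finset.mul_sum, ← Finset.mul_sum, ← hD, ← hc, ← hKdef]
    ring
  obtain ⟨φ, hmin⟩ := exists_min ends hX.1.1 K hK a hasum
  refine ⟨fun v => d v + twist ends φ v, ⟨φ, fun v => ?_⟩, fun Y => ?_⟩
  · show d v + twist ends φ v - d v = twist ends φ v
    ring
  · have htw0 : ∑ v : V, twist ends φ v = 0 := by
      have := sum_mul_twist ends φ (fun _ => 1)
      simpa [dl] using this
    have hD' : ∑ v : V, (d v + twist ends φ v) = D := by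
      rw [Finset.sum_add_distrib, htw0, add_zero, hD]
    obtain ⟨T, hT⟩ : ∃ T : ℤ, T = ∑ v ∈ Y, twist ends φ v := ⟨_, rfl⟩
    obtain ⟨AY, hAY⟩ : ∃ AY : ℤ, AY = ∑ v ∈ Y, a v := ⟨_, rfl⟩
    have hX' : canDeg ends w Finset.univ * (∑ v ∈ Y, (d v + twist ends φ v))
        - (∑ v : V, (d v + twist ends φ v)) * canDeg ends w Y = AY + K * T := by
      rw [hD', ← hKdef, hc Y, hAY, hT, Finset.mul_sum, Finset.mul_sum, Finset.mul_sum,
        ← Finset.sum_sub_distrib, ← Finset.sum_add_distrib]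
      exact Finset.sum_congr rfl (fun v _ => by rw [ha]; ring)
    show 2 * |canDeg ends w Finset.univ * (∑ v ∈ Y, (d v + twist ends φ v))
        - (∑ v : V, (d v + twist ends φ v)) * canDeg ends w Y|
        ≤ (cut ends Y : ℤ) * canDeg ends w Finset.univ
    rw [hX', ← hKdef]
    have hψtw : ∑ v : V, ind Y v * twist ends φ v = T := by
      rw [hT]; exact (sum_subset_eq Y _).symm
    have hψa : ∑ v : V, a v * ind Y v = AY := by
      rw [hAY, sum_subset_eq Y]
      exact Finset.sum_congr rfl (fun v _ => mul_comm _ _)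
    have hcut : ∑ e : E, (dl ends (ind Y) e) ^ 2 = (cut ends Y : ℤ) := (cut_eq ends Y).symm
    have h1 := le_of_le_of_eq (hmin _) (F_shift ends K a φ (ind Y) 1)
    have h2 := le_of_le_of_eq (hmin _) (F_shift ends K a φ (ind Y) (-1))
    rw [hψtw, hcut, hψa] at h1 h2
    rcases abs_choice (AY + K * T) with h | h <;> rw [h] <;> linarith

end Groth.Agent.Lib.Helper29.BasicIneq
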