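import Mathlib
import Groth.Prelude.Def_W4c4cptpiccptjacBI
import Groth.Agent.Lib.Helper29.BasicIneq

set_option autoImplicit false
set_option linter.unusedSectionVars false
set_option linter.unusedDecidableInType false
universe u
open LabGraph

namespace Groth.Agent.Lib.Helper29.BasicIneq

variable {V E : Type u} [Fintype V] [Fintype E] [DecidableEq V] [DecidableEq E]

lemma sum_twist_zero (ends : E → V × V) (φ : V → ℤ) : ∑ v : V, twist ends φ v = 0 := by
  have := sum_mul_twist ends φ (fun _ => 1)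
  simpa [dl] using this

lemma abs_sum_twist_le (ends : E → V × V) (w : V → ℕ) (hg : 3 ≤ genus ends w) (d d' φ : V → ℤ)
    (hBI : SatisfiesBI ends w d) (hBI' : SatisfiesBI ends w d')
    (hφ : ∀ v, d v - d' v = twist ends φ v) (Y : Finset V) :
    |∑ v ∈ Y, twist ends φ v| ≤ (cut ends Y : ℤ) := by
  obtain ⟨K, hKdef⟩ : ∃ K : ℤ, K = canDeg ends w Finset.univ := ⟨_, rfl⟩
  have hK : 1 ≤ K := by rw [hKdef, canDeg_univ]; linarith
  have hsum : ∑ v : V, d v = ∑ v : V, d' v := by
    have : ∑ v : V, (d v - d' v) = 0 := by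
      rw [Finset.sum_congr rfl (fun v _ => hφ v)]; exact sum_twist_zero ends φ
    rw [Finset.sum_sub_distrib] at this
    linarith
  have h1 := hBI Y
  have h2 := hBI' Y
  rw [← hKdef] at h1 h2
  rw [hsum] at h1
  have hT : ∑ v ∈ Y, twist ends φ v = ∑ v ∈ Y, d v - ∑ v ∈ Y, d' v := by
    rw [← Finset.sum_sub_distrib]; exact Finset.sum_congr rfl (fun v _ => (hφ v).symm)
  obtain ⟨a, ha⟩ : ∃ a : ℤ, a = ∑ v ∈ Y, d v := ⟨_, rfl⟩
  obtain ⟨a', ha'⟩ : ∃ a' : ℤ, a' = ∑ v ∈ Y, d' v := ⟨_, rfl⟩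
  obtain ⟨B, hB⟩ : ∃ B : ℤ, B = (∑ v : V, d' v) * canDeg ends w Y := ⟨_, rfl⟩
  obtain ⟨C, hC⟩ : ∃ C : ℤ, C = (cut ends Y : ℤ) := ⟨_, rfl⟩
  rw [← ha, ← hB, ← hC] at h1
  rw [← ha', ← hB, ← hC] at h2
  rw [hT, ← ha, ← ha', ← hC]
  have h3 : |K * (a - a')| ≤ C * K := by
    have e : K * (a - a') = (K * a - B) - (K * a' - B) := by ring
    rw [e]
    have := abs_sub (K * a - B) (K * a' - B)
    linarith
  rw [abs_mul, abs_of_pos (by linarith : (0:ℤ) < K)] at h3
  have : K * |a - a'| ≤ K * C := by linarith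
  exact le_of_mul_le_mul_left this (by linarith)

lemma key_eq (ends : E → V × V) (φ : V → ℤ)
    (hA : ∀ Y : Finset V, |∑ v ∈ Y, twist ends φ v| ≤ (cut ends Y : ℤ))
    (m : ℤ) (Y : Finset V) (hmem : ∀ v, v ∈ Y ↔ m ≤ φ v) (e : E) :
    dl ends φ e * dl ends (ind Y) e = (dl ends (ind Y) e) ^ 2 := by
  have hterm : ∀ e' : E, (dl ends (ind Y) e') ^ 2 ≤ dl ends φ e' * dl ends (ind Y) e' := by
    intro e'
    unfold dl ind
    by_cases h1 : (ends e').1 ∈ Y <;> by_cases h2 : (ends e').2 ∈ Y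
    · simp [h1, h2]
    · have a1 : m ≤ φ (ends e').1 := (hmem _).mp h1
      have a2 : φ (ends e').2 < m := by
        by_contra hc; exact h2 ((hmem _).mpr (not_lt.mp hc))
      rw [if_pos h1, if_neg h2]
      nlinarith
    · have a1 : φ (ends e').1 < m := by
        by_contra hc; exact h1 ((hmem _).mpr (not_lt.mp hc))
      have a2 : m ≤ φ (ends e').2 := (hmem _).mp h2
      rw [if_neg h1, if_pos h2]
      nlinarith
    · simp [h1, h2]
  have hsum : ∑ e' : E, dl ends φ e' * dl ends (ind Y) e'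
      ≤ ∑ e' : E, (dl ends (ind Y) e') ^ 2 := by
    have h := hA Y
    rw [sum_subset_eq Y, sum_mul_twist, abs_neg, cut_eq] at h
    exact (le_abs_self _).trans h
  have := (Finset.sum_eq_sum_iff_of_le (fun i _ => hterm i)).mp
    (le_antisymm (Finset.sum_le_sum fun i _ => hterm i) hsum) e (Finset.mem_univ _)
  exact this.symm

lemma abs_dl_le_one (ends : E → V × V) (φ : V → ℤ)
    (hA : ∀ Y : Finset V, |∑ v ∈ Y, twist ends φ v| ≤ (cut ends Y : ℤ)) (e : E) :
    |dl ends φ e| ≤ 1 := by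
  rcases lt_trichotomy (dl ends φ e) 0 with hlt | heq | hgt
  · obtain ⟨Y, hY⟩ : ∃ Y : Finset V, ∀ v, v ∈ Y ↔ φ (ends e).2 ≤ φ v :=
      ⟨Finset.univ.filter (fun v => φ (ends e).2 ≤ φ v), fun v => by simp⟩
    have hk := key_eq ends φ hA _ Y hY e
    have a1 : (ends e).2 ∈ Y := (hY _).mpr le_rfl
    have a2 : (ends e).1 ∉ Y := by
      intro hc
      have := (hY _).mp hc
      unfold dl at hlt
      linarith
    have hval : dl ends (ind Y) e = -1 := by
      unfold dl ind
      rw [if_neg a2, if_pos a1]; norm_num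
    rw [hval] at hk
    have : dl ends φ e = -1 := by norm_num at hk; linarith
    rw [this]; norm_num
  · rw [heq]; norm_num
  · obtain ⟨Y, hY⟩ : ∃ Y : Finset V, ∀ v, v ∈ Y ↔ φ (ends e).1 ≤ φ v :=
      ⟨Finset.univ.filter (fun v => φ (ends e).1 ≤ φ v), fun v => by simp⟩
    have hk := key_eq ends φ hA _ Y hY e
    have a1 : (ends e).1 ∈ Y := (hY _).mpr le_rfl
    have a2 : (ends e).2 ∉ Y := by
      intro hc
      have := (hY _).mp hc
      unfold dl at hgt
      linarith
    have hval : dl ends (ind Y) e = 1 := by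
      unfold dl ind
      rw [if_pos a1, if_neg a2]; norm_num
    rw [hval] at hk
    have : dl ends φ e = 1 := by norm_num at hk; linarith
    rw [this]; norm_num

lemma twist_sub_const (ends : E → V × V) (φ : V → ℤ) (m : ℤ) (v : V) :
    twist ends (fun u => φ u - m) v = twist ends φ v := by
  unfold twist
  refine Finset.sum_congr rfl (fun e _ => ?_)
  split_ifs <;> ring

lemma exists_cross {α : Type*} (r : α → α → Prop) (P : α → Prop) {a b : α}
    (h : Relation.ReflTransGen r a b) (ha : P a) (hb : ¬ P b) :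
    ∃ x y, r x y ∧ P x ∧ ¬ P y := by
  induction h with
  | refl => exact absurd ha hb
  | @tail b c _ hbc ih =>
    by_cases hPb : P b
    · exact ⟨b, c, hbc, hPb, hb⟩
    · exact ih hPb

theorem main17174 (ends : E → V × V) (w : V → ℕ) (hX : IsSemistableGraph ends w)
    (hg : 3 ≤ genus ends w) (d d' : V → ℤ)
    (hBI : SatisfiesBI ends w d) (hBI' : SatisfiesBI ends w d') (heq : TwistEquiv ends d d') :
    ∃ (q : ℕ) (h : V → ℕ), (∀ v : V, h v ≤ q) ∧ (∀ i : ℕ, i ≤ q → ∃ v : V, h v = i) ∧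
      (∀ v : V, d v - d' v = twist ends (fun u => (h u : ℤ)) v) ∧
      (∀ i j : ℕ, i ≤ q → j ≤ q → i ≠ j →
        ((∃ e : E, (h (ends e).1 = i ∧ h (ends e).2 = j) ∨ (h (ends e).1 = j ∧ h (ends e).2 = i)) ↔
          (i + 1 = j ∨ j + 1 = i))) := by
  obtain ⟨φ, hφ⟩ := heq
  obtain ⟨⟨v₁⟩, hconn⟩ := hX.1
  have hA := abs_sum_twist_le ends w hg d d' φ hBI hBI' hφ
  have hB := abs_dl_le_one ends φ hA
  obtain ⟨vmin, -, hmin⟩ := Finset.exists_min_image Finset.univ φ ⟨v₁, Finset.mem_univ _⟩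
  obtain ⟨vmax, -, hmax⟩ := Finset.exists_max_image Finset.univ φ ⟨v₁, Finset.mem_univ _⟩
  have hmin' : ∀ v, φ vmin ≤ φ v := fun v => hmin v (Finset.mem_univ _)
  have hmax' : ∀ v, φ v ≤ φ vmax := fun v => hmax v (Finset.mem_univ _)
  obtain ⟨h, hh⟩ : ∃ h : V → ℕ, ∀ v, (h v : ℤ) = φ v - φ vmin :=
    ⟨fun v => (φ v - φ vmin).toNat, fun v => Int.toNat_of_nonneg (sub_nonneg.mpr (hmin' v))⟩
  have hdiff : ∀ e : E, |(h (ends e).1 : ℤ) - (h (ends e).2 : ℤ)| ≤ 1 := by
    intro e
    have := hB e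
    unfold dl at this
    rw [hh, hh]
    have e1 : φ (ends e).1 - φ vmin - (φ (ends e).2 - φ vmin)
        = φ (ends e).1 - φ (ends e).2 := by ring
    rw [e1]; exact this
  have h0 : h vmin = 0 := by
    have := hh vmin
    rw [sub_self] at this
    exact_mod_cast this
  have hD : ∀ i : ℕ, i < h vmax → ∃ e : E, (h (ends e).1 = i ∧ h (ends e).2 = i + 1) ∨
      (h (ends e).1 = i + 1 ∧ h (ends e).2 = i) := by
    intro i hi
    obtain ⟨x, y, ⟨e, he⟩, hx, hy⟩ := exists_cross (Adj ends) (fun v => h v ≤ i)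
      (hconn vmin vmax) (by show h vmin ≤ i; omega) (by show ¬ h vmax ≤ i; omega)
    have hx' : h x ≤ i := hx
    have hy' : ¬ h y ≤ i := hy
    have hde := hdiff e
    refine ⟨e, ?_⟩
    rcases he with he | he
    · rw [he] at hde ⊢
      dsimp only at hde ⊢
      left
      rw [abs_le] at hde
      constructor <;> omega
    · rw [he] at hde ⊢
      dsimp only at hde ⊢
      right
      rw [abs_le] at hde
      constructor <;> omega
  refine ⟨h vmax, h, ?_, ?_, ?_, ?_⟩
  · intro v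
    have := hmax' v
    have h1 := hh v
    have h2 := hh vmax
    omega
  · intro i hi
    rcases Nat.eq_zero_or_pos i with rfl | hpos
    · exact ⟨vmin, h0⟩
    · obtain ⟨e, he⟩ := hD (i - 1) (by omega)
      rcases he with ⟨_, he⟩ | ⟨he, _⟩
      · exact ⟨(ends e).2, by omega⟩
      · exact ⟨(ends e).1, by omega⟩
  · intro v
    rw [hφ v]
    have : (fun u => (h u : ℤ)) = fun u => φ u - φ vmin := funext hh
    rw [this, twist_sub_const]
  · intro i j hi hj hij
    constructor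
    · rintro ⟨e, he⟩
      have hde := hdiff e
      rw [abs_le] at hde
      rcases he with ⟨h1, h2⟩ | ⟨h1, h2⟩ <;> omega
    · rintro (hij' | hij')
      · obtain ⟨e, he⟩ := hD i (by omega)
        refine ⟨e, ?_⟩
        rcases he with ⟨h1, h2⟩ | ⟨h1, h2⟩
        · left; constructor <;> omega
        · right; constructor <;> omega
      · obtain ⟨e, he⟩ := hD j (by omega)
        refine ⟨e, ?_⟩
        rcases he with ⟨h1, h2⟩ | ⟨h1, h2⟩
        · right; constructor <;> omega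
        · left; constructor <;> omega

end Groth.Agent.Lib.Helper29.BasicIneq
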