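import Mathlib
import Groth.Prelude.Def_W4c4cptpiccptjacBI
import Groth.Agent.Lib.Helper29.BasicIneq

set_option autoImplicit false
set_option linter.unusedSectionVars false
set_option linter.unusedDecidableInType false
universe u
open LabGraph

namespace Groth.Agent.Lib.Helper29.BasicIneq

variable {V E : Type u} [Fintype V] [Fintype E] [DecidableEq V] [DecidableEq E]

/-- vertex contribution to canDeg -/
def cv (ends : E → V × V) (w : V → ℕ) (v : V) : ℤ :=
  2 * (w v : ℤ) - 2 + (endCount ends Finset.univ v : ℤ)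

lemma canDeg_eq (ends : E → V × V) (w : V → ℕ) (Y : Finset V) :
    canDeg ends w Y = ∑ v ∈ Y, cv ends w v := rfl

lemma endCount_of_exceptional (ends : E → V × V) (w : V → ℕ) (v : V)
    (hv : IsExceptional ends w v) : endCount ends Finset.univ v = 2 := by
  obtain ⟨_, hloop, hcut⟩ := hv
  rw [← hcut]
  unfold endCount cut
  rw [Finset.card_filter]
  refine Finset.sum_congr rfl (fun e _ => ?_)
  have hl := hloop e
  by_cases h1 : (ends e).1 = v <;> by_cases h2 : (ends e).2 = v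
  · exact absurd (Prod.ext h1 h2) hl
  · simp [h1, h2]
  · simp [h1, h2]
  · simp [h1, h2]

lemma cv_of_exceptional (ends : E → V × V) (w : V → ℕ) (v : V)
    (hv : IsExceptional ends w v) : cv ends w v = 0 := by
  have h2 := endCount_of_exceptional ends w v hv
  obtain ⟨h1, _, _⟩ := hv
  unfold cv
  rw [h2, h1]
  norm_num

lemma dl_ind_ne_zero (ends : E → V × V) (Z : Finset V) (e : E) :
    dl ends (ind Z) e ≠ 0 ↔
      (((ends e).1 ∈ Z ∧ (ends e).2 ∉ Z) ∨ ((ends e).1 ∉ Z ∧ (ends e).2 ∈ Z)) := by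
  unfold dl ind
  by_cases a : (ends e).1 ∈ Z <;> by_cases b : (ends e).2 ∈ Z <;> simp [a, b]

lemma dl_ind_sq01 (ends : E → V × V) (W : Finset V) (e : E) :
    dl ends (ind W) e ^ 2 = 0 ∨ dl ends (ind W) e ^ 2 = 1 := by
  unfold dl ind
  by_cases a : (ends e).1 ∈ W <;> by_cases b : (ends e).2 ∈ W <;> simp [a, b]

lemma cross_zero (ends : E → V × V) (Z₁ Z₂ : Finset V) (hsub : Z₁ ⊆ Z₂)
    (hsep : ∀ e : E, ¬ (((ends e).1 ∈ Z₁ ∧ (ends e).2 ∉ Z₂) ∨ ((ends e).2 ∈ Z₁ ∧ (ends e).1 ∉ Z₂)))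
    (e : E) : dl ends (ind Z₁) e * dl ends (ind Z₂) e = 0 := by
  have hs := hsep e
  by_contra hne
  have h1 : dl ends (ind Z₁) e ≠ 0 := left_ne_zero_of_mul hne
  have h2 : dl ends (ind Z₂) e ≠ 0 := right_ne_zero_of_mul hne
  have c1 := (dl_ind_ne_zero ends Z₁ e).mp h1
  have c2 := (dl_ind_ne_zero ends Z₂ e).mp h2
  rcases c1 with ⟨a1, a2⟩ | ⟨a1, a2⟩
  · have b1 := hsub a1
    rcases c2 with ⟨_, b2⟩ | ⟨b1', _⟩
    · exact hs (Or.inl ⟨a1, b2⟩)
    · exact b1' b1
  · have b2 := hsub a2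
    rcases c2 with ⟨_, b2'⟩ | ⟨b1, _⟩
    · exact b2' b2
    · exact hs (Or.inr ⟨a2, b1⟩)

lemma cut_le_of_exceptional (ends : E → V × V) (w : V → ℕ) (v : V) (hv : IsExceptional ends w v)
    (Y Z : Finset V) (hYZ : ∀ x, x ≠ v → (x ∈ Y ↔ x ∈ Z)) (e : E)
    (hev : (ends e).1 = v ∨ (ends e).2 = v)
    (heZ : dl ends (ind Z) e ^ 2 = 1) (heY : dl ends (ind Y) e = 0) :
    (cut ends Y : ℤ) ≤ cut ends Z := by
  obtain ⟨_, hloop, hcut⟩ := hv
  have hcutv : (cut ends {v} : ℤ) = 2 := by exact_mod_cast hcut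
  rw [cut_eq ends Y, cut_eq ends Z]
  rw [cut_eq ends {v}] at hcutv
  have hterm : ∀ e' : E, dl ends (ind Y) e' ^ 2
      ≤ dl ends (ind Z) e' ^ 2 + dl ends (ind {v}) e' ^ 2 - (if e' = e then 2 else 0) := by
    intro e'
    by_cases hee : e' = e
    · rw [hee, if_pos rfl, heY, heZ]
      have hl := hloop e
      have hs : dl ends (ind {v}) e ^ 2 = 1 := by
        unfold dl ind
        rcases hev with h | h
        · have h2 : (ends e).2 ≠ v := fun h2 => hl (Prod.ext h h2)
          simp [h, h2]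
        · have h1 : (ends e).1 ≠ v := fun h1 => hl (Prod.ext h1 h)
          simp [h, h1]
      rw [hs]; norm_num
    · rw [if_neg hee, sub_zero]
      have hl := hloop e'
      by_cases h1 : (ends e').1 = v <;> by_cases h2 : (ends e').2 = v
      · exact absurd (Prod.ext h1 h2) hl
      · have hs : dl ends (ind {v}) e' ^ 2 = 1 := by unfold dl ind; simp [h1, h2]
        rw [hs]
        rcases dl_ind_sq01 ends Y e' with a | a <;> rcases dl_ind_sq01 ends Z e' with b | b <;>
          rw [a, b] <;> norm_num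
      · have hs : dl ends (ind {v}) e' ^ 2 = 1 := by unfold dl ind; simp [h1, h2]
        rw [hs]
        rcases dl_ind_sq01 ends Y e' with a | a <;> rcases dl_ind_sq01 ends Z e' with b | b <;>
          rw [a, b] <;> norm_num
      · have e1 : dl ends (ind Y) e' = dl ends (ind Z) e' := by
          unfold dl ind
          rw [if_congr (hYZ _ h1) rfl rfl, if_congr (hYZ _ h2) rfl rfl]
        rw [e1]
        have := sq_nonneg (dl ends (ind {v}) e')
        linarith
  calc ∑ e' : E, dl ends (ind Y) e' ^ 2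
      ≤ ∑ e' : E, (dl ends (ind Z) e' ^ 2 + dl ends (ind {v}) e' ^ 2
          - (if e' = e then 2 else 0)) := Finset.sum_le_sum (fun e' _ => hterm e')
    _ = ∑ e' : E, dl ends (ind Z) e' ^ 2 := by
        rw [Finset.sum_sub_distrib, Finset.sum_add_distrib, hcutv]
        simp

lemma extreme_contra (ends : E → V × V) (w : V → ℕ) (K : ℤ)
    (hKdef : K = canDeg ends w Finset.univ)
    (hK : 1 ≤ K) (d : V → ℤ) (hBI : SatisfiesBI ends w d) (Y Z : Finset V)
    (hcutle : (cut ends Y : ℤ) ≤ cut ends Z) (s : ℤ) (hs : s = 1 ∨ s = -1)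
    (hsumd : ∑ x ∈ Y, d x = ∑ x ∈ Z, d x + s) (hcan : canDeg ends w Y = canDeg ends w Z)
    (hextZ : 2 * (K * ∑ x ∈ Z, d x - (∑ x, d x) * canDeg ends w Z)
      = s * ((cut ends Z : ℤ) * K)) :
    False := by
  have h := hBI Y
  rw [← hKdef, hsumd, hcan] at h
  have h1 : (cut ends Y : ℤ) * K ≤ (cut ends Z : ℤ) * K :=
    mul_le_mul_of_nonneg_right hcutle (by linarith)
  rcases hs with rfl | rfl
  · have := le_abs_self (K * (∑ x ∈ Z, d x + 1) - (∑ x, d x) * canDeg ends w Z)
    linarith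
  · have := neg_abs_le (K * (∑ x ∈ Z, d x + -1) - (∑ x, d x) * canDeg ends w Z)
    linarith

theorem main19033 (ends : E → V × V) (w : V → ℕ) (hX : IsQuasistableGraph ends w)
    (hg : 2 ≤ genus ends w) (d d' : V → ℤ) (hD : ∑ v, d v = ∑ v, d' v)
    (hBI : SatisfiesBI ends w d) (hBI' : SatisfiesBI ends w d')
    (hone : ∀ v : V, IsExceptional ends w v → d v = 1) (hone' : ∀ v : V, IsExceptional ends w v → d' v = 1)
    (hstrict : ∀ Y : Finset V, Y.Nonempty → Y ≠ Finset.univ →
      2 * (canDeg ends w Finset.univ * (∑ v ∈ Y, d v) - (∑ v, d v) * canDeg ends w Y)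
          = (cut ends Y : ℤ) * canDeg ends w Finset.univ →
      ∀ e : E, (((ends e).1 ∈ Y ∧ (ends e).2 ∉ Y) ∨ ((ends e).1 ∉ Y ∧ (ends e).2 ∈ Y)) →
        (IsExceptional ends w (ends e).1 ∨ IsExceptional ends w (ends e).2))
    (m : ℕ) (Z : Fin m → Finset V) (hmono : ∀ i j : Fin m, i ≤ j → Z i ⊆ Z j)
    (hext : ∀ i : Fin m, 2 * (canDeg ends w Finset.univ * (∑ v ∈ Z i, d v) - (∑ v, d v) * canDeg ends w (Z i))
          = (cut ends (Z i) : ℤ) * canDeg ends w Finset.univ)
    (hsep : ∀ i j : Fin m, j < i → ∀ e : E,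
      ¬ (((ends e).1 ∈ Z j ∧ (ends e).2 ∉ Z i) ∨ ((ends e).2 ∈ Z j ∧ (ends e).1 ∉ Z i)))
    (hsum : ∀ v : V, d' v = d v + ∑ i : Fin m, twist ends (fun u => if u ∈ Z i then (1 : ℤ) else 0) v) :
    d = d' := by
  obtain ⟨K, hKdef⟩ : ∃ K : ℤ, K = canDeg ends w Finset.univ := ⟨_, rfl⟩
  have hK : 2 ≤ K := by rw [hKdef, canDeg_univ]; linarith
  have hext' : ∀ i, 2 * (K * ∑ x ∈ Z i, d x - (∑ x, d x) * canDeg ends w (Z i))
      = (cut ends (Z i) : ℤ) * K := by
    intro i; rw [hKdef]; exact hext i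
  have hsum' : ∀ v, d' v = d v + ∑ i : Fin m, twist ends (ind (Z i)) v := hsum
  have hcut0 : ∀ i, cut ends (Z i) = 0 := by
    intro i
    by_contra hne
    have hpos : 0 < cut ends (Z i) := Nat.pos_of_ne_zero hne
    unfold cut at hpos
    obtain ⟨e, he⟩ := Finset.card_pos.mp hpos
    rw [Finset.mem_filter] at he
    have hcross := he.2
    have hne' : (Z i).Nonempty := by
      rcases hcross with ⟨a, _⟩ | ⟨_, a⟩ <;> exact ⟨_, a⟩
    have hnu : Z i ≠ Finset.univ := by
      intro h; rw [h] at hcross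
      rcases hcross with ⟨_, a⟩ | ⟨a, _⟩ <;> exact a (Finset.mem_univ _)
    have hexc := hstrict (Z i) hne' hnu (hext i) e hcross
    have hd'Z : ∑ x ∈ Z i, d' x = ∑ x ∈ Z i, d x - (cut ends (Z i) : ℤ) := by
      have h1 : ∀ j : Fin m, ∑ x ∈ Z i, twist ends (ind (Z j)) x
          = if j = i then -(cut ends (Z i) : ℤ) else 0 := by
        intro j
        rw [sum_subset_eq (Z i), sum_mul_twist]
        by_cases hji : j = i
        · rw [if_pos hji, hji, cut_eq]
          congr 1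
          exact Finset.sum_congr rfl (fun e _ => (sq _).symm)
        · rw [if_neg hji, neg_eq_zero]
          refine Finset.sum_eq_zero (fun e _ => ?_)
          rcases lt_or_gt_of_ne hji with hlt | hgt
          · exact cross_zero ends (Z j) (Z i) (hmono j i hlt.le) (hsep i j hlt) e
          · rw [mul_comm]
            exact cross_zero ends (Z i) (Z j) (hmono i j hgt.le) (hsep j i hgt) e
      rw [Finset.sum_congr rfl (fun x _ => hsum' x), Finset.sum_add_distrib, Finset.sum_comm,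
        Finset.sum_congr rfl (fun j _ => h1 j), Finset.sum_ite_eq', if_pos (Finset.mem_univ _)]
      ring
    have typeII : ∀ v u : V, IsExceptional ends w v → v ∉ Z i → u ∈ Z i →
        (((ends e).1 = v ∧ (ends e).2 = u) ∨ ((ends e).1 = u ∧ (ends e).2 = v)) → False := by
      intro v u hv hvZ huZ hjoin
      have hev : (ends e).1 = v ∨ (ends e).2 = v := by
        rcases hjoin with ⟨a, _⟩ | ⟨_, a⟩
        exacts [Or.inl a, Or.inr a]
      have hYZ : ∀ x, x ≠ v → (x ∈ insert v (Z i) ↔ x ∈ Z i) := by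
        intro x hx; simp [hx]
      have heZ : dl ends (ind (Z i)) e ^ 2 = 1 := by
        unfold dl ind
        rcases hjoin with ⟨a, b⟩ | ⟨a, b⟩ <;> rw [a, b] <;> simp [hvZ, huZ]
      have heY : dl ends (ind (insert v (Z i))) e = 0 := by
        unfold dl ind
        rcases hjoin with ⟨a, b⟩ | ⟨a, b⟩ <;> rw [a, b] <;> simp [huZ]
      have hcl := cut_le_of_exceptional ends w v hv _ _ hYZ e hev heZ heY
      refine extreme_contra ends w K hKdef (by linarith) d hBI (insert v (Z i)) (Z i) hcl 1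
        (Or.inl rfl) ?_ ?_ ?_
      · rw [Finset.sum_insert hvZ, hone v hv]; ring
      · rw [canDeg_eq, canDeg_eq, Finset.sum_insert hvZ, cv_of_exceptional ends w v hv, zero_add]
      · rw [one_mul]; exact hext' i
    have typeI : ∀ v u : V, IsExceptional ends w v → v ∈ Z i → u ∉ Z i →
        (((ends e).1 = v ∧ (ends e).2 = u) ∨ ((ends e).1 = u ∧ (ends e).2 = v)) → False := by
      intro v u hv hvZ huZ hjoin
      have hev : (ends e).1 = v ∨ (ends e).2 = v := by
        rcases hjoin with ⟨a, _⟩ | ⟨_, a⟩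
        exacts [Or.inl a, Or.inr a]
      have hYZ : ∀ x, x ≠ v → (x ∈ (Z i).erase v ↔ x ∈ Z i) := by
        intro x hx; simp [hx]
      have heZ : dl ends (ind (Z i)) e ^ 2 = 1 := by
        unfold dl ind
        rcases hjoin with ⟨a, b⟩ | ⟨a, b⟩ <;> rw [a, b] <;> simp [hvZ, huZ]
      have heY : dl ends (ind ((Z i).erase v)) e = 0 := by
        unfold dl ind
        rcases hjoin with ⟨a, b⟩ | ⟨a, b⟩ <;> rw [a, b] <;> simp [huZ]
      have hcl := cut_le_of_exceptional ends w v hv _ _ hYZ e hev heZ heY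
      refine extreme_contra ends w K hKdef (by linarith) d' hBI' ((Z i).erase v) (Z i) hcl (-1)
        (Or.inr rfl) ?_ ?_ ?_
      · rw [Finset.sum_erase_eq_sub hvZ, hone' v hv]; ring
      · rw [canDeg_eq, canDeg_eq, Finset.sum_erase_eq_sub hvZ, cv_of_exceptional ends w v hv,
          sub_zero]
      · rw [hd'Z, ← hD]
        have := hext' i
        linarith
    rcases hcross with ⟨a, b⟩ | ⟨a, b⟩
    · rcases hexc with hv | hv
      · exact typeI _ _ hv a b (Or.inl ⟨rfl, rfl⟩)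
      · exact typeII _ _ hv b a (Or.inr ⟨rfl, rfl⟩)
    · rcases hexc with hv | hv
      · exact typeII _ _ hv a b (Or.inl ⟨rfl, rfl⟩)
      · exact typeI _ _ hv b a (Or.inr ⟨rfl, rfl⟩)
  have htw : ∀ i v, twist ends (ind (Z i)) v = 0 := by
    intro i v
    rw [twist_eq]
    refine Finset.sum_eq_zero (fun e _ => ?_)
    have h0 : (cut ends (Z i) : ℤ) = 0 := by exact_mod_cast hcut0 i
    rw [cut_eq] at h0
    have := (Finset.sum_eq_zero_iff_of_nonneg
      (fun e _ => sq_nonneg (dl ends (ind (Z i)) e))).mp h0 e (Finset.mem_univ _)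
    have hz : dl ends (ind (Z i)) e = 0 := by simpa using this
    rw [hz, zero_mul]
  funext v
  rw [hsum' v]
  simp [htw]

end Groth.Agent.Lib.Helper29.BasicIneq
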