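import Mathlib
import Groth.Prelude.Def_W4c4cptpiccptjacBI
import Groth.Agent.Lib.Helper29.BasicIneq3

set_option autoImplicit false
set_option linter.unusedSectionVars false
set_option linter.unusedDecidableInType false
universe u
open LabGraph

namespace Groth.Agent.Lib.Helper29.BasicIneq

variable {V E : Type u} [Fintype V] [Fintype E] [DecidableEq V] [DecidableEq E]

lemma canDeg_congr (ends : E → V × V) (w : V → ℕ) (S A B : Finset V)
    (hS : ∀ v ∈ S, IsExceptional ends w v)
    (hAB : ∀ x, x ∉ S → (x ∈ A ↔ x ∈ B)) : canDeg ends w A = canDeg ends w B := by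
  have key : ∀ A : Finset V, canDeg ends w A
      = ∑ x ∈ A.filter (fun x => x ∉ S), cv ends w x := by
    intro A
    rw [canDeg_eq, Finset.sum_filter]
    refine Finset.sum_congr rfl (fun x _ => ?_)
    by_cases hx : x ∈ S
    · simp [hx, cv_of_exceptional ends w x (hS x hx)]
    · simp [hx]
  rw [key A, key B]
  congr 1
  ext x
  simp only [Finset.mem_filter]
  constructor
  · rintro ⟨a, b⟩; exact ⟨(hAB x b).mp a, b⟩
  · rintro ⟨a, b⟩; exact ⟨(hAB x b).mpr a, b⟩

lemma cut_step (ends : E → V × V) (w : V → ℕ) (v u : V) (hv : IsExceptional ends w v)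
    (Yn Zc : Finset V)
    (hYZ : ∀ x, x ≠ v → (x ∈ Yn ↔ x ∈ Zc)) (e : E)
    (hjoin : ((ends e).1 = v ∧ (ends e).2 = u) ∨ ((ends e).1 = u ∧ (ends e).2 = v))
    (hZc : (v ∈ Zc ∧ u ∉ Zc) ∨ (v ∉ Zc ∧ u ∈ Zc))
    (hYn : (v ∈ Yn ↔ u ∈ Yn)) :
    (cut ends Yn : ℤ) ≤ cut ends Zc := by
  have hev : (ends e).1 = v ∨ (ends e).2 = v := by
    rcases hjoin with ⟨a, _⟩ | ⟨_, a⟩
    exacts [Or.inl a, Or.inr a]
  have heZ : dl ends (ind Zc) e ^ 2 = 1 := by
    unfold dl ind
    rcases hjoin with ⟨a, b⟩ | ⟨a, b⟩ <;> rw [a, b] <;>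
      rcases hZc with ⟨c1, c2⟩ | ⟨c1, c2⟩ <;> simp [c1, c2]
  have heY : dl ends (ind Yn) e = 0 := by
    unfold dl ind
    rcases hjoin with ⟨a, b⟩ | ⟨a, b⟩ <;> rw [a, b] <;>
      by_cases c : u ∈ Yn <;> simp [c, hYn]
  exact cut_le_of_exceptional ends w v hv Yn Zc hYZ e hev heZ heY

theorem main19034 (ends : E → V × V) (w : V → ℕ) (hZ : IsQuasistableGraph ends w)
    (hg : 2 ≤ genus ends w) (S : Finset V) (hS : ∀ v ∈ S, IsExceptional ends w v)
    (dt : V → ℤ) (hzero : ∀ v ∈ S, dt v = 0)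
    (hBI : ∀ W : Finset V, Disjoint W S →
      2 * |canDeg ends w Finset.univ * (∑ v ∈ W, dt v) - (∑ v, dt v) * canDeg ends w (Finset.univ.filter (fun v : V => v ∈ W ∨ (v ∈ S ∧ ∀ e : E, ((ends e).1 = v → (ends e).2 ∈ W) ∧ ((ends e).2 = v → (ends e).1 ∈ W))))|
        ≤ (cut ends (Finset.univ.filter (fun v : V => v ∈ W ∨ (v ∈ S ∧ ∀ e : E, ((ends e).1 = v → (ends e).2 ∈ W) ∧ ((ends e).2 = v → (ends e).1 ∈ W)))) : ℤ) * canDeg ends w Finset.univ)
    (hone : ∀ v : V, v ∉ S → IsExceptional ends w v → dt v = 1) :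
    SatisfiesBI ends w dt := by
  intro Y
  obtain ⟨_, hqs⟩ := hZ
  obtain ⟨K, hKdef⟩ : ∃ K : ℤ, K = canDeg ends w Finset.univ := ⟨_, rfl⟩
  have hK : 2 ≤ K := by rw [hKdef, canDeg_univ]; linarith
  obtain ⟨W, hWdef⟩ : ∃ W : Finset V, W = Y.filter (fun x => x ∉ S) := ⟨_, rfl⟩
  have hW : ∀ x, x ∈ W ↔ (x ∈ Y ∧ x ∉ S) := by
    intro x; rw [hWdef]; simp
  have hdisj : Disjoint W S := by
    rw [Finset.disjoint_left]; intro x hx; exact ((hW x).mp hx).2
  obtain ⟨Wh, hWh⟩ : ∃ Wh : Finset V, Wh = Finset.univ.filter (fun v : V => v ∈ W ∨ (v ∈ S ∧ ∀ e : E, ((ends e).1 = v → (ends e).2 ∈ W) ∧ ((ends e).2 = v → (ends e).1 ∈ W))) := ⟨_, rfl⟩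
  have h : 2 * |K * (∑ v ∈ W, dt v) - (∑ v, dt v) * canDeg ends w Wh|
      ≤ (cut ends Wh : ℤ) * K := by
    rw [hWh, hKdef]; exact hBI W hdisj
  have hmemWh : ∀ x, x ∈ Wh ↔ (x ∈ W ∨ (x ∈ S ∧ ∀ e : E, ((ends e).1 = x → (ends e).2 ∈ W) ∧ ((ends e).2 = x → (ends e).1 ∈ W))) := by
    intro x; rw [hWh]; simp
  have hagreeOut : ∀ x, x ∉ S → (x ∈ Y ↔ x ∈ Wh) := by
    intro x hx
    rw [hmemWh, hW]
    constructor
    · intro h; exact Or.inl ⟨h, hx⟩
    · rintro (h | h)
      · exact h.1
      · exact absurd h.1 hx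
  have hdtY : ∑ v ∈ Y, dt v = ∑ v ∈ W, dt v := by
    rw [hWdef, Finset.sum_filter]
    refine Finset.sum_congr rfl (fun x _ => ?_)
    by_cases hx : x ∈ S
    · simp [hx, hzero x hx]
    · simp [hx]
  have hcut : (cut ends Wh : ℤ) ≤ cut ends Y := by
    obtain ⟨mix, hmix⟩ : ∃ mix : Finset V → Finset V, ∀ T x, x ∈ mix T ↔
        ((x ∈ T ∧ x ∈ Wh) ∨ (x ∉ T ∧ x ∈ Y)) :=
      ⟨fun T => Finset.univ.filter (fun x => (x ∈ T ∧ x ∈ Wh) ∨ (x ∉ T ∧ x ∈ Y)),
        fun T x => by simp⟩
    have key : ∀ T : Finset V, T ⊆ S → (cut ends (mix T) : ℤ) ≤ cut ends Y := by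
      intro T
      induction T using Finset.induction_on with
      | empty =>
        intro _
        have : mix ∅ = Y := by ext x; rw [hmix]; simp
        rw [this]
      | insert v T' hvT' ih =>
        intro hsub
        have hvS : v ∈ S := hsub (Finset.mem_insert_self _ _)
        have hT'S : T' ⊆ S := fun x hx => hsub (Finset.mem_insert_of_mem hx)
        have ih' := ih hT'S
        have hYZ : ∀ x, x ≠ v → (x ∈ mix (insert v T') ↔ x ∈ mix T') := by
          intro x hx
          rw [hmix, hmix]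
          simp [Finset.mem_insert, hx]
        have hvZc : v ∈ mix T' ↔ v ∈ Y := by rw [hmix]; simp [hvT']
        have hvYn : v ∈ mix (insert v T') ↔ v ∈ Wh := by rw [hmix]; simp
        have huout : ∀ u, u ∉ S →
            ((u ∈ mix T' ↔ u ∈ Y) ∧ (u ∈ mix (insert v T') ↔ u ∈ Y)) := by
          intro u hu
          have h1 : u ∉ T' := fun h => hu (hT'S h)
          have h2 : u ≠ v := fun h => hu (h ▸ hvS)
          constructor
          · rw [hmix]; simp [h1]
          · rw [hmix]; simp [Finset.mem_insert, h1, h2]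
        by_cases hvWh : v ∈ Wh
        · by_cases hvY : v ∈ Y
          · have : mix (insert v T') = mix T' := by
              ext x
              by_cases hx : x = v
              · rw [hx, hvYn, hvZc]; exact ⟨fun _ => hvY, fun _ => hvWh⟩
              · exact hYZ x hx
            rw [this]; exact ih'
          · -- Case A
            have hall : ∀ e : E, ((ends e).1 = v → (ends e).2 ∈ W) ∧
                ((ends e).2 = v → (ends e).1 ∈ W) := by
              rcases (hmemWh v).mp hvWh with h | h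
              · exact absurd hvS ((hW v).mp h).2
              · exact h.2
            have hex : ∃ e : E, ((ends e).1 = v ∧ (ends e).2 ≠ v) ∨
                ((ends e).1 ≠ v ∧ (ends e).2 = v) := by
              obtain ⟨_, _, hcutv⟩ := hS v hvS
              have hpos : 0 < cut ends {v} := by rw [hcutv]; norm_num
              unfold cut at hpos
              obtain ⟨e, he⟩ := Finset.card_pos.mp hpos
              rw [Finset.mem_filter] at he
              refine ⟨e, ?_⟩
              simpa [Finset.mem_singleton] using he.2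
            obtain ⟨e, he⟩ := hex
            obtain ⟨u, hjoin, huW⟩ : ∃ u, (((ends e).1 = v ∧ (ends e).2 = u) ∨
                ((ends e).1 = u ∧ (ends e).2 = v)) ∧ u ∈ W := by
              rcases he with ⟨a, _⟩ | ⟨_, b⟩
              · exact ⟨(ends e).2, Or.inl ⟨a, rfl⟩, (hall e).1 a⟩
              · exact ⟨(ends e).1, Or.inr ⟨rfl, b⟩, (hall e).2 b⟩
            have huY : u ∈ Y := ((hW u).mp huW).1
            have huS : u ∉ S := ((hW u).mp huW).2
            obtain ⟨hu1, hu2⟩ := huout u huS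
            refine le_trans (cut_step ends w v u (hS v hvS) _ _ hYZ e hjoin ?_ ?_) ih'
            · right; exact ⟨fun h => hvY (hvZc.mp h), hu1.mpr huY⟩
            · exact ⟨fun _ => hu2.mpr huY, fun _ => hvYn.mpr hvWh⟩
        · by_cases hvY : v ∈ Y
          · -- Case B
            have hnall : ∃ e : E, ((ends e).1 = v ∧ (ends e).2 ∉ W) ∨
                ((ends e).2 = v ∧ (ends e).1 ∉ W) := by
              by_contra hcon
              apply hvWh
              rw [hmemWh]
              right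
              refine ⟨hvS, fun e => ⟨fun h1 => ?_, fun h2 => ?_⟩⟩
              · by_contra h; exact hcon ⟨e, Or.inl ⟨h1, h⟩⟩
              · by_contra h; exact hcon ⟨e, Or.inr ⟨h2, h⟩⟩
            obtain ⟨e, he⟩ := hnall
            obtain ⟨u, hjoin, huW⟩ : ∃ u, (((ends e).1 = v ∧ (ends e).2 = u) ∨
                ((ends e).1 = u ∧ (ends e).2 = v)) ∧ u ∉ W := by
              rcases he with ⟨a, b⟩ | ⟨a, b⟩
              · exact ⟨(ends e).2, Or.inl ⟨a, rfl⟩, b⟩
              · exact ⟨(ends e).1, Or.inr ⟨rfl, a⟩, b⟩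
            have huS : u ∉ S := by
              intro huS
              obtain ⟨_, hloop, _⟩ := hS v hvS
              have hne : (ends e).1 ≠ (ends e).2 := by
                intro heq
                rcases hjoin with ⟨a, b⟩ | ⟨a, b⟩
                · exact hloop e (Prod.ext a (heq.symm.trans a))
                · exact hloop e (Prod.ext (heq.trans b) b)
              apply hqs e hne
              rcases hjoin with ⟨a, b⟩ | ⟨a, b⟩
              · rw [a, b]; exact ⟨hS v hvS, hS u huS⟩
              · rw [a, b]; exact ⟨hS u huS, hS v hvS⟩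
            have huY : u ∉ Y := fun h => huW ((hW u).mpr ⟨h, huS⟩)
            obtain ⟨hu1, hu2⟩ := huout u huS
            refine le_trans (cut_step ends w v u (hS v hvS) _ _ hYZ e hjoin ?_ ?_) ih'
            · left; exact ⟨hvZc.mpr hvY, fun h => huY (hu1.mp h)⟩
            · exact ⟨fun h => absurd (hvYn.mp h) hvWh, fun h => absurd (hu2.mp h) huY⟩
          · have : mix (insert v T') = mix T' := by
              ext x
              by_cases hx : x = v
              · rw [hx, hvYn, hvZc]; exact ⟨fun h => absurd h hvWh, fun h => absurd h hvY⟩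
              · exact hYZ x hx
            rw [this]; exact ih'
    have hS' := key S (Finset.Subset.refl S)
    have hmixS : mix S = Wh := by
      ext x
      rw [hmix]
      by_cases hx : x ∈ S
      · simp [hx]
      · simp [hx, hagreeOut x hx]
    rw [hmixS] at hS'
    exact hS'
  show 2 * |canDeg ends w Finset.univ * (∑ v ∈ Y, dt v) - (∑ v, dt v) * canDeg ends w Y|
    ≤ (cut ends Y : ℤ) * canDeg ends w Finset.univ
  rw [← hKdef, hdtY, canDeg_congr ends w S Y Wh hS hagreeOut]
  have : (cut ends Wh : ℤ) * K ≤ (cut ends Y : ℤ) * K :=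
    mul_le_mul_of_nonneg_right hcut (by linarith)
  linarith

end Groth.Agent.Lib.Helper29.BasicIneq
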