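import Mathlib
import Groth.Prelude.Def_W4c1hilbpnTgt

set_option autoImplicit false
universe u
open MvPolynomial W4c1hilbpn

namespace Groth.Agent.Lib.Helper29.BddComp

section vec
variable {n : ℕ}

/-- `β + α` as an integer vector. -/
def toZ (β : Fin n →₀ ℕ) (α : Fin n → ℤ) : Fin n → ℤ := fun i => (β i : ℤ) + α i

/-- truncation to exponent vectors -/
noncomputable def toN (γ : Fin n → ℤ) : Fin n →₀ ℕ :=
  Finsupp.equivFunOnFinite.symm fun i => (γ i).toNat

def bump (γ : Fin n → ℤ) (i : Fin n) : Fin n → ℤ := fun l => γ l + if i = l then 1 else 0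

def line (a : Fin n → ℤ) (j : Fin n) (t : ℕ) : Fin n → ℤ :=
  fun l => a l + if j = l then (t : ℤ) else 0

noncomputable def back (α : Fin n → ℤ) (γ : Fin n → ℤ) : Fin n →₀ ℕ := toN fun i => γ i - α i

theorem toN_apply (γ : Fin n → ℤ) (i : Fin n) : toN γ i = (γ i).toNat := rfl

theorem shift_eq (β : Fin n →₀ ℕ) (α : Fin n → ℤ) : shift β α = toN (toZ β α) := rfl

theorem toZ_injective (α : Fin n → ℤ) {β β' : Fin n →₀ ℕ} (h : toZ β α = toZ β' α) : β = β' := by
  apply Finsupp.ext
  intro i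
  have h1 : (β i : ℤ) + α i = (β' i : ℤ) + α i := congrFun h i
  omega

theorem back_toZ (α : Fin n → ℤ) (β : Fin n →₀ ℕ) : back α (toZ β α) = β := by
  apply Finsupp.ext
  intro i
  show ((β i : ℤ) + α i - α i).toNat = β i
  omega

theorem toN_inj {a b : Fin n → ℤ} (ha : ∀ i, 0 ≤ a i) (hb : ∀ i, 0 ≤ b i) (h : toN a = toN b) :
    a = b := by
  funext i
  have h1 : (a i).toNat = (b i).toNat := DFunLike.congr_fun h i
  have := ha i
  have := hb i
  omega

theorem toZ_single_add (i : Fin n) (β : Fin n →₀ ℕ) (α : Fin n → ℤ) :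
    toZ (Finsupp.single i 1 + β) α = bump (toZ β α) i := by
  funext l
  show (((Finsupp.single i 1 + β : Fin n →₀ ℕ) l : ℕ) : ℤ) + α l =
    ((β l : ℤ) + α l) + if i = l then (1 : ℤ) else 0
  rw [Finsupp.add_apply, Finsupp.single_apply]
  by_cases h : i = l
  · rw [if_pos h, if_pos h]; omega
  · rw [if_neg h, if_neg h]; omega

theorem toN_bump (γ : Fin n → ℤ) (i : Fin n) (h0 : ∀ l, 0 ≤ γ l) :
    toN (bump γ i) = Finsupp.single i 1 + toN γ := by
  apply Finsupp.ext
  intro l
  rw [Finsupp.add_apply, Finsupp.single_apply, toN_apply, toN_apply]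
  show (γ l + if i = l then (1 : ℤ) else 0).toNat = (if i = l then 1 else 0) + (γ l).toNat
  have := h0 l
  by_cases h : i = l
  · rw [if_pos h, if_pos h]; omega
  · rw [if_neg h, if_neg h]; omega

theorem bump_nonneg (γ : Fin n → ℤ) (i : Fin n) (h0 : ∀ l, 0 ≤ γ l) : ∀ l, 0 ≤ bump γ i l := by
  intro l
  show 0 ≤ γ l + if i = l then (1 : ℤ) else 0
  have := h0 l
  by_cases h : i = l
  · rw [if_pos h]; omega
  · rw [if_neg h]; omega

theorem line_zero (a : Fin n → ℤ) (j : Fin n) : line a j 0 = a := by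
  funext l
  show a l + (if j = l then ((0 : ℕ) : ℤ) else 0) = a l
  by_cases h : j = l
  · rw [if_pos h]; simp
  · rw [if_neg h]; simp

theorem line_succ (a : Fin n → ℤ) (j : Fin n) (t : ℕ) :
    line a j (t + 1) = bump (line a j t) j := by
  funext l
  show a l + (if j = l then ((t + 1 : ℕ) : ℤ) else 0) =
    a l + (if j = l then (t : ℤ) else 0) + if j = l then (1 : ℤ) else 0
  by_cases h : j = l
  · rw [if_pos h, if_pos h, if_pos h]; omega
  · rw [if_neg h, if_neg h, if_neg h]; omega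

theorem sum_abs_bump (a : Fin n → ℤ) (i : Fin n) : ∑ l, |a l - bump a i l| = 1 := by
  have h : ∀ l, |a l - bump a i l| = if i = l then (1 : ℤ) else 0 := by
    intro l
    show |a l - (a l + if i = l then (1 : ℤ) else 0)| = _
    by_cases h : i = l
    · rw [if_pos h]; simp
    · rw [if_neg h]; simp
  simp only [h, Finset.sum_ite_eq, Finset.mem_univ, if_true]

theorem step_cases (a b : Fin n → ℤ) (h : ∑ i, |a i - b i| = 1) :
    ∃ i, b = bump a i ∨ a = bump b i := by
  have hex : ∃ i, a i ≠ b i := by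
    by_contra hne
    push Not at hne
    have h0 : ∑ i, |a i - b i| = 0 :=
      Finset.sum_eq_zero (fun i _ => by rw [hne i, sub_self, abs_zero])
    exact absurd (h0.symm.trans h) (by norm_num)
  obtain ⟨i, hi⟩ := hex
  have hsplit := Finset.add_sum_erase Finset.univ (fun l => |a l - b l|) (Finset.mem_univ i)
  have hnn : 0 ≤ ∑ l ∈ Finset.univ.erase i, |a l - b l| :=
    Finset.sum_nonneg (fun l _ => abs_nonneg _)
  have hge : 1 ≤ |a i - b i| := Int.one_le_abs (sub_ne_zero.mpr hi)
  have hsplit' : |a i - b i| + ∑ l ∈ Finset.univ.erase i, |a l - b l| = 1 := hsplit.trans h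
  have h1 : |a i - b i| = 1 := by omega
  have h0 : ∑ l ∈ Finset.univ.erase i, |a l - b l| = 0 := by omega
  have hz : ∀ l, l ≠ i → a l = b l := by
    intro l hl
    have h2 := (Finset.sum_eq_zero_iff_of_nonneg (fun l _ => abs_nonneg (a l - b l))).mp h0 l
      (Finset.mem_erase.mpr ⟨hl, Finset.mem_univ l⟩)
    exact sub_eq_zero.mp (abs_eq_zero.mp h2)
  refine ⟨i, ?_⟩
  rcases (abs_eq (by norm_num : (0 : ℤ) ≤ 1)).mp h1 with h2 | h2
  · right
    funext l
    show a l = b l + if i = l then (1 : ℤ) else 0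
    by_cases hl : i = l
    · rw [if_pos hl]; subst hl; omega
    · rw [if_neg hl, add_zero]; exact hz l (Ne.symm hl)
  · left
    funext l
    show b l = a l + if i = l then (1 : ℤ) else 0
    by_cases hl : i = l
    · rw [if_pos hl]; subst hl; omega
    · rw [if_neg hl, add_zero]; exact (hz l (Ne.symm hl)).symm

theorem smul_cancel {K M : Type*} [Field K] [AddCommGroup M] [Module K M] {c1 c2 : K} {v : M}
    (hv : v ≠ 0) (h : c1 • v = c2 • v) : c1 = c2 := by
  have h0 : (c1 - c2) • v = 0 := by rw [sub_smul, h, sub_self]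
  rcases smul_eq_zero.mp h0 with h1 | h1
  · exact sub_eq_zero.mp h1
  · exact absurd h1 hv

theorem const_of_reachable {V : Type*} {G : SimpleGraph V} {β : Type*} (g : V → β)
    (h : ∀ x y, G.Adj x y → g x = g y) {x y : V} (hr : G.Reachable x y) : g x = g y := by
  rw [SimpleGraph.reachable_iff_reflTransGen] at hr
  induction hr with
  | refl => rfl
  | tail _ hbc ih => exact ih.trans (h _ _ hbc)

end vec

section ideal
variable {k : Type u} [Field k] {n : ℕ} (I : Ideal (MvPolynomial (Fin n) k)) (α : Fin n → ℤ)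

theorem exps_add {β : Fin n →₀ ℕ} (h : β ∈ exps I) (δ : Fin n →₀ ℕ) : δ + β ∈ exps I := by
  show monomial (δ + β) (1 : k) ∈ I
  have e : monomial (δ + β) (1 : k) = monomial δ 1 * monomial β 1 := by
    rw [MvPolynomial.monomial_mul, one_mul]
  rw [e]
  exact I.mul_mem_left _ h

/-- class of a monomial -/
noncomputable def cls (δ : Fin n →₀ ℕ) : MvPolynomial (Fin n) k ⧸ I :=
  Ideal.Quotient.mk I (monomial δ (1 : k))

theorem cls_eq_zero {δ : Fin n →₀ ℕ} (h : δ ∈ exps I) : cls I δ = 0 :=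
  Ideal.Quotient.eq_zero_iff_mem.mpr h

theorem cls_ne_zero {δ : Fin n →₀ ℕ} (h : δ ∉ exps I) : cls I δ ≠ 0 :=
  fun h0 => h (Ideal.Quotient.eq_zero_iff_mem.mp h0)

theorem smul_mk (q p : MvPolynomial (Fin n) k) :
    q • (Ideal.Quotient.mk I p) = Ideal.Quotient.mk I (q * p) := by
  first
    | rfl
    | (rw [Algebra.smul_def, Ideal.Quotient.algebraMap_eq, ← map_mul])

theorem mk_smul (c : k) (p : MvPolynomial (Fin n) k) :
    Ideal.Quotient.mk I (c • p) = c • Ideal.Quotient.mk I p :=
  map_smul (Ideal.Quotient.mkₐ k I) c p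

theorem X_mul_mono (i : Fin n) (δ : Fin n →₀ ℕ) :
    (X i : MvPolynomial (Fin n) k) * monomial δ 1 = monomial (Finsupp.single i 1 + δ) 1 := by
  rw [MvPolynomial.monomial_single_add, pow_one]

theorem X_smul_cls (i : Fin n) (δ : Fin n →₀ ℕ) :
    (X i : MvPolynomial (Fin n) k) • cls I δ = cls I (Finsupp.single i 1 + δ) := by
  show (X i : MvPolynomial (Fin n) k) • Ideal.Quotient.mk I (monomial δ (1 : k)) =
    Ideal.Quotient.mk I (monomial (Finsupp.single i 1 + δ) (1 : k))
  rw [← X_mul_mono i δ]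
  exact smul_mk I _ _

/-- the region graph -/
abbrev RG : SimpleGraph ↥(region I α) := (stepGraph (Fin n)).induce (region I α)

/-- bounded components -/
abbrev BC : Type := {c : (RG I α).ConnectedComponent // c.supp.Finite}

theorem adj_iff (x y : region I α) :
    (RG I α).Adj x y ↔
      x.1 ≠ y.1 ∧ ((∑ i, |x.1 i - y.1 i| = 1) ∨ (∑ i, |y.1 i - x.1 i| = 1)) := by
  show (stepGraph (Fin n)).Adj x.1 y.1 ↔ _
  exact SimpleGraph.fromRel_adj _ x.1 y.1

theorem adj_of_bump (x y : region I α) (i : Fin n) (h : y.1 = bump x.1 i) :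
    (RG I α).Adj x y := by
  rw [adj_iff]
  refine ⟨?_, Or.inl ?_⟩
  · intro he
    have h1 : y.1 i = x.1 i + 1 := by
      rw [h]
      show x.1 i + (if i = i then (1 : ℤ) else 0) = x.1 i + 1
      rw [if_pos rfl]
    rw [he] at h1
    omega
  · rw [h]; exact sum_abs_bump x.1 i

theorem mem_region_iff (β : Fin n →₀ ℕ) :
    toZ β α ∈ region I α ↔ β ∈ exps I ∧ ¬((∀ i, 0 ≤ toZ β α i) ∧ shift β α ∈ exps I) := by
  constructor
  · rintro ⟨⟨β', hβ', h⟩, h2⟩
    have hb : β = β' := toZ_injective α h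
    subst hb
    exact ⟨hβ', h2⟩
  · rintro ⟨h1, h2⟩
    exact ⟨⟨β, h1, rfl⟩, h2⟩

theorem infinite_of_neg (hn : 2 ≤ n) (x : region I α) (i : Fin n) (hi : x.1 i < 0) :
    ¬ ((RG I α).connectedComponentMk x).supp.Finite := by
  obtain ⟨j, hj⟩ : ∃ j : Fin n, j ≠ i := by
    haveI : Nontrivial (Fin n) := Fin.nontrivial_iff_two_le.mpr hn
    exact exists_ne i
  obtain ⟨⟨β, hβ, hx⟩, _⟩ := x.2
  have hx' : x.1 = toZ β α := hx
  have he : ∀ t : ℕ, line x.1 j t = toZ (Finsupp.single j t + β) α := by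
    intro t
    funext l
    show x.1 l + (if j = l then (t : ℤ) else 0) =
      (((Finsupp.single j t + β : Fin n →₀ ℕ) l : ℕ) : ℤ) + α l
    rw [hx', Finsupp.add_apply, Finsupp.single_apply]
    show (β l : ℤ) + α l + (if j = l then (t : ℤ) else 0) =
      (((if j = l then t else 0) + β l : ℕ) : ℤ) + α l
    by_cases h : j = l
    · rw [if_pos h, if_pos h]; omega
    · rw [if_neg h, if_neg h]; omega
  have hmem : ∀ t : ℕ, line x.1 j t ∈ region I α := by
    intro t
    rw [he t]
    refine (mem_region_iff I α _).mpr ⟨exps_add I hβ _, fun h => ?_⟩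
    have h1 := h.1 i
    rw [← he t] at h1
    have h2 : line x.1 j t i = x.1 i := by
      show x.1 i + (if j = i then (t : ℤ) else 0) = x.1 i
      rw [if_neg hj, add_zero]
    rw [h2] at h1
    omega
  have hcomp : ∀ t : ℕ, (RG I α).connectedComponentMk (⟨line x.1 j t, hmem t⟩ : region I α) =
      (RG I α).connectedComponentMk x := by
    intro t
    induction t with
    | zero =>
      exact congrArg (RG I α).connectedComponentMk (Subtype.ext (line_zero x.1 j))
    | succ t ih =>
      rw [← ih]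
      exact (SimpleGraph.ConnectedComponent.connectedComponentMk_eq_of_adj
        (adj_of_bump I α ⟨line x.1 j t, hmem t⟩ ⟨line x.1 j (t + 1), hmem (t + 1)⟩ j
          (line_succ x.1 j t))).symm
  have hinj : Function.Injective (fun t : ℕ => (⟨line x.1 j t, hmem t⟩ : region I α)) := by
    intro s t hst
    have h2 : line x.1 j s j = line x.1 j t j := congrFun (congrArg Subtype.val hst) j
    have e : ∀ u : ℕ, line x.1 j u j = x.1 j + (u : ℤ) := by
      intro u
      show x.1 j + (if j = j then (u : ℤ) else 0) = _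
      rw [if_pos rfl]
    rw [e, e] at h2
    omega
  have hinf : ((RG I α).connectedComponentMk x).supp.Infinite :=
    Set.infinite_of_injective_forall_mem hinj (fun t => hcomp t)
  exact hinf

theorem compl_exps_finite (hI : IsMonomial I) [Module.Finite k (MvPolynomial (Fin n) k ⧸ I)] :
    ((exps I)ᶜ : Set (Fin n →₀ ℕ)).Finite := by
  have hli : LinearIndependent k
      (fun δ : ↥((exps I)ᶜ : Set (Fin n →₀ ℕ)) => cls I δ.1) := by
    rw [linearIndependent_iff']
    intro s g hsum δ0 hδ0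
    by_contra hne
    have hp : (∑ δ ∈ s, g δ • monomial δ.1 (1 : k)) ∈ I := by
      apply Ideal.Quotient.eq_zero_iff_mem.mp
      have e : Ideal.Quotient.mk I (∑ δ ∈ s, g δ • monomial δ.1 (1 : k)) =
          ∑ δ ∈ s, g δ • cls I δ.1 := by
        rw [map_sum]
        refine Finset.sum_congr rfl (fun δ _ => ?_)
        exact mk_smul I (g δ) _
      rw [e]
      exact hsum
    have hcoeff : coeff δ0.1 (∑ δ ∈ s, g δ • monomial δ.1 (1 : k)) = g δ0 := by
      rw [MvPolynomial.coeff_sum, Finset.sum_eq_single δ0]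
      · rw [MvPolynomial.coeff_smul, MvPolynomial.coeff_monomial, if_pos rfl, smul_eq_mul,
          mul_one]
      · intro δ _ hδ
        rw [MvPolynomial.coeff_smul, MvPolynomial.coeff_monomial,
          if_neg (fun h => hδ (Subtype.ext h)), smul_zero]
      · intro h
        exact absurd hδ0 h
    have hsupp : δ0.1 ∈ (∑ δ ∈ s, g δ • monomial δ.1 (1 : k)).support := by
      rw [MvPolynomial.mem_support_iff, hcoeff]
      exact hne
    exact δ0.2 (hI _ hp _ hsupp)
  haveI : Finite ↥((exps I)ᶜ : Set (Fin n →₀ ℕ)) := hli.finite_of_isNoetherian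
  exact Set.toFinite _

theorem finite_of_nonneg (hI : IsMonomial I) [Module.Finite k (MvPolynomial (Fin n) k ⧸ I)]
    (c : (RG I α).ConnectedComponent) (h : ∀ z ∈ c.supp, ∀ l, 0 ≤ z.1 l) : c.supp.Finite := by
  refine Set.Finite.of_injOn (f := fun z : region I α => toN z.1)
    (t := ((exps I)ᶜ : Set (Fin n →₀ ℕ))) ?_ ?_ (compl_exps_finite I hI)
  · intro z hz
    show toN z.1 ∉ exps I
    exact fun hmem => z.2.2 ⟨h z hz, hmem⟩
  · intro z hz z' hz' he
    exact Subtype.ext (toN_inj (h z hz) (h z' hz') he)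

theorem finite_BC (hn : 2 ≤ n) (hI : IsMonomial I)
    [Module.Finite k (MvPolynomial (Fin n) k ⧸ I)] : Finite (BC I α) := by
  haveI : Finite ↥((exps I)ᶜ : Set (Fin n →₀ ℕ)) := (compl_exps_finite I hI).to_subtype
  have hrep : ∀ C : BC I α, ∀ l, 0 ≤ (C.1.nonempty_supp.some).1 l := by
    intro C l
    by_contra hc
    have hz : (RG I α).connectedComponentMk C.1.nonempty_supp.some = C.1 :=
      C.1.nonempty_supp.some_mem
    have hinf := infinite_of_neg I α hn C.1.nonempty_supp.some l (not_le.mp hc)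
    rw [hz] at hinf
    exact hinf C.2
  let F : BC I α → ↥((exps I)ᶜ : Set (Fin n →₀ ℕ)) := fun C =>
    ⟨toN (C.1.nonempty_supp.some).1, fun h => (C.1.nonempty_supp.some).2.2 ⟨hrep C, h⟩⟩
  apply Finite.of_injective F
  intro C C' h
  have h1 : toN (C.1.nonempty_supp.some).1 = toN (C'.1.nonempty_supp.some).1 :=
    congrArg Subtype.val h
  have h2 := toN_inj (hrep C) (hrep C') h1
  have h3 : C.1.nonempty_supp.some = C'.1.nonempty_supp.some := Subtype.ext h2
  apply Subtype.ext
  have hz : (RG I α).connectedComponentMk C.1.nonempty_supp.some = C.1 :=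
    C.1.nonempty_supp.some_mem
  have hz' : (RG I α).connectedComponentMk C'.1.nonempty_supp.some = C'.1 :=
    C'.1.nonempty_supp.some_mem
  exact hz.symm.trans ((congrArg (RG I α).connectedComponentMk h3).trans hz')

open Classical in
/-- evaluation functional at a component (zero on unbounded components) -/
noncomputable def ftC (c : (RG I α).ConnectedComponent) : (BC I α → k) →ₗ[k] k :=
  if h : c.supp.Finite then (LinearMap.proj (⟨c, h⟩ : BC I α) : (BC I α → k) →ₗ[k] k) else 0

theorem ftC_of_infinite (c : (RG I α).ConnectedComponent) (h : ¬ c.supp.Finite) :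
    ftC (k := k) I α c = 0 := dif_neg h

theorem ftC_apply_of_finite (c : (RG I α).ConnectedComponent) (h : c.supp.Finite)
    (f : BC I α → k) : ftC I α c f = f ⟨c, h⟩ := by
  have e : ftC (k := k) I α c = (LinearMap.proj (⟨c, h⟩ : BC I α) : (BC I α → k) →ₗ[k] k) :=
    dif_pos h
  rw [e, LinearMap.proj_apply]

open Classical in
/-- evaluation functional attached to an exponent -/
noncomputable def ft (β : Fin n →₀ ℕ) : (BC I α → k) →ₗ[k] k :=
  if h : toZ β α ∈ region I α then ftC I α ((RG I α).connectedComponentMk ⟨toZ β α, h⟩) else 0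

theorem ft_of_not_mem (β : Fin n →₀ ℕ) (h : toZ β α ∉ region I α) : ft (k := k) I α β = 0 :=
  dif_neg h

theorem ft_eq (β : Fin n →₀ ℕ) (z : region I α) (hz : z.1 = toZ β α) :
    ft (k := k) I α β = ftC I α ((RG I α).connectedComponentMk z) := by
  have hmem : toZ β α ∈ region I α := by rw [← hz]; exact z.2
  have e : ft (k := k) I α β = ftC I α ((RG I α).connectedComponentMk ⟨toZ β α, hmem⟩) :=
    dif_pos hmem
  have hzz : (⟨toZ β α, hmem⟩ : region I α) = z := Subtype.ext hz.symm
  rw [e, hzz]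

theorem ft_neg (hn : 2 ≤ n) (β : Fin n →₀ ℕ) (hβ : β ∈ exps I) (hneg : ∃ l, toZ β α l < 0) :
    ft (k := k) I α β = 0 := by
  obtain ⟨l, hl⟩ := hneg
  have hr : toZ β α ∈ region I α :=
    (mem_region_iff I α β).mpr ⟨hβ, fun h => absurd (h.1 l) (not_le.mpr hl)⟩
  rw [ft_eq I α β ⟨toZ β α, hr⟩ rfl]
  exact ftC_of_infinite I α _ (infinite_of_neg I α hn ⟨toZ β α, hr⟩ l hl)

theorem ft_bump (i : Fin n) (β : Fin n →₀ ℕ) (hr : toZ β α ∈ region I α)
    (hr' : toZ (Finsupp.single i 1 + β) α ∈ region I α) :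
    ft (k := k) I α (Finsupp.single i 1 + β) = ft I α β := by
  have h := SimpleGraph.ConnectedComponent.connectedComponentMk_eq_of_adj
    (adj_of_bump I α ⟨_, hr⟩ ⟨_, hr'⟩ i (toZ_single_add i β α))
  rw [ft_eq I α β ⟨_, hr⟩ rfl, ft_eq I α (Finsupp.single i 1 + β) ⟨_, hr'⟩ rfl, h]

/-- the linear map `f ↦ (x^β ↦ f(component of β+α) • [x^(β+α)])` -/
noncomputable def Lmap :
    (BC I α → k) →ₗ[k] (MvPolynomial (Fin n) k →ₗ[k] (MvPolynomial (Fin n) k ⧸ I)) :=
  ((MvPolynomial.basisMonomials (Fin n) k).constr k).toLinearMap ∘ₗ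
    LinearMap.pi (fun β => (ft I α β).smulRight (cls I (shift β α)))

theorem Lmap_monomial (f : BC I α → k) (β : Fin n →₀ ℕ) :
    Lmap I α f (monomial β 1) = ft I α β f • cls I (shift β α) := by
  have h := (MvPolynomial.basisMonomials (Fin n) k).constr_basis k
    (fun β' => ft I α β' f • cls I (shift β' α)) β
  rw [MvPolynomial.coe_basisMonomials] at h
  exact h

theorem Lmap_X_mono (hn : 2 ≤ n) (f : BC I α → k) (i : Fin n) (β : Fin n →₀ ℕ)
    (hβ : β ∈ exps I) :
    Lmap I α f (X i * monomial β 1) =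
      (X i : MvPolynomial (Fin n) k) • Lmap I α f (monomial β 1) := by
  have hL : Lmap I α f (X i * monomial β 1) =
      ft I α (Finsupp.single i 1 + β) f • cls I (shift (Finsupp.single i 1 + β) α) := by
    rw [X_mul_mono, Lmap_monomial]
  have hR : (X i : MvPolynomial (Fin n) k) • Lmap I α f (monomial β 1) =
      ft I α β f • cls I (Finsupp.single i 1 + shift β α) := by
    rw [Lmap_monomial, smul_comm, X_smul_cls]
  rw [hL, hR]
  have hβ' : Finsupp.single i 1 + β ∈ exps I := exps_add I hβ _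
  by_cases hnn : ∀ l, 0 ≤ toZ β α l
  · have hs : shift (Finsupp.single i 1 + β) α = Finsupp.single i 1 + shift β α := by
      rw [shift_eq, shift_eq, toZ_single_add, toN_bump _ _ hnn]
    rw [hs]
    by_cases hin : Finsupp.single i 1 + shift β α ∈ exps I
    · rw [cls_eq_zero I hin, smul_zero, smul_zero]
    · have hr' : toZ (Finsupp.single i 1 + β) α ∈ region I α := by
        refine (mem_region_iff I α _).mpr ⟨hβ', fun h => hin ?_⟩
        have h3 := h.2
        rw [hs] at h3
        exact h3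
      have hr : toZ β α ∈ region I α :=
        (mem_region_iff I α _).mpr ⟨hβ, fun h => hin (exps_add I h.2 _)⟩
      rw [ft_bump I α i β hr hr']
  · obtain ⟨l, hl⟩ := not_forall.mp hnn
    have hneg : ∃ l, toZ β α l < 0 := ⟨l, not_le.mp hl⟩
    rw [ft_neg I α hn β hβ hneg, LinearMap.zero_apply, zero_smul]
    by_cases hr' : toZ (Finsupp.single i 1 + β) α ∈ region I α
    · have hr : toZ β α ∈ region I α :=
        (mem_region_iff I α _).mpr ⟨hβ, fun h => hnn h.1⟩
      rw [ft_bump I α i β hr hr', ft_neg I α hn β hβ hneg, LinearMap.zero_apply, zero_smul]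
    · rw [ft_of_not_mem I α _ hr', LinearMap.zero_apply, zero_smul]

theorem Lmap_X_mul (hn : 2 ≤ n) (hI : IsMonomial I) (f : BC I α → k) (i : Fin n)
    (p : MvPolynomial (Fin n) k) (hp : p ∈ I) :
    Lmap I α f (X i * p) = (X i : MvPolynomial (Fin n) k) • Lmap I α f p := by
  have key : ∀ (s : Finset (Fin n →₀ ℕ)) (c : (Fin n →₀ ℕ) → k), (∀ β ∈ s, β ∈ exps I) →
      Lmap I α f (X i * ∑ β ∈ s, c β • monomial β (1 : k)) =
        (X i : MvPolynomial (Fin n) k) • Lmap I α f (∑ β ∈ s, c β • monomial β (1 : k)) := by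
    intro s c hs
    rw [Finset.mul_sum, map_sum, map_sum, Finset.smul_sum]
    refine Finset.sum_congr rfl (fun β hβ => ?_)
    calc Lmap I α f (X i * (c β • monomial β 1))
        = Lmap I α f (c β • (X i * monomial β 1)) := by rw [mul_smul_comm]
      _ = c β • Lmap I α f (X i * monomial β 1) := by rw [map_smul]
      _ = c β • ((X i : MvPolynomial (Fin n) k) • Lmap I α f (monomial β 1)) := by
          rw [Lmap_X_mono I α hn f i β (hs β hβ)]
      _ = (X i : MvPolynomial (Fin n) k) • (c β • Lmap I α f (monomial β 1)) :=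
          smul_comm _ _ _
      _ = (X i : MvPolynomial (Fin n) k) • Lmap I α f (c β • monomial β 1) := by
          rw [map_smul]
  have hp_eq : p = ∑ β ∈ p.support, coeff β p • monomial β (1 : k) :=
    p.as_sum.trans (Finset.sum_congr rfl (fun β _ => by
      rw [MvPolynomial.smul_monomial, smul_eq_mul, mul_one]))
  have h := key p.support (fun β => coeff β p) (fun β hβ => hI p hp β hβ)
  rw [← hp_eq] at h
  exact h

theorem Lmap_mul (hn : 2 ≤ n) (hI : IsMonomial I) (f : BC I α → k)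
    (q : MvPolynomial (Fin n) k) :
    ∀ p ∈ I, Lmap I α f (q * p) = q • Lmap I α f p := by
  induction q using MvPolynomial.induction_on with
  | C a =>
    intro p hp
    have h : (C a : MvPolynomial (Fin n) k) • Lmap I α f p = a • Lmap I α f p := by
      rw [← MvPolynomial.algebraMap_eq]
      exact algebraMap_smul _ a _
    rw [MvPolynomial.C_mul', map_smul, h]
  | add q1 q2 h1 h2 =>
    intro p hp
    rw [add_mul, map_add, h1 p hp, h2 p hp, add_smul]
  | mul_X q i h =>
    intro p hp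
    rw [mul_assoc, h (X i * p) (I.mul_mem_left _ hp), Lmap_X_mul I α hn hI f i p hp, mul_smul]

/-- the homomorphism attached to a function on bounded components -/
noncomputable def PhiHom (hn : 2 ≤ n) (hI : IsMonomial I) (f : BC I α → k) : Tgt I where
  toFun p := Lmap I α f p.1
  map_add' p q := by
    show Lmap I α f (p.1 + q.1) = _
    rw [map_add]
  map_smul' q p := by
    show Lmap I α f (q * p.1) = q • Lmap I α f p.1
    exact Lmap_mul I α hn hI f q p.1 p.2

theorem mem_tPiece_iff (φ : Tgt I) : φ ∈ tPiece I α ↔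
    ∀ (β : Fin n →₀ ℕ) (hβ : monomial β (1 : k) ∈ I),
      ((∀ i, 0 ≤ (β i : ℤ) + α i) →
        φ ⟨monomial β 1, hβ⟩ ∈
          Submodule.span k {Ideal.Quotient.mk I (monomial (shift β α) (1 : k))}) ∧
      ((∃ i, (β i : ℤ) + α i < 0) → φ ⟨monomial β 1, hβ⟩ = 0) := Iff.rfl

theorem PhiHom_mem (hn : 2 ≤ n) (hI : IsMonomial I) (f : BC I α → k) :
    PhiHom I α hn hI f ∈ tPiece I α := by
  rw [mem_tPiece_iff]
  intro β hβ
  have h : PhiHom I α hn hI f ⟨monomial β 1, hβ⟩ = ft I α β f • cls I (shift β α) :=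
    Lmap_monomial I α f β
  refine ⟨fun _ => ?_, fun hneg => ?_⟩
  · rw [h]
    exact Submodule.smul_mem _ _ (Submodule.mem_span_singleton_self _)
  · rw [h, ft_neg I α hn β hβ hneg, LinearMap.zero_apply, zero_smul]

/-- the comparison map -/
noncomputable def PhiLin (hn : 2 ≤ n) (hI : IsMonomial I) :
    (BC I α → k) →ₗ[k] ↥(tPiece I α) where
  toFun f := ⟨PhiHom I α hn hI f, PhiHom_mem I α hn hI f⟩
  map_add' f g := by
    apply Subtype.ext
    apply LinearMap.ext
    intro p
    show Lmap I α (f + g) p.1 = Lmap I α f p.1 + Lmap I α g p.1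
    rw [map_add]
    rfl
  map_smul' c f := by
    apply Subtype.ext
    apply LinearMap.ext
    intro p
    show Lmap I α (c • f) p.1 = c • Lmap I α f p.1
    rw [map_smul]
    rfl

theorem PhiLin_injective (hn : 2 ≤ n) (hI : IsMonomial I) :
    Function.Injective (PhiLin I α hn hI) := by
  refine (injective_iff_map_eq_zero (PhiLin I α hn hI)).mpr ?_
  intro f hf
  funext C
  show f C = 0
  obtain ⟨z, hz⟩ := C.1.nonempty_supp
  have hz' : (RG I α).connectedComponentMk z = C.1 := hz
  obtain ⟨β, hβ, hzβ⟩ := z.2.1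
  have hzβ' : z.1 = toZ β α := hzβ
  have hfin : ((RG I α).connectedComponentMk z).supp.Finite := by
    rw [hz']; exact C.2
  have hnn : ∀ l, 0 ≤ z.1 l := by
    intro l
    by_contra hc
    exact infinite_of_neg I α hn z l (not_le.mp hc) hfin
  have hval := congrArg (fun φ : ↥(tPiece I α) => φ.1 ⟨monomial β 1, hβ⟩) hf
  change Lmap I α f (monomial β 1) = 0 at hval
  rw [Lmap_monomial, ft_eq I α β z hzβ', ftC_apply_of_finite I α _ hfin] at hval
  have hne : cls I (shift β α) ≠ 0 := by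
    apply cls_ne_zero
    intro hmem
    apply z.2.2
    refine ⟨hnn, ?_⟩
    rw [hzβ']
    exact hmem
  rcases smul_eq_zero.mp hval with h | h
  · have e : (⟨(RG I α).connectedComponentMk z, hfin⟩ : BC I α) = C := Subtype.ext hz'
    rw [e] at h
    exact h
  · exact absurd h hne

/-! ### Surjectivity -/

open Classical in
noncomputable def phiT (φ : Tgt I) (p : MvPolynomial (Fin n) k) : MvPolynomial (Fin n) k ⧸ I :=
  if h : p ∈ I then φ ⟨p, h⟩ else 0

theorem phiT_of_mem (φ : Tgt I) (p : MvPolynomial (Fin n) k) (h : p ∈ I) :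
    phiT I φ p = φ ⟨p, h⟩ := dif_pos h

open Classical in
noncomputable def co (φ : Tgt I) (β : Fin n →₀ ℕ) : k :=
  if h : ∃ c : k, phiT I φ (monomial β 1) = c • cls I (shift β α) then h.choose else 0

theorem co_spec (φ : Tgt I) (β : Fin n →₀ ℕ)
    (h : ∃ c : k, phiT I φ (monomial β 1) = c • cls I (shift β α)) :
    phiT I φ (monomial β 1) = co I α φ β • cls I (shift β α) := by
  have e : co I α φ β = h.choose := dif_pos h
  rw [e]
  exact h.choose_spec

theorem phi_eq_co {φ : Tgt I} (hφ : φ ∈ tPiece I α) (β : Fin n →₀ ℕ)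
    (hβ : monomial β (1 : k) ∈ I) (hnn : ∀ l, 0 ≤ toZ β α l) :
    φ ⟨monomial β 1, hβ⟩ = co I α φ β • cls I (shift β α) := by
  have hP := ((mem_tPiece_iff I α φ).mp hφ β hβ).1 hnn
  obtain ⟨c, hc⟩ := Submodule.mem_span_singleton.mp hP
  have hex : ∃ c : k, phiT I φ (monomial β 1) = c • cls I (shift β α) :=
    ⟨c, by rw [phiT_of_mem I φ _ hβ]; exact hc.symm⟩
  have h := co_spec I α φ β hex
  rw [phiT_of_mem I φ _ hβ] at h
  exact h

theorem phi_eq_zero {φ : Tgt I} (hφ : φ ∈ tPiece I α) (β : Fin n →₀ ℕ)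
    (hβ : monomial β (1 : k) ∈ I) (hneg : ∃ l, toZ β α l < 0) :
    φ ⟨monomial β 1, hβ⟩ = 0 := ((mem_tPiece_iff I α φ).mp hφ β hβ).2 hneg

open Classical in
noncomputable def gfun (φ : Tgt I) (x : region I α) : k :=
  if (∀ l, 0 ≤ x.1 l) then co I α φ (back α x.1) else 0

theorem gfun_of_nonneg (φ : Tgt I) (x : region I α) (β : Fin n →₀ ℕ) (hx : x.1 = toZ β α)
    (h : ∀ l, 0 ≤ x.1 l) : gfun I α φ x = co I α φ β := by
  have e : gfun I α φ x = co I α φ (back α x.1) := if_pos h
  rw [e, hx, back_toZ]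

theorem gfun_of_neg (φ : Tgt I) (x : region I α) (h : ¬ ∀ l, 0 ≤ x.1 l) :
    gfun I α φ x = 0 := if_neg h

theorem gfun_bump {φ : Tgt I} (hφ : φ ∈ tPiece I α) (x y : region I α) (i : Fin n)
    (hxy : y.1 = bump x.1 i) : gfun I α φ x = gfun I α φ y := by
  obtain ⟨β, hβ, hx⟩ := x.2.1
  have hx' : x.1 = toZ β α := hx
  have hy' : y.1 = toZ (Finsupp.single i 1 + β) α := by rw [hxy, hx', toZ_single_add]
  have hβ' : Finsupp.single i 1 + β ∈ exps I := exps_add I hβ _
  have hlin : φ ⟨monomial (Finsupp.single i 1 + β) 1, hβ'⟩ =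
      (X i : MvPolynomial (Fin n) k) • φ ⟨monomial β 1, hβ⟩ := by
    have e : (⟨monomial (Finsupp.single i 1 + β) 1, hβ'⟩ : ↥I) =
        (X i : MvPolynomial (Fin n) k) • (⟨monomial β 1, hβ⟩ : ↥I) :=
      Subtype.ext (X_mul_mono i β).symm
    rw [e, map_smul]
  have hycls : (∀ l, 0 ≤ y.1 l) → cls I (shift (Finsupp.single i 1 + β) α) ≠ 0 := by
    intro hnn'
    apply cls_ne_zero
    intro hmem
    apply y.2.2
    refine ⟨hnn', ?_⟩
    rw [hy']
    exact hmem
  by_cases hnn : ∀ l, 0 ≤ x.1 l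
  · have hnn' : ∀ l, 0 ≤ y.1 l := by
      rw [hxy]; exact bump_nonneg x.1 i hnn
    have hnnβ : ∀ l, 0 ≤ toZ β α l := by rw [← hx']; exact hnn
    have hnnβ' : ∀ l, 0 ≤ toZ (Finsupp.single i 1 + β) α l := by rw [← hy']; exact hnn'
    rw [gfun_of_nonneg I α φ x β hx' hnn, gfun_of_nonneg I α φ y _ hy' hnn']
    have h1 := phi_eq_co I α hφ β hβ hnnβ
    have h2 := phi_eq_co I α hφ _ hβ' hnnβ'
    have hs : shift (Finsupp.single i 1 + β) α = Finsupp.single i 1 + shift β α := by
      rw [shift_eq, shift_eq, toZ_single_add, toN_bump _ _ hnnβ]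
    rw [hlin, h1, smul_comm, X_smul_cls, ← hs] at h2
    exact smul_cancel (hycls hnn') h2
  · rw [gfun_of_neg I α φ x hnn]
    by_cases hnn' : ∀ l, 0 ≤ y.1 l
    · have hnnβ' : ∀ l, 0 ≤ toZ (Finsupp.single i 1 + β) α l := by rw [← hy']; exact hnn'
      rw [gfun_of_nonneg I α φ y _ hy' hnn']
      have h2 := phi_eq_co I α hφ _ hβ' hnnβ'
      have hneg : ∃ l, toZ β α l < 0 := by
        obtain ⟨l, hl⟩ := not_forall.mp hnn
        exact ⟨l, by rw [← hx']; exact not_le.mp hl⟩
      rw [hlin, phi_eq_zero I α hφ β hβ hneg, smul_zero] at h2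
      rcases smul_eq_zero.mp h2.symm with h | h
      · exact h.symm
      · exact absurd h (hycls hnn')
    · rw [gfun_of_neg I α φ y hnn']

theorem gfun_adj {φ : Tgt I} (hφ : φ ∈ tPiece I α) (x y : region I α)
    (hadj : (RG I α).Adj x y) : gfun I α φ x = gfun I α φ y := by
  rw [adj_iff] at hadj
  obtain ⟨_, h | h⟩ := hadj
  · obtain ⟨i, hi | hi⟩ := step_cases _ _ h
    · exact gfun_bump I α hφ x y i hi
    · exact (gfun_bump I α hφ y x i hi).symm
  · obtain ⟨i, hi | hi⟩ := step_cases _ _ h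
    · exact (gfun_bump I α hφ y x i hi).symm
    · exact gfun_bump I α hφ x y i hi

theorem gfun_reachable {φ : Tgt I} (hφ : φ ∈ tPiece I α) {x y : region I α}
    (hr : (RG I α).Reachable x y) : gfun I α φ x = gfun I α φ y :=
  const_of_reachable (gfun I α φ) (gfun_adj I α hφ) hr

/-- the function on bounded components attached to `φ` -/
noncomputable def fsol (φ : Tgt I) : BC I α → k :=
  fun C => gfun I α φ C.1.nonempty_supp.some

theorem ftC_fsol (hI : IsMonomial I) [Module.Finite k (MvPolynomial (Fin n) k ⧸ I)]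
    {φ : Tgt I} (hφ : φ ∈ tPiece I α) (x : region I α) :
    ftC I α ((RG I α).connectedComponentMk x) (fsol I α φ) = gfun I α φ x := by
  by_cases hfin : ((RG I α).connectedComponentMk x).supp.Finite
  · rw [ftC_apply_of_finite I α _ hfin]
    show gfun I α φ ((RG I α).connectedComponentMk x).nonempty_supp.some = gfun I α φ x
    apply gfun_reachable I α hφ
    have hsm : (RG I α).connectedComponentMk
        ((RG I α).connectedComponentMk x).nonempty_supp.some =
        (RG I α).connectedComponentMk x :=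
      ((RG I α).connectedComponentMk x).nonempty_supp.some_mem
    exact SimpleGraph.ConnectedComponent.exact hsm
  · rw [ftC_of_infinite I α _ hfin, LinearMap.zero_apply]
    by_contra hne
    apply hfin
    apply finite_of_nonneg I α hI
    intro z hz l
    by_contra hneg
    have hz0 : gfun I α φ z = 0 := gfun_of_neg I α φ z (fun h => hneg (h l))
    have hzm : (RG I α).connectedComponentMk z = (RG I α).connectedComponentMk x := hz
    have hzx : gfun I α φ z = gfun I α φ x :=
      gfun_reachable I α hφ (SimpleGraph.ConnectedComponent.exact hzm)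
    exact hne (by rw [← hzx, hz0])

theorem decomp (hI : IsMonomial I) (p : MvPolynomial (Fin n) k) (hp : p ∈ I) :
    (⟨p, hp⟩ : ↥I) = ∑ β ∈ p.support.attach,
      (C (coeff β.1 p) : MvPolynomial (Fin n) k) •
        (⟨monomial β.1 1, hI p hp β.1 β.2⟩ : ↥I) := by
  apply Subtype.ext
  rw [Submodule.coe_sum]
  have h : ∀ β : {x // x ∈ p.support},
      (((C (coeff β.1 p) : MvPolynomial (Fin n) k) •
        (⟨monomial β.1 1, hI p hp β.1 β.2⟩ : ↥I) : ↥I) : MvPolynomial (Fin n) k)
        = monomial β.1 (coeff β.1 p) := by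
    intro β
    show (C (coeff β.1 p) : MvPolynomial (Fin n) k) * monomial β.1 1 =
      monomial β.1 (coeff β.1 p)
    rw [MvPolynomial.C_mul_monomial, mul_one]
  simp only [h]
  rw [Finset.sum_attach p.support (fun β => monomial β (coeff β p))]
  exact p.as_sum

theorem hom_ext_mono (hI : IsMonomial I) (ψ1 ψ2 : Tgt I)
    (h : ∀ (β : Fin n →₀ ℕ) (hβ : monomial β (1 : k) ∈ I),
      ψ1 ⟨monomial β 1, hβ⟩ = ψ2 ⟨monomial β 1, hβ⟩) : ψ1 = ψ2 := by
  apply LinearMap.ext
  rintro ⟨p, hp⟩
  have hd := decomp I hI p hp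
  have e : ∀ ψ : Tgt I, ψ ⟨p, hp⟩ = ∑ β ∈ p.support.attach,
      (C (coeff β.1 p) : MvPolynomial (Fin n) k) •
        ψ ⟨monomial β.1 1, hI p hp β.1 β.2⟩ := by
    intro ψ
    refine (congrArg ψ hd).trans ?_
    rw [map_sum]
    refine Finset.sum_congr rfl (fun β _ => ?_)
    rw [map_smul]
  rw [e ψ1, e ψ2]
  exact Finset.sum_congr rfl (fun β _ => by rw [h])

theorem PhiLin_surjective (hn : 2 ≤ n) (hI : IsMonomial I)
    [Module.Finite k (MvPolynomial (Fin n) k ⧸ I)] :
    Function.Surjective (PhiLin I α hn hI) := by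
  rintro ⟨φ, hφ⟩
  refine ⟨fsol I α φ, ?_⟩
  apply Subtype.ext
  show PhiHom I α hn hI (fsol I α φ) = φ
  apply hom_ext_mono I hI
  intro β hβ
  have h : PhiHom I α hn hI (fsol I α φ) ⟨monomial β 1, hβ⟩ =
      ft I α β (fsol I α φ) • cls I (shift β α) := Lmap_monomial I α _ β
  rw [h]
  by_cases hr : toZ β α ∈ region I α
  · rw [ft_eq I α β ⟨toZ β α, hr⟩ rfl, ftC_fsol I α hI hφ]
    by_cases hnn : ∀ l, 0 ≤ toZ β α l
    · rw [gfun_of_nonneg I α φ ⟨toZ β α, hr⟩ β rfl hnn, phi_eq_co I α hφ β hβ hnn]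
    · obtain ⟨l, hl⟩ := not_forall.mp hnn
      rw [gfun_of_neg I α φ ⟨toZ β α, hr⟩ hnn, zero_smul,
        phi_eq_zero I α hφ β hβ ⟨l, not_le.mp hl⟩]
  · rw [ft_of_not_mem I α β hr, LinearMap.zero_apply, zero_smul]
    have hh := (mem_region_iff I α β).not.mp hr
    have h2 : (∀ i, 0 ≤ toZ β α i) ∧ shift β α ∈ exps I := by
      by_contra hc
      exact hh ⟨hβ, hc⟩
    rw [phi_eq_co I α hφ β hβ h2.1, cls_eq_zero I h2.2, smul_zero]

end ideal

theorem main13452 (k : Type u) [Field k] [Infinite k] (n : ℕ) (hn : 2 ≤ n)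
    (I : Ideal (MvPolynomial (Fin n) k)) (hI : IsMonomial I)
    [Module.Finite k (MvPolynomial (Fin n) k ⧸ I)]
    (α : Fin n → ℤ) :
    Module.finrank k ↥(tPiece I α) = nBddComp I α := by
  haveI : Finite (BC I α) := finite_BC I α hn hI
  haveI : Fintype (BC I α) := Fintype.ofFinite _
  have e : (BC I α → k) ≃ₗ[k] ↥(tPiece I α) :=
    LinearEquiv.ofBijective (PhiLin I α hn hI)
      ⟨PhiLin_injective I α hn hI, PhiLin_surjective I α hn hI⟩
  rw [← e.finrank_eq, Module.finrank_fintype_fun_eq_card]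
  show Fintype.card (BC I α) = Nat.card (BC I α)
  exact Nat.card_eq_fintype_card.symm

end Groth.Agent.Lib.Helper29.BddComp
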