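import Groth.Agent.Lib.Helper29.InvFun
import Groth.Prelude.Def_Magnet3
import Groth.Prelude.Def_QuotSh

/-!
# Helper library (helper29): sheaves on the big sites of `S`

* `isSheaf_J_of_forall`: a presheaf on `Over S` is a sheaf for `QuotSh.J K S` as soon as it satisfies the sheaf
  condition for the families of `Over S` whose underlying families are `K`-coverings.
* `main18294`: the functor of equivariant maps `T ↦ Hom_A(B × T, X)` is an fppf sheaf.
-/

set_option autoImplicit false
set_option maxHeartbeats 1600000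
universe u w
open CategoryTheory CategoryTheory.Limits AlgebraicGeometry MonoidalCategory CartesianMonoidalCategory

namespace Groth.Agent.Lib.Helper29.BigSheaf

open Groth.Agent.Lib.Helper29.InvFun Groth.Agent.Lib.Helper29.TorsorMisc

theorem isSheaf_J_of_forall (K : Precoverage Scheme.{u}) [K.HasPullbacks]
    [K.IsStableUnderBaseChange] (S : Scheme.{u}) (P : (Over S)ᵒᵖ ⥤ Type w)
    (h : ∀ (T : Over S) (R : Presieve T), R.map (Over.forget S) ∈ K T.left →
      Presieve.IsSheafFor P R) :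
    Presheaf.IsSheaf (QuotSh.J K S) P := by
  rw [isSheaf_iff_isSheaf_of_type]
  show Presieve.IsSheaf ((K.toGrothendieck).over S) P
  rw [over_toGrothendieck_eq_toGrothendieck_comap_forget,
    Precoverage.isSheaf_toGrothendieck_iff_of_isStableUnderBaseChange]
  intro T R hR
  exact h T R hR

/-- The functor of equivariant maps satisfies the sheaf condition for every family of `Over S` whose underlying
family is an fpqc covering. -/
theorem eqvHom_isSheafFor (S : Scheme.{u}) (A B X : Over S) [MonObj A] (ρ : Magnet.MonAct A B)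
    (a : Magnet.MonAct A X) (T : Over S) (R : Presieve T)
    (hR : R.map (Over.forget S) ∈ Scheme.fpqcPrecoverage T.left) :
    Presieve.IsSheafFor (Magnet.MonAct.eqvHom ρ a) R := by
  obtain ⟨J, Z, g, rfl⟩ := R.exists_eq_ofArrows
  have hcov : Presieve.ofArrows (fun i => (Z i).left) (fun i => (g i).left) ∈
      Scheme.fpqcPrecoverage T.left := by
    have h := hR
    rw [Presieve.map_ofArrows] at h
    exact h
  have hcovB : Presieve.ofArrows (fun i => (B ⊗ Z i).left) (fun i => (B ◁ g i).left) ∈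
      Scheme.fpqcPrecoverage (B ⊗ T).left :=
    Precoverage.mem_coverings_of_isPullback (fun i => (g i).left) hcov (snd B T).left
      (fun i => (B ◁ g i).left) (fun i => (snd B (Z i)).left)
      (fun i => (isPullback_whiskerLeft_snd B (g i)).map (Over.forget S))
  have hcovAB : Presieve.ofArrows (fun i => (A ⊗ (B ⊗ Z i)).left)
      (fun i => (A ◁ (B ◁ g i)).left) ∈ Scheme.fpqcPrecoverage (A ⊗ (B ⊗ T)).left :=
    Precoverage.mem_coverings_of_isPullback (fun i => (B ◁ g i).left) hcovB (snd A (B ⊗ T)).left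
      (fun i => (A ◁ (B ◁ g i)).left) (fun i => (snd A (B ⊗ Z i)).left)
      (fun i => (isPullback_whiskerLeft_snd A (B ◁ g i)).map (Over.forget S))
  rw [Presieve.isSheafFor_arrows_iff]
  intro x hx
  have hx' : ∀ (i j : J) (W : Over S) (p : W ⟶ Z i) (q : W ⟶ Z j), p ≫ g i = q ≫ g j →
      (B ◁ p) ≫ (x i).1 = (B ◁ q) ≫ (x j).1 := by
    intro i j W p q hpq
    exact congrArg Subtype.val (hx i j W p q hpq)
  obtain ⟨φ₀, hφ₀⟩ := fpqc_glue' X.left (fun i => (B ◁ g i).left) hcovB
    (fun i => (x i).1.left) (by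
    intro i j W p q hpq
    have hw : p ≫ (B ⊗ Z i).hom = q ≫ (B ⊗ Z j).hom := by
      rw [← Over.w (B ◁ g i), ← Over.w (B ◁ g j), ← Category.assoc, hpq, Category.assoc]
    let W' : Over S := Over.mk (p ≫ (B ⊗ Z i).hom)
    let p' : W' ⟶ B ⊗ Z i := Over.homMk p rfl
    let q' : W' ⟶ B ⊗ Z j := Over.homMk q hw.symm
    have hpq' : p' ≫ (B ◁ g i) = q' ≫ (B ◁ g j) := Over.OverMorphism.ext hpq
    have hb : p' ≫ fst B (Z i) = q' ≫ fst B (Z j) := by
      have := congrArg (fun k => k ≫ fst B T) hpq'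
      simpa only [Category.assoc, whiskerLeft_fst] using this
    have hz : (p' ≫ snd B (Z i)) ≫ g i = (q' ≫ snd B (Z j)) ≫ g j := by
      have := congrArg (fun k => k ≫ snd B T) hpq'
      simpa only [Category.assoc, whiskerLeft_snd] using this
    have h1 := hx' i j W' (p' ≫ snd B (Z i)) (q' ≫ snd B (Z j)) hz
    have ep : p' = lift (p' ≫ fst B (Z i)) (𝟙 W') ≫ (B ◁ (p' ≫ snd B (Z i))) := by
      apply CartesianMonoidalCategory.hom_ext
      · rw [Category.assoc, whiskerLeft_fst, lift_fst]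
      · rw [Category.assoc, whiskerLeft_snd, ← Category.assoc, lift_snd, Category.id_comp]
    have eq' : q' = lift (p' ≫ fst B (Z i)) (𝟙 W') ≫ (B ◁ (q' ≫ snd B (Z j))) := by
      apply CartesianMonoidalCategory.hom_ext
      · rw [Category.assoc, whiskerLeft_fst, lift_fst, hb]
      · rw [Category.assoc, whiskerLeft_snd, ← Category.assoc, lift_snd, Category.id_comp]
    have h2 : p' ≫ (x i).1 = q' ≫ (x j).1 := by
      calc p' ≫ (x i).1
          = (lift (p' ≫ fst B (Z i)) (𝟙 W') ≫ (B ◁ (p' ≫ snd B (Z i)))) ≫ (x i).1 := by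
            rw [← ep]
        _ = (lift (p' ≫ fst B (Z i)) (𝟙 W') ≫ (B ◁ (q' ≫ snd B (Z j)))) ≫ (x j).1 := by
            rw [Category.assoc, Category.assoc, h1]
        _ = q' ≫ (x j).1 := by rw [← eq']
    exact congrArg (fun k => k.left) h2)
  have hφ₀w : φ₀ ≫ X.hom = (B ⊗ T).hom := by
    refine fpqc_sep' S (fun i => (B ◁ g i).left) hcovB _ _ (fun i => ?_)
    rw [← Category.assoc, hφ₀ i, Over.w (x i).1, Over.w (B ◁ g i)]
  let φ : B ⊗ T ⟶ X := Over.homMk φ₀ hφ₀w
  have hφ : ∀ i, (B ◁ g i) ≫ φ = (x i).1 := fun i => Over.OverMorphism.ext (hφ₀ i)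
  have hφeq : Magnet.MonAct.IsEquivariant (ρ.prod (Magnet.MonAct.trivial A T)) a φ := by
    unfold Magnet.MonAct.IsEquivariant
    apply Over.OverMorphism.ext
    refine fpqc_sep' X.left (fun i => (A ◁ (B ◁ g i)).left) hcovAB _ _ (fun i => ?_)
    have e : (A ◁ (B ◁ g i)) ≫ (ρ.prod (Magnet.MonAct.trivial A T)).act ≫ φ =
        (A ◁ (B ◁ g i)) ≫ (A ◁ φ) ≫ a.act := by
      have hxi : Magnet.MonAct.IsEquivariant (ρ.prod (Magnet.MonAct.trivial A (Z i))) a (x i).1 :=
        (x i).2
      unfold Magnet.MonAct.IsEquivariant at hxi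
      rw [← Magnet.MonAct.prod_trivial_act_whiskerLeft_assoc ρ (g i) φ, hφ i, hxi, ← hφ i,
        MonoidalCategory.whiskerLeft_comp, Category.assoc]
    exact congrArg (fun k => k.left) e
  refine ⟨⟨φ, hφeq⟩, fun i => Subtype.ext (hφ i), fun t ht => ?_⟩
  apply Subtype.ext
  apply Over.OverMorphism.ext
  refine fpqc_sep' X.left (fun i => (B ◁ g i).left) hcovB _ _ (fun i => ?_)
  have h3 : (B ◁ g i) ≫ t.1 = (x i).1 := congrArg Subtype.val (ht i)
  have e : (B ◁ g i) ≫ t.1 = (B ◁ g i) ≫ φ := h3.trans (hφ i).symm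
  exact congrArg (fun k => k.left) e

theorem main18294 (S : Scheme.{u}) (A B X : Over S) [MonObj A] (ρ : Magnet.MonAct A B)
    (a : Magnet.MonAct A X) :
    Presheaf.IsSheaf (QuotSh.J Scheme.fppfPrecoverage S) (Magnet.MonAct.eqvHom ρ a) := by
  apply isSheaf_J_of_forall
  intro T R hR
  exact eqvHom_isSheafFor S A B X ρ a T R (Scheme.fppfPrecoverage_le_fpqcPrecoverage _ hR)

end Groth.Agent.Lib.Helper29.BigSheaf
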