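import Mathlib
import Groth.Agent.Lib.Helper29.BinomGcd

set_option autoImplicit false

namespace Groth.Agent.Lib.Helper29.BinomGcd2

open Groth.Agent.Lib.Helper29.BinomGcd

lemma chi_step (d0 n0 : ℕ) :
    (1 - (-1 : ℤ) ^ (n0 + 1) * ((d0.choose (n0 + 1) : ℕ) : ℤ))
      = (1 - (-1 : ℤ) ^ n0 * ((d0.choose n0 : ℕ) : ℤ))
        - (-1 : ℤ) ^ (n0 + 1) * (((d0 + 1).choose (n0 + 1) : ℕ) : ℤ) := by
  rw [Nat.choose_succ_succ', pow_succ]
  push_cast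
  ring

lemma chi_zero (d0 : ℕ) : (1 - (-1 : ℤ) ^ 0 * ((d0.choose 0 : ℕ) : ℤ)) = 0 := by simp

lemma T (d0 N : ℕ) (z : ℤ) :
    (∀ n ∈ Finset.Icc 1 N, z ∣ 1 - (-1 : ℤ) ^ n * ((d0.choose n : ℕ) : ℤ)) ↔
    (∀ n ∈ Finset.Icc 1 N, z ∣ (((d0 + 1).choose n : ℕ) : ℤ)) := by
  constructor
  · intro h n hn
    rw [Finset.mem_Icc] at hn
    obtain ⟨n0, rfl⟩ : ∃ n0, n = n0 + 1 := ⟨n - 1, by omega⟩
    have h1 : z ∣ 1 - (-1 : ℤ) ^ (n0 + 1) * ((d0.choose (n0 + 1) : ℕ) : ℤ) :=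
      h (n0 + 1) (Finset.mem_Icc.mpr ⟨by omega, hn.2⟩)
    have h0 : z ∣ 1 - (-1 : ℤ) ^ n0 * ((d0.choose n0 : ℕ) : ℤ) := by
      rcases Nat.eq_zero_or_pos n0 with rfl | hpos
      · rw [chi_zero]; exact dvd_zero z
      · exact h n0 (Finset.mem_Icc.mpr ⟨hpos, by omega⟩)
    have h2 : z ∣ (-1 : ℤ) ^ (n0 + 1) * (((d0 + 1).choose (n0 + 1) : ℕ) : ℤ) := by
      have e : (-1 : ℤ) ^ (n0 + 1) * (((d0 + 1).choose (n0 + 1) : ℕ) : ℤ)
          = (1 - (-1 : ℤ) ^ n0 * ((d0.choose n0 : ℕ) : ℤ))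
            - (1 - (-1 : ℤ) ^ (n0 + 1) * ((d0.choose (n0 + 1) : ℕ) : ℤ)) := by
        linear_combination chi_step d0 n0
      rw [e]; exact dvd_sub h0 h1
    have e2 : (((d0 + 1).choose (n0 + 1) : ℕ) : ℤ)
        = (-1 : ℤ) ^ (n0 + 1) * ((-1 : ℤ) ^ (n0 + 1) * (((d0 + 1).choose (n0 + 1) : ℕ) : ℤ)) := by
      rw [← mul_assoc, ← mul_pow]; norm_num
    rw [e2]; exact Dvd.dvd.mul_left h2 _
  · intro h
    have key : ∀ n, n ≤ N → z ∣ 1 - (-1 : ℤ) ^ n * ((d0.choose n : ℕ) : ℤ) := by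
      intro n
      induction n with
      | zero => intro _; rw [chi_zero]; exact dvd_zero z
      | succ n0 ih =>
        intro hn
        rw [chi_step]
        exact dvd_sub (ih (by omega))
          (Dvd.dvd.mul_left (h (n0 + 1) (Finset.mem_Icc.mpr ⟨by omega, hn⟩)) _)
    intro n hn
    exact key n (Finset.mem_Icc.mp hn).2

lemma not_dvd_choose_pred (p : ℕ) [Fact p.Prime] (m d : ℕ) (hd : 1 ≤ d) (hpd : p ^ m ∣ d) :
    ¬ p ∣ Nat.choose (d - 1) (p ^ m - 1) := by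
  have hp := (Fact.out : p.Prime)
  obtain ⟨d', hd'⟩ := hpd
  obtain ⟨d'', rfl⟩ : ∃ d'', d' = d'' + 1 := ⟨d' - 1, by
    rcases Nat.eq_zero_or_pos d' with h | h
    · rw [h, mul_zero] at hd'; omega
    · omega⟩
  have hpm : 1 ≤ p ^ m := Nat.one_le_pow _ _ hp.pos
  have e : d - 1 = p ^ m * d'' + (p ^ m - 1) := by
    have : d = p ^ m * d'' + p ^ m := by rw [hd']; ring
    omega
  rw [e]
  intro hdiv
  have h1 := choose_pow_mul_add_modEq p m d'' (p ^ m - 1) (by omega)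
  have h2 : Nat.choose (p ^ m * d'' + (p ^ m - 1)) (p ^ m - 1) ≡ 0 [MOD p] :=
    (Nat.modEq_zero_iff_dvd).mpr hdiv
  have h3 : 1 ≡ 0 [MOD p] := h1.symm.trans h2
  have := (Nat.modEq_zero_iff_dvd).mp h3
  exact hp.one_lt.ne' (Nat.dvd_one.mp this)

lemma lemA (p : ℕ) [Fact p.Prime] (k d N : ℕ) (hd : 1 ≤ d)
    (h : ∀ n, 1 ≤ n → n ≤ N → p ^ k ∣ d.choose n) (δ : ℕ) (hδ1 : 1 ≤ δ) (hδN : δ ≤ N)
    (hδd : δ ∣ d) : p ^ k ∣ d / δ := by
  have hp := (Fact.out : p.Prime)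
  obtain ⟨m, hm⟩ : ∃ m, m = padicValNat p δ := ⟨_, rfl⟩
  have hpmδ : p ^ m ∣ δ := by rw [hm]; exact pow_padicValNat_dvd
  have hpm1 : 1 ≤ p ^ m := Nat.one_le_pow _ _ hp.pos
  have hpmδle : p ^ m ≤ δ := Nat.le_of_dvd (by omega) hpmδ
  have hpmd : p ^ m ∣ d := hpmδ.trans hδd
  have hpmdle : p ^ m ≤ d := Nat.le_of_dvd (by omega) hpmd
  have hC := h (p ^ m) hpm1 (by omega)
  have hCne : d.choose (p ^ m) ≠ 0 := (Nat.choose_pos hpmdle).ne'
  have hnd := not_dvd_choose_pred p m d hd hpmd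
  have hC'ne : (d - 1).choose (p ^ m - 1) ≠ 0 := (Nat.choose_pos (by omega)).ne'
  have heq : d * (d - 1).choose (p ^ m - 1) = d.choose (p ^ m) * p ^ m := by
    have := Nat.add_one_mul_choose_eq (d - 1) (p ^ m - 1)
    rw [Nat.sub_add_cancel hd, Nat.sub_add_cancel hpm1] at this
    exact this
  have hv := congrArg (padicValNat p) heq
  rw [padicValNat.mul (by omega) hC'ne, padicValNat.mul hCne (by omega),
    padicValNat.eq_zero_of_not_dvd hnd, padicValNat.prime_pow, add_zero] at hv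
  have hk : k ≤ padicValNat p (d.choose (p ^ m)) := (padicValNat_dvd_iff_le hCne).mp hC
  have hq : d / δ ≠ 0 := (Nat.div_pos (Nat.le_of_dvd (by omega) hδd) (by omega)).ne'
  have hv2 := congrArg (padicValNat p) (Nat.mul_div_cancel' hδd)
  rw [padicValNat.mul (by omega) hq, ← hm] at hv2
  rw [padicValNat_dvd_iff_le hq]
  omega

lemma lemB (p : ℕ) [Fact p.Prime] (k d N : ℕ) (hd : 1 ≤ d)
    (h : ∀ δ, 1 ≤ δ → δ ≤ N → δ ∣ d → p ^ k ∣ d / δ) (n : ℕ) (hn1 : 1 ≤ n) (hnN : n ≤ N) :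
    p ^ k ∣ d.choose n := by
  have hp := (Fact.out : p.Prime)
  rcases lt_or_ge d n with hlt | hle
  · rw [Nat.choose_eq_zero_of_lt hlt]; exact dvd_zero _
  have hCne : d.choose n ≠ 0 := (Nat.choose_pos hle).ne'
  have hC'ne : (d - 1).choose (n - 1) ≠ 0 := (Nat.choose_pos (by omega)).ne'
  have heq : d * (d - 1).choose (n - 1) = d.choose n * n := by
    have := Nat.add_one_mul_choose_eq (d - 1) (n - 1)
    rw [Nat.sub_add_cancel hd, Nat.sub_add_cancel hn1] at this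
    exact this
  have hv := congrArg (padicValNat p) heq
  rw [padicValNat.mul (by omega) hC'ne, padicValNat.mul hCne (by omega)] at hv
  rw [padicValNat_dvd_iff_le hCne]
  obtain ⟨t, ht⟩ : ∃ t, t = padicValNat p n := ⟨_, rfl⟩
  obtain ⟨e, he⟩ : ∃ e, e = padicValNat p d := ⟨_, rfl⟩
  rw [← ht, ← he] at hv
  have key : ∀ μ, μ ≤ t → μ ≤ e → k ≤ e - μ := by
    intro μ hμt hμe
    have h1 : p ^ μ ∣ n := (pow_dvd_pow p hμt).trans (by rw [ht]; exact pow_padicValNat_dvd)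
    have h2 : p ^ μ ∣ d := (pow_dvd_pow p hμe).trans (by rw [he]; exact pow_padicValNat_dvd)
    have h3 : p ^ μ ≤ n := Nat.le_of_dvd (by omega) h1
    have h4 : 1 ≤ p ^ μ := Nat.one_le_pow _ _ hp.pos
    have h5 := h (p ^ μ) h4 (by omega) h2
    have h6 : d / p ^ μ ≠ 0 := (Nat.div_pos (Nat.le_of_dvd (by omega) h2) (by omega)).ne'
    rw [padicValNat_dvd_iff_le h6, padicValNat.div_pow h2, ← he] at h5
    exact h5
  rcases le_total t e with hte | hte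
  · have := key t le_rfl hte
    omega
  · have := key e hte le_rfl
    omega

lemma int_dvd_cast (z : ℤ) (m : ℕ) : z ∣ (m : ℤ) ↔ z.natAbs ∣ m := by
  rw [← Int.natAbs_dvd, Int.natCast_dvd_natCast]

lemma nat_equiv (d N : ℕ) (hd : 1 ≤ d) (z : ℕ) :
    (∀ n ∈ Finset.Icc 1 N, z ∣ d.choose n) ↔
    (∀ δ ∈ (Finset.Icc 1 N).filter (fun δ => δ ∣ d), z ∣ d / δ) := by
  constructor
  · intro h δ hδ
    rw [Finset.mem_filter, Finset.mem_Icc] at hδ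
    rw [Nat.dvd_iff_prime_pow_dvd_dvd]
    intro p k hp hpk
    haveI : Fact p.Prime := ⟨hp⟩
    exact lemA p k d N hd
      (fun n hn1 hnN => hpk.trans (h n (Finset.mem_Icc.mpr ⟨hn1, hnN⟩))) δ hδ.1.1 hδ.1.2 hδ.2
  · intro h n hn
    rw [Finset.mem_Icc] at hn
    rw [Nat.dvd_iff_prime_pow_dvd_dvd]
    intro p k hp hpk
    haveI : Fact p.Prime := ⟨hp⟩
    exact lemB p k d N hd
      (fun δ h1 h2 h3 => hpk.trans
        (h δ (Finset.mem_filter.mpr ⟨Finset.mem_Icc.mpr ⟨h1, h2⟩, h3⟩))) n hn.1 hn.2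

theorem main17781 (d N : ℕ) (hd : 1 ≤ d) (hN : 1 ≤ N) :
    (Finset.Icc 1 N).gcd (fun n => 1 - (-1 : ℤ) ^ n * ((d - 1).choose n : ℤ)) =
      ((Finset.Icc 1 N).filter (fun δ => δ ∣ d)).gcd (fun δ => ((d / δ : ℕ) : ℤ)) := by
  have key : ∀ z : ℤ,
      z ∣ (Finset.Icc 1 N).gcd (fun n => 1 - (-1 : ℤ) ^ n * ((d - 1).choose n : ℤ)) ↔
      z ∣ ((Finset.Icc 1 N).filter (fun δ => δ ∣ d)).gcd (fun δ => ((d / δ : ℕ) : ℤ)) := by
    intro z
    rw [Finset.dvd_gcd_iff, Finset.dvd_gcd_iff]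
    beta_reduce
    obtain ⟨d0, rfl⟩ : ∃ d0, d = d0 + 1 := ⟨d - 1, by omega⟩
    rw [Nat.add_sub_cancel, T d0 N z]
    have := nat_equiv (d0 + 1) N hd z.natAbs
    simp only [int_dvd_cast]
    exact this
  apply dvd_antisymm_of_normalize_eq (Finset.normalize_gcd) (Finset.normalize_gcd)
  · exact (key _).mp dvd_rfl
  · exact (key _).mpr dvd_rfl

end Groth.Agent.Lib.Helper29.BinomGcd2
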