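import Mathlib
import Groth.Prelude.Def_W4c1nerontoraddGraph

set_option autoImplicit false
universe u

namespace Groth.Agent.Lib.Helper29.BlowupGraph

open LabGraph

variable {V E : Type u} [Fintype V] [Fintype E] [DecidableEq V] [DecidableEq E]
variable (ends : E → V × V) (l : E → ℕ)

lemma pv_zero (e : E) : pathVert ends l e 0 = Sum.inl (ends e).1 := by
  unfold pathVert; rw [dif_pos rfl]

lemma pv_top (e : E) (j : ℕ) (hj0 : j ≠ 0) (hj : l e ≤ j) :
    pathVert ends l e j = Sum.inl (ends e).2 := by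
  unfold pathVert
  rw [dif_neg hj0, dif_neg (by omega)]

lemma pv_mid (e : E) (j : ℕ) (hj0 : j ≠ 0) (hj : j < l e) :
    pathVert ends l e j = Sum.inr ⟨e, ⟨j - 1, by omega⟩⟩ := by
  unfold pathVert
  rw [dif_neg hj0, dif_pos hj]

lemma pv_eq_inr_iff (e' : E) (k : ℕ) (e : E) (i : ℕ) (hi : i < l e - 1) :
    pathVert ends l e' k = Sum.inr ⟨e, ⟨i, hi⟩⟩ ↔ e' = e ∧ k = i + 1 := by
  constructor
  · intro h
    by_cases hk0 : k = 0
    · rw [hk0, pv_zero] at h; exact absurd h Sum.inl_ne_inr
    · by_cases hk : k < l e'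
      · rw [pv_mid ends l e' k hk0 hk] at h
        have h1 := Sum.inr.inj h
        obtain ⟨h2, h3⟩ := Sigma.mk.inj_iff.mp h1
        subst h2
        have h4 := eq_of_heq h3
        have h5 := congrArg Fin.val h4
        simp only at h5
        exact ⟨rfl, by omega⟩
      · rw [pv_top ends l e' k hk0 (by omega)] at h; exact absurd h Sum.inl_ne_inr
  · rintro ⟨rfl, rfl⟩
    rw [pv_mid ends l e' (i + 1) (by omega) (by omega)]
    simp

lemma pv_eq_inl_iff_lt (e' : E) (k : ℕ) (hk : k < l e') (v : V) :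
    pathVert ends l e' k = Sum.inl v ↔ k = 0 ∧ (ends e').1 = v := by
  constructor
  · intro h
    by_cases hk0 : k = 0
    · rw [hk0, pv_zero] at h; exact ⟨hk0, Sum.inl.inj h⟩
    · rw [pv_mid ends l e' k hk0 hk] at h; exact absurd h Sum.inr_ne_inl
  · rintro ⟨rfl, rfl⟩; exact pv_zero ends l e'

lemma pv_succ_eq_inl_iff (e' : E) (k : ℕ) (hk : k < l e') (v : V) :
    pathVert ends l e' (k + 1) = Sum.inl v ↔ k + 1 = l e' ∧ (ends e').2 = v := by
  constructor
  · intro h
    by_cases hk1 : k + 1 < l e'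
    · rw [pv_mid ends l e' (k + 1) (by omega) hk1] at h; exact absurd h Sum.inr_ne_inl
    · rw [pv_top ends l e' (k + 1) (by omega) (by omega)] at h
      exact ⟨by omega, Sum.inl.inj h⟩
  · rintro ⟨h1, rfl⟩; exact pv_top ends l e' (k + 1) (by omega) (by omega)

lemma mdeg_new (ψ : BlVert V E l → ℤ) (e : E) (i : ℕ) (hi : i < l e - 1) :
    mdeg (blEnds ends l) (fun _ => 1) ψ (Sum.inr ⟨e, ⟨i, hi⟩⟩)
      = (ψ (pathVert ends l e (i + 2)) - ψ (pathVert ends l e (i + 1)))
        + (ψ (pathVert ends l e i) - ψ (pathVert ends l e (i + 1))) := by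
  unfold mdeg
  rw [Finset.sum_add_distrib]
  congr 1
  · rw [Finset.sum_eq_single (⟨e, ⟨i + 1, by omega⟩⟩ : BlEdge E l)]
    · simp only [blEnds]
      rw [if_pos ((pv_eq_inr_iff ends l e (i + 1) e i hi).mpr ⟨rfl, rfl⟩)]
      simp
    · intro p _ hp
      rw [if_neg]
      intro h
      apply hp
      obtain ⟨h1, h2⟩ := (pv_eq_inr_iff ends l p.1 p.2.val e i hi).mp h
      obtain ⟨pe, pk⟩ := p
      simp only at h1 h2
      subst h1
      congr 1
      exact Fin.ext h2
    · intro h; exact absurd (Finset.mem_univ _) h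
  · rw [Finset.sum_eq_single (⟨e, ⟨i, by omega⟩⟩ : BlEdge E l)]
    · simp only [blEnds]
      rw [if_pos ((pv_eq_inr_iff ends l e (i + 1) e i hi).mpr ⟨rfl, rfl⟩)]
      simp
    · intro p _ hp
      rw [if_neg]
      intro h
      apply hp
      obtain ⟨h1, h2⟩ := (pv_eq_inr_iff ends l p.1 (p.2.val + 1) e i hi).mp h
      obtain ⟨pe, pk⟩ := p
      simp only at h1 h2
      subst h1
      congr 1
      exact Fin.ext (by simp only; omega)
    · intro h; exact absurd (Finset.mem_univ _) h

lemma mdeg_old (hl : ∀ e, 0 < l e) (ψ : BlVert V E l → ℤ) (v : V) :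
    mdeg (blEnds ends l) (fun _ => 1) ψ (Sum.inl v)
      = ∑ e : E, ((if (ends e).1 = v then
            ψ (pathVert ends l e 1) - ψ (pathVert ends l e 0) else 0)
          + (if (ends e).2 = v then
            ψ (pathVert ends l e (l e - 1)) - ψ (pathVert ends l e (l e)) else 0)) := by
  unfold mdeg
  rw [Fintype.sum_sigma]
  refine Finset.sum_congr rfl fun e _ => ?_
  rw [Finset.sum_add_distrib]
  congr 1
  · by_cases hv : (ends e).1 = v
    · rw [if_pos hv, Finset.sum_eq_single (⟨0, hl e⟩ : Fin (l e))]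
      · simp only [blEnds]
        rw [if_pos ((pv_eq_inl_iff_lt ends l e 0 (hl e) v).mpr ⟨rfl, hv⟩)]
        simp
      · intro k _ hk
        rw [if_neg]
        intro h
        apply hk
        have := ((pv_eq_inl_iff_lt ends l e k.val k.2 v).mp h).1
        exact Fin.ext this
      · intro h; exact absurd (Finset.mem_univ _) h
    · rw [if_neg hv]
      apply Finset.sum_eq_zero
      intro k _
      rw [if_neg]
      intro h
      exact hv ((pv_eq_inl_iff_lt ends l e k.val k.2 v).mp h).2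
  · have hle := hl e
    by_cases hv : (ends e).2 = v
    · rw [if_pos hv, Finset.sum_eq_single (⟨l e - 1, by omega⟩ : Fin (l e))]
      · simp only [blEnds]
        rw [if_pos ((pv_succ_eq_inl_iff ends l e (l e - 1) (by omega) v).mpr ⟨by omega, hv⟩)]
        have : l e - 1 + 1 = l e := by omega
        simp [this]
      · intro k _ hk
        rw [if_neg]
        intro h
        apply hk
        have := ((pv_succ_eq_inl_iff ends l e k.val k.2 v).mp h).1
        exact Fin.ext (by simp only; omega)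
      · intro h; exact absurd (Finset.mem_univ _) h
    · rw [if_neg hv]
      apply Finset.sum_eq_zero
      intro k _
      rw [if_neg]
      intro h
      exact hv ((pv_succ_eq_inl_iff ends l e k.val k.2 v).mp h).2

lemma ap (ψ : BlVert V E l → ℤ)
    (hψnew : ∀ e i (hi : i < l e - 1),
      mdeg (blEnds ends l) (fun _ => 1) ψ (Sum.inr ⟨e, ⟨i, hi⟩⟩) = 0) (e : E) :
    ∀ j, j ≤ l e → ψ (pathVert ends l e j) = ψ (pathVert ends l e 0)
      + (j : ℤ) * (ψ (pathVert ends l e 1) - ψ (pathVert ends l e 0)) := by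
  intro j
  induction j using Nat.twoStepInduction with
  | zero => intro _; simp
  | one => intro _; push_cast; ring
  | more j ih1 ih2 =>
    intro hj
    have h1 := ih1 (by omega)
    have h2 := ih2 (by omega)
    have h3 := hψnew e j (by omega)
    rw [mdeg_new] at h3
    push_cast at h2 ⊢
    linarith

theorem main13759
    (ends : E → V × V) (l : E → ℕ) (hl : ∀ e, 0 < l e) (hconn : LabGraph.Connected ends)
    (α : V → ℤ) (ψ : LabGraph.BlVert V E l → ℤ)
    (hψ : ∀ w : LabGraph.BlVert V E l,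
      LabGraph.mdeg (LabGraph.blEnds ends l) (fun _ => 1) ψ w = Sum.elim α (fun _ => (0 : ℤ)) w) :
    ∃ φ : V → ℤ, LabGraph.IsCartier ends l φ ∧ ∀ v : V, LabGraph.mdeg ends l φ v = α v := by
  have hnew : ∀ e i (hi : i < l e - 1),
      mdeg (blEnds ends l) (fun _ => 1) ψ (Sum.inr ⟨e, ⟨i, hi⟩⟩) = 0 := by
    intro e i hi; rw [hψ]; rfl
  have hap := ap ends l ψ hnew
  refine ⟨fun v => ψ (Sum.inl v), ?_, ?_⟩
  · intro e
    have hle := hl e
    have h := hap e (l e) le_rfl
    rw [pv_zero, pv_top ends l e (l e) (by omega) le_rfl] at h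
    refine ⟨-(ψ (pathVert ends l e 1) - ψ (Sum.inl (ends e).1)), ?_⟩
    show ψ (Sum.inl (ends e).1) - ψ (Sum.inl (ends e).2) = _
    rw [h]; ring
  · intro v
    have h1 := hψ (Sum.inl v)
    rw [mdeg_old ends l hl ψ v] at h1
    simp only [Sum.elim_inl] at h1
    rw [← h1]
    unfold mdeg
    refine Finset.sum_congr rfl fun e _ => ?_
    have hle := hl e
    have h := hap e (l e) le_rfl
    have h' := hap e (l e - 1) (by omega)
    rw [pv_zero, pv_top ends l e (l e) (by omega) le_rfl] at h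
    rw [pv_zero] at h'
    have hlz : ((l e : ℕ) : ℤ) ≠ 0 := by exact_mod_cast hle.ne'
    have e1 : (ψ (Sum.inl (ends e).2) - ψ (Sum.inl (ends e).1)) / (l e : ℤ)
        = ψ (pathVert ends l e 1) - ψ (Sum.inl (ends e).1) := by
      rw [h, show ψ (Sum.inl (ends e).1)
          + (l e : ℤ) * (ψ (pathVert ends l e 1) - ψ (Sum.inl (ends e).1))
          - ψ (Sum.inl (ends e).1)
          = (l e : ℤ) * (ψ (pathVert ends l e 1) - ψ (Sum.inl (ends e).1)) by ring]
      exact Int.mul_ediv_cancel_left _ hlz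
    have e2 : (ψ (Sum.inl (ends e).1) - ψ (Sum.inl (ends e).2)) / (l e : ℤ)
        = -(ψ (pathVert ends l e 1) - ψ (Sum.inl (ends e).1)) := by
      rw [h, show ψ (Sum.inl (ends e).1) - (ψ (Sum.inl (ends e).1)
          + (l e : ℤ) * (ψ (pathVert ends l e 1) - ψ (Sum.inl (ends e).1)))
          = (l e : ℤ) * (-(ψ (pathVert ends l e 1) - ψ (Sum.inl (ends e).1))) by ring]
      exact Int.mul_ediv_cancel_left _ hlz
    have e3 : ψ (pathVert ends l e (l e - 1)) - ψ (Sum.inl (ends e).2)
        = -(ψ (pathVert ends l e 1) - ψ (Sum.inl (ends e).1)) := by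
      rw [h', h]; push_cast [Nat.cast_sub hle]; ring
    show (if (ends e).1 = v then (ψ (Sum.inl (ends e).2) - ψ (Sum.inl (ends e).1)) / (l e : ℤ)
          else 0)
        + (if (ends e).2 = v then (ψ (Sum.inl (ends e).1) - ψ (Sum.inl (ends e).2)) / (l e : ℤ)
          else 0)
        = (if (ends e).1 = v then ψ (pathVert ends l e 1) - ψ (pathVert ends l e 0) else 0)
        + (if (ends e).2 = v then
            ψ (pathVert ends l e (l e - 1)) - ψ (pathVert ends l e (l e)) else 0)
    rw [e1, e2, pv_zero, pv_top ends l e (l e) (by omega) le_rfl, e3]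

end Groth.Agent.Lib.Helper29.BlowupGraph
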