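import Mathlib

set_option autoImplicit false
set_option maxHeartbeats 1600000

universe u

open CategoryTheory AlgebraicGeometry TopologicalSpace

namespace Groth.Agent.Lib.Helper29.CDivRel

/-! ### ring lemmas -/

theorem ne_of_span_pow_lt {R : Type*} [CommRing R] (d : R) (hd : d ∈ nonZeroDivisors R)
    (hne : Ideal.span {d} ≠ ⊤) (p q : ℕ) (hpq : p < q) :
    (Ideal.span {d}) ^ p ≠ (Ideal.span {d}) ^ q := by
  intro h
  obtain ⟨k, rfl⟩ : ∃ k, q = p + k + 1 := Nat.exists_eq_add_of_lt hpq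
  rw [Ideal.span_singleton_pow, Ideal.span_singleton_pow] at h
  have hmem : d ^ p ∈ Ideal.span {d ^ (p + k + 1)} := h ▸ Ideal.mem_span_singleton_self _
  obtain ⟨c, hc⟩ := Ideal.mem_span_singleton'.1 hmem
  have h1 : d ^ p * (c * d ^ (k + 1)) = d ^ p * 1 := by
    calc d ^ p * (c * d ^ (k + 1)) = c * d ^ (p + k + 1) := by ring
      _ = d ^ p := hc
      _ = d ^ p * 1 := (mul_one _).symm
  have h2 : c * d ^ (k + 1) = 1 := (mul_cancel_left_mem_nonZeroDivisors (pow_mem hd p)).1 h1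
  have hu : IsUnit d := isUnit_iff_exists_inv.2 ⟨c * d ^ k, by rw [← h2]; ring⟩
  exact hne (Ideal.span_singleton_eq_top.2 hu)

theorem eq_of_span_pow_eq {R : Type*} [CommRing R] (d : R) (hd : d ∈ nonZeroDivisors R)
    (hne : Ideal.span {d} ≠ ⊤) (p q : ℕ) (h : (Ideal.span {d}) ^ p = (Ideal.span {d}) ^ q) :
    p = q := by
  rcases Nat.lt_trichotomy p q with hlt | heq | hgt
  · exact absurd h (ne_of_span_pow_lt d hd hne p q hlt)
  · exact heq
  · exact absurd h.symm (ne_of_span_pow_lt d hd hne q p hgt)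

theorem cross_eq {R : Type*} [CommRing R] (d e : R) (hd : d ∈ nonZeroDivisors R)
    (he : e ∈ nonZeroDivisors R) (hne : Ideal.span {d} ≠ ⊤ ∨ Ideal.span {e} ≠ ⊤)
    (m n m' n' : ℕ) (h1 : Ideal.span {d} ^ m = Ideal.span {e} ^ n)
    (h2 : Ideal.span {d} ^ m' = Ideal.span {e} ^ n') : m * n' = m' * n := by
  rcases hne with hne | hne
  · apply eq_of_span_pow_eq d hd hne
    calc Ideal.span {d} ^ (m * n') = (Ideal.span {d} ^ m) ^ n' := pow_mul _ _ _
      _ = (Ideal.span {e} ^ n) ^ n' := by rw [h1]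
      _ = (Ideal.span {e} ^ n') ^ n := by rw [← pow_mul, ← pow_mul, mul_comm]
      _ = (Ideal.span {d} ^ m') ^ n := by rw [h2]
      _ = Ideal.span {d} ^ (m' * n) := (pow_mul _ _ _).symm
  · have h3 : n * m' = n' * m := by
      apply eq_of_span_pow_eq e he hne
      calc Ideal.span {e} ^ (n * m') = (Ideal.span {e} ^ n) ^ m' := pow_mul _ _ _
        _ = (Ideal.span {d} ^ m) ^ m' := by rw [h1]
        _ = (Ideal.span {d} ^ m') ^ m := by rw [← pow_mul, ← pow_mul, mul_comm]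
        _ = (Ideal.span {e} ^ n') ^ m := by rw [h2]
        _ = Ideal.span {e} ^ (n' * m) := (pow_mul _ _ _).symm
    calc m * n' = n' * m := mul_comm _ _
      _ = n * m' := h3.symm
      _ = m' * n := mul_comm _ _

theorem trans_aux (a b c d e f : ℕ) (h : (c, d) ≠ (0, 0)) (h1 : a * d = c * b)
    (h2 : c * f = e * d) : a * f = e * b := by
  by_cases hd : d = 0
  · subst hd
    have hc : c ≠ 0 := fun hc => h (by rw [hc])
    have hcb : c * b = 0 := by rw [← h1, Nat.mul_zero]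
    have hcf : c * f = 0 := by rw [h2, Nat.mul_zero]
    have hb : b = 0 := (Nat.mul_eq_zero.1 hcb).resolve_left hc
    have hf : f = 0 := (Nat.mul_eq_zero.1 hcf).resolve_left hc
    rw [hb, hf, Nat.mul_zero, Nat.mul_zero]
  · apply Nat.eq_of_mul_eq_mul_right (Nat.pos_of_ne_zero hd)
    calc a * f * d = (a * d) * f := by ring
      _ = (c * b) * f := by rw [h1]
      _ = (c * f) * b := by ring
      _ = (e * d) * b := by rw [h2]
      _ = e * b * d := by ring

/-! ### stalk ideals -/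

variable {X : Scheme.{u}}

theorem map_germ_eq_of_le (I : X.IdealSheafData) (y : X) {W U : X.affineOpens} (h : W ≤ U)
    (hyW : y ∈ W.1) :
    (I.ideal U).map (X.presheaf.germ U.1 y (h hyW)).hom =
      (I.ideal W).map (X.presheaf.germ W.1 y hyW).hom := by
  have e : X.presheaf.map (homOfLE h).op ≫ X.presheaf.germ W.1 y hyW =
      X.presheaf.germ U.1 y (h hyW) := X.presheaf.germ_res (homOfLE h) y hyW
  rw [← I.map_ideal h, Ideal.map_map, ← CommRingCat.hom_comp, e]

theorem map_germ_eq (I : X.IdealSheafData) (y : X) (U V : X.affineOpens) (hyU : y ∈ U.1)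
    (hyV : y ∈ V.1) :
    (I.ideal U).map (X.presheaf.germ U.1 y hyU).hom =
      (I.ideal V).map (X.presheaf.germ V.1 y hyV).hom := by
  obtain ⟨_, ⟨W, hW, rfl⟩, hyW, hWle⟩ := X.isBasis_affineOpens.exists_subset_of_mem_open
    (show y ∈ ((U.1 ⊓ V.1 : X.Opens) : Set X) from ⟨hyU, hyV⟩) (U.1 ⊓ V.1).2
  have h1 : (⟨W, hW⟩ : X.affineOpens) ≤ U := show W ≤ U.1 from fun z hz => (hWle hz).1
  have h2 : (⟨W, hW⟩ : X.affineOpens) ≤ V := show W ≤ V.1 from fun z hz => (hWle hz).2
  rw [map_germ_eq_of_le I y h1 hyW, map_germ_eq_of_le I y h2 hyW]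

theorem map_germ_ne_top (I : X.IdealSheafData) (y : X) (hy : y ∈ I.support) (U : X.affineOpens)
    (hyU : y ∈ U.1) : (I.ideal U).map (X.presheaf.germ U.1 y hyU).hom ≠ ⊤ := by
  intro htop
  have hz := (Scheme.IdealSheafData.mem_support_iff_of_mem hyU).1 hy
  rw [Scheme.mem_zeroLocus_iff] at hz
  have hle : (I.ideal U).map (X.presheaf.germ U.1 y hyU).hom ≤
      IsLocalRing.maximalIdeal (X.presheaf.stalk y) := by
    rw [Ideal.map_le_iff_le_comap]
    intro f hf
    rw [Ideal.mem_comap, IsLocalRing.mem_maximalIdeal, mem_nonunits_iff]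
    intro hu
    exact hz f hf ((X.mem_basicOpen f y hyU).2 hu)
  rw [htop] at hle
  exact (IsLocalRing.maximalIdeal.isMaximal _).ne_top (top_le_iff.1 hle)

theorem map_germ_eq_top (I : X.IdealSheafData) (y : X) (hy : y ∉ I.support) (U : X.affineOpens)
    (hyU : y ∈ U.1) : (I.ideal U).map (X.presheaf.germ U.1 y hyU).hom = ⊤ := by
  have hz : ¬ y ∈ X.zeroLocus (U := U.1) (I.ideal U) :=
    fun h => hy ((Scheme.IdealSheafData.mem_support_iff_of_mem hyU).2 h)
  rw [Scheme.mem_zeroLocus_iff] at hz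
  push_neg at hz
  obtain ⟨f, hf, hyf⟩ := hz
  exact Ideal.eq_top_of_isUnit_mem _ (Ideal.mem_map_of_mem _ hf)
    ((X.mem_basicOpen f y hyU).1 hyf)

theorem ideal_eq_top_of_disjoint (I : X.IdealSheafData) (U : X.affineOpens)
    (h : ∀ y ∈ U.1, y ∉ I.support) : I.ideal U = ⊤ := by
  rw [← top_le_iff, U.2.ideal_le_iff]
  intro y hy
  rw [map_germ_eq_top I y (h y hy) U hy]
  exact le_top

theorem exists_stalk_generator (I : X.IdealSheafData)
    (hI : ∀ x : X, ∃ U : X.affineOpens, x ∈ (U : X.Opens) ∧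
      ∃ g : Γ(X, U), g ∈ nonZeroDivisors Γ(X, U) ∧ I.ideal U = Ideal.span {g})
    (y : X) : ∃ (U : X.affineOpens) (hyU : y ∈ U.1) (d : X.presheaf.stalk y),
      d ∈ nonZeroDivisors (X.presheaf.stalk y) ∧
      (I.ideal U).map (X.presheaf.germ U.1 y hyU).hom = Ideal.span {d} := by
  obtain ⟨U, hyU, g, hg, hIg⟩ := hI y
  refine ⟨U, hyU, X.presheaf.germ U.1 y hyU g, ?_, ?_⟩
  · letI := X.presheaf.algebra_section_stalk ⟨y, hyU⟩
    haveI := U.2.isLocalization_stalk ⟨y, hyU⟩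
    exact IsLocalization.map_nonZeroDivisors_le (U.2.primeIdealOf ⟨y, hyU⟩).asIdeal.primeCompl
      (X.presheaf.stalk y) (Submonoid.mem_map_of_mem _ hg)
  · rw [hIg, Ideal.map_span, Set.image_singleton]

theorem key (D E : X.IdealSheafData)
    (hD : ∀ x : X, ∃ U : X.affineOpens, x ∈ (U : X.Opens) ∧
      ∃ g : Γ(X, U), g ∈ nonZeroDivisors Γ(X, U) ∧ D.ideal U = Ideal.span {g})
    (hE : ∀ x : X, ∃ U : X.affineOpens, x ∈ (U : X.Opens) ∧
      ∃ g : Γ(X, U), g ∈ nonZeroDivisors Γ(X, U) ∧ E.ideal U = Ideal.span {g})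
    (y : X) (hy : y ∈ D.support ∨ y ∈ E.support) (V W : X.affineOpens) (hyV : y ∈ V.1)
    (hyW : y ∈ W.1) (a b a' b' : ℕ) (h1 : D.ideal V ^ a = E.ideal V ^ b)
    (h2 : D.ideal W ^ a' = E.ideal W ^ b') : a * b' = a' * b := by
  obtain ⟨U₁, hy₁, d, hd, hDd⟩ := exists_stalk_generator D hD y
  obtain ⟨U₂, hy₂, e, he, hEe⟩ := exists_stalk_generator E hE y
  have hne : Ideal.span {d} ≠ ⊤ ∨ Ideal.span {e} ≠ ⊤ := by
    rcases hy with hy | hy
    · left; rw [← hDd]; exact map_germ_ne_top D y hy U₁ hy₁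
    · right; rw [← hEe]; exact map_germ_ne_top E y hy U₂ hy₂
  have t1 : Ideal.span {d} ^ a = Ideal.span {e} ^ b := by
    have := congrArg (Ideal.map (X.presheaf.germ V.1 y hyV).hom) h1
    rw [Ideal.map_pow, Ideal.map_pow, map_germ_eq D y V U₁ hyV hy₁,
      map_germ_eq E y V U₂ hyV hy₂, hDd, hEe] at this
    exact this
  have t2 : Ideal.span {d} ^ a' = Ideal.span {e} ^ b' := by
    have := congrArg (Ideal.map (X.presheaf.germ W.1 y hyW).hom) h2
    rw [Ideal.map_pow, Ideal.map_pow, map_germ_eq D y W U₁ hyW hy₁,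
      map_germ_eq E y W U₂ hyW hy₂, hDd, hEe] at this
    exact this
  exact cross_eq d e hd he hne a b a' b' t1 t2

theorem main17732
    (X : Scheme.{u}) [AlgebraicGeometry.IsNoetherian X] (D E : X.IdealSheafData)
    (hD : (∀ x : X, ∃ U : X.affineOpens, x ∈ (U : X.Opens) ∧ ∃ g : Γ(X, U), g ∈ nonZeroDivisors Γ(X, U) ∧ D.ideal U = Ideal.span {g}))
    (hE : (∀ x : X, ∃ U : X.affineOpens, x ∈ (U : X.Opens) ∧ ∃ g : Γ(X, U), g ∈ nonZeroDivisors Γ(X, U) ∧ E.ideal U = Ideal.span {g}))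
    (hconn : IsPreconnected ((D.support : Set X) ∪ (E.support : Set X)))
    (hloc : ∀ x : X, ∃ U : X.affineOpens, x ∈ (U : X.Opens) ∧
      ∃ m n : ℕ, (m, n) ≠ (0, 0) ∧ D.ideal U ^ m = E.ideal U ^ n) :
    ∃ m n : ℕ, (m, n) ≠ (0, 0) ∧ ∀ U : X.affineOpens, D.ideal U ^ m = E.ideal U ^ n := by
  classical
  choose U hxU m n hmn hrel using hloc
  have hkey : ∀ (x y : X), y ∈ (D.support : Set X) ∪ (E.support : Set X) → y ∈ (U x).1 →
      m x * n y = m y * n x := by
    intro x y hyS hyU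
    exact key D E hD hE y hyS (U x) (U y) hyU (hxU y) (m x) (n x) (m y) (n y) (hrel x) (hrel y)
  have hP : ∀ x ∈ (D.support : Set X) ∪ (E.support : Set X),
      ∀ y ∈ (D.support : Set X) ∪ (E.support : Set X), m x * n y = m y * n x := by
    intro x hx y hy
    refine hconn.induction₂ (fun x y => m x * n y = m y * n x) ?_ ?_ ?_ hx hy
    · intro x _
      filter_upwards [mem_nhdsWithin_of_mem_nhds ((U x).1.isOpen.mem_nhds (hxU x)),
        self_mem_nhdsWithin] with y hyU hyS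
      exact hkey x y hyS hyU
    · intro x y z _ _ _ h1 h2
      exact trans_aux _ _ _ _ _ _ (hmn y) h1 h2
    · intro x y _ _ h
      exact h.symm
  obtain ⟨t, ht⟩ := isCompact_univ.elim_finite_subcover (fun x : X => ((U x).1 : Set X))
    (fun x => (U x).1.isOpen) (fun x _ => Set.mem_iUnion.2 ⟨x, hxU x⟩)
  have hcov : ⨆ x : t, (U x.1).1 = ⊤ := by
    rw [eq_top_iff]
    intro z _
    obtain ⟨x, hx⟩ := Set.mem_iUnion.1 (ht (Set.mem_univ z))
    obtain ⟨hxt, hzx⟩ := Set.mem_iUnion.1 hx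
    exact Opens.mem_iSup.2 ⟨⟨x, hxt⟩, hzx⟩
  have hfinal : ∀ (a b : ℕ), (a, b) ≠ (0, 0) →
      (∀ x : X, ∀ y ∈ (D.support : Set X) ∪ (E.support : Set X), y ∈ (U x).1 →
        m x * b = a * n x) →
      ∃ m' n' : ℕ, (m', n') ≠ (0, 0) ∧
        ∀ V : X.affineOpens, D.ideal V ^ m' = E.ideal V ^ n' := by
    intro a b hab hprop
    have hs : ∀ x, m x + n x ≠ 0 := by
      intro x h0
      apply hmn x
      have h1 : m x = 0 := by omega
      have h2 : n x = 0 := by omega
      rw [h1, h2]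
    have hM : (∏ x ∈ t, (m x + n x)) ≠ 0 := Finset.prod_ne_zero_iff.2 (fun x _ => hs x)
    refine ⟨(∏ x ∈ t, (m x + n x)) * a, (∏ x ∈ t, (m x + n x)) * b, ?_, ?_⟩
    · intro h
      have h1 : (∏ x ∈ t, (m x + n x)) * a = 0 := (Prod.mk.inj h).1
      have h2 : (∏ x ∈ t, (m x + n x)) * b = 0 := (Prod.mk.inj h).2
      have ha : a = 0 := (Nat.mul_eq_zero.1 h1).resolve_left hM
      have hb : b = 0 := (Nat.mul_eq_zero.1 h2).resolve_left hM
      exact hab (by rw [ha, hb])
    · have hsheaf : D ^ ((∏ x ∈ t, (m x + n x)) * a) = E ^ ((∏ x ∈ t, (m x + n x)) * b) := by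
        refine Scheme.IdealSheafData.ext_of_iSup_eq_top (fun x : t => U x.1) hcov ?_
        rintro ⟨x, hxt⟩
        show D.ideal (U x) ^ ((∏ x ∈ t, (m x + n x)) * a) =
          E.ideal (U x) ^ ((∏ x ∈ t, (m x + n x)) * b)
        by_cases hdis : ∃ y ∈ (D.support : Set X) ∪ (E.support : Set X), y ∈ (U x).1
        · obtain ⟨y, hyS, hyU⟩ := hdis
          have hprop' := hprop x y hyS hyU
          have hMQ : (∏ x ∈ t, (m x + n x)) =
              (m x + n x) * ∏ x' ∈ t.erase x, (m x' + n x') :=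
            (Finset.mul_prod_erase t (fun x => m x + n x) hxt).symm
          generalize (∏ x' ∈ t.erase x, (m x' + n x')) = Q at hMQ
          have e1 : (∏ x ∈ t, (m x + n x)) * a = m x * (Q * (a + b)) := by
            calc (∏ x ∈ t, (m x + n x)) * a = Q * (a * m x + a * n x) := by rw [hMQ]; ring
              _ = Q * (a * m x + m x * b) := by rw [← hprop']
              _ = m x * (Q * (a + b)) := by ring
          have e2 : (∏ x ∈ t, (m x + n x)) * b = n x * (Q * (a + b)) := by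
            calc (∏ x ∈ t, (m x + n x)) * b = Q * (m x * b + b * n x) := by rw [hMQ]; ring
              _ = Q * (a * n x + b * n x) := by rw [hprop']
              _ = n x * (Q * (a + b)) := by ring
          rw [e1, e2, pow_mul (D.ideal (U x)) (m x), pow_mul (E.ideal (U x)) (n x), hrel x]
        · push_neg at hdis
          have hDt : D.ideal (U x) = ⊤ := ideal_eq_top_of_disjoint D (U x)
            (fun y hy hyD => hdis y (Or.inl hyD) hy)
          have hEt : E.ideal (U x) = ⊤ := ideal_eq_top_of_disjoint E (U x)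
            (fun y hy hyE => hdis y (Or.inr hyE) hy)
          rw [hDt, hEt, Ideal.top_pow, Ideal.top_pow]
      intro V
      exact congrArg (fun I : X.IdealSheafData => I.ideal V) hsheaf
  rcases ((D.support : Set X) ∪ (E.support : Set X)).eq_empty_or_nonempty with hemp | ⟨x₀, hx₀⟩
  · exact hfinal 1 1 (by simp) (fun x y hyS _ => by
      rw [hemp] at hyS; exact absurd hyS (Set.notMem_empty y))
  · refine hfinal (m x₀) (n x₀) (hmn x₀) (fun x y hyS hyU => ?_)
    exact trans_aux _ _ _ _ _ _ (hmn y) (hkey x y hyS hyU) (hP y hyS x₀ hx₀)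

end Groth.Agent.Lib.Helper29.CDivRel
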