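import Groth.Agent.Lib.Helper29.TorsorComp
import Groth.Agent.Lib.Helper29.QuotMain

/-!
# Helper library (helper29): cartesian squares over a section, from local existence and uniqueness

* `exists_desc_unit`: a morphism out of an fpqc-locally trivial `E` which is constant on points descends to a section.
* `isPullback_of_local`: a square `E → F → Q ← 𝟙` is cartesian if `E → F` is injective on points and hits, locally on
  the points of `E`, every point of `F` over the section.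
* `main16227`: reduction of the structure group gives a section of the quotient.
-/

set_option autoImplicit false
set_option maxHeartbeats 1600000
universe u
open CategoryTheory CategoryTheory.Limits AlgebraicGeometry MonoidalCategory CartesianMonoidalCategory
  MonObj GrpObj

namespace Groth.Agent.Lib.Helper29.CartLocal

open Groth.Agent.Lib.Helper29.InvFun Groth.Agent.Lib.Helper22 Groth.Agent.Lib.Helper29.TorsorPush
  Groth.Agent.Lib.Helper29.TorsorComp Groth.Agent.Lib.Helper29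

noncomputable section

variable {S : Scheme.{u}}

theorem exists_desc_unit {E Q : Over S} (c : CovSec E) (ψ : E ⟶ Q)
    (hinv : ∀ (T : Over S) (e₁ e₂ : T ⟶ E), e₁ ≫ ψ = e₂ ≫ ψ) :
    ∃! σ : 𝟙_ (Over S) ⟶ Q, toUnit E ≫ σ = ψ := by
  obtain ⟨σ, hσ⟩ := c.glue (B := 𝟙_ (Over S)) (C := Q) (fun T _ e => e ≫ ψ)
    (fun T T' s b e => by simp only [Category.assoc])
    (fun T b e₁ e₂ => hinv T e₁ e₂)
  have hσ' : ∀ (T : Over S) (b : T ⟶ 𝟙_ (Over S)) (e : T ⟶ E), b ≫ σ = e ≫ ψ := hσ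
  refine ⟨σ, ((hσ' E (toUnit E) (𝟙 E)).trans (Category.id_comp _)), fun σ' h' => ?_⟩
  refine c.sep σ' σ (fun T b e => ?_)
  rw [hσ' T b e, toUnit_unique b (e ≫ toUnit E), Category.assoc, h']

theorem isPullback_of_local {E F Q : Over S} (c : CovSec E) (φ : E ⟶ F) (π : F ⟶ Q)
    (σ : 𝟙_ (Over S) ⟶ Q) (hsq : φ ≫ π = toUnit E ≫ σ)
    (hinj : ∀ (T : Over S) (e₁ e₂ : T ⟶ E), e₁ ≫ φ = e₂ ≫ φ → e₁ = e₂)
    (hloc : ∀ (T : Over S) (y : T ⟶ F) (e₀ : T ⟶ E), y ≫ π = e₀ ≫ φ ≫ π →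
      ∃ e : T ⟶ E, e ≫ φ = y) :
    IsPullback φ (toUnit E) π σ := by
  refine isPullback_of_existsUnique hsq (fun T y t hyt => ?_)
  have hloc' : ∀ (T' : Over S) (b : T' ⟶ T) (e₀ : T' ⟶ E), ∃ e : T' ⟶ E, e ≫ φ = b ≫ y := by
    intro T' b e₀
    refine hloc T' (b ≫ y) e₀ ?_
    calc (b ≫ y) ≫ π = b ≫ t ≫ σ := by rw [Category.assoc, hyt]
      _ = (e₀ ≫ toUnit E) ≫ σ := by
        rw [← Category.assoc, toUnit_unique (b ≫ t) (e₀ ≫ toUnit E)]
      _ = e₀ ≫ φ ≫ π := by rw [Category.assoc, hsq]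
  let Fam : ∀ (T' : Over S), (T' ⟶ T) → (T' ⟶ E) → (T' ⟶ E) :=
    fun T' b e₀ => (hloc' T' b e₀).choose
  have hFam : ∀ (T' : Over S) (b : T' ⟶ T) (e₀ : T' ⟶ E), Fam T' b e₀ ≫ φ = b ≫ y :=
    fun T' b e₀ => (hloc' T' b e₀).choose_spec
  have hnat : ∀ (T₁ T₂ : Over S) (s : T₂ ⟶ T₁) (b : T₁ ⟶ T) (e₀ : T₁ ⟶ E),
      s ≫ Fam T₁ b e₀ = Fam T₂ (s ≫ b) (s ≫ e₀) := by
    intro T₁ T₂ s b e₀
    apply hinj
    rw [Category.assoc, hFam T₁ b e₀, hFam T₂ (s ≫ b) (s ≫ e₀), Category.assoc]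
  have hind : ∀ (T₁ : Over S) (b : T₁ ⟶ T) (e₁ e₂ : T₁ ⟶ E), Fam T₁ b e₁ = Fam T₁ b e₂ := by
    intro T₁ b e₁ e₂
    rfl
  obtain ⟨r, hr⟩ := c.glue Fam hnat hind
  have hri : r ≫ φ = y := c.sep (r ≫ φ) y (fun T' b e₀ => by
    rw [← Category.assoc, hr T' b e₀, hFam T' b e₀])
  exact ⟨r, ⟨hri, toUnit_unique _ _⟩, fun m hm => hinj _ _ _ (hm.1.trans hri.symm)⟩

theorem main16227
    {S : Scheme.{u}} {G H F Q : Over S} [GrpObj G] [GrpObj H]
    (i : G ⟶ H) [IsMonHom i] [IsClosedImmersion i.left]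
    (aF : AlgGrp.Action H F) (hF : NonAbH1.IsTorsorFor Scheme.etalePrecoverage aF)
    (π : F ⟶ Q)
    (hsq : IsPullback (aF.restrict i).act (snd G F) π π)
    (hloc : NonAbH1.IsLocallyTrivialFor Scheme.etalePrecoverage (Over.mk π.left : Over Q.left))
    {E : Over S} (aE : AlgGrp.Action G E) (hE : NonAbH1.IsTorsorFor Scheme.etalePrecoverage aE)
    (φ : E ⟶ F) (hφ : AlgGrp.Action.IsEquivariant aE (aF.restrict i) φ) :
    (∃! σ : 𝟙_ (Over S) ⟶ Q, toUnit E ≫ σ = φ ≫ π) ∧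
      ∀ σ : 𝟙_ (Over S) ⟶ Q, toUnit E ≫ σ = φ ≫ π → IsPullback φ (toUnit E) π σ := by
  have hEloc : NonAbH1.IsLocallyTrivialFor Scheme.fpqcPrecoverage E := by
    obtain ⟨R, hR, h⟩ := hE.2
    exact ⟨R, Scheme.fppfPrecoverage_le_fpqcPrecoverage _ (QuotMain.etale_le_fppf _ hR), h⟩
  obtain ⟨c⟩ := exists_covSec hEloc
  have hφpt : ∀ {T : Over S} (g : T ⟶ G) (e : T ⟶ E),
      smul aE g e ≫ φ = smul (aF.restrict i) g (e ≫ φ) := by
    intro T g e
    have h1 : aE.act ≫ φ = (G ◁ φ) ≫ (aF.restrict i).act := hφ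
    rw [smul_def, smul_def, Category.assoc, h1, lift_whiskerLeft_assoc]
  have hπinv : ∀ {T : Over S} (g : T ⟶ G) (y : T ⟶ F),
      smul (aF.restrict i) g y ≫ π = y ≫ π := by
    intro T g y
    rw [smul_def, Category.assoc, hsq.w, lift_snd_assoc]
  constructor
  · apply exists_desc_unit c (φ ≫ π)
    intro T e₁ e₂
    obtain ⟨g, hg⟩ : ∃ g : T ⟶ G, smul aE g e₂ = e₁ := ⟨_, dv_smul aE hE.1 e₁ e₂⟩
    rw [← hg, ← Category.assoc, hφpt, hπinv, Category.assoc]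
  · intro σ hσ
    refine isPullback_of_local c φ π σ hσ.symm ?_ ?_
    · intro T e₁ e₂ h
      obtain ⟨g, hg⟩ : ∃ g : T ⟶ G, smul aE g e₂ = e₁ := ⟨_, dv_smul aE hE.1 e₁ e₂⟩
      have h1 : smul (aF.restrict i) g (e₂ ≫ φ) = smul (aF.restrict i) 1 (e₂ ≫ φ) := by
        rw [← hφpt, hg, h, pt_one_smul]
      have h2 : g = 1 := inj_of_isPullback (aF.restrict i) π hsq g 1 _ h1
      rw [← hg, h2, pt_one_smul]
    · intro T y e₀ hy
      obtain ⟨g, hg⟩ := exists_of_isPullback (aF.restrict i) π hsq y (e₀ ≫ φ)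
        (by rw [hy, Category.assoc])
      exact ⟨smul aE g e₀, by rw [hφpt, hg]⟩

end

end Groth.Agent.Lib.Helper29.CartLocal
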