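import Mathlib

set_option autoImplicit false

open Finset Matrix Equiv

namespace Groth.Agent.Lib.Helper29.CauchyBinetSq

section CB

variable {n m R : Type*} [Fintype n] [DecidableEq n] [Fintype m] [DecidableEq m] [CommRing R]

/-- precomposition with a permutation, as an equivalence of function types -/
def compPerm (σ : Perm n) : (n → m) ≃ (n → m) where
  toFun f := f ∘ σ
  invFun f := f ∘ σ.symm
  left_inv f := by funext i; simp
  right_inv f := by funext i; simp

/-- summand of the multilinear expansion -/
def termF (A : Matrix n m R) (D : m → R) (f : n → m) : R :=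
  (∏ i, D (f i) * A i (f i)) * (A.submatrix id f).det

theorem det_expand (A : Matrix n m R) (D : m → R) (P : Matrix n n R)
    (hP : ∀ i j, P i j = ∑ k, A i k * D k * A j k) :
    P.det = ∑ f : n → m, termF A D f := by
  rw [det_apply']
  have h1 : ∀ σ : Perm n, (∏ i, P (σ i) i) =
      ∑ f : n → m, ∏ i, (A (σ i) (f i) * D (f i) * A i (f i)) := by
    intro σ
    simp only [hP]
    exact Fintype.prod_sum (fun i k => A (σ i) k * D k * A i k)
  simp only [h1, Finset.mul_sum]
  rw [Finset.sum_comm]
  refine Finset.sum_congr rfl fun f _ => ?_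
  unfold termF
  rw [det_apply', Finset.mul_sum]
  refine Finset.sum_congr rfl fun σ _ => ?_
  have h2 : ∏ i, (A (σ i) (f i) * D (f i) * A i (f i)) =
      (∏ i, D (f i) * A i (f i)) * ∏ i, A (σ i) (f i) := by
    rw [← Finset.prod_mul_distrib]
    exact Finset.prod_congr rfl fun i _ => by ring
  rw [h2]
  simp only [submatrix_apply, id_eq]
  ring

theorem sum_perm_termF (A : Matrix n m R) (D : m → R) (f : n → m) :
    ∑ σ : Perm n, termF A D (f ∘ σ) = (∏ i, D (f i)) * (A.submatrix id f).det ^ 2 := by
  have e1 : ∀ σ : Perm n, termF A D (f ∘ σ) = ((∏ i, D (f i)) * (A.submatrix id f).det) *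
      (((Perm.sign σ : ℤ) : R) * ∏ i, A i (f (σ i))) := by
    intro σ
    have a1 : ∏ i, D (f (σ i)) = ∏ i, D (f i) := Equiv.prod_comp σ (fun i => D (f i))
    have a2 : (A.submatrix id (f ∘ σ)).det =
        ((Perm.sign σ : ℤ) : R) * (A.submatrix id f).det :=
      det_permute' σ (A.submatrix id f)
    unfold termF
    simp only [Function.comp_apply]
    rw [Finset.prod_mul_distrib, a1, a2]
    ring
  simp only [e1]
  rw [← Finset.mul_sum]
  have e2 : ∑ σ : Perm n, ((Perm.sign σ : ℤ) : R) * ∏ i, A i (f (σ i)) =
      (A.submatrix id f).det := by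
    rw [← det_transpose, det_apply']
    rfl
  rw [e2]; ring

/-- Cauchy–Binet, symmetrized form: `n! · det (A D Aᵀ) = ∑_f (∏ D (f i)) · det (A_f)²`. -/
theorem factorial_mul_det (A : Matrix n m R) (D : m → R) (P : Matrix n n R)
    (hP : ∀ i j, P i j = ∑ k, A i k * D k * A j k) :
    ((Fintype.card n).factorial : R) * P.det
      = ∑ f : n → m, (∏ i, D (f i)) * (A.submatrix id f).det ^ 2 := by
  have h1 : P.det = ∑ f : n → m, termF A D f := det_expand A D P hP
  have h2 : ∀ σ : Perm n, ∑ f : n → m, termF A D (f ∘ σ) = ∑ f : n → m, termF A D f := by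
    intro σ
    exact Fintype.sum_equiv (compPerm σ) _ _ (fun f => rfl)
  calc ((Fintype.card n).factorial : R) * P.det = ∑ _σ : Perm n, P.det := by
        rw [Finset.sum_const, Finset.card_univ, Fintype.card_perm, nsmul_eq_mul]
    _ = ∑ σ : Perm n, ∑ f : n → m, termF A D (f ∘ σ) := by
        refine Finset.sum_congr rfl fun σ _ => ?_
        rw [h2 σ, h1]
    _ = ∑ f : n → m, ∑ σ : Perm n, termF A D (f ∘ σ) := Finset.sum_comm
    _ = _ := Finset.sum_congr rfl fun f _ => sum_perm_termF A D f

end CB

section Count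

/-- two injective maps with the same range differ by an equivalence of the sources -/
theorem exists_equiv_of_range_eq {α β γ : Type*} (f : α → γ) (g : β → γ)
    (hf : Function.Injective f) (hg : Function.Injective g) (h : Set.range f = Set.range g) :
    ∃ φ : α ≃ β, ∀ a, g (φ a) = f a := by
  refine ⟨(Equiv.ofInjective f hf).trans ((Equiv.setCongr h).trans (Equiv.ofInjective g hg).symm),
    fun a => ?_⟩
  simp only [Equiv.trans_apply]
  rw [Equiv.apply_ofInjective_symm hg]
  rfl

theorem card_inj_image_eq {α γ : Type*} [Fintype α] [DecidableEq α] [Fintype γ] [DecidableEq γ]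
    (S : Finset γ) (hS : S.card = Fintype.card α)
    [DecidablePred fun f : α → γ => Function.Injective f ∧ univ.image f = S] :
    (univ.filter (fun f : α → γ => Function.Injective f ∧ univ.image f = S)).card
      = (Fintype.card α).factorial := by
  classical
  have hc : Fintype.card α = Fintype.card S := by rw [Fintype.card_coe, hS]
  obtain ⟨e0⟩ : Nonempty (α ≃ S) := Fintype.card_eq.mp hc
  have hf0 : Function.Injective (fun a => (e0 a : γ)) :=
    Subtype.val_injective.comp e0.injective
  have h0 : univ.image (fun a => (e0 a : γ)) = S := by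
    ext x
    simp only [mem_image, mem_univ, true_and]
    constructor
    · rintro ⟨a, rfl⟩; exact (e0 a).2
    · intro hx; exact ⟨e0.symm ⟨x, hx⟩, by simp⟩
  rw [← Fintype.card_perm, ← Finset.card_univ]
  symm
  refine Finset.card_bij (fun σ _ => (fun a => (e0 a : γ)) ∘ σ) ?_ ?_ ?_
  · intro σ _
    rw [mem_filter]
    refine ⟨mem_univ _, hf0.comp σ.injective, ?_⟩
    refine Eq.trans ?_ h0
    ext x
    simp only [mem_image, mem_univ, true_and, Function.comp_apply]
    constructor
    · rintro ⟨a, rfl⟩; exact ⟨σ a, rfl⟩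
    · rintro ⟨a, rfl⟩; exact ⟨σ.symm a, by simp⟩
  · intro σ _ τ _ h
    exact Equiv.ext fun a => e0.injective (Subtype.ext (congrFun h a))
  · intro f hf
    rw [mem_filter] at hf
    obtain ⟨_, hfi, hfS⟩ := hf
    have hr : Set.range f = Set.range (fun a => (e0 a : γ)) := by
      ext x
      have h1 : x ∈ Set.range f ↔ x ∈ univ.image f := by simp
      have h2 : x ∈ Set.range (fun a => (e0 a : γ)) ↔ x ∈ univ.image (fun a => (e0 a : γ)) := by
        simp
      rw [h1, h2, hfS, h0]
    obtain ⟨φ, hφ⟩ := exists_equiv_of_range_eq f (fun a => (e0 a : γ)) hfi hf0 hr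
    exact ⟨φ, mem_univ _, funext fun a => hφ a⟩

end Count

end Groth.Agent.Lib.Helper29.CauchyBinetSq
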