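import Mathlib
import Groth.Prelude.Def_W4c2conddiscmodels
import Groth.Agent.Lib.Helper29.CauchyBinetSq

set_option autoImplicit false

open Finset Matrix

namespace Groth.Agent.Lib.Helper29.GraphInc

universe u

variable {V E : Type u} [Fintype V] [Fintype E] [DecidableEq V] [DecidableEq E]

/-- oriented incidence matrix over `R` -/
def inc (R : Type*) [CommRing R] (ends : E → V × V) : Matrix V E R :=
  fun v e => (if (ends e).2 = v then 1 else 0) - (if (ends e).1 = v then 1 else 0)

/-- augmented incidence matrix: an extra column `z` at `none` -/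
def incAug (R : Type*) [CommRing R] (ends : E → V × V) (z : V → R) : Matrix V (Option E) R :=
  fun v x => x.elim (z v) (fun e => inc R ends v e)

@[simp] theorem incAug_some (R : Type*) [CommRing R] (ends : E → V × V) (z : V → R) (v : V) (e : E) :
    incAug R ends z v (some e) = inc R ends v e := rfl

@[simp] theorem incAug_none (R : Type*) [CommRing R] (ends : E → V × V) (z : V → R) (v : V) :
    incAug R ends z v none = z v := rfl

theorem inc_col_sum (R : Type*) [CommRing R] (ends : E → V × V) (e : E) :
    ∑ v, inc R ends v e = 0 := by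
  simp [inc, Finset.sum_sub_distrib]

theorem vecMul_inc (R : Type*) [CommRing R] (ends : E → V × V) (y : V → R) (e : E) :
    (y ᵥ* inc R ends) e = y (ends e).2 - y (ends e).1 := by
  simp [Matrix.vecMul, dotProduct, inc, mul_sub, Finset.sum_sub_distrib]

theorem vecMul_incAug_some (R : Type*) [CommRing R] (ends : E → V × V) (z y : V → R) (e : E) :
    (y ᵥ* incAug R ends z) (some e) = y (ends e).2 - y (ends e).1 := by
  rw [← vecMul_inc]; rfl

theorem vecMul_incAug_none (R : Type*) [CommRing R] (ends : E → V × V) (z y : V → R) :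
    (y ᵥ* incAug R ends z) none = ∑ v, y v * z v := rfl

theorem mulVec_incAug (R : Type*) [CommRing R] (ends : E → V × V) (z : V → R)
    (c : Option E → R) (v : V) :
    (incAug R ends z *ᵥ c) v = z v * c none + ∑ e, inc R ends v e * c (some e) := by
  show ∑ x : Option E, incAug R ends z v x * c x = _
  rw [Fintype.sum_option]
  rfl

/-! ### connectivity -/

theorem rtg_symm (ends : E → V × V) {a b : V}
    (h : Relation.ReflTransGen (LabGraph.Adj ends) a b) :
    Relation.ReflTransGen (LabGraph.Adj ends) b a := by
  induction h with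
  | refl => exact Relation.ReflTransGen.refl
  | tail _ hbc ih =>
    obtain ⟨e, he⟩ := hbc
    exact Relation.ReflTransGen.head ⟨e, he.symm⟩ ih

theorem const_of_connected {R : Type*} (ends : E → V × V) (hG : LabGraph.Connected ends)
    (y : V → R) (hy : ∀ e, y (ends e).2 = y (ends e).1) (v w : V) : y v = y w := by
  have h := hG.2 v w
  induction h with
  | refl => rfl
  | tail _ hab ih =>
    obtain ⟨e, he | he⟩ := hab
    · rw [ih]; have := hy e; rw [he] at this; exact this.symm
    · rw [ih]; have := hy e; rw [he] at this; exact this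

theorem left_ker_trivial (R : Type*) [CommRing R] (ends : E → V × V) (v0 : V)
    (hG : LabGraph.Connected ends) (y : V → R)
    (hy : y ᵥ* incAug R ends (Pi.single v0 1) = 0) : y = 0 := by
  have h1 : ∀ e, y (ends e).2 = y (ends e).1 := by
    intro e
    have := congrFun hy (some e)
    rw [vecMul_incAug_some, Pi.zero_apply] at this
    exact sub_eq_zero.mp this
  have h2 : y v0 = 0 := by
    have := congrFun hy none
    rw [vecMul_incAug_none, Pi.zero_apply] at this
    simpa [Pi.single_apply] using this
  funext v
  rw [const_of_connected ends hG y h1 v v0, h2]; rfl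

theorem left_ker_aug (ends : E → V × V) (hG : LabGraph.Connected ends) (z : V → ℤ)
    (hz : ∑ v, z v ≠ 0) (x : V → ℤ) (hx : x ᵥ* incAug ℤ ends z = 0) : x = 0 := by
  have h1 : ∀ e, x (ends e).2 = x (ends e).1 := by
    intro e
    have := congrFun hx (some e)
    rw [vecMul_incAug_some, Pi.zero_apply] at this
    exact sub_eq_zero.mp this
  obtain ⟨⟨v0⟩, _⟩ := id hG
  have hc : ∀ v, x v = x v0 := fun v => const_of_connected ends hG x h1 v v0
  have h2 := congrFun hx none
  rw [vecMul_incAug_none, Pi.zero_apply] at h2
  have h3 : x v0 * ∑ v, z v = 0 := by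
    calc x v0 * ∑ v, z v = ∑ v, x v * z v := by
          rw [Finset.mul_sum]
          exact Finset.sum_congr rfl fun v _ => by rw [hc v]
      _ = 0 := h2
  have h4 : x v0 = 0 := (mul_eq_zero.mp h3).resolve_right hz
  funext v
  rw [hc v, h4]; rfl

theorem exists_left_ker_of_not_connected (ends : E → V × V) (v0 : V)
    (hG : ¬ LabGraph.Connected ends) :
    ∃ y : V → ℤ, y ≠ 0 ∧ y ᵥ* incAug ℤ ends (Pi.single v0 1) = 0 := by
  classical
  have hex : ∃ w, ¬ Relation.ReflTransGen (LabGraph.Adj ends) v0 w := by
    by_contra hcon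
    push_neg at hcon
    apply hG
    refine ⟨⟨v0⟩, fun a b => ?_⟩
    exact (rtg_symm ends (hcon a)).trans (hcon b)
  obtain ⟨w, hw⟩ := hex
  refine ⟨fun v => if Relation.ReflTransGen (LabGraph.Adj ends) v0 v then 0 else 1, ?_, ?_⟩
  · intro h
    have := congrFun h w
    simp [hw] at this
  · funext x
    cases x with
    | none =>
      rw [vecMul_incAug_none]
      simp [Pi.single_apply, Relation.ReflTransGen.refl]
    | some e =>
      rw [vecMul_incAug_some]
      have hiff : Relation.ReflTransGen (LabGraph.Adj ends) v0 (ends e).2 ↔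
          Relation.ReflTransGen (LabGraph.Adj ends) v0 (ends e).1 := by
        constructor
        · intro h; exact h.tail ⟨e, Or.inr rfl⟩
        · intro h; exact h.tail ⟨e, Or.inl rfl⟩
      simp [hiff]

/-! ### parity and circuits -/

theorem zmod2_cases (x : ZMod 2) : x = 0 ∨ x = 1 := by
  revert x; decide

theorem zmod2_ite (a b : Prop) [Decidable a] [Decidable b] :
    ((if b then (1 : ZMod 2) else 0) - (if a then 1 else 0)) =
      (((if a then 1 else 0) + (if b then 1 else 0) : ℕ) : ZMod 2) := by
  by_cases ha : a <;> by_cases hb : b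
  · simp only [if_pos ha, if_pos hb]; decide
  · simp only [if_pos ha, if_neg hb]; decide
  · simp only [if_neg ha, if_pos hb]; decide
  · simp only [if_neg ha, if_neg hb]; decide

theorem sum_inc_zmod2 (ends : E → V × V) (C : Finset E) (v : V) :
    ∑ e ∈ C, inc (ZMod 2) ends v e = ((LabGraph.endCount ends C v : ℕ) : ZMod 2) := by
  have h : ∀ e, inc (ZMod 2) ends v e =
      ((((if (ends e).1 = v then 1 else 0) + (if (ends e).2 = v then 1 else 0) : ℕ)) : ZMod 2) := by
    intro e
    simp only [inc]
    exact zmod2_ite _ _
  rw [LabGraph.endCount, Nat.cast_sum]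
  exact Finset.sum_congr rfl fun e _ => h e

theorem exists_circuit_of_even (ends : E → V × V) (S : Finset E) (hne : S.Nonempty)
    (hev : ∀ v, Even (LabGraph.endCount ends S v)) : ∃ C, LabGraph.IsCircuit ends C := by
  classical
  revert hne hev
  induction S using Finset.strongInduction with
  | H S ih =>
    intro hne hev
    by_cases hmin : ∀ C' : Finset E, C' ⊂ S → C'.Nonempty →
        ∃ v, ¬ Even (LabGraph.endCount ends C' v)
    · exact ⟨S, hne, hev, hmin⟩
    · push_neg at hmin
      obtain ⟨C', hC', hne', hev'⟩ := hmin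
      exact ih C' hC' hne' hev'

theorem forest_of_right_ker_trivial (ends : E → V × V) (v0 : V)
    (h : ∀ c : Option E → ZMod 2,
      incAug (ZMod 2) ends (Pi.single v0 1) *ᵥ c = 0 → c = 0) :
    DualGr.IsForest ends := by
  intro C hC
  obtain ⟨⟨e0, he0⟩, hev, _⟩ := hC
  have hc := h (fun x => x.elim 0 (fun e => if e ∈ C then 1 else 0)) (by
    funext v
    rw [mulVec_incAug]
    simp only [Option.elim_none, Option.elim_some, mul_zero, zero_add, mul_ite, mul_one,
      Pi.zero_apply]
    rw [Finset.sum_ite_mem, Finset.univ_inter, sum_inc_zmod2]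
    exact (ZMod.natCast_eq_zero_iff_even).mpr (hev v))
  have := congrFun hc (some e0)
  simp [he0] at this

theorem right_ker_trivial_of_forest (ends : E → V × V) (v0 : V) (hF : DualGr.IsForest ends)
    (c : Option E → ZMod 2) (hc : incAug (ZMod 2) ends (Pi.single v0 1) *ᵥ c = 0) : c = 0 := by
  classical
  have hv : ∀ v, (Pi.single v0 (1 : ZMod 2) : V → ZMod 2) v * c none +
      ∑ e, inc (ZMod 2) ends v e * c (some e) = 0 := by
    intro v
    rw [← mulVec_incAug]; exact congrFun hc v
  have h0 : c none = 0 := by
    have hs : ∑ v, ((Pi.single v0 (1 : ZMod 2) : V → ZMod 2) v * c none +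
        ∑ e, inc (ZMod 2) ends v e * c (some e)) = 0 :=
      Finset.sum_eq_zero fun v _ => hv v
    rw [Finset.sum_add_distrib, Finset.sum_comm] at hs
    have h1 : ∑ e, ∑ v, inc (ZMod 2) ends v e * c (some e) = 0 := by
      refine Finset.sum_eq_zero fun e _ => ?_
      rw [← Finset.sum_mul, inc_col_sum, zero_mul]
    rw [h1, add_zero] at hs
    simpa [Pi.single_apply] using hs
  have hS : ∀ v, ∑ e ∈ univ.filter (fun e => c (some e) ≠ 0), inc (ZMod 2) ends v e = 0 := by
    intro v
    have h2 : ∑ e, inc (ZMod 2) ends v e * c (some e) = 0 := by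
      have := hv v
      rwa [h0, mul_zero, zero_add] at this
    refine Eq.trans ?_ h2
    rw [Finset.sum_filter]
    refine Finset.sum_congr rfl fun e _ => ?_
    rcases zmod2_cases (c (some e)) with h | h
    · rw [h, if_neg (by decide), mul_zero]
    · rw [h, if_pos (by decide), mul_one]
  by_contra hne
  have hne' : (univ.filter (fun e => c (some e) ≠ 0)).Nonempty := by
    by_contra hemp
    rw [Finset.not_nonempty_iff_eq_empty] at hemp
    apply hne
    funext x
    cases x with
    | none => exact h0
    | some e =>
      by_contra hx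
      have hmem : e ∈ univ.filter (fun e => c (some e) ≠ 0) := by
        rw [Finset.mem_filter]
        exact ⟨Finset.mem_univ _, hx⟩
      rw [hemp] at hmem
      exact absurd hmem (Finset.notMem_empty _)
  obtain ⟨C, hC⟩ := exists_circuit_of_even ends _ hne' (fun v => by
    rw [← ZMod.natCast_eq_zero_iff_even, ← sum_inc_zmod2]; exact hS v)
  exact hF C hC

/-! ### the number of edges of a tree -/

theorem card_of_both_ker_trivial {K : Type*} [Field K] {m n : Type*} [Fintype m] [Fintype n]
    [DecidableEq m] [DecidableEq n]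
    (A : Matrix m n K) (hl : ∀ y : m → K, y ᵥ* A = 0 → y = 0)
    (hr : ∀ c : n → K, A *ᵥ c = 0 → c = 0) :
    Fintype.card m = Fintype.card n := by
  have inj1 : Function.Injective A.mulVecLin := by
    rw [← LinearMap.ker_eq_bot, LinearMap.ker_eq_bot']
    intro c hc
    exact hr c hc
  have inj2 : Function.Injective Aᵀ.mulVecLin := by
    rw [← LinearMap.ker_eq_bot, LinearMap.ker_eq_bot']
    intro y hy
    apply hl y
    rw [← Matrix.mulVec_transpose]; exact hy
  have h1 : A.rank = Fintype.card n := by
    unfold Matrix.rank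
    rw [LinearMap.finrank_range_of_inj inj1, Module.finrank_fintype_fun_eq_card]
  have h2 : Aᵀ.rank = Fintype.card m := by
    unfold Matrix.rank
    rw [LinearMap.finrank_range_of_inj inj2, Module.finrank_fintype_fun_eq_card]
  rw [← h2, ← h1, Matrix.rank_transpose]

theorem card_add_one_of_isTree (ends : E → V × V) (hT : DualGr.IsTree ends) :
    Fintype.card E + 1 = Fintype.card V := by
  obtain ⟨⟨v0⟩, _⟩ := id hT.1
  have := card_of_both_ker_trivial (incAug (ZMod 2) ends (Pi.single v0 1))
    (fun y hy => left_ker_trivial (ZMod 2) ends v0 hT.1 y hy)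
    (fun c hc => right_ker_trivial_of_forest ends v0 hT.2 c hc)
  rw [this, Fintype.card_option]

/-! ### loops and parallel edges in a forest -/

theorem forest_no_loop (ends : E → V × V) (hF : DualGr.IsForest ends) (e : E) :
    (ends e).1 ≠ (ends e).2 := by
  intro h
  obtain ⟨C, hC⟩ := exists_circuit_of_even ends {e} (Finset.singleton_nonempty e) (fun v => by
    rw [LabGraph.endCount, Finset.sum_singleton, h]
    exact ⟨_, rfl⟩)
  exact hF C hC

theorem forest_no_parallel (ends : E → V × V) (hF : DualGr.IsForest ends) (e e' : E)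
    (h : ends e' = ends e ∨ ends e' = ((ends e).2, (ends e).1)) : e' = e := by
  by_contra hne
  have key : ∀ a b : ℕ, Even (b + a + (a + b)) := fun a b => ⟨a + b, by ring⟩
  obtain ⟨C, hC⟩ := exists_circuit_of_even ends {e', e} ⟨e', by simp⟩ (fun v => by
    rw [LabGraph.endCount, Finset.sum_pair hne]
    rcases h with h | h
    · rw [h]; exact ⟨_, rfl⟩
    · rw [h]; exact key _ _)
  exact hF C hC

end Groth.Agent.Lib.Helper29.GraphInc
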