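import Mathlib
import Groth.Prelude.Def_W4c2conddiscmodels
import Groth.Agent.Lib.Helper29.GraphInc

set_option autoImplicit false

open Finset

namespace Groth.Agent.Lib.Helper29.GraphSub

open Groth.Agent.Lib.Helper29.GraphInc

universe u

variable {V E : Type u} [Fintype V] [Fintype E] [DecidableEq V] [DecidableEq E]

/-- adjacency through an edge of `T` -/
def AdjOn (ends : E → V × V) (T : Finset E) (a b : V) : Prop :=
  ∃ e ∈ T, ends e = (a, b) ∨ ends e = (b, a)

/-- `T` contains no nonempty even edge set -/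
def NoEven (ends : E → V × V) (T : Finset E) : Prop :=
  ∀ D : Finset E, D ⊆ T → D.Nonempty → ∃ v, ¬ Even (LabGraph.endCount ends D v)

/-! ### reachability -/

theorem reachOn_symm (ends : E → V × V) (T : Finset E) {a b : V}
    (h : Relation.ReflTransGen (AdjOn ends T) a b) :
    Relation.ReflTransGen (AdjOn ends T) b a := by
  induction h with
  | refl => exact Relation.ReflTransGen.refl
  | tail _ hbc ih =>
    obtain ⟨e, heT, he⟩ := hbc
    exact Relation.ReflTransGen.head ⟨e, heT, he.symm⟩ ih

theorem reachOn_mono (ends : E → V × V) {T T' : Finset E} (hTT : T ⊆ T') {a b : V}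
    (h : Relation.ReflTransGen (AdjOn ends T) a b) :
    Relation.ReflTransGen (AdjOn ends T') a b := by
  induction h with
  | refl => exact Relation.ReflTransGen.refl
  | tail _ hbc ih =>
    obtain ⟨e, heT, he⟩ := hbc
    exact Relation.ReflTransGen.tail ih ⟨e, hTT heT, he⟩

theorem reachOn_univ (ends : E → V × V) {a b : V}
    (h : Relation.ReflTransGen (LabGraph.Adj ends) a b) :
    Relation.ReflTransGen (AdjOn ends Finset.univ) a b := by
  induction h with
  | refl => exact Relation.ReflTransGen.refl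
  | tail _ hbc ih =>
    obtain ⟨e, he⟩ := hbc
    exact Relation.ReflTransGen.tail ih ⟨e, Finset.mem_univ e, he⟩

theorem reachOn_step (ends : E → V × V) {T : Finset E} (a : V) (e : E) (he : e ∈ T) :
    Relation.ReflTransGen (AdjOn ends T) a (ends e).1 ↔
      Relation.ReflTransGen (AdjOn ends T) a (ends e).2 :=
  ⟨fun h => Relation.ReflTransGen.tail h ⟨e, he, Or.inl rfl⟩,
   fun h => Relation.ReflTransGen.tail h ⟨e, he, Or.inr rfl⟩⟩

theorem closed_of_edges (ends : E → V × V) (R : V → Prop)
    (hR : ∀ e, R (ends e).1 ↔ R (ends e).2) {a b : V}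
    (h : Relation.ReflTransGen (LabGraph.Adj ends) a b) (ha : R a) : R b := by
  induction h with
  | refl => exact ha
  | tail _ hbc ih =>
    obtain ⟨e, he | he⟩ := hbc
    · have h1 := hR e
      rw [he] at h1
      exact h1.mp ih
    · have h1 := hR e
      rw [he] at h1
      exact h1.mpr ih

/-! ### parity of a cut -/

theorem sum_endCount_eq (ends : E → V × V) (D : Finset E) (R : Finset V) :
    ∑ v ∈ R, LabGraph.endCount ends D v =
      ∑ e ∈ D, ((if (ends e).1 ∈ R then 1 else 0) + (if (ends e).2 ∈ R then 1 else 0)) := by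
  unfold LabGraph.endCount
  rw [Finset.sum_comm]
  refine Finset.sum_congr rfl fun e _ => ?_
  rw [Finset.sum_add_distrib, Finset.sum_ite_eq, Finset.sum_ite_eq]

theorem no_single_crossing (ends : E → V × V) (D : Finset E) (R : Finset V)
    (hev : ∀ v, Even (LabGraph.endCount ends D v)) (e : E) (he : e ∈ D)
    (hx : ¬ ((ends e).1 ∈ R ↔ (ends e).2 ∈ R))
    (hrest : ∀ e' ∈ D, e' ≠ e → ((ends e').1 ∈ R ↔ (ends e').2 ∈ R)) : False := by
  have hL : Even (∑ v ∈ R, LabGraph.endCount ends D v) :=
    Finset.sum_induction _ Even (fun _ _ ha hb => ha.add hb) ⟨0, rfl⟩ (fun v _ => hev v)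
  have hone : ((if (ends e).1 ∈ R then 1 else 0) + (if (ends e).2 ∈ R then 1 else 0) : ℕ) = 1 := by
    by_cases ha : (ends e).1 ∈ R <;> by_cases hb : (ends e).2 ∈ R
    · exact absurd ⟨fun _ => hb, fun _ => ha⟩ hx
    · rw [if_pos ha, if_neg hb]
    · rw [if_neg ha, if_pos hb]
    · exact absurd ⟨fun h => absurd h ha, fun h => absurd h hb⟩ hx
  have hR : Even (∑ e' ∈ D.erase e,
      ((if (ends e').1 ∈ R then 1 else 0) + (if (ends e').2 ∈ R then 1 else 0) : ℕ)) := by
    refine Finset.sum_induction _ Even (fun _ _ ha hb => ha.add hb) ⟨0, rfl⟩ fun e' he' => ?_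
    rw [Finset.mem_erase] at he'
    have h1 := hrest e' he'.2 he'.1
    by_cases hx' : (ends e').1 ∈ R
    · rw [if_pos hx', if_pos (h1.mp hx')]; exact ⟨1, rfl⟩
    · rw [if_neg hx', if_neg (fun h => hx' (h1.mpr h))]; exact ⟨0, rfl⟩
  rw [sum_endCount_eq, ← Finset.add_sum_erase D _ he, hone] at hL
  obtain ⟨r, hr⟩ := hL
  obtain ⟨s, hs⟩ := hR
  rw [hs] at hr
  omega

/-! ### boundary computations -/

theorem boundary_add (ends : E → V × V) (γ γ' : E → ℤ) (v : V) :
    LabGraph.boundary ends (fun e => γ e + γ' e) v =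
      LabGraph.boundary ends γ v + LabGraph.boundary ends γ' v := by
  unfold LabGraph.boundary
  rw [← Finset.sum_add_distrib]
  refine Finset.sum_congr rfl fun e _ => ?_
  split_ifs <;> ring

theorem boundary_sub (ends : E → V × V) (γ γ' : E → ℤ) (v : V) :
    LabGraph.boundary ends (fun e => γ e - γ' e) v =
      LabGraph.boundary ends γ v - LabGraph.boundary ends γ' v := by
  unfold LabGraph.boundary
  rw [← Finset.sum_sub_distrib]
  refine Finset.sum_congr rfl fun e _ => ?_
  split_ifs <;> ring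

theorem boundary_mul (ends : E → V × V) (c : ℤ) (γ : E → ℤ) (v : V) :
    LabGraph.boundary ends (fun e => c * γ e) v = c * LabGraph.boundary ends γ v := by
  unfold LabGraph.boundary
  rw [Finset.mul_sum]
  refine Finset.sum_congr rfl fun e _ => ?_
  split_ifs <;> ring

theorem boundary_zero (ends : E → V × V) (v : V) :
    LabGraph.boundary ends (fun _ => 0) v = 0 := by
  unfold LabGraph.boundary
  simp

theorem boundary_single (ends : E → V × V) (e : E) (c : ℤ) (v : V) :
    LabGraph.boundary ends (Pi.single e c) v =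
      (if (ends e).2 = v then c else 0) - (if (ends e).1 = v then c else 0) := by
  unfold LabGraph.boundary
  rw [Finset.sum_eq_single e]
  · rw [Pi.single_eq_same]
  · intro e' _ hne
    rw [Pi.single_eq_of_ne hne]
    simp
  · intro h; exact absurd (Finset.mem_univ e) h

theorem pairing_boundary (ends : E → V × V) (γ : E → ℤ) (f : V → ℤ) :
    ∑ e, γ e * (f (ends e).2 - f (ends e).1) = ∑ v, f v * LabGraph.boundary ends γ v := by
  unfold LabGraph.boundary
  simp only [Finset.mul_sum]
  rw [Finset.sum_comm]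
  refine Finset.sum_congr rfl fun e _ => ?_
  simp only [mul_sub, mul_ite, mul_zero, Finset.sum_sub_distrib, Finset.sum_ite_eq,
    Finset.mem_univ, if_true]
  ring

theorem pairing_single (e : E) (d : E → ℤ) :
    ∑ e', (Pi.single e 1 : E → ℤ) e' * d e' = d e := by
  rw [Finset.sum_eq_single e]
  · rw [Pi.single_eq_same, one_mul]
  · intro e' _ hne; rw [Pi.single_eq_of_ne hne, zero_mul]
  · intro h; exact absurd (Finset.mem_univ e) h

/-! ### chains -/

theorem exists_chain (ends : E → V × V) (T : Finset E) {a b : V}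
    (h : Relation.ReflTransGen (AdjOn ends T) a b) :
    ∃ γ : E → ℤ, (∀ e, e ∉ T → γ e = 0) ∧
      ∀ v, LabGraph.boundary ends γ v = (if b = v then 1 else 0) - (if a = v then 1 else 0) := by
  induction h with
  | refl =>
    refine ⟨fun _ => 0, fun _ _ => rfl, fun v => ?_⟩
    rw [sub_self]
    exact boundary_zero ends v
  | tail _ hbc ih =>
    obtain ⟨γ, hγ0, hγ⟩ := ih
    obtain ⟨e, heT, he | he⟩ := hbc
    · refine ⟨fun e' => γ e' + (Pi.single e 1 : E → ℤ) e', fun e' he' => ?_, fun v => ?_⟩
      · have hne : e' ≠ e := fun h => he' (by rw [h]; exact heT)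
        show γ e' + (Pi.single e 1 : E → ℤ) e' = 0
        rw [hγ0 e' he', Pi.single_eq_of_ne hne, add_zero]
      · refine (boundary_add ends γ (Pi.single e 1) v).trans ?_
        rw [hγ, boundary_single]
        simp only [he]
        ring
    · refine ⟨fun e' => γ e' - (Pi.single e 1 : E → ℤ) e', fun e' he' => ?_, fun v => ?_⟩
      · have hne : e' ≠ e := fun h => he' (by rw [h]; exact heT)
        show γ e' - (Pi.single e 1 : E → ℤ) e' = 0
        rw [hγ0 e' he', Pi.single_eq_of_ne hne, sub_zero]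
      · refine (boundary_sub ends γ (Pi.single e 1) v).trans ?_
        rw [hγ, boundary_single]
        simp only [he]
        ring

/-! ### integer cycles mod 2 -/

theorem cast_boundary (R : Type*) [CommRing R] (ends : E → V × V) (γ : E → ℤ) (v : V) :
    ((LabGraph.boundary ends γ v : ℤ) : R) = ∑ e, inc R ends v e * ((γ e : ℤ) : R) := by
  unfold LabGraph.boundary
  rw [Int.cast_sum]
  refine Finset.sum_congr rfl fun e _ => ?_
  simp only [inc]
  split_ifs <;> simp

theorem odd_support_even (ends : E → V × V) (γ : E → ℤ)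
    (hb : ∀ v, LabGraph.boundary ends γ v = 0) [DecidablePred fun e => ¬ (2 : ℤ) ∣ γ e] (v : V) :
    Even (LabGraph.endCount ends (Finset.univ.filter fun e => ¬ (2 : ℤ) ∣ γ e) v) := by
  rw [← ZMod.natCast_eq_zero_iff_even, ← sum_inc_zmod2]
  have h1 := cast_boundary (ZMod 2) ends γ v
  rw [hb v, Int.cast_zero] at h1
  refine Eq.trans ?_ h1.symm
  rw [Finset.sum_filter]
  refine Finset.sum_congr rfl fun e' _ => ?_
  by_cases hd : (2 : ℤ) ∣ γ e'
  · rw [if_neg (not_not.mpr hd)]
    have h2 : ((γ e' : ℤ) : ZMod 2) = 0 :=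
      (ZMod.intCast_zmod_eq_zero_iff_dvd (γ e') 2).mpr (by exact_mod_cast hd)
    rw [h2, mul_zero]
  · rw [if_pos hd]
    have h2 : ((γ e' : ℤ) : ZMod 2) = 1 := by
      rcases zmod2_cases ((γ e' : ℤ) : ZMod 2) with h | h
      · exact absurd (by exact_mod_cast (ZMod.intCast_zmod_eq_zero_iff_dvd (γ e') 2).mp h) hd
      · exact h
    rw [h2, mul_one]

theorem even_of_cycle (ends : E → V × V) (T : Finset E) (hT : NoEven ends T) (γ : E → ℤ)
    (h0 : ∀ e, e ∉ T → γ e = 0) (hb : ∀ v, LabGraph.boundary ends γ v = 0) (e : E) :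
    (2 : ℤ) ∣ γ e := by
  classical
  by_contra hodd
  have hsub : (Finset.univ.filter fun e => ¬ (2 : ℤ) ∣ γ e) ⊆ T := by
    intro e' he'
    rw [Finset.mem_filter] at he'
    by_contra hnT
    exact he'.2 (by rw [h0 e' hnT]; exact dvd_zero _)
  have hne : (Finset.univ.filter fun e => ¬ (2 : ℤ) ∣ γ e).Nonempty :=
    ⟨e, Finset.mem_filter.mpr ⟨Finset.mem_univ e, hodd⟩⟩
  obtain ⟨v, hv⟩ := hT _ hsub hne
  exact hv (odd_support_even ends γ hb v)

theorem two_pow_dvd_of_cycle (ends : E → V × V) (T : Finset E) (hT : NoEven ends T) (k : ℕ) :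
    ∀ γ : E → ℤ, (∀ e, e ∉ T → γ e = 0) → (∀ v, LabGraph.boundary ends γ v = 0) →
      ∀ e, (2 : ℤ) ^ k ∣ γ e := by
  induction k with
  | zero => intro γ _ _ e; rw [pow_zero]; exact one_dvd _
  | succ k ih =>
    intro γ h0 hb e
    have hev := even_of_cycle ends T hT γ h0 hb
    have hγ : ∀ e, γ e = 2 * (γ e / 2) := fun e => (Int.mul_ediv_cancel' (hev e)).symm
    have h0' : ∀ e, e ∉ T → γ e / 2 = 0 := fun e he => by
      rw [h0 e he]; exact Int.zero_ediv 2
    have hb' : ∀ v, LabGraph.boundary ends (fun e => γ e / 2) v = 0 := by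
      intro v
      have h2 : LabGraph.boundary ends (fun e => 2 * (γ e / 2)) v =
          2 * LabGraph.boundary ends (fun e => γ e / 2) v :=
        boundary_mul ends 2 (fun e => γ e / 2) v
      have h3 : (fun e => 2 * (γ e / 2)) = γ := funext fun e => (hγ e).symm
      rw [h3, hb v] at h2
      omega
    have h4 : (2 : ℤ) ^ k ∣ γ e / 2 := ih (fun e => γ e / 2) h0' hb' e
    rw [hγ e, pow_succ']
    exact mul_dvd_mul_left 2 h4

theorem cycle_eq_zero_of_noEven (ends : E → V × V) (T : Finset E) (hT : NoEven ends T)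
    (γ : E → ℤ) (h0 : ∀ e, e ∉ T → γ e = 0) (hb : ∀ v, LabGraph.boundary ends γ v = 0) (e : E) :
    γ e = 0 := by
  have h := two_pow_dvd_of_cycle ends T hT (γ e).natAbs γ h0 hb e
  apply Int.eq_zero_of_abs_lt_dvd h
  rw [Int.abs_eq_natAbs]
  exact_mod_cast Nat.lt_two_pow_self

/-! ### circuits -/

theorem exists_circuit_subset (ends : E → V × V) (S : Finset E) (hne : S.Nonempty)
    (hev : ∀ v, Even (LabGraph.endCount ends S v)) :
    ∃ C, C ⊆ S ∧ LabGraph.IsCircuit ends C := by
  classical
  revert hne hev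
  induction S using Finset.strongInduction with
  | H S ih =>
    intro hne hev
    by_cases hmin : ∀ C' : Finset E, C' ⊂ S → C'.Nonempty →
        ∃ v, ¬ Even (LabGraph.endCount ends C' v)
    · exact ⟨S, Finset.Subset.refl S, hne, hev, hmin⟩
    · push Not at hmin
      obtain ⟨C', hC', hne', hev'⟩ := hmin
      obtain ⟨C, hCs, hC⟩ := ih C' hC' hne' hev'
      exact ⟨C, Finset.Subset.trans hCs hC'.subset, hC⟩

theorem noEven_iff_no_circuit (ends : E → V × V) (T : Finset E) :
    NoEven ends T ↔ ∀ C, C ⊆ T → ¬ LabGraph.IsCircuit ends C := by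
  constructor
  · intro hT C hCT hC
    obtain ⟨v, hv⟩ := hT C hCT hC.1
    exact hv (hC.2.1 v)
  · intro h D hDT hne
    by_contra hall
    push Not at hall
    obtain ⟨C, hCD, hC⟩ := exists_circuit_subset ends D hne hall
    exact h C (Finset.Subset.trans hCD hDT) hC

theorem noEven_erase_of_circuit (ends : E → V × V) {C : Finset E}
    (hC : LabGraph.IsCircuit ends C) (e : E) (he : e ∈ C) : NoEven ends (C.erase e) := by
  intro D hD hne
  exact hC.2.2 D (Finset.ssubset_of_subset_of_ssubset hD (Finset.erase_ssubset he)) hne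

theorem reach_of_circuit (ends : E → V × V) {C : Finset E} (hC : LabGraph.IsCircuit ends C)
    (e : E) (he : e ∈ C) :
    Relation.ReflTransGen (AdjOn ends (C.erase e)) (ends e).1 (ends e).2 := by
  classical
  by_contra hnot
  have hmem : ∀ v, v ∈ (Finset.univ.filter fun v =>
      Relation.ReflTransGen (AdjOn ends (C.erase e)) (ends e).1 v) ↔
      Relation.ReflTransGen (AdjOn ends (C.erase e)) (ends e).1 v := fun v => by
    rw [Finset.mem_filter]; exact ⟨fun h => h.2, fun h => ⟨Finset.mem_univ v, h⟩⟩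
  refine no_single_crossing ends C (Finset.univ.filter fun v =>
      Relation.ReflTransGen (AdjOn ends (C.erase e)) (ends e).1 v) hC.2.1 e he ?_ ?_
  · rw [hmem, hmem]
    intro hiff
    exact hnot (hiff.mp Relation.ReflTransGen.refl)
  · intro e' he' hne
    rw [hmem, hmem]
    exact reachOn_step ends (ends e).1 e' (Finset.mem_erase.mpr ⟨hne, he'⟩)

theorem exists_cycle_of_circuit (ends : E → V × V) {C : Finset E}
    (hC : LabGraph.IsCircuit ends C) (e0 : E) (he0 : e0 ∈ C) :
    ∃ γ : E → ℤ, (∀ e, e ∉ C → γ e = 0) ∧ (∀ v, LabGraph.boundary ends γ v = 0) ∧ γ e0 = 1 := by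
  obtain ⟨γ, hγ0, hγ⟩ := exists_chain ends (C.erase e0)
    (reachOn_symm ends _ (reach_of_circuit ends hC e0 he0))
  refine ⟨fun e => γ e + (Pi.single e0 1 : E → ℤ) e, fun e he => ?_, fun v => ?_, ?_⟩
  · have hne : e ≠ e0 := fun h => he (by rw [h]; exact he0)
    have h1 : e ∉ C.erase e0 := fun h => he (Finset.mem_of_mem_erase h)
    show γ e + (Pi.single e0 1 : E → ℤ) e = 0
    rw [hγ0 e h1, Pi.single_eq_of_ne hne, add_zero]
  · refine (boundary_add ends γ (Pi.single e0 1) v).trans ?_
    rw [hγ, boundary_single]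
    ring
  · have h1 : e0 ∉ C.erase e0 := Finset.notMem_erase e0 C
    show γ e0 + (Pi.single e0 1 : E → ℤ) e0 = 1
    rw [hγ0 e0 h1, Pi.single_eq_same, zero_add]

/-! ### orthogonality to cycles -/

theorem orth_of_orth_circuits (ends : E → V × V) (d : E → ℤ)
    (hd : ∀ C : Finset E, LabGraph.IsCircuit ends C → ∀ γ : E → ℤ, (∀ e, e ∉ C → γ e = 0) →
      (∀ v, LabGraph.boundary ends γ v = 0) → ∑ e, γ e * d e = 0) :
    ∀ γ : E → ℤ, (∀ v, LabGraph.boundary ends γ v = 0) → ∑ e, γ e * d e = 0 := by
  classical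
  have main : ∀ S : Finset E, ∀ γ : E → ℤ, (∀ e, e ∉ S → γ e = 0) →
      (∀ v, LabGraph.boundary ends γ v = 0) → ∑ e, γ e * d e = 0 := by
    intro S
    induction S using Finset.strongInduction with
    | H S ih =>
      intro γ h0 hb
      by_cases hS : NoEven ends S
      · have hz : ∀ e, γ e = 0 := cycle_eq_zero_of_noEven ends S hS γ h0 hb
        exact Finset.sum_eq_zero fun e _ => by rw [hz e, zero_mul]
      · unfold NoEven at hS
        push Not at hS
        obtain ⟨D, hDS, hDne, hDev⟩ := hS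
        obtain ⟨C, hCD, hC⟩ := exists_circuit_subset ends D hDne hDev
        obtain ⟨e0, he0⟩ := hC.1
        obtain ⟨γC, hγC0, hγCb, hγC1⟩ := exists_cycle_of_circuit ends hC e0 he0
        have hCS : C ⊆ S := Finset.Subset.trans hCD hDS
        have h0' : ∀ e, e ∉ S.erase e0 → γ e - γ e0 * γC e = 0 := by
          intro e he
          by_cases hee : e = e0
          · rw [hee, hγC1, mul_one, sub_self]
          · have heS : e ∉ S := fun h => he (Finset.mem_erase.mpr ⟨hee, h⟩)
            have heC : e ∉ C := fun h => heS (hCS h)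
            rw [h0 e heS, hγC0 e heC, mul_zero, sub_zero]
        have hb' : ∀ v, LabGraph.boundary ends (fun e => γ e - γ e0 * γC e) v = 0 := by
          intro v
          refine (boundary_sub ends γ (fun e => γ e0 * γC e) v).trans ?_
          rw [boundary_mul ends (γ e0) γC v, hb v, hγCb v, mul_zero, sub_zero]
        have h1 := ih (S.erase e0) (Finset.erase_ssubset (hCS he0))
          (fun e => γ e - γ e0 * γC e) h0' hb'
        have h2 := hd C hC γC hγC0 hγCb
        have h3 : ∑ e, γ e * d e =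
            ∑ e, (γ e - γ e0 * γC e) * d e + γ e0 * ∑ e, γC e * d e := by
          rw [Finset.mul_sum, ← Finset.sum_add_distrib]
          exact Finset.sum_congr rfl fun e _ => by ring
        rw [h3, h1, h2, mul_zero, add_zero]
  exact fun γ hb => main Finset.univ γ (fun e he => absurd (Finset.mem_univ e) he) hb

theorem exists_potential_on (ends : E → V × V) (T : Finset E) (v0 : V)
    (hreach : ∀ v, Relation.ReflTransGen (AdjOn ends T) v0 v) (d : E → ℤ)
    (hd : ∀ γ : E → ℤ, (∀ e, e ∉ T → γ e = 0) → (∀ v, LabGraph.boundary ends γ v = 0) →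
      ∑ e, γ e * d e = 0) :
    ∃ φ : V → ℤ, φ v0 = 0 ∧ ∀ e ∈ T, φ (ends e).2 - φ (ends e).1 = d e := by
  classical
  choose Γ hΓ0 hΓb using fun v => exists_chain ends T (hreach v)
  refine ⟨fun v => ∑ e, Γ v e * d e, ?_, ?_⟩
  · apply hd (Γ v0) (hΓ0 v0)
    intro v
    rw [hΓb v0 v, sub_self]
  · intro e he
    have hsupp : ∀ e', e' ∉ T →
        Γ (ends e).2 e' - Γ (ends e).1 e' - (Pi.single e 1 : E → ℤ) e' = 0 := by
      intro e' he'
      have hne : e' ≠ e := fun h => he' (by rw [h]; exact he)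
      rw [hΓ0 _ e' he', hΓ0 _ e' he', Pi.single_eq_of_ne hne]
      ring
    have hbd : ∀ v, LabGraph.boundary ends
        (fun e' => Γ (ends e).2 e' - Γ (ends e).1 e' - (Pi.single e 1 : E → ℤ) e') v = 0 := by
      intro v
      refine (boundary_sub ends (fun e' => Γ (ends e).2 e' - Γ (ends e).1 e')
        (Pi.single e 1) v).trans ?_
      rw [boundary_sub ends (Γ (ends e).2) (Γ (ends e).1) v, hΓb, hΓb, boundary_single]
      ring
    have hcyc := hd (fun e' => Γ (ends e).2 e' - Γ (ends e).1 e' - (Pi.single e 1 : E → ℤ) e')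
      hsupp hbd
    have hsplit : ∑ e', (Γ (ends e).2 e' - Γ (ends e).1 e' - (Pi.single e 1 : E → ℤ) e') * d e' =
        (∑ e', Γ (ends e).2 e' * d e') - (∑ e', Γ (ends e).1 e' * d e') -
          ∑ e', (Pi.single e 1 : E → ℤ) e' * d e' := by
      rw [← Finset.sum_sub_distrib, ← Finset.sum_sub_distrib]
      exact Finset.sum_congr rfl fun e' _ => by ring
    rw [hsplit, pairing_single] at hcyc
    show (∑ e', Γ (ends e).2 e' * d e') - (∑ e', Γ (ends e).1 e' * d e') = d e
    linarith

theorem exists_potential (ends : E → V × V) (hG : LabGraph.Connected ends) (v0 : V) (d : E → ℤ)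
    (hd : ∀ γ : E → ℤ, (∀ v, LabGraph.boundary ends γ v = 0) → ∑ e, γ e * d e = 0) :
    ∃ φ : V → ℤ, φ v0 = 0 ∧ ∀ e, φ (ends e).2 - φ (ends e).1 = d e := by
  obtain ⟨φ, h0, h⟩ := exists_potential_on ends Finset.univ v0
    (fun v => reachOn_univ ends (hG.2 v0 v)) d (fun γ _ hb => hd γ hb)
  exact ⟨φ, h0, fun e => h e (Finset.mem_univ e)⟩

/-! ### spanning trees -/

theorem noEven_insert (ends : E → V × V) (T : Finset E) (hT : NoEven ends T) (a : V) (e : E)
    (hcross : ¬ (Relation.ReflTransGen (AdjOn ends T) a (ends e).1 ↔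
      Relation.ReflTransGen (AdjOn ends T) a (ends e).2)) :
    NoEven ends (insert e T) := by
  classical
  intro D hD hne
  by_cases heD : e ∈ D
  · by_contra hall
    push Not at hall
    have hmem : ∀ v, v ∈ (Finset.univ.filter fun v =>
        Relation.ReflTransGen (AdjOn ends T) a v) ↔
        Relation.ReflTransGen (AdjOn ends T) a v := fun v => by
      rw [Finset.mem_filter]; exact ⟨fun h => h.2, fun h => ⟨Finset.mem_univ v, h⟩⟩
    refine no_single_crossing ends D (Finset.univ.filter fun v =>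
        Relation.ReflTransGen (AdjOn ends T) a v) hall e heD ?_ ?_
    · rw [hmem, hmem]; exact hcross
    · intro e' he' hne'
      rw [hmem, hmem]
      have heT : e' ∈ T := by
        rcases Finset.mem_insert.mp (hD he') with h | h
        · exact absurd h hne'
        · exact h
      exact reachOn_step ends a e' heT
  · apply hT D ?_ hne
    intro e' he'
    rcases Finset.mem_insert.mp (hD he') with h | h
    · rw [h] at he'; exact absurd he' heD
    · exact h

theorem exists_spanning_extension (ends : E → V × V) (hG : LabGraph.Connected ends)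
    (S : Finset E) (hS : NoEven ends S) :
    ∃ T : Finset E, S ⊆ T ∧ NoEven ends T ∧
      ∀ a b, Relation.ReflTransGen (AdjOn ends T) a b := by
  classical
  have hne : (Finset.univ.filter fun T : Finset E => S ⊆ T ∧ NoEven ends T).Nonempty :=
    ⟨S, Finset.mem_filter.mpr ⟨Finset.mem_univ S, Finset.Subset.refl S, hS⟩⟩
  obtain ⟨T, hTmem, hTmax⟩ := Finset.exists_max_image _ Finset.card hne
  rw [Finset.mem_filter] at hTmem
  obtain ⟨_, hST, hTne⟩ := hTmem
  refine ⟨T, hST, hTne, ?_⟩
  by_contra hnot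
  push Not at hnot
  obtain ⟨a, b, hab⟩ := hnot
  have hex : ∃ e, ¬ (Relation.ReflTransGen (AdjOn ends T) a (ends e).1 ↔
      Relation.ReflTransGen (AdjOn ends T) a (ends e).2) := by
    by_contra hno
    push Not at hno
    exact hab (closed_of_edges ends (fun v => Relation.ReflTransGen (AdjOn ends T) a v) hno
      (hG.2 a b) Relation.ReflTransGen.refl)
  obtain ⟨e, he⟩ := hex
  have heT : e ∉ T := fun heT => he (reachOn_step ends a e heT)
  have hins := noEven_insert ends T hTne a e he
  have hcard := hTmax (insert e T) (Finset.mem_filter.mpr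
    ⟨Finset.mem_univ _, Finset.Subset.trans hST (Finset.subset_insert e T), hins⟩)
  rw [Finset.card_insert_of_notMem heT] at hcard
  omega

theorem exists_tree_potential (ends : E → V × V) (T : Finset E) (hT : NoEven ends T)
    (hreach : ∀ a b, Relation.ReflTransGen (AdjOn ends T) a b) (v0 : V) (d : E → ℤ) :
    ∃ φ : V → ℤ, φ v0 = 0 ∧ ∀ e ∈ T, φ (ends e).2 - φ (ends e).1 = d e :=
  exists_potential_on ends T v0 (fun v => hreach v0 v) d (fun γ h0 hb =>
    Finset.sum_eq_zero fun e _ => by rw [cycle_eq_zero_of_noEven ends T hT γ h0 hb e, zero_mul])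

end Groth.Agent.Lib.Helper29.GraphSub
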