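import Mathlib
import Groth.Prelude.Def_W4c2conddiscmodels
import Groth.Agent.Lib.Helper29.GraphSub

set_option autoImplicit false

open Finset

namespace Groth.Agent.Lib.Helper29.CartierClosure

open Groth.Agent.Lib.Helper29.GraphInc Groth.Agent.Lib.Helper29.GraphSub

universe u v

variable {V E : Type u} [Fintype V] [Fintype E] [DecidableEq V] [DecidableEq E]

theorem exists_colour_potential {L : Type v} [DecidableEq L] (ends : E → V × V) (lab : E → L)
    (hconn : LabGraph.Connected ends)
    (hcirc : ∀ C : Finset E, LabGraph.IsCircuit ends C → ∀ e ∈ C, ∀ e' ∈ C, lab e = lab e')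
    (f : V → ℤ) (lam : L) (v0 : V) :
    ∃ φ : V → ℤ, φ v0 = 0 ∧ ∀ e, φ (ends e).2 - φ (ends e).1 =
      if lab e = lam then f (ends e).2 - f (ends e).1 else 0 := by
  refine exists_potential ends hconn v0
    (fun e => if lab e = lam then f (ends e).2 - f (ends e).1 else 0) ?_
  refine orth_of_orth_circuits ends
    (fun e => if lab e = lam then f (ends e).2 - f (ends e).1 else 0) ?_
  intro C hC γ hγ0 hγb
  show ∑ e, γ e * (if lab e = lam then f (ends e).2 - f (ends e).1 else 0) = 0
  by_cases hex : ∃ e ∈ C, lab e = lam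
  · obtain ⟨e1, he1, hl1⟩ := hex
    calc ∑ e, γ e * (if lab e = lam then f (ends e).2 - f (ends e).1 else 0)
        = ∑ e, γ e * (f (ends e).2 - f (ends e).1) := by
          refine Finset.sum_congr rfl fun e _ => ?_
          by_cases heC : e ∈ C
          · rw [if_pos ((hcirc C hC e heC e1 he1).trans hl1)]
          · rw [hγ0 e heC, zero_mul, zero_mul]
      _ = ∑ v, f v * LabGraph.boundary ends γ v := pairing_boundary ends γ f
      _ = 0 := Finset.sum_eq_zero fun v _ => by rw [hγb v, mul_zero]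
  · push Not at hex
    refine Finset.sum_eq_zero fun e _ => ?_
    by_cases heC : e ∈ C
    · rw [if_neg (hex e heC), mul_zero]
    · rw [hγ0 e heC, zero_mul]

theorem main17724 {L : Type v}
    (ends : E → V × V) (lab : E → L) (n : E → ℕ) (hn : ∀ e, 0 < n e)
    (hconn : LabGraph.Connected ends)
    (hcirc : ∀ C : Finset E, LabGraph.IsCircuit ends C → ∀ e ∈ C, ∀ e' ∈ C, lab e = lab e')
    (f : V → ℤ) (hf : LabGraph.IsCartier ends n f) :
    f ∈ AddSubmonoid.closure {g : V → ℤ | LabGraph.IsCartier ends n g ∧ (∃ B : Finset E, (∀ e ∈ B, ∀ e' ∈ B, lab e = lab e') ∧ ∀ e, e ∉ B → g (ends e).1 = g (ends e).2)} ∧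
    ∀ v₀ : V, f v₀ = 0 →
      f ∈ AddSubmonoid.closure {g : V → ℤ | LabGraph.IsCartier ends n g ∧ (∃ B : Finset E, (∀ e ∈ B, ∀ e' ∈ B, lab e = lab e') ∧ ∀ e, e ∉ B → g (ends e).1 = g (ends e).2) ∧ g v₀ = 0} := by
  classical
  have key : ∀ v0 : V, ∃ Φ : L → V → ℤ, (∀ lam, Φ lam v0 = 0) ∧
      (∀ lam, LabGraph.IsCartier ends n (Φ lam)) ∧
      (∀ lam, ∃ B : Finset E, (∀ e ∈ B, ∀ e' ∈ B, lab e = lab e') ∧
        ∀ e, e ∉ B → Φ lam (ends e).1 = Φ lam (ends e).2) ∧
      f = (fun _ => f v0) + ∑ lam ∈ Finset.univ.image lab, Φ lam := by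
    intro v0
    choose Φ h1 h2 using fun lam => exists_colour_potential ends lab hconn hcirc f lam v0
    refine ⟨Φ, h1, ?_, ?_, ?_⟩
    · intro lam e
      have h := h2 lam e
      have h3 : Φ lam (ends e).1 - Φ lam (ends e).2 =
          if lab e = lam then f (ends e).1 - f (ends e).2 else 0 := by
        split_ifs at h ⊢ <;> linarith
      rw [h3]
      split_ifs
      · exact hf e
      · exact dvd_zero _
    · intro lam
      refine ⟨Finset.univ.filter fun e => lab e = lam, ?_, ?_⟩
      · intro e he e' he'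
        rw [(Finset.mem_filter.mp he).2, (Finset.mem_filter.mp he').2]
      · intro e he
        have hne : ¬ lab e = lam := fun h => he (Finset.mem_filter.mpr ⟨Finset.mem_univ e, h⟩)
        have h := h2 lam e
        rw [if_neg hne] at h
        linarith
    · have hsum : ∀ e, ∑ lam ∈ Finset.univ.image lab, (Φ lam (ends e).2 - Φ lam (ends e).1) =
          f (ends e).2 - f (ends e).1 := by
        intro e
        rw [Finset.sum_congr rfl fun lam _ => h2 lam e, Finset.sum_ite_eq,
          if_pos (Finset.mem_image_of_mem lab (Finset.mem_univ e))]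
      have hy : ∀ e, (fun v => f v - ∑ lam ∈ Finset.univ.image lab, Φ lam v) (ends e).2 =
          (fun v => f v - ∑ lam ∈ Finset.univ.image lab, Φ lam v) (ends e).1 := by
        intro e
        have h := hsum e
        rw [Finset.sum_sub_distrib] at h
        show f (ends e).2 - ∑ lam ∈ Finset.univ.image lab, Φ lam (ends e).2 =
          f (ends e).1 - ∑ lam ∈ Finset.univ.image lab, Φ lam (ends e).1
        linarith
      funext v
      have h : f v - ∑ lam ∈ Finset.univ.image lab, Φ lam v =
          f v0 - ∑ lam ∈ Finset.univ.image lab, Φ lam v0 :=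
        const_of_connected ends hconn
          (fun v => f v - ∑ lam ∈ Finset.univ.image lab, Φ lam v) hy v v0
      have hz : ∑ lam ∈ Finset.univ.image lab, Φ lam v0 = 0 :=
        Finset.sum_eq_zero fun lam _ => h1 lam
      rw [hz, sub_zero] at h
      simp only [Pi.add_apply, Finset.sum_apply]
      linarith
  constructor
  · obtain ⟨⟨v0⟩, _⟩ := id hconn
    obtain ⟨Φ, h1, hcart, hpre, hfeq⟩ := key v0
    rw [hfeq]
    refine add_mem (AddSubmonoid.mem_closure_of_mem ⟨?_, ∅, ?_, ?_⟩)
      (sum_mem fun lam _ => AddSubmonoid.mem_closure_of_mem ⟨hcart lam, hpre lam⟩)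
    · intro e
      show (n e : ℤ) ∣ f v0 - f v0
      rw [sub_self]; exact dvd_zero _
    · intro e he; exact absurd he (Finset.notMem_empty e)
    · intro e _; rfl
  · intro v₀ hv₀
    obtain ⟨Φ, h1, hcart, hpre, hfeq⟩ := key v₀
    rw [hfeq]
    refine add_mem (AddSubmonoid.mem_closure_of_mem ⟨?_, ⟨∅, ?_, ?_⟩, hv₀⟩)
      (sum_mem fun lam _ => AddSubmonoid.mem_closure_of_mem ⟨hcart lam, hpre lam, h1 lam⟩)
    · intro e
      show (n e : ℤ) ∣ f v₀ - f v₀
      rw [sub_self]; exact dvd_zero _
    · intro e he; exact absurd he (Finset.notMem_empty e)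
    · intro e _; rfl

end Groth.Agent.Lib.Helper29.CartierClosure
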