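import Mathlib

set_option autoImplicit false
set_option backward.isDefEq.respectTransparency false
universe v u
open CategoryTheory CategoryTheory.Limits Opposite
open scoped Simplicial

namespace Groth.Agent.Lib.Helper29.CechHtpy

lemma val_succAbove' {n : ℕ} (p : Fin (n + 1)) (i : Fin n) :
    (p.succAbove i).val = if i.val < p.val then i.val else i.val + 1 := by
  by_cases h : i.val < p.val
  · rw [Fin.succAbove_of_castSucc_lt p i (Fin.lt_def.mpr h), if_pos h]; rfl
  · rw [Fin.succAbove_of_le_castSucc p i (Fin.le_def.mpr (Nat.le_of_not_lt h)), if_neg h]; rfl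

lemma val_predAbove' {n : ℕ} (p : Fin n) (i : Fin (n + 1)) :
    (p.predAbove i).val = if p.val < i.val then i.val - 1 else i.val := by
  by_cases h : p.val < i.val
  · rw [Fin.predAbove_of_castSucc_lt p i (Fin.lt_def.mpr h), if_pos h]; rfl
  · rw [Fin.predAbove_of_le_castSucc p i (Fin.le_def.mpr (Nat.le_of_not_lt h)), if_neg h]; rfl

macro "fin_arith" : tactic => `(tactic|
  (simp only [val_predAbove', val_succAbove', Fin.val_zero, Fin.val_last, Fin.val_succ,
      Fin.val_castSucc] <;>
   (try split_ifs) <;> omega))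

section
variable {C : Type u} [Category.{v} C] (F : Arrow C)
  [∀ n : ℕ, HasWidePullback.{0} F.right (fun _ : Fin (n + 1) => F.left) fun _ => F.hom]

/-- the `n`-th term of the Čech nerve -/
noncomputable abbrev P (n : ℕ) : C :=
  widePullback.{0} F.right (fun _ : Fin (n + 1) => F.left) fun _ => F.hom

variable (a b : F.left ⟶ F.left)

/-- the map `(y_k)_k ↦ (e_k (y_{θ k}))_k`, with `e_k = a` or `b` according to `c k`. -/
noncomputable def T (ha : a ≫ F.hom = F.hom) (hb : b ≫ F.hom = F.hom) {n m : ℕ}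
    (θ : Fin (m + 1) → Fin (n + 1)) (c : Fin (m + 1) → Bool) : P F n ⟶ P F m :=
  WidePullback.lift (WidePullback.base _)
    (fun k => WidePullback.π _ (θ k) ≫ (if c k then a else b))
    (by
      intro k
      have h : (if c k then a else b) ≫ F.hom = F.hom := by split_ifs <;> assumption
      rw [Category.assoc, h]
      exact WidePullback.π_arrow _ _)

lemma T_π (ha : a ≫ F.hom = F.hom) (hb : b ≫ F.hom = F.hom) {n m : ℕ}
    (θ : Fin (m + 1) → Fin (n + 1)) (c : Fin (m + 1) → Bool) (k : Fin (m + 1)) :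
    T F a b ha hb θ c ≫ WidePullback.π (fun _ : Fin (m + 1) => F.hom) k =
      WidePullback.π (fun _ : Fin (n + 1) => F.hom) (θ k) ≫ (if c k then a else b) :=
  WidePullback.lift_π _ _ _ _ k

lemma T_base (ha : a ≫ F.hom = F.hom) (hb : b ≫ F.hom = F.hom) {n m : ℕ}
    (θ : Fin (m + 1) → Fin (n + 1)) (c : Fin (m + 1) → Bool) :
    T F a b ha hb θ c ≫ WidePullback.base (fun _ : Fin (m + 1) => F.hom) =
      WidePullback.base (fun _ : Fin (n + 1) => F.hom) :=
  WidePullback.lift_base _ _ _ _

lemma T_congr (ha : a ≫ F.hom = F.hom) (hb : b ≫ F.hom = F.hom) {n m : ℕ}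
    {θ θ' : Fin (m + 1) → Fin (n + 1)} {c c' : Fin (m + 1) → Bool}
    (h1 : ∀ k, θ k = θ' k) (h2 : ∀ k, c k = c' k) :
    T F a b ha hb θ c = T F a b ha hb θ' c' := by
  obtain rfl : θ = θ' := funext h1
  obtain rfl : c = c' := funext h2
  rfl

lemma cech_map_π {n m : ℕ} (g : ⦋m⦌ ⟶ ⦋n⦌) (k : Fin (m + 1)) :
    F.cechNerve.map g.op ≫ WidePullback.π (fun _ : Fin (m + 1) => F.hom) k =
      WidePullback.π (fun _ : Fin (n + 1) => F.hom) (g.toOrderHom k) :=
  WidePullback.lift_π _ _ _ _ k

lemma cech_map_base {n m : ℕ} (g : ⦋m⦌ ⟶ ⦋n⦌) :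
    F.cechNerve.map g.op ≫ WidePullback.base (fun _ : Fin (m + 1) => F.hom) =
      WidePullback.base (fun _ : Fin (n + 1) => F.hom) :=
  WidePullback.lift_base _ _ _ _

lemma map_T (ha : a ≫ F.hom = F.hom) (hb : b ≫ F.hom = F.hom) {n m l : ℕ} (g : ⦋m⦌ ⟶ ⦋n⦌)
    (θ : Fin (l + 1) → Fin (m + 1)) (c : Fin (l + 1) → Bool) :
    F.cechNerve.map g.op ≫ T F a b ha hb θ c =
      T F a b ha hb (fun k => g.toOrderHom (θ k)) c := by
  apply WidePullback.hom_ext
  · intro k
    rw [Category.assoc, T_π, T_π, ← Category.assoc, cech_map_π]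
  · rw [Category.assoc, T_base, T_base, cech_map_base]

lemma T_map (ha : a ≫ F.hom = F.hom) (hb : b ≫ F.hom = F.hom) {n m l : ℕ}
    (θ : Fin (m + 1) → Fin (n + 1)) (c : Fin (m + 1) → Bool) (g : ⦋l⦌ ⟶ ⦋m⦌) :
    T F a b ha hb θ c ≫ F.cechNerve.map g.op =
      T F a b ha hb (fun k => θ (g.toOrderHom k)) (fun k => c (g.toOrderHom k)) := by
  apply WidePullback.hom_ext
  · intro k
    rw [Category.assoc, cech_map_π, T_π, T_π]
  · rw [Category.assoc, cech_map_base, T_base, T_base]

lemma id_app_eq (ha : a ≫ F.hom = F.hom) (hb : b ≫ F.hom = F.hom) (c : Bool)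
    (hc : (if c then a else b) = 𝟙 F.left) (n : ℕ) :
    (𝟙 F.cechNerve : F.cechNerve ⟶ F.cechNerve).app (op ⦋n⦌) =
      T F a b ha hb (fun k => k) (fun _ => c) := by
  apply WidePullback.hom_ext
  · intro k
    rw [T_π, hc, Category.comp_id]
    exact Category.id_comp _
  · rw [T_base]
    exact Category.id_comp _

lemma map_app_eq (ha : a ≫ F.hom = F.hom) (hb : b ≫ F.hom = F.hom) (φ : F ⟶ F)
    (hr : φ.right = 𝟙 F.right) (c : Bool) (hc : (if c then a else b) = φ.left) (n : ℕ) :
    (Arrow.mapCechNerve φ).app (op ⦋n⦌) = T F a b ha hb (fun k => k) (fun _ => c) := by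
  apply WidePullback.hom_ext
  · intro k
    rw [T_π, hc]
    exact WidePullback.lift_π _ _ _ _ k
  · rw [T_base]
    refine (WidePullback.lift_base _ _ _ _).trans ?_
    rw [hr]
    exact Category.comp_id _

/-- the standard prism homotopy on the Čech nerve -/
noncomputable def htpy (ha : a ≫ F.hom = F.hom) (hb : b ≫ F.hom = F.hom)
    (A B : F.cechNerve ⟶ F.cechNerve)
    (hA : ∀ n : ℕ, A.app (op ⦋n⦌) = T F a b ha hb (fun k => k) (fun _ => true))
    (hB : ∀ n : ℕ, B.app (op ⦋n⦌) = T F a b ha hb (fun k => k) (fun _ => false)) :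
    SimplicialObject.Homotopy A B where
  h := fun {n} i => T F a b ha hb (n := n) (m := n + 1) (fun k => Fin.predAbove i k)
    (fun k => decide (k.val ≤ i.val))
  h_zero_comp_δ_zero := by
    intro n
    refine (T_map F a b ha hb _ _ (SimplexCategory.δ (0 : Fin (n + 2)))).trans
      ((T_congr F a b ha hb ?_ ?_).trans (hB n).symm)
    · intro k
      show Fin.predAbove (0 : Fin (n + 1)) (Fin.succAbove (0 : Fin (n + 2)) k) = k
      apply Fin.ext; fin_arith
    · intro k
      show decide ((Fin.succAbove (0 : Fin (n + 2)) k).val ≤ (0 : Fin (n + 1)).val) = false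
      apply decide_eq_false
      fin_arith
  h_last_comp_δ_last := by
    intro n
    refine (T_map F a b ha hb _ _ (SimplexCategory.δ (Fin.last (n + 1)))).trans
      ((T_congr F a b ha hb ?_ ?_).trans (hA n).symm)
    · intro k
      have hk : k.val < n + 1 := k.isLt
      show Fin.predAbove (Fin.last n) (Fin.succAbove (Fin.last (n + 1)) k) = k
      apply Fin.ext; fin_arith
    · intro k
      have hk : k.val < n + 1 := k.isLt
      show decide ((Fin.succAbove (Fin.last (n + 1)) k).val ≤ (Fin.last n).val) = true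
      apply decide_eq_true
      fin_arith
  h_succ_comp_δ_castSucc_of_lt := by
    intro n i j hij
    have h1 : i.val ≤ j.val := hij
    refine (T_map F a b ha hb _ _ (SimplexCategory.δ i.castSucc)).trans
      ((T_congr F a b ha hb ?_ ?_).trans (map_T F a b ha hb (SimplexCategory.δ i) _ _).symm)
    · intro k
      show Fin.predAbove j.succ (Fin.succAbove i.castSucc k) = Fin.succAbove i (Fin.predAbove j k)
      apply Fin.ext; fin_arith
    · intro k
      show decide ((Fin.succAbove i.castSucc k).val ≤ j.succ.val) = decide (k.val ≤ j.val)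
      apply decide_eq_decide.mpr
      fin_arith
  h_succ_comp_δ_castSucc_succ := by
    intro n j
    refine (T_map F a b ha hb _ _ (SimplexCategory.δ j.castSucc.succ)).trans
      ((T_congr F a b ha hb ?_ ?_).trans
        (T_map F a b ha hb _ _ (SimplexCategory.δ j.castSucc.succ)).symm)
    · intro k
      show Fin.predAbove j.succ (Fin.succAbove j.castSucc.succ k) =
        Fin.predAbove j.castSucc (Fin.succAbove j.castSucc.succ k)
      apply Fin.ext; fin_arith
    · intro k
      show decide ((Fin.succAbove j.castSucc.succ k).val ≤ j.succ.val) =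
        decide ((Fin.succAbove j.castSucc.succ k).val ≤ j.castSucc.val)
      apply decide_eq_decide.mpr
      fin_arith
  h_castSucc_comp_δ_succ_of_lt := by
    intro n i j hji
    have h1 : j.val < i.val := hji
    refine (T_map F a b ha hb _ _ (SimplexCategory.δ i.succ)).trans
      ((T_congr F a b ha hb ?_ ?_).trans (map_T F a b ha hb (SimplexCategory.δ i) _ _).symm)
    · intro k
      show Fin.predAbove j.castSucc (Fin.succAbove i.succ k) = Fin.succAbove i (Fin.predAbove j k)
      apply Fin.ext; fin_arith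
    · intro k
      show decide ((Fin.succAbove i.succ k).val ≤ j.castSucc.val) = decide (k.val ≤ j.val)
      apply decide_eq_decide.mpr
      fin_arith
  h_comp_σ_castSucc_of_le := by
    intro n i j hij
    have h1 : i.val ≤ j.val := hij
    refine (T_map F a b ha hb _ _ (SimplexCategory.σ i.castSucc)).trans
      ((T_congr F a b ha hb ?_ ?_).trans (map_T F a b ha hb (SimplexCategory.σ i) _ _).symm)
    · intro k
      show Fin.predAbove j (Fin.predAbove i.castSucc k) = Fin.predAbove i (Fin.predAbove j.succ k)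
      apply Fin.ext; fin_arith
    · intro k
      show decide ((Fin.predAbove i.castSucc k).val ≤ j.val) = decide (k.val ≤ j.succ.val)
      apply decide_eq_decide.mpr
      fin_arith
  h_comp_σ_succ_of_lt := by
    intro n i j hji
    have h1 : j.val ≤ i.val := hji
    refine (T_map F a b ha hb _ _ (SimplexCategory.σ i.succ)).trans
      ((T_congr F a b ha hb ?_ ?_).trans (map_T F a b ha hb (SimplexCategory.σ i) _ _).symm)
    · intro k
      show Fin.predAbove j (Fin.predAbove i.succ k) = Fin.predAbove i (Fin.predAbove j.castSucc k)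
      apply Fin.ext; fin_arith
    · intro k
      show decide ((Fin.predAbove i.succ k).val ≤ j.val) = decide (k.val ≤ j.castSucc.val)
      apply decide_eq_decide.mpr
      fin_arith

end

theorem main6789 {C : Type u} [Category.{v} C] {Y X : C} (f : Y ⟶ X) (s : X ⟶ Y)
    (hs : s ≫ f = 𝟙 X)
    [∀ n : ℕ, HasWidePullback (Arrow.mk f).right (fun _ : Fin (n + 1) => (Arrow.mk f).left)
      (fun _ => (Arrow.mk f).hom)]
    (φ : Arrow.mk f ⟶ Arrow.mk f) (hφl : φ.left = f ≫ s) (hφr : φ.right = 𝟙 X) :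
    Nonempty (SimplicialObject.Homotopy (𝟙 (Arrow.mk f).cechNerve) (Arrow.mapCechNerve φ)) ∧
    Nonempty (SimplicialObject.Homotopy (Arrow.mapCechNerve φ) (𝟙 (Arrow.mk f).cechNerve)) := by
  have h1 : (𝟙 Y : Y ⟶ Y) ≫ f = f := Category.id_comp f
  have h2 : (f ≫ s) ≫ f = f := by rw [Category.assoc, hs, Category.comp_id]
  constructor
  · exact ⟨htpy (Arrow.mk f) (𝟙 Y) (f ≫ s) h1 h2 _ _
      (fun n => id_app_eq (Arrow.mk f) (𝟙 Y) (f ≫ s) h1 h2 true (if_pos rfl) n)
      (fun n => map_app_eq (Arrow.mk f) (𝟙 Y) (f ≫ s) h1 h2 φ hφr false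
        ((if_neg Bool.false_ne_true).trans hφl.symm) n)⟩
  · exact ⟨htpy (Arrow.mk f) (f ≫ s) (𝟙 Y) h2 h1 _ _
      (fun n => map_app_eq (Arrow.mk f) (f ≫ s) (𝟙 Y) h2 h1 φ hφr true
        ((if_pos rfl).trans hφl.symm) n)
      (fun n => id_app_eq (Arrow.mk f) (f ≫ s) (𝟙 Y) h2 h1 false
        (if_neg Bool.false_ne_true) n)⟩

end Groth.Agent.Lib.Helper29.CechHtpy
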