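import Mathlib
import Groth.Prelude.Def_ModSite

/-!
# Base change property for presheaves of modules (Yoneda form) and the chaotic topology

`BC M g` says that for `g : U ⟶ V`, restriction `M(V) → M(U)` exhibits `M(U)` as the extension of
scalars of `M(V)` along `R(V) → R(U)`, stated through the universal property (so that it makes sense
for not necessarily commutative rings).
-/

set_option maxHeartbeats 1600000
set_option backward.isDefEq.respectTransparency false

universe w w' v₁ u₁ u

open CategoryTheory CategoryTheory.Limits Opposite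

namespace Groth.Agent.Lib.Helper29.ChaoticA

section Presheaf

variable {C : Type u₁} [Category.{v₁} C] {R₀ : Cᵒᵖ ⥤ RingCat.{u}}

/-- base-change property in Yoneda form -/
def BC (M : PresheafOfModules.{u} R₀) {U V : C} (g : U ⟶ V) : Prop :=
  ∀ N : ModuleCat.{u} (R₀.obj (op U)),
    Function.Bijective (fun f : M.obj (op U) ⟶ N =>
      M.map g.op ≫ (ModuleCat.restrictScalars (R₀.map g.op).hom).map f)

lemma unit_hom_apply {X : Cᵒᵖ} {N : ModuleCat.{u} (R₀.obj X)}
    (f : (PresheafOfModules.unit R₀).obj X ⟶ N) (b : R₀.obj X) :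
    f.hom (show (PresheafOfModules.unit R₀).obj X from b) =
      b • f.hom (show (PresheafOfModules.unit R₀).obj X from (1 : R₀.obj X)) := by
  have h3 := f.hom.map_smul b (show (PresheafOfModules.unit R₀).obj X from (1 : R₀.obj X))
  have h4 : (b • (show (PresheafOfModules.unit R₀).obj X from (1 : R₀.obj X))) =
      (show (PresheafOfModules.unit R₀).obj X from b) := mul_one b
  exact (congrArg (fun z => f.hom z) h4.symm).trans h3

theorem bc_unit {U V : C} (g : U ⟶ V) : BC (PresheafOfModules.unit R₀) g := by
  intro N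
  constructor
  · intro f₁ f₂ e
    have e1 := congrArg (fun k => k.hom
      (show (PresheafOfModules.unit R₀).obj (op V) from (1 : R₀.obj (op V)))) e
    have e2 : f₁.hom ((PresheafOfModules.unit R₀).map g.op
        (show (PresheafOfModules.unit R₀).obj (op V) from (1 : R₀.obj (op V)))) =
        f₂.hom ((PresheafOfModules.unit R₀).map g.op
        (show (PresheafOfModules.unit R₀).obj (op V) from (1 : R₀.obj (op V)))) := e1
    have e3 : (PresheafOfModules.unit R₀).map g.op
        (show (PresheafOfModules.unit R₀).obj (op V) from (1 : R₀.obj (op V))) =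
        (show (PresheafOfModules.unit R₀).obj (op U) from (1 : R₀.obj (op U))) :=
      PresheafOfModules.unit_map_one R₀ g.op
    apply ModuleCat.hom_ext
    apply LinearMap.ext
    intro b
    have a1 := unit_hom_apply f₁ b
    have a2 := unit_hom_apply f₂ b
    refine a1.trans (Eq.trans ?_ a2.symm)
    congr 1
    exact (congrArg (fun z => f₁.hom z) e3).symm.trans (e2.trans (congrArg (fun z => f₂.hom z) e3))
  · intro h
    let n : N := h.hom (show (PresheafOfModules.unit R₀).obj (op V) from (1 : R₀.obj (op V)))
    let f : (PresheafOfModules.unit R₀).obj (op U) ⟶ N :=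
      ModuleCat.ofHom (LinearMap.toSpanSingleton (R₀.obj (op U)) N n)
    refine ⟨f, ?_⟩
    apply ModuleCat.hom_ext
    apply LinearMap.ext
    intro b
    refine Eq.trans ?_ (unit_hom_apply h b).symm
    rfl

theorem bc_of_isColimit {D : Type w} [Category.{w'} D]
    (K : D ⥤ PresheafOfModules.{u} R₀) (c : Cocone K) (hc : IsColimit c) {U V : C} (g : U ⟶ V)
    [PreservesColimit K (PresheafOfModules.evaluation R₀ (op U))]
    [PreservesColimit K (PresheafOfModules.evaluation R₀ (op V))]
    (h : ∀ j, BC (K.obj j) g) : BC c.pt g := by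
  intro N
  have hU := isColimitOfPreserves (PresheafOfModules.evaluation R₀ (op U)) hc
  have hV := isColimitOfPreserves (PresheafOfModules.evaluation R₀ (op V)) hc
  have nat : ∀ j, (K.obj j).map g.op ≫
      (ModuleCat.restrictScalars (R₀.map g.op).hom).map ((c.ι.app j).app (op U)) =
      (c.ι.app j).app (op V) ≫ c.pt.map g.op := fun j => (c.ι.app j).naturality g.op
  constructor
  · intro f₁ f₂ e
    have e' : c.pt.map g.op ≫ (ModuleCat.restrictScalars (R₀.map g.op).hom).map f₁ =
        c.pt.map g.op ≫ (ModuleCat.restrictScalars (R₀.map g.op).hom).map f₂ := e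
    apply hU.hom_ext
    intro j
    apply (h j N).1
    show (K.obj j).map g.op ≫ (ModuleCat.restrictScalars (R₀.map g.op).hom).map
        ((c.ι.app j).app (op U) ≫ f₁) = (K.obj j).map g.op ≫
        (ModuleCat.restrictScalars (R₀.map g.op).hom).map ((c.ι.app j).app (op U) ≫ f₂)
    rw [Functor.map_comp, Functor.map_comp, ← Category.assoc, ← Category.assoc, nat,
      Category.assoc, Category.assoc, e']
  · intro k
    have hex : ∀ j, ∃ kj : (K.obj j).obj (op U) ⟶ N, (K.obj j).map g.op ≫
        (ModuleCat.restrictScalars (R₀.map g.op).hom).map kj = (c.ι.app j).app (op V) ≫ k :=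
      fun j => (h j N).2 ((c.ι.app j).app (op V) ≫ k)
    choose kj hkj using hex
    have hnat : ∀ (j j' : D) (a : j ⟶ j'), (K.map a).app (op U) ≫ kj j' = kj j := by
      intro j j' a
      apply (h j N).1
      show (K.obj j).map g.op ≫ (ModuleCat.restrictScalars (R₀.map g.op).hom).map
        ((K.map a).app (op U) ≫ kj j') = (K.obj j).map g.op ≫
        (ModuleCat.restrictScalars (R₀.map g.op).hom).map (kj j)
      rw [Functor.map_comp, ← Category.assoc, (K.map a).naturality g.op, Category.assoc,
        hkj j', hkj j, ← Category.assoc]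
      congr 1
      rw [← PresheafOfModules.comp_app, c.w a]
    let s : Cocone (K ⋙ PresheafOfModules.evaluation R₀ (op U)) :=
      { pt := N
        ι := { app := fun j => kj j
               naturality := by
                 intro j j' a
                 show (K.map a).app (op U) ≫ kj j' = kj j ≫ 𝟙 N
                 rw [Category.comp_id]
                 exact hnat j j' a } }
    refine ⟨hU.desc s, ?_⟩
    apply hV.hom_ext
    intro j
    show (c.ι.app j).app (op V) ≫ c.pt.map g.op ≫
      (ModuleCat.restrictScalars (R₀.map g.op).hom).map (hU.desc s) = (c.ι.app j).app (op V) ≫ k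
    have fac' : (c.ι.app j).app (op U) ≫ hU.desc s = kj j := hU.fac s j
    rw [← Category.assoc, ← nat, Category.assoc, ← Functor.map_comp, fac', hkj j]

theorem span_of_bc (M : PresheafOfModules.{u} R₀) {U V : C} (g : U ⟶ V) (h : BC M g) :
    Submodule.span (R₀.obj (op U)) (Set.range (M.restrictₛₗ g.op)) = ⊤ := by
  set S := Submodule.span (R₀.obj (op U)) (Set.range (M.restrictₛₗ g.op)) with hS
  have key := (h (ModuleCat.of _ (M.obj (op U) ⧸ S))).1
  have e : (ModuleCat.ofHom S.mkQ : M.obj (op U) ⟶ ModuleCat.of _ (M.obj (op U) ⧸ S)) = 0 := by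
    apply key
    apply ModuleCat.hom_ext
    apply LinearMap.ext
    intro x
    show S.mkQ (M.restrictₛₗ g.op x) = 0
    exact (Submodule.Quotient.mk_eq_zero _).2 (Submodule.subset_span ⟨x, rfl⟩)
  have e2 : S.mkQ = 0 := congrArg ModuleCat.Hom.hom e
  rw [← Submodule.ker_mkQ S, e2, LinearMap.ker_zero]

lemma exists_factor {A : Type u} [Ring A] {X Y Z : ModuleCat.{u} A} (p : X ⟶ Y)
    (hp : Function.Surjective p.hom) (θ : X ⟶ Z) (hθ : ∀ z, p.hom z = 0 → θ.hom z = 0) :
    ∃ h : Y ⟶ Z, p ≫ h = θ := by
  have hle : LinearMap.ker p.hom ≤ LinearMap.ker θ.hom := fun z hz => hθ z hz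
  let e := LinearMap.quotKerEquivOfSurjective p.hom hp
  refine ⟨ModuleCat.ofHom ((Submodule.liftQ _ θ.hom hle).comp e.symm.toLinearMap), ?_⟩
  apply ModuleCat.hom_ext
  apply LinearMap.ext
  intro z
  show (Submodule.liftQ _ θ.hom hle) (e.symm (p.hom z)) = θ.hom z
  have hz : e.symm (p.hom z) = Submodule.Quotient.mk z :=
    LinearMap.quotKerEquivOfSurjective_symm_apply p.hom hp z
  rw [hz]
  rfl

end Presheaf

section Sheaf

variable {C : Type u} [SmallCategory C] {J : GrothendieckTopology C} {R : Sheaf J RingCat.{u}}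

theorem isSheaf_of_trivial (hJ : ∀ (X : C) (S : Sieve X), S ∈ J X → S = ⊤)
    {A : Type*} [Category A] (P : Cᵒᵖ ⥤ A) : Presheaf.IsSheaf J P := by
  intro E X S hS
  rw [hJ X S hS]
  exact Presieve.isSheafFor_top _

theorem forget_isEquivalence (hJ : ∀ (X : C) (S : Sieve X), S ∈ J X → S = ⊤) :
    (SheafOfModules.forget.{u} R).IsEquivalence := by
  haveI : (SheafOfModules.forget.{u} R).EssSurj :=
    ⟨fun P => ⟨⟨P, isSheaf_of_trivial hJ _⟩, ⟨Iso.refl _⟩⟩⟩
  exact { }

theorem bc_free (hJ : ∀ (X : C) (S : Sieve X), S ∈ J X → S = ⊤) (I : Type u) {U V : C}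
    (g : U ⟶ V) : BC (SheafOfModules.free (R := R) I).val g := by
  haveI := forget_isEquivalence (R := R) hJ
  exact bc_of_isColimit
    (Discrete.functor (fun _ : I => SheafOfModules.unit R) ⋙ SheafOfModules.forget R)
    ((SheafOfModules.forget R).mapCocone (SheafOfModules.freeCofan I))
    (isColimitOfPreserves (SheafOfModules.forget R) (SheafOfModules.isColimitFreeCofan I)) g
    (fun j => bc_unit g)

theorem bc_of_presentation (hJ : ∀ (X : C) (S : Sieve X), S ∈ J X → S = ⊤)
    {M : SheafOfModules.{u} R} (P : M.Presentation) {U V : C} (g : U ⟶ V) : BC M.val g := by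
  haveI := forget_isEquivalence (R := R) hJ
  refine bc_of_isColimit (_ ⋙ SheafOfModules.forget R) ((SheafOfModules.forget R).mapCocone _)
    (isColimitOfPreserves (SheafOfModules.forget R) P.isColimit) g ?_
  intro j
  cases j
  · exact bc_free hJ _ g
  · exact bc_free hJ _ g

end Sheaf

section Iso

variable {C : Type u} [SmallCategory C] {J : GrothendieckTopology C}

theorem isIso_iff_bc (O : Sheaf J CommRingCat.{u}) (F : ModSite.Mod O) {U V : C} (g : U ⟶ V) :
    IsIso (((ModuleCat.extendRestrictScalarsAdj (O.obj.map g.op).hom).homEquiv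
          (F.val.obj (op V) : ModuleCat.{u} (O.obj.obj (op V)))
          (F.val.obj (op U) : ModuleCat.{u} (O.obj.obj (op U)))).symm
          (F.val.map g.op)) ↔ BC F.val g := by
  rw [isIso_iff_coyoneda_map_bijective]
  let φ := (O.obj.map g.op).hom
  let adj := ModuleCat.extendRestrictScalarsAdj φ
  let A : ModuleCat.{u} (O.obj.obj (op V)) := F.val.obj (op V)
  let B : ModuleCat.{u} (O.obj.obj (op U)) := F.val.obj (op U)
  let ρ : A ⟶ (ModuleCat.restrictScalars φ).obj B := F.val.map g.op
  have key : ∀ (N : ModuleCat.{u} (O.obj.obj (op U))),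
      (fun x : B ⟶ N => ρ ≫ (ModuleCat.restrictScalars φ).map x) =
      (adj.homEquiv A N) ∘ (fun x : B ⟶ N => (adj.homEquiv A B).symm ρ ≫ x) := by
    intro N
    funext x
    simp only [Function.comp]
    rw [Adjunction.homEquiv_naturality_right, Equiv.apply_symm_apply]
  constructor
  · intro h N
    have h1 : Function.Bijective (fun x : B ⟶ N => (adj.homEquiv A B).symm ρ ≫ x) := h N
    show Function.Bijective (fun x : B ⟶ N => ρ ≫ (ModuleCat.restrictScalars φ).map x)
    rw [key N]
    exact (adj.homEquiv A N).bijective.comp h1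
  · intro h N
    have h1 : Function.Bijective (fun x : B ⟶ N => ρ ≫ (ModuleCat.restrictScalars φ).map x) :=
      h N
    rw [key N] at h1
    exact (Equiv.comp_bijective _ _).1 h1

end Iso

end Groth.Agent.Lib.Helper29.ChaoticA
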