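import Mathlib
import Groth.Prelude.Def_ModSite
import Groth.Agent.Lib.Helper25.LocGenSite
import Groth.Agent.Lib.Helper29.ChaoticA

/-!
# Quasi-coherent modules on a site with the chaotic topology
-/

set_option maxHeartbeats 1600000
set_option backward.isDefEq.respectTransparency false

universe u

open CategoryTheory CategoryTheory.Limits Opposite
open Groth.Agent.Lib.Helper29.ChaoticA

namespace Groth.Agent.Lib.Helper29.ChaoticB

theorem over_trivial {C : Type u} [Category.{u} C] (X : C) (Y : Over X) (S : Sieve Y)
    (hS : S ∈ ((⊥ : GrothendieckTopology C).over X) Y) : S = ⊤ := by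
  rw [GrothendieckTopology.mem_over_iff, GrothendieckTopology.bot_covering] at hS
  exact (Sieve.overEquiv Y).injective (hS.trans (map_top _).symm)

section Over

variable {C : Type u} [SmallCategory C] {J : GrothendieckTopology C} {R : Sheaf J RingCat.{u}}

theorem bc_over_iff (F : SheafOfModules.{u} R) (X : C) {W' W : Over X} (g' : W' ⟶ W) :
    BC (F.over X).val g' ↔ BC F.val g'.left := Iff.rfl

end Over

section Pres

variable {C : Type u} [SmallCategory C] {J : GrothendieckTopology C} {R : Sheaf J RingCat.{u}}

/-- global section determined by an element over a terminal object -/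
noncomputable def secOf (M : SheafOfModules.{u} R) {T : C} (hT : IsTerminal T)
    (m : M.val.obj (op T)) : M.sections :=
  PresheafOfModules.sectionsMk (M := M.val)
    (fun W => M.val.map (hT.from W.unop).op m)
    (by
      intro W W' f
      rw [← PresheafOfModules.map_comp_apply]
      exact PresheafOfModules.congr_map_apply _
        (show (hT.from W.unop).op ≫ f = (hT.from W'.unop).op from
          Quiver.Hom.unop_inj (hT.hom_ext _ _)) _)

lemma secOf_val (M : SheafOfModules.{u} R) {T : C} (hT : IsTerminal T)
    (m : M.val.obj (op T)) (V : C) :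
    (secOf M hT m).val (op V) = M.val.restrictₛₗ (hT.from V).op m := rfl

theorem surj_of_span (Q : SheafOfModules.{u} R) {T : C} (hT : IsTerminal T)
    (hspan : ∀ V : C, Submodule.span (R.obj.obj (op V))
      (Set.range (Q.val.restrictₛₗ (hT.from V).op)) = ⊤) (V : C) :
    Function.Surjective ((Q.freeHomEquiv.symm (secOf Q hT)).val.app (op V)).hom := by
  rw [← LinearMap.range_eq_top, eq_top_iff, ← hspan V, Submodule.span_le]
  rintro _ ⟨m, rfl⟩
  refine ⟨(SheafOfModules.ιFree m).val.app (op V)
    (show (SheafOfModules.unit R).val.obj (op V) from (1 : R.obj.obj (op V))), ?_⟩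
  have h1 : SheafOfModules.ιFree m ≫ Q.freeHomEquiv.symm (secOf Q hT) =
      Q.unitHomEquiv.symm (secOf Q hT m) := by
    rw [← SheafOfModules.unitHomEquiv_symm_freeHomEquiv_apply, Equiv.apply_symm_apply]
  have h2 := congrArg (fun f => (Q.unitHomEquiv f).val (op V)) h1
  simp only [Equiv.apply_symm_apply] at h2
  exact h2

theorem epi_of_span (hJ : ∀ (X : C) (S : Sieve X), S ∈ J X → S = ⊤)
    (Q : SheafOfModules.{u} R) {T : C} (hT : IsTerminal T)
    (hspan : ∀ V : C, Submodule.span (R.obj.obj (op V))
      (Set.range (Q.val.restrictₛₗ (hT.from V).op)) = ⊤) :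
    Epi (Q.freeHomEquiv.symm (secOf Q hT)) := by
  apply Groth.Agent.Lib.Helper25.LocGenSite.epi_of_locSurj
  intro V n
  refine ⟨⊤, J.top_mem V, fun W g _ => ?_⟩
  exact surj_of_span Q hT hspan W _

theorem span_kernel (hJ : ∀ (X : C) (S : Sieve X), S ∈ J X → S = ⊤)
    (M : SheafOfModules.{u} R) {T : C} (hT : IsTerminal T)
    (hM : ∀ (W : C) (g : W ⟶ T), BC M.val g)
    (hπ : Epi (M.freeHomEquiv.symm (secOf M hT))) (V : C) :
    Submodule.span (R.obj.obj (op V))
      (Set.range ((kernel (M.freeHomEquiv.symm (secOf M hT))).val.restrictₛₗ (hT.from V).op)) =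
      ⊤ := by
  set π := M.freeHomEquiv.symm (secOf M hT) with hπdef
  set K := kernel π with hK
  set ik : K ⟶ SheafOfModules.free (M.val.obj (op T)) := kernel.ι π with hik
  set t : V ⟶ T := hT.from V with ht
  have hspanM : ∀ V : C, Submodule.span (R.obj.obj (op V))
      (Set.range (M.val.restrictₛₗ (hT.from V).op)) = ⊤ :=
    fun V => span_of_bc M.val (hT.from V) (hM V _)
  -- the short exact sequence
  let S : ShortComplex (SheafOfModules.{u} R) := ShortComplex.mk ik π (kernel.condition π)
  have hS : S.ShortExact :=
    ShortComplex.ShortExact.mk' (S.exact_of_f_is_kernel (kernelIsKernel π))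
      (inferInstanceAs (Mono (kernel.ι π))) hπ
  -- injectivity of `ik` on sections
  have hinj : Function.Injective (ik.val.app (op V)).hom := by
    haveI : Mono ((SheafOfModules.evaluation R (op V)).map ik) := inferInstance
    exact (ModuleCat.mono_iff_injective ((SheafOfModules.evaluation R (op V)).map ik)).1
      inferInstance
  set SK := Submodule.span (R.obj.obj (op V)) (Set.range (K.val.restrictₛₗ t.op)) with hSK
  set SF := Submodule.map (ik.val.app (op V)).hom SK with hSF
  -- main claim
  have claim : ∀ y : (SheafOfModules.free (R := R) (M.val.obj (op T))).val.obj (op V),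
      (π.val.app (op V)).hom y = 0 → y ∈ SF := by
    let N : ModuleCat.{u} (R.obj.obj (op V)) := ModuleCat.of _
      ((SheafOfModules.free (R := R) (M.val.obj (op T))).val.obj (op V) ⧸ SF)
    let q : (SheafOfModules.free (R := R) (M.val.obj (op T))).val.obj (op V) ⟶ N :=
      ModuleCat.ofHom SF.mkQ
    let θ : (SheafOfModules.free (R := R) (M.val.obj (op T))).val.obj (op T) ⟶
        (ModuleCat.restrictScalars (R.obj.map t.op).hom).obj N :=
      (SheafOfModules.free (R := R) (M.val.obj (op T))).val.map t.op ≫
        (ModuleCat.restrictScalars (R.obj.map t.op).hom).map q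
    have hθ : ∀ z, (π.val.app (op T)).hom z = 0 → θ.hom z = 0 := by
      intro z hz
      obtain ⟨k, hk⟩ := Groth.Agent.Lib.Helper25.LocGenSite.exact_sections S hS (op T) z hz
      have hk' : (ik.val.app (op T)).hom k = z := hk
      rw [← hk']
      show SF.mkQ ((SheafOfModules.free (R := R) (M.val.obj (op T))).val.map t.op
        ((ik.val.app (op T)).hom k)) = 0
      have hnat := PresheafOfModules.naturality_apply ik.val t.op k
      rw [← hnat]
      refine (Submodule.Quotient.mk_eq_zero _).2 ?_
      exact Submodule.mem_map_of_mem (Submodule.subset_span ⟨k, rfl⟩)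
    obtain ⟨h, hh⟩ := exists_factor (π.val.app (op T)) (surj_of_span M hT hspanM T) θ hθ
    obtain ⟨f, hf⟩ := (hM V t N).2 h
    have hf' : M.val.map t.op ≫ (ModuleCat.restrictScalars (R.obj.map t.op).hom).map f = h := hf
    have hq : q = π.val.app (op V) ≫ f := by
      apply (bc_free (R := R) hJ (M.val.obj (op T)) t N).1
      show (SheafOfModules.free (R := R) (M.val.obj (op T))).val.map t.op ≫
          (ModuleCat.restrictScalars (R.obj.map t.op).hom).map q =
        (SheafOfModules.free (R := R) (M.val.obj (op T))).val.map t.op ≫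
          (ModuleCat.restrictScalars (R.obj.map t.op).hom).map (π.val.app (op V) ≫ f)
      rw [Functor.map_comp, ← Category.assoc, π.val.naturality t.op, Category.assoc, hf', hh]
    intro y hy
    have h0 : q.hom y = 0 := by
      rw [hq]
      show f.hom ((π.val.app (op V)).hom y) = 0
      rw [hy, map_zero]
    exact (Submodule.Quotient.mk_eq_zero _).1 h0
  rw [eq_top_iff]
  intro x _
  have hx0 : (π.val.app (op V)).hom ((ik.val.app (op V)).hom x) = 0 := by
    have := congrArg (fun ψ => (ψ.val.app (op V)).hom x) (kernel.condition π)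
    exact this
  obtain ⟨x', hx', hxx⟩ := claim _ hx0
  rw [← hinj hxx]
  exact hx'

theorem pres_of_bc (hJ : ∀ (X : C) (S : Sieve X), S ∈ J X → S = ⊤)
    (M : SheafOfModules.{u} R) {T : C} (hT : IsTerminal T)
    (hM : ∀ (W : C) (g : W ⟶ T), BC M.val g) : Nonempty M.Presentation := by
  have hπ : Epi (M.freeHomEquiv.symm (secOf M hT)) :=
    epi_of_span hJ M hT (fun V => span_of_bc M.val (hT.from V) (hM V _))
  let gens : M.GeneratingSections :=
    { I := M.val.obj (op T), s := secOf M hT, epi := hπ }
  have hK := span_kernel hJ M hT hM hπ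
  have hπK : Epi ((kernel gens.π).freeHomEquiv.symm (secOf (kernel gens.π) hT)) :=
    epi_of_span hJ (kernel gens.π) hT hK
  exact ⟨{ generators := gens
           relations := { I := (kernel gens.π).val.obj (op T)
                          s := secOf (kernel gens.π) hT
                          epi := hπK } }⟩

end Pres

section Main

variable {C : Type u} [SmallCategory C]

theorem bc_of_qcoh (O : Sheaf (⊥ : GrothendieckTopology C) CommRingCat.{u}) (F : ModSite.Mod O)
    (hq : SheafOfModules.IsQuasicoherent (R := ModSite.ringSh O) F) {U V : C} (g : U ⟶ V) :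
    BC F.val g := by
  obtain ⟨⟨q⟩⟩ := hq
  have hc := q.coversTop V
  rw [GrothendieckTopology.bot_covering] at hc
  have hid : (Sieve.ofObjects q.X V) (𝟙 V) := by rw [hc]; trivial
  obtain ⟨i, ⟨h⟩⟩ := (Sieve.mem_ofObjects_iff _ _).mp hid
  have hb := bc_of_presentation (over_trivial (q.X i)) (q.presentation i)
    (Over.homMk g : Over.mk (g ≫ h) ⟶ Over.mk h)
  exact (bc_over_iff F (q.X i) _).1 hb

theorem qcoh_of_bc (O : Sheaf (⊥ : GrothendieckTopology C) CommRingCat.{u}) (F : ModSite.Mod O)
    (hbc : ∀ (U V : C) (g : U ⟶ V), BC F.val g) :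
    SheafOfModules.IsQuasicoherent (R := ModSite.ringSh O) F := by
  have hp : ∀ U : C, Nonempty (F.over U).Presentation := fun U =>
    pres_of_bc (over_trivial U) (F.over U) Over.mkIdTerminal
      (fun W g' => (bc_over_iff F U g').2 (hbc _ _ _))
  let q : SheafOfModules.QuasicoherentData.{u} (R := ModSite.ringSh O) F :=
    { I := C
      X := id
      coversTop := fun x => GrothendieckTopology.covering_of_eq_top _ <| by
        rw [Sieve.ext_iff]
        intro _ f
        simp [Sieve.top_apply]
      presentation := fun U => (hp U).some }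
  exact q.isQuasicoherent

theorem main9122 (O : Sheaf (⊥ : GrothendieckTopology C) CommRingCat.{u}) (F : ModSite.Mod O) :
    SheafOfModules.IsQuasicoherent (R := ModSite.ringSh O) F ↔
      ∀ (U V : C) (g : U ⟶ V), IsIso
        (((ModuleCat.extendRestrictScalarsAdj (O.obj.map g.op).hom).homEquiv
          (F.val.obj (op V) : ModuleCat.{u} (O.obj.obj (op V))) (F.val.obj (op U) : ModuleCat.{u} (O.obj.obj (op U)))).symm
          (F.val.map g.op)) := by
  constructor
  · intro hq U V g
    exact (isIso_iff_bc O F g).2 (bc_of_qcoh O F hq g)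
  · intro h
    exact qcoh_of_bc O F (fun U V g => (isIso_iff_bc O F g).1 (h U V g))

end Main

end Groth.Agent.Lib.Helper29.ChaoticB
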