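import Mathlib
import Groth.Prelude.Def_ModSite
import Groth.Agent.Lib.Helper29.ChaoticA
import Groth.Agent.Lib.Helper29.ChaoticB

/-!
# Quasi-coherent modules on a chaotic site with flat restriction maps form a weak Serre subcategory
-/

set_option maxHeartbeats 1600000
set_option backward.isDefEq.respectTransparency false

universe u

open CategoryTheory CategoryTheory.Limits Opposite
open Groth.Agent.Lib.Helper29.ChaoticA Groth.Agent.Lib.Helper29.ChaoticB

namespace Groth.Agent.Lib.Helper29.ChaoticC

section General

variable {A : Type*} [Category A] {B : Type*} [Category B] {L₁ L₂ : A ⥤ B} (τ : L₁ ⟶ L₂)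
  {J : Type*} [Category J] {D : J ⥤ A}

theorem isIso_app_of_isLimit (c : Cone D) (hc : IsLimit c)
    [PreservesLimit D L₁] [PreservesLimit D L₂] (h : ∀ j, IsIso (τ.app (D.obj j))) :
    IsIso (τ.app c.pt) := by
  have h1 := isLimitOfPreserves L₁ hc
  have h2 := isLimitOfPreserves L₂ hc
  haveI : ∀ j, IsIso ((Functor.whiskerLeft D τ).app j) := fun j => h j
  haveI : IsIso (Functor.whiskerLeft D τ) := NatIso.isIso_of_isIso_app _
  let e := IsLimit.conePointsIsoOfNatIso h1 h2 (asIso (Functor.whiskerLeft D τ))
  have he : e.hom = τ.app c.pt := by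
    apply h2.hom_ext
    intro j
    rw [IsLimit.conePointsIsoOfNatIso_hom_comp]
    simp
  rw [← he]
  infer_instance

theorem isIso_app_of_isColimit (c : Cocone D) (hc : IsColimit c)
    [PreservesColimit D L₁] [PreservesColimit D L₂] (h : ∀ j, IsIso (τ.app (D.obj j))) :
    IsIso (τ.app c.pt) := by
  have h1 := isColimitOfPreserves L₁ hc
  have h2 := isColimitOfPreserves L₂ hc
  haveI : ∀ j, IsIso ((Functor.whiskerLeft D τ).app j) := fun j => h j
  haveI : IsIso (Functor.whiskerLeft D τ) := NatIso.isIso_of_isIso_app _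
  let e := IsColimit.coconePointsIsoOfNatIso h1 h2 (asIso (Functor.whiskerLeft D τ))
  have he : e.hom = τ.app c.pt := by
    apply h1.hom_ext
    intro j
    rw [IsColimit.comp_coconePointsIsoOfNatIso_hom]
    simp
  rw [← he]
  infer_instance

end General

section Ev

variable {C : Type u} [SmallCategory C] {J : GrothendieckTopology C}

/-- evaluation of `O`-modules, with values in modules over the commutative ring `O(W)` -/
noncomputable def evO (O : Sheaf J CommRingCat.{u}) (W : C) :
    ModSite.Mod O ⥤ ModuleCat.{u} (O.obj.obj (op W)) :=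
  SheafOfModules.evaluation (ModSite.ringSh O) (op W)

instance (O : Sheaf J CommRingCat.{u}) (W : C) : PreservesFiniteLimits (evO O W) :=
  inferInstanceAs (PreservesFiniteLimits (SheafOfModules.evaluation (ModSite.ringSh O) (op W)))

instance (O : Sheaf J CommRingCat.{u}) (W : C) : (evO O W).Additive :=
  inferInstanceAs ((SheafOfModules.forget (ModSite.ringSh O) ⋙
    PresheafOfModules.evaluation (ModSite.ringSh O).obj (op W)).Additive)

theorem evO_preservesFiniteColimits (hJ : ∀ (X : C) (S : Sieve X), S ∈ J X → S = ⊤)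
    (O : Sheaf J CommRingCat.{u}) (W : C) : PreservesFiniteColimits (evO O W) := by
  haveI := forget_isEquivalence (R := ModSite.ringSh O) hJ
  exact comp_preservesFiniteColimits (SheafOfModules.forget (ModSite.ringSh O))
    (PresheafOfModules.evaluation (ModSite.ringSh O).obj (op W))

/-- the base change natural transformation -/
noncomputable def beta (O : Sheaf J CommRingCat.{u}) {U V : C} (g : U ⟶ V) :
    evO O V ⋙ ModuleCat.extendScalars.{u, u, u} (O.obj.map g.op).hom ⟶ evO O U where
  app F := ((ModuleCat.extendRestrictScalarsAdj (O.obj.map g.op).hom).homEquiv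
          (F.val.obj (op V) : ModuleCat.{u} (O.obj.obj (op V)))
          (F.val.obj (op U) : ModuleCat.{u} (O.obj.obj (op U)))).symm (F.val.map g.op)
  naturality F G α := by
    show (ModuleCat.extendScalars.{u, u, u} (O.obj.map g.op).hom).map (α.val.app (op V)) ≫
      ((ModuleCat.extendRestrictScalarsAdj (O.obj.map g.op).hom).homEquiv
          (G.val.obj (op V) : ModuleCat.{u} (O.obj.obj (op V)))
          (G.val.obj (op U) : ModuleCat.{u} (O.obj.obj (op U)))).symm (G.val.map g.op) =
      ((ModuleCat.extendRestrictScalarsAdj (O.obj.map g.op).hom).homEquiv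
          (F.val.obj (op V) : ModuleCat.{u} (O.obj.obj (op V)))
          (F.val.obj (op U) : ModuleCat.{u} (O.obj.obj (op U)))).symm (F.val.map g.op) ≫
        α.val.app (op U)
    rw [← Adjunction.homEquiv_naturality_left_symm, ← Adjunction.homEquiv_naturality_right_symm]
    congr 1
    exact (α.val.naturality g.op).symm

end Ev

section Main

variable {C : Type u} [SmallCategory C]

theorem qcoh_iff_beta (O : Sheaf (⊥ : GrothendieckTopology C) CommRingCat.{u})
    (F : ModSite.Mod O) :
    SheafOfModules.IsQuasicoherent (R := ModSite.ringSh O) F ↔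
      ∀ (U V : C) (g : U ⟶ V), IsIso ((beta O g).app F) :=
  main9122 O F

theorem main9123 (O : Sheaf (⊥ : GrothendieckTopology C) CommRingCat.{u})
    (hO : ∀ (U V : C) (g : U ⟶ V), (O.obj.map g.op).hom.Flat) :
    (∀ (F G : ModSite.Mod O) (α : F ⟶ G), SheafOfModules.IsQuasicoherent (R := ModSite.ringSh O) F → SheafOfModules.IsQuasicoherent (R := ModSite.ringSh O) G →
        SheafOfModules.IsQuasicoherent (R := ModSite.ringSh O) (kernel α) ∧ SheafOfModules.IsQuasicoherent (R := ModSite.ringSh O) (cokernel α)) ∧
    (∀ (S : ShortComplex (ModSite.Mod O)), S.ShortExact → SheafOfModules.IsQuasicoherent (R := ModSite.ringSh O) S.X₁ → SheafOfModules.IsQuasicoherent (R := ModSite.ringSh O) S.X₃ → SheafOfModules.IsQuasicoherent (R := ModSite.ringSh O) S.X₂) := by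
  have hJ : ∀ (X : C) (S : Sieve X), S ∈ (⊥ : GrothendieckTopology C) X → S = ⊤ :=
    fun X S hS => GrothendieckTopology.bot_covering.1 hS
  haveI hc : ∀ W : C, PreservesFiniteColimits (evO O W) :=
    fun W => evO_preservesFiniteColimits hJ O W
  haveI hfl : ∀ {U V : C} (g : U ⟶ V),
      PreservesFiniteLimits (ModuleCat.extendScalars.{u, u, u} (O.obj.map g.op).hom) :=
    fun {U V} g => ModuleCat.preservesFiniteLimits_extendScalars_of_flat (hO U V g)
  haveI hfc : ∀ {U V : C} (g : U ⟶ V),
      PreservesFiniteColimits (ModuleCat.extendScalars.{u, u, u} (O.obj.map g.op).hom) :=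
    fun {U V} g => by
      haveI : PreservesColimitsOfSize.{0, 0}
          (ModuleCat.extendScalars.{u, u, u} (O.obj.map g.op).hom) :=
        (ModuleCat.extendRestrictScalarsAdj.{u, u, u}
          (O.obj.map g.op).hom).leftAdjoint_preservesColimits
      exact PreservesColimitsOfSize.preservesFiniteColimits _
  refine ⟨fun F G α hF hG => ⟨?_, ?_⟩, fun S hS h1 h3 => ?_⟩
  · rw [qcoh_iff_beta] at hF hG ⊢
    intro U V g
    haveI := hfl g
    refine isIso_app_of_isLimit (beta O g) (KernelFork.ofι (kernel.ι α) (kernel.condition α))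
      (kernelIsKernel α) ?_
    rintro (_ | _)
    · exact hF U V g
    · exact hG U V g
  · rw [qcoh_iff_beta] at hF hG ⊢
    intro U V g
    haveI := hfc g
    refine isIso_app_of_isColimit (beta O g)
      (CokernelCofork.ofπ (cokernel.π α) (cokernel.condition α)) (cokernelIsCokernel α) ?_
    rintro (_ | _)
    · exact hF U V g
    · exact hG U V g
  · rw [qcoh_iff_beta] at h1 h3 ⊢
    intro U V g
    haveI := hfl g
    haveI := hfc g
    haveI : (evO O V ⋙ ModuleCat.extendScalars.{u, u, u}
        (O.obj.map g.op).hom).PreservesZeroMorphisms := inferInstance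
    have e1 := hS.map_of_exact (evO O V ⋙ ModuleCat.extendScalars.{u, u, u} (O.obj.map g.op).hom)
    have e2 := hS.map_of_exact (evO O U)
    exact ShortComplex.isIso₂_of_shortExact_of_isIso₁₃' (S.mapNatTrans (beta O g)) e1 e2
      (h1 U V g) (h3 U V g)

end Main

end Groth.Agent.Lib.Helper29.ChaoticC
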