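import Mathlib

/-!
# Characters of the additive group in characteristic `p` (helper29)

A polynomial `f = ∑ c k X ^ k` over a ring of characteristic `p` satisfies `f (X + Y) = f X * f Y` (possibly
modulo `(X ^ p ^ n, Y ^ p ^ n)`) iff `c i * c j = choose (i + j) j * c (i + j)`.  Such sequences are
products of truncated exponentials: `∑_{k < p ^ m} c k X ^ k = ∏_{n < m} exp_p (c (p ^ n) X ^ p ^ n)`.
-/

set_option autoImplicit false
universe u v

namespace Groth.Agent.Lib.Helper29.CharPChar

open Polynomial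

section Sums

variable {M : Type*} [AddCommMonoid M]

lemma sum_range_mul_eq (g : ℕ → M) (a b : ℕ) :
    ∑ x ∈ Finset.range (a * b), g x =
      ∑ k ∈ Finset.range a, ∑ l ∈ Finset.range b, g (k + a * l) := by
  induction b with
  | zero => simp
  | succ b ih =>
    rw [Nat.mul_add_one, Finset.sum_range_add, ih]
    simp only [Finset.sum_range_succ]
    rw [Finset.sum_add_distrib]
    congr 1
    exact Finset.sum_congr rfl fun k _ => by rw [add_comm]

end Sums

section Biv

variable {A : Type u} [CommRing A]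

lemma coeff_aeval_add (f : A[X]) (i j : ℕ) :
    ((aeval ((C X : A[X][X]) + X) f).coeff j).coeff i =
      f.coeff (i + j) * ((i + j).choose j : A) := by
  have hn : f.natDegree < f.natDegree + i + j + 1 := by omega
  rw [aeval_eq_sum_range' hn, finsetSum_coeff, finsetSum_coeff]
  rw [Finset.sum_eq_single (i + j)]
  · rw [coeff_smul, coeff_smul, smul_eq_mul, add_comm (C X : A[X][X]) X, coeff_X_add_C_pow,
      ← C_eq_natCast, coeff_mul_C, coeff_X_pow, Nat.add_sub_cancel, if_pos rfl, one_mul]
  · intro k _ hk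
    rw [coeff_smul, coeff_smul, smul_eq_mul, add_comm (C X : A[X][X]) X, coeff_X_add_C_pow,
      ← C_eq_natCast, coeff_mul_C, coeff_X_pow]
    by_cases hjk : j ≤ k
    · rw [if_neg (by omega), zero_mul, mul_zero]
    · rw [Nat.choose_eq_zero_of_lt (by omega), Nat.cast_zero, mul_zero, mul_zero]
  · intro h
    exact absurd (Finset.mem_range.2 (by omega)) h

lemma coeff_aeval_mul (f : A[X]) (i j : ℕ) :
    ((aeval (C X : A[X][X]) f * aeval (X : A[X][X]) f).coeff j).coeff i =
      f.coeff i * f.coeff j := by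
  have h1 : aeval (C X : A[X][X]) f = C f := by
    have := aeval_algebraMap_apply (A := A[X]) (B := A[X][X]) (X : A[X]) f
    rw [aeval_X_left_apply] at this
    exact this
  have h2 : aeval (X : A[X][X]) f = f.map (algebraMap A A[X]) := aeval_X_left_eq_map f
  rw [h1, h2, coeff_C_mul, coeff_map, ← C_eq_algebraMap, coeff_mul_C]

/-- the algebra map `A[X₀, X₁] → A[X][Y]` -/
noncomputable def Psi : MvPolynomial (Fin 2) A →ₐ[A] A[X][X] :=
  MvPolynomial.aeval ![(C X : A[X][X]), X]

lemma Psi_X0 : Psi (MvPolynomial.X 0 : MvPolynomial (Fin 2) A) = C X := by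
  unfold Psi; rw [MvPolynomial.aeval_X]; rfl

lemma Psi_X1 : Psi (MvPolynomial.X 1 : MvPolynomial (Fin 2) A) = X := by
  unfold Psi; rw [MvPolynomial.aeval_X]; rfl

lemma Psi_aeval (g : MvPolynomial (Fin 2) A) (f : A[X]) : Psi (aeval g f) = aeval (Psi g) f :=
  (aeval_algHom_apply Psi g f).symm

theorem star_of_mul (f : A[X])
    (h : aeval (MvPolynomial.X 0 + MvPolynomial.X 1 : MvPolynomial (Fin 2) A) f =
      aeval (MvPolynomial.X 0 : MvPolynomial (Fin 2) A) f *
        aeval (MvPolynomial.X 1 : MvPolynomial (Fin 2) A) f) (i j : ℕ) :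
    f.coeff i * f.coeff j = f.coeff (i + j) * ((i + j).choose j : A) := by
  have h' := congrArg Psi h
  rw [map_mul, Psi_aeval, Psi_aeval, Psi_aeval, map_add, Psi_X0, Psi_X1] at h'
  rw [← coeff_aeval_mul f i j, ← h', coeff_aeval_add]

theorem star_of_mul_trunc (N : ℕ) (f : A[X])
    (h : Ideal.Quotient.mk
        (Ideal.span {(MvPolynomial.X 0 ^ N : MvPolynomial (Fin 2) A), MvPolynomial.X 1 ^ N})
        (aeval (MvPolynomial.X 0 + MvPolynomial.X 1 : MvPolynomial (Fin 2) A) f) =
      Ideal.Quotient.mk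
        (Ideal.span {(MvPolynomial.X 0 ^ N : MvPolynomial (Fin 2) A), MvPolynomial.X 1 ^ N})
        (aeval (MvPolynomial.X 0 : MvPolynomial (Fin 2) A) f *
          aeval (MvPolynomial.X 1 : MvPolynomial (Fin 2) A) f))
    (i j : ℕ) (hi : i < N) (hj : j < N) :
    f.coeff i * f.coeff j = f.coeff (i + j) * ((i + j).choose j : A) := by
  rw [Ideal.Quotient.eq, Ideal.mem_span_pair] at h
  obtain ⟨u, v, huv⟩ := h
  have hL : Psi (u * MvPolynomial.X 0 ^ N + v * MvPolynomial.X 1 ^ N) =
      Psi u * (C X : A[X][X]) ^ N + Psi v * (X : A[X][X]) ^ N := by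
    rw [map_add, map_mul, map_mul, map_pow, map_pow, Psi_X0, Psi_X1]
  have hR : Psi (aeval (MvPolynomial.X 0 + MvPolynomial.X 1 : MvPolynomial (Fin 2) A) f -
      aeval (MvPolynomial.X 0 : MvPolynomial (Fin 2) A) f *
        aeval (MvPolynomial.X 1 : MvPolynomial (Fin 2) A) f) =
      aeval ((C X : A[X][X]) + X) f - aeval (C X : A[X][X]) f * aeval (X : A[X][X]) f := by
    rw [map_sub, map_mul, Psi_aeval, Psi_aeval, Psi_aeval, map_add, Psi_X0, Psi_X1]
  have h' := congrArg Psi huv
  rw [hL, hR] at h'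
  have e : ((Psi u * (C X : A[X][X]) ^ N + Psi v * (X : A[X][X]) ^ N).coeff j).coeff i = 0 := by
    rw [coeff_add, coeff_add, coeff_mul_X_pow', if_neg (not_le.2 hj), coeff_zero, add_zero,
      ← C_pow, coeff_mul_C, coeff_mul_X_pow', if_neg (not_le.2 hi)]
  rw [h', coeff_sub, coeff_sub, coeff_aeval_add, coeff_aeval_mul] at e
  exact (sub_eq_zero.1 e).symm

theorem mul_of_star (f : A[X])
    (h : ∀ i j : ℕ, f.coeff i * f.coeff j = f.coeff (i + j) * ((i + j).choose j : A))
    {B : Type v} [CommRing B] [Algebra A B] (x y : B) :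
    aeval (x + y) f = aeval x f * aeval y f := by
  have key : aeval ((C X : A[X][X]) + X) f = aeval (C X : A[X][X]) f * aeval (X : A[X][X]) f := by
    ext j i
    rw [coeff_aeval_add, coeff_aeval_mul, h]
  have h2 := congrArg (aevalAeval x y) key
  rw [map_mul, ← aeval_algHom_apply, ← aeval_algHom_apply, ← aeval_algHom_apply, map_add,
    aevalAeval_X, aevalAeval_Y] at h2
  exact h2

end Biv

section CharP

variable {A : Type u} [CommRing A] (p : ℕ) [hp : Fact p.Prime] [CharP A p]

lemma isUnit_fact {j : ℕ} (hj : j < p) : IsUnit ((j.factorial : ℕ) : A) :=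
  (IsUnit.natCast_factorial_iff_of_charP p).2 hj

/-- the character identities for indices below `B` -/
def IsChar (c : ℕ → A) (B : ℕ) : Prop :=
  c 0 = 1 ∧ ∀ i j : ℕ, i < B → j < B → c i * c j = c (i + j) * ((i + j).choose j : A)

lemma choose_low (k0 l : ℕ) (hk : k0 < p) : ((k0 + p * l).choose (p * l) : A) = 1 := by
  have h1 := Choose.choose_modEq_choose_mod_mul_choose_div_nat (p := p) (n := k0 + p * l) (k := p * l)
  rw [Nat.add_mul_mod_self_left, Nat.mod_eq_of_lt hk, Nat.mul_mod_right,
    Nat.add_mul_div_left _ _ hp.out.pos, Nat.div_eq_of_lt hk, zero_add,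
    Nat.mul_div_cancel_left _ hp.out.pos, Nat.choose_zero_right, Nat.choose_self, mul_one] at h1
  have h2 := CharP.natCast_eq_natCast' A p h1
  rw [h2, Nat.cast_one]

lemma choose_shift (i j : ℕ) : ((p * (i + j)).choose (p * j) : A) = ((i + j).choose j : A) := by
  have h1 := Choose.choose_modEq_choose_mod_mul_choose_div_nat (p := p) (n := p * (i + j)) (k := p * j)
  rw [Nat.mul_mod_right, Nat.mul_mod_right, Nat.mul_div_cancel_left _ hp.out.pos,
    Nat.mul_div_cancel_left _ hp.out.pos, Nat.choose_self, one_mul] at h1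
  exact CharP.natCast_eq_natCast' A p h1

variable {p}

lemma IsChar.shift {c : ℕ → A} {B : ℕ} (h : IsChar c (p * B)) : IsChar (fun k => c (p * k)) B := by
  refine ⟨?_, fun i j hi hj => ?_⟩
  · show c (p * 0) = 1
    rw [Nat.mul_zero]
    exact h.1
  · have h1 := h.2 (p * i) (p * j) (mul_lt_mul_of_pos_left hi hp.out.pos)
      (mul_lt_mul_of_pos_left hj hp.out.pos)
    show c (p * i) * c (p * j) = c (p * (i + j)) * _
    rw [← choose_shift p i j, Nat.mul_add]
    exact h1

lemma IsChar.fact_mul {c : ℕ → A} {B : ℕ} (h : IsChar c B) (hB : p ≤ B) :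
    ∀ j, j < p → ((j.factorial : ℕ) : A) * c j = c 1 ^ j := by
  have h2le := hp.out.two_le
  intro j
  induction j with
  | zero =>
    intro _
    rw [Nat.factorial_zero, Nat.cast_one, one_mul, pow_zero]
    exact h.1
  | succ j ih =>
    intro hj
    have h1 := h.2 1 j (by omega) (by omega)
    have hch : ((1 + j).choose j : A) = ((j + 1 : ℕ) : A) := by
      rw [Nat.add_comm 1 j, Nat.choose_succ_self_right]
    rw [hch, Nat.add_comm 1 j] at h1
    rw [Nat.factorial_succ, Nat.cast_mul, pow_succ, ← ih (by omega)]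
    linear_combination (-((j.factorial : ℕ) : A)) * h1

lemma IsChar.coeff_eq {c : ℕ → A} {B : ℕ} (h : IsChar c B) (hB : p ≤ B) (j : ℕ) (hj : j < p) :
    c j = Ring.inverse ((j.factorial : ℕ) : A) * c 1 ^ j := by
  rw [← h.fact_mul hB j hj, Ring.inverse_mul_cancel_left _ _ (isUnit_fact p hj)]

lemma IsChar.pow_p_eq_zero {c : ℕ → A} {B : ℕ} (h : IsChar c B) (hB : p ≤ B) : c 1 ^ p = 0 := by
  have h2le := hp.out.two_le
  have hp1 : p - 1 + 1 = p := Nat.sub_add_cancel hp.out.one_le
  have h1 := h.fact_mul hB (p - 1) (by omega)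
  have h2 := h.2 1 (p - 1) (by omega) (by omega)
  have hch : ((1 + (p - 1)).choose (p - 1) : A) = 0 := by
    rw [Nat.add_comm, Nat.choose_succ_self_right, hp1]
    exact CharP.cast_eq_zero A p
  rw [hch, mul_zero] at h2
  calc c 1 ^ p = c 1 ^ (p - 1) * c 1 := by rw [← pow_succ, hp1]
    _ = (((p - 1).factorial : ℕ) : A) * (c 1 * c (p - 1)) := by rw [← h1]; ring
    _ = 0 := by rw [h2, mul_zero]

theorem IsChar.pow_p_pow_eq_zero : ∀ (n m : ℕ) (c : ℕ → A), IsChar c (p ^ m) → n < m →
    c (p ^ n) ^ p = 0 := by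
  intro n
  induction n with
  | zero =>
    intro m c h hm
    rw [pow_zero]
    refine h.pow_p_eq_zero ?_
    calc p = p ^ 1 := (pow_one p).symm
      _ ≤ p ^ m := Nat.pow_le_pow_right hp.out.pos hm
  | succ n ih =>
    intro m c h hm
    obtain ⟨m', rfl⟩ : ∃ m', m = m' + 1 := ⟨m - 1, by omega⟩
    have h' : IsChar c (p * p ^ m') := by rwa [pow_succ'] at h
    have h3 := ih m' (fun k => c (p * k)) h'.shift (by omega)
    rw [pow_succ']
    exact h3

variable (p)

/-- truncated exponential factor `exp_p (a X ^ p ^ n)` -/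
noncomputable def Efac (a : A) (n : ℕ) : A[X] :=
  ∑ j ∈ Finset.range p, C (Ring.inverse ((j.factorial : ℕ) : A) * a ^ j) * X ^ (j * p ^ n)

lemma expand_Efac (a : A) (n : ℕ) : expand A p (Efac p a n) = Efac p a (n + 1) := by
  unfold Efac
  rw [map_sum]
  refine Finset.sum_congr rfl fun j _ => ?_
  have e : p * (j * p ^ n) = j * p ^ (n + 1) := by ring
  rw [map_mul, expand_C, map_pow, expand_X, ← pow_mul, e]

variable {p}

theorem IsChar.sum_eq_prod : ∀ (m : ℕ) (c : ℕ → A), IsChar c (p ^ m) →
    ∑ k ∈ Finset.range (p ^ m), C (c k) * X ^ k = ∏ n ∈ Finset.range m, Efac p (c (p ^ n)) n := by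
  intro m
  induction m with
  | zero =>
    intro c h
    simp [h.1]
  | succ m ih =>
    intro c h
    have h' : IsChar c (p * p ^ m) := by rwa [pow_succ'] at h
    have hpB : p ≤ p * p ^ m := Nat.le_mul_of_pos_right p (Nat.pos_of_ne_zero (pow_ne_zero m hp.out.ne_zero))
    have IH := congrArg (expand A p) (ih (fun k => c (p * k)) h'.shift)
    rw [map_sum, map_prod] at IH
    have hL : ∀ k, expand A p (C (c (p * k)) * X ^ k) = C (c (p * k)) * X ^ (p * k) := by
      intro k
      rw [map_mul, expand_C, map_pow, expand_X, ← pow_mul]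
    have hR : ∀ n, expand A p (Efac p (c (p * p ^ n)) n) = Efac p (c (p ^ (n + 1))) (n + 1) := by
      intro n
      rw [expand_Efac, pow_succ' p n]
    rw [Finset.sum_congr rfl (fun k _ => hL k), Finset.prod_congr rfl (fun n _ => hR n)] at IH
    have hsplit : ∀ k0 ∈ Finset.range p, ∀ l ∈ Finset.range (p ^ m),
        C (c (k0 + p * l)) * X ^ (k0 + p * l) =
          (C (c k0) * X ^ k0) * (C (c (p * l)) * X ^ (p * l)) := by
      intro k0 hk0 l hl
      rw [Finset.mem_range] at hk0 hl
      have h1 := h'.2 k0 (p * l) (lt_of_lt_of_le hk0 hpB) (mul_lt_mul_of_pos_left hl hp.out.pos)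
      rw [choose_low p k0 l hk0, mul_one] at h1
      rw [← h1, C_mul, pow_add]
      ring
    have hE0 : ∑ k0 ∈ Finset.range p, C (c k0) * X ^ k0 = Efac p (c 1) 0 := by
      unfold Efac
      refine Finset.sum_congr rfl fun j hj => ?_
      rw [Finset.mem_range] at hj
      rw [pow_zero, mul_one, ← h'.coeff_eq hpB j hj]
    rw [pow_succ', sum_range_mul_eq]
    rw [Finset.sum_congr rfl (fun k0 hk0 => Finset.sum_congr rfl (fun l hl => hsplit k0 hk0 l hl))]
    rw [← Finset.sum_mul_sum, hE0, IH, Finset.prod_range_succ', pow_zero, mul_comm]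

/-- coefficients of `exp_p (a X)` -/
lemma coeff_Efac_zero (a : A) (k : ℕ) :
    (Efac p a 0).coeff k = if k < p then Ring.inverse ((k.factorial : ℕ) : A) * a ^ k else 0 := by
  unfold Efac
  rw [finsetSum_coeff]
  simp only [pow_zero, mul_one, coeff_C_mul, coeff_X_pow]
  split_ifs with hk
  · rw [Finset.sum_eq_single k]
    · rw [if_pos rfl, mul_one]
    · intro j _ hj
      rw [if_neg (fun h => hj h.symm), mul_zero]
    · intro h
      exact absurd (Finset.mem_range.2 hk) h
  · refine Finset.sum_eq_zero fun j hj => ?_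
    rw [Finset.mem_range] at hj
    rw [if_neg (by omega), mul_zero]

lemma inv_fact_mul (i j : ℕ) (hij : i + j < p) :
    Ring.inverse ((i.factorial : ℕ) : A) * Ring.inverse ((j.factorial : ℕ) : A) =
      Ring.inverse (((i + j).factorial : ℕ) : A) * ((i + j).choose j : A) := by
  have hi := Ring.mul_inverse_cancel _ (isUnit_fact (A := A) p (show i < p by omega))
  have hj := Ring.mul_inverse_cancel _ (isUnit_fact (A := A) p (show j < p by omega))
  have hk := Ring.mul_inverse_cancel _ (isUnit_fact (A := A) p hij)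
  have hN : (((i + j).factorial : ℕ) : A) =
      ((i + j).choose j : A) * ((i.factorial : ℕ) : A) * ((j.factorial : ℕ) : A) := by
    rw [← Nat.cast_mul, ← Nat.cast_mul, Nat.add_choose_mul_factorial_mul_factorial]
  calc Ring.inverse ((i.factorial : ℕ) : A) * Ring.inverse ((j.factorial : ℕ) : A)
      = Ring.inverse ((i.factorial : ℕ) : A) * Ring.inverse ((j.factorial : ℕ) : A) *
          ((((i + j).factorial : ℕ) : A) * Ring.inverse (((i + j).factorial : ℕ) : A)) := by
        rw [hk, mul_one]
    _ = ((i + j).choose j : A) *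
          (((i.factorial : ℕ) : A) * Ring.inverse ((i.factorial : ℕ) : A)) *
          (((j.factorial : ℕ) : A) * Ring.inverse ((j.factorial : ℕ) : A)) *
          Ring.inverse (((i + j).factorial : ℕ) : A) := by
        rw [hN]; ring
    _ = Ring.inverse (((i + j).factorial : ℕ) : A) * ((i + j).choose j : A) := by
        rw [hi, hj]; ring

lemma Efac_zero_star (a : A) (ha : a ^ p = 0) (i j : ℕ) :
    (Efac p a 0).coeff i * (Efac p a 0).coeff j =
      (Efac p a 0).coeff (i + j) * ((i + j).choose j : A) := by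
  rw [coeff_Efac_zero, coeff_Efac_zero, coeff_Efac_zero]
  by_cases hij : i + j < p
  · rw [if_pos (show i < p by omega), if_pos (show j < p by omega), if_pos hij, pow_add]
    have := inv_fact_mul (A := A) (p := p) i j hij
    linear_combination (a ^ i * a ^ j) * this
  · rw [if_neg hij, zero_mul]
    by_cases hi : i < p
    · by_cases hj : j < p
      · rw [if_pos hi, if_pos hj]
        have e : a ^ i * a ^ j = 0 := by
          rw [← pow_add, show i + j = p + (i + j - p) by omega, pow_add, ha, zero_mul]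
        linear_combination (Ring.inverse ((i.factorial : ℕ) : A) *
          Ring.inverse ((j.factorial : ℕ) : A)) * e
      · rw [if_neg hj, mul_zero]
    · rw [if_neg hi, zero_mul]

lemma Efac_eq_expand (a : A) (n : ℕ) : Efac p a n = expand A (p ^ n) (Efac p a 0) := by
  unfold Efac
  rw [map_sum]
  refine Finset.sum_congr rfl fun j _ => ?_
  rw [map_mul (expand A (p ^ n)), expand_C, map_pow, expand_X, ← pow_mul, pow_zero, mul_one, mul_comm (p ^ n) j]

theorem Efac_mul (a : A) (ha : a ^ p = 0) (n : ℕ) {B : Type v} [CommRing B] [Algebra A B]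
    [CharP B p] (x y : B) :
    aeval (x + y) (Efac p a n) = aeval x (Efac p a n) * aeval y (Efac p a n) := by
  rw [Efac_eq_expand, expand_aeval, expand_aeval, expand_aeval, add_pow_char_pow x y p n]
  exact mul_of_star _ (Efac_zero_star a ha) _ _

lemma Efac_eval_zero (a : A) (n : ℕ) : (Efac p a n).eval 0 = 1 := by
  unfold Efac
  rw [eval_finsetSum, Finset.sum_eq_single 0]
  · simp
  · intro j _ hj
    have hne : j * p ^ n ≠ 0 := Nat.mul_ne_zero hj (pow_ne_zero n hp.out.ne_zero)
    rw [eval_mul, eval_pow, eval_X, zero_pow hne, mul_zero]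
  · intro h
    exact absurd (Finset.mem_range.2 hp.out.pos) h

end CharP

end Groth.Agent.Lib.Helper29.CharPChar
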