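import Mathlib
import Groth.Agent.Lib.Helper29.CharPChar

/-!
# Formal characters of the additive group: the power series side (helper29)

`χ (X + Y) = χ X * χ Y` for a power series `χ` iff its coefficients satisfy
`c i * c j = choose (i + j) j * c (i + j)`.
-/

set_option autoImplicit false
universe u v

namespace Groth.Agent.Lib.Helper29.CharPChar

open Polynomial

section PS

variable {A : Type u} [CommRing A]

lemma coeff_Psi (φ : MvPolynomial (Fin 2) A) (e : Fin 2 →₀ ℕ) :
    ((Psi φ).coeff (e 1)).coeff (e 0) = MvPolynomial.coeff e φ := by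
  refine MvPolynomial.induction_on' φ (fun u a => ?_) (fun φ ψ hφ hψ => ?_)
  · have h1 : Psi (MvPolynomial.monomial u a) =
        C (C a) * (C X : A[X][X]) ^ (u 0) * (X : A[X][X]) ^ (u 1) := by
      unfold Psi
      rw [MvPolynomial.aeval_monomial, Finsupp.prod_fintype _ _ (fun i => pow_zero _),
        Fin.prod_univ_two, ← mul_assoc]
      rfl
    have h2 : C (C a) * (C X : A[X][X]) ^ (u 0) * (X : A[X][X]) ^ (u 1) =
        monomial (u 1) (monomial (u 0) a) := by
      rw [← C_pow, ← C_mul, C_mul_X_pow_eq_monomial, C_mul_X_pow_eq_monomial]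
    rw [h1, h2, coeff_monomial, MvPolynomial.coeff_monomial]
    by_cases hu1 : u 1 = e 1
    · rw [if_pos hu1, coeff_monomial]
      by_cases hu0 : u 0 = e 0
      · have hue : u = e := by
          ext i; fin_cases i
          · exact hu0
          · exact hu1
        rw [if_pos hu0, if_pos hue]
      · rw [if_neg hu0, if_neg (fun h => hu0 (by rw [h]))]
    · rw [if_neg hu1, coeff_zero, if_neg (fun h => hu1 (by rw [h]))]
  · rw [map_add, coeff_add, coeff_add, MvPolynomial.coeff_add, hφ, hψ]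

lemma coeff_add_pow (d : ℕ) (e : Fin 2 →₀ ℕ) :
    MvPowerSeries.coeff e ((MvPowerSeries.X 0 + MvPowerSeries.X 1 : MvPowerSeries (Fin 2) A) ^ d) =
      if d = e 0 + e 1 then ((e 0 + e 1).choose (e 1) : A) else 0 := by
  have h1 : (MvPowerSeries.X 0 + MvPowerSeries.X 1 : MvPowerSeries (Fin 2) A) ^ d =
      (((MvPolynomial.X 0 + MvPolynomial.X 1 : MvPolynomial (Fin 2) A) ^ d :
        MvPolynomial (Fin 2) A) : MvPowerSeries (Fin 2) A) := by
    rw [MvPolynomial.coe_pow, MvPolynomial.coe_add, MvPolynomial.coe_X, MvPolynomial.coe_X]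
  rw [h1, MvPolynomial.coeff_coe, ← coeff_Psi, map_pow, map_add, Psi_X0, Psi_X1,
    add_comm (C X : A[X][X]) X, coeff_X_add_C_pow, ← C_eq_natCast, coeff_mul_C, coeff_X_pow]
  by_cases hd : d = e 0 + e 1
  · subst hd
    rw [if_pos rfl, Nat.add_sub_cancel, if_pos rfl, one_mul]
  · rw [if_neg hd]
    by_cases h1 : e 1 ≤ d
    · rw [if_neg (by omega), zero_mul]
    · rw [Nat.choose_eq_zero_of_lt (by omega), Nat.cast_zero, mul_zero]

lemma coeff_subst_add (χ : PowerSeries A) (e : Fin 2 →₀ ℕ) :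
    MvPowerSeries.coeff e (PowerSeries.subst
      (MvPowerSeries.X 0 + MvPowerSeries.X 1 : MvPowerSeries (Fin 2) A) χ) =
      PowerSeries.coeff (e 0 + e 1) χ * ((e 0 + e 1).choose (e 1) : A) := by
  have ha : PowerSeries.HasSubst (MvPowerSeries.X 0 + MvPowerSeries.X 1 : MvPowerSeries (Fin 2) A) :=
    (PowerSeries.HasSubst.X 0).add (PowerSeries.HasSubst.X 1)
  rw [PowerSeries.coeff_subst ha, finsum_eq_single _ (e 0 + e 1)]
  · beta_reduce
    rw [coeff_add_pow, if_pos rfl, smul_eq_mul]
  · intro d hd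
    beta_reduce
    rw [coeff_add_pow, if_neg hd, smul_zero]

lemma coeff_subst_mul (χ : PowerSeries A) (e : Fin 2 →₀ ℕ) :
    MvPowerSeries.coeff e (PowerSeries.subst (MvPowerSeries.X 0 : MvPowerSeries (Fin 2) A) χ *
      PowerSeries.subst (MvPowerSeries.X 1 : MvPowerSeries (Fin 2) A) χ) =
      PowerSeries.coeff (e 0) χ * PowerSeries.coeff (e 1) χ := by
  classical
  have he : Finsupp.single 0 (e 0) + Finsupp.single 1 (e 1) = e := by
    ext i; fin_cases i <;> simp
  rw [MvPowerSeries.coeff_mul,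
    Finset.sum_eq_single (Finsupp.single 0 (e 0), Finsupp.single 1 (e 1))]
  · rw [PowerSeries.coeff_subst_single, PowerSeries.coeff_subst_single]
    simp
  · rintro ⟨u, v⟩ huv hne
    replace huv : u + v = e := Finset.HasAntidiagonal.mem_antidiagonal.1 huv
    rw [PowerSeries.coeff_subst_single, PowerSeries.coeff_subst_single]
    by_cases hu : u = Finsupp.single 0 (u 0)
    · by_cases hv : v = Finsupp.single 1 (v 1)
      · exfalso
        apply hne
        have hv0 : v 0 = 0 := by rw [hv]; simp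
        have hu1 : u 1 = 0 := by rw [hu]; simp
        have h0 : u 0 + v 0 = e 0 := by rw [← huv]; rfl
        have h1 : u 1 + v 1 = e 1 := by rw [← huv]; rfl
        rw [hv0, add_zero] at h0
        rw [hu1, zero_add] at h1
        rw [Prod.mk.injEq]
        exact ⟨by rw [hu, h0], by rw [hv, h1]⟩
      · rw [if_neg hv, mul_zero]
    · rw [if_neg hu, zero_mul]
  · intro h
    exact absurd (Finset.HasAntidiagonal.mem_antidiagonal.2 he) h

theorem ps_star_iff (χ : PowerSeries A) :
    PowerSeries.subst (MvPowerSeries.X 0 + MvPowerSeries.X 1 : MvPowerSeries (Fin 2) A) χ =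
        PowerSeries.subst (MvPowerSeries.X 0 : MvPowerSeries (Fin 2) A) χ *
          PowerSeries.subst (MvPowerSeries.X 1 : MvPowerSeries (Fin 2) A) χ ↔
      ∀ i j : ℕ, PowerSeries.coeff i χ * PowerSeries.coeff j χ =
        PowerSeries.coeff (i + j) χ * ((i + j).choose j : A) := by
  constructor
  · intro h i j
    have h1 := congrArg (MvPowerSeries.coeff
      (Finsupp.single (0 : Fin 2) i + Finsupp.single (1 : Fin 2) j : Fin 2 →₀ ℕ)) h
    rw [coeff_subst_add, coeff_subst_mul] at h1
    have e0 : (Finsupp.single (0 : Fin 2) i + Finsupp.single (1 : Fin 2) j : Fin 2 →₀ ℕ) 0 = i := by simp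
    have e1 : (Finsupp.single (0 : Fin 2) i + Finsupp.single (1 : Fin 2) j : Fin 2 →₀ ℕ) 1 = j := by simp
    rw [e0, e1] at h1
    exact h1.symm
  · intro h
    ext e
    rw [coeff_subst_add, coeff_subst_mul, h]

lemma sum_C_mul_X_pow_coeff (c : ℕ → A) (N m : ℕ) :
    (∑ k ∈ Finset.range N, C (c k) * X ^ k : A[X]).coeff m = if m < N then c m else 0 := by
  rw [finsetSum_coeff]
  simp only [coeff_C_mul, coeff_X_pow, mul_ite, mul_one, mul_zero]
  rw [Finset.sum_ite_eq]
  simp only [Finset.mem_range]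

lemma trunc_eq_sum (χ : PowerSeries A) (N : ℕ) :
    PowerSeries.trunc N χ = ∑ k ∈ Finset.range N, C (PowerSeries.coeff k χ) * X ^ k := by
  ext m
  rw [PowerSeries.coeff_trunc, sum_C_mul_X_pow_coeff]

/-- `k! c_k = c_1 ^ k` -/
lemma fact_mul_of_star (c : ℕ → A) (h0 : c 0 = 1)
    (h : ∀ i j : ℕ, c i * c j = c (i + j) * ((i + j).choose j : A)) :
    ∀ k : ℕ, ((k.factorial : ℕ) : A) * c k = c 1 ^ k := by
  intro k
  induction k with
  | zero => rw [Nat.factorial_zero, Nat.cast_one, one_mul, pow_zero]; exact h0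
  | succ k ih =>
    have h1 := h 1 k
    have hch : ((1 + k).choose k : A) = ((k + 1 : ℕ) : A) := by
      rw [Nat.add_comm 1 k, Nat.choose_succ_self_right]
    rw [hch, Nat.add_comm 1 k] at h1
    rw [Nat.factorial_succ, Nat.cast_mul, pow_succ, ← ih]
    linear_combination (-((k.factorial : ℕ) : A)) * h1

end PS

section Rat

variable {A : Type u} [CommRing A] [Algebra ℚ A]

lemma algebraMap_inv_fact_mul (k : ℕ) :
    algebraMap ℚ A (1 / (k.factorial : ℚ)) * ((k.factorial : ℕ) : A) = 1 := by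
  have hne : ((k.factorial : ℕ) : ℚ) ≠ 0 := Nat.cast_ne_zero.2 (Nat.factorial_ne_zero k)
  rw [← map_natCast (algebraMap ℚ A), ← map_mul, one_div_mul_cancel hne, map_one]

/-- the exponential coefficients satisfy the character identities -/
lemma exp_star (a : A) (i j : ℕ) :
    (a ^ i * algebraMap ℚ A (1 / (i.factorial : ℚ))) * (a ^ j * algebraMap ℚ A (1 / (j.factorial : ℚ))) =
      (a ^ (i + j) * algebraMap ℚ A (1 / ((i + j).factorial : ℚ))) * ((i + j).choose j : A) := by
  have hq : (1 / (i.factorial : ℚ)) * (1 / (j.factorial : ℚ)) =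
      (1 / ((i + j).factorial : ℚ)) * ((i + j).choose j : ℚ) := by
    have hi : ((i.factorial : ℕ) : ℚ) ≠ 0 := Nat.cast_ne_zero.2 (Nat.factorial_ne_zero i)
    have hj : ((j.factorial : ℕ) : ℚ) ≠ 0 := Nat.cast_ne_zero.2 (Nat.factorial_ne_zero j)
    have hk : (((i + j).factorial : ℕ) : ℚ) ≠ 0 := Nat.cast_ne_zero.2 (Nat.factorial_ne_zero _)
    have hN : (((i + j).factorial : ℕ) : ℚ) =
        ((i + j).choose j : ℚ) * (i.factorial : ℚ) * (j.factorial : ℚ) := by
      rw [← Nat.cast_mul, ← Nat.cast_mul, Nat.add_choose_mul_factorial_mul_factorial]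
    field_simp
    rw [hN]
    ring
  have h2 := congrArg (algebraMap ℚ A) hq
  rw [map_mul, map_mul, map_natCast] at h2
  rw [pow_add]
  linear_combination (a ^ i * a ^ j) * h2

lemma coeff_of_fact_mul (c : ℕ → A) (h : ∀ k : ℕ, ((k.factorial : ℕ) : A) * c k = c 1 ^ k) (k : ℕ) :
    c k = c 1 ^ k * algebraMap ℚ A (1 / (k.factorial : ℚ)) := by
  rw [← h k]
  have := algebraMap_inv_fact_mul (A := A) k
  linear_combination (-(c k)) * this

end Rat

end Groth.Agent.Lib.Helper29.CharPChar
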