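import Mathlib
import Groth.Prelude.Def_W4c2conddiscmodels
import Groth.Agent.Lib.Helper29.GraphSub
import Groth.Agent.Lib.Helper29.BlowupGraph

set_option autoImplicit false

open Finset

namespace Groth.Agent.Lib.Helper29.CircCoprime

open Groth.Agent.Lib.Helper29.GraphInc Groth.Agent.Lib.Helper29.GraphSub

universe u

variable {V E : Type u} [Fintype V] [Fintype E] [DecidableEq V] [DecidableEq E]

theorem decomp_prime (ends : E → V × V) (l : E → ℕ) (hconn : LabGraph.Connected ends)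
    (hcc : LabGraph.IsCircuitCoprime ends l) (p : ℕ) (hp : p.Prime) (x : E → ℤ) :
    ∃ (φ : V → ℤ) (y z : E → ℤ), ∀ e,
      x e = φ (ends e).2 - φ (ends e).1 + (l e : ℤ) * y e + (p : ℤ) * z e := by
  classical
  have hEp : NoEven ends (Finset.univ.filter fun e => p ∣ l e) := by
    rw [noEven_iff_no_circuit]
    intro C hCs hC
    have hg := hcc C hC
    have hdvd : p ∣ C.gcd l := Finset.dvd_gcd fun e he => (Finset.mem_filter.mp (hCs he)).2
    rw [hg] at hdvd
    exact hp.ne_one (Nat.dvd_one.mp hdvd)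
  obtain ⟨T, hET, hTne, hTreach⟩ := exists_spanning_extension ends hconn _ hEp
  obtain ⟨⟨v0⟩, _⟩ := id hconn
  obtain ⟨φ, _, hφ⟩ := exists_tree_potential ends T hTne hTreach v0 x
  have hbez : ∀ e, ∃ y z : ℤ,
      x e - (φ (ends e).2 - φ (ends e).1) = (l e : ℤ) * y + (p : ℤ) * z := by
    intro e
    by_cases heT : e ∈ T
    · exact ⟨0, 0, by rw [hφ e heT]; ring⟩
    · have hnd : ¬ p ∣ l e := fun h => heT (hET (Finset.mem_filter.mpr ⟨Finset.mem_univ e, h⟩))
      have hcop : IsCoprime (l e : ℤ) (p : ℤ) :=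
        Nat.isCoprime_iff_coprime.mpr ((hp.coprime_iff_not_dvd.mpr hnd).symm)
      obtain ⟨a, b, hab⟩ := hcop
      refine ⟨a * (x e - (φ (ends e).2 - φ (ends e).1)),
        b * (x e - (φ (ends e).2 - φ (ends e).1)), ?_⟩
      calc x e - (φ (ends e).2 - φ (ends e).1)
          = (a * (l e : ℤ) + b * (p : ℤ)) * (x e - (φ (ends e).2 - φ (ends e).1)) := by
            rw [hab, one_mul]
        _ = _ := by ring
  choose y z hyz using hbez
  refine ⟨φ, y, z, fun e => ?_⟩
  have h := hyz e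
  linarith

theorem decomp_all (ends : E → V × V) (l : E → ℕ) (hconn : LabGraph.Connected ends)
    (hcc : LabGraph.IsCircuitCoprime ends l) : ∀ n : ℕ, 0 < n → ∀ x : E → ℤ,
    ∃ (φ : V → ℤ) (y z : E → ℤ), ∀ e,
      x e = φ (ends e).2 - φ (ends e).1 + (l e : ℤ) * y e + (n : ℤ) * z e := by
  intro n
  induction n using Nat.recOnMul with
  | zero => intro h; exact absurd h (lt_irrefl 0)
  | one =>
    intro _ x
    exact ⟨fun _ => 0, fun _ => 0, x, fun e => by simp⟩
  | prime p hp => intro _ x; exact decomp_prime ends l hconn hcc p hp x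
  | mul a b iha ihb =>
    intro hab x
    have ha : 0 < a := Nat.pos_of_ne_zero fun h => by
      rw [h, zero_mul] at hab; exact lt_irrefl 0 hab
    have hb : 0 < b := Nat.pos_of_ne_zero fun h => by
      rw [h, mul_zero] at hab; exact lt_irrefl 0 hab
    obtain ⟨φ1, y1, z1, h1⟩ := iha ha x
    obtain ⟨φ2, y2, z2, h2⟩ := ihb hb z1
    refine ⟨fun v => φ1 v + (a : ℤ) * φ2 v, fun e => y1 e + (a : ℤ) * y2 e, z2, fun e => ?_⟩
    show x e = (φ1 (ends e).2 + (a : ℤ) * φ2 (ends e).2) - (φ1 (ends e).1 + (a : ℤ) * φ2 (ends e).1)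
      + (l e : ℤ) * (y1 e + (a : ℤ) * y2 e) + ((a * b : ℕ) : ℤ) * z2 e
    rw [h1 e, h2 e]
    push_cast
    ring

theorem exists_decomp (ends : E → V × V) (l : E → ℕ) (hl : ∀ e, 0 < l e)
    (hconn : LabGraph.Connected ends) (hcc : LabGraph.IsCircuitCoprime ends l) (x : E → ℤ) :
    ∃ (φ : V → ℤ) (y : E → ℤ), ∀ e, x e = φ (ends e).2 - φ (ends e).1 + (l e : ℤ) * y e := by
  have hm : 0 < ∏ e, l e := Finset.prod_pos fun e _ => hl e
  obtain ⟨φ, y, z, h⟩ := decomp_all ends l hconn hcc (∏ e, l e) hm x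
  refine ⟨φ, fun e => y e + ((∏ e' ∈ Finset.univ.erase e, l e' : ℕ) : ℤ) * z e, fun e => ?_⟩
  have hprod : ((∏ e', l e' : ℕ) : ℤ) =
      (l e : ℤ) * ((∏ e' ∈ Finset.univ.erase e, l e' : ℕ) : ℤ) := by
    rw [← Finset.mul_prod_erase Finset.univ l (Finset.mem_univ e)]
    exact Nat.cast_mul _ _
  show x e = φ (ends e).2 - φ (ends e).1 +
    (l e : ℤ) * (y e + ((∏ e' ∈ Finset.univ.erase e, l e' : ℕ) : ℤ) * z e)
  rw [h e, hprod]
  ring

theorem coprime_of_orth (ends : E → V × V) (l : E → ℕ)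
    (h : ∀ x : E → ℤ, ∃ y : E → ℤ, ∀ γ : E → ℤ, (∀ v : V, LabGraph.boundary ends γ v = 0) →
        ∑ e : E, γ e * (x e - (l e : ℤ) * y e) = 0) :
    LabGraph.IsCircuitCoprime ends l := by
  intro C hC
  obtain ⟨e0, he0⟩ := hC.1
  obtain ⟨γ, hγ0, hγb, hγ1⟩ := exists_cycle_of_circuit ends hC e0 he0
  obtain ⟨y, hy⟩ := h (Pi.single e0 1)
  have h1 := hy γ hγb
  have hs : ∑ e, γ e * (Pi.single e0 1 : E → ℤ) e = 1 := by
    rw [Finset.sum_eq_single e0]
    · rw [Pi.single_eq_same, mul_one, hγ1]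
    · intro e _ hne; rw [Pi.single_eq_of_ne hne, mul_zero]
    · intro h; exact absurd (Finset.mem_univ e0) h
  have h3 : ∑ e, γ e * ((l e : ℤ) * y e) = ∑ e ∈ C, γ e * ((l e : ℤ) * y e) := by
    symm
    apply Finset.sum_subset (Finset.subset_univ C)
    intro e _ he
    rw [hγ0 e he, zero_mul]
  have h4 : ∑ e, γ e * ((Pi.single e0 1 : E → ℤ) e - (l e : ℤ) * y e) =
      ∑ e, γ e * (Pi.single e0 1 : E → ℤ) e - ∑ e, γ e * ((l e : ℤ) * y e) := by
    rw [← Finset.sum_sub_distrib]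
    exact Finset.sum_congr rfl fun e _ => by ring
  rw [h4, hs, h3] at h1
  have hdvd : ((C.gcd l : ℕ) : ℤ) ∣ ∑ e ∈ C, γ e * ((l e : ℤ) * y e) := by
    apply Finset.dvd_sum
    intro e he
    have h5 : ((C.gcd l : ℕ) : ℤ) ∣ (l e : ℤ) := Int.natCast_dvd_natCast.mpr (Finset.gcd_dvd he)
    exact (h5.mul_right (y e)).mul_left (γ e)
  have h2 : ∑ e ∈ C, γ e * ((l e : ℤ) * y e) = 1 := by linarith
  rw [h2] at hdvd
  have h6 : C.gcd l ∣ 1 := by exact_mod_cast hdvd
  exact Nat.dvd_one.mp h6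

theorem main13758
    (ends : E → V × V) (l : E → ℕ) (hl : ∀ e, 0 < l e) (hconn : LabGraph.Connected ends) :
    LabGraph.IsCircuitCoprime ends l ↔
      ∀ x : E → ℤ, ∃ y : E → ℤ, ∀ γ : E → ℤ, (∀ v : V, LabGraph.boundary ends γ v = 0) →
        ∑ e : E, γ e * (x e - (l e : ℤ) * y e) = 0 := by
  constructor
  · intro hcc x
    obtain ⟨φ, y, h⟩ := exists_decomp ends l hl hconn hcc x
    refine ⟨y, fun γ hγ => ?_⟩
    calc ∑ e, γ e * (x e - (l e : ℤ) * y e)
        = ∑ e, γ e * (φ (ends e).2 - φ (ends e).1) :=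
          Finset.sum_congr rfl fun e _ => by rw [h e]; ring
      _ = ∑ v, φ v * LabGraph.boundary ends γ v := pairing_boundary ends γ φ
      _ = 0 := Finset.sum_eq_zero fun v _ => by rw [hγ v, mul_zero]
  · intro h
    exact coprime_of_orth ends l h

/-! ### the blow-up graph -/

open LabGraph Groth.Agent.Lib.Helper29.BlowupGraph

/-- double partial sums -/
def dps (b : ℕ → ℤ) (j : ℕ) : ℤ := ∑ k ∈ Finset.range j, ∑ i ∈ Finset.range k, b i

theorem dps_zero (b : ℕ → ℤ) : dps b 0 = 0 := by simp [dps]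

theorem dps_one (b : ℕ → ℤ) : dps b 1 = 0 := by simp [dps]

theorem dps_succ (b : ℕ → ℤ) (j : ℕ) :
    dps b (j + 1) = dps b j + ∑ i ∈ Finset.range j, b i := by
  unfold dps; rw [Finset.sum_range_succ]

theorem dps_rec (b : ℕ → ℤ) (j : ℕ) : dps b (j + 2) = 2 * dps b (j + 1) - dps b j + b j := by
  have h1 : dps b (j + 2) = dps b (j + 1) + ∑ i ∈ Finset.range (j + 1), b i := dps_succ b (j + 1)
  have h2 := dps_succ b j
  rw [Finset.sum_range_succ] at h1
  linarith

theorem dps_ind_succ (c : ℤ) (j : ℕ) :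
    dps (fun i => if i = 0 then c else 0) (j + 1) = (j : ℤ) * c := by
  induction j with
  | zero => rw [dps_one]; simp
  | succ j ih =>
    rw [dps_succ, ih, Finset.sum_ite_eq', if_pos (Finset.mem_range.mpr (Nat.succ_pos j))]
    push_cast; ring

theorem dps_ind (c : ℤ) (j : ℕ) (hj : 0 < j) :
    dps (fun i => if i = 0 then c else 0) j = ((j : ℤ) - 1) * c := by
  obtain ⟨m, rfl⟩ : ∃ m, j = m + 1 := ⟨j - 1, by omega⟩
  rw [dps_ind_succ]; push_cast; ring

lemma ap' (ends : E → V × V) (l : E → ℕ) (ψ : BlVert V E l → ℤ) (b : E → ℕ → ℤ)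
    (hψnew : ∀ e i (hi : i < l e - 1),
      mdeg (blEnds ends l) (fun _ => 1) ψ (Sum.inr ⟨e, ⟨i, hi⟩⟩) = - b e i) (e : E) :
    ∀ j, j ≤ l e → ψ (pathVert ends l e j) = ψ (pathVert ends l e 0)
      + (j : ℤ) * (ψ (pathVert ends l e 1) - ψ (pathVert ends l e 0)) - dps (b e) j := by
  intro j
  induction j using Nat.twoStepInduction with
  | zero => intro _; simp [dps_zero]
  | one => intro _; rw [dps_one]; push_cast; ring
  | more j ih1 ih2 =>
    intro hj
    have h1 := ih1 (by omega)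
    have h2 := ih2 (by omega)
    have h3 := hψnew e j (by omega)
    rw [mdeg_new] at h3
    rw [dps_rec]
    push_cast at h2 ⊢
    linarith

theorem exists_psi (ends : E → V × V) (l : E → ℕ) (ψ₀ : V → ℤ) (y : E → ℤ)
    (b : E → ℕ → ℤ)
    (hcons : ∀ e, ψ₀ (ends e).2 = ψ₀ (ends e).1 + (l e : ℤ) * y e - dps (b e) (l e)) :
    ∃ ψ : BlVert V E l → ℤ, ∀ e i (hi : i < l e - 1),
      mdeg (blEnds ends l) (fun _ => 1) ψ (Sum.inr ⟨e, ⟨i, hi⟩⟩) = - b e i := by
  refine ⟨Sum.elim ψ₀ (fun p => ψ₀ (ends p.1).1 + ((p.2.val + 1 : ℕ) : ℤ) * y p.1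
    - dps (b p.1) (p.2.val + 1)), ?_⟩
  have hpv : ∀ e j, j ≤ l e →
      (Sum.elim ψ₀ (fun p : (Σ e : E, Fin (l e - 1)) =>
        ψ₀ (ends p.1).1 + ((p.2.val + 1 : ℕ) : ℤ) * y p.1 - dps (b p.1) (p.2.val + 1)) :
          BlVert V E l → ℤ) (pathVert ends l e j) =
        ψ₀ (ends e).1 + (j : ℤ) * y e - dps (b e) j := by
    intro e j hj
    by_cases hj0 : j = 0
    · subst hj0
      rw [pv_zero]
      simp [dps_zero]
    · by_cases hjl : j < l e
      · rw [pv_mid ends l e j hj0 hjl]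
        simp only [Sum.elim_inr]
        have hjj : j - 1 + 1 = j := by omega
        rw [hjj]
      · have hjeq : j = l e := by omega
        rw [pv_top ends l e j hj0 (by omega)]
        simp only [Sum.elim_inl]
        rw [hjeq]; exact hcons e
  intro e i hi
  rw [mdeg_new, hpv e (i + 2) (by omega), hpv e (i + 1) (by omega), hpv e i (by omega), dps_rec]
  push_cast
  ring

/-- the correction term at the new vertices -/
def blB (l : E → ℕ) (β : BlVert V E l → ℤ) (e : E) (i : ℕ) : ℤ :=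
  if hi : i < l e - 1 then β (Sum.inr ⟨e, ⟨i, hi⟩⟩) else 0

theorem main13760
    (ends : E → V × V) (l : E → ℕ) (hl : ∀ e, 0 < l e) (hconn : LabGraph.Connected ends) :
    (∀ β : LabGraph.BlVert V E l → ℤ, ∃ (ψ : LabGraph.BlVert V E l → ℤ) (α : V → ℤ),
        ∀ w : LabGraph.BlVert V E l,
          LabGraph.mdeg (LabGraph.blEnds ends l) (fun _ => 1) ψ w + β w = Sum.elim α (fun _ => (0 : ℤ)) w) ↔
      LabGraph.IsCircuitCoprime ends l := by
  constructor
  · intro hsurj
    apply coprime_of_orth ends l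
    intro x
    obtain ⟨ψ, α, hψ⟩ := hsurj (Sum.elim (fun _ => 0) (fun p => if p.2.val = 0 then x p.1 else 0))
    have hnew : ∀ e i (hi : i < l e - 1),
        mdeg (blEnds ends l) (fun _ => 1) ψ (Sum.inr ⟨e, ⟨i, hi⟩⟩) =
          - (if i = 0 then x e else 0) := by
      intro e i hi
      have h1 := hψ (Sum.inr ⟨e, ⟨i, hi⟩⟩)
      simp only [Sum.elim_inr] at h1
      linarith
    have hap := ap' ends l ψ (fun e i => if i = 0 then x e else 0) hnew
    refine ⟨fun e => x e - (ψ (pathVert ends l e 1) - ψ (pathVert ends l e 0)), fun γ hγ => ?_⟩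
    have hx : ∀ e, x e - (l e : ℤ) *
        (x e - (ψ (pathVert ends l e 1) - ψ (pathVert ends l e 0))) =
        ψ (Sum.inl (ends e).2) - ψ (Sum.inl (ends e).1) := by
      intro e
      have hle := hl e
      have h1 : ψ (pathVert ends l e (l e)) = ψ (pathVert ends l e 0)
          + (l e : ℤ) * (ψ (pathVert ends l e 1) - ψ (pathVert ends l e 0))
          - dps (fun i => if i = 0 then x e else 0) (l e) := hap e (l e) le_rfl
      rw [dps_ind (x e) (l e) hle, pv_top ends l e (l e) (by omega) le_rfl] at h1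
      rw [h1, pv_zero]
      ring
    calc ∑ e, γ e * (x e - (l e : ℤ) *
          (x e - (ψ (pathVert ends l e 1) - ψ (pathVert ends l e 0))))
        = ∑ e, γ e * ((fun v => ψ (Sum.inl v)) (ends e).2 - (fun v => ψ (Sum.inl v)) (ends e).1) :=
          Finset.sum_congr rfl fun e _ => by rw [hx e]
      _ = ∑ v, (fun v => ψ (Sum.inl v)) v * LabGraph.boundary ends γ v :=
          pairing_boundary ends γ (fun v => ψ (Sum.inl v))
      _ = 0 := Finset.sum_eq_zero fun v _ => by rw [hγ v, mul_zero]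
  · intro hcc β
    obtain ⟨φ, y, h⟩ := exists_decomp ends l hl hconn hcc (fun e => dps (blB l β e) (l e))
    obtain ⟨ψ, hψ⟩ := exists_psi ends l (fun v => - φ v) y (blB l β) (fun e => by
      have h1 : dps (blB l β e) (l e) = φ (ends e).2 - φ (ends e).1 + (l e : ℤ) * y e := h e
      show - φ (ends e).2 = - φ (ends e).1 + (l e : ℤ) * y e - dps (blB l β e) (l e)
      linarith)
    refine ⟨ψ, fun v => mdeg (blEnds ends l) (fun _ => 1) ψ (Sum.inl v) + β (Sum.inl v),
      fun w => ?_⟩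
    rcases w with v | ⟨e, ⟨i, hi⟩⟩
    · rfl
    · have hb : blB l β e i = β (Sum.inr ⟨e, ⟨i, hi⟩⟩) := by
        unfold blB; rw [dif_pos hi]
      rw [hψ e i hi, hb]
      simp

end Groth.Agent.Lib.Helper29.CircCoprime
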