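import Mathlib
import Groth.Agent.Lib.Helper25.LocGenSite

/-!
# Closed embeddings of ringed spaces: topology, faithfulness and fullness of `i_*` (helper29)
-/

set_option autoImplicit false
set_option maxHeartbeats 1600000

universe u

open CategoryTheory CategoryTheory.Limits Opposite TopologicalSpace Topology

namespace Groth.Agent.Lib.Helper29.ClEmbA

section Top

variable {Z X : TopCat.{u}} (i : Z ⟶ X) (hi : IsClosedEmbedding i)

/-- the largest open of `X` whose preimage is `V` -/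
def Gobj (V : Opens Z) : Opens X :=
  ⟨(i '' ((V : Set Z)ᶜ))ᶜ, (hi.isClosedMap _ V.isOpen.isClosed_compl).isOpen_compl⟩

lemma mem_Gobj {V : Opens Z} {x : X} : x ∈ Gobj i hi V ↔ ∀ z, i z = x → z ∈ V := by
  change x ∉ i '' ((V : Set Z)ᶜ) ↔ _
  constructor
  · intro h z hz
    by_contra hzV
    exact h ⟨z, hzV, hz⟩
  · rintro h ⟨z, hzV, hz⟩
    exact hzV (h z hz)

lemma map_Gobj (V : Opens Z) : (Opens.map i).obj (Gobj i hi V) = V := by
  ext z
  change i z ∈ Gobj i hi V ↔ z ∈ V
  rw [mem_Gobj]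
  constructor
  · intro h
    exact h z rfl
  · intro hz z' hz'
    rw [hi.injective hz']
    exact hz

lemma le_Gobj_map (U : Opens X) : U ≤ Gobj i hi ((Opens.map i).obj U) := by
  intro x hx
  rw [mem_Gobj]
  intro z hz
  change i z ∈ U
  rw [hz]
  exact hx

lemma Gobj_mono {V V' : Opens Z} (h : V ≤ V') : Gobj i hi V ≤ Gobj i hi V' := by
  intro x hx
  rw [mem_Gobj] at hx ⊢
  exact fun z hz => h (hx z hz)

/-- the complement of the (closed) range -/
def W0 : Opens X := ⟨(Set.range i)ᶜ, hi.isClosed_range.isOpen_compl⟩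

lemma mem_W0 {x : X} : x ∈ W0 i hi ↔ x ∉ Set.range i := Iff.rfl

lemma W0_le_Gobj (V : Opens Z) : W0 i hi ≤ Gobj i hi V := by
  intro x hx
  rw [mem_Gobj]
  intro z hz
  exact absurd ⟨z, hz⟩ hx

lemma Gobj_le_sup (U : Opens X) : Gobj i hi ((Opens.map i).obj U) ≤ U ⊔ W0 i hi := by
  intro x hx
  rw [mem_Gobj] at hx
  by_cases hr : x ∈ Set.range i
  · obtain ⟨z, rfl⟩ := hr
    exact Or.inl (hx z rfl)
  · exact Or.inr hr

lemma not_mem_map_of_le_W0 {W : Opens X} (h : W ≤ W0 i hi) (z : Z) :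
    z ∉ (Opens.map i).obj W := by
  intro hz
  exact h (show i z ∈ W from hz) ⟨z, rfl⟩

/-- `Gobj` as a functor -/
def Gf : Opens Z ⥤ Opens X where
  obj := Gobj i hi
  map f := homOfLE (Gobj_mono i hi (leOfHom f))
  map_id _ := Subsingleton.elim _ _
  map_comp _ _ := Subsingleton.elim _ _

lemma bot_mem_of_isEmpty (V : Opens Z) (hV : ∀ z, z ∉ V) :
    (⊥ : Sieve V) ∈ Opens.grothendieckTopology Z V := by
  intro z hz
  exact absurd hz (hV z)

lemma subsingleton_of_isEmpty {RZ : Sheaf (Opens.grothendieckTopology Z) RingCat.{u}}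
    (N : SheafOfModules.{u} RZ) (V : Opens Z) (hV : ∀ z, z ∉ V) :
    Subsingleton (N.val.obj (op V)) := by
  refine ⟨fun x y => ?_⟩
  exact (N.isSheaf.isSeparated) _ _ (bot_mem_of_isEmpty V hV) x y
    (fun Y f hf => hf.elim)

lemma subsingleton_ring_of_isEmpty (RZ : Sheaf (Opens.grothendieckTopology Z) RingCat.{u})
    (V : Opens Z) (hV : ∀ z, z ∉ V) :
    Subsingleton (RZ.obj.obj (op V)) := by
  refine ⟨fun x y => ?_⟩
  exact RZ.isSeparated _ _ (bot_mem_of_isEmpty V hV) x y
    (fun Y f hf => hf.elim)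

end Top

section Mod

variable {Z X : TopCat.{u}} (i : Z ⟶ X) (hi : IsClosedEmbedding i)
  {RZ : Sheaf (Opens.grothendieckTopology Z) RingCat.{u}}
  {RX : Sheaf (Opens.grothendieckTopology X) RingCat.{u}}
  (φ : RX ⟶ ((Opens.map i).sheafPushforwardContinuous RingCat.{u}
      (Opens.grothendieckTopology X) (Opens.grothendieckTopology Z)).obj RZ)

include hi in
theorem faithful : (SheafOfModules.pushforward.{u} φ).Faithful := by
  refine ⟨fun {M N} f g h => ?_⟩
  apply SheafOfModules.hom_ext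
  apply PresheafOfModules.hom_ext
  intro V
  obtain ⟨V⟩ := V
  obtain ⟨W, rfl⟩ : ∃ W, (Opens.map i).obj W = V := ⟨_, map_Gobj i hi V⟩
  have h1 := congrArg (fun k => k.val.app (op W)) h
  ext x
  exact congrArg (fun k => k.hom x) h1

end Mod

end Groth.Agent.Lib.Helper29.ClEmbA
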