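import Mathlib
import Groth.Agent.Lib.Helper29.ClEmbA

/-!
# Closed embeddings of ringed spaces: exactness of `i_*` and the easy half of the essential image
(helper29)
-/

set_option autoImplicit false
set_option maxHeartbeats 1600000

universe u

open CategoryTheory CategoryTheory.Limits Opposite TopologicalSpace Topology

namespace Groth.Agent.Lib.Helper29.ClEmbB

open Groth.Agent.Lib.Helper29.ClEmbA

variable {Z X : TopCat.{u}} (i : Z ⟶ X) (hi : IsClosedEmbedding i)
  {RZ : Sheaf (Opens.grothendieckTopology Z) RingCat.{u}}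
  {RX : Sheaf (Opens.grothendieckTopology X) RingCat.{u}}
  (φ : RX ⟶ ((Opens.map i).sheafPushforwardContinuous RingCat.{u}
      (Opens.grothendieckTopology X) (Opens.grothendieckTopology Z)).obj RZ)

include hi in
theorem epi_map {M N : SheafOfModules.{u} RZ} (f : M ⟶ N) [Epi f] :
    Epi ((SheafOfModules.pushforward.{u} φ).map f) := by
  apply Groth.Agent.Lib.Helper25.LocGenSite.epi_of_locSurj
  intro W n
  obtain ⟨T, hT, hT'⟩ :=
    Groth.Agent.Lib.Helper25.LocGenSite.locSurj_of_epi f ((Opens.map i).obj W) n
  let S : Sieve W :=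
    { arrows := fun W' g => T ((Opens.map i).map g) ∨ W' ≤ W0 i hi
      downward_closed := by
        rintro W₁ W₂ g (h | h) k
        · left
          rw [Functor.map_comp]
          exact T.downward_closed h _
        · right
          exact le_trans (leOfHom k) h }
  refine ⟨S, ?_, ?_⟩
  · intro x hx
    by_cases hr : x ∈ Set.range i
    · obtain ⟨z, rfl⟩ := hr
      obtain ⟨V', g', hg', hz⟩ := hT z hx
      refine ⟨Gobj i hi V' ⊓ W, homOfLE inf_le_right, Or.inl ?_, ⟨?_, hx⟩⟩
      · have hle : (Opens.map i).obj (Gobj i hi V' ⊓ W) ≤ V' := by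
          intro z' hz'
          have h1 : z' ∈ (Opens.map i).obj (Gobj i hi V') := hz'.1
          rw [map_Gobj] at h1
          exact h1
        have h2 := T.downward_closed hg' (homOfLE hle)
        have h3 : homOfLE hle ≫ g' = (Opens.map i).map (homOfLE inf_le_right) :=
          Subsingleton.elim _ _
        rw [h3] at h2
        exact h2
      · refine (mem_Gobj i hi).mpr ?_
        intro z' hz'
        rw [hi.injective hz']
        exact hz
    · exact ⟨W ⊓ W0 i hi, homOfLE inf_le_left, Or.inr inf_le_right, ⟨hx, hr⟩⟩
  · intro W' g hg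
    rcases hg with hg | hg
    · obtain ⟨m, hm⟩ := hT' _ hg
      exact ⟨m, hm⟩
    · haveI : Subsingleton (((SheafOfModules.pushforward.{u} φ).obj N).val.obj (op W')) :=
        subsingleton_of_isEmpty N ((Opens.map i).obj W') (not_mem_map_of_le_W0 i hi hg)
      exact ⟨0, Subsingleton.elim _ _⟩

include hi in
theorem preservesFiniteColimits [PreservesFiniteLimits (SheafOfModules.pushforward.{u} φ)]
    [(SheafOfModules.pushforward.{u} φ).Additive] :
    PreservesFiniteColimits (SheafOfModules.pushforward.{u} φ) := by
  rw [Functor.preservesFiniteColimits_iff_forall_exact_map_and_epi]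
  intro S hS
  refine ⟨((Functor.preservesFiniteLimits_iff_forall_exact_map_and_mono
    (SheafOfModules.pushforward.{u} φ)).mp inferInstance S hS).1, ?_⟩
  haveI := hS.epi_g
  exact epi_map i hi φ S.g

theorem smul_eq_zero_of_essImage (G : SheafOfModules.{u} RX)
    (hG : (SheafOfModules.pushforward.{u} φ).essImage G)
    (U : Opens X) (a : RX.obj.obj (op U)) (ha : (φ.hom.app (op U)).hom a = 0)
    (s : G.val.obj (op U)) : a • s = 0 := by
  obtain ⟨M, ⟨e⟩⟩ := hG
  have h1 : (e.hom.val.app (op U)).hom ((e.inv.val.app (op U)).hom s) = s := by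
    have h := congrArg (fun k => (k.val.app (op U)).hom s) e.inv_hom_id
    exact h
  rw [← h1, ← (e.hom.val.app (op U)).hom.map_smul]
  have h2 : a • ((e.inv.val.app (op U)).hom s) = 0 := by
    have key : ∀ (b : RZ.obj.obj (op ((Opens.map i).obj U))),
        b = (φ.hom.app (op U)).hom a →
        a • ((e.inv.val.app (op U)).hom s) =
          b • (show M.val.obj (op ((Opens.map i).obj U)) from
            (e.inv.val.app (op U)).hom s) := by
      intro b hb
      subst hb
      rfl
    rw [key 0 ha.symm, zero_smul]
    rfl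
  rw [h2, map_zero]

end Groth.Agent.Lib.Helper29.ClEmbB
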