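import Mathlib
import Groth.Agent.Lib.Helper29.ClEmbA

/-!
# Closed embeddings of ringed spaces: the comparison `M ≅ G^* i_* M` (helper29)
-/

set_option autoImplicit false
set_option maxHeartbeats 1600000

universe u

open CategoryTheory CategoryTheory.Limits Opposite TopologicalSpace Topology

namespace Groth.Agent.Lib.Helper29.ClEmbK

open Groth.Agent.Lib.Helper29.ClEmbA

variable {Z X : TopCat.{u}} (i : Z ⟶ X) (hi : IsClosedEmbedding i)
  (RZ : Sheaf (Opens.grothendieckTopology Z) RingCat.{u})

/-- the ring map `O_Z ⟶ G^* i_* O_Z` (an isomorphism) -/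
def rho : RZ.obj ⟶ (Gf i hi).op ⋙ ((Opens.map i).op ⋙ RZ.obj) where
  app V := RZ.obj.map (eqToHom (map_Gobj i hi V.unop)).op
  naturality V V' f :=
    (RZ.obj.map_comp _ _).symm.trans
      ((congrArg RZ.obj.map (Subsingleton.elim _ _)).trans (RZ.obj.map_comp _ _))

/-- the comparison map `M ⟶ G^* i_* M` -/
def kappa (M : PresheafOfModules.{u} RZ.obj) :
    M ⟶ (PresheafOfModules.pushforward (rho i hi RZ)).obj
      ((PresheafOfModules.pushforward₀ (Opens.map i) RZ.obj).obj M) where
  app V := M.map (eqToHom (map_Gobj i hi V.unop)).op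
  naturality {V V'} f := by
    ext x
    have h1 := M.map_comp_apply f (eqToHom (map_Gobj i hi V'.unop)).op x
    have h2 := M.map_comp_apply (eqToHom (map_Gobj i hi V.unop)).op
      ((Opens.map i).op.map ((Gf i hi).op.map f)) x
    have h3 := M.congr_map_apply (Subsingleton.elim
      (f ≫ (eqToHom (map_Gobj i hi V'.unop)).op)
      ((eqToHom (map_Gobj i hi V.unop)).op ≫ (Opens.map i).op.map ((Gf i hi).op.map f))) x
    exact h1.symm.trans (h3.trans h2)

instance (M : PresheafOfModules.{u} RZ.obj) : IsIso (kappa i hi RZ M) := by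
  haveI : ∀ V, IsIso (((PresheafOfModules.toPresheaf _).map (kappa i hi RZ M)).app V) :=
    fun V => (inferInstance :
      IsIso (M.presheaf.map (eqToHom (map_Gobj i hi V.unop)).op))
  haveI : IsIso ((PresheafOfModules.toPresheaf _).map (kappa i hi RZ M)) :=
    NatIso.isIso_of_isIso_app _
  exact isIso_of_reflects_iso _ (PresheafOfModules.toPresheaf _)

end Groth.Agent.Lib.Helper29.ClEmbK
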