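import Mathlib
import Groth.Agent.Lib.Helper29.ClEmbK

/-!
# Closed embeddings of ringed spaces: fullness of `i_*` (helper29)
-/

set_option autoImplicit false
set_option maxHeartbeats 1600000

universe u

open CategoryTheory CategoryTheory.Limits Opposite TopologicalSpace Topology

namespace Groth.Agent.Lib.Helper29.ClEmbFull

open Groth.Agent.Lib.Helper29.ClEmbA Groth.Agent.Lib.Helper29.ClEmbK

variable {Z X : TopCat.{u}} (i : Z ⟶ X) (hi : IsClosedEmbedding i)
  {RZ : Sheaf (Opens.grothendieckTopology Z) RingCat.{u}}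
  {RX : Sheaf (Opens.grothendieckTopology X) RingCat.{u}}
  (φ : RX ⟶ ((Opens.map i).sheafPushforwardContinuous RingCat.{u}
      (Opens.grothendieckTopology X) (Opens.grothendieckTopology Z)).obj RZ)

include hi in
theorem full (hφ : Presheaf.IsLocallySurjective (Opens.grothendieckTopology X) φ.hom) :
    (SheafOfModules.pushforward.{u} φ).Full := by
  refine ⟨fun {M N} ψ => ?_⟩
  haveI := hφ
  let M₁ : PresheafOfModules.{u} ((Opens.map i).op ⋙ RZ.obj) :=
    (PresheafOfModules.pushforward₀ (Opens.map i) RZ.obj).obj M.val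
  let N₁ : PresheafOfModules.{u} ((Opens.map i).op ⋙ RZ.obj) :=
    (PresheafOfModules.pushforward₀ (Opens.map i) RZ.obj).obj N.val
  have hN₁ : Presheaf.IsSheaf (Opens.grothendieckTopology X) N₁.presheaf :=
    ((SheafOfModules.pushforward.{u} φ).obj N).isSheaf
  let ψ' : M₁ ⟶ N₁ :=
    (PresheafOfModules.restrictHomEquivOfIsLocallySurjective
      (J := Opens.grothendieckTopology X) φ.hom hN₁).symm ψ.val
  let φ' : M.val ⟶ N.val :=
    kappa i hi RZ M.val ≫ (PresheafOfModules.pushforward (rho i hi RZ)).map ψ' ≫
      inv (kappa i hi RZ N.val)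
  refine ⟨⟨φ'⟩, ?_⟩
  apply SheafOfModules.hom_ext
  apply PresheafOfModules.hom_ext
  intro W
  obtain ⟨W⟩ := W
  ext x
  let FW : Opens Z := (Opens.map i).obj W
  let g : W ⟶ Gobj i hi FW := homOfLE (le_Gobj_map i hi W)
  let eF : (Opens.map i).obj (Gobj i hi FW) ⟶ FW := eqToHom (map_Gobj i hi FW)
  -- injectivity of `κ_N`
  have hinj : Function.Injective (N.val.presheaf.map eF.op) := by
    haveI : IsIso (N.val.presheaf.map eF.op) := inferInstance
    exact ((ConcreteCategory.isIso_iff_bijective _).mp inferInstance).1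
  apply hinj
  have h1 : φ' ≫ kappa i hi RZ N.val =
      kappa i hi RZ M.val ≫ (PresheafOfModules.pushforward (rho i hi RZ)).map ψ' := by
    simp [φ']
  have h2 := congrArg (fun k => (k.app (op FW)).hom x) h1
  refine Eq.trans h2 ?_
  -- naturality of `ψ'`
  have hx : M.val.presheaf.map ((Opens.map i).map g).op (M.val.presheaf.map eF.op x) = x := by
    have h := congrArg (fun k => k x)
      ((M.val.presheaf.map_comp eF.op ((Opens.map i).map g).op).symm.trans
        ((congrArg M.val.presheaf.map (Subsingleton.elim _ (𝟙 _))).trans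
          (M.val.presheaf.map_id _)))
    exact h
  have hn := PresheafOfModules.naturality_apply ψ' g.op (M.val.presheaf.map eF.op x)
  have hy : ∀ y : N.val.presheaf.obj (op ((Opens.map i).obj (Gobj i hi FW))),
      N.val.presheaf.map eF.op (N.val.presheaf.map ((Opens.map i).map g).op y) = y := by
    intro y
    have h := congrArg (fun k => k y)
      ((N.val.presheaf.map_comp ((Opens.map i).map g).op eF.op).symm.trans
        ((congrArg N.val.presheaf.map (Subsingleton.elim _ (𝟙 _))).trans
          (N.val.presheaf.map_id _)))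
    exact h
  have hn' : (ψ'.app (op W)).hom x =
      N.val.presheaf.map ((Opens.map i).map g).op
        ((ψ'.app (op (Gobj i hi FW))).hom (M.val.presheaf.map eF.op x)) := by
    have := hn
    rw [show M₁.map g.op (M.val.presheaf.map eF.op x) = x from hx] at this
    exact this
  change (ψ'.app (op (Gobj i hi FW))).hom (M.val.presheaf.map eF.op x) =
    N.val.presheaf.map eF.op ((ψ'.app (op W)).hom x)
  rw [hn', hy]
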