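import Mathlib

/-!
# Modules killed by the kernel of a locally surjective ring map descend (helper29)

For a locally surjective morphism `φ : R ⟶ R'` of sheaves of rings on a small site, every sheaf of
`R`-modules killed sectionwise by the kernel of `φ` is the restriction of scalars of a sheaf of
`R'`-modules.
-/

set_option autoImplicit false
set_option maxHeartbeats 1600000

universe u

open CategoryTheory CategoryTheory.Limits Opposite

namespace Groth.Agent.Lib.Helper29.ClEmbSA

variable {C : Type u} [SmallCategory C] {J : GrothendieckTopology C}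
  {R R' : Sheaf J RingCat.{u}} (φ : R ⟶ R')

/-- the kernel ideal of `φ` on sections -/
abbrev kerI (U : Cᵒᵖ) : Ideal (R.obj.obj U) := RingHom.ker (φ.hom.app U).hom

lemma kerI_le {U V : Cᵒᵖ} (f : U ⟶ V) :
    kerI φ U ≤ Ideal.comap (R.obj.map f).hom (kerI φ V) := by
  intro a ha
  rw [Ideal.mem_comap, RingHom.mem_ker]
  have ha' : (φ.hom.app U).hom a = 0 := RingHom.mem_ker.mp ha
  have h := congrArg (fun k => k.hom a) (φ.hom.naturality f)
  have h' : (φ.hom.app V).hom ((R.obj.map f).hom a) =
      (R'.obj.map f).hom ((φ.hom.app U).hom a) := h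
  rw [h', ha', map_zero]

/-- the presheaf of quotient rings `R / ker φ` -/
def P : Cᵒᵖ ⥤ RingCat.{u} where
  obj U := RingCat.of (R.obj.obj U ⧸ kerI φ U)
  map {U V} f := RingCat.ofHom
    (Ideal.quotientMap (kerI φ V) (R.obj.map f).hom (kerI_le φ f))
  map_id U := by
    apply RingCat.hom_ext
    apply Ideal.Quotient.ringHom_ext
    ext a
    simp
  map_comp f g := by
    apply RingCat.hom_ext
    apply Ideal.Quotient.ringHom_ext
    ext a
    simp

/-- the quotient map `R ⟶ R / ker φ` -/
def qP : R.obj ⟶ P φ where
  app U := RingCat.ofHom (Ideal.Quotient.mk (kerI φ U))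
  naturality U V f := by
    apply RingCat.hom_ext
    ext a
    exact (Ideal.quotientMap_mk (J := kerI φ U) (I := kerI φ V)
      (f := (R.obj.map f).hom) (H := kerI_le φ f) (x := a)).symm

/-- the injection `R / ker φ ⟶ R'` -/
def αP : P φ ⟶ R'.obj where
  app U := RingCat.ofHom (RingHom.kerLift (φ.hom.app U).hom)
  naturality U V f := by
    apply RingCat.hom_ext
    apply Ideal.Quotient.ringHom_ext
    ext a
    simp [P]

lemma qP_αP : qP φ ≫ αP φ = φ.hom := by
  ext U a
  exact RingHom.kerLift_mk _ a

instance : Presheaf.IsLocallyInjective J (αP φ) :=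
  Presheaf.isLocallyInjective_of_injective J _
    (fun U => RingHom.kerLift_injective (φ.hom.app U).hom)

lemma isLocallySurjective_αP [Presheaf.IsLocallySurjective J φ.hom] :
    Presheaf.IsLocallySurjective J (αP φ) :=
  Presheaf.isLocallySurjective_of_isLocallySurjective_fac J (qP_αP φ)

variable (G : SheafOfModules.{u} R)
  (hG : ∀ (U : Cᵒᵖ) (a : R.obj.obj U), (φ.hom.app U).hom a = 0 →
    ∀ s : G.val.obj U, a • s = 0)

include hG in
lemma torsion (U : Cᵒᵖ) :
    Module.IsTorsionBySet (R.obj.obj U) (G.val.obj U) (kerI φ U : Set (R.obj.obj U)) := by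
  intro x a
  exact hG U a.1 (RingHom.mem_ker.mp a.2) x

/-- `G` as a presheaf of modules over `R / ker φ` -/
noncomputable def GP : PresheafOfModules.{u} (P φ) :=
  letI : ∀ U : Cᵒᵖ, Module ((P φ).obj U) (G.val.presheaf.obj U) :=
    fun U => (torsion φ G hG U).module
  PresheafOfModules.ofPresheaf G.val.presheaf (by
    intro U V f r m
    obtain ⟨a, rfl⟩ := Ideal.Quotient.mk_surjective r
    exact G.val.map_smul f a m)

include hG in
theorem exists_restrictScalars_iso [Presheaf.IsLocallySurjective J φ.hom] :
    ∃ M' : SheafOfModules.{u} R',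
      Nonempty ((SheafOfModules.restrictScalars.{u} φ).obj M' ≅ G) := by
  haveI := isLocallySurjective_αP φ
  let GP' : PresheafOfModules.{u} (P φ) := GP φ G hG
  let M' : SheafOfModules.{u} R' := (PresheafOfModules.sheafification (αP φ)).obj GP'
  let un : GP' ⟶ (PresheafOfModules.restrictScalars (αP φ)).obj M'.val :=
    (PresheafOfModules.sheafificationAdjunction (αP φ)).unit.app GP'
  let θ : G.val ⟶ (PresheafOfModules.restrictScalars φ.hom).obj M'.val :=
    PresheafOfModules.homMk (CategoryTheory.toSheafify J G.val.presheaf) (by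
      intro U a m
      exact (un.app U).hom.map_smul (Ideal.Quotient.mk (kerI φ U) a) m)
  haveI : IsIso ((PresheafOfModules.toPresheaf _).map θ) := by
    have h : (PresheafOfModules.toPresheaf _).map θ =
        CategoryTheory.toSheafify J G.val.presheaf := by
      ext U x
      rfl
    rw [h]
    exact isIso_toSheafify J G.isSheaf
  haveI : IsIso θ := isIso_of_reflects_iso θ (PresheafOfModules.toPresheaf _)
  exact ⟨M', ⟨(SheafOfModules.fullyFaithfulForget _).preimageIso (asIso θ).symm⟩⟩

end Groth.Agent.Lib.Helper29.ClEmbSA
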