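import Mathlib
import Groth.Agent.Lib.Helper29.ClEmbK

/-!
# Closed embeddings: modules over `i_* O_Z` come from `Z` (helper29)
-/

set_option autoImplicit false
set_option maxHeartbeats 1600000

universe u

open CategoryTheory CategoryTheory.Limits Opposite TopologicalSpace Topology

namespace Groth.Agent.Lib.Helper29.ClEmbSB

open Groth.Agent.Lib.Helper29.ClEmbA Groth.Agent.Lib.Helper29.ClEmbK

variable {Z X : TopCat.{u}} (i : Z ⟶ X) (hi : IsClosedEmbedding i)
  (RZ : Sheaf (Opens.grothendieckTopology Z) RingCat.{u})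

/-- the pushed forward sheaf of rings -/
abbrev pushR : Sheaf (Opens.grothendieckTopology X) RingCat.{u} :=
  ((Opens.map i).sheafPushforwardContinuous RingCat.{u} (Opens.grothendieckTopology X)
    (Opens.grothendieckTopology Z)).obj RZ

variable (M' : SheafOfModules.{u} (pushR i RZ))

include hi in
lemma subsingleton_of_le_W0 {W : Opens X} (h : W ≤ W0 i hi) :
    Subsingleton (M'.val.obj (op W)) := by
  haveI : Subsingleton ((pushR i RZ).obj.obj (op W)) :=
    subsingleton_ring_of_isEmpty RZ ((Opens.map i).obj W) (not_mem_map_of_le_W0 i hi h)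
  exact Module.subsingleton ((pushR i RZ).obj.obj (op W)) _

lemma isSheaf_comp_Gf :
    Presheaf.IsSheaf (Opens.grothendieckTopology Z) ((Gf i hi).op ⋙ M'.val.presheaf) := by
  show TopCat.Presheaf.IsSheaf ((Gf i hi).op ⋙ M'.val.presheaf)
  apply (TopCat.Presheaf.isSheaf_iff_isSheafUniqueGluing
    ((Gf i hi).op ⋙ M'.val.presheaf)).mpr
  intro ι V sf hsf
  let P := M'.val.presheaf
  let MS : TopCat.Sheaf AddCommGrpCat.{u} X := ⟨M'.val.presheaf, M'.isSheaf⟩
  let U' : Option ι → Opens X :=
    fun a => Option.elim a (W0 i hi) (fun k => Gobj i hi (V k))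
  let big : Opens X := Gobj i hi (iSup V)
  let iUV : ∀ a, U' a ⟶ big := fun a => match a with
    | none => homOfLE (W0_le_Gobj i hi _)
    | some k => homOfLE (Gobj_mono i hi (le_iSup V k))
  have hcover : big ≤ iSup U' := by
    intro x hx
    rw [Opens.mem_iSup]
    by_cases hr : x ∈ Set.range i
    · obtain ⟨z, rfl⟩ := hr
      have hz : z ∈ iSup V := (mem_Gobj i hi).mp hx z rfl
      obtain ⟨k, hk⟩ := Opens.mem_iSup.mp hz
      refine ⟨some k, (mem_Gobj i hi).mpr (fun z' hz' => ?_)⟩
      rw [hi.injective hz']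
      exact hk
    · exact ⟨none, hr⟩
  let sf' : ∀ a, ToType (MS.1.obj (op (U' a))) := fun a => match a with
    | none => (0 : M'.val.obj (op (W0 i hi)))
    | some k => sf k
  have hcomp : TopCat.Presheaf.IsCompatible MS.1 U' sf' := by
    rintro (_ | k) (_ | l)
    · exact @Subsingleton.elim _
        (subsingleton_of_le_W0 i hi RZ M' (inf_le_left : W0 i hi ⊓ W0 i hi ≤ W0 i hi)) _ _
    · exact @Subsingleton.elim _
        (subsingleton_of_le_W0 i hi RZ M'
          (inf_le_left : W0 i hi ⊓ Gobj i hi (V l) ≤ W0 i hi)) _ _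
    · exact @Subsingleton.elim _
        (subsingleton_of_le_W0 i hi RZ M'
          (inf_le_right : Gobj i hi (V k) ⊓ W0 i hi ≤ W0 i hi)) _ _
    · have hle : Gobj i hi (V k) ⊓ Gobj i hi (V l) ≤ Gobj i hi (V k ⊓ V l) := by
        intro x hx
        refine (mem_Gobj i hi).mpr (fun z hz => ?_)
        exact ⟨(mem_Gobj i hi).mp hx.1 z hz, (mem_Gobj i hi).mp hx.2 z hz⟩
      have h' := congrArg (P.map (homOfLE hle).op) (hsf k l)
      have e1 : P.map (Opens.infLELeft (Gobj i hi (V k)) (Gobj i hi (V l))).op (sf k) =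
          P.map (homOfLE hle).op
            (((Gf i hi).op ⋙ P).map (Opens.infLELeft (V k) (V l)).op (sf k)) :=
        congrArg (fun t => t (sf k))
          (P.map_comp ((Gf i hi).op.map (Opens.infLELeft (V k) (V l)).op) (homOfLE hle).op)
      have e2 : P.map (Opens.infLERight (Gobj i hi (V k)) (Gobj i hi (V l))).op (sf l) =
          P.map (homOfLE hle).op
            (((Gf i hi).op ⋙ P).map (Opens.infLERight (V k) (V l)).op (sf l)) :=
        congrArg (fun t => t (sf l))
          (P.map_comp ((Gf i hi).op.map (Opens.infLERight (V k) (V l)).op) (homOfLE hle).op)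
      exact e1.trans (h'.trans e2.symm)
  obtain ⟨s, hs, huniq⟩ := MS.existsUnique_gluing' U' big iUV hcover sf' hcomp
  refine ⟨s, fun k => hs (some k), fun t ht => huniq t (fun a => ?_)⟩
  rcases a with _ | k
  · exact @Subsingleton.elim _
      (subsingleton_of_le_W0 i hi RZ M' (le_refl (W0 i hi))) _ _
  · exact ht k

/-- the module on `Z` -/
noncomputable def M0 : SheafOfModules.{u} RZ where
  val := (PresheafOfModules.pushforward (rho i hi RZ)).obj M'.val
  isSheaf := isSheaf_comp_Gf i hi RZ M'

lemma bijective_res (W : Opens X) :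
    Function.Bijective (M'.val.presheaf.map (homOfLE (le_Gobj_map i hi W)).op) := by
  let MS : TopCat.Sheaf AddCommGrpCat.{u} X := ⟨M'.val.presheaf, M'.isSheaf⟩
  constructor
  · intro s t hst
    exact MS.eq_of_locally_eq₂ (homOfLE (le_Gobj_map i hi W))
      (homOfLE (W0_le_Gobj i hi _)) (Gobj_le_sup i hi W) s t hst
      (@Subsingleton.elim _ (subsingleton_of_le_W0 i hi RZ M' (le_refl (W0 i hi))) _ _)
  · intro x
    let U' : Bool → Opens X := fun b => bif b then W else W0 i hi
    let iUV : ∀ b, U' b ⟶ Gobj i hi ((Opens.map i).obj W) := fun b => match b with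
      | true => homOfLE (le_Gobj_map i hi W)
      | false => homOfLE (W0_le_Gobj i hi _)
    have hcover : Gobj i hi ((Opens.map i).obj W) ≤ iSup U' := by
      refine le_trans (Gobj_le_sup i hi W) ?_
      rw [sup_le_iff]
      exact ⟨le_iSup U' true, le_iSup U' false⟩
    let sf' : ∀ b, ToType (MS.1.obj (op (U' b))) := fun b => match b with
      | true => x
      | false => (0 : M'.val.obj (op (W0 i hi)))
    have hcomp : TopCat.Presheaf.IsCompatible MS.1 U' sf' := by
      rintro (_ | _) (_ | _)
      · rfl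
      · exact @Subsingleton.elim _
          (subsingleton_of_le_W0 i hi RZ M' (inf_le_left : W0 i hi ⊓ W ≤ W0 i hi)) _ _
      · exact @Subsingleton.elim _
          (subsingleton_of_le_W0 i hi RZ M' (inf_le_right : W ⊓ W0 i hi ≤ W0 i hi)) _ _
      · rfl
    obtain ⟨s, hs, -⟩ := MS.existsUnique_gluing' U' _ iUV hcover sf' hcomp
    exact ⟨s, hs true⟩

end Groth.Agent.Lib.Helper29.ClEmbSB
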