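import Mathlib
import Groth.Agent.Lib.Helper29.ClEmbSA
import Groth.Agent.Lib.Helper29.ClEmbSB

/-!
# Closed embeddings: the essential image of `i_*` on modules (helper29)
-/

set_option autoImplicit false
set_option maxHeartbeats 1600000

universe u

open CategoryTheory CategoryTheory.Limits Opposite TopologicalSpace Topology

namespace Groth.Agent.Lib.Helper29.ClEmbSC

open Groth.Agent.Lib.Helper29.ClEmbA Groth.Agent.Lib.Helper29.ClEmbK
  Groth.Agent.Lib.Helper29.ClEmbSB

variable {Z X : TopCat.{u}} (i : Z ⟶ X) (hi : IsClosedEmbedding i)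
  (RZ : Sheaf (Opens.grothendieckTopology Z) RingCat.{u})
  (M' : SheafOfModules.{u} (pushR i RZ))

include hi in
/-- `i_*` of the module on `Z` is the given module over `i_* O_Z` -/
theorem exists_iso : ∃ M : SheafOfModules.{u} RZ,
    Nonempty ((PresheafOfModules.pushforward₀ (Opens.map i) RZ.obj).obj M.val ≅ M'.val) := by
  let P := M'.val.presheaf
  let β₀ : ((PresheafOfModules.pushforward₀ (Opens.map i) RZ.obj).obj
      (M0 i hi RZ M').val).presheaf ⟶ M'.val.presheaf :=
    { app := fun W => P.map (homOfLE (le_Gobj_map i hi W.unop)).op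
      naturality := fun W W' f => by
        ext x
        have h1 := congrArg (fun t => t x)
          (P.map_comp ((Gf i hi).op.map ((Opens.map i).op.map f))
            (homOfLE (le_Gobj_map i hi W'.unop)).op)
        have h2 := congrArg (fun t => t x)
          (P.map_comp (homOfLE (le_Gobj_map i hi W.unop)).op f)
        exact h1.symm.trans h2 }
  let β : (PresheafOfModules.pushforward₀ (Opens.map i) RZ.obj).obj (M0 i hi RZ M').val ⟶
      M'.val :=
    PresheafOfModules.homMk β₀ (by
      intro W r m
      obtain ⟨W⟩ := W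
      let g : W ⟶ Gobj i hi ((Opens.map i).obj W) := homOfLE (le_Gobj_map i hi W)
      have h2 : (ConcreteCategory.hom ((pushR i RZ).obj.map g.op))
          (((rho i hi RZ).app (op ((Opens.map i).obj W))).hom r) = r := by
        have h := congrArg (fun t => t.hom r)
          ((RZ.obj.map_comp (eqToHom (map_Gobj i hi ((Opens.map i).obj W))).op
            ((Opens.map i).map g).op).symm.trans
            ((congrArg RZ.obj.map (Subsingleton.elim _ (𝟙 _))).trans (RZ.obj.map_id _)))
        exact h
      have h1 : ∀ (c : (pushR i RZ).obj.obj (op (Gobj i hi ((Opens.map i).obj W))))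
          (b : (pushR i RZ).obj.obj (op W)),
          b = (ConcreteCategory.hom ((pushR i RZ).obj.map g.op)) c →
          M'.val.map g.op (c •
            (show M'.val.obj (op (Gobj i hi ((Opens.map i).obj W))) from m)) =
          b • M'.val.map g.op
            (show M'.val.obj (op (Gobj i hi ((Opens.map i).obj W))) from m) := by
        intro c b hb
        subst hb
        exact M'.val.map_smul g.op _ _
      exact h1 (((rho i hi RZ).app (op ((Opens.map i).obj W))).hom r) r h2.symm)
  haveI : IsIso ((PresheafOfModules.toPresheaf _).map β) := by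
    have h : (PresheafOfModules.toPresheaf _).map β = β₀ := by
      ext W x
      rfl
    rw [h]
    exact @NatIso.isIso_of_isIso_app _ _ _ _ _ _ β₀ (fun W =>
      (ConcreteCategory.isIso_iff_bijective _).mpr (bijective_res i hi RZ M' W.unop))
  haveI : IsIso β := isIso_of_reflects_iso β (PresheafOfModules.toPresheaf _)
  exact ⟨M0 i hi RZ M', ⟨asIso β⟩⟩

variable {RZ}
variable {RX : Sheaf (Opens.grothendieckTopology X) RingCat.{u}}
  (φ : RX ⟶ ((Opens.map i).sheafPushforwardContinuous RingCat.{u}
      (Opens.grothendieckTopology X) (Opens.grothendieckTopology Z)).obj RZ)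

include hi in
theorem essImage_of_smul_eq_zero
    (hφ : Presheaf.IsLocallySurjective (Opens.grothendieckTopology X) φ.hom)
    (G : SheafOfModules.{u} RX)
    (hG : ∀ (U : (Opens X)ᵒᵖ) (a : RX.obj.obj U), (φ.hom.app U).hom a = 0 →
      ∀ s : G.val.obj U, a • s = 0) :
    (SheafOfModules.pushforward.{u} φ).essImage G := by
  haveI := hφ
  obtain ⟨M', ⟨eA⟩⟩ := ClEmbSA.exists_restrictScalars_iso φ G hG
  obtain ⟨M, ⟨eB⟩⟩ := exists_iso i hi RZ M'
  refine ⟨M, ⟨?_ ≪≫ eA⟩⟩
  exact (SheafOfModules.fullyFaithfulForget _).preimageIso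
    ((PresheafOfModules.restrictScalars φ.hom).mapIso eB)

end Groth.Agent.Lib.Helper29.ClEmbSC
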