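import Mathlib
import Groth.Prelude.Def_PBC
import Groth.Prelude.Def_ProEtW
import Groth.Prelude.Def_EtBase
import Groth.Agent.S1974
import Groth.Agent.S7127
import Groth.Agent.S0734
import Groth.Agent.Lib.Helper8.Hzl.IndEtaleCat
import Groth.Agent.Lib.Helper29.Aux0692
import Groth.Agent.Lib.Helper29.Main0692
import Groth.Agent.Lib.Helper29.Main0700
import Groth.Agent.Lib.Helper29.Loc0677

/-!
# S0176: weakly étale algebras are ind-étale after a faithfully flat ind-étale cover (helper29)
-/

set_option autoImplicit false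
set_option linter.style.haveILetI false
set_option linter.unusedSectionVars false
set_option maxHeartbeats 1600000

universe u

open Topology

namespace Groth.Agent.Lib.Helper29.Main0176

open Groth.Agent.Lib.Helper29.Loc0677

/-- Weakly étale maps induce algebraic (even separable) residue field extensions. -/
theorem algebraicResidueExtensions_of_weaklyEtale (A B : Type u) [CommRing A] [CommRing B]
    [Algebra A B] [Algebra.WeaklyEtale A B] : ProEtW.AlgebraicResidueExtensions A B := by
  intro q hq
  letI := Localization.AtPrime.algebraOfLiesOver (q.comap (algebraMap A B)) q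
  haveI hsep : Algebra.IsSeparable (q.comap (algebraMap A B)).ResidueField q.ResidueField :=
    Groth.Agent.S1974.result A B (q.comap (algebraMap A B)) q
  letI algK : Algebra (A ⧸ q.comap (algebraMap A B)) q.ResidueField :=
    ((algebraMap (q.comap (algebraMap A B)).ResidueField q.ResidueField).comp
      (algebraMap (A ⧸ q.comap (algebraMap A B))
        (q.comap (algebraMap A B)).ResidueField)).toAlgebra
  haveI tow : IsScalarTower (A ⧸ q.comap (algebraMap A B))
      (q.comap (algebraMap A B)).ResidueField q.ResidueField :=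
    IsScalarTower.of_algebraMap_eq' rfl
  have hhom : (algebraMap (B ⧸ q) q.ResidueField).comp
      (algebraMap (A ⧸ q.comap (algebraMap A B)) (B ⧸ q)) =
      algebraMap (A ⧸ q.comap (algebraMap A B)) q.ResidueField := by
    apply Ideal.Quotient.ringHom_ext
    ext a
    show algebraMap (B ⧸ q) q.ResidueField
        (algebraMap (A ⧸ q.comap (algebraMap A B)) (B ⧸ q) (Ideal.Quotient.mk _ a)) =
      algebraMap (q.comap (algebraMap A B)).ResidueField q.ResidueField
        (algebraMap (A ⧸ q.comap (algebraMap A B)) (q.comap (algebraMap A B)).ResidueField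
          (Ideal.Quotient.mk _ a))
    rw [Ideal.algebraMap_quotient_residueField_mk,
      ← IsScalarTower.algebraMap_apply A (q.comap (algebraMap A B)).ResidueField q.ResidueField,
      IsScalarTower.algebraMap_apply A B q.ResidueField]
    rfl
  refine ⟨fun x => ?_⟩
  obtain ⟨b, rfl⟩ := Ideal.Quotient.mk_surjective x
  have h1 : IsAlgebraic (q.comap (algebraMap A B)).ResidueField
      (algebraMap B q.ResidueField b) :=
    (Algebra.IsSeparable.isIntegral _ _).isAlgebraic
  have h2 : IsAlgebraic (A ⧸ q.comap (algebraMap A B)) (algebraMap B q.ResidueField b) :=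
    (IsFractionRing.isAlgebraic_iff (A ⧸ q.comap (algebraMap A B))
      (q.comap (algebraMap A B)).ResidueField q.ResidueField).mpr h1
  obtain ⟨P, hP0, hP⟩ := h2
  refine ⟨P, hP0, ?_⟩
  apply Ideal.injective_algebraMap_quotient_residueField (I := q)
  rw [map_zero, ← hP, Polynomial.aeval_def, Polynomial.aeval_def, Polynomial.hom_eval₂, hhom]
  rfl

theorem main0176 (A B : Type u) [CommRing A] [CommRing B] [Algebra A B]
    [Algebra.WeaklyEtale A B] :
    ∃ (B' : Type u) (_ : CommRing B') (_ : Algebra B B') (_ : Algebra A B')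
      (_ : IsScalarTower A B B'),
      Module.FaithfullyFlat B B' ∧ EtPBC.IsIndEtale B B' ∧ EtPBC.IsIndEtale A B' := by
  obtain ⟨C, D, iC, iD, aAC, aBD, aCD, aAD, tACD, tABD, hffC, hieC, hffD, hieD, hwlC, hwlD,
    hmap, hcp, -, -, hshC⟩ :=
    Groth.Agent.Lib.Helper29.Main0692.main0692 A B
      (algebraicResidueExtensions_of_weaklyEtale A B)
  haveI weAC : Algebra.WeaklyEtale A C :=
    Groth.Agent.Lib.Helper8.Hzl.weaklyEtale_of_isIndEtale A C hieC
  haveI weBD : Algebra.WeaklyEtale B D :=
    Groth.Agent.Lib.Helper8.Hzl.weaklyEtale_of_isIndEtale B D hieD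
  haveI weAD : Algebra.WeaklyEtale A D := Algebra.WeaklyEtale.trans A B D
  haveI weCD : Algebra.WeaklyEtale C D := Groth.Agent.S7127.result A C D
  have hid : EtPBC.IdentifiesLocalRings C D := by
    intro y
    haveI := y.isPrime
    obtain ⟨y₀, ⟨hy₀c, hy₀s⟩, -⟩ := hwlD.2.2 y
    haveI := y₀.isPrime
    have hle' : y ≤ y₀ := (PrimeSpectrum.le_iff_specializes y y₀).mpr hy₀s
    have hle : y.asIdeal ≤ y₀.asIdeal := hle'
    have hcl : IsClosed ({PrimeSpectrum.comap (algebraMap C D) y₀} : Set (PrimeSpectrum C)) :=
      hmap.2 y₀ hy₀c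
    haveI hmax : (y₀.asIdeal.comap (algebraMap C D)).IsMaximal :=
      (PrimeSpectrum.isClosed_singleton_iff_isMaximal _).mp hcl
    exact bijective_localRingHom_of_le y₀.asIdeal y.asIdeal hle
      (bijective_localRingHom_of_strictlyHenselian y₀.asIdeal (hshC _))
  have hizCD : EtPBC.IsIndZariski C D :=
    Groth.Agent.Lib.Helper29.Main0700.main0700 C D hid hwlC hwlD hmap
  have hieAD : EtPBC.IsIndEtale A D :=
    Groth.Agent.S0734.result A C D hieC
      (Groth.Agent.Lib.Helper29.Aux0692.isIndEtale_of_isIndZariski C D hizCD)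
  exact ⟨D, iD, aBD, aAD, tABD, hffD, hieD, hieAD⟩

end Groth.Agent.Lib.Helper29.Main0176
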