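import Mathlib
import Groth.Prelude.Def_PBC
import Groth.Agent.Lib.Helper1.WeaklyEtaleLib
import Groth.Agent.Lib.Helper8.Hzl.IndEtaleCat
import Groth.Agent.Lib.Helper29.WContrLoc
import Groth.Agent.Lib.Helper29.Main0176
import Groth.Agent.S7127
import Groth.Agent.S0755

/-!
# Ring-level cores for the closed immersion counit theorem (helper29)
-/

set_option autoImplicit false
set_option linter.style.haveILetI false
set_option linter.unusedSectionVars false
set_option maxHeartbeats 1600000

universe u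

open TensorProduct

namespace Groth.Agent.Lib.Helper29.ClosedRing

lemma comap_comap_eq {R S : Type*} [CommSemiring R] [CommSemiring S] (f : R →+* S) (g : S →+* R)
    (h : g.comp f = RingHom.id R) (p : PrimeSpectrum R) :
    PrimeSpectrum.comap f (PrimeSpectrum.comap g p) = p := by
  apply PrimeSpectrum.ext
  show Ideal.comap f (Ideal.comap g p.asIdeal) = p.asIdeal
  rw [Ideal.comap_comap, h, Ideal.comap_id]

lemma comap_comp' {R S T : Type*} [CommSemiring R] [CommSemiring S] [CommSemiring T]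
    (f : R →+* S) (g : S →+* T) (p : PrimeSpectrum T) :
    PrimeSpectrum.comap (g.comp f) p = PrimeSpectrum.comap f (PrimeSpectrum.comap g p) :=
  PrimeSpectrum.ext (Ideal.comap_comap f g).symm

/-- Ring-level core of local fullness. -/
theorem ringCore2 (A B C R : Type u) [CommRing A] [CommRing B] [CommRing C] [CommRing R]
    [Algebra A B] [Algebra A C] [Algebra A R] [Algebra B R] [IsScalarTower A B R]
    [Algebra.WeaklyEtale A C] (hρ : Function.Surjective (algebraMap B R)) (β : C →ₐ[A] R) :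
    ∃ (D : Type u) (_ : CommRing D) (_ : Algebra B D) (gC : C →+* D) (θ : D →+* R),
      (algebraMap B D).comp (algebraMap A B) = gC.comp (algebraMap A C) ∧
      θ.comp (algebraMap B D) = algebraMap B R ∧
      Algebra.WeaklyEtale B D ∧
      ∀ (Γ : Type u) [CommRing Γ] (α : D →+* Γ) (γ : R →+* Γ),
        α.comp (algebraMap B D) = γ.comp (algebraMap B R) → α.comp gC = γ.comp β.toRingHom := by
  classical
  let E := B ⊗[A] C
  let σ : E →ₐ[B] R :=
    Algebra.TensorProduct.lift (Algebra.ofId B R) β (fun _ _ => Commute.all _ _)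
  have hσ : ∀ (b : B) (c : C), σ (b ⊗ₜ c) = algebraMap B R b * β c := fun b c => by
    show (Algebra.TensorProduct.lift (Algebra.ofId B R) β (fun _ _ => Commute.all _ _))
      (b ⊗ₜ c) = _
    rw [Algebra.TensorProduct.lift_tmul]
    rfl
  have hBE : ∀ b : B, algebraMap B E b = b ⊗ₜ[A] (1 : C) := fun b => rfl
  let M : Submonoid E :=
    { carrier := {e | σ e = 1}
      one_mem' := map_one σ
      mul_mem' := by
        intro a b ha hb
        simp only [Set.mem_setOf_eq] at ha hb ⊢
        rw [map_mul, ha, hb, one_mul] }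
  let D := Localization M
  let gB : B →+* D := (algebraMap E D).comp (algebraMap B E)
  let gC : C →+* D :=
    (algebraMap E D).comp (Algebra.TensorProduct.includeRight : C →ₐ[A] E).toRingHom
  have hunits : ∀ y : M, IsUnit (σ.toRingHom y) := fun y => by
    have h1 : σ y = 1 := y.2
    show IsUnit (σ y)
    rw [h1]
    exact isUnit_one
  let θ : D →+* R := IsLocalization.lift (M := M) (g := σ.toRingHom) hunits
  have hθ : ∀ e : E, θ (algebraMap E D e) = σ e := fun e => IsLocalization.lift_eq hunits e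
  have hBD : ∀ b : B, algebraMap B D b = algebraMap E D (algebraMap B E b) := fun b =>
    IsScalarTower.algebraMap_apply B E D b
  refine ⟨D, inferInstance, inferInstance, gC, θ, ?_, ?_, ?_, ?_⟩
  · ext a
    show algebraMap B D (algebraMap A B a) =
      algebraMap E D ((1 : B) ⊗ₜ[A] algebraMap A C a)
    rw [hBD]
    congr 1
    rw [hBE, Algebra.algebraMap_eq_smul_one, TensorProduct.smul_tmul,
      ← Algebra.algebraMap_eq_smul_one]
  · ext b
    show θ (algebraMap B D b) = algebraMap B R b
    rw [hBD, hθ]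
    exact σ.commutes b
  · haveI : IsScalarTower B E D := inferInstance
    haveI : Algebra.WeaklyEtale B E := inferInstance
    haveI : Algebra.WeaklyEtale E D :=
      Groth.Agent.Lib.Helper29.WContrLoc.weaklyEtale_of_isLocalization M
    exact Algebra.WeaklyEtale.trans B E D
  · intro Γ _ α γ h
    let E' := R ⊗[A] C
    let π : E →ₐ[A] E' :=
      Algebra.TensorProduct.map (IsScalarTower.toAlgHom A B R) (AlgHom.id A C)
    have hπ : ∀ (b : B) (c : C), π (b ⊗ₜ c) = algebraMap B R b ⊗ₜ[A] c := fun b c => rfl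
    have hπsurj : Function.Surjective π :=
      Algebra.TensorProduct.map_surjective _ _ hρ Function.surjective_id
    let σ' : E' →ₐ[R] R :=
      Algebra.TensorProduct.lift (AlgHom.id R R) β (fun _ _ => Commute.all _ _)
    have hσ' : ∀ (r : R) (c : C), σ' (r ⊗ₜ c) = r * β c := fun r c => by
      show (Algebra.TensorProduct.lift (AlgHom.id R R) β (fun _ _ => Commute.all _ _))
        (r ⊗ₜ c) = _
      rw [Algebra.TensorProduct.lift_tmul]
      rfl
    have hσπ : ∀ e : E, σ' (π e) = σ e := by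
      intro e
      induction e using TensorProduct.induction_on with
      | zero => simp
      | tmul b c => rw [hπ, hσ', hσ]
      | add x y hx hy => rw [map_add, map_add, map_add, hx, hy]
    letI algE'R : Algebra E' R := σ'.toRingHom.toAlgebra
    haveI tow : IsScalarTower R E' R := IsScalarTower.of_algebraMap_eq (fun r => by
      show r = σ' (algebraMap R E' r)
      rw [σ'.commutes]
      rfl)
    haveI : Algebra.WeaklyEtale R E' := inferInstance
    haveI : Algebra.WeaklyEtale R R := inferInstance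
    haveI weE'R : Algebra.WeaklyEtale E' R := Groth.Agent.S7127.result R E' R
    have hflat : σ'.toRingHom.Flat := (inferInstance : Module.Flat E' R)
    have hσ'surj : Function.Surjective σ'.toRingHom := fun r => ⟨r ⊗ₜ 1, by
      show σ' (r ⊗ₜ 1) = r
      rw [hσ', map_one, mul_one]⟩
    haveI hpure : (RingHom.ker σ'.toRingHom).Pure :=
      Groth.Agent.Lib.Helper1.WeaklyEtale.pure_ker_of_flat_of_surjective _ hσ'surj hflat
    ext c
    obtain ⟨b', hb'⟩ := hρ (β c)
    let x : E := (1 : B) ⊗ₜ[A] c - b' ⊗ₜ[A] (1 : C)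
    have hσx : σ x = 0 := by
      show σ ((1 : B) ⊗ₜ[A] c - b' ⊗ₜ[A] (1 : C)) = 0
      rw [map_sub, hσ, hσ, map_one, map_one, one_mul, mul_one, hb', sub_self]
    have hy : π x ∈ RingHom.ker σ'.toRingHom := by
      rw [RingHom.mem_ker]
      show σ' (π x) = 0
      rw [hσπ, hσx]
    obtain ⟨e', he', hxe⟩ := Ideal.exists_eq_mul_of_pure hy
    obtain ⟨e, rfl⟩ := hπsurj e'
    have hσe : σ e = 0 := by
      rw [← hσπ]
      exact he'
    have hmem : (1 - e) ∈ M := by
      show σ (1 - e) = 1
      rw [map_sub, map_one, hσe, sub_zero]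
    have hker : x * (1 - e) ∈ RingHom.ker π.toRingHom := by
      rw [RingHom.mem_ker]
      show π (x * (1 - e)) = 0
      have h1 : π (x * (1 - e)) = π x * (1 - π e) := by
        rw [map_mul, map_sub π 1 e, map_one]
      rw [h1, mul_sub, mul_one, ← hxe, sub_self]
    have hkerπ : RingHom.ker π.toRingHom =
        (RingHom.ker (IsScalarTower.toAlgHom A B R)).map
          (Algebra.TensorProduct.includeLeft : B →ₐ[A] E) :=
      Algebra.TensorProduct.rTensor_ker (IsScalarTower.toAlgHom A B R) hρ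
    let αE : E →+* Γ := α.comp (algebraMap E D)
    have hkill : RingHom.ker π.toRingHom ≤ RingHom.ker αE := by
      rw [hkerπ, Ideal.map_le_iff_le_comap]
      intro b hb
      rw [Ideal.mem_comap, RingHom.mem_ker]
      have h1 : αE ((Algebra.TensorProduct.includeLeft : B →ₐ[A] E) b) =
          (α.comp (algebraMap B D)) b := by
        show α (algebraMap E D (b ⊗ₜ[A] (1 : C))) = α (algebraMap B D b)
        rw [hBD, hBE]
      rw [h1, h, RingHom.comp_apply]
      have h2 : algebraMap B R b = 0 := hb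
      rw [h2, map_zero]
    have h0 : αE (x * (1 - e)) = 0 := hkill hker
    have hunit : IsUnit (αE (1 - e)) :=
      (IsLocalization.map_units D (⟨1 - e, hmem⟩ : M)).map α
    have hx0 : αE x = 0 := by
      rw [map_mul] at h0
      exact (hunit.mul_left_eq_zero).mp h0
    have hx1 : αE x = α (gC c) - α (algebraMap B D b') := by
      show αE ((1 : B) ⊗ₜ[A] c - b' ⊗ₜ[A] (1 : C)) = _
      rw [map_sub, hBD, hBE]
      rfl
    have h3 : α (gC c) = α (algebraMap B D b') := sub_eq_zero.mp (hx1 ▸ hx0)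
    show α (gC c) = γ (β c)
    rw [h3, ← hb']
    exact RingHom.congr_fun h b'

/-- Ring-level core of cover density. -/
theorem ringCore1 (A Ab B : Type u) [CommRing A] [CommRing Ab] [CommRing B]
    (φ : A →+* Ab) (hφ : Function.Surjective φ) [Algebra Ab B] [Algebra.WeaklyEtale Ab B] :
    ∃ (C : Type u) (_ : CommRing C) (_ : Algebra A C), Algebra.WeaklyEtale A C ∧
      ∀ (Γ : Type u) [CommRing Γ] (f₁ : C →+* Γ) (f₂ : Ab →+* Γ),
        f₁.comp (algebraMap A C) = f₂.comp φ →
        (∀ (Q : Type u) [CommRing Q] (g₁ : C →+* Q) (g₂ : Ab →+* Q),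
            g₁.comp (algebraMap A C) = g₂.comp φ → ∃ τ : Γ →+* Q, τ.comp f₁ = g₁) →
        ∃ μ : B →+* Γ, μ.comp (algebraMap Ab B) = f₂ ∧
          Function.Surjective (PrimeSpectrum.comap μ) := by
  classical
  let I : Ideal A := RingHom.ker φ
  let e : (A ⧸ I) ≃+* Ab := RingHom.quotientKerEquivOfSurjective hφ
  have he : ∀ a, e (Ideal.Quotient.mk I a) = φ a := fun a => rfl
  letI algQAb : Algebra (A ⧸ I) Ab := e.toRingHom.toAlgebra
  letI algQB : Algebra (A ⧸ I) B := ((algebraMap Ab B).comp e.toRingHom).toAlgebra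
  haveI tow : IsScalarTower (A ⧸ I) Ab B := IsScalarTower.of_algebraMap_eq (fun _ => rfl)
  haveI weQAb : Algebra.WeaklyEtale (A ⧸ I) Ab := by
    haveI hloc : IsLocalization (⊥ : Submonoid (A ⧸ I)) Ab :=
      IsLocalization.of_le_isUnit_of_bijective (by
        rintro _ ⟨s, hs, rfl⟩
        have hs1 : s = 1 := Submonoid.mem_bot.mp hs
        rw [hs1, map_one]
        exact isUnit_one) e.bijective
    exact Groth.Agent.Lib.Helper29.WContrLoc.weaklyEtale_of_isLocalization
      (⊥ : Submonoid (A ⧸ I))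
  haveI weQB : Algebra.WeaklyEtale (A ⧸ I) B := Algebra.WeaklyEtale.trans (A ⧸ I) Ab B
  obtain ⟨B', iB', aBB', aQB', towB', hff, -, hie⟩ :=
    Groth.Agent.Lib.Helper29.Main0176.main0176 (A ⧸ I) B
  obtain ⟨C, iC, aAC, hieC, ⟨ε⟩⟩ := Groth.Agent.S0755.result A I B' hie
  haveI : Algebra.WeaklyEtale A C :=
    Groth.Agent.Lib.Helper8.Hzl.weaklyEtale_of_isIndEtale A C hieC
  refine ⟨C, iC, aAC, inferInstance, ?_⟩
  intro Γ _ f₁ f₂ hcomm hτ
  let IC : Ideal C := I.map (algebraMap A C)
  have hle : IC ≤ RingHom.ker f₁ := by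
    rw [Ideal.map_le_iff_le_comap]
    intro a ha
    rw [Ideal.mem_comap, RingHom.mem_ker]
    have h1 : f₁ (algebraMap A C a) = f₂ (φ a) := RingHom.congr_fun hcomm a
    rw [h1, (RingHom.mem_ker).mp ha, map_zero]
  have hkill : ∀ c ∈ IC, f₁ c = 0 := fun c hc => hle hc
  let κ : (C ⧸ IC) →+* Γ := Ideal.Quotient.lift IC f₁ hkill
  have hκ : ∀ c, κ (Ideal.Quotient.mk IC c) = f₁ c := fun c =>
    Ideal.Quotient.lift_mk IC f₁ hkill
  let g₂ : Ab →+* (C ⧸ IC) := (algebraMap (A ⧸ I) (C ⧸ IC)).comp e.symm.toRingHom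
  have hg : (Ideal.Quotient.mk IC).comp (algebraMap A C) = g₂.comp φ := by
    ext a
    show Ideal.Quotient.mk IC (algebraMap A C a) =
      algebraMap (A ⧸ I) (C ⧸ IC) (e.symm (φ a))
    have h1 : e.symm (φ a) = Ideal.Quotient.mk I a := by
      rw [← he a, RingEquiv.symm_apply_apply]
    rw [h1]
    rfl
  obtain ⟨τ, hτ1⟩ := hτ (C ⧸ IC) (Ideal.Quotient.mk IC) g₂ hg
  have hτκ : τ.comp κ = RingHom.id _ := by
    apply Ideal.Quotient.ringHom_ext
    ext c
    show τ (κ (Ideal.Quotient.mk IC c)) = Ideal.Quotient.mk IC c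
    rw [hκ]
    exact RingHom.congr_fun hτ1 c
  let εs : B' →+* (C ⧸ IC) := (ε.symm : B' →ₐ[A ⧸ I] (C ⧸ IC)).toRingHom
  let εh : (C ⧸ IC) →+* B' := (ε : (C ⧸ IC) →ₐ[A ⧸ I] B').toRingHom
  have hεε : εh.comp εs = RingHom.id _ := by
    ext x
    exact ε.apply_symm_apply x
  let μ : B →+* Γ := κ.comp (εs.comp (algebraMap B B'))
  refine ⟨μ, ?_, ?_⟩
  · ext ab
    obtain ⟨a, rfl⟩ := hφ ab
    show κ (ε.symm (algebraMap B B' (algebraMap Ab B (φ a)))) = f₂ (φ a)
    have h1 : algebraMap Ab B (φ a) = algebraMap (A ⧸ I) B (Ideal.Quotient.mk I a) := by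
      show _ = algebraMap Ab B (e (Ideal.Quotient.mk I a))
      rw [he]
    rw [h1, ← IsScalarTower.algebraMap_apply (A ⧸ I) B B', ε.symm.commutes,
      Ideal.Quotient.algebraMap_quotient_map_quotient, hκ]
    exact RingHom.congr_fun hcomm a
  · intro p
    haveI := hff
    obtain ⟨p1, hp1⟩ := PrimeSpectrum.comap_surjective_of_faithfullyFlat (A := B) (B := B') p
    let p2 : PrimeSpectrum (C ⧸ IC) := PrimeSpectrum.comap εh p1
    let p3 : PrimeSpectrum Γ := PrimeSpectrum.comap τ p2
    refine ⟨p3, ?_⟩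
    have h1 : PrimeSpectrum.comap κ p3 = p2 := comap_comap_eq κ τ hτκ p2
    have h2 : PrimeSpectrum.comap εs p2 = p1 := comap_comap_eq εs εh hεε p1
    show PrimeSpectrum.comap (κ.comp (εs.comp (algebraMap B B'))) p3 = p
    rw [comap_comp', comap_comp', h1, h2]
    exact hp1

end Groth.Agent.Lib.Helper29.ClosedRing
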