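import Mathlib
import Groth.Prelude.Def_ProEtS
import Groth.Agent.Lib.Helper1.WeaklyEtaleLib
import Groth.Agent.Lib.Helper29.ProEtClopen
import Groth.Agent.Lib.Helper29.ClosedRing

/-!
# Affine-scheme-level cores for the closed immersion counit theorem (helper29)
-/

set_option autoImplicit false
set_option linter.style.haveILetI false
set_option linter.unusedSectionVars false
set_option maxHeartbeats 1600000

universe u

open CategoryTheory CategoryTheory.Limits AlgebraicGeometry Opposite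

namespace Groth.Agent.Lib.Helper29.ClosedCore

open Groth.Agent.Lib.Helper29.ProEtClopen

lemma isoSpec_inv_appTop' (X : Scheme.{u}) [IsAffine X] :
    X.isoSpec.inv.appTop = (Scheme.ΓSpecIso Γ(X, ⊤)).inv := by
  have h2 : X.isoSpec.hom.appTop = (Scheme.ΓSpecIso Γ(X, ⊤)).hom := Scheme.toSpecΓ_appTop X
  have h3 : X.isoSpec.hom.appTop ≫ X.isoSpec.inv.appTop = 𝟙 _ := by
    rw [← Scheme.Hom.comp_appTop, Iso.inv_hom_id]
    rfl
  rw [h2] at h3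
  rw [← cancel_epi (Scheme.ΓSpecIso Γ(X, ⊤)).hom, h3, Iso.hom_inv_id]

lemma appTop_SpecMap_isoSpec_inv {X : Scheme.{u}} [IsAffine X] {D : CommRingCat.{u}}
    (ψ : Γ(X, ⊤) ⟶ D) :
    (Spec.map ψ ≫ X.isoSpec.inv).appTop = ψ ≫ (Scheme.ΓSpecIso D).inv := by
  rw [Scheme.Hom.comp_appTop, isoSpec_inv_appTop', Scheme.ΓSpecIso_inv_naturality]

lemma weaklyEtale_SpecMap_appTop {X Y : Scheme.{u}} [IsAffine X] [IsAffine Y] (f : X ⟶ Y)
    [WeaklyEtale f] : WeaklyEtale (Spec.map f.appTop) := by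
  have hnat : X.isoSpec.hom ≫ Spec.map f.appTop = f ≫ Y.isoSpec.hom :=
    Scheme.isoSpec_hom_naturality f
  have h : Spec.map f.appTop = X.isoSpec.inv ≫ f ≫ Y.isoSpec.hom := by
    rw [← hnat, Iso.inv_hom_id_assoc]
  rw [h]
  infer_instance

set_option backward.isDefEq.respectTransparency.types false in
/-- Affine core of local fullness. -/
theorem coreL2 {S P Q T₁ : Scheme.{u}} [IsAffine S] [IsAffine P] [IsAffine Q] [IsAffine T₁]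
    (p : P ⟶ S) (q : Q ⟶ S) [WeaklyEtale q] (f₁ : T₁ ⟶ P) [IsClosedImmersion f₁]
    (b₁ : T₁ ⟶ Q) (hb : b₁ ≫ q = f₁ ≫ p) :
    ∃ (Y : Scheme.{u}) (g : Y ⟶ P) (l : Y ⟶ Q) (s : T₁ ⟶ Y),
      WeaklyEtale g ∧ g ≫ p = l ≫ q ∧ s ≫ g = f₁ ∧
      ∀ (T'' : Scheme.{u}) (a : T'' ⟶ Y) (c : T'' ⟶ T₁), a ≫ g = c ≫ f₁ → a ≫ l = c ≫ b₁ := by
  letI algAB : Algebra ↥Γ(S, ⊤) ↥Γ(P, ⊤) := p.appTop.hom.toAlgebra
  letI algAC : Algebra ↥Γ(S, ⊤) ↥Γ(Q, ⊤) := q.appTop.hom.toAlgebra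
  letI algBR : Algebra ↥Γ(P, ⊤) ↥Γ(T₁, ⊤) := f₁.appTop.hom.toAlgebra
  letI algAR : Algebra ↥Γ(S, ⊤) ↥Γ(T₁, ⊤) := (f₁.appTop.hom.comp p.appTop.hom).toAlgebra
  haveI tow : IsScalarTower ↥Γ(S, ⊤) ↥Γ(P, ⊤) ↥Γ(T₁, ⊤) :=
    IsScalarTower.of_algebraMap_eq (fun _ => rfl)
  haveI : WeaklyEtale (Spec.map q.appTop) := weaklyEtale_SpecMap_appTop q
  haveI weAC : Algebra.WeaklyEtale ↥Γ(S, ⊤) ↥Γ(Q, ⊤) :=
    Groth.Agent.Lib.Helper1.WeaklyEtale.algebra_weaklyEtale_of_SpecMap q.appTop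
  have hρ : Function.Surjective (algebraMap ↥Γ(P, ⊤) ↥Γ(T₁, ⊤)) :=
    (IsClosedImmersion.isAffine_surjective_of_isAffine f₁).2
  have hbT : q.appTop ≫ b₁.appTop = p.appTop ≫ f₁.appTop := by
    rw [← Scheme.Hom.comp_appTop, ← Scheme.Hom.comp_appTop, hb]
  let β : ↥Γ(Q, ⊤) →ₐ[↥Γ(S, ⊤)] ↥Γ(T₁, ⊤) :=
    { b₁.appTop.hom with
      commutes' := fun a => ConcreteCategory.congr_hom hbT a }
  obtain ⟨D, iD, aBD, gC, θ, h1, h2, hwe, huniv⟩ :=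
    Groth.Agent.Lib.Helper29.ClosedRing.ringCore2 ↥Γ(S, ⊤) ↥Γ(P, ⊤) ↥Γ(Q, ⊤) ↥Γ(T₁, ⊤) hρ β
  let ψB : Γ(P, ⊤) ⟶ CommRingCat.of D := CommRingCat.ofHom (algebraMap ↥Γ(P, ⊤) D)
  let ψC : Γ(Q, ⊤) ⟶ CommRingCat.of D := CommRingCat.ofHom gC
  let θ' : CommRingCat.of D ⟶ Γ(T₁, ⊤) := CommRingCat.ofHom θ
  let g : Spec (CommRingCat.of D) ⟶ P := Spec.map ψB ≫ P.isoSpec.inv
  let l : Spec (CommRingCat.of D) ⟶ Q := Spec.map ψC ≫ Q.isoSpec.inv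
  let s : T₁ ⟶ Spec (CommRingCat.of D) := T₁.isoSpec.hom ≫ Spec.map θ'
  have e1 : p.appTop ≫ ψB = q.appTop ≫ ψC := CommRingCat.hom_ext h1
  have e2 : ψB ≫ θ' = f₁.appTop := CommRingCat.hom_ext h2
  haveI hweSpec : WeaklyEtale (Spec.map ψB) := weaklyEtale_SpecMap ↥Γ(P, ⊤) D
  refine ⟨Spec (CommRingCat.of D), g, l, s, ?_, ?_, ?_, ?_⟩
  · show WeaklyEtale (Spec.map ψB ≫ P.isoSpec.inv)
    infer_instance
  · calc g ≫ p = Spec.map ψB ≫ (P.isoSpec.inv ≫ p) := Category.assoc _ _ _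
      _ = Spec.map ψB ≫ (Spec.map p.appTop ≫ S.isoSpec.inv) := by
          rw [Scheme.isoSpec_inv_naturality]
      _ = Spec.map (p.appTop ≫ ψB) ≫ S.isoSpec.inv := by rw [Spec.map_comp, Category.assoc]
      _ = Spec.map (q.appTop ≫ ψC) ≫ S.isoSpec.inv := by rw [e1]
      _ = Spec.map ψC ≫ (Spec.map q.appTop ≫ S.isoSpec.inv) := by
          rw [Spec.map_comp, Category.assoc]
      _ = Spec.map ψC ≫ (Q.isoSpec.inv ≫ q) := by rw [Scheme.isoSpec_inv_naturality]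
      _ = l ≫ q := (Category.assoc _ _ _).symm
  · calc s ≫ g = T₁.isoSpec.hom ≫ (Spec.map θ' ≫ Spec.map ψB) ≫ P.isoSpec.inv := by
          simp only [s, g, Category.assoc]
      _ = T₁.isoSpec.hom ≫ Spec.map f₁.appTop ≫ P.isoSpec.inv := by
          rw [← Spec.map_comp, e2]
      _ = (f₁ ≫ P.isoSpec.hom) ≫ P.isoSpec.inv := by
          rw [← Scheme.isoSpec_hom_naturality, Category.assoc]
      _ = f₁ := by rw [Category.assoc, Iso.hom_inv_id, Category.comp_id]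
  · intro T'' a c hac
    apply ext_of_isAffine
    have hg : g.appTop = ψB ≫ (Scheme.ΓSpecIso (CommRingCat.of D)).inv :=
      appTop_SpecMap_isoSpec_inv ψB
    have hl : l.appTop = ψC ≫ (Scheme.ΓSpecIso (CommRingCat.of D)).inv :=
      appTop_SpecMap_isoSpec_inv ψC
    have hac' : g.appTop ≫ a.appTop = f₁.appTop ≫ c.appTop := by
      rw [← Scheme.Hom.comp_appTop, ← Scheme.Hom.comp_appTop, hac]
    rw [hg, Category.assoc] at hac'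
    let α' : CommRingCat.of D ⟶ Γ(T'', ⊤) :=
      (Scheme.ΓSpecIso (CommRingCat.of D)).inv ≫ a.appTop
    have hu := huniv ↥Γ(T'', ⊤) α'.hom c.appTop.hom (congrArg CommRingCat.Hom.hom hac')
    have hu' : ψC ≫ α' = b₁.appTop ≫ c.appTop := CommRingCat.hom_ext hu
    have h3 : (a ≫ l).appTop = l.appTop ≫ a.appTop := Scheme.Hom.comp_appTop a l
    have h4 : (c ≫ b₁).appTop = b₁.appTop ≫ c.appTop := Scheme.Hom.comp_appTop c b₁
    rw [h3, h4, hl, Category.assoc]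
    exact hu'

set_option backward.isDefEq.respectTransparency.types false in
/-- Affine core of cover density. -/
theorem coreL1 {S Z₀ W₀ : Scheme.{u}} [IsAffine S] [IsAffine Z₀] [IsAffine W₀] (i₀ : Z₀ ⟶ S)
    [IsClosedImmersion i₀] (w : W₀ ⟶ Z₀) [WeaklyEtale w] :
    ∃ (Y : Scheme.{u}) (v : Y ⟶ S), IsAffine Y ∧ WeaklyEtale v ∧
      ∀ (P : Scheme.{u}) (fst : P ⟶ Y) (snd : P ⟶ Z₀), IsPullback fst snd v i₀ →
        ∃ m : P ⟶ W₀, m ≫ w = snd ∧ Function.Surjective m := by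
  letI algAbB : Algebra ↥Γ(Z₀, ⊤) ↥Γ(W₀, ⊤) := w.appTop.hom.toAlgebra
  haveI : WeaklyEtale (Spec.map w.appTop) := weaklyEtale_SpecMap_appTop w
  haveI weAbB : Algebra.WeaklyEtale ↥Γ(Z₀, ⊤) ↥Γ(W₀, ⊤) :=
    Groth.Agent.Lib.Helper1.WeaklyEtale.algebra_weaklyEtale_of_SpecMap w.appTop
  have hφ : Function.Surjective i₀.appTop.hom :=
    (IsClosedImmersion.isAffine_surjective_of_isAffine i₀).2
  obtain ⟨C, iC, aAC, hwe, huniv⟩ :=
    Groth.Agent.Lib.Helper29.ClosedRing.ringCore1 ↥Γ(S, ⊤) ↥Γ(Z₀, ⊤) ↥Γ(W₀, ⊤)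
      i₀.appTop.hom hφ
  let ψ : Γ(S, ⊤) ⟶ CommRingCat.of C := CommRingCat.ofHom (algebraMap ↥Γ(S, ⊤) C)
  let v : Spec (CommRingCat.of C) ⟶ S := Spec.map ψ ≫ S.isoSpec.inv
  haveI hweSpec : WeaklyEtale (Spec.map ψ) := weaklyEtale_SpecMap ↥Γ(S, ⊤) C
  have hv : v.appTop = ψ ≫ (Scheme.ΓSpecIso (CommRingCat.of C)).inv :=
    appTop_SpecMap_isoSpec_inv ψ
  refine ⟨Spec (CommRingCat.of C), v, inferInstance, ?_, ?_⟩
  · show WeaklyEtale (Spec.map ψ ≫ S.isoSpec.inv)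
    infer_instance
  intro P fst snd hpb
  haveI : IsAffine P := IsAffine.of_isPullback hpb
  have hpo : IsPushout v.appTop i₀.appTop fst.appTop snd.appTop :=
    isPushout_appTop_of_isPullback hpb
  let F₁ : CommRingCat.of C ⟶ Γ(P, ⊤) :=
    (Scheme.ΓSpecIso (CommRingCat.of C)).inv ≫ fst.appTop
  have hw : ψ ≫ F₁ = i₀.appTop ≫ snd.appTop := by
    have h1 := hpo.w
    rw [hv, Category.assoc] at h1
    exact h1
  have hcomm : F₁.hom.comp (algebraMap ↥Γ(S, ⊤) C) = snd.appTop.hom.comp i₀.appTop.hom :=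
    congrArg CommRingCat.Hom.hom hw
  have hτ : ∀ (Q : Type u) [CommRing Q] (g₁ : C →+* Q) (g₂ : ↥Γ(Z₀, ⊤) →+* Q),
      g₁.comp (algebraMap ↥Γ(S, ⊤) C) = g₂.comp i₀.appTop.hom →
        ∃ τ : ↥Γ(P, ⊤) →+* Q, τ.comp F₁.hom = g₁ := by
    intro Q _ g₁ g₂ hg
    let G₁ : Γ(Spec (CommRingCat.of C), ⊤) ⟶ CommRingCat.of Q :=
      (Scheme.ΓSpecIso (CommRingCat.of C)).hom ≫ CommRingCat.ofHom g₁
    let G₂ : Γ(Z₀, ⊤) ⟶ CommRingCat.of Q := CommRingCat.ofHom g₂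
    have hcond : v.appTop ≫ G₁ = i₀.appTop ≫ G₂ := by
      rw [hv]
      simp only [G₁, G₂, Category.assoc, Iso.inv_hom_id_assoc]
      exact CommRingCat.hom_ext hg
    refine ⟨(hpo.desc G₁ G₂ hcond).hom, ?_⟩
    have h1 : F₁ ≫ hpo.desc G₁ G₂ hcond = CommRingCat.ofHom g₁ := by
      simp only [F₁, Category.assoc, IsPushout.inl_desc, G₁, Iso.inv_hom_id_assoc]
    exact congrArg CommRingCat.Hom.hom h1
  obtain ⟨μ, hμ1, hμ2⟩ := huniv ↥Γ(P, ⊤) F₁.hom snd.appTop.hom hcomm hτ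
  let μ' : Γ(W₀, ⊤) ⟶ Γ(P, ⊤) := CommRingCat.ofHom μ
  have hμ' : w.appTop ≫ μ' = snd.appTop := CommRingCat.hom_ext hμ1
  let m : P ⟶ W₀ := P.isoSpec.hom ≫ Spec.map μ' ≫ W₀.isoSpec.inv
  refine ⟨m, ?_, ?_⟩
  · calc m ≫ w = P.isoSpec.hom ≫ Spec.map μ' ≫ (W₀.isoSpec.inv ≫ w) := by
          simp only [m, Category.assoc]
      _ = P.isoSpec.hom ≫ Spec.map μ' ≫ (Spec.map w.appTop ≫ Z₀.isoSpec.inv) := by
          rw [Scheme.isoSpec_inv_naturality]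
      _ = P.isoSpec.hom ≫ Spec.map (w.appTop ≫ μ') ≫ Z₀.isoSpec.inv := by
          rw [Spec.map_comp, Category.assoc]
      _ = (P.isoSpec.hom ≫ Spec.map snd.appTop) ≫ Z₀.isoSpec.inv := by
          rw [hμ', Category.assoc]
      _ = (snd ≫ Z₀.isoSpec.hom) ≫ Z₀.isoSpec.inv := by rw [Scheme.isoSpec_hom_naturality]
      _ = snd := by rw [Category.assoc, Iso.hom_inv_id, Category.comp_id]
  · intro x
    obtain ⟨pp, hp⟩ := hμ2 (W₀.isoSpec.hom x)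
    refine ⟨P.isoSpec.inv pp, ?_⟩
    have h1 : P.isoSpec.inv ≫ m = Spec.map μ' ≫ W₀.isoSpec.inv := by
      simp only [m, Iso.inv_hom_id_assoc]
    have h2 : (Spec.map μ') pp = W₀.isoSpec.hom x := hp
    rw [← Scheme.Hom.comp_apply, h1, Scheme.Hom.comp_apply, h2, ← Scheme.Hom.comp_apply,
      Iso.hom_inv_id]
    rfl

end Groth.Agent.Lib.Helper29.ClosedCore
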