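import Mathlib
import Groth.Prelude.Def_ProEtS
import Groth.Agent.Lib.Helper29.ProEtWC
import Groth.Agent.Lib.Helper29.Main7284
import Groth.Agent.Lib.Helper29.ClosedCore

/-!
# Base change along a closed immersion is cover-dense and locally full on pro-étale sites
(helper29), hence `i_*` is fully faithful and the counit `i⁻¹ i_* F ⟶ F` is an isomorphism.
-/

set_option autoImplicit false
set_option linter.style.haveILetI false
set_option linter.unusedSectionVars false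
set_option maxHeartbeats 1600000

universe u

open CategoryTheory CategoryTheory.Limits AlgebraicGeometry Opposite TopologicalSpace

namespace Groth.Agent.Lib.Helper29.ClosedDense

open Groth.Agent.Lib.Helper5.ProEtQcqs Groth.Agent.Lib.Helper29.ProEtClopen
  Groth.Agent.Lib.Helper29.Main7284

set_option backward.isDefEq.respectTransparency.types false in
/-- A surjective morphism between affine objects generates a covering sieve. -/
lemma generate_hom_mem {X : Scheme.{u}} {T U : X.ProEt} (f : T ⟶ U) [IsAffine U.left]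
    [IsAffine T.left] (hsurj : Function.Surjective f.left) :
    Sieve.generate (Presieve.ofArrows (fun _ : Unit => T) (fun _ => f)) ∈
      Scheme.ProEt.topology X U := by
  haveI hwe : WeaklyEtale f.left := by
    haveI : WeaklyEtale (f.left ≫ U.hom) := by
      rw [MorphismProperty.Over.w f]
      exact T.prop
    exact WeaklyEtale.of_comp f.left U.hom
  haveI hqcf : QuasiCompact f.left := inferInstance
  let 𝒞 : Scheme.Cover (Scheme.precoverage weMP.{u}) U.left :=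
    Scheme.Cover.mkOfCovers Unit (fun _ => T.left) (fun _ => f.left)
      (fun x => by
        obtain ⟨y, hy⟩ := hsurj x
        exact ⟨(), y, hy⟩)
      (fun _ => hwe)
  apply Precoverage.generate_mem_toGrothendieck
  change (Presieve.ofArrows (fun _ : Unit => T) (fun _ => f)).map (toSch X) ∈
      Scheme.proetalePrecoverage U.left
  rw [Presieve.map_ofArrows]
  haveI : ∀ j, QuasiCompact (𝒞.f j) := fun j => hqcf
  haveI : Finite 𝒞.I₀ := (inferInstance : Finite Unit)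
  have hqc : QuasiCompactCover 𝒞.toPreZeroHypercover := QuasiCompactCover.of_finite
  exact ⟨Scheme.presieve₀_mem_qcPrecoverage_iff.2 hqc, 𝒞.mem₀⟩

set_option backward.isDefEq.respectTransparency.types false in
/-- Base change along a closed immersion is cover-dense. -/
theorem isCoverDense {Z X : Scheme.{u}} (i : Z ⟶ X) [IsClosedImmersion i] :
    (ProEtS.bcP i).IsCoverDense (Scheme.ProEt.topology Z) := by
  constructor
  intro W
  have key : ∀ w : W.left, ∃ (W₀ : W.left.Opens), w ∈ W₀ ∧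
      (Sieve.coverByImage (ProEtS.bcP i) W).pullback (opIncl W W₀) ∈
        Scheme.ProEt.topology Z (opOb W W₀) := by
    intro w
    obtain ⟨(X₀ : X.Opens), hX₀, hxX₀, -⟩ := Opens.isBasis_iff_nbhd.mp X.isBasis_affineOpens
      (show i (W.hom w) ∈ (⊤ : X.Opens) from trivial)
    have hZ₀ : IsAffineOpen (i ⁻¹ᵁ X₀) := IsAffineOpen.preimage hX₀ i
    obtain ⟨(W₀ : W.left.Opens), hW₀, hwW₀, hW₀le⟩ :=
      Opens.isBasis_iff_nbhd.mp W.left.isBasis_affineOpens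
      (show w ∈ W.hom ⁻¹ᵁ (i ⁻¹ᵁ X₀) from hxX₀)
    refine ⟨W₀, hwW₀, ?_⟩
    haveI : IsAffine (X₀ : Scheme.{u}) := hX₀
    haveI : IsAffine ((i ⁻¹ᵁ X₀ : Z.Opens) : Scheme.{u}) := hZ₀
    haveI : IsAffine (W₀ : Scheme.{u}) := hW₀
    haveI : IsClosedImmersion (i ∣_ X₀) := inferInstance
    haveI : WeaklyEtale (W.hom.resLE (i ⁻¹ᵁ X₀) W₀ hW₀le) := inferInstance
    obtain ⟨Y, v, hYaff, hvwe, hY⟩ :=
      Groth.Agent.Lib.Helper29.ClosedCore.coreL1 (i ∣_ X₀) (W.hom.resLE (i ⁻¹ᵁ X₀) W₀ hW₀le)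
    haveI := hYaff
    haveI := hvwe
    let V : X.ProEt := Scheme.ProEt.mk (v ≫ X₀.ι)
    let fstP : pullback (v ≫ X₀.ι) i ⟶ Y := pullback.fst (v ≫ X₀.ι) i
    let sndP : pullback (v ≫ X₀.ι) i ⟶ Z := pullback.snd (v ≫ X₀.ι) i
    have hcondP : fstP ≫ v ≫ X₀.ι = sndP ≫ i := pullback.condition
    have hrange : Set.range sndP ⊆ Set.range (i ⁻¹ᵁ X₀).ι := by
      rintro _ ⟨y, rfl⟩
      rw [Scheme.Opens.range_ι]
      show i (sndP y) ∈ X₀
      have h1 : (sndP ≫ i) y = (fstP ≫ v ≫ X₀.ι) y := by rw [hcondP]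
      simp only [Scheme.Hom.comp_apply] at h1
      rw [h1]
      exact (v (fstP y)).2
    let zP : pullback (v ≫ X₀.ι) i ⟶ ((i ⁻¹ᵁ X₀ : Z.Opens) : Scheme.{u}) :=
      IsOpenImmersion.lift (i ⁻¹ᵁ X₀).ι sndP hrange
    have hzP : zP ≫ (i ⁻¹ᵁ X₀).ι = sndP := IsOpenImmersion.lift_fac _ _ _
    have hpb : IsPullback fstP zP v (i ∣_ X₀) := by
      have hbig : IsPullback (zP ≫ (i ⁻¹ᵁ X₀).ι) fstP i (v ≫ X₀.ι) := by
        rw [hzP]
        exact (IsPullback.of_hasPullback (v ≫ X₀.ι) i).flip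
      have hright : IsPullback (i ⁻¹ᵁ X₀).ι (i ∣_ X₀) i X₀.ι :=
        (isPullback_morphismRestrict i X₀).flip
      have hcomm : zP ≫ (i ∣_ X₀) = fstP ≫ v := by
        rw [← cancel_mono X₀.ι, Category.assoc, Category.assoc, morphismRestrict_ι,
          ← Category.assoc, hzP]
        exact hcondP.symm
      exact (IsPullback.of_right hbig hcomm hright).flip
    obtain ⟨m, hm, hmsurj⟩ := hY _ fstP zP hpb
    have hmw : m ≫ W₀.ι ≫ W.hom = sndP := by
      rw [← Scheme.Hom.resLE_comp_ι W.hom hW₀le, ← Category.assoc, hm, hzP]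
    let mm : (ProEtS.bcP i).obj V ⟶ opOb W W₀ := MorphismProperty.Over.homMk m hmw trivial
    haveI : IsAffine (opOb W W₀).left := hW₀
    haveI : IsAffine ((ProEtS.bcP i).obj V).left :=
      (inferInstance : IsAffine (pullback (v ≫ X₀.ι) i))
    have hcov := generate_hom_mem mm hmsurj
    refine GrothendieckTopology.superset_covering _ ?_ hcov
    rw [Sieve.generate_le_iff]
    rintro T' _ ⟨⟨⟩⟩
    exact Presieve.in_coverByImage (ProEtS.bcP i) (mm ≫ opIncl W W₀)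
  choose W₀ hw hcov using key
  have hS := opens_generate_mem W W₀ (fun w => ⟨w, hw w⟩)
  apply GrothendieckTopology.transitive _ hS
  intro Y f hf
  obtain ⟨Z', h, k, hk, rfl⟩ := hf
  obtain ⟨w⟩ := hk
  rw [Sieve.pullback_comp]
  exact GrothendieckTopology.pullback_stable _ _ (hcov w)

lemma apply_eq_of_comp_eq {A B C D : Scheme.{u}} (f : A ⟶ B) (g : B ⟶ D) (f' : A ⟶ C)
    (g' : C ⟶ D) (h : f ≫ g = f' ≫ g') (a : A) : g (f a) = g' (f' a) := by
  have h1 : (f ≫ g) a = (f' ≫ g') a := by rw [h]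
  simpa only [Scheme.Hom.comp_apply] using h1

/-- Plain-scheme core of local fullness. -/
theorem localFull_core {Z X V' V : Scheme.{u}} (i : Z ⟶ X) [IsClosedImmersion i]
    (v' : V' ⟶ X) (vv : V ⟶ X) [WeaklyEtale v'] [WeaklyEtale vv]
    (b : pullback v' i ⟶ pullback vv i) (hbw : b ≫ pullback.snd vv i = pullback.snd v' i)
    (t : (pullback v' i : Scheme.{u})) :
    ∃ (U : (pullback v' i : Scheme.{u}).Opens), t ∈ U ∧
      ∃ (Y : Scheme.{u}) (y : Y ⟶ X) (g : Y ⟶ V') (l : Y ⟶ V) (_ : WeaklyEtale y)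
        (hg : g ≫ v' = y) (hl : l ≫ vv = y) (sl : (U : Scheme.{u}) ⟶ pullback y i),
        sl ≫ pullback.snd y i = U.ι ≫ pullback.snd v' i ∧
        sl ≫ pullback.lift (pullback.fst y i ≫ g) (pullback.snd y i)
          (by rw [Category.assoc, hg]; exact pullback.condition) = U.ι ∧
        pullback.lift (pullback.fst y i ≫ l) (pullback.snd y i)
          (by rw [Category.assoc, hl]; exact pullback.condition) =
          pullback.lift (pullback.fst y i ≫ g) (pullback.snd y i)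
            (by rw [Category.assoc, hg]; exact pullback.condition) ≫ b := by
  let fstT : pullback v' i ⟶ V' := pullback.fst v' i
  let sndT : pullback v' i ⟶ Z := pullback.snd v' i
  let fstV : pullback vv i ⟶ V := pullback.fst vv i
  let sndV : pullback vv i ⟶ Z := pullback.snd vv i
  have hcondT : fstT ≫ v' = sndT ≫ i := pullback.condition
  have hcondV : fstV ≫ vv = sndV ≫ i := pullback.condition
  have hbig : (b ≫ fstV) ≫ vv = sndT ≫ i := by
    rw [Category.assoc, hcondV, ← Category.assoc, hbw]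
  obtain ⟨(X₀ : X.Opens), hX₀, hxX₀, -⟩ := Opens.isBasis_iff_nbhd.mp X.isBasis_affineOpens
    (show i (sndT t) ∈ (⊤ : X.Opens) from trivial)
  have hv : vv ((b ≫ fstV) t) = i (sndT t) := apply_eq_of_comp_eq _ _ _ _ hbig t
  obtain ⟨(V₁ : V.Opens), hV₁, hvV₁, hV₁le⟩ :=
    Opens.isBasis_iff_nbhd.mp V.isBasis_affineOpens
    (show (b ≫ fstV) t ∈ vv ⁻¹ᵁ X₀ from by
      show vv ((b ≫ fstV) t) ∈ X₀
      rw [hv]
      exact hxX₀)
  have htO : t ∈ (b ≫ fstV) ⁻¹ᵁ V₁ := hvV₁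
  obtain ⟨O'set, hO'open, hO'eq⟩ : ∃ s : Set V', IsOpen s ∧
      fstT ⁻¹' s = (((b ≫ fstV) ⁻¹ᵁ V₁ : (pullback v' i : Scheme.{u}).Opens) : Set _) := by
    have hemb : Topology.IsInducing fstT := (Scheme.Hom.isClosedEmbedding fstT).isInducing
    exact hemb.isOpen_iff.mp ((b ≫ fstV) ⁻¹ᵁ V₁).2
  have hv' : v' (fstT t) = i (sndT t) := apply_eq_of_comp_eq _ _ _ _ hcondT t
  obtain ⟨(V'₁ : V'.Opens), hV'₁, hv'V'₁, hV'₁le⟩ :=
    Opens.isBasis_iff_nbhd.mp V'.isBasis_affineOpens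
    (show fstT t ∈ v' ⁻¹ᵁ X₀ ⊓ (⟨O'set, hO'open⟩ : V'.Opens) from
      ⟨by
        show v' (fstT t) ∈ X₀
        rw [hv']
        exact hxX₀, by
        show fstT t ∈ O'set
        have h2 : t ∈ fstT ⁻¹' O'set := by
          rw [hO'eq]
          exact htO
        exact h2⟩)
  have htT₁ : t ∈ fstT ⁻¹ᵁ V'₁ := hv'V'₁
  refine ⟨fstT ⁻¹ᵁ V'₁, htT₁, ?_⟩
  haveI : IsAffine (X₀ : Scheme.{u}) := hX₀
  haveI : IsAffine (V₁ : Scheme.{u}) := hV₁
  haveI : IsAffine (V'₁ : Scheme.{u}) := hV'₁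
  haveI : IsAffine ((fstT ⁻¹ᵁ V'₁ : (pullback v' i : Scheme.{u}).Opens) : Scheme.{u}) :=
    IsAffineOpen.preimage hV'₁ fstT
  have hV'₁X : V'₁ ≤ v' ⁻¹ᵁ X₀ := hV'₁le.trans inf_le_left
  have hV'₁O : V'₁ ≤ (⟨O'set, hO'open⟩ : V'.Opens) := hV'₁le.trans inf_le_right
  have hT₁O : fstT ⁻¹ᵁ V'₁ ≤ (b ≫ fstV) ⁻¹ᵁ V₁ := by
    intro y hy
    have h1 : fstT y ∈ O'set := hV'₁O hy
    have h2 : y ∈ fstT ⁻¹' O'set := h1
    rw [hO'eq] at h2
    exact h2
  haveI : WeaklyEtale (vv.resLE X₀ V₁ hV₁le) := inferInstance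
  haveI : IsClosedImmersion (fstT ∣_ V'₁) := inferInstance
  have hf₁ι : (fstT ∣_ V'₁) ≫ V'₁.ι = (fstT ⁻¹ᵁ V'₁).ι ≫ fstT := morphismRestrict_ι fstT V'₁
  have hb₁ι : (b ≫ fstV).resLE V₁ (fstT ⁻¹ᵁ V'₁) hT₁O ≫ V₁.ι =
      (fstT ⁻¹ᵁ V'₁).ι ≫ b ≫ fstV := Scheme.Hom.resLE_comp_ι _ _
  have hpι : v'.resLE X₀ V'₁ hV'₁X ≫ X₀.ι = V'₁.ι ≫ v' := Scheme.Hom.resLE_comp_ι _ _
  have hqι : vv.resLE X₀ V₁ hV₁le ≫ X₀.ι = V₁.ι ≫ vv := Scheme.Hom.resLE_comp_ι _ _
  have hb : (b ≫ fstV).resLE V₁ (fstT ⁻¹ᵁ V'₁) hT₁O ≫ vv.resLE X₀ V₁ hV₁le =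
      (fstT ∣_ V'₁) ≫ v'.resLE X₀ V'₁ hV'₁X := by
    rw [← cancel_mono X₀.ι, Category.assoc, Category.assoc, hqι, hpι, ← Category.assoc,
      hb₁ι, ← Category.assoc (fstT ∣_ V'₁), hf₁ι]
    simp only [Category.assoc]
    rw [hcondT, ← hbig, Category.assoc]
  obtain ⟨Y, g, l, s, hgwe, hgl, hsg, huniv⟩ :=
    Groth.Agent.Lib.Helper29.ClosedCore.coreL2 (v'.resLE X₀ V'₁ hV'₁X)
      (vv.resLE X₀ V₁ hV₁le) (fstT ∣_ V'₁)
      ((b ≫ fstV).resLE V₁ (fstT ⁻¹ᵁ V'₁) hT₁O) hb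
  haveI := hgwe
  have hwe0 : WeaklyEtale ((g ≫ V'₁.ι) ≫ v') := inferInstance
  obtain ⟨y'', hy''⟩ : ∃ y'' : Y ⟶ X, (g ≫ V'₁.ι) ≫ v' = y'' := ⟨_, rfl⟩
  have hwe'' : WeaklyEtale y'' := hy'' ▸ hwe0
  have hll : (l ≫ V₁.ι) ≫ vv = y'' := by
    rw [← hy'', Category.assoc, ← hqι, ← Category.assoc, ← hgl, Category.assoc, hpι,
      Category.assoc]
  let fst'' : pullback y'' i ⟶ Y := pullback.fst y'' i
  let snd'' : pullback y'' i ⟶ Z := pullback.snd y'' i
  have hscond : s ≫ y'' = ((fstT ⁻¹ᵁ V'₁).ι ≫ sndT) ≫ i := by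
    rw [← hy'', ← Category.assoc, ← Category.assoc, hsg, hf₁ι, Category.assoc, Category.assoc,
      hcondT]
  let sl : ((fstT ⁻¹ᵁ V'₁ : (pullback v' i : Scheme.{u}).Opens) : Scheme.{u}) ⟶
      pullback y'' i :=
    pullback.lift s ((fstT ⁻¹ᵁ V'₁).ι ≫ sndT) hscond
  have hsl_fst : sl ≫ fst'' = s := pullback.lift_fst _ _ _
  have hsl_snd : sl ≫ snd'' = (fstT ⁻¹ᵁ V'₁).ι ≫ sndT := pullback.lift_snd _ _ _
  have hc1 : (fst'' ≫ (g ≫ V'₁.ι)) ≫ v' = snd'' ≫ i := by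
    rw [Category.assoc, hy'']
    exact pullback.condition
  have hc2 : (fst'' ≫ (l ≫ V₁.ι)) ≫ vv = snd'' ≫ i := by
    rw [Category.assoc, hll]
    exact pullback.condition
  have hGg_fst : pullback.lift (fst'' ≫ (g ≫ V'₁.ι)) snd'' hc1 ≫ fstT = fst'' ≫ g ≫ V'₁.ι :=
    pullback.lift_fst _ _ _
  have hGg_snd : pullback.lift (fst'' ≫ (g ≫ V'₁.ι)) snd'' hc1 ≫ sndT = snd'' :=
    pullback.lift_snd _ _ _
  have hGl_fst : pullback.lift (fst'' ≫ (l ≫ V₁.ι)) snd'' hc2 ≫ fstV = fst'' ≫ l ≫ V₁.ι :=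
    pullback.lift_fst _ _ _
  have hGl_snd : pullback.lift (fst'' ≫ (l ≫ V₁.ι)) snd'' hc2 ≫ sndV = snd'' :=
    pullback.lift_snd _ _ _
  refine ⟨Y, y'', g ≫ V'₁.ι, l ≫ V₁.ι, hwe'', hy'', hll, sl, hsl_snd, ?_, ?_⟩
  · show sl ≫ pullback.lift (fst'' ≫ (g ≫ V'₁.ι)) snd'' hc1 = (fstT ⁻¹ᵁ V'₁).ι
    apply pullback.hom_ext
    · show (sl ≫ pullback.lift (fst'' ≫ (g ≫ V'₁.ι)) snd'' hc1) ≫ fstT = (fstT ⁻¹ᵁ V'₁).ι ≫ fstT
      rw [Category.assoc, hGg_fst, ← Category.assoc sl, hsl_fst, ← Category.assoc, hsg, hf₁ι]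
    · show (sl ≫ pullback.lift (fst'' ≫ (g ≫ V'₁.ι)) snd'' hc1) ≫ sndT = (fstT ⁻¹ᵁ V'₁).ι ≫ sndT
      rw [Category.assoc, hGg_snd, hsl_snd]
  · show pullback.lift (fst'' ≫ (l ≫ V₁.ι)) snd'' hc2 =
      pullback.lift (fst'' ≫ (g ≫ V'₁.ι)) snd'' hc1 ≫ b
    apply pullback.hom_ext
    · have hrange : Set.range (pullback.lift (fst'' ≫ (g ≫ V'₁.ι)) snd'' hc1) ⊆
          Set.range (fstT ⁻¹ᵁ V'₁).ι := by
        rintro _ ⟨y, rfl⟩
        rw [Scheme.Opens.range_ι]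
        show fstT ((pullback.lift (fst'' ≫ (g ≫ V'₁.ι)) snd'' hc1) y) ∈ V'₁
        have h1 := apply_eq_of_comp_eq _ _ _ _ hGg_fst y
        rw [h1, Scheme.Hom.comp_apply]
        exact (g (fst'' y)).2
      let c : pullback y'' i ⟶
          ((fstT ⁻¹ᵁ V'₁ : (pullback v' i : Scheme.{u}).Opens) : Scheme.{u}) :=
        IsOpenImmersion.lift (fstT ⁻¹ᵁ V'₁).ι
          (pullback.lift (fst'' ≫ (g ≫ V'₁.ι)) snd'' hc1) hrange
      have hc : c ≫ (fstT ⁻¹ᵁ V'₁).ι = pullback.lift (fst'' ≫ (g ≫ V'₁.ι)) snd'' hc1 :=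
        IsOpenImmersion.lift_fac _ _ _
      have hac : fst'' ≫ g = c ≫ (fstT ∣_ V'₁) := by
        rw [← cancel_mono V'₁.ι, Category.assoc, Category.assoc, hf₁ι, ← Category.assoc c, hc,
          hGg_fst]
      have hu := huniv _ fst'' c hac
      show pullback.lift (fst'' ≫ (l ≫ V₁.ι)) snd'' hc2 ≫ fstV =
        (pullback.lift (fst'' ≫ (g ≫ V'₁.ι)) snd'' hc1 ≫ b) ≫ fstV
      rw [hGl_fst, ← Category.assoc fst'', hu, Category.assoc, hb₁ι, ← Category.assoc c, hc,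
        Category.assoc]
    · show pullback.lift (fst'' ≫ (l ≫ V₁.ι)) snd'' hc2 ≫ sndV =
        (pullback.lift (fst'' ≫ (g ≫ V'₁.ι)) snd'' hc1 ≫ b) ≫ sndV
      rw [hGl_snd, Category.assoc, hbw, hGg_snd]

set_option backward.isDefEq.respectTransparency.types false in
/-- Base change along a closed immersion is locally full. -/
theorem isLocallyFull {Z X : Scheme.{u}} (i : Z ⟶ X) [IsClosedImmersion i] :
    (ProEtS.bcP i).IsLocallyFull (Scheme.ProEt.topology Z) := by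
  constructor
  intro V' V b
  have key : ∀ t : (pullback V'.hom i : Scheme.{u}),
      ∃ U : (pullback V'.hom i : Scheme.{u}).Opens, t ∈ U ∧
      (((ProEtS.bcP i).imageSieve b).functorPushforward (ProEtS.bcP i)).arrows
        (opIncl ((ProEtS.bcP i).obj V') U) := by
    intro t
    obtain ⟨U, htU, Y, y, g, l, hwe, hg, hl, sl, h1, h2, h3⟩ :=
      localFull_core i V'.hom V.hom b.left (MorphismProperty.Over.w b) t
    refine ⟨U, htU, ?_⟩
    haveI := hwe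
    let V'' : X.ProEt := Scheme.ProEt.mk y
    let gg : V'' ⟶ V' := MorphismProperty.Over.homMk g hg trivial
    let ll : V'' ⟶ V := MorphismProperty.Over.homMk l hl trivial
    let ss : opOb ((ProEtS.bcP i).obj V') U ⟶ (ProEtS.bcP i).obj V'' :=
      MorphismProperty.Over.homMk sl h1 trivial
    refine ⟨V'', gg, ss, ⟨ll, ?_⟩, ?_⟩
    · apply MorphismProperty.Over.Hom.ext
      exact h3
    · apply MorphismProperty.Over.Hom.ext
      exact h2.symm
  choose U hU hmem using key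
  have hS := opens_generate_mem ((ProEtS.bcP i).obj V') U (fun t => ⟨t, hU t⟩)
  refine GrothendieckTopology.superset_covering _ ?_ hS
  rw [Sieve.generate_le_iff]
  rintro T' _ ⟨t⟩
  exact hmem t

set_option backward.isDefEq.respectTransparency.types false in
theorem main0741 {Z X : Scheme.{u}} (i : Z ⟶ X) [IsClosedImmersion i]
    [ProEtS.PCont i] (F : ProEtS.AbP Z) :
    IsIso ((ProEtS.pullPushAdjP i).counit.app F) := by
  haveI := isCoverDense i
  haveI := isLocallyFull i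
  haveI : (ProEtS.pushP i).Full := inferInstance
  haveI : (ProEtS.pushP i).Faithful := inferInstance
  infer_instance

end Groth.Agent.Lib.Helper29.ClosedDense
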