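import Mathlib

/-!
# Descent of closed subschemes along a flat surjective quasi-compact morphism (S5233)

Tools: flat surjective morphisms have trivial kernel; formation of the scheme-theoretic image of
a quasi-compact morphism commutes with flat base change (from Mathlib's
`IsSchemeTheoreticallyDominant.of_isPullback`); pullback of ideal sheaves along a flat surjective
morphism reflects the order.
-/

set_option autoImplicit false
set_option maxHeartbeats 1600000
universe u
open CategoryTheory CategoryTheory.Limits AlgebraicGeometry Opposite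

namespace Groth.Agent.Lib.Helper29.ClosedDesc

open Scheme.IdealSheafData

theorem stalkMap_injective {X Y : Scheme.{u}} (f : X ⟶ Y) [Flat f] (x : X) :
    Function.Injective (f.stalkMap x).hom := by
  algebraize [(f.stalkMap x).hom]
  have : Module.FaithfullyFlat (Y.presheaf.stalk (f x)) (X.presheaf.stalk x) :=
    @Module.FaithfullyFlat.of_flat_of_isLocalHom _ _ _ _ _ _ _
      (Flat.stalkMap f x) (f.toLRSHom.prop x)
  exact ‹RingHom.FaithfullyFlat _›.injective

/-- a flat surjective morphism is injective on sections -/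
theorem app_injective_of_flat_of_surjective {X Y : Scheme.{u}} (f : X ⟶ Y) [Flat f] [Surjective f]
    (U : Y.Opens) : Function.Injective (f.app U).hom := by
  rw [injective_iff_map_eq_zero]
  intro s hs
  refine TopCat.Presheaf.section_ext Y.sheaf U s 0 (fun y hy => ?_)
  obtain ⟨x, rfl⟩ := f.surjective y
  apply stalkMap_injective f x
  have h1 := Scheme.Hom.germ_stalkMap_apply f U x hy s
  have h2 := Scheme.Hom.germ_stalkMap_apply f U x hy 0
  refine h1.trans (Eq.trans ?_ h2.symm)
  have h3 : (f.app U).hom s = (f.app U).hom 0 := by rw [hs, map_zero]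
  exact congrArg _ h3

/-- a flat surjective morphism is scheme-theoretically dominant -/
theorem ker_eq_bot_of_flat_of_surjective {X Y : Scheme.{u}} (f : X ⟶ Y) [Flat f] [Surjective f] :
    f.ker = ⊥ := by
  rw [eq_bot_iff]
  intro U
  refine (Scheme.Hom.ideal_ker_le f U).trans ?_
  intro s hs
  rw [RingHom.mem_ker] at hs
  have h0 : s = 0 := app_injective_of_flat_of_surjective f U.1 (hs.trans (map_zero _).symm)
  rw [h0]
  exact Ideal.zero_mem _

theorem toImage_ker_eq_bot {X Y : Scheme.{u}} (f : X ⟶ Y) [QuasiCompact f] :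
    f.toImage.ker = ⊥ := by
  rw [eq_bot_iff]
  refine le_of_iSup_eq_top (ι := Y.affineOpens)
    (fun W => ⟨f.imageι ⁻¹ᵁ W.1, W.2.preimage f.imageι⟩) ?_ (fun W => ?_)
  · rw [← Scheme.Hom.preimage_iSup, iSup_affineOpens_eq_top, Scheme.Hom.preimage_top]
  · refine (Scheme.Hom.ideal_ker_le f.toImage _).trans ?_
    intro s hs
    rw [RingHom.mem_ker] at hs
    have h0 : s = 0 := Scheme.Hom.toImage_app_injective f W (hs.trans (map_zero _).symm)
    rw [h0]
    exact Ideal.zero_mem _

/-- flat base change for the kernel (scheme-theoretic image) of a quasi-compact morphism -/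
theorem ker_comap_of_flat {Q P Z : Scheme.{u}} (g : Q ⟶ P) (h : Z ⟶ P) [Flat g] [QuasiCompact h] :
    h.ker.comap g = (pullback.fst g h).ker := by
  haveI : IsSchemeTheoreticallyDominant h.toImage := ⟨toImage_ker_eq_bot h⟩
  let m : pullback g h ⟶ pullback g h.imageι :=
    pullback.map g h g h.imageι (𝟙 _) h.toImage (𝟙 _) (by simp) (by simp)
  have hm1 : m ≫ pullback.fst g h.imageι = pullback.fst g h :=
    (pullback.lift_fst _ _ _).trans (Category.comp_id _)
  have hm2 : m ≫ pullback.snd g h.imageι = pullback.snd g h ≫ h.toImage :=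
    pullback.lift_snd _ _ _
  have hbig : IsPullback (pullback.snd g h) (m ≫ pullback.fst g h.imageι)
      (h.toImage ≫ h.imageι) g := by
    rw [hm1, Scheme.Hom.toImage_imageι]
    exact (IsPullback.of_hasPullback g h).flip
  have htop : IsPullback (pullback.snd g h) m h.toImage (pullback.snd g h.imageι) :=
    IsPullback.of_bot hbig hm2.symm (IsPullback.of_hasPullback g h.imageι).flip
  haveI : IsSchemeTheoreticallyDominant m := IsSchemeTheoreticallyDominant.of_isPullback htop
  have h1 : (pullback.fst g h).ker = (pullback.fst g h.imageι).ker := by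
    rw [← hm1, Scheme.Hom.ker_comp, Scheme.Hom.ker_eq_bot m, Scheme.IdealSheafData.map_bot]
  rw [h1]
  rfl

/-- pullback of ideal sheaves along a flat surjective morphism reflects the order -/
theorem le_of_comap_le {X X' : Scheme.{u}} (π : X ⟶ X') [Flat π] [Surjective π]
    (K K' : X'.IdealSheafData) (h : K.comap π ≤ K'.comap π) : K ≤ K' := by
  have hsnd : (pullback.snd π K'.subschemeι).ker = ⊥ := ker_eq_bot_of_flat_of_surjective _
  have h2 : (K.comap K'.subschemeι).comap (pullback.snd π K'.subschemeι) ≤ ⊥ := by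
    rw [← comap_comp, ← pullback.condition, comap_comp]
    refine (comap_mono _ h).trans ?_
    have h3 := comap_map_le (⊥ : (pullback π K'.subschemeι).IdealSheafData)
      (pullback.fst π K'.subschemeι)
    rw [Scheme.IdealSheafData.map_bot] at h3
    exact h3
  rw [← le_map_iff_comap_le, Scheme.IdealSheafData.map_bot, hsnd,
    ← le_map_iff_comap_le (f := K'.subschemeι), Scheme.IdealSheafData.map_bot,
    ker_subschemeι] at h2
  exact h2

theorem eq_of_comap_eq {X X' : Scheme.{u}} (π : X ⟶ X') [Flat π] [Surjective π]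
    (K K' : X'.IdealSheafData) (h : K.comap π = K'.comap π) : K = K' :=
  le_antisymm (le_of_comap_le π K K' h.le) (le_of_comap_le π K' K h.ge)

/-! ### Subobjects -/

theorem subobject_le_of_ker_le {X : Scheme.{u}} (Y₁ Y₂ : Subobject X) [IsClosedImmersion Y₂.arrow]
    (h : Y₂.arrow.ker ≤ Y₁.arrow.ker) : Y₁ ≤ Y₂ :=
  Subobject.le_of_comm (IsClosedImmersion.lift Y₂.arrow Y₁.arrow h)
    (IsClosedImmersion.lift_fac _ _ _)

theorem subobject_eq_of_ker_eq {X : Scheme.{u}} (Y₁ Y₂ : Subobject X) [IsClosedImmersion Y₁.arrow]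
    [IsClosedImmersion Y₂.arrow] (h : Y₁.arrow.ker = Y₂.arrow.ker) : Y₁ = Y₂ :=
  le_antisymm (subobject_le_of_ker_le Y₁ Y₂ h.ge) (subobject_le_of_ker_le Y₂ Y₁ h.le)

theorem ker_mk_arrow {X A : Scheme.{u}} (j : A ⟶ X) [Mono j] :
    (Subobject.mk j).arrow.ker = j.ker := by
  rw [← Subobject.underlyingIso_hom_comp_eq_mk j, Scheme.Hom.ker_comp_of_isIso]

theorem isClosedImmersion_mk_arrow {X A : Scheme.{u}} (j : A ⟶ X) [IsClosedImmersion j] :
    IsClosedImmersion (Subobject.mk j).arrow := by
  rw [← Subobject.underlyingIso_hom_comp_eq_mk j]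
  infer_instance

theorem isClosedImmersion_pullback_arrow {X X' : Scheme.{u}} (f : X ⟶ X') (Y' : Subobject X')
    [IsClosedImmersion Y'.arrow] : IsClosedImmersion ((Subobject.pullback f).obj Y').arrow := by
  rw [Subobject.pullback_obj]
  exact isClosedImmersion_mk_arrow _

theorem ker_snd_of_isClosedImmersion {X Y Z : Scheme.{u}} (i : Z ⟶ Y) (f : X ⟶ Y)
    [IsClosedImmersion i] : (pullback.snd i f).ker = i.ker.comap f := by
  rw [← pullbackSymmetry_hom_comp_fst i f, Scheme.Hom.ker_comp_of_isIso,
    ker_fst_of_isClosedImmersion]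

theorem ker_pullback_arrow {X X' : Scheme.{u}} (f : X ⟶ X') (Y' : Subobject X')
    [IsClosedImmersion Y'.arrow] :
    ((Subobject.pullback f).obj Y').arrow.ker = Y'.arrow.ker.comap f := by
  rw [Subobject.pullback_obj, ker_mk_arrow, ker_snd_of_isClosedImmersion]

/-- the key computation: for a closed subscheme stable under the kernel pair, the kernel of the
base change of its composite to the base is its own kernel -/
theorem ker_fst_eq_of_stable {X X' A : Scheme.{u}} (π : X ⟶ X') [Flat π] [Surjective π]
    (j : A ⟶ X) [IsClosedImmersion j]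
    (hst : Subobject.mk (pullback.snd j (pullback.fst π π)) =
      Subobject.mk (pullback.snd j (pullback.snd π π))) :
    (pullback.fst π (j ≫ π)).ker = j.ker := by
  let e := Subobject.isoOfMkEqMk _ _ hst
  have he : e.hom ≫ pullback.snd j (pullback.snd π π) = pullback.snd j (pullback.fst π π) :=
    Subobject.ofMkLEMk_comp hst.le
  have H : IsPullback (pullback.snd j (pullback.snd π π) ≫ pullback.fst π π)
      (pullback.fst j (pullback.snd π π)) π (j ≫ π) :=
    ((IsPullback.of_hasPullback j (pullback.snd π π)).paste_vert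
      (IsPullback.of_hasPullback π π).flip).flip
  have h1 : (pullback.fst π (j ≫ π)).ker =
      (pullback.snd j (pullback.snd π π) ≫ pullback.fst π π).ker := by
    rw [← H.isoPullback_hom_fst, Scheme.Hom.ker_comp_of_isIso]
  have h2 : pullback.snd j (pullback.snd π π) ≫ pullback.fst π π =
      e.inv ≫ pullback.fst j (pullback.fst π π) ≫ j := by
    rw [pullback.condition, ← Category.assoc, ← he, Category.assoc, Category.assoc,
      Iso.inv_hom_id_assoc]
  have h3 : (pullback.fst j (pullback.fst π π)).ker = ⊥ := ker_eq_bot_of_flat_of_surjective _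
  rw [h1, h2, Scheme.Hom.ker_comp_of_isIso, Scheme.Hom.ker_comp, h3, Scheme.IdealSheafData.map_bot]

/-- **S5233** -/
theorem main5233 {X X' : Scheme.{u}} (π : X ⟶ X')
    [Flat π] [Surjective π] [QuasiCompact π] :
    Set.BijOn (Subobject.pullback π).obj
      {Y' : Subobject X' | IsClosedImmersion Y'.arrow}
      {Y : Subobject X | IsClosedImmersion Y.arrow ∧
        (Subobject.pullback (pullback.fst π π)).obj Y =
          (Subobject.pullback (pullback.snd π π)).obj Y} := by
  refine ⟨?_, ?_, ?_⟩
  · intro Y' hY'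
    haveI : IsClosedImmersion Y'.arrow := hY'
    refine ⟨isClosedImmersion_pullback_arrow π Y', ?_⟩
    rw [← Subobject.pullback_comp, ← Subobject.pullback_comp, pullback.condition]
  · intro Y₁ h₁ Y₂ h₂ h
    haveI : IsClosedImmersion Y₁.arrow := h₁
    haveI : IsClosedImmersion Y₂.arrow := h₂
    apply subobject_eq_of_ker_eq
    have h' := congrArg (fun Z : Subobject X => Z.arrow.ker) h
    simp only [ker_pullback_arrow] at h'
    exact eq_of_comap_eq π _ _ h'
  · rintro Y ⟨hY, hst⟩
    haveI : IsClosedImmersion Y.arrow := hY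
    haveI : QuasiCompact (Y.arrow ≫ π) := inferInstance
    rw [Subobject.pullback_obj, Subobject.pullback_obj] at hst
    refine ⟨Subobject.mk (Y.arrow ≫ π).ker.subschemeι, isClosedImmersion_mk_arrow _, ?_⟩
    haveI : IsClosedImmersion (Subobject.mk (Y.arrow ≫ π).ker.subschemeι).arrow :=
      isClosedImmersion_mk_arrow _
    haveI := isClosedImmersion_pullback_arrow π (Subobject.mk (Y.arrow ≫ π).ker.subschemeι)
    apply subobject_eq_of_ker_eq
    rw [ker_pullback_arrow, ker_mk_arrow, ker_subschemeι, ker_comap_of_flat π (Y.arrow ≫ π)]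
    exact ker_fst_eq_of_stable π Y.arrow hst

end Groth.Agent.Lib.Helper29.ClosedDesc
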