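import Groth.Agent.Lib.Helper29.InvFun
import Mathlib.CategoryTheory.Comma.Over.Pullback

/-!
# Helper library (helper29): colimits of schemes are fpqc local (S7204)
-/

set_option autoImplicit false
set_option maxHeartbeats 1600000
universe u w
open CategoryTheory CategoryTheory.Limits AlgebraicGeometry

namespace Groth.Agent.Lib.Helper29.ColimLocal

open Groth.Agent.Lib.Helper29.InvFun

section

variable {J : Type u} [SmallCategory J] (D : J ⥤ Scheme.{u}) (c : Cocone D)

/-- The base-changed diagram along `f : V ⟶ c.pt`. -/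
noncomputable abbrev E {V : Scheme.{u}} (f : V ⟶ c.pt) : J ⥤ Over V :=
  D.toOver c.pt (fun j => c.ι.app j) (fun g => c.w g) ⋙ Over.pullback f

/-- The cocone over the base-changed diagram induced by a cocone `s` over `D`. -/
noncomputable def sc {V : Scheme.{u}} (f : V ⟶ c.pt) (s : Cocone D) :
    Cocone (E D c f ⋙ Over.forget V) where
  pt := s.pt
  ι :=
    { app := fun j => pullback.fst (c.ι.app j) f ≫ s.ι.app j
      naturality := fun j j' g => by
        have e : (E D c f ⋙ Over.forget V).map g ≫ pullback.fst (c.ι.app j') f =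
            pullback.fst (c.ι.app j) f ≫ D.map g := pullback.lift_fst _ _ _
        have e' : (E D c f ⋙ Over.forget V).map g ≫ (pullback.fst (c.ι.app j') f ≫ s.ι.app j') =
            pullback.fst (c.ι.app j) f ≫ s.ι.app j :=
          calc (E D c f ⋙ Over.forget V).map g ≫ (pullback.fst (c.ι.app j') f ≫ s.ι.app j')
              = ((E D c f ⋙ Over.forget V).map g ≫ pullback.fst (c.ι.app j') f) ≫ s.ι.app j' :=
                (Category.assoc _ _ _).symm
            _ = (pullback.fst (c.ι.app j) f ≫ D.map g) ≫ s.ι.app j' :=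
                congrArg (fun k => k ≫ s.ι.app j') e
            _ = pullback.fst (c.ι.app j) f ≫ D.map g ≫ s.ι.app j' := Category.assoc _ _ _
            _ = pullback.fst (c.ι.app j) f ≫ s.ι.app j :=
                congrArg (fun k => pullback.fst (c.ι.app j) f ≫ k) (s.w g)
        exact e'.trans (Category.comp_id _).symm }

end

theorem main7204 {J : Type u} [SmallCategory J] (D : J ⥤ Scheme.{u}) (c : Cocone D)
    (F : PreZeroHypercover.{w} c.pt) (hF : F.presieve₀ ∈ Scheme.fpqcPrecoverage c.pt)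
    (h1 : ∀ a : F.I₀, Nonempty (IsColimit ((Over.forgetCocone (F.X a)).whisker
      (D.toOver c.pt (fun j => c.ι.app j) (fun g => c.w g) ⋙ Over.pullback (F.f a)))))
    (h2 : ∀ a b : F.I₀, Nonempty (IsColimit ((Over.forgetCocone (pullback (F.f a) (F.f b))).whisker
      (D.toOver c.pt (fun j => c.ι.app j) (fun g => c.w g) ⋙
        Over.pullback (pullback.fst (F.f a) (F.f b) ≫ F.f a))))) :
    Nonempty (IsColimit c) := by
  have hF' : Presieve.ofArrows F.X F.f ∈ Scheme.fpqcPrecoverage c.pt := hF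
  refine ⟨IsColimit.ofExistsUnique fun s => ?_⟩
  have hψ : ∀ a, ∃ ψa : F.X a ⟶ s.pt, ∀ j, pullback.snd (c.ι.app j) (F.f a) ≫ ψa =
      pullback.fst (c.ι.app j) (F.f a) ≫ s.ι.app j := by
    intro a
    obtain ⟨hc⟩ := h1 a
    exact ⟨hc.desc (sc D c (F.f a) s), fun j => hc.fac (sc D c (F.f a) s) j⟩
  choose ψ hψ using hψ
  have L : ∀ a j (T : Scheme.{u}) (t : T ⟶ F.X a) (x : T ⟶ D.obj j),
      x ≫ c.ι.app j = t ≫ F.f a → t ≫ ψ a = x ≫ s.ι.app j := by
    intro a j T t x hxt
    have e1 : pullback.lift x t hxt ≫ pullback.snd (c.ι.app j) (F.f a) = t :=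
      pullback.lift_snd _ _ _
    have e2 : pullback.lift x t hxt ≫ pullback.fst (c.ι.app j) (F.f a) = x :=
      pullback.lift_fst _ _ _
    calc t ≫ ψ a = (pullback.lift x t hxt ≫ pullback.snd (c.ι.app j) (F.f a)) ≫ ψ a := by
          rw [e1]
      _ = (pullback.lift x t hxt ≫ pullback.fst (c.ι.app j) (F.f a)) ≫ s.ι.app j := by
          rw [Category.assoc, hψ a j, Category.assoc]
      _ = x ≫ s.ι.app j := by rw [e2]
  have hov : ∀ a b, pullback.fst (F.f a) (F.f b) ≫ ψ a = pullback.snd (F.f a) (F.f b) ≫ ψ b := by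
    intro a b
    obtain ⟨hc⟩ := h2 a b
    apply hc.hom_ext
    intro j
    have ca : pullback.fst (c.ι.app j) (pullback.fst (F.f a) (F.f b) ≫ F.f a) ≫ c.ι.app j =
        (pullback.snd (c.ι.app j) (pullback.fst (F.f a) (F.f b) ≫ F.f a) ≫
          pullback.fst (F.f a) (F.f b)) ≫ F.f a :=
      pullback.condition.trans (Category.assoc _ _ _).symm
    have cb : pullback.fst (c.ι.app j) (pullback.fst (F.f a) (F.f b) ≫ F.f a) ≫ c.ι.app j =
        (pullback.snd (c.ι.app j) (pullback.fst (F.f a) (F.f b) ≫ F.f a) ≫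
          pullback.snd (F.f a) (F.f b)) ≫ F.f b :=
      pullback.condition.trans ((congrArg (fun k => pullback.snd (c.ι.app j)
        (pullback.fst (F.f a) (F.f b) ≫ F.f a) ≫ k) pullback.condition).trans
        (Category.assoc _ _ _).symm)
    have ea := L a j _ _ _ ca
    have eb := L b j _ _ _ cb
    show pullback.snd (c.ι.app j) (pullback.fst (F.f a) (F.f b) ≫ F.f a) ≫
        pullback.fst (F.f a) (F.f b) ≫ ψ a =
      pullback.snd (c.ι.app j) (pullback.fst (F.f a) (F.f b) ≫ F.f a) ≫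
        pullback.snd (F.f a) (F.f b) ≫ ψ b
    calc pullback.snd (c.ι.app j) (pullback.fst (F.f a) (F.f b) ≫ F.f a) ≫
          pullback.fst (F.f a) (F.f b) ≫ ψ a
        = (pullback.snd (c.ι.app j) (pullback.fst (F.f a) (F.f b) ≫ F.f a) ≫
          pullback.fst (F.f a) (F.f b)) ≫ ψ a := (Category.assoc _ _ _).symm
      _ = pullback.fst (c.ι.app j) (pullback.fst (F.f a) (F.f b) ≫ F.f a) ≫ s.ι.app j := ea
      _ = (pullback.snd (c.ι.app j) (pullback.fst (F.f a) (F.f b) ≫ F.f a) ≫
          pullback.snd (F.f a) (F.f b)) ≫ ψ b := eb.symm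
      _ = _ := Category.assoc _ _ _
  obtain ⟨Ψ, hΨ⟩ := fpqc_glue' s.pt F.f hF' ψ (by
    intro a b T p q hpq
    have e1 : pullback.lift p q hpq ≫ pullback.fst (F.f a) (F.f b) = p := pullback.lift_fst _ _ _
    have e2 : pullback.lift p q hpq ≫ pullback.snd (F.f a) (F.f b) = q := pullback.lift_snd _ _ _
    calc p ≫ ψ a = (pullback.lift p q hpq ≫ pullback.fst (F.f a) (F.f b)) ≫ ψ a := by rw [e1]
      _ = (pullback.lift p q hpq ≫ pullback.snd (F.f a) (F.f b)) ≫ ψ b := by
          rw [Category.assoc, hov a b, Category.assoc]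
      _ = q ≫ ψ b := by rw [e2])
  have hfac : ∀ j, c.ι.app j ≫ Ψ = s.ι.app j := by
    intro j
    have hcovj : Presieve.ofArrows (fun a => pullback (c.ι.app j) (F.f a))
        (fun a => pullback.fst (c.ι.app j) (F.f a)) ∈ Scheme.fpqcPrecoverage (D.obj j) :=
      Precoverage.mem_coverings_of_isPullback F.f hF' (c.ι.app j)
        (fun a => pullback.fst (c.ι.app j) (F.f a)) (fun a => pullback.snd (c.ι.app j) (F.f a))
        (fun a => IsPullback.of_hasPullback (c.ι.app j) (F.f a))
    refine fpqc_sep' s.pt _ hcovj _ _ (fun a => ?_)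
    rw [← Category.assoc, pullback.condition, Category.assoc, hΨ a, hψ a j]
  refine ⟨Ψ, hfac, fun m hm => ?_⟩
  refine fpqc_sep' s.pt F.f hF' _ _ (fun a => ?_)
  rw [hΨ a]
  obtain ⟨hc⟩ := h1 a
  apply hc.hom_ext
  intro j
  show pullback.snd (c.ι.app j) (F.f a) ≫ F.f a ≫ m = pullback.snd (c.ι.app j) (F.f a) ≫ ψ a
  rw [hψ a j, ← Category.assoc, ← pullback.condition, Category.assoc, hm j]

end Groth.Agent.Lib.Helper29.ColimLocal
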