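import Mathlib
import Groth.Prelude.Def_HopfRep

/-!
# Subcomodules as invariant submodules (helper29)

Over a field `K`, for a right `C`-comodule `V`, a `K`-subspace `W` is a subcomodule iff it is stable
under all the operators `T f = (id ⊗ f) ∘ coact`, `f : C →ₗ[K] K`.  Hence subcomodules are exactly
the submodules of `V` over the subalgebra `opAlg` of `End_K V` generated by these operators, and the
lattice-theoretic results of Mathlib on semisimple modules apply.
-/

set_option autoImplicit false
universe u v w

open TensorProduct

namespace Groth.Agent.Lib.Helper29.ComodLib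

section Slice

variable {K : Type u} {C : Type v} [Field K] [AddCommGroup C] [Module K C]
variable {V : Type w} [AddCommGroup V] [Module K V]

/-- The slice map `V ⊗ C → V` attached to a linear form on `C`. -/
noncomputable def slice (f : C →ₗ[K] K) : V ⊗[K] C →ₗ[K] V :=
  (TensorProduct.rid K V).toLinearMap ∘ₗ LinearMap.lTensor V f

@[simp] lemma slice_tmul (f : C →ₗ[K] K) (v : V) (c : C) :
    slice f (v ⊗ₜ[K] c) = f c • v := by
  simp [slice]

lemma eq_zero_of_slice_eq_zero (y : V ⊗[K] C)
    (h : ∀ f : C →ₗ[K] K, slice f y = 0) : y = 0 := by
  classical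
  let b := Module.Basis.ofVectorSpace K C
  apply (TensorProduct.equivFinsuppOfBasisRight (M := V) b).injective
  rw [map_zero]
  ext i
  rw [TensorProduct.equivFinsuppOfBasisRight_apply]
  exact h (b.coord i)

lemma slice_rTensor {V' : Type*} [AddCommGroup V'] [Module K V'] (g : V →ₗ[K] V')
    (f : C →ₗ[K] K) (x : V ⊗[K] C) : slice f (g.rTensor C x) = g (slice f x) := by
  induction x using TensorProduct.induction_on with
  | zero => simp
  | tmul v c => simp
  | add a b ha hb => simp only [map_add, ha, hb]

lemma mem_range_rTensor_iff (W : Submodule K V) (x : V ⊗[K] C) :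
    x ∈ LinearMap.range (W.subtype.rTensor C) ↔ ∀ f : C →ₗ[K] K, slice f x ∈ W := by
  constructor
  · rintro ⟨y, rfl⟩ f
    rw [slice_rTensor]
    exact (slice f y).2
  · intro h
    rw [← rTensor_mkQ, LinearMap.mem_ker]
    apply eq_zero_of_slice_eq_zero
    intro f
    rw [slice_rTensor, Submodule.mkQ_apply, Submodule.Quotient.mk_eq_zero]
    exact h f

end Slice

section Comod

variable (K : Type u) (C : Type v) [Field K] [AddCommGroup C] [Module K C] [Coalgebra K C]
variable (V : Type w) [AddCommGroup V] [Module K V] [HopfRep.Comod K C V]

/-- The operator on `V` attached to a linear form on `C`. -/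
noncomputable def opT (f : C →ₗ[K] K) : Module.End K V :=
  slice f ∘ₗ HopfRep.Comod.coact (k := K) (A := C)

/-- The algebra of operators generated by the `opT f`. -/
noncomputable def opAlg : Subalgebra K (Module.End K V) :=
  Algebra.adjoin K (Set.range (opT K C V))

variable {K C V}

lemma isSubcomod_iff (W : Submodule K V) :
    HopfRep.IsSubcomod (k := K) (A := C) W ↔ ∀ f : C →ₗ[K] K, ∀ w ∈ W, opT K C V f w ∈ W := by
  unfold HopfRep.IsSubcomod
  constructor
  · intro h f w hw
    exact (mem_range_rTensor_iff W _).mp (h w hw) f
  · intro h w hw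
    exact (mem_range_rTensor_iff W _).mpr fun f => h f w hw

lemma opAlg_stable (W : Submodule K V) (hW : HopfRep.IsSubcomod (k := K) (A := C) W)
    (r : Module.End K V) (hr : r ∈ opAlg K C V) : ∀ w ∈ W, r w ∈ W := by
  rw [isSubcomod_iff] at hW
  unfold opAlg at hr
  induction hr using Algebra.adjoin_induction with
  | mem x hx =>
    obtain ⟨f, rfl⟩ := hx
    exact hW f
  | algebraMap c =>
    intro w hw
    simpa [Algebra.algebraMap_eq_smul_one] using W.smul_mem c hw
  | add x y _ _ hx hy =>
    intro w hw
    exact W.add_mem (hx w hw) (hy w hw)
  | mul x y _ _ hx hy =>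
    intro w hw
    exact hx _ (hy w hw)

instance : IsScalarTower K (opAlg K C V) V :=
  ⟨fun c r v => by
    change ((c • r : opAlg K C V) : Module.End K V) v = c • ((r : Module.End K V) v)
    simp⟩

/-- A subcomodule, as a submodule over the operator algebra. -/
def toOp (W : Submodule K V) (hW : HopfRep.IsSubcomod (k := K) (A := C) W) :
    Submodule (opAlg K C V) V where
  carrier := W
  add_mem' := W.add_mem
  zero_mem' := W.zero_mem
  smul_mem' := fun r w hw => opAlg_stable W hW r.1 r.2 w hw

@[simp] lemma toOp_restrictScalars (W : Submodule K V)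
    (hW : HopfRep.IsSubcomod (k := K) (A := C) W) :
    (toOp W hW).restrictScalars K = W := by
  ext x; rfl

lemma isSubcomod_restrictScalars (N : Submodule (opAlg K C V) V) :
    HopfRep.IsSubcomod (k := K) (A := C) (N.restrictScalars K) := by
  rw [isSubcomod_iff]
  intro f w hw
  have hmem : opT K C V f ∈ opAlg K C V := Algebra.subset_adjoin ⟨f, rfl⟩
  exact N.smul_mem (⟨opT K C V f, hmem⟩ : opAlg K C V) hw

lemma toOp_of_restrictScalars (N : Submodule (opAlg K C V) V) :
    toOp (N.restrictScalars K) (isSubcomod_restrictScalars N) = N := by
  ext x; rfl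

/-- Semisimplicity of a comodule is semisimplicity over the operator algebra. -/
theorem isSemisimpleComod_iff :
    HopfRep.IsSemisimpleComod K C V ↔ IsSemisimpleModule (opAlg K C V) V := by
  constructor
  · intro hss
    refine (isSemisimpleModule_iff _ _).mpr ⟨fun N => ?_⟩
    obtain ⟨W', hW', hc⟩ := hss (N.restrictScalars K) (isSubcomod_restrictScalars N)
    refine ⟨toOp W' hW', ?_, ?_⟩
    · rw [disjoint_iff]
      apply Submodule.restrictScalars_injective K
      rw [Submodule.restrictScalars_inf, Submodule.restrictScalars_bot, toOp_restrictScalars]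
      exact hc.inf_eq_bot
    · rw [codisjoint_iff]
      apply Submodule.restrictScalars_injective K
      rw [Submodule.restrictScalars_sup, Submodule.restrictScalars_top, toOp_restrictScalars]
      exact hc.sup_eq_top
  · intro hss W hW
    obtain ⟨N', hc⟩ := exists_isCompl (toOp W hW)
    refine ⟨N'.restrictScalars K, isSubcomod_restrictScalars N', ?_, ?_⟩
    · rw [disjoint_iff]
      have := congrArg (Submodule.restrictScalars K) hc.inf_eq_bot
      rwa [Submodule.restrictScalars_inf, Submodule.restrictScalars_bot,
        toOp_restrictScalars] at this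
    · rw [codisjoint_iff]
      have := congrArg (Submodule.restrictScalars K) hc.sup_eq_top
      rwa [Submodule.restrictScalars_sup, Submodule.restrictScalars_top,
        toOp_restrictScalars] at this

/-- A subcomodule is minimal nonzero iff it is an atom over the operator algebra. -/
theorem isAtom_toOp_iff (W : Submodule K V) (hW : HopfRep.IsSubcomod (k := K) (A := C) W) :
    IsAtom (toOp W hW) ↔ (W ≠ ⊥ ∧ ∀ W' : Submodule K V,
      HopfRep.IsSubcomod (k := K) (A := C) W' → W' ≤ W → W' = ⊥ ∨ W' = W) := by
  constructor
  · intro hat
    refine ⟨?_, fun W' hW' hle => ?_⟩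
    · intro h
      apply hat.1
      apply Submodule.restrictScalars_injective K
      rw [toOp_restrictScalars, Submodule.restrictScalars_bot, h]
    · have hle' : toOp W' hW' ≤ toOp W hW := fun x hx => hle hx
      rcases hat.le_iff.mp hle' with h | h
      · left
        have := congrArg (Submodule.restrictScalars K) h
        rwa [toOp_restrictScalars, Submodule.restrictScalars_bot] at this
      · right
        have := congrArg (Submodule.restrictScalars K) h
        rwa [toOp_restrictScalars, toOp_restrictScalars] at this
  · rintro ⟨hne, hmin⟩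
    refine ⟨?_, fun b hb => ?_⟩
    · intro h
      apply hne
      have := congrArg (Submodule.restrictScalars K) h
      rwa [toOp_restrictScalars, Submodule.restrictScalars_bot] at this
    · have hle : b.restrictScalars K ≤ W := fun x hx => hb.le hx
      rcases hmin _ (isSubcomod_restrictScalars b) hle with h | h
      · exact (Submodule.restrictScalars_eq_bot_iff K _ _).mp h
      · exfalso
        apply hb.ne
        apply Submodule.restrictScalars_injective K
        rw [toOp_restrictScalars, h]

end Comod

end Groth.Agent.Lib.Helper29.ComodLib
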