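import Mathlib
import Groth.Prelude.Def_W4c2conddiscmodels

set_option autoImplicit false

open Finset Matrix

namespace Groth.Agent.Lib.Helper29.CompGrpDet

universe u

variable {V E : Type u} [Fintype V] [Fintype E] [DecidableEq V] [DecidableEq E]

theorem mf_symm (ends : E → V × V) (β : V → ℤ) (v w : V) :
    LabGraph.mfMatrix ends β v w = LabGraph.mfMatrix ends β w v := by
  by_cases h : v = w
  · subst h; rfl
  · have h' : ¬ w = v := fun h'' => h h''.symm
    have e1 : LabGraph.mfMatrix ends β v w = (LabGraph.edgeMult ends v w : ℤ) := if_neg h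
    have e2 : LabGraph.mfMatrix ends β w v = (LabGraph.edgeMult ends w v : ℤ) := if_neg h'
    rw [e1, e2, LabGraph.edgeMult, LabGraph.edgeMult]
    have : (univ.filter fun e : E => ends e = (v, w) ∨ ends e = (w, v)) =
        (univ.filter fun e : E => ends e = (w, v) ∨ ends e = (v, w)) :=
      Finset.filter_congr fun e _ => or_comm
    rw [this]

theorem mf_mulVec_beta (ends : E → V × V) (β : V → ℤ) (hβ : LabGraph.IsMultFn ends β) (v : V) :
    ∑ w, LabGraph.mfMatrix ends β v w * β w = 0 := by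
  rw [← Finset.add_sum_erase univ _ (Finset.mem_univ v)]
  have h0 : LabGraph.mfMatrix ends β v v =
      -(∑ u ∈ univ.erase v, β u * (LabGraph.edgeMult ends v u : ℤ)) / β v := if_pos rfl
  have h1 : LabGraph.mfMatrix ends β v v * β v =
      -(∑ u ∈ univ.erase v, β u * (LabGraph.edgeMult ends v u : ℤ)) := by
    rw [h0]
    exact Int.ediv_mul_cancel ((dvd_neg).mpr (hβ v).2)
  have h2 : ∑ w ∈ univ.erase v, LabGraph.mfMatrix ends β v w * β w =
      ∑ u ∈ univ.erase v, β u * (LabGraph.edgeMult ends v u : ℤ) := by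
    refine Finset.sum_congr rfl fun w hw => ?_
    have hne : ¬ v = w := fun h => (Finset.ne_of_mem_erase hw) h.symm
    have e1 : LabGraph.mfMatrix ends β v w = (LabGraph.edgeMult ends v w : ℤ) := if_neg hne
    rw [e1]; ring
  rw [h1, h2]; ring

/-- the square matrix `M = -α + u uᵀ` -/
def Mmat (ends : E → V × V) (β u : V → ℤ) : Matrix V V ℤ :=
  Matrix.of fun v w => -LabGraph.mfMatrix ends β v w + u v * u w

theorem Mmat_mulVec (ends : E → V × V) (β u x : V → ℤ) :
    Mmat ends β u *ᵥ x = -(LabGraph.mfMatrix ends β *ᵥ x) + (u ⬝ᵥ x) • u := by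
  funext v
  show ∑ w, (-LabGraph.mfMatrix ends β v w + u v * u w) * x w
    = -(∑ w, LabGraph.mfMatrix ends β v w * x w) + (∑ w, u w * x w) * u v
  rw [← Finset.sum_neg_distrib, Finset.sum_mul, ← Finset.sum_add_distrib]
  exact Finset.sum_congr rfl fun w _ => by ring

/-- projection onto `ker β` along `u` -/
def proj0 (r u : V → ℤ) : (V → ℤ) →ₗ[ℤ] (V → ℤ) :=
  LinearMap.id - (LabGraph.betaHom r).smulRight u

theorem proj0_apply (r u y : V → ℤ) : proj0 r u y = y - (r ⬝ᵥ y) • u := by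
  simp [proj0, LabGraph.betaHom, Fintype.linearCombination_apply, dotProduct, mul_comm]

def projK (β r u : V → ℤ)
    (h : ∀ y, proj0 r u y ∈ LinearMap.ker (LabGraph.betaHom β)) :
    (V → ℤ) →ₗ[ℤ] LinearMap.ker (LabGraph.betaHom β) :=
  LinearMap.codRestrict _ (proj0 r u) h

def Psi (ends : E → V × V) (β r u : V → ℤ)
    (h : ∀ y, proj0 r u y ∈ LinearMap.ker (LabGraph.betaHom β)) :
    (V → ℤ) →ₗ[ℤ] LabGraph.CompGrp ends β :=
  (Submodule.mkQ _).comp (projK β r u h)

theorem Psi_eq_zero_iff (ends : E → V × V) (β r u : V → ℤ)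
    (h : ∀ y, proj0 r u y ∈ LinearMap.ker (LabGraph.betaHom β)) (y : V → ℤ) :
    Psi ends β r u h y = 0 ↔ ∃ x, LabGraph.mfMatrix ends β *ᵥ x = proj0 r u y := by
  unfold Psi
  rw [LinearMap.comp_apply, Submodule.mkQ_apply, Submodule.Quotient.mk_eq_zero,
    Submodule.mem_comap, LinearMap.mem_range]
  rfl

theorem Psi_surjective (ends : E → V × V) (β r u : V → ℤ)
    (h : ∀ y, proj0 r u y ∈ LinearMap.ker (LabGraph.betaHom β))
    (hfix : ∀ k : LinearMap.ker (LabGraph.betaHom β), proj0 r u k.1 = k.1) :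
    Function.Surjective (Psi ends β r u h) := by
  intro q
  obtain ⟨k, rfl⟩ := Submodule.mkQ_surjective _ q
  refine ⟨k.1, ?_⟩
  unfold Psi
  rw [LinearMap.comp_apply]
  congr 1
  exact Subtype.ext (hfix k)

theorem ker_Psi (ends : E → V × V) (β r u : V → ℤ)
    (h : ∀ y, proj0 r u y ∈ LinearMap.ker (LabGraph.betaHom β))
    (hαr : LabGraph.mfMatrix ends β *ᵥ r = 0) (hrα : r ᵥ* LabGraph.mfMatrix ends β = 0)
    (hur : u ⬝ᵥ r = 1) (hru : r ⬝ᵥ u = 1) :
    LinearMap.ker (Psi ends β r u h) = LinearMap.range (Matrix.toLin' (Mmat ends β u)) := by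
  ext y
  rw [LinearMap.mem_ker, Psi_eq_zero_iff, LinearMap.mem_range]
  constructor
  · rintro ⟨x, hx⟩
    refine ⟨-x + (u ⬝ᵥ x + r ⬝ᵥ y) • r, ?_⟩
    rw [Matrix.toLin'_apply, Mmat_mulVec, Matrix.mulVec_add, Matrix.mulVec_neg,
      Matrix.mulVec_smul, hαr, smul_zero, add_zero, neg_neg, hx, proj0_apply, dotProduct_add,
      dotProduct_neg, dotProduct_smul, hur, smul_eq_mul, mul_one, neg_add_cancel_left]
    exact sub_add_cancel _ _
  · rintro ⟨x, rfl⟩
    refine ⟨-x, ?_⟩
    rw [Matrix.toLin'_apply, Mmat_mulVec, proj0_apply, Matrix.mulVec_neg, dotProduct_add,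
      dotProduct_neg, dotProduct_smul, Matrix.dotProduct_mulVec, hrα, zero_dotProduct, neg_zero,
      zero_add, hru, smul_eq_mul, mul_one]
    abel

theorem card_compGrp [Nonempty V] (ends : E → V × V) (β : V → ℤ)
    (hβ : LabGraph.IsMultFn ends β) (u : V → ℤ) (hu : ∑ v, β v * u v = univ.gcd β)
    (hdet : (Mmat ends β u).det ≠ 0) :
    Nat.card (LabGraph.CompGrp ends β) = (Mmat ends β u).det.natAbs := by
  obtain ⟨v0⟩ := ‹Nonempty V›
  have hg0 : (univ.gcd β : ℤ) ≠ 0 := by
    intro h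
    rw [Finset.gcd_eq_zero_iff] at h
    exact (hβ v0).1.ne' (h v0 (Finset.mem_univ _))
  have hdvd : ∀ v, (univ.gcd β : ℤ) ∣ β v := fun v => Finset.gcd_dvd (Finset.mem_univ v)
  choose r hr using hdvd
  have hru : r ⬝ᵥ u = 1 := by
    have h1 : (univ.gcd β : ℤ) * (r ⬝ᵥ u) = ∑ v, β v * u v := by
      rw [dotProduct, Finset.mul_sum]
      exact Finset.sum_congr rfl fun v _ => by rw [hr v]; ring
    have h2 : (univ.gcd β : ℤ) * (r ⬝ᵥ u) = univ.gcd β * 1 := by rw [h1, hu, mul_one]
    exact mul_left_cancel₀ hg0 h2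
  have hur : u ⬝ᵥ r = 1 := by rw [dotProduct_comm]; exact hru
  have hαr : LabGraph.mfMatrix ends β *ᵥ r = 0 := by
    funext v
    have h1 : (univ.gcd β : ℤ) * ((LabGraph.mfMatrix ends β *ᵥ r) v) = 0 := by
      calc (univ.gcd β : ℤ) * ((LabGraph.mfMatrix ends β *ᵥ r) v)
          = ∑ w, LabGraph.mfMatrix ends β v w * β w := by
            show (univ.gcd β : ℤ) * ∑ w, LabGraph.mfMatrix ends β v w * r w = _
            rw [Finset.mul_sum]
            exact Finset.sum_congr rfl fun w _ => by rw [hr w]; ring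
        _ = 0 := mf_mulVec_beta ends β hβ v
    exact (mul_eq_zero.mp h1).resolve_left hg0
  have hrα : r ᵥ* LabGraph.mfMatrix ends β = 0 := by
    funext w
    calc (r ᵥ* LabGraph.mfMatrix ends β) w
        = ∑ v, LabGraph.mfMatrix ends β w v * r v := by
          show ∑ v, r v * LabGraph.mfMatrix ends β v w = _
          exact Finset.sum_congr rfl fun v _ => by rw [mf_symm ends β v w]; ring
      _ = 0 := congrFun hαr w
  have hβρ : ∀ y : V → ℤ, LabGraph.betaHom β y = univ.gcd β * (r ⬝ᵥ y) := by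
    intro y
    rw [LabGraph.betaHom, Fintype.linearCombination_apply, dotProduct, Finset.mul_sum]
    exact Finset.sum_congr rfl fun v _ => by rw [smul_eq_mul, hr v]; ring
  have hπmem : ∀ y, proj0 r u y ∈ LinearMap.ker (LabGraph.betaHom β) := by
    intro y
    rw [LinearMap.mem_ker, hβρ, proj0_apply, dotProduct_sub, dotProduct_smul, hru, smul_eq_mul,
      mul_one, sub_self, mul_zero]
  have hfix : ∀ k : LinearMap.ker (LabGraph.betaHom β), proj0 r u k.1 = k.1 := by
    intro k
    have hk : r ⬝ᵥ k.1 = 0 := by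
      have := k.2
      rw [LinearMap.mem_ker, hβρ] at this
      exact (mul_eq_zero.mp this).resolve_left hg0
    rw [proj0_apply, hk, zero_smul, sub_zero]
  have hsurj := Psi_surjective ends β r u hπmem hfix
  have hker := ker_Psi ends β r u hπmem hαr hrα hur hru
  have e1 : ((V → ℤ) ⧸ LinearMap.ker (Psi ends β r u hπmem)) ≃ₗ[ℤ] LabGraph.CompGrp ends β :=
    (Psi ends β r u hπmem).quotKerEquivOfSurjective hsurj
  rw [← Nat.card_congr e1.toEquiv, hker]
  have hinj : Function.Injective (Matrix.toLin' (Mmat ends β u)) := by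
    rw [← LinearMap.ker_eq_bot, LinearMap.ker_eq_bot']
    intro x hx
    rw [Matrix.toLin'_apply] at hx
    exact Matrix.eq_zero_of_mulVec_eq_zero hdet hx
  have h2 := Submodule.natAbs_det_equiv (LinearMap.range (Matrix.toLin' (Mmat ends β u)))
    (LinearEquiv.ofInjective (Matrix.toLin' (Mmat ends β u)) hinj)
  rw [← h2]
  congr 1
  rw [← LinearMap.det_toLin' (Mmat ends β u)]
  congr 1

end Groth.Agent.Lib.Helper29.CompGrpDet
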