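import Mathlib
import Groth.Prelude.Def_BigSite
import Groth.Prelude.Def_CGrpSh
import Groth.Agent.Lib.Helper22.SmoothRed

/-!
# Points of a finite group scheme with connected fibres vanish on reduced test schemes (S13951)
-/
set_option autoImplicit false
set_option maxHeartbeats 1600000
set_option linter.style.haveILetI false
universe u
open CategoryTheory CategoryTheory.Limits AlgebraicGeometry Opposite MonObj
open CartesianMonoidalCategory

noncomputable section

namespace Groth.Agent.Lib.Helper29.ConnFinZero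

theorem fiber_subsingleton {X Y : Scheme.{u}} (f : X ⟶ Y) [IsFinite f] (y : Y)
    [ConnectedSpace ↥(f.fiber y)] : Subsingleton ↥(f.fiber y) := by
  haveI : LocallyQuasiFinite f := inferInstance
  haveI : DiscreteTopology ↥(f.fiber y) := inferInstance
  exact PreconnectedSpace.trivial_of_discrete

theorem eq_of_same_fiber {X Y : Scheme.{u}} (f : X ⟶ Y) [IsFinite f] (y : Y)
    [ConnectedSpace ↥(f.fiber y)] (z z' : X) (hz : f z = y) (hz' : f z' = y) : z = z' := by
  haveI := fiber_subsingleton f y
  have h1 : z ∈ Set.range (f.fiberι y) := by rw [Scheme.Hom.range_fiberι]; exact hz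
  have h2 : z' ∈ Set.range (f.fiberι y) := by rw [Scheme.Hom.range_fiberι]; exact hz'
  obtain ⟨w, hw⟩ := h1
  obtain ⟨w', hw'⟩ := h2
  rw [← hw, ← hw', Subsingleton.elim w w']

theorem section_eq_one (S : Scheme.{u}) (I : Over S) [GrpObj I] [IsFinite I.hom]
    (hconn : ∀ s : S, ConnectedSpace ↥(I.hom.fiber s))
    (U : Over S) [IsReduced U.left] (σ : U ⟶ I) : σ = 1 := by
  let e : S ⟶ I.left := (η[I]).left
  have he : e ≫ I.hom = 𝟙 S := Over.w η[I]
  haveI : IsClosedImmersion (e ≫ I.hom) := by rw [he]; infer_instance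
  haveI : IsClosedImmersion e := IsClosedImmersion.of_comp e I.hom
  haveI : Surjective e := ⟨fun z => ⟨I.hom z, by
    haveI := hconn (I.hom z)
    refine eq_of_same_fiber I.hom (I.hom z) _ _ ?_ rfl
    rw [← Scheme.Hom.comp_apply, he]
    rfl⟩⟩
  let p₁ : pullback σ.left e ⟶ U.left := pullback.fst σ.left e
  haveI : IsClosedImmersion p₁ := by dsimp only [p₁]; infer_instance
  haveI : Surjective p₁ := by dsimp only [p₁]; infer_instance
  haveI : IsIso p₁ := isIso_of_isClosedImmersion_of_surjective p₁
  let τ : U.left ⟶ S := inv p₁ ≫ pullback.snd σ.left e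
  have hτ : τ ≫ e = σ.left := by
    dsimp only [τ, p₁]
    rw [Category.assoc, ← pullback.condition, IsIso.inv_hom_id_assoc]
  have hτ2 : τ = U.hom := by
    calc τ = τ ≫ e ≫ I.hom := by rw [he, Category.comp_id]
      _ = σ.left ≫ I.hom := by rw [← Category.assoc, hτ]
      _ = U.hom := Over.w σ
  apply Over.OverMorphism.ext
  rw [← hτ, hτ2, Hom.one_def, Over.comp_left, Over.toUnit_left]

theorem pts_eq_zero (S : Scheme.{u}) (I : Over S) [GrpObj I] [IsCommMonObj I] [IsFinite I.hom]
    (hconn : ∀ s : S, ConnectedSpace ↥(I.hom.fiber s))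
    (T : Over S) [IsReduced T.left] (x : (CGrpSh.ptsPre I).obj (op T)) : x = 0 := by
  apply ULift.ext
  have h := section_eq_one S I hconn T x.down.toMul
  calc x.down = Additive.ofMul x.down.toMul := rfl
    _ = Additive.ofMul 1 := by rw [h]
    _ = 0 := rfl

theorem main13951 (S : Scheme.{u}) [IsReduced S]
    (I : Over S) [GrpObj I] [IsCommMonObj I] [IsFinite I.hom] [Flat I.hom]
    [LocallyOfFinitePresentation I.hom]
    (hconn : ∀ s : S, ConnectedSpace ↥(I.hom.fiber s)) :
    IsZero ((BigSite.resEt Scheme.fppfPrecoverage S).obj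
      (CGrpSh.pts Scheme.fppfPrecoverage I)) := by
  rw [IsZero.iff_id_eq_zero]
  apply Sheaf.hom_ext
  apply NatTrans.ext
  funext U
  apply AddCommGrpCat.hom_ext
  apply AddMonoidHom.ext
  intro x
  haveI : Etale (U.unop).hom := (U.unop).prop
  haveI hr : IsReduced (U.unop).left :=
    Groth.Agent.Lib.Helper22.SmoothRed.isReduced_of_smooth (X := (U.unop).left) (Y := S) (U.unop).hom
  haveI : IsReduced ((EtFppf.a S).obj U.unop).left := hr
  have h1 : x = 0 := pts_eq_zero S I hconn ((EtFppf.a S).obj U.unop) x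
  rw [h1]
  exact (map_zero _).trans (map_zero _).symm

end Groth.Agent.Lib.Helper29.ConnFinZero
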