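import Mathlib

/-!
# Injectivity of the conormal map of a square-zero extension (helper29)

`cc_injective`: for a reduced ring `B` over `A`, smooth at all minimal primes, and an extension
`P` of `B` over `A` with square-zero kernel and projective cotangent module, the conormal map
`P.cotangentComplex` is injective.
-/

set_option autoImplicit false
universe u

namespace Helper29.Conormal

open TensorProduct

section loc
variable {A B : Type u} [CommRing A] [CommRing B] [Algebra A B]
variable (P : Algebra.Extension.{u} A B)
variable (M : Submonoid B) (S' : Type u) [CommRing S'] [Algebra B S'] [IsLocalization M S']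
  [Algebra A S'] [IsScalarTower A B S']

/-- the canonical hom from `P` to its localization -/
noncomputable def toLoc : P.Hom (P.localization M (S' := S')) where
  toRingHom := algebraMap P.Ring (Localization (M.comap (algebraMap P.Ring B)))
  toRingHom_algebraMap x :=
    (IsScalarTower.algebraMap_apply A P.Ring (Localization (M.comap (algebraMap P.Ring B))) x).symm
  algebraMap_toRingHom x :=
    IsLocalization.lift_eq (S := Localization (M.comap (algebraMap P.Ring B))) _ x

/-- the structure map of the localized extension, on the explicit localization -/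
noncomputable def phi : Localization (M.comap (algebraMap P.Ring B)) →+* S' :=
  algebraMap (P.localization M (S' := S')).Ring S'

theorem phi_alg (y : P.Ring) :
    phi P M S' (algebraMap P.Ring (Localization (M.comap (algebraMap P.Ring B))) y)
      = algebraMap B S' (algebraMap P.Ring B y) :=
  (toLoc P M S').algebraMap_toRingHom y

theorem ker_loc_form (r : Localization (M.comap (algebraMap P.Ring B)))
    (hr : phi P M S' r = 0) :
    ∃ i ∈ P.ker, ∃ t : M.comap (algebraMap P.Ring B),
      r = IsLocalization.mk' (Localization (M.comap (algebraMap P.Ring B))) i t := by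
  obtain ⟨e, t, rfl⟩ := IsLocalization.exists_mk'_eq (M.comap (algebraMap P.Ring B)) r
  have h0 : algebraMap B S' (algebraMap P.Ring B e) = 0 := by
    rw [← phi_alg P M S', ← IsLocalization.mk'_spec (Localization (M.comap (algebraMap P.Ring B))) e t,
      map_mul, hr, zero_mul]
  obtain ⟨m, hm⟩ := (IsLocalization.map_eq_zero_iff M S' _).mp h0
  have ht' : P.σ (m : B) ∈ M.comap (algebraMap P.Ring B) := by
    rw [Submonoid.mem_comap, P.algebraMap_σ]; exact m.2
  refine ⟨e * P.σ (m : B), ?_, t * ⟨P.σ (m : B), ht'⟩, ?_⟩
  · rw [RingHom.mem_ker, map_mul, P.algebraMap_σ, mul_comm]; exact hm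
  · exact (IsLocalization.mk'_cancel e t ⟨P.σ (m : B), ht'⟩).symm

theorem ker_mul (a b : Localization (M.comap (algebraMap P.Ring B))) (hsq : P.ker ^ 2 = ⊥)
    (ha : phi P M S' a = 0) (hb : phi P M S' b = 0) : a * b = 0 := by
  obtain ⟨i, hi, t, rfl⟩ := ker_loc_form P M S' a ha
  obtain ⟨i', hi', t', rfl⟩ := ker_loc_form P M S' b hb
  have h0 : i * i' = 0 := by
    have : i * i' ∈ P.ker ^ 2 := by rw [pow_two]; exact Ideal.mul_mem_mul hi hi'
    rwa [hsq, Ideal.mem_bot] at this
  rw [← IsLocalization.mk'_mul, h0, IsLocalization.mk'_zero]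

theorem loc_ker_sq (hsq : P.ker ^ 2 = ⊥) : (P.localization M (S' := S')).ker ^ 2 = ⊥ := by
  rw [eq_bot_iff, pow_two, Ideal.mul_le]
  intro r hr s hs
  rw [Ideal.mem_bot]
  exact ker_mul P M S' r s hsq (RingHom.mem_ker.mp hr) (RingHom.mem_ker.mp hs)

theorem loc_lemma (hsq : P.ker ^ 2 = ⊥) [Algebra.FormallySmooth A S']
    (x : P.ker) (hx : P.cotangentComplex (Algebra.Extension.Cotangent.mk x) = 0) :
    ∃ t : P.Ring, algebraMap P.Ring B t ∈ M ∧ t * (x : P.Ring) = 0 := by
  have hQ : (RingHom.ker (algebraMap (P.localization M (S' := S')).Ring S')) ^ 2 = ⊥ :=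
    loc_ker_sq P M S' hsq
  have hQn : IsNilpotent (RingHom.ker
      ((IsScalarTower.toAlgHom A (P.localization M (S' := S')).Ring S' :
        (P.localization M (S' := S')).Ring →ₐ[A] S') :
        (P.localization M (S' := S')).Ring →+* S')) := ⟨2, hQ⟩
  have hg : (IsScalarTower.toAlgHom A (P.localization M (S' := S')).Ring S').comp
      (Algebra.FormallySmooth.liftOfSurjective (AlgHom.id A S')
        (IsScalarTower.toAlgHom A (P.localization M (S' := S')).Ring S')
        (P.localization M (S' := S')).algebraMap_surjective hQn) = AlgHom.id A S' :=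
    Algebra.FormallySmooth.comp_liftOfSurjective _ _ _ _
  have h1 : (1 : S') ⊗ₜ[(P.localization M (S' := S')).Ring]
      KaehlerDifferential.D A (P.localization M (S' := S')).Ring
        ((toLoc P M S').toAlgHom (x : P.Ring)) = 0 := by
    have := congrArg (Algebra.Extension.CotangentSpace.map (toLoc P M S')) hx
    rw [Algebra.Extension.cotangentComplex_mk, Algebra.Extension.CotangentSpace.map_tmul,
      map_one, map_zero] at this
    exact this
  have h2 := congrArg Subtype.val (congrArg (retractionOfSectionOfKerSqZero _ hQ hg) h1)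
  rw [retractionOfSectionOfKerSqZero_tmul_D] at h2
  have h3 : algebraMap (P.localization M (S' := S')).Ring S'
      ((toLoc P M S').toAlgHom (x : P.Ring)) = 0 := by
    rw [Algebra.Extension.Hom.toAlgHom_apply, (toLoc P M S').algebraMap_toRingHom,
      RingHom.mem_ker.mp x.2, map_zero]
  rw [h3, map_zero, mul_zero, sub_zero, map_one, one_mul, map_zero] at h2
  have h4 : algebraMap P.Ring (Localization (M.comap (algebraMap P.Ring B))) (x : P.Ring) = 0 := h2
  obtain ⟨m, hm⟩ := (IsLocalization.map_eq_zero_iff (M.comap (algebraMap P.Ring B)) _ _).mp h4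
  exact ⟨m, m.2, hm⟩

end loc

theorem red_lemma {B : Type u} [CommRing B] [IsReduced B]
    {N : Type u} [AddCommGroup N] [Module B N] [Module.Projective B N]
    (x : N) (h : ∀ p : PrimeSpectrum B, p.asIdeal ∈ minimalPrimes B →
      ∃ t : B, t ∉ p.asIdeal ∧ t • x = 0) : x = 0 := by
  obtain ⟨s, hs⟩ := Module.projective_def'.mp (inferInstance : Module.Projective B N)
  have hs' : ∀ y : N, Finsupp.linearCombination B id (s y) = y := fun y => LinearMap.congr_fun hs y
  have h0 : s x = 0 := by
    ext m
    rw [Finsupp.zero_apply]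
    have hmem : s x m ∈ sInf (minimalPrimes B) := by
      rw [Ideal.mem_sInf]
      intro p hp
      have hpp : Ideal.IsPrime p := hp.1.1
      obtain ⟨t, ht, htx⟩ := h ⟨p, hpp⟩ hp
      have h1 : t * s x m = 0 := by
        have h2 : s (t • x) m = t * s x m := by rw [map_smul]; rfl
        rw [← h2, htx, map_zero, Finsupp.zero_apply]
      exact (hpp.mem_or_mem (h1 ▸ p.zero_mem)).resolve_left ht
    rw [minimalPrimes, Ideal.sInf_minimalPrimes] at hmem
    have hrad : (⊥ : Ideal B).radical = ⊥ := by
      have := nilradical_eq_zero B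
      rwa [nilradical, Ideal.zero_eq_bot] at this
    rwa [hrad, Ideal.mem_bot] at hmem
  rw [← hs' x, h0, map_zero]

theorem cc_injective
    {A B : Type u} [CommRing A] [CommRing B] [Algebra A B] [IsReduced B]
    (hsm : ∀ p : PrimeSpectrum B, p.asIdeal ∈ minimalPrimes B → Algebra.IsSmoothAt A p.asIdeal)
    (P : Algebra.Extension.{u} A B) (hsq : P.ker ^ 2 = ⊥)
    [Module.Projective B P.Cotangent] :
    Function.Injective P.cotangentComplex := by
  rw [injective_iff_map_eq_zero]
  intro x hx
  apply red_lemma (B := B) x
  intro p hp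
  haveI : Algebra.FormallySmooth A (Localization.AtPrime p.asIdeal) := hsm p hp
  obtain ⟨x', rfl⟩ := Algebra.Extension.Cotangent.mk_surjective x
  obtain ⟨t, ht, htx⟩ := loc_lemma P p.asIdeal.primeCompl (Localization.AtPrime p.asIdeal) hsq x' hx
  refine ⟨algebraMap P.Ring B t, ht, ?_⟩
  have h5 : algebraMap P.Ring B t • (Algebra.Extension.Cotangent.mk x' : P.Cotangent)
      = Algebra.Extension.Cotangent.mk (t • x') := by
    rw [LinearMap.map_smul, algebraMap_smul]
  have h6 : t • x' = 0 := Subtype.ext (by simpa using htx)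
  rw [h5, h6, map_zero]

end Helper29.Conormal
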