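import Mathlib

set_option autoImplicit false
universe v u w
open CategoryTheory CategoryTheory.Limits

namespace Groth.Agent.Lib.Helper29.Cosheaf

variable {C : Type u} [Category.{v} C] [HasPullbacks C]

/-- the cosheaf condition of S18884 -/
def IsCosh (W : MorphismProperty C) (F : C ⥤ AddCommGrpCat.{w}) : Prop :=
  ∀ ⦃Y X : C⦄ (π : Y ⟶ X), W π → Function.Surjective (F.map π).hom ∧
    (F.map π).hom.ker = ((F.map (pullback.fst π π)).hom - (F.map (pullback.snd π π)).hom).range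

lemma map_comp_apply (F : C ⥤ AddCommGrpCat.{w}) {X Y Z : C} (f : X ⟶ Y) (g : Y ⟶ Z)
    (x : F.obj X) :
    (F.map (f ≫ g)).hom x = (F.map g).hom ((F.map f).hom x) := by
  rw [F.map_comp]; rfl

lemma nat_apply {F G : C ⥤ AddCommGrpCat.{w}} (α : F ⟶ G) {X Y : C} (f : X ⟶ Y) (x : F.obj X) :
    (α.app Y).hom ((F.map f).hom x) = (G.map f).hom ((α.app X).hom x) := by
  have h := congrArg (fun φ => φ.hom x) (α.naturality f)
  exact h

lemma tau_nat (D : ObjectProperty C) (F G : C ⥤ AddCommGrpCat.{w}) (τ : D.ι ⋙ F ⟶ D.ι ⋙ G)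
    {Z Y : C} (hZ : D Z) (hY : D Y) (g : Z ⟶ Y) (z : F.obj Z) :
    (τ.app ⟨Y, hY⟩).hom ((F.map g).hom z) = (G.map g).hom ((τ.app ⟨Z, hZ⟩).hom z) := by
  have h := τ.naturality (ObjectProperty.homMk g : (⟨Z, hZ⟩ : D.FullSubcategory) ⟶ ⟨Y, hY⟩)
  have h2 := congrArg (fun φ => φ.hom z) h
  exact h2

lemma ker_le (W : MorphismProperty C) [W.IsStableUnderBaseChange] [W.IsStableUnderComposition]
    (D : ObjectProperty C) (hD : ∀ X : C, ∃ (Y : C) (π : Y ⟶ X), W π ∧ D Y)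
    (F G : C ⥤ AddCommGrpCat.{w}) (hF : IsCosh W F)
    (τ : D.ι ⋙ F ⟶ D.ι ⋙ G) {Y X : C} (π : Y ⟶ X) (hπ : W π) (hY : D Y) :
    (F.map π).hom.ker ≤ ((G.map π).hom.comp (τ.app ⟨Y, hY⟩).hom).ker := by
  intro y hy
  rw [(hF π hπ).2] at hy
  obtain ⟨z, rfl⟩ := AddMonoidHom.mem_range.mp hy
  obtain ⟨Z, ρ, hρ, hZ⟩ := hD (pullback π π)
  obtain ⟨w, rfl⟩ := (hF ρ hρ).1 z
  have hc : (ρ ≫ pullback.fst π π) ≫ π = (ρ ≫ pullback.snd π π) ≫ π := by
    rw [Category.assoc, Category.assoc, pullback.condition]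
  rw [AddMonoidHom.mem_ker, AddMonoidHom.comp_apply, AddMonoidHom.sub_apply, map_sub, map_sub]
  rw [← map_comp_apply F ρ (pullback.fst π π) w, ← map_comp_apply F ρ (pullback.snd π π) w]
  rw [tau_nat D F G τ hZ hY, tau_nat D F G τ hZ hY]
  rw [← map_comp_apply G (ρ ≫ pullback.fst π π) π ((τ.app ⟨Z, hZ⟩).hom w),
    ← map_comp_apply G (ρ ≫ pullback.snd π π) π ((τ.app ⟨Z, hZ⟩).hom w), hc, sub_self]

lemma exists_hom (W : MorphismProperty C) [W.IsStableUnderBaseChange] [W.IsStableUnderComposition]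
    (D : ObjectProperty C) (hD : ∀ X : C, ∃ (Y : C) (π : Y ⟶ X), W π ∧ D Y)
    (F G : C ⥤ AddCommGrpCat.{w}) (hF : IsCosh W F)
    (τ : D.ι ⋙ F ⟶ D.ι ⋙ G) (X : C) :
    ∃ a : F.obj X →+ G.obj X, ∀ (Y : C) (hY : D Y) (g : Y ⟶ X) (y : F.obj Y),
      a ((F.map g).hom y) = (G.map g).hom ((τ.app ⟨Y, hY⟩).hom y) := by
  obtain ⟨Y0, π0, hπ0, hY0⟩ := hD X
  have hs : Function.Surjective (F.map π0).hom := (hF π0 hπ0).1
  have hker := ker_le W D hD F G hF τ π0 hπ0 hY0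
  refine ⟨(F.map π0).hom.liftOfRightInverse (Function.surjInv hs)
    (Function.rightInverse_surjInv hs) ⟨(G.map π0).hom.comp (τ.app ⟨Y0, hY0⟩).hom, hker⟩, ?_⟩
  have ha : ∀ y0 : F.obj Y0, ((F.map π0).hom.liftOfRightInverse (Function.surjInv hs)
      (Function.rightInverse_surjInv hs) ⟨(G.map π0).hom.comp (τ.app ⟨Y0, hY0⟩).hom, hker⟩)
        ((F.map π0).hom y0) = (G.map π0).hom ((τ.app ⟨Y0, hY0⟩).hom y0) := fun y0 =>
    AddMonoidHom.liftOfRightInverse_comp_apply (F.map π0).hom (Function.surjInv hs)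
      (Function.rightInverse_surjInv hs) ⟨(G.map π0).hom.comp (τ.app ⟨Y0, hY0⟩).hom, hker⟩ y0
  generalize ((F.map π0).hom.liftOfRightInverse (Function.surjInv hs)
      (Function.rightInverse_surjInv hs) ⟨(G.map π0).hom.comp (τ.app ⟨Y0, hY0⟩).hom, hker⟩) = a
    at ha ⊢
  intro Y hY g y
  have hq1 : W (pullback.fst g π0) := W.pullback_fst g π0 hπ0
  obtain ⟨Z, ρ, hρ, hZ⟩ := hD (pullback g π0)
  have hρq : W (ρ ≫ pullback.fst g π0) := W.comp_mem _ _ hρ hq1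
  obtain ⟨w, rfl⟩ := (hF _ hρq).1 y
  have hcomm : (ρ ≫ pullback.fst g π0) ≫ g = (ρ ≫ pullback.snd g π0) ≫ π0 := by
    rw [Category.assoc, Category.assoc, pullback.condition]
  calc a ((F.map g).hom ((F.map (ρ ≫ pullback.fst g π0)).hom w))
      = a ((F.map ((ρ ≫ pullback.fst g π0) ≫ g)).hom w) := by
        rw [map_comp_apply F (ρ ≫ pullback.fst g π0) g w]
    _ = a ((F.map ((ρ ≫ pullback.snd g π0) ≫ π0)).hom w) := by rw [hcomm]
    _ = a ((F.map π0).hom ((F.map (ρ ≫ pullback.snd g π0)).hom w)) := by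
        rw [map_comp_apply F (ρ ≫ pullback.snd g π0) π0 w]
    _ = (G.map π0).hom ((τ.app ⟨Y0, hY0⟩).hom ((F.map (ρ ≫ pullback.snd g π0)).hom w)) := ha _
    _ = (G.map π0).hom ((G.map (ρ ≫ pullback.snd g π0)).hom ((τ.app ⟨Z, hZ⟩).hom w)) := by
        rw [tau_nat D F G τ hZ hY0]
    _ = (G.map ((ρ ≫ pullback.snd g π0) ≫ π0)).hom ((τ.app ⟨Z, hZ⟩).hom w) := by
        rw [map_comp_apply G (ρ ≫ pullback.snd g π0) π0]
    _ = (G.map ((ρ ≫ pullback.fst g π0) ≫ g)).hom ((τ.app ⟨Z, hZ⟩).hom w) := by rw [hcomm]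
    _ = (G.map g).hom ((G.map (ρ ≫ pullback.fst g π0)).hom ((τ.app ⟨Z, hZ⟩).hom w)) := by
        rw [map_comp_apply G (ρ ≫ pullback.fst g π0) g]
    _ = (G.map g).hom ((τ.app ⟨Y, hY⟩).hom ((F.map (ρ ≫ pullback.fst g π0)).hom w)) := by
        rw [tau_nat D F G τ hZ hY]

lemma exists_ext (W : MorphismProperty C) [W.IsStableUnderBaseChange] [W.IsStableUnderComposition]
    (D : ObjectProperty C) (hD : ∀ X : C, ∃ (Y : C) (π : Y ⟶ X), W π ∧ D Y)
    (F G : C ⥤ AddCommGrpCat.{w}) (hF : IsCosh W F)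
    (τ : D.ι ⋙ F ⟶ D.ι ⋙ G) :
    ∃ α : F ⟶ G, ∀ Y : D.FullSubcategory, α.app Y.obj = τ.app Y := by
  choose a ha using exists_hom W D hD F G hF τ
  refine ⟨{ app := fun X => AddCommGrpCat.ofHom (a X), naturality := ?_ }, ?_⟩
  · intro X X' f
    apply AddCommGrpCat.hom_ext
    apply AddMonoidHom.ext
    intro x
    show a X' ((F.map f).hom x) = (G.map f).hom (a X x)
    obtain ⟨Y0, π0, hπ0, hY0⟩ := hD X
    obtain ⟨y, rfl⟩ := (hF π0 hπ0).1 x
    rw [← map_comp_apply F π0 f y, ha X' Y0 hY0 (π0 ≫ f) y, ha X Y0 hY0 π0 y,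
      map_comp_apply G π0 f]
  · intro Y
    apply AddCommGrpCat.hom_ext
    apply AddMonoidHom.ext
    intro x
    show a Y.obj x = (τ.app Y).hom x
    have h := ha Y.obj Y.obj Y.property (𝟙 Y.obj) x
    rw [F.map_id, G.map_id] at h
    exact h

theorem main18884 {C : Type u} [Category.{v} C]
    [HasPullbacks C] (W : MorphismProperty C) [W.IsStableUnderBaseChange] [W.IsStableUnderComposition]
    (D : ObjectProperty C) (hD : ∀ X : C, ∃ (Y : C) (π : Y ⟶ X), W π ∧ D Y) :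
    (ObjectProperty.ι (fun F : C ⥤ AddCommGrpCat.{w} =>
        ∀ ⦃Y X : C⦄ (π : Y ⟶ X), W π → Function.Surjective (F.map π).hom ∧
          (F.map π).hom.ker = ((F.map (pullback.fst π π)).hom - (F.map (pullback.snd π π)).hom).range) ⋙
      (Functor.whiskeringLeft D.FullSubcategory C AddCommGrpCat.{w}).obj D.ι).Full ∧
    (ObjectProperty.ι (fun F : C ⥤ AddCommGrpCat.{w} =>
        ∀ ⦃Y X : C⦄ (π : Y ⟶ X), W π → Function.Surjective (F.map π).hom ∧
          (F.map π).hom.ker = ((F.map (pullback.fst π π)).hom - (F.map (pullback.snd π π)).hom).range) ⋙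
      (Functor.whiskeringLeft D.FullSubcategory C AddCommGrpCat.{w}).obj D.ι).Faithful := by
  refine ⟨⟨?_⟩, ⟨?_⟩⟩
  · intro X Y τ
    obtain ⟨α, hα⟩ := exists_ext W D hD X.obj Y.obj X.property τ
    refine ⟨ObjectProperty.homMk α, ?_⟩
    apply NatTrans.ext
    funext Z
    exact hα Z
  · intro X Y f g hfg
    apply ObjectProperty.hom_ext
    apply NatTrans.ext
    funext Z
    apply AddCommGrpCat.hom_ext
    apply AddMonoidHom.ext
    intro x
    obtain ⟨Y0, π0, hπ0, hY0⟩ := hD Z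
    obtain ⟨y, rfl⟩ := (X.property π0 hπ0).1 x
    have h0 : f.hom.app Y0 = g.hom.app Y0 :=
      congrArg (fun t => t.app (⟨Y0, hY0⟩ : D.FullSubcategory)) hfg
    rw [nat_apply f.hom π0 y, nat_apply g.hom π0 y, h0]

end Groth.Agent.Lib.Helper29.Cosheaf
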