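import Mathlib
import Groth.Agent.Lib.Helper25.CrimpLen

/-!
# Crimps of the trivial double cover of the formal disk (helper29)
-/

set_option autoImplicit false
open Module Polynomial
open scoped Pointwise
open Groth.Agent.Lib.Helper25.CrimpLen

namespace Groth.Agent.Lib.Helper29.CrimpDouble

universe u

section General
variable {A : Type*} [CommRing A]

/-- `A·1 + t·A²` -/
def Mn (t : A) : Submodule A (Fin 2 → A) :=
  Submodule.span A {(1 : Fin 2 → A)} ⊔ Ideal.span {t} • (⊤ : Submodule A (Fin 2 → A))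

theorem mem_Mn (t : A) (x : Fin 2 → A) : x ∈ Mn t ↔ t ∣ x 0 - x 1 := by
  unfold Mn
  rw [Submodule.ideal_span_singleton_smul]
  constructor
  · intro hx
    obtain ⟨y, hy, z, hz, rfl⟩ := Submodule.mem_sup.1 hx
    obtain ⟨c, rfl⟩ := Submodule.mem_span_singleton.1 hy
    obtain ⟨w, -, rfl⟩ := (Submodule.mem_smul_pointwise_iff_exists _ _ _).1 hz
    refine ⟨w 0 - w 1, ?_⟩
    simp only [Pi.add_apply, Pi.smul_apply, Pi.one_apply, smul_eq_mul]
    ring
  · rintro ⟨d, hd⟩
    have h10 : (1 : Fin 2) ≠ 0 := by decide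
    have hx : x = x 1 • (1 : Fin 2 → A) + t • (Pi.single 0 d : Fin 2 → A) := by
      refine funext (Fin.forall_fin_two.2 ⟨?_, ?_⟩)
      · simp only [Pi.add_apply, Pi.smul_apply, Pi.one_apply, smul_eq_mul, Pi.single_eq_same]
        linear_combination hd
      · simp only [Pi.add_apply, Pi.smul_apply, Pi.one_apply, smul_eq_mul,
          Pi.single_eq_of_ne h10, mul_zero, mul_one, add_zero]
    rw [hx]
    refine Submodule.add_mem_sup
      (Submodule.smul_mem _ _ (Submodule.mem_span_singleton_self _)) ?_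
    exact Submodule.smul_mem_pointwise_smul _ _ _ Submodule.mem_top

variable (A) in
/-- difference of the two coordinates -/
def delta : (Fin 2 → A) →ₗ[A] A where
  toFun x := x 0 - x 1
  map_add' x y := by simp only [Pi.add_apply]; ring
  map_smul' c x := by simp only [Pi.smul_apply, smul_eq_mul, RingHom.id_apply]; ring

theorem delta_apply (x : Fin 2 → A) : delta A x = x 0 - x 1 := rfl

theorem eq_Mn_of_map (t : A) (S : Subalgebra A (Fin 2 → A))
    (hJ : Submodule.map (delta A) (Subalgebra.toSubmodule S) = Ideal.span {t}) :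
    Subalgebra.toSubmodule S = Mn t := by
  ext x
  rw [mem_Mn]
  constructor
  · intro hx
    have h1 : delta A x ∈ Submodule.map (delta A) (Subalgebra.toSubmodule S) :=
      Submodule.mem_map_of_mem hx
    rw [hJ] at h1
    exact Ideal.mem_span_singleton.1 h1
  · intro hx
    have h1 : delta A x ∈ Submodule.map (delta A) (Subalgebra.toSubmodule S) := by
      rw [hJ]; exact Ideal.mem_span_singleton.2 hx
    obtain ⟨s, hs, hsx⟩ := Submodule.mem_map.1 h1
    have hsx' : s 0 - s 1 = x 0 - x 1 := hsx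
    have h2 : x = s + algebraMap A (Fin 2 → A) (x 1 - s 1) := by
      refine funext (Fin.forall_fin_two.2 ⟨?_, ?_⟩)
      · simp only [Pi.add_apply, Pi.algebraMap_apply, Algebra.algebraMap_self_apply]
        linear_combination -hsx'
      · simp only [Pi.add_apply, Pi.algebraMap_apply, Algebra.algebraMap_self_apply]
        ring
    rw [h2]
    exact Submodule.add_mem _ hs (S.algebraMap_mem _)

theorem trace_pi2 (x : Fin 2 → A) : Algebra.trace A (Fin 2 → A) x = x 0 + x 1 := by
  rw [Algebra.trace_eq_matrix_trace (Pi.basisFun A (Fin 2)), Matrix.trace_fin_two,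
    Algebra.leftMulMatrix_eq_repr_mul, Algebra.leftMulMatrix_eq_repr_mul]
  simp

theorem discr_std : Algebra.discr A (⇑(Pi.basisFun A (Fin 2))) = 1 := by
  have h : Algebra.traceMatrix A (⇑(Pi.basisFun A (Fin 2))) = 1 := by
    ext i j
    rw [Algebra.traceMatrix_apply, Algebra.traceForm_apply, trace_pi2, Pi.basisFun_apply,
      Pi.basisFun_apply]
    fin_cases i <;> fin_cases j <;> simp
  rw [Algebra.discr_def, h, Matrix.det_one]

end General

section Domain
variable {A : Type*} [CommRing A] [IsDomain A]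

theorem exists_basis (t : A) (ht : t ≠ 0) (S : Subalgebra A (Fin 2 → A))
    (hS : Subalgebra.toSubmodule S = Mn t) :
    ∃ bS : Basis (Fin 2) A S, (Q (Pi.basisFun A (Fin 2)) S bS).det = t := by
  have h10 : (1 : Fin 2) ≠ 0 := by decide
  have h1 : (1 : Fin 2 → A) ∈ S := S.one_mem
  have h2 : (Pi.single 0 t : Fin 2 → A) ∈ S := by
    have h : (Pi.single 0 t : Fin 2 → A) ∈ Subalgebra.toSubmodule S := by
      rw [hS, mem_Mn]
      refine ⟨1, ?_⟩
      rw [Pi.single_eq_same, Pi.single_eq_of_ne h10, sub_zero, mul_one]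
    exact h
  have hli : LinearIndependent A ![(⟨Pi.single 0 t, h2⟩ : S), ⟨1, h1⟩] := by
    rw [LinearIndependent.pair_iff]
    intro a c hac
    have h3 : a • (Pi.single 0 t : Fin 2 → A) + c • (1 : Fin 2 → A) = 0 :=
      congrArg Subtype.val hac
    have h31 : c = 0 := by
      have := congrFun h3 1
      simpa only [Pi.add_apply, Pi.smul_apply, Pi.one_apply, smul_eq_mul,
        Pi.single_eq_of_ne h10, mul_zero, mul_one, zero_add, Pi.zero_apply] using this
    have h30 : a * t = 0 := by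
      have := congrFun h3 0
      simpa only [Pi.add_apply, Pi.smul_apply, Pi.one_apply, smul_eq_mul,
        Pi.single_eq_same, h31, zero_mul, add_zero, Pi.zero_apply] using this
    exact ⟨(mul_eq_zero.1 h30).resolve_right ht, h31⟩
  have hsp : ⊤ ≤ Submodule.span A (Set.range ![(⟨Pi.single 0 t, h2⟩ : S), ⟨1, h1⟩]) := by
    rw [Submodule.top_le_span_range_iff_forall_exists_fun]
    intro x
    have hx : (x : Fin 2 → A) ∈ Mn t := by rw [← hS]; exact x.2
    rw [mem_Mn] at hx
    obtain ⟨d, hd⟩ := hx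
    refine ⟨![d, (x : Fin 2 → A) 1], ?_⟩
    rw [Fin.sum_univ_two]
    apply Subtype.ext
    have key : d • (Pi.single 0 t : Fin 2 → A) + (x : Fin 2 → A) 1 • (1 : Fin 2 → A)
        = (x : Fin 2 → A) := by
      refine funext (Fin.forall_fin_two.2 ⟨?_, ?_⟩)
      · simp only [Pi.add_apply, Pi.smul_apply, Pi.one_apply, smul_eq_mul, Pi.single_eq_same]
        linear_combination -hd
      · simp only [Pi.add_apply, Pi.smul_apply, Pi.one_apply, smul_eq_mul,
          Pi.single_eq_of_ne h10, mul_zero, mul_one, zero_add]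
    exact key
  refine ⟨Basis.mk hli hsp, ?_⟩
  rw [Q_eq, Matrix.det_fin_two]
  simp only [Basis.toMatrix_apply, Pi.basisFun_repr, Basis.coe_mk]
  show (Pi.single 0 t : Fin 2 → A) 0 * (1 : Fin 2 → A) 1
    - (1 : Fin 2 → A) 0 * (Pi.single 0 t : Fin 2 → A) 1 = t
  rw [Pi.single_eq_same, Pi.single_eq_of_ne h10, Pi.one_apply, Pi.one_apply, mul_one, mul_zero,
    sub_zero]

theorem map_ne_bot (S : Subalgebra A (Fin 2 → A)) (bS : Basis (Fin 2) A S) :
    Submodule.map (delta A) (Subalgebra.toSubmodule S) ≠ ⊥ := by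
  intro hbot
  apply detQ_ne_zero (Pi.basisFun A (Fin 2)) S bS
  apply Matrix.det_zero_of_row_eq (show (0 : Fin 2) ≠ 1 by decide)
  funext j
  rw [Q_eq, Basis.toMatrix_apply, Basis.toMatrix_apply, Pi.basisFun_repr, Pi.basisFun_repr]
  have h1 : delta A (bS j : Fin 2 → A) ∈ Submodule.map (delta A) (Subalgebra.toSubmodule S) :=
    Submodule.mem_map_of_mem (bS j).2
  rw [hbot, Submodule.mem_bot, delta_apply, sub_eq_zero] at h1
  exact h1

theorem len_eq [IsPrincipalIdealRing A] (S : Subalgebra A (Fin 2 → A)) (bS : Basis (Fin 2) A S) :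
    Module.length A ((Fin 2 → A) ⧸ Subalgebra.toSubmodule S) =
      Ring.ord A (Q (Pi.basisFun A (Fin 2)) S bS).det := by
  rw [length_quot_eq_ord_det (Pi.basisFun A (Fin 2)) (Subalgebra.toSubmodule S) bS,
    Module.Basis.det_apply, Q_eq]
  rfl

/-! ### Part (ii): the algebra isomorphism -/

/-- the generator `(t, -t)` -/
def gen (t : A) : Fin 2 → A := ![t, -t]

theorem gen_zero (t : A) : gen t 0 = t := rfl
theorem gen_one (t : A) : gen t 1 = -t := rfl

theorem gen_sq (t : A) : gen t ^ 2 = algebraMap A (Fin 2 → A) (t ^ 2) := by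
  refine funext (Fin.forall_fin_two.2 ⟨?_, ?_⟩)
  · rw [Pi.pow_apply, gen_zero, Pi.algebraMap_apply, Algebra.algebraMap_self_apply]
  · rw [Pi.pow_apply, gen_one, Pi.algebraMap_apply, Algebra.algebraMap_self_apply, neg_sq]

/-- the polynomial `y² - t²` -/
noncomputable abbrev fpoly (t : A) : A[X] := X ^ 2 - C (t ^ 2)

theorem aeval_gen (t : A) : aeval (gen t) (fpoly t) = 0 := by
  show aeval (gen t) (X ^ 2 - C (t ^ 2)) = 0
  rw [map_sub, map_pow, aeval_X, aeval_C, gen_sq, sub_self]

/-- the map `A[y]/(y²-t²) → A × A`, `y ↦ (t, -t)` -/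
noncomputable def phi0 (t : A) : AdjoinRoot (fpoly t) →ₐ[A] (Fin 2 → A) :=
  AdjoinRoot.liftAlgHom (fpoly t) (Algebra.ofId A (Fin 2 → A)) (gen t)
    (by rw [Algebra.toRingHom_ofId, ← aeval_def]; exact aeval_gen t)

theorem phi0_mk (t : A) (p : A[X]) :
    phi0 t (AdjoinRoot.mk (fpoly t) p) = aeval (gen t) p := by
  rw [phi0, AdjoinRoot.liftAlgHom_mk, aeval_def, Algebra.toRingHom_ofId]

theorem gen_mem (t : A) (S : Subalgebra A (Fin 2 → A))
    (hS : Subalgebra.toSubmodule S = Mn t) : gen t ∈ S := by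
  have h : gen t ∈ Subalgebra.toSubmodule S := by
    rw [hS, mem_Mn, gen_zero, gen_one]
    exact ⟨2, by ring⟩
  exact h

theorem range_phi0 (half : A) (hhalf : half * 2 = 1) (t : A) (S : Subalgebra A (Fin 2 → A))
    (hS : Subalgebra.toSubmodule S = Mn t) : (phi0 t).range = S := by
  apply le_antisymm
  · intro x hx
    obtain ⟨g, rfl⟩ := (AlgHom.mem_range _).1 hx
    obtain ⟨p, rfl⟩ := AdjoinRoot.mk_surjective g
    rw [phi0_mk]
    have h1 : aeval (gen t) p ∈ Algebra.adjoin A {gen t} :=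
      Polynomial.aeval_mem_adjoin_singleton A (gen t)
    have hle : Algebra.adjoin A {gen t} ≤ S :=
      Algebra.adjoin_le (Set.singleton_subset_iff.2 (gen_mem t S hS))
    exact hle h1
  · intro x hx
    have hx' : x ∈ Mn t := by rw [← hS]; exact hx
    rw [mem_Mn] at hx'
    obtain ⟨d, hd⟩ := hx'
    refine (AlgHom.mem_range _).2
      ⟨AdjoinRoot.mk (fpoly t) (C (x 1 + half * d * t) + C (half * d) * X), ?_⟩
    rw [phi0_mk, map_add, map_mul, aeval_C, aeval_C, aeval_X]
    refine funext (Fin.forall_fin_two.2 ⟨?_, ?_⟩)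
    · rw [Pi.add_apply, Pi.mul_apply, Pi.algebraMap_apply, Pi.algebraMap_apply,
        Algebra.algebraMap_self_apply, Algebra.algebraMap_self_apply, gen_zero]
      linear_combination (d * t) * hhalf - hd
    · rw [Pi.add_apply, Pi.mul_apply, Pi.algebraMap_apply, Pi.algebraMap_apply,
        Algebra.algebraMap_self_apply, Algebra.algebraMap_self_apply, gen_one]
      ring

theorem phi0_injective (half : A) (hhalf : half * 2 = 1) (t : A) (ht : t ≠ 0) :
    Function.Injective (phi0 t) := by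
  have h2 : (2 : A) ≠ 0 := by
    intro h
    rw [h, mul_zero] at hhalf
    exact zero_ne_one hhalf
  have hmonic : (fpoly t).Monic := monic_X_pow_sub_C _ (by norm_num)
  have hdeg : (fpoly t).natDegree = 2 := natDegree_X_pow_sub_C
  have hne1 : fpoly t ≠ 1 := by
    intro h
    have h' := congrArg natDegree h
    rw [hdeg, natDegree_one] at h'
    exact absurd h' (by norm_num)
  rw [injective_iff_map_eq_zero]
  intro g hg
  obtain ⟨p, rfl⟩ := AdjoinRoot.mk_surjective g
  have hp : AdjoinRoot.mk (fpoly t) p = AdjoinRoot.mk (fpoly t) (p %ₘ fpoly t) := by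
    have h := congrArg (AdjoinRoot.mk (fpoly t)) (modByMonic_add_div p (fpoly t))
    rw [map_add, map_mul, AdjoinRoot.mk_self, zero_mul, add_zero] at h
    exact h.symm
  rw [hp] at hg ⊢
  have hr : (p %ₘ fpoly t).natDegree ≤ 1 := by
    have h := natDegree_modByMonic_lt p hmonic hne1
    rw [hdeg] at h
    omega
  obtain ⟨c1, c0, hc⟩ := exists_eq_X_add_C_of_natDegree_le_one hr
  rw [hc] at hg ⊢
  rw [phi0_mk, map_add, map_mul, aeval_C, aeval_C, aeval_X] at hg
  have hg0 := congrFun hg 0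
  have hg1 := congrFun hg 1
  rw [Pi.add_apply, Pi.mul_apply, Pi.algebraMap_apply, Pi.algebraMap_apply,
    Algebra.algebraMap_self_apply, Algebra.algebraMap_self_apply, gen_zero, Pi.zero_apply] at hg0
  rw [Pi.add_apply, Pi.mul_apply, Pi.algebraMap_apply, Pi.algebraMap_apply,
    Algebra.algebraMap_self_apply, Algebra.algebraMap_self_apply, gen_one, Pi.zero_apply] at hg1
  have h3 : c1 * (2 * t) = 0 := by linear_combination hg0 - hg1
  have hc1 : c1 = 0 := by
    rcases mul_eq_zero.1 h3 with h | h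
    · exact h
    · exact absurd h (mul_ne_zero h2 ht)
  have hc0 : c0 = 0 := by
    rw [hc1, zero_mul, zero_add] at hg0
    exact hg0
  simp only [hc1, hc0, map_zero, zero_mul, zero_add]

theorem part_ii_general (half : A) (hhalf : half * 2 = 1) (t : A) (ht : t ≠ 0)
    (S : Subalgebra A (Fin 2 → A)) (hS : Subalgebra.toSubmodule S = Mn t) :
    Nonempty (S ≃ₐ[A] AdjoinRoot (X ^ 2 - C (t ^ 2) : A[X])) := by
  have e1 := AlgEquiv.ofInjective (phi0 t) (phi0_injective half hhalf t ht)
  have e2 := Subalgebra.equivOfEq _ _ (range_phi0 half hhalf t S hS)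
  exact ⟨(e1.trans e2).symm⟩

theorem part_ii_general' (half : A) (hhalf : half * 2 = 1) (t s : A) (hs : s = t ^ 2)
    (ht : t ≠ 0) (S : Subalgebra A (Fin 2 → A)) (hS : Subalgebra.toSubmodule S = Mn t) :
    Nonempty (S ≃ₐ[A] AdjoinRoot (X ^ 2 - C s : A[X])) := by
  subst hs
  exact part_ii_general half hhalf t ht S hS

end Domain

/-! ### Part (i) over `k⟦t⟧` -/

theorem part_i {k : Type u} [Field k] (b : ℕ)
    (S : Subalgebra (PowerSeries k) (Fin 2 → PowerSeries k)) :
    (∃ bS : Basis (Fin 2) (PowerSeries k) S,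
      Ideal.span {Algebra.discr (PowerSeries k) ⇑bS} =
        Ideal.span {(PowerSeries.X : PowerSeries k) ^ b}) ↔
    ∃ n : ℕ, b = 2 * n ∧
      Subalgebra.toSubmodule S = Mn ((PowerSeries.X : PowerSeries k) ^ n) := by
  have hX : Irreducible (PowerSeries.X : PowerSeries k) := PowerSeries.X_irreducible
  have hX0 : (PowerSeries.X : PowerSeries k) ≠ 0 := hX.ne_zero
  have hordX : Ring.ord (PowerSeries k) (PowerSeries.X : PowerSeries k) = 1 :=
    Ring.ord_of_irreducible hX
  have hordpow : ∀ m : ℕ,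
      Ring.ord (PowerSeries k) ((PowerSeries.X : PowerSeries k) ^ m) = (m : ℕ∞) := by
    intro m
    rw [Ring.ord_pow (mem_nonZeroDivisors_of_ne_zero hX0), hordX, nsmul_one]
  constructor
  · rintro ⟨bS, hb⟩
    have hB : Associated (Algebra.discr (PowerSeries k) ⇑bS)
        ((PowerSeries.X : PowerSeries k) ^ b) := Ideal.span_singleton_eq_span_singleton.1 hb
    have hrel := discr_rel (Pi.basisFun (PowerSeries k) (Fin 2)) S bS
    rw [discr_std, mul_one] at hrel
    have hq0 := detQ_ne_zero (Pi.basisFun (PowerSeries k) (Fin 2)) S bS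
    have hJ0 := map_ne_bot S bS
    obtain ⟨m, hm⟩ := IsDiscreteValuationRing.ideal_eq_span_pow_irreducible hJ0 hX
    have hSm : Subalgebra.toSubmodule S = Mn ((PowerSeries.X : PowerSeries k) ^ m) :=
      eq_Mn_of_map _ S hm
    obtain ⟨bS', hdet'⟩ := exists_basis _ (pow_ne_zero m hX0) S hSm
    have hl1 := len_eq S bS
    have hl2 := len_eq S bS'
    rw [hdet', hordpow] at hl2
    have hq : Ring.ord (PowerSeries k)
        (Q (Pi.basisFun (PowerSeries k) (Fin 2)) S bS).det = (m : ℕ∞) := by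
      rw [← hl1, hl2]
    have hbm : (b : ℕ∞) = 2 • (m : ℕ∞) := by
      rw [← hordpow b, ← Ring.ord_eq_of_associated hB, hrel,
        Ring.ord_pow (mem_nonZeroDivisors_of_ne_zero hq0), hq]
    refine ⟨m, ?_, hSm⟩
    rw [nsmul_eq_mul] at hbm
    exact_mod_cast hbm
  · rintro ⟨n, rfl, hSn⟩
    obtain ⟨bS, hdet⟩ := exists_basis _ (pow_ne_zero n hX0) S hSn
    refine ⟨bS, ?_⟩
    rw [discr_rel (Pi.basisFun (PowerSeries k) (Fin 2)) S bS, hdet, discr_std, mul_one,
      ← pow_mul, mul_comm n 2]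

theorem main13880 {k : Type u} [Field k] [IsAlgClosed k] [CharZero k] (b : ℕ)
    (S : Subalgebra (PowerSeries k) (Fin 2 → PowerSeries k)) :
    ((∃ bS : Module.Basis (Fin 2) (PowerSeries k) S,
      Ideal.span {Algebra.discr (PowerSeries k) ⇑bS} =
        Ideal.span {(PowerSeries.X : PowerSeries k) ^ b}) ↔
    ∃ n : ℕ, b = 2 * n ∧
      Subalgebra.toSubmodule S =
        Submodule.span (PowerSeries k) {(1 : (Fin 2 → PowerSeries k))} ⊔
        Ideal.span {(PowerSeries.X : PowerSeries k) ^ n} •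
          (⊤ : Submodule (PowerSeries k) (Fin 2 → PowerSeries k))) ∧
    (∀ n : ℕ, Subalgebra.toSubmodule S =
        Submodule.span (PowerSeries k) {(1 : (Fin 2 → PowerSeries k))} ⊔
        Ideal.span {(PowerSeries.X : PowerSeries k) ^ n} •
          (⊤ : Submodule (PowerSeries k) (Fin 2 → PowerSeries k)) →
      Nonempty (S ≃ₐ[PowerSeries k]
        AdjoinRoot (Polynomial.X ^ 2 -
          Polynomial.C ((PowerSeries.X : PowerSeries k) ^ (2 * n))))) := by
  refine ⟨part_i b S, ?_⟩
  intro n hSn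
  have h2 : (algebraMap k (PowerSeries k) (2⁻¹ : k)) * 2 = 1 := by
    have h2' : (2 : PowerSeries k) = algebraMap k (PowerSeries k) 2 := (map_ofNat _ 2).symm
    rw [h2', ← map_mul, inv_mul_cancel₀ two_ne_zero, map_one]
  exact part_ii_general' _ h2 ((PowerSeries.X : PowerSeries k) ^ n) _
    (by rw [← pow_mul, mul_comm]) (pow_ne_zero n PowerSeries.X_irreducible.ne_zero) S hSn

end Groth.Agent.Lib.Helper29.CrimpDouble
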