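import Mathlib
import Groth.Agent.Lib.Helper25.CrimpLen

/-!
# Crimps of a double cover `St = A·1 ⊕ A·x` with `x² = u` (helper29)
-/

set_option autoImplicit false
open Module Polynomial
open scoped Pointwise
open Groth.Agent.Lib.Helper25.CrimpLen

namespace Groth.Agent.Lib.Helper29.CrimpQuad

universe u

section Abstract
variable {A : Type*} [CommRing A] {St : Type*} [CommRing St] [Algebra A St]
  (bt : Basis (Fin 2) A St)

variable (St) in
/-- `A·1 + t·St` -/
def Mn (t : A) : Submodule A St :=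
  Submodule.span A {(1 : St)} ⊔ Ideal.span {t} • (⊤ : Submodule A St)

theorem repr_one_zero (h0 : bt 0 = 1) : bt.repr 1 0 = 1 := by
  rw [← h0, Basis.repr_self, Finsupp.single_eq_same]

theorem repr_one_one (h0 : bt 0 = 1) : bt.repr 1 1 = 0 := by
  rw [← h0, Basis.repr_self, Finsupp.single_apply,
    if_neg (show ¬ ((0 : Fin 2) = 1) by decide)]

theorem repr_x_zero : bt.repr (bt 1) 0 = 0 := by
  rw [Basis.repr_self, Finsupp.single_apply, if_neg (show ¬ ((1 : Fin 2) = 0) by decide)]

theorem repr_x_one : bt.repr (bt 1) 1 = 1 := by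
  rw [Basis.repr_self, Finsupp.single_eq_same]

theorem expand (h0 : bt 0 = 1) (z : St) :
    z = bt.repr z 0 • (1 : St) + bt.repr z 1 • bt 1 := by
  have h := bt.sum_repr z
  rw [Fin.sum_univ_two, h0] at h
  exact h.symm

theorem coord0 (h0 : bt 0 = 1) (a c : A) : bt.repr (a • (1 : St) + c • bt 1) 0 = a := by
  simp only [map_add, map_smul, Finsupp.add_apply, Finsupp.smul_apply, smul_eq_mul,
    repr_one_zero bt h0, repr_x_zero, mul_one, mul_zero, add_zero]

theorem coord1 (h0 : bt 0 = 1) (a c : A) : bt.repr (a • (1 : St) + c • bt 1) 1 = c := by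
  simp only [map_add, map_smul, Finsupp.add_apply, Finsupp.smul_apply, smul_eq_mul,
    repr_one_one bt h0, repr_x_one, mul_one, mul_zero, zero_add]

theorem mem_Mn (h0 : bt 0 = 1) (t : A) (z : St) : z ∈ Mn St t ↔ t ∣ bt.repr z 1 := by
  unfold Mn
  rw [Submodule.ideal_span_singleton_smul]
  constructor
  · intro hz
    obtain ⟨y, hy, w', hw', rfl⟩ := Submodule.mem_sup.1 hz
    obtain ⟨c, rfl⟩ := Submodule.mem_span_singleton.1 hy
    obtain ⟨w, -, rfl⟩ := (Submodule.mem_smul_pointwise_iff_exists _ _ _).1 hw'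
    refine ⟨bt.repr w 1, ?_⟩
    simp only [map_add, map_smul, Finsupp.add_apply, Finsupp.smul_apply, smul_eq_mul,
      repr_one_one bt h0, mul_zero, zero_add]
  · rintro ⟨d, hd⟩
    rw [expand bt h0 z, hd, mul_smul]
    refine Submodule.add_mem_sup
      (Submodule.smul_mem _ _ (Submodule.mem_span_singleton_self _)) ?_
    exact Submodule.smul_mem_pointwise_smul _ _ _ Submodule.mem_top

theorem eq_Mn_of_map (h0 : bt 0 = 1) (t : A) (S : Subalgebra A St)
    (hJ : Submodule.map (bt.coord 1) (Subalgebra.toSubmodule S) = Ideal.span {t}) :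
    Subalgebra.toSubmodule S = Mn St t := by
  ext z
  rw [mem_Mn bt h0]
  constructor
  · intro hz
    have h1 : bt.coord 1 z ∈ Submodule.map (bt.coord 1) (Subalgebra.toSubmodule S) :=
      Submodule.mem_map_of_mem hz
    rw [hJ, Basis.coord_apply] at h1
    exact Ideal.mem_span_singleton.1 h1
  · intro hz
    have h1 : bt.coord 1 z ∈ Submodule.map (bt.coord 1) (Subalgebra.toSubmodule S) := by
      rw [hJ, Basis.coord_apply]; exact Ideal.mem_span_singleton.2 hz
    obtain ⟨s, hs, hsz⟩ := Submodule.mem_map.1 h1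
    rw [Basis.coord_apply, Basis.coord_apply] at hsz
    have ez := expand bt h0 z
    have es := expand bt h0 s
    have h2 : z = s + algebraMap A St (bt.repr z 0 - bt.repr s 0) := by
      rw [Algebra.algebraMap_eq_smul_one, sub_smul]
      calc z = bt.repr z 0 • (1 : St) + bt.repr z 1 • bt 1 := ez
        _ = (bt.repr s 0 • (1 : St) + bt.repr s 1 • bt 1)
            + (bt.repr z 0 • (1 : St) - bt.repr s 0 • (1 : St)) := by
            rw [hsz]; abel
        _ = s + (bt.repr z 0 • (1 : St) - bt.repr s 0 • (1 : St)) := by rw [← es]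
    rw [h2]
    exact Submodule.add_mem _ hs (S.algebraMap_mem _)

theorem trace_eq2 (z : St) :
    Algebra.trace A St z = bt.repr (z * bt 0) 0 + bt.repr (z * bt 1) 1 := by
  rw [Algebra.trace_eq_matrix_trace bt, Matrix.trace_fin_two,
    Algebra.leftMulMatrix_eq_repr_mul, Algebra.leftMulMatrix_eq_repr_mul]

theorem trace_u (bt : Basis (Fin 2) A St) (c : A) : Algebra.trace A St (algebraMap A St c) = 2 * c := by
  rw [Algebra.trace_algebraMap_of_basis bt, Fintype.card_fin, nsmul_eq_mul, Nat.cast_ofNat]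

theorem trace_one (bt : Basis (Fin 2) A St) : Algebra.trace A St 1 = 2 := by
  rw [← map_one (algebraMap A St), trace_u bt, mul_one]

theorem trace_x (h0 : bt 0 = 1) (u : A) (hxx : bt 1 * bt 1 = algebraMap A St u) :
    Algebra.trace A St (bt 1) = 0 := by
  rw [trace_eq2 bt, h0, mul_one, hxx, repr_x_zero, Algebra.algebraMap_eq_smul_one, map_smul,
    Finsupp.smul_apply, repr_one_one bt h0, smul_eq_mul, mul_zero, add_zero]

theorem discr_abs (h0 : bt 0 = 1) (u : A) (hxx : bt 1 * bt 1 = algebraMap A St u) :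
    Algebra.discr A ⇑bt = 4 * u := by
  rw [Algebra.discr_def, Matrix.det_fin_two]
  simp only [Algebra.traceMatrix_apply, Algebra.traceForm_apply, h0, one_mul, mul_one, hxx,
    trace_one bt, trace_x bt h0 u hxx, trace_u bt u]
  ring

section Dom
variable [IsDomain A]

theorem exists_basis (h0 : bt 0 = 1) (t : A) (ht : t ≠ 0) (S : Subalgebra A St)
    (hS : Subalgebra.toSubmodule S = Mn St t) :
    ∃ bS : Basis (Fin 2) A S, (Q bt S bS).det = t := by
  have h1 : (1 : St) ∈ S := S.one_mem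
  have h2 : t • bt 1 ∈ S := by
    have h : t • bt 1 ∈ Subalgebra.toSubmodule S := by
      rw [hS, mem_Mn bt h0]
      refine ⟨1, ?_⟩
      rw [map_smul, Finsupp.smul_apply, repr_x_one, smul_eq_mul]
    exact h
  have hli : LinearIndependent A ![(⟨1, h1⟩ : S), ⟨t • bt 1, h2⟩] := by
    rw [LinearIndependent.pair_iff]
    intro a c hac
    have h3 : a • (1 : St) + c • (t • bt 1) = 0 := congrArg Subtype.val hac
    rw [smul_smul] at h3
    have h30 := coord0 bt h0 a (c * t)
    have h31 := coord1 bt h0 a (c * t)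
    rw [h3, LinearEquiv.map_zero, Finsupp.zero_apply] at h30 h31
    exact ⟨h30.symm, (mul_eq_zero.1 h31.symm).resolve_right ht⟩
  have hsp : ⊤ ≤ Submodule.span A (Set.range ![(⟨1, h1⟩ : S), ⟨t • bt 1, h2⟩]) := by
    rw [Submodule.top_le_span_range_iff_forall_exists_fun]
    intro x
    have hx : (x : St) ∈ Mn St t := by rw [← hS]; exact x.2
    rw [mem_Mn bt h0] at hx
    obtain ⟨d, hd⟩ := hx
    refine ⟨![bt.repr (x : St) 0, d], ?_⟩
    rw [Fin.sum_univ_two]
    apply Subtype.ext
    have key : bt.repr (x : St) 0 • (1 : St) + d • (t • bt 1) = (x : St) := by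
      rw [smul_smul, mul_comm d t, ← hd]
      exact (expand bt h0 (x : St)).symm
    exact key
  refine ⟨Basis.mk hli hsp, ?_⟩
  rw [Q_eq, Matrix.det_fin_two]
  simp only [Basis.toMatrix_apply, Basis.coe_mk]
  show bt.repr (1 : St) 0 * bt.repr (t • bt 1) 1 - bt.repr (t • bt 1) 0 * bt.repr (1 : St) 1 = t
  rw [repr_one_zero bt h0, repr_one_one bt h0, map_smul, Finsupp.smul_apply, repr_x_one,
    smul_eq_mul, mul_one, one_mul, mul_zero, sub_zero]

theorem map_ne_bot (S : Subalgebra A St) (bS : Basis (Fin 2) A S) :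
    Submodule.map (bt.coord 1) (Subalgebra.toSubmodule S) ≠ ⊥ := by
  intro hbot
  apply detQ_ne_zero bt S bS
  apply Matrix.det_eq_zero_of_row_eq_zero (1 : Fin 2)
  intro j
  rw [Q_eq, Basis.toMatrix_apply]
  have h1 : bt.coord 1 (bS j : St) ∈ Submodule.map (bt.coord 1) (Subalgebra.toSubmodule S) :=
    Submodule.mem_map_of_mem (bS j).2
  rw [hbot, Submodule.mem_bot, Basis.coord_apply] at h1
  exact h1

theorem len_eq [IsPrincipalIdealRing A] (S : Subalgebra A St) (bS : Basis (Fin 2) A S) :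
    Module.length A (St ⧸ Subalgebra.toSubmodule S) = Ring.ord A (Q bt S bS).det := by
  rw [length_quot_eq_ord_det bt (Subalgebra.toSubmodule S) bS, Module.Basis.det_apply, Q_eq]
  rfl

/-! ### the algebra isomorphism -/

/-- the generator `t·x` -/
noncomputable def gen (t : A) : St := t • bt 1

theorem gen_sq (u : A) (hxx : bt 1 * bt 1 = algebraMap A St u) (t : A) :
    gen bt t ^ 2 = algebraMap A St (t ^ 2 * u) := by
  rw [gen, _root_.smul_pow, pow_two (bt 1), hxx, Algebra.smul_def, ← map_mul]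

/-- the polynomial `y² - t²u` -/
noncomputable abbrev fpoly (u t : A) : A[X] := X ^ 2 - C (t ^ 2 * u)

theorem aeval_gen (u : A) (hxx : bt 1 * bt 1 = algebraMap A St u) (t : A) :
    aeval (gen bt t) (fpoly u t) = 0 := by
  show aeval (gen bt t) (X ^ 2 - C (t ^ 2 * u)) = 0
  rw [map_sub, map_pow, aeval_X, aeval_C, gen_sq bt u hxx, sub_self]

/-- the map `A[y]/(y²-t²u) → St`, `y ↦ t·x` -/
noncomputable def phi0 (u : A) (hxx : bt 1 * bt 1 = algebraMap A St u) (t : A) :
    AdjoinRoot (fpoly u t) →ₐ[A] St :=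
  AdjoinRoot.liftAlgHom (fpoly u t) (Algebra.ofId A St) (gen bt t)
    (by rw [Algebra.toRingHom_ofId, ← aeval_def]; exact aeval_gen bt u hxx t)

theorem phi0_mk (u : A) (hxx : bt 1 * bt 1 = algebraMap A St u) (t : A) (p : A[X]) :
    phi0 bt u hxx t (AdjoinRoot.mk (fpoly u t) p) = aeval (gen bt t) p := by
  rw [phi0, AdjoinRoot.liftAlgHom_mk, aeval_def, Algebra.toRingHom_ofId]

theorem gen_mem (h0 : bt 0 = 1) (t : A) (S : Subalgebra A St)
    (hS : Subalgebra.toSubmodule S = Mn St t) : gen bt t ∈ S := by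
  have h : gen bt t ∈ Subalgebra.toSubmodule S := by
    rw [hS, mem_Mn bt h0]
    refine ⟨1, ?_⟩
    rw [gen, map_smul, Finsupp.smul_apply, repr_x_one, smul_eq_mul]
  exact h

theorem range_phi0 (h0 : bt 0 = 1) (u : A) (hxx : bt 1 * bt 1 = algebraMap A St u) (t : A)
    (S : Subalgebra A St) (hS : Subalgebra.toSubmodule S = Mn St t) :
    (phi0 bt u hxx t).range = S := by
  apply le_antisymm
  · intro x hx
    obtain ⟨g, rfl⟩ := (AlgHom.mem_range _).1 hx
    obtain ⟨p, rfl⟩ := AdjoinRoot.mk_surjective g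
    rw [phi0_mk]
    have h1 : aeval (gen bt t) p ∈ Algebra.adjoin A {gen bt t} :=
      Polynomial.aeval_mem_adjoin_singleton A (gen bt t)
    have hle : Algebra.adjoin A {gen bt t} ≤ S :=
      Algebra.adjoin_le (Set.singleton_subset_iff.2 (gen_mem bt h0 t S hS))
    exact hle h1
  · intro z hz
    have hz' : z ∈ Mn St t := by rw [← hS]; exact hz
    rw [mem_Mn bt h0] at hz'
    obtain ⟨d, hd⟩ := hz'
    refine (AlgHom.mem_range _).2
      ⟨AdjoinRoot.mk (fpoly u t) (C (bt.repr z 0) + C d * X), ?_⟩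
    rw [phi0_mk, map_add, map_mul, aeval_C, aeval_C, aeval_X, gen,
      Algebra.algebraMap_eq_smul_one, ← Algebra.smul_def, smul_smul, mul_comm d t, ← hd]
    exact (expand bt h0 z).symm

theorem phi0_injective (h0 : bt 0 = 1) (u : A) (hxx : bt 1 * bt 1 = algebraMap A St u) (t : A)
    (ht : t ≠ 0) : Function.Injective (phi0 bt u hxx t) := by
  have hmonic : (fpoly u t).Monic := monic_X_pow_sub_C _ (by norm_num)
  have hdeg : (fpoly u t).natDegree = 2 := natDegree_X_pow_sub_C
  have hne1 : fpoly u t ≠ 1 := by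
    intro h
    have h' := congrArg natDegree h
    rw [hdeg, natDegree_one] at h'
    exact absurd h' (by norm_num)
  rw [injective_iff_map_eq_zero]
  intro g hg
  obtain ⟨p, rfl⟩ := AdjoinRoot.mk_surjective g
  have hp : AdjoinRoot.mk (fpoly u t) p = AdjoinRoot.mk (fpoly u t) (p %ₘ fpoly u t) := by
    have h := congrArg (AdjoinRoot.mk (fpoly u t)) (modByMonic_add_div p (fpoly u t))
    rw [map_add, map_mul, AdjoinRoot.mk_self, zero_mul, add_zero] at h
    exact h.symm
  rw [hp] at hg ⊢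
  have hr : (p %ₘ fpoly u t).natDegree ≤ 1 := by
    have h := natDegree_modByMonic_lt p hmonic hne1
    rw [hdeg] at h
    omega
  obtain ⟨c1, c0, hc⟩ := exists_eq_X_add_C_of_natDegree_le_one hr
  rw [hc] at hg ⊢
  rw [phi0_mk, map_add, map_mul, aeval_C, aeval_C, aeval_X, gen,
    Algebra.algebraMap_eq_smul_one c0, ← Algebra.smul_def, smul_smul, add_comm] at hg
  have h30 := coord0 bt h0 c0 (c1 * t)
  have h31 := coord1 bt h0 c0 (c1 * t)
  rw [hg, LinearEquiv.map_zero, Finsupp.zero_apply] at h30 h31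
  have hc0 : c0 = 0 := h30.symm
  have hc1 : c1 = 0 := (mul_eq_zero.1 h31.symm).resolve_right ht
  simp only [hc1, hc0, map_zero, zero_mul, zero_add]

theorem part_ii_abs (h0 : bt 0 = 1) (u : A) (hxx : bt 1 * bt 1 = algebraMap A St u) (t : A)
    (ht : t ≠ 0) (S : Subalgebra A St) (hS : Subalgebra.toSubmodule S = Mn St t) :
    Nonempty (S ≃ₐ[A] AdjoinRoot (X ^ 2 - C (t ^ 2 * u) : A[X])) := by
  have e1 := AlgEquiv.ofInjective (phi0 bt u hxx t) (phi0_injective bt h0 u hxx t ht)
  have e2 := Subalgebra.equivOfEq _ _ (range_phi0 bt h0 u hxx t S hS)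
  exact ⟨(e1.trans e2).symm⟩

theorem part_ii_abs' (h0 : bt 0 = 1) (u : A) (hxx : bt 1 * bt 1 = algebraMap A St u) (t s : A)
    (hs : s = t ^ 2 * u)
    (ht : t ≠ 0) (S : Subalgebra A St) (hS : Subalgebra.toSubmodule S = Mn St t) :
    Nonempty (S ≃ₐ[A] AdjoinRoot (X ^ 2 - C s : A[X])) := by
  subst hs
  exact part_ii_abs bt h0 u hxx t ht S hS

end Dom

end Abstract

/-! ### The concrete algebra `A[x]/(x² - u)` -/

section Concrete
variable {A : Type*} [CommRing A] [IsDomain A] (u : A)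

/-- the polynomial `x² - u` -/
noncomputable abbrev gpoly : A[X] := X ^ 2 - C u

theorem gmonic : (gpoly u).Monic := monic_X_pow_sub_C u two_ne_zero

theorem gdeg : (gpoly u).natDegree = 2 := natDegree_X_pow_sub_C

/-- the basis `1, x` -/
noncomputable def btR : Basis (Fin 2) A (AdjoinRoot (gpoly u)) :=
  (AdjoinRoot.powerBasis' (gmonic u)).basis.reindex
    (finCongr (by rw [AdjoinRoot.powerBasis'_dim, gdeg]))

theorem btR_zero : btR u 0 = 1 := by
  rw [btR, Basis.reindex_apply, PowerBasis.basis_eq_pow]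
  simp

theorem btR_one : btR u 1 = AdjoinRoot.root (gpoly u) := by
  rw [btR, Basis.reindex_apply, PowerBasis.basis_eq_pow, AdjoinRoot.powerBasis'_gen]
  simp

theorem root_mul_root :
    AdjoinRoot.root (gpoly u) * AdjoinRoot.root (gpoly u) =
      algebraMap A (AdjoinRoot (gpoly u)) u := by
  have h : AdjoinRoot.mk (X ^ 2 - C u : A[X]) (X ^ 2 - C u) = 0 := AdjoinRoot.mk_self
  rw [map_sub, map_pow, AdjoinRoot.mk_X, AdjoinRoot.mk_C] at h
  rw [AdjoinRoot.algebraMap_eq, ← pow_two]
  exact sub_eq_zero.1 h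

theorem btR_xx : btR u 1 * btR u 1 = algebraMap A (AdjoinRoot (gpoly u)) u := by
  rw [btR_one, root_mul_root]

end Concrete

/-! ### Part (i) over `k⟦t⟧` -/

theorem part_i_ram {k : Type u} [Field k] [CharZero k] (b : ℕ)
    (S : Subalgebra (PowerSeries k) (AdjoinRoot (gpoly (PowerSeries.X : PowerSeries k)))) :
    (∃ bS : Basis (Fin 2) (PowerSeries k) S,
      Ideal.span {Algebra.discr (PowerSeries k) ⇑bS} =
        Ideal.span {(PowerSeries.X : PowerSeries k) ^ b}) ↔
    ∃ n : ℕ, b = 2 * n + 1 ∧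
      Subalgebra.toSubmodule S =
        Mn (AdjoinRoot (gpoly (PowerSeries.X : PowerSeries k)))
          ((PowerSeries.X : PowerSeries k) ^ n) := by
  have hX : Irreducible (PowerSeries.X : PowerSeries k) := PowerSeries.X_irreducible
  have hX0 : (PowerSeries.X : PowerSeries k) ≠ 0 := hX.ne_zero
  have hordX : Ring.ord (PowerSeries k) (PowerSeries.X : PowerSeries k) = 1 :=
    Ring.ord_of_irreducible hX
  have hordpow : ∀ m : ℕ,
      Ring.ord (PowerSeries k) ((PowerSeries.X : PowerSeries k) ^ m) = (m : ℕ∞) := by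
    intro m
    rw [Ring.ord_pow (mem_nonZeroDivisors_of_ne_zero hX0), hordX, nsmul_one]
  have h4 : IsUnit (4 : PowerSeries k) := by
    have h4' : (4 : PowerSeries k) = algebraMap k (PowerSeries k) 4 := (map_ofNat _ 4).symm
    rw [h4']
    exact (isUnit_iff_ne_zero.2 (by norm_num : (4 : k) ≠ 0)).map _
  have hbt0 := btR_zero (PowerSeries.X : PowerSeries k)
  have hxx := btR_xx (PowerSeries.X : PowerSeries k)
  have hdisc := discr_abs (btR (PowerSeries.X : PowerSeries k)) hbt0 _ hxx
  constructor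
  · rintro ⟨bS, hb⟩
    have hB : Associated (Algebra.discr (PowerSeries k) ⇑bS)
        ((PowerSeries.X : PowerSeries k) ^ b) := Ideal.span_singleton_eq_span_singleton.1 hb
    have hrel := discr_rel (btR (PowerSeries.X : PowerSeries k)) S bS
    rw [hdisc] at hrel
    have hq0 := detQ_ne_zero (btR (PowerSeries.X : PowerSeries k)) S bS
    have hJ0 := map_ne_bot (btR (PowerSeries.X : PowerSeries k)) S bS
    obtain ⟨m, hm⟩ := IsDiscreteValuationRing.ideal_eq_span_pow_irreducible hJ0 hX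
    have hSm : Subalgebra.toSubmodule S =
        Mn (AdjoinRoot (gpoly (PowerSeries.X : PowerSeries k)))
          ((PowerSeries.X : PowerSeries k) ^ m) :=
      eq_Mn_of_map _ hbt0 _ S hm
    obtain ⟨bS', hdet'⟩ := exists_basis _ hbt0 _ (pow_ne_zero m hX0) S hSm
    have hl1 := len_eq (btR (PowerSeries.X : PowerSeries k)) S bS
    have hl2 := len_eq (btR (PowerSeries.X : PowerSeries k)) S bS'
    rw [hdet', hordpow] at hl2
    have hq : Ring.ord (PowerSeries k)
        (Q (btR (PowerSeries.X : PowerSeries k)) S bS).det = (m : ℕ∞) := by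
      rw [← hl1, hl2]
    have h4X : (4 : PowerSeries k) * PowerSeries.X ∈ nonZeroDivisors (PowerSeries k) :=
      mem_nonZeroDivisors_of_ne_zero (mul_ne_zero h4.ne_zero hX0)
    have hbm : (b : ℕ∞) = 2 • (m : ℕ∞) + 1 := by
      rw [← hordpow b, ← Ring.ord_eq_of_associated hB, hrel, Ring.ord_mul _ h4X,
        Ring.ord_pow (mem_nonZeroDivisors_of_ne_zero hq0), hq,
        Ring.ord_mul_of_isUnit_left h4, hordX]
    refine ⟨m, ?_, hSm⟩
    rw [nsmul_eq_mul] at hbm
    exact_mod_cast hbm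
  · rintro ⟨n, rfl, hSn⟩
    obtain ⟨bS, hdet⟩ := exists_basis _ hbt0 _ (pow_ne_zero n hX0) S hSn
    refine ⟨bS, ?_⟩
    have h5 : ((PowerSeries.X : PowerSeries k) ^ n) ^ 2 * (4 * PowerSeries.X) =
        4 * (PowerSeries.X : PowerSeries k) ^ (2 * n + 1) := by ring
    rw [discr_rel (btR (PowerSeries.X : PowerSeries k)) S bS, hdet, hdisc, h5,
      Ideal.span_singleton_mul_left_unit h4]

theorem main13881 {k : Type u} [Field k] [IsAlgClosed k] [CharZero k] (b : ℕ)
    (S : Subalgebra (PowerSeries k)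
      (AdjoinRoot (Polynomial.X ^ 2 - Polynomial.C (PowerSeries.X : PowerSeries k)))) :
    ((∃ bS : Module.Basis (Fin 2) (PowerSeries k) S,
      Ideal.span {Algebra.discr (PowerSeries k) ⇑bS} =
        Ideal.span {(PowerSeries.X : PowerSeries k) ^ b}) ↔
    ∃ n : ℕ, b = 2 * n + 1 ∧
      Subalgebra.toSubmodule S = Submodule.span (PowerSeries k)
        {(1 : (AdjoinRoot (Polynomial.X ^ 2 - Polynomial.C (PowerSeries.X : PowerSeries k))))} ⊔
        Ideal.span {(PowerSeries.X : PowerSeries k) ^ n} •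
          (⊤ : Submodule (PowerSeries k)
            (AdjoinRoot (Polynomial.X ^ 2 - Polynomial.C (PowerSeries.X : PowerSeries k))))) ∧
    (∀ n : ℕ, Subalgebra.toSubmodule S = Submodule.span (PowerSeries k)
        {(1 : (AdjoinRoot (Polynomial.X ^ 2 - Polynomial.C (PowerSeries.X : PowerSeries k))))} ⊔
        Ideal.span {(PowerSeries.X : PowerSeries k) ^ n} •
          (⊤ : Submodule (PowerSeries k)
            (AdjoinRoot (Polynomial.X ^ 2 - Polynomial.C (PowerSeries.X : PowerSeries k)))) →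
      Nonempty (S ≃ₐ[PowerSeries k] AdjoinRoot (Polynomial.X ^ 2 -
        Polynomial.C ((PowerSeries.X : PowerSeries k) ^ (2 * n + 1))))) := by
  refine ⟨part_i_ram b S, ?_⟩
  intro n hSn
  exact part_ii_abs' (btR (PowerSeries.X : PowerSeries k))
    (btR_zero (PowerSeries.X : PowerSeries k)) _ (btR_xx (PowerSeries.X : PowerSeries k))
    ((PowerSeries.X : PowerSeries k) ^ n) _ (by ring)
    (pow_ne_zero n PowerSeries.X_irreducible.ne_zero) S hSn

end Groth.Agent.Lib.Helper29.CrimpQuad
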