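import Mathlib
import Groth.Prelude.Def_DualGr

set_option autoImplicit false

open Finset

namespace Groth.Agent.Lib.Helper29.CycleTF

universe u

theorem main14397 {V E : Type u} [Fintype V] [Fintype E] [DecidableEq V] [DecidableEq E]
    (ends : E → V × V) {n : ℕ} (D : Fin n → Finset E) (hcover : ∀ e : E, ∃ i : Fin n, e ∉ D i) :
    IsAddTorsionFree (((i : Fin n) → ↥(DualGr.cycleLattice (DualGr.ctrEnds ends (D i)))) ⧸
      LinearMap.range (LinearMap.pi fun i : Fin n => DualGr.genMap ends (D i))) := by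
  refine ⟨fun m hm x y hxy => ?_⟩
  obtain ⟨a, rfl⟩ := Submodule.Quotient.mk_surjective _ x
  obtain ⟨b, rfl⟩ := Submodule.Quotient.mk_surjective _ y
  have hxy' : Submodule.Quotient.mk
      (p := LinearMap.range (LinearMap.pi fun i : Fin n => DualGr.genMap ends (D i))) (m • a) =
      Submodule.Quotient.mk (m • b) := hxy
  rw [Submodule.Quotient.eq] at hxy' ⊢
  obtain ⟨γ, hγ⟩ := hxy'
  choose idx hidx using hcover
  have hm' : (m : ℤ) ≠ 0 := by exact_mod_cast hm
  have hval : ∀ (i : Fin n) (e : E) (he : e ∉ D i),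
      γ.1 e = (m : ℤ) * ((a i).1 ⟨e, he⟩ - (b i).1 ⟨e, he⟩) := by
    intro i e he
    have h1 := congrFun hγ i
    have h2 := congrArg
      (fun c : ↥(DualGr.cycleLattice (DualGr.ctrEnds ends (D i))) => c.1 ⟨e, he⟩) h1
    have h3 : (DualGr.genMap ends (D i) γ).1 ⟨e, he⟩ = γ.1 e := rfl
    simp only [LinearMap.pi_apply, Pi.sub_apply, Pi.smul_apply] at h2
    rw [h3] at h2
    rw [h2]
    simp [nsmul_eq_mul, mul_sub]
  have hγ1 : ∀ e, γ.1 e = (m : ℤ) *
      ((a (idx e)).1 ⟨e, hidx e⟩ - (b (idx e)).1 ⟨e, hidx e⟩) := fun e => hval (idx e) e (hidx e)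
  have hmem : (fun e => (a (idx e)).1 ⟨e, hidx e⟩ - (b (idx e)).1 ⟨e, hidx e⟩) ∈
      DualGr.cycleLattice ends := by
    have hγmem : DualGr.boundaryHom ends γ.1 = 0 := γ.2
    have hsm : γ.1 = (m : ℤ) •
        (fun e => (a (idx e)).1 ⟨e, hidx e⟩ - (b (idx e)).1 ⟨e, hidx e⟩) := by
      funext e; rw [hγ1 e]; simp
    rw [hsm, map_smul] at hγmem
    show DualGr.boundaryHom ends _ = 0
    funext v
    have := congrFun hγmem v
    simp only [Pi.smul_apply, smul_eq_mul, Pi.zero_apply] at this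
    exact (mul_eq_zero.mp this).resolve_left hm'
  refine ⟨⟨_, hmem⟩, ?_⟩
  funext i
  apply Subtype.ext
  funext e
  obtain ⟨e, he⟩ := e
  have h1 := hval i e he
  rw [hγ1 e] at h1
  have h2 := mul_left_cancel₀ hm' h1
  have h4 : ((a i - b i : ↥(DualGr.cycleLattice (DualGr.ctrEnds ends (D i)))).1) ⟨e, he⟩ =
      (a i).1 ⟨e, he⟩ - (b i).1 ⟨e, he⟩ := rfl
  exact h2.trans h4.symm

end Groth.Agent.Lib.Helper29.CycleTF
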