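import Mathlib
import Groth.Agent.Lib.Helper29.ClosedDesc

/-!
# Quasi-coherent ideal sheaves form an fpqc sheaf (S11731)

* `idealPresheaf` : `T ↦ T.IdealSheafData` with pullback `comap`.
* Zariski sheaf: gluing of ideal sheaves along open covers, by the ideals of sections vanishing on
  all the local closed subschemes (`glueIdeal`), with the usual quasi-compactness argument for the
  localisation property.
* sheaf condition for a flat surjective quasi-compact morphism: scheme-theoretic image + flat base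
  change (`ClosedDesc`).
* `isSheaf_type_propQCTopology_iff` (Mathlib) then gives the fpqc sheaf property.
-/

set_option autoImplicit false
set_option maxHeartbeats 1600000
universe u
open CategoryTheory CategoryTheory.Limits AlgebraicGeometry Opposite

namespace Groth.Agent.Lib.Helper29.IdealDesc

open Scheme.IdealSheafData Groth.Agent.Lib.Helper29.ClosedDesc

/-! ### general lemmas -/

theorem comap_bot_le {X Y : Scheme.{u}} (f : X ⟶ Y) : (⊥ : Y.IdealSheafData).comap f ≤ ⊥ :=
  (le_map_iff_comap_le (I := (⊥ : X.IdealSheafData)) (f := f) (J := ⊥)).mp bot_le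

theorem comap_ker_self_le {X Y : Scheme.{u}} (f : X ⟶ Y) : f.ker.comap f ≤ ⊥ := by
  have h := comap_map_le (⊥ : X.IdealSheafData) f
  rwa [Scheme.IdealSheafData.map_bot] at h

/-- joint injectivity on sections for a jointly surjective flat family -/
theorem eq_zero_of_forall_app_eq_zero {Y : Scheme.{u}} {ι : Type*} {X : ι → Scheme.{u}}
    (f : ∀ i, X i ⟶ Y) [∀ i, Flat (f i)] (hcov : ∀ y : Y, ∃ i, y ∈ Set.range (f i))
    (V : Y.Opens) (s : Γ(Y, V)) (hs : ∀ i, ((f i).app V).hom s = 0) : s = 0 := by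
  refine TopCat.Presheaf.section_ext Y.sheaf V s 0 (fun y hy => ?_)
  obtain ⟨i, x, rfl⟩ := hcov y
  apply stalkMap_injective (f i) x
  have h1 := Scheme.Hom.germ_stalkMap_apply (f i) V x hy s
  have h2 := Scheme.Hom.germ_stalkMap_apply (f i) V x hy 0
  refine h1.trans (Eq.trans ?_ h2.symm)
  have h3 : ((f i).app V).hom s = ((f i).app V).hom 0 := by rw [hs i, map_zero]
  exact congrArg _ h3

/-- pullback of ideal sheaves along a jointly surjective flat family reflects the order -/
theorem le_of_comap_le_family {T : Scheme.{u}} {ι : Type*} {U : ι → Scheme.{u}} (u : ∀ i, U i ⟶ T)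
    [∀ i, Flat (u i)] (hcov : ∀ x : T, ∃ i, x ∈ Set.range (u i))
    (K K' : T.IdealSheafData) (h : ∀ i, K.comap (u i) ≤ K'.comap (u i)) : K ≤ K' := by
  have h2 : ∀ i, K.comap K'.subschemeι ≤ (pullback.snd (u i) K'.subschemeι).ker := by
    intro i
    have h3 : (K.comap K'.subschemeι).comap (pullback.snd (u i) K'.subschemeι) ≤ ⊥ := by
      rw [← comap_comp, ← pullback.condition, comap_comp]
      exact (comap_mono _ (h i)).trans (comap_ker_self_le (pullback.fst (u i) K'.subschemeι))
    rw [← le_map_iff_comap_le, Scheme.IdealSheafData.map_bot] at h3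
    exact h3
  have hcov' : ∀ y : K'.subscheme, ∃ i, y ∈ Set.range (pullback.snd (u i) K'.subschemeι) := by
    intro y
    obtain ⟨i, x, hx⟩ := hcov (K'.subschemeι y)
    obtain ⟨z, -, hz⟩ := Scheme.Pullback.exists_preimage_pullback x y hx
    exact ⟨i, z, hz⟩
  have h4 : K.comap K'.subschemeι ≤ ⊥ := by
    intro V s hs
    have h5 : s = 0 := eq_zero_of_forall_app_eq_zero
      (fun i => pullback.snd (u i) K'.subschemeι) hcov' V.1 s (fun i =>
        (RingHom.mem_ker).mp (Scheme.Hom.ideal_ker_le _ V (h2 i V hs)))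
    rw [h5]
    exact Ideal.zero_mem _
  rw [← le_map_iff_comap_le (f := K'.subschemeι), Scheme.IdealSheafData.map_bot,
    ker_subschemeι] at h4
  exact h4

theorem eq_of_comap_eq_family {T : Scheme.{u}} {ι : Type*} {U : ι → Scheme.{u}} (u : ∀ i, U i ⟶ T)
    [∀ i, Flat (u i)] (hcov : ∀ x : T, ∃ i, x ∈ Set.range (u i))
    (K K' : T.IdealSheafData) (h : ∀ i, K.comap (u i) = K'.comap (u i)) : K = K' :=
  le_antisymm (le_of_comap_le_family u hcov K K' (fun i => (h i).le))
    (le_of_comap_le_family u hcov K' K (fun i => (h i).ge))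

theorem app_map_apply {X Y : Scheme.{u}} (f : X ⟶ Y) {V V' : Y.Opens} (e : V ≤ V')
    (s : Γ(Y, V')) :
    (f.app V).hom ((Y.presheaf.map (homOfLE e).op).hom s) =
      (X.presheaf.map ((TopologicalSpace.Opens.map f.base).map (homOfLE e)).op).hom
        ((f.app V').hom s) := by
  have h := f.naturality (homOfLE e).op
  exact congrArg (fun φ : Γ(Y, V') ⟶ Γ(X, f ⁻¹ᵁ V) => φ.hom s) h

theorem app_map_apply' {X Y : Scheme.{u}} (f : X ⟶ Y) {V V' : Y.Opens} (e : V ≤ V')
    (s : Γ(Y, V')) (j : op (f ⁻¹ᵁ V') ⟶ op (f ⁻¹ᵁ V)) :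
    (f.app V).hom ((Y.presheaf.map (homOfLE e).op).hom s) =
      (X.presheaf.map j).hom ((f.app V').hom s) := by
  have hj : j = ((TopologicalSpace.Opens.map f.base).map (homOfLE e)).op := Subsingleton.elim _ _
  subst hj
  exact app_map_apply f e s

theorem res_res {X : Scheme.{u}} {A B C : X.Opens} (h1 : A ≤ B) (h2 : B ≤ C) (s : Γ(X, C)) :
    (X.presheaf.map (homOfLE h1).op).hom ((X.presheaf.map (homOfLE h2).op).hom s) =
      (X.presheaf.map (homOfLE (h1.trans h2)).op).hom s := by
  rw [← RingHom.comp_apply, ← CommRingCat.hom_comp, ← Functor.map_comp]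
  rfl

theorem app_eqToHom_eq_zero {X Y : Scheme.{u}} (f : X ⟶ Y) {V V' : Y.Opens} (e : V' = V)
    (s : Γ(Y, V)) (hs : (f.app V).hom s = 0) :
    (f.app V').hom ((Y.presheaf.map (eqToHom e).op).hom s) = 0 := by
  subst e
  simpa using hs

theorem map_eqToHom_injective {X : Scheme.{u}} {A B : X.Opens} (e : A = B) :
    Function.Injective (X.presheaf.map (eqToHom e).op).hom := by
  subst e
  intro a b hab
  simpa using hab

/-! ### the presheaf of ideal sheaves -/

/-- the presheaf of (quasi-coherent) ideal sheaves -/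
noncomputable def idealPresheaf : Scheme.{u}ᵒᵖ ⥤ Type u where
  obj T := T.unop.IdealSheafData
  map f := TypeCat.ofHom fun J => J.comap f.unop

/-! ### gluing ideal sheaves along an open cover -/

section glue

variable {T : Scheme.{u}} {ι : Type*} {U : ι → Scheme.{u}} (u : ∀ i, U i ⟶ T)
  [∀ i, IsOpenImmersion (u i)] (J : ∀ i, (U i).IdealSheafData)

/-- the closed subscheme of `U i` mapped to `T` -/
noncomputable abbrev hh (i : ι) : (J i).subscheme ⟶ T := (J i).subschemeι ≫ u i

theorem ker_app_le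
    (hJ : ∀ i j (Z : Scheme.{u}) (p : Z ⟶ U i) (q : Z ⟶ U j), p ≫ u i = q ≫ u j →
      (J i).comap p = (J j).comap q)
    (i l : ι) (W : T.Opens) (hW : W ≤ (u l).opensRange) :
    RingHom.ker ((hh u J l).app W).hom ≤ RingHom.ker ((hh u J i).app W).hom := by
  intro s hs
  rw [RingHom.mem_ker] at hs ⊢
  let O : (J i).subscheme.Opens := (hh u J i) ⁻¹ᵁ W
  have hr : Set.range (O.ι ≫ hh u J i) ⊆ Set.range (u l) := by
    rintro _ ⟨y, rfl⟩
    have h1 : (O.ι ≫ hh u J i) y = hh u J i y.1 := by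
      rw [Scheme.Hom.comp_apply, Scheme.Opens.ι_apply]
    rw [h1]
    exact hW y.2
  let c : O.toScheme ⟶ U l := IsOpenImmersion.lift (u l) (O.ι ≫ hh u J i) hr
  have hc : c ≫ u l = O.ι ≫ hh u J i := IsOpenImmersion.lift_fac _ _ hr
  have hker : (J l).subschemeι.ker ≤ c.ker := by
    rw [ker_subschemeι, ← Scheme.IdealSheafData.map_bot, le_map_iff_comap_le]
    have h2 : (J l).comap c = (J i).comap (O.ι ≫ (J i).subschemeι) :=
      hJ l i O.toScheme c (O.ι ≫ (J i).subschemeι) (by rw [hc, Category.assoc])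
    rw [h2, comap_comp]
    have h3 : (J i).comap (J i).subschemeι ≤ ⊥ := by
      have := comap_ker_self_le (J i).subschemeι
      rwa [ker_subschemeι] at this
    exact (comap_mono _ h3).trans (comap_bot_le _)
  let c' : O.toScheme ⟶ (J l).subscheme := IsClosedImmersion.lift (J l).subschemeι c hker
  have hc' : c' ≫ (J l).subschemeι = c := IsClosedImmersion.lift_fac _ _ hker
  have heq : O.ι ≫ hh u J i = c' ≫ hh u J l := by
    rw [← hc, ← hc', Category.assoc]
  have e1 : ((c' ≫ hh u J l).app W).hom s =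
      (c'.app ((hh u J l) ⁻¹ᵁ W)).hom (((hh u J l).app W).hom s) := by
    rw [Scheme.Hom.comp_app]
    rfl
  have e2 : ((O.ι ≫ hh u J i).app W).hom s =
      (O.ι.app ((hh u J i) ⁻¹ᵁ W)).hom (((hh u J i).app W).hom s) := by
    rw [Scheme.Hom.comp_app]
    rfl
  have h4 : ((O.ι ≫ hh u J i).app W).hom s = 0 := by
    rw [heq, e1, hs, map_zero]
    rfl
  rw [e2] at h4
  have hinj : Function.Injective (O.ι.app O).hom := by
    rw [Scheme.Opens.ι_app_self]
    exact map_eqToHom_injective _
  exact hinj (h4.trans (map_zero _).symm)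

/-- the ideal of sections vanishing on all the local closed subschemes -/
noncomputable def glueIdeal (W : T.affineOpens) : Ideal Γ(T, W.1) :=
  ⨅ i, RingHom.ker ((hh u J i).app W.1).hom

omit [∀ i, IsOpenImmersion (u i)] in
theorem mem_glueIdeal {W : T.affineOpens} {s : Γ(T, W.1)} :
    s ∈ glueIdeal u J W ↔ ∀ i, ((hh u J i).app W.1).hom s = 0 := by
  simp only [glueIdeal, Ideal.mem_iInf, RingHom.mem_ker]

omit [∀ i, IsOpenImmersion (u i)] in
theorem glueIdeal_map_le (W : T.affineOpens) (r : Γ(T, W.1)) :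
    (glueIdeal u J W).map (T.presheaf.map (homOfLE (T.basicOpen_le r)).op).hom ≤
      glueIdeal u J (T.affineBasicOpen r) := by
  rw [Ideal.map_le_iff_le_comap]
  intro s hs
  rw [Ideal.mem_comap]
  refine (mem_glueIdeal u J (W := T.affineBasicOpen r)).mpr (fun i => ?_)
  have hs' := (mem_glueIdeal u J).mp hs
  have h1 := app_map_apply (hh u J i) (T.basicOpen_le r) s
  refine h1.trans ?_
  rw [hs' i, map_zero]
  rfl

theorem le_glueIdeal_map
    (hcov : ∀ x : T, ∃ i, x ∈ Set.range (u i))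
    (hJ : ∀ i j (Z : Scheme.{u}) (p : Z ⟶ U i) (q : Z ⟶ U j), p ≫ u i = q ≫ u j →
      (J i).comap p = (J j).comap q)
    (W : T.affineOpens) (r : Γ(T, W.1)) :
    glueIdeal u J (T.affineBasicOpen r) ≤
      (glueIdeal u J W).map (T.presheaf.map (homOfLE (T.basicOpen_le r)).op).hom := by
  intro (s' : Γ(T, T.basicOpen r)) hs''
  have hs' : ∀ i, ((hh u J i).app (T.basicOpen r)).hom s' = 0 :=
    (mem_glueIdeal u J (W := T.affineBasicOpen r)).mp hs''
  haveI := W.2.isLocalization_basicOpen r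
  obtain ⟨n, s, hns⟩ := IsLocalization.Away.surj (S := Γ(T, T.basicOpen r)) r s'
  set ρ : Γ(T, W.1) →+* Γ(T, T.basicOpen r) :=
    (T.presheaf.map (homOfLE (T.basicOpen_le r)).op).hom with hρ
  have hns' : s' * ρ r ^ n = ρ s := hns
  -- finite cover by small basic opens
  let 𝒮 : Set Γ(T, W.1) := {a | ∃ l, T.basicOpen a ≤ (u l).opensRange}
  have hspan : Ideal.span 𝒮 = ⊤ := by
    rw [← W.2.self_le_iSup_basicOpen_iff]
    intro x hx
    obtain ⟨l, hl⟩ := hcov x
    obtain ⟨a, ha, hxa⟩ := W.2.exists_basicOpen_le (V := (u l).opensRange) ⟨x, hl⟩ hx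
    exact TopologicalSpace.Opens.mem_iSup.mpr ⟨⟨a, l, ha⟩, hxa⟩
  obtain ⟨t, ht𝒮, htspan⟩ := (Ideal.span_eq_top_iff_finite 𝒮).mp hspan
  have hWt : W.1 ≤ ⨆ a : (t : Set Γ(T, W.1)), T.basicOpen a.1 :=
    W.2.self_le_iSup_basicOpen_iff.mpr htspan
  have key : ∀ a ∈ t, ∃ m : ℕ, ∀ i, ((hh u J i).app (T.basicOpen a)).hom
      ((T.presheaf.map (homOfLE (T.basicOpen_le a)).op).hom (r ^ m * s)) = 0 := by
    intro a hat
    obtain ⟨l, hl⟩ := ht𝒮 hat
    let O : (J l).subscheme.Opens := (hh u J l) ⁻¹ᵁ (T.basicOpen a)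
    have hOc : IsCompact (O : Set (J l).subscheme) := by
      have h1 : IsCompact ((u l) ⁻¹' (T.basicOpen a : Set T)) :=
        (u l).isOpenEmbedding.isInducing.isCompact_preimage' (W.2.basicOpen a).isCompact
          (fun y hy => hl hy)
      exact (J l).subschemeι.isClosedEmbedding.isCompact_preimage h1
    set ρa : Γ(T, W.1) →+* Γ(T, T.basicOpen a) :=
      (T.presheaf.map (homOfLE (T.basicOpen_le a)).op).hom with hρa
    let x : Γ((J l).subscheme, O) := ((hh u J l).app (T.basicOpen a)).hom (ρa s)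
    let f : Γ((J l).subscheme, O) := ((hh u J l).app (T.basicOpen a)).hom (ρa r)
    -- the open where everything vanishes
    have hV2a : T.basicOpen (ρa r) ≤ T.basicOpen a := T.basicOpen_le _
    have hV2r : T.basicOpen (ρa r) ≤ T.basicOpen r := by
      rw [hρa, Scheme.basicOpen_res]
      exact inf_le_right
    have hzero : ((hh u J l).app (T.basicOpen (ρa r))).hom
        ((T.presheaf.map (homOfLE hV2a).op).hom (ρa s)) = 0 := by
      have e1 : (T.presheaf.map (homOfLE hV2a).op).hom (ρa s) =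
          (T.presheaf.map (homOfLE hV2r).op).hom (ρ s) := by
        have ea := res_res hV2a (T.basicOpen_le a) s
        have er := res_res hV2r (T.basicOpen_le r) s
        exact ea.trans er.symm
      rw [e1, ← hns', map_mul, map_mul]
      have e2 := app_map_apply (hh u J l) hV2r s'
      rw [e2, hs' l, map_zero, zero_mul]
    have H' : ∀ (O' : (J l).subscheme.Opens) (e : O' ≤ O)
        (_ : O' = (hh u J l) ⁻¹ᵁ (T.basicOpen (ρa r))),
        ((J l).subscheme.presheaf.map (homOfLE e).op).hom x = 0 := by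
      intro O' e hO'
      subst hO'
      have e3 := app_map_apply' (hh u J l) hV2a (ρa s) (homOfLE e).op
      exact e3.symm.trans hzero
    have H : ((J l).subscheme.presheaf.map
        (homOfLE ((J l).subscheme.basicOpen_le f)).op).hom x = 0 :=
      H' _ _ (Scheme.preimage_basicOpen (hh u J l) (ρa r)).symm
    obtain ⟨m, hm⟩ := exists_pow_mul_eq_zero_of_res_basicOpen_eq_zero_of_isCompact
      (J l).subscheme hOc x f H
    refine ⟨m, fun i => ?_⟩
    have h5 : ((hh u J l).app (T.basicOpen a)).hom (ρa (r ^ m * s)) = 0 := by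
      simp only [map_mul, map_pow]
      exact hm
    exact (RingHom.mem_ker).mp
      (ker_app_le u J hJ i l (T.basicOpen a) hl ((RingHom.mem_ker).mpr h5))
  choose! m hm using key
  have hM : ∀ a ∈ t, ∀ i, ((hh u J i).app (T.basicOpen a)).hom
      ((T.presheaf.map (homOfLE (T.basicOpen_le a)).op).hom (r ^ (t.sup m) * s)) = 0 := by
    intro a hat i
    have hle : m a ≤ t.sup m := Finset.le_sup hat
    have e4 : r ^ (t.sup m) * s = r ^ (t.sup m - m a) * (r ^ m a * s) := by
      rw [← mul_assoc, ← pow_add, Nat.sub_add_cancel hle]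
    rw [e4, map_mul, map_mul, hm a hat i, mul_zero]
  have hmem : r ^ (t.sup m) * s ∈ glueIdeal u J W := by
    rw [mem_glueIdeal]
    intro i
    refine TopCat.Sheaf.eq_of_locally_eq' (J i).subscheme.sheaf
      (fun a : (t : Set Γ(T, W.1)) => (hh u J i) ⁻¹ᵁ (T.basicOpen a.1)) ((hh u J i) ⁻¹ᵁ W.1)
      (fun a => homOfLE (fun _ hx => T.basicOpen_le a.1 hx)) ?_ _ 0 (fun a => ?_)
    · rw [← Scheme.Hom.preimage_iSup]
      exact fun _ hx => hWt hx
    · have h1 := app_map_apply' (hh u J i) (T.basicOpen_le a.1) (r ^ (t.sup m) * s)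
        (homOfLE (fun _ hx => T.basicOpen_le a.1 hx)).op
      refine (h1.symm.trans (hM a.1 a.2 i)).trans ?_
      exact (map_zero _).symm
  have hunit : IsUnit (ρ r) :=
    IsLocalization.map_units Γ(T, T.basicOpen r) (⟨r, Submonoid.mem_powers r⟩ : Submonoid.powers r)
  obtain ⟨v, hv⟩ := hunit
  have h6 : s' = ((v⁻¹ : Units _) : Γ(T, T.basicOpen r)) ^ (t.sup m + n) *
      ρ (r ^ (t.sup m) * s) := by
    rw [map_mul, map_pow, ← hns', ← hv]
    have e5 : ((v⁻¹ : Units _) : Γ(T, T.basicOpen r)) ^ (t.sup m + n) *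
        ((v : Γ(T, T.basicOpen r)) ^ (t.sup m) * (s' * (v : Γ(T, T.basicOpen r)) ^ n)) =
        s' * (((v⁻¹ : Units _) : Γ(T, T.basicOpen r)) * (v : Γ(T, T.basicOpen r))) ^
          (t.sup m + n) := by
      ring
    rw [e5, Units.inv_mul, one_pow, mul_one]
  rw [h6]
  exact Ideal.mul_mem_left _ _ (Ideal.mem_map_of_mem ρ hmem)

/-- the glued ideal sheaf -/
noncomputable def glued
    (hcov : ∀ x : T, ∃ i, x ∈ Set.range (u i))
    (hJ : ∀ i j (Z : Scheme.{u}) (p : Z ⟶ U i) (q : Z ⟶ U j), p ≫ u i = q ≫ u j →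
      (J i).comap p = (J j).comap q) : T.IdealSheafData where
  ideal := glueIdeal u J
  map_ideal_basicOpen W r :=
    le_antisymm (glueIdeal_map_le u J W r) (le_glueIdeal_map u J hcov hJ W r)

theorem glued_comap
    (hcov : ∀ x : T, ∃ i, x ∈ Set.range (u i))
    (hJ : ∀ i j (Z : Scheme.{u}) (p : Z ⟶ U i) (q : Z ⟶ U j), p ≫ u i = q ≫ u j →
      (J i).comap p = (J j).comap q) (l : ι) :
    (glued u J hcov hJ).comap (u l) = J l := by
  apply le_antisymm
  · rw [← le_map_iff_comap_le]
    refine le_ofIdeals_iff.mpr (fun W s hs => ?_)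
    exact (RingHom.mem_ker).mpr ((mem_glueIdeal u J).mp hs l)
  · intro V s hs
    rw [ideal_comap_of_isOpenImmersion, Ideal.mem_comap]
    have hle : (u l) ''ᵁ V.1 ≤ (u l).opensRange := Scheme.Hom.image_le_opensRange _ _
    refine (mem_glueIdeal u J (W := ⟨(u l) ''ᵁ V.1, V.2.image_of_isOpenImmersion (u l)⟩)).mpr
      (fun i => ?_)
    refine (RingHom.mem_ker).mp (ker_app_le u J hJ i l _ hle ((RingHom.mem_ker).mpr ?_))
    have hs0 : ((J l).subschemeι.app V.1).hom s = 0 := by
      have := (J l).ker_subschemeι_app V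
      rw [← this] at hs
      exact (RingHom.mem_ker).mp hs
    have h1 : ((u l).app ((u l) ''ᵁ V.1)).hom (((u l).appIso V.1).inv.hom s) =
        ((U l).presheaf.map (eqToHom ((u l).preimage_image_eq V.1)).op).hom s :=
      congrArg (fun φ : Γ(U l, V.1) ⟶ Γ(U l, (u l) ⁻¹ᵁ (u l) ''ᵁ V.1) => φ.hom s)
        (Scheme.Hom.appIso_inv_app (u l) V.1)
    have e1 : ((hh u J l).app ((u l) ''ᵁ V.1)).hom (((u l).appIso V.1).inv.hom s) =
        ((J l).subschemeι.app ((u l) ⁻¹ᵁ (u l) ''ᵁ V.1)).hom
          (((u l).app ((u l) ''ᵁ V.1)).hom (((u l).appIso V.1).inv.hom s)) := by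
      rw [Scheme.Hom.comp_app]
      rfl
    rw [e1, h1]
    exact app_eqToHom_eq_zero (J l).subschemeι _ s hs0

end glue

/-! ### the sheaf property -/

theorem idealPresheaf_isSheaf_zariski :
    Presieve.IsSheaf Scheme.zariskiTopology (idealPresheaf.{u}) := by
  rw [Scheme.zariskiTopology_eq, Presieve.isSheaf_pretopology]
  intro T R hR
  obtain ⟨𝒰, rfl⟩ := Scheme.mem_pretopology_iff.mp hR
  rw [Presieve.isSheafFor_arrows_iff]
  intro x hx
  haveI : ∀ i, IsOpenImmersion (𝒰.f i) := fun i => 𝒰.map_prop i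
  have hcov : ∀ y : T, ∃ i, y ∈ Set.range (𝒰.f i) := fun y => by
    obtain ⟨i, z, hz⟩ := 𝒰.exists_eq y
    exact ⟨i, z, hz⟩
  have hJ : ∀ i j (Z : Scheme.{u}) (p : Z ⟶ 𝒰.X i) (q : Z ⟶ 𝒰.X j), p ≫ 𝒰.f i = q ≫ 𝒰.f j →
      (x i : (𝒰.X i).IdealSheafData).comap p = (x j : (𝒰.X j).IdealSheafData).comap q :=
    fun i j Z p q h => hx i j Z p q h
  refine ⟨glued 𝒰.f x hcov hJ, fun i => glued_comap 𝒰.f x hcov hJ i, fun J' hJ' => ?_⟩
  refine eq_of_comap_eq_family 𝒰.f hcov _ _ (fun i => ?_)
  exact (hJ' i).trans (glued_comap 𝒰.f x hcov hJ i).symm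

theorem mk_eq_mk_of_ker_eq {X A B : Scheme.{u}} (a : A ⟶ X) (b : B ⟶ X) [IsClosedImmersion a]
    [IsClosedImmersion b] (h : a.ker = b.ker) : Subobject.mk a = Subobject.mk b := by
  haveI := isClosedImmersion_mk_arrow a
  haveI := isClosedImmersion_mk_arrow b
  apply subobject_eq_of_ker_eq
  rw [ker_mk_arrow, ker_mk_arrow, h]

theorem idealPresheaf_isSheafFor_singleton {X X' : Scheme.{u}} (π : X ⟶ X') [Flat π] [Surjective π]
    [QuasiCompact π] : Presieve.IsSheafFor idealPresheaf.{u} (Presieve.singleton π) := by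
  rw [Presieve.isSheafFor_singleton]
  intro (I : X.IdealSheafData) hI
  have hst : I.comap (pullback.fst π π) = I.comap (pullback.snd π π) :=
    hI (pullback.fst π π) (pullback.snd π π) pullback.condition
  haveI : QuasiCompact (I.subschemeι ≫ π) := inferInstance
  have hstab : Subobject.mk (pullback.snd I.subschemeι (pullback.fst π π)) =
      Subobject.mk (pullback.snd I.subschemeι (pullback.snd π π)) := by
    apply mk_eq_mk_of_ker_eq
    rw [ker_snd_of_isClosedImmersion, ker_snd_of_isClosedImmersion, ker_subschemeι]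
    exact hst
  have hex : ((I.subschemeι ≫ π).ker).comap π = I := by
    rw [ker_comap_of_flat π (I.subschemeι ≫ π), ker_fst_eq_of_stable π I.subschemeι hstab,
      ker_subschemeι]
  refine ⟨((I.subschemeι ≫ π).ker : X'.IdealSheafData), hex, fun J' hJ' => ?_⟩
  exact eq_of_comap_eq π _ _ (Eq.trans hJ' hex.symm)

theorem idealPresheaf_isSheaf_fpqc : Presieve.IsSheaf Scheme.fpqcTopology idealPresheaf.{u} := by
  rw [Scheme.fpqcTopology_eq_propQCTopology, isSheaf_type_propQCTopology_iff]
  refine ⟨idealPresheaf_isSheaf_zariski, fun {R S} f hf hs => ?_⟩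
  haveI : Flat (Spec.map f) := hf
  haveI : Surjective (Spec.map f) := hs
  exact idealPresheaf_isSheafFor_singleton (Spec.map f)

/-- **S11731** -/
theorem main11731 {P : Scheme.{u}} {ι : Type u}
    {Q : ι → Scheme.{u}} (g : ∀ i, Q i ⟶ P) (hg : Presieve.ofArrows Q g ∈ Scheme.fpqcPrecoverage P)
    (I : ∀ i, (Q i).IdealSheafData)
    (h : ∀ i j, (I i).comap (pullback.fst (g i) (g j)) = (I j).comap (pullback.snd (g i) (g j))) :
    ∃! J : P.IdealSheafData, ∀ i, J.comap (g i) = I i := by
  have h1 : Presieve.IsSheafFor idealPresheaf.{u} (Presieve.ofArrows Q g) := by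
    rw [Presieve.isSheafFor_iff_generate]
    exact idealPresheaf_isSheaf_fpqc _ (Precoverage.generate_mem_toGrothendieck hg)
  have hs := (Presieve.isSheafFor_arrows_iff _ _).mp h1
  obtain ⟨J, hJ, hJu⟩ := hs I (fun i j Z p q comm => by
    show (I i).comap p = (I j).comap q
    calc (I i).comap p
        = (I i).comap (pullback.lift p q comm ≫ pullback.fst (g i) (g j)) := by
          rw [pullback.lift_fst]
      _ = ((I i).comap (pullback.fst (g i) (g j))).comap (pullback.lift p q comm) :=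
          comap_comp _ _ _
      _ = ((I j).comap (pullback.snd (g i) (g j))).comap (pullback.lift p q comm) := by
          rw [h i j]
      _ = (I j).comap (pullback.lift p q comm ≫ pullback.snd (g i) (g j)) :=
          (comap_comp _ _ _).symm
      _ = (I j).comap q := by rw [pullback.lift_snd])
  exact ⟨J, hJ, hJu⟩

end Groth.Agent.Lib.Helper29.IdealDesc
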