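import Mathlib
import Groth.Prelude.Def_Desc
import Groth.Prelude.Def_DescFam
import Groth.Agent.Lib.Helper29.IdealDesc

/-!
# Closed immersions descend along fpqc covering families (S6044)
-/

set_option autoImplicit false
set_option maxHeartbeats 1600000
set_option backward.isDefEq.respectTransparency false
set_option backward.isDefEq.respectTransparency.types false
universe u
open CategoryTheory CategoryTheory.Limits AlgebraicGeometry Opposite

namespace Groth.Agent.Lib.Helper29.DescClosed

open Scheme.IdealSheafData Groth.Agent.Lib.Helper29.IdealDesc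

noncomputable section

theorem over_hom_ext_of_mono {Y : Scheme.{u}} {A B : Over Y} [Mono B.hom] (g g' : A ⟶ B) :
    g = g' := by
  apply Over.OverMorphism.ext
  rw [← cancel_mono B.hom, Over.w g, Over.w g']

variable {S : Scheme.{u}} {ι : Type u} {X : ι → Scheme.{u}} (f : ∀ i, X i ⟶ S)

/-- the descent datum compares the pullbacks of the members -/
theorem ker_le_of_lifts (D : Desc.SchDDFam f) {i j : ι} {P : Scheme.{u}} (q1 : P ⟶ X i)
    (q2 : P ⟶ X j) (h : q1 ≫ f i = q2 ≫ f j) :
    (pullback.fst q2 (D.obj j).hom).ker ≤ (pullback.fst q1 (D.obj i).hom).ker := by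
  have hcond : pullback.fst q1 (D.obj i).hom ≫ q1 =
      pullback.snd q1 (D.obj i).hom ≫ (D.obj i).hom := pullback.condition
  have h' : (pullback.fst q1 (D.obj i).hom ≫ q1) ≫ f i =
      (pullback.fst q1 (D.obj i).hom ≫ q2) ≫ f j := by
    rw [Category.assoc, Category.assoc, h]
  let v : Desc.Lifts (D.obj i) (pullback.fst q1 (D.obj i).hom ≫ q1) :=
    ⟨pullback.snd q1 (D.obj i).hom, hcond.symm⟩
  have hw : (D.φ (pullback.fst q1 (D.obj i).hom ≫ q1) (pullback.fst q1 (D.obj i).hom ≫ q2) h'
      v).1 ≫ (D.obj j).hom = pullback.fst q1 (D.obj i).hom ≫ q2 :=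
    (D.φ (pullback.fst q1 (D.obj i).hom ≫ q1) (pullback.fst q1 (D.obj i).hom ≫ q2) h' v).2
  have he : pullback.lift (pullback.fst q1 (D.obj i).hom)
      (D.φ (pullback.fst q1 (D.obj i).hom ≫ q1) (pullback.fst q1 (D.obj i).hom ≫ q2) h' v).1
      hw.symm ≫ pullback.fst q2 (D.obj j).hom = pullback.fst q1 (D.obj i).hom :=
    pullback.lift_fst _ _ _
  calc (pullback.fst q2 (D.obj j).hom).ker
      ≤ (pullback.lift (pullback.fst q1 (D.obj i).hom)
          (D.φ (pullback.fst q1 (D.obj i).hom ≫ q1) (pullback.fst q1 (D.obj i).hom ≫ q2) h' v).1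
          hw.symm ≫ pullback.fst q2 (D.obj j).hom).ker := Scheme.Hom.le_ker_comp _ _
    _ = (pullback.fst q1 (D.obj i).hom).ker := by rw [he]

/-- **S6044** -/
theorem main6044 {S : Scheme.{u}} {ι : Type u} {X : ι → Scheme.{u}}
    (f : ∀ i, X i ⟶ S) (hf : Presieve.ofArrows X f ∈ Scheme.fpqcPrecoverage S)
    (D : Desc.SchDDFam f) (hD : ∀ i, IsClosedImmersion (D.obj i).hom) :
    D.IsEffective := by
  haveI : ∀ i, IsClosedImmersion (D.obj i).hom := hD
  have hcompat : ∀ i j, ((D.obj i).hom.ker).comap (pullback.fst (f i) (f j)) =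
      ((D.obj j).hom.ker).comap (pullback.snd (f i) (f j)) := by
    intro i j
    rw [← ker_fst_of_isClosedImmersion (D.obj i).hom (pullback.fst (f i) (f j)),
      ← ker_fst_of_isClosedImmersion (D.obj j).hom (pullback.snd (f i) (f j))]
    exact le_antisymm (ker_le_of_lifts f D _ _ pullback.condition.symm)
      (ker_le_of_lifts f D _ _ pullback.condition)
  obtain ⟨J, hJ, -⟩ := main11731 f hf (fun i => (D.obj i).hom.ker) hcompat
  let U : Over S := Over.mk J.subschemeι
  haveI : IsClosedImmersion U.hom := inferInstanceAs (IsClosedImmersion J.subschemeι)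
  haveI : ∀ i, IsClosedImmersion (pullback.fst (f i) U.hom) := fun i => inferInstance
  have hk : ∀ i, (pullback.fst (f i) U.hom).ker = (D.obj i).hom.ker := fun i => hJ i
  let a : ∀ i, (Desc.canonicalDDFam f U).obj i ⟶ D.obj i := fun i =>
    Over.homMk (IsClosedImmersion.lift (D.obj i).hom (pullback.fst (f i) U.hom) (hk i).ge)
      (IsClosedImmersion.lift_fac _ _ _)
  let b : ∀ i, D.obj i ⟶ (Desc.canonicalDDFam f U).obj i := fun i =>
    Over.homMk (IsClosedImmersion.lift (pullback.fst (f i) U.hom) (D.obj i).hom (hk i).le)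
      (IsClosedImmersion.lift_fac _ _ _)
  let A : (Desc.toDDFam f).obj U ⟶ D :=
    { hom := a
      comm := fun T i j x₀ x₁ h v w hw => by
        rw [← cancel_mono (D.obj j).hom, Category.assoc, Over.w (a j)]
        exact ((D.φ x₀ x₁ h w).2).trans (((Desc.canonicalDDFam f U).φ x₀ x₁ h v).2).symm }
  let B : D ⟶ (Desc.toDDFam f).obj U :=
    { hom := b
      comm := fun T i j x₀ x₁ h v w hw => by
        haveI : Mono ((Desc.canonicalDDFam f U).obj j).hom :=
          inferInstanceAs (Mono (pullback.fst (f j) U.hom))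
        rw [← cancel_mono ((Desc.canonicalDDFam f U).obj j).hom, Category.assoc, Over.w (b j)]
        exact (((Desc.canonicalDDFam f U).φ x₀ x₁ h w).2).trans ((D.φ x₀ x₁ h v).2).symm }
  refine ⟨U, ⟨⟨A, B, ?_, ?_⟩⟩⟩
  · apply Desc.SchDDFam.hom_ext
    funext i
    exact @over_hom_ext_of_mono _ _ _ (inferInstanceAs (Mono (pullback.fst (f i) U.hom))) _ _
  · apply Desc.SchDDFam.hom_ext
    funext i
    exact over_hom_ext_of_mono _ _

end

end Groth.Agent.Lib.Helper29.DescClosed
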