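import Mathlib
import Groth.Prelude.Def_Desc
import Groth.Prelude.Def_DescFam

/-!
# The canonical descent datum functor is fully faithful for fpqc covering families (S11719)
-/

set_option autoImplicit false
set_option maxHeartbeats 1600000
set_option backward.isDefEq.respectTransparency false
set_option backward.isDefEq.respectTransparency.types false
universe u
open CategoryTheory CategoryTheory.Limits AlgebraicGeometry Opposite

namespace Groth.Agent.Lib.Helper29.DescFF

noncomputable section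

theorem fpqc_isSheafFor {U : Scheme.{u}} (Y : Scheme.{u}) {ι : Type u} {V : ι → Scheme.{u}}
    (π : ∀ i, V i ⟶ U) (hπ : Presieve.ofArrows V π ∈ Scheme.fpqcPrecoverage U) :
    Presieve.IsSheafFor (yoneda.obj Y) (Presieve.ofArrows V π) := by
  have hsh : Presieve.IsSheaf Scheme.fpqcTopology (yoneda.obj Y) :=
    GrothendieckTopology.Subcanonical.isSheaf_of_isRepresentable (J := Scheme.fpqcTopology)
      (yoneda.obj Y)
  rw [Presieve.isSheafFor_iff_generate]
  exact hsh _ (Precoverage.generate_mem_toGrothendieck hπ)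

/-- morphisms of schemes glue along fpqc covering families -/
theorem fpqc_glue {U : Scheme.{u}} (Y : Scheme.{u}) {ι : Type u} {V : ι → Scheme.{u}}
    (π : ∀ i, V i ⟶ U) (hπ : Presieve.ofArrows V π ∈ Scheme.fpqcPrecoverage U)
    (ψ : ∀ i, V i ⟶ Y)
    (hcompat : ∀ (i j : ι) (Z : Scheme.{u}) (p : Z ⟶ V i) (q : Z ⟶ V j),
      p ≫ π i = q ≫ π j → p ≫ ψ i = q ≫ ψ j) :
    ∃ g : U ⟶ Y, ∀ i, π i ≫ g = ψ i := by
  have hs := (Presieve.isSheafFor_arrows_iff _ _).mp (fpqc_isSheafFor Y π hπ)
  obtain ⟨t, ht, -⟩ := hs ψ (fun i j Z gi gj comm => hcompat i j Z gi gj comm)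
  exact ⟨t, ht⟩

theorem fpqc_sep {U : Scheme.{u}} (Y : Scheme.{u}) {ι : Type u} {V : ι → Scheme.{u}}
    (π : ∀ i, V i ⟶ U) (hπ : Presieve.ofArrows V π ∈ Scheme.fpqcPrecoverage U)
    (g g' : U ⟶ Y) (h : ∀ i, π i ≫ g = π i ≫ g') : g = g' := by
  apply (fpqc_isSheafFor Y π hπ).isSeparatedFor.ext
  rintro Z p ⟨i⟩
  exact h i

variable {S : Scheme.{u}} {ι : Type u} {X : ι → Scheme.{u}} (f : ∀ i, X i ⟶ S)

theorem cover_bc (hf : Presieve.ofArrows X f ∈ Scheme.fpqcPrecoverage S) (U : Over S) :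
    Presieve.ofArrows (fun i => pullback (f i) U.hom) (fun i => pullback.snd (f i) U.hom) ∈
      Scheme.fpqcPrecoverage U.left :=
  Precoverage.mem_coverings_of_isPullback f hf U.hom (fun i => pullback.snd (f i) U.hom)
    (fun i => pullback.fst (f i) U.hom) (fun i => (IsPullback.of_hasPullback (f i) U.hom).flip)

theorem map_snd {U U' : Over S} (k : U ⟶ U') (i : ι) :
    (((Desc.toDDFam f).map k).hom i).left ≫ pullback.snd (f i) U'.hom =
      pullback.snd (f i) U.hom ≫ k.left :=
  pullback.lift_snd _ _ _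

theorem map_fst {U U' : Over S} (k : U ⟶ U') (i : ι) :
    (((Desc.toDDFam f).map k).hom i).left ≫ pullback.fst (f i) U'.hom =
      pullback.fst (f i) U.hom :=
  (pullback.lift_fst _ _ _).trans (Category.comp_id _)

theorem toDDFam_faithful (hf : Presieve.ofArrows X f ∈ Scheme.fpqcPrecoverage S) :
    (Desc.toDDFam f).Faithful := by
  constructor
  intro U U' g g' h
  apply Over.OverMorphism.ext
  refine fpqc_sep U'.left (fun i => pullback.snd (f i) U.hom) (cover_bc f hf U) g.left g'.left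
    (fun i => ?_)
  rw [← map_snd f g i, ← map_snd f g' i, h]

theorem toDDFam_full (hf : Presieve.ofArrows X f ∈ Scheme.fpqcPrecoverage S) :
    (Desc.toDDFam f).Full := by
  constructor
  intro U U' a
  have hcompat : ∀ (i j : ι) (Z : Scheme.{u}) (p : Z ⟶ pullback (f i) U.hom)
      (q : Z ⟶ pullback (f j) U.hom),
      p ≫ pullback.snd (f i) U.hom = q ≫ pullback.snd (f j) U.hom →
      p ≫ (a.hom i).left ≫ pullback.snd (f i) U'.hom =
        q ≫ (a.hom j).left ≫ pullback.snd (f j) U'.hom := by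
    intro i j Z p q hpq
    have h : (p ≫ pullback.fst (f i) U.hom) ≫ f i = (q ≫ pullback.fst (f j) U.hom) ≫ f j := by
      rw [Category.assoc, Category.assoc, pullback.condition, pullback.condition,
        ← Category.assoc, ← Category.assoc, hpq]
    obtain ⟨v, hv⟩ : ∃ v : Desc.Lifts ((Desc.canonicalDDFam f U).obj i)
        (p ≫ pullback.fst (f i) U.hom), v.1 = p := ⟨⟨p, rfl⟩, rfl⟩
    have hc : ((Desc.canonicalDDFam f U').φ (p ≫ pullback.fst (f i) U.hom)
        (q ≫ pullback.fst (f j) U.hom) h (a.push v)).1 =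
        ((Desc.canonicalDDFam f U).φ (p ≫ pullback.fst (f i) U.hom)
          (q ≫ pullback.fst (f j) U.hom) h v).1 ≫ (a.hom j).left :=
      a.comm (p ≫ pullback.fst (f i) U.hom) (q ≫ pullback.fst (f j) U.hom) h v (a.push v) rfl
    have hq : ((Desc.canonicalDDFam f U).φ (p ≫ pullback.fst (f i) U.hom)
        (q ≫ pullback.fst (f j) U.hom) h v).1 = q := by
      refine pullback.hom_ext (f := f j) (g := U.hom) ?_ ?_
      · exact pullback.lift_fst _ _ _
      · refine (pullback.lift_snd _ _ _).trans ?_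
        rw [hv]
        exact hpq
    have hw : ((Desc.canonicalDDFam f U').φ (p ≫ pullback.fst (f i) U.hom)
        (q ≫ pullback.fst (f j) U.hom) h (a.push v)).1 ≫ pullback.snd (f j) U'.hom =
        p ≫ (a.hom i).left ≫ pullback.snd (f i) U'.hom := by
      refine (pullback.lift_snd _ _ _).trans ?_
      show (v.1 ≫ (a.hom i).left) ≫ pullback.snd (f i) U'.hom = _
      rw [hv, Category.assoc]
    rw [← hw, hc, hq, Category.assoc]
  obtain ⟨ψ, hψ⟩ := fpqc_glue U'.left (fun i => pullback.snd (f i) U.hom) (cover_bc f hf U)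
    (fun i => (a.hom i).left ≫ pullback.snd (f i) U'.hom) hcompat
  have h1 : ∀ i, (a.hom i).left ≫ pullback.fst (f i) U'.hom = pullback.fst (f i) U.hom :=
    fun i => Over.w (a.hom i)
  have hover : ψ ≫ U'.hom = U.hom := by
    refine fpqc_sep S (fun i => pullback.snd (f i) U.hom) (cover_bc f hf U) _ _ (fun i => ?_)
    calc pullback.snd (f i) U.hom ≫ ψ ≫ U'.hom
        = (pullback.snd (f i) U.hom ≫ ψ) ≫ U'.hom := (Category.assoc _ _ _).symm
      _ = ((a.hom i).left ≫ pullback.snd (f i) U'.hom) ≫ U'.hom := by rw [hψ i]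
      _ = (a.hom i).left ≫ pullback.snd (f i) U'.hom ≫ U'.hom := Category.assoc _ _ _
      _ = (a.hom i).left ≫ pullback.fst (f i) U'.hom ≫ f i := by rw [pullback.condition]
      _ = ((a.hom i).left ≫ pullback.fst (f i) U'.hom) ≫ f i := (Category.assoc _ _ _).symm
      _ = pullback.fst (f i) U.hom ≫ f i := by rw [h1 i]
      _ = pullback.snd (f i) U.hom ≫ U.hom := pullback.condition
  refine ⟨Over.homMk ψ hover, ?_⟩
  apply Desc.SchDDFam.hom_ext
  funext i
  apply Over.OverMorphism.ext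
  refine pullback.hom_ext (f := f i) (g := U'.hom) ?_ ?_
  · rw [map_fst, h1 i]
  · rw [map_snd]
    exact hψ i

/-- **S11719** -/
theorem main11719 {S : Scheme.{u}} {ι : Type u} {X : ι → Scheme.{u}}
    (f : ∀ i, X i ⟶ S) (hf : Presieve.ofArrows X f ∈ Scheme.fpqcPrecoverage S) :
    (Desc.toDDFam f).Full ∧ (Desc.toDDFam f).Faithful :=
  ⟨toDDFam_full f hf, toDDFam_faithful f hf⟩

end

end Groth.Agent.Lib.Helper29.DescFF
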