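import Mathlib
import Groth.Prelude.Def_Desc
import Groth.Prelude.Def_DescFam
import Groth.Agent.Lib.Helper29.DescFF

/-!
# Open immersions descend along fpqc covering families (S6045)
-/

set_option autoImplicit false
set_option maxHeartbeats 1600000
set_option backward.isDefEq.respectTransparency false
set_option backward.isDefEq.respectTransparency.types false
universe u
open CategoryTheory CategoryTheory.Limits AlgebraicGeometry Opposite

namespace Groth.Agent.Lib.Helper29.DescOpen

noncomputable section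

/-- open subsets glue along fpqc covering families (the presheaf `C(-, Prop)` is an fpqc sheaf) -/
theorem fpqc_glue_opens {U : Scheme.{u}} {ι : Type u} {V : ι → Scheme.{u}}
    (π : ∀ i, V i ⟶ U) (hπ : Presieve.ofArrows V π ∈ Scheme.fpqcPrecoverage U)
    (W : ∀ i, (V i).Opens)
    (hcompat : ∀ (i j : ι) (Z : Scheme.{u}) (p : Z ⟶ V i) (q : Z ⟶ V j),
      p ≫ π i = q ≫ π j → ∀ z : Z, p z ∈ W i ↔ q z ∈ W j) :
    ∃ W₀ : U.Opens, ∀ i (x : V i), π i x ∈ W₀ ↔ x ∈ W i := by
  have hsh : Presieve.IsSheaf Scheme.fpqcTopology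
      (continuousMapPresheaf Prop : Scheme.{u}ᵒᵖ ⥤ Type u) :=
    (isSheaf_iff_isSheaf_of_type _ _).mp (isSheaf_fpqcTopology_continuousMapPresheaf Prop)
  have h1 : Presieve.IsSheafFor (continuousMapPresheaf Prop : Scheme.{u}ᵒᵖ ⥤ Type u)
      (Presieve.ofArrows V π) := by
    rw [Presieve.isSheafFor_iff_generate]
    exact hsh _ (Precoverage.generate_mem_toGrothendieck hπ)
  have hs := (Presieve.isSheafFor_arrows_iff _ _).mp h1
  let χ : ∀ i, C(V i, Prop) :=
    fun i => ⟨fun x => x ∈ W i, isOpen_iff_continuous_mem.mp (W i).isOpen⟩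
  obtain ⟨(t : C(U, Prop)), ht, -⟩ := hs χ (fun i j Z gi gj comm => by
    apply ContinuousMap.ext
    intro z
    exact propext (hcompat i j Z gi gj comm z))
  refine ⟨⟨{s | t s}, continuous_Prop.mp t.continuous⟩, fun i x => ?_⟩
  have h2 := congrArg (fun c : C(V i, Prop) => c x) (ht i)
  exact Iff.of_eq h2

variable {S : Scheme.{u}} {ι : Type u} {X : ι → Scheme.{u}} (f : ∀ i, X i ⟶ S)

/-- the images of the members of a descent datum of open immersions are compatible -/
theorem compat_aux (D : Desc.SchDDFam f) (hD : ∀ i, IsOpenImmersion (D.obj i).hom)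
    (i j : ι) (Z : Scheme.{u}) (p : Z ⟶ X i) (q : Z ⟶ X j) (h : p ≫ f i = q ≫ f j) (z : Z)
    (hz : p z ∈ Set.range (D.obj i).hom) : q z ∈ Set.range (D.obj j).hom := by
  haveI := hD i
  have hr : Set.range (Z.fromSpecResidueField z ≫ p) ⊆ Set.range (D.obj i).hom := by
    rintro _ ⟨s, rfl⟩
    have h3 : (Z.fromSpecResidueField z ≫ p) s = p z := by
      rw [Scheme.Hom.comp_apply, Scheme.fromSpecResidueField_apply]
    rw [h3]
    exact hz
  have h' : (Z.fromSpecResidueField z ≫ p) ≫ f i = (Z.fromSpecResidueField z ≫ q) ≫ f j := by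
    rw [Category.assoc, Category.assoc, h]
  let v : Desc.Lifts (D.obj i) (Z.fromSpecResidueField z ≫ p) :=
    ⟨IsOpenImmersion.lift (D.obj i).hom (Z.fromSpecResidueField z ≫ p) hr,
      IsOpenImmersion.lift_fac _ _ hr⟩
  have hw : (D.φ (Z.fromSpecResidueField z ≫ p) (Z.fromSpecResidueField z ≫ q) h' v).1 ≫
      (D.obj j).hom = Z.fromSpecResidueField z ≫ q :=
    (D.φ (Z.fromSpecResidueField z ≫ p) (Z.fromSpecResidueField z ≫ q) h' v).2
  obtain ⟨s, hs⟩ : ∃ s, Z.fromSpecResidueField z s = z := by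
    have h4 : z ∈ Set.range (Z.fromSpecResidueField z) := by
      rw [Scheme.range_fromSpecResidueField]
      rfl
    exact h4
  refine ⟨(D.φ (Z.fromSpecResidueField z ≫ p) (Z.fromSpecResidueField z ≫ q) h' v).1 s, ?_⟩
  rw [← Scheme.Hom.comp_apply, hw, Scheme.Hom.comp_apply, hs]

/-- **S6045** -/
theorem main6045 {S : Scheme.{u}} {ι : Type u} {X : ι → Scheme.{u}}
    (f : ∀ i, X i ⟶ S) (hf : Presieve.ofArrows X f ∈ Scheme.fpqcPrecoverage S)
    (D : Desc.SchDDFam f) (hD : ∀ i, IsOpenImmersion (D.obj i).hom) :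
    D.IsEffective := by
  haveI : ∀ i, IsOpenImmersion (D.obj i).hom := hD
  let W : ∀ i, (X i).Opens := fun i => (D.obj i).hom.opensRange
  obtain ⟨W₀, hW₀⟩ := fpqc_glue_opens f hf W (fun i j Z p q h z =>
    ⟨compat_aux f D hD i j Z p q h z, compat_aux f D hD j i Z q p h.symm z⟩)
  let U : Over S := Over.mk W₀.ι
  haveI : IsOpenImmersion U.hom := inferInstanceAs (IsOpenImmersion W₀.ι)
  have hrange : ∀ i, Set.range (pullback.fst (f i) U.hom) = Set.range (D.obj i).hom := by
    intro i
    rw [Scheme.Pullback.range_fst]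
    ext x
    have h5 : Set.range U.hom = (W₀ : Set S) := Scheme.Opens.range_ι W₀
    rw [Set.mem_preimage, h5]
    exact hW₀ i x
  let e : ∀ i, pullback (f i) U.hom ≅ (D.obj i).left := fun i =>
    IsOpenImmersion.isoOfRangeEq (pullback.fst (f i) U.hom) (D.obj i).hom (hrange i)
  let a : ∀ i, (Desc.canonicalDDFam f U).obj i ⟶ D.obj i := fun i =>
    Over.homMk (e i).hom (IsOpenImmersion.isoOfRangeEq_hom_fac _ _ (hrange i))
  let b : ∀ i, D.obj i ⟶ (Desc.canonicalDDFam f U).obj i := fun i =>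
    Over.homMk (e i).inv (IsOpenImmersion.isoOfRangeEq_inv_fac _ _ (hrange i))
  let A : (Desc.toDDFam f).obj U ⟶ D :=
    { hom := a
      comm := fun T i j x₀ x₁ h v w hw => by
        rw [← cancel_mono (D.obj j).hom, Category.assoc, Over.w (a j)]
        exact ((D.φ x₀ x₁ h w).2).trans (((Desc.canonicalDDFam f U).φ x₀ x₁ h v).2).symm }
  let B : D ⟶ (Desc.toDDFam f).obj U :=
    { hom := b
      comm := fun T i j x₀ x₁ h v w hw => by
        haveI : Mono ((Desc.canonicalDDFam f U).obj j).hom :=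
          inferInstanceAs (Mono (pullback.fst (f j) U.hom))
        rw [← cancel_mono ((Desc.canonicalDDFam f U).obj j).hom, Category.assoc, Over.w (b j)]
        exact (((Desc.canonicalDDFam f U).φ x₀ x₁ h w).2).trans ((D.φ x₀ x₁ h v).2).symm }
  refine ⟨U, ⟨⟨A, B, ?_, ?_⟩⟩⟩
  · apply Desc.SchDDFam.hom_ext
    funext i
    apply Over.OverMorphism.ext
    exact (e i).hom_inv_id
  · apply Desc.SchDDFam.hom_ext
    funext i
    apply Over.OverMorphism.ext
    exact (e i).inv_hom_id

end

end Groth.Agent.Lib.Helper29.DescOpen
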