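import Mathlib
import Groth.Prelude.Def_ModSite
import Groth.Agent.Lib.Helper13.ModSiteFlat
import Groth.Agent.Lib.Helper21.CoprodSec.Local
import Groth.Agent.Lib.Helper25.LocGenSite

/-!
# Directed colimits of modules on a quasi-compact ringed space with finite type colimit
-/

set_option autoImplicit false
set_option maxHeartbeats 1600000
universe u

open CategoryTheory CategoryTheory.Limits TopologicalSpace Opposite
open Groth.Agent.Lib.Helper13 Groth.Agent.Lib.Helper13.ModSiteFlat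
open Groth.Agent.Lib.Helper21.CoprodSec Groth.Agent.Lib.Helper25.LocGenSite

noncomputable section

namespace Groth.Agent.Lib.Helper29.DirColimFT

variable {X : TopCat.{u}} (O : TopCat.Sheaf CommRingCat.{u} X)
  {I : Type u} [Preorder I] [Nonempty I] [IsDirected I (· ≤ ·)] (D : I ⥤ ModSite.Mod O)
  (c : Cocone D) (hc : IsColimit c)

/-- the canonical map from the coproduct to the colimit. -/
def sigmaπ : (∐ D.obj) ⟶ c.pt := Sigma.desc (fun i => c.ι.app i)

include hc in
theorem epi_sigmaπ : Epi (sigmaπ O D c) :=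
  ⟨fun g h e => hc.hom_ext (fun i => by
    have := congrArg (fun t => Sigma.ι D.obj i ≫ t) e
    simpa [sigmaπ] using this)⟩

omit [Nonempty I] [IsDirected I (· ≤ ·)] in
lemma app_ι_of_le {i j : I} (h : i ≤ j) (V : Opens X) (m : (D.obj i).val.obj (op V)) :
    app (c.ι.app j) V (app (D.map (homOfLE h)) V m) = app (c.ι.app i) V m := by
  rw [← app_comp, c.w]

include hc in
/-- sections of the colimit locally come from some stage. -/
theorem exists_stage_lift {U : Opens X} (t : c.pt.val.obj (op U)) (y : X) (hy : y ∈ U) :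
    ∃ (V : Opens X) (hV : V ≤ U), y ∈ V ∧ ∃ (j : I) (m : (D.obj j).val.obj (op V)),
      app (c.ι.app j) V m = res c.pt hV t := by
  haveI := epi_sigmaπ O D c hc
  obtain ⟨W', hW', hyW', m, hm⟩ := exists_local_lift (sigmaπ O D c) t y hy
  obtain ⟨R, hR, h⟩ := exists_local_finset_sum D.obj (Cofan.mk _ (Sigma.ι D.obj))
    (coproductIsCoproduct _) W' m
  obtain ⟨V, g, hg, hyV⟩ := hR y hyW'
  obtain ⟨S, s, hs⟩ := h g hg
  obtain ⟨j, hj⟩ := S.exists_le
  refine ⟨V, g.le.trans hW', hyV, j,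
    ∑ i ∈ S.attach, app (D.map (homOfLE (hj i.1 i.2))) V (s i.1), ?_⟩
  have h1 : res c.pt (g.le.trans hW') t = app (sigmaπ O D c) V (res (∐ D.obj) g.le m) := by
    rw [app_res, hm, res_res]
  have h2 : res (∐ D.obj) g.le m = ∑ i ∈ S, app (Sigma.ι D.obj i) V (s i) := hs
  rw [h1, h2, map_sum, map_sum, ← Finset.sum_attach S]
  refine Finset.sum_congr rfl (fun i _ => ?_)
  rw [app_ι_of_le, ← app_comp]
  congr 2
  simp [sigmaπ]

/-- every section of the colimit over an open subset of `V` locally lifts to stage `i`. -/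
def Good (i : I) (V : Opens X) : Prop :=
  ∀ (W : Opens X) (_ : W ≤ V) (n : c.pt.val.obj (op W)) (y : X), y ∈ W →
    ∃ (W' : Opens X) (hW' : W' ≤ W), y ∈ W' ∧ ∃ m : (D.obj i).val.obj (op W'),
      app (c.ι.app i) W' m = res c.pt hW' n

omit [Nonempty I] [IsDirected I (· ≤ ·)] in
theorem Good.mono_index {i j : I} (h : i ≤ j) {V : Opens X} (hg : Good O D c i V) :
    Good O D c j V := by
  intro W hW n y hy
  obtain ⟨W', hW', hyW', m, hm⟩ := hg W hW n y hy
  exact ⟨W', hW', hyW', app (D.map (homOfLE h)) W' m, by rw [app_ι_of_le, hm]⟩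

include hc in
theorem exists_good [SheafOfModules.IsFiniteType (R := ModSite.ringSh O) c.pt] (x : X) :
    ∃ V : Opens X, x ∈ V ∧ ∃ i : I, Good O D c i V := by
  classical
  obtain ⟨U, hxU, ι, _, s, hs⟩ :=
    (isFiniteType_iff (R := ModSite.ringSh O) c.pt).1 inferInstance x
  have hk := fun k => exists_stage_lift O D c hc (s k) x hxU
  choose V hV hxV j m hm using hk
  obtain ⟨V₀, hxV₀, hV₀⟩ := exists_open_le_of_finite x V hxV
  obtain ⟨i, hi⟩ := (Finset.univ.image j).exists_le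
  have hi' : ∀ k, j k ≤ i := fun k => hi _ (Finset.mem_image_of_mem j (Finset.mem_univ k))
  refine ⟨V₀ ⊓ U, ⟨hxV₀, hxU⟩, i, ?_⟩
  intro W hW n y hy
  have hWU : W ≤ U := hW.trans inf_le_right
  obtain ⟨W', hW', hyW', r, hr⟩ := hs W hWU n y hy
  have hW'V : ∀ k, W' ≤ V k := fun k => (hW'.trans hW).trans (inf_le_left.trans (hV₀ k))
  refine ⟨W', hW', hyW',
    ∑ k, r k • app (D.map (homOfLE (hi' k))) W' (res (D.obj (j k)) (hW'V k) (m k)), ?_⟩
  rw [hr, map_sum]
  refine Finset.sum_congr rfl (fun k _ => ?_)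
  rw [map_smul, app_ι_of_le, app_res, hm]
  exact congrArg (fun z => r k • z) (res_res c.pt _ _ _)

include hc in
theorem exists_epi [CompactSpace X] [SheafOfModules.IsFiniteType (R := ModSite.ringSh O) c.pt] :
    ∃ i : I, Epi (c.ι.app i) := by
  classical
  have hg := exists_good O D c hc
  choose V hxV i hgood using hg
  obtain ⟨T, hT⟩ := CompactSpace.elim_nhds_subcover (fun x => (V x : Set X))
    (fun x => (V x).2.mem_nhds (hxV x))
  obtain ⟨i₀, hi₀⟩ := (T.image i).exists_le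
  refine ⟨i₀, epi_of_pointwise _ ?_⟩
  intro W n y hy
  have hy' : y ∈ ⋃ x ∈ T, (V x : Set X) := by
    rw [hT]
    trivial
  obtain ⟨x, hxT, hyx⟩ : ∃ x ∈ T, y ∈ V x := by simpa using hy'
  have hgx : Good O D c i₀ (V x) :=
    Good.mono_index O D c (hi₀ _ (Finset.mem_image_of_mem i hxT)) (hgood x)
  obtain ⟨W', hW', hyW', m, hm⟩ :=
    hgx (W ⊓ V x) inf_le_right (res c.pt inf_le_left n) y ⟨hy, hyx⟩
  exact ⟨W', hW'.trans inf_le_left, hyW', m, hm.trans (res_res c.pt _ _ _)⟩

include hc in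
theorem main6834 [CompactSpace X] [SheafOfModules.IsFiniteType (R := ModSite.ringSh O) c.pt] :
    (∃ i : I, Epi (c.ι.app i)) ∧
      ((∀ (i j : I) (f : i ⟶ j), Mono (D.map f)) → ∃ i : I, IsIso (c.ι.app i)) := by
  obtain ⟨i, hi⟩ := exists_epi O D c hc
  refine ⟨⟨i, hi⟩, fun hmono => ⟨i, ?_⟩⟩
  haveI := hmono
  haveI : HasExactColimitsOfShape (Under i) (ModSite.Mod O) :=
    hasExactColimitsOfShape_mod O (Under i)
  haveI : Mono (c.ι.app i) := hc.mono_ι_app_of_isFiltered i
  exact isIso_of_mono_of_epi _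

end Groth.Agent.Lib.Helper29.DirColimFT
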