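import Mathlib
import Groth.Prelude.Def_AlgGrp
import Groth.Prelude.Def_Red
import Groth.Agent.Lib.Helper29.SchDomEpi

/-!
# Commutativity passes from the generic fibre to a flat separated group over a domain (S18063)
-/
set_option autoImplicit false
set_option maxHeartbeats 1600000
set_option linter.style.haveILetI false
universe u
open CategoryTheory CategoryTheory.Limits MonoidalCategory CartesianMonoidalCategory MonObj GrpObj
  AlgebraicGeometry

noncomputable section

namespace Groth.Agent.Lib.Helper29.DvrComm

theorem isSchemeTheoreticallyDominant_Spec_map {A K : Type u} [CommRing A] [IsDomain A]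
    [CommRing K] (φ : A →+* K) (hφ : Function.Injective φ) :
    IsSchemeTheoreticallyDominant (Spec.map (CommRingCat.ofHom φ)) := by
  haveI : IsReduced (Spec (CommRingCat.of A)) := inferInstance
  rw [isSchemeTheoreticallyDominant_iff_isDominant, isDominant_iff]
  have h : DenseRange (PrimeSpectrum.comap φ) := by
    rw [PrimeSpectrum.denseRange_comap_iff_ker_le_nilRadical,
      (RingHom.injective_iff_ker_eq_bot φ).mp hφ]
    exact bot_le
  exact h

/-- two maps of `S`-schemes from a flat `S`-scheme to a separated one agree if they agree after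
base change along a quasi-compact schematically dominant `j : S' ⟶ S`. -/
theorem eq_of_map_pullback_eq {S S' : Scheme.{u}} (j : S' ⟶ S) [QuasiCompact j]
    [IsSchemeTheoreticallyDominant j] {Y B : Over S} [Flat Y.hom] [IsSeparated B.hom]
    (a b : Y ⟶ B) (h : (Over.pullback j).map a = (Over.pullback j).map b) : a = b := by
  let p : pullback Y.hom j ⟶ Y.left := pullback.fst Y.hom j
  haveI : IsSchemeTheoreticallyDominant p := inferInstance
  let X : Over S := Over.mk (p ≫ Y.hom)
  let r : X ⟶ Y := Over.homMk p rfl
  have hpa : ((Over.pullback j).map a).left ≫ pullback.fst B.hom j = p ≫ a.left :=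
    pullback.lift_fst _ _ _
  have hpb : ((Over.pullback j).map b).left ≫ pullback.fst B.hom j = p ≫ b.left :=
    pullback.lift_fst _ _ _
  have hp : p ≫ a.left = p ≫ b.left := by rw [← hpa, ← hpb, h]
  refine SchDomEpi.eq_of_comp_eq_of_ker_eq_bot r (Scheme.Hom.ker_eq_bot p) a b ?_
  apply Over.OverMorphism.ext
  exact hp

theorem isCommMonObj_of_pullback {S S' : Scheme.{u}} (j : S' ⟶ S) [QuasiCompact j]
    [IsSchemeTheoreticallyDominant j] (G : Over S) [GrpObj G] [Flat G.hom] [IsSeparated G.hom]
    [IsCommMonObj (Red.bc j G)] : IsCommMonObj G := by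
  let F := Over.pullback j
  have h1 : (β_ (F.obj G) (F.obj G)).hom ≫ μ[Red.bc j G] = μ[Red.bc j G] :=
    IsCommMonObj.mul_comm (Red.bc j G)
  have hμ : μ[Red.bc j G] = Functor.LaxMonoidal.μ F G G ≫ F.map μ[G] := rfl
  have h2 : F.map ((β_ G G).hom ≫ μ[G]) = F.map μ[G] := by
    rw [← cancel_epi (Functor.LaxMonoidal.μ F G G), Functor.map_comp,
      Functor.LaxBraided.braided_assoc, ← hμ, h1]
  haveI : Flat (G ⊗ G).hom := by
    rw [Over.tensorObj_hom]
    infer_instance
  exact ⟨eq_of_map_pullback_eq j _ _ h2⟩

theorem main18063 (A : Type u) [CommRing A] [IsDomain A] [IsDiscreteValuationRing A]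
    (K : Type u) [Field K] [Algebra A K] [IsFractionRing A K]
    (G : Over (Spec (CommRingCat.of A))) [GrpObj G] [Flat G.hom]
    [LocallyOfFinitePresentation G.hom] [QuasiCompact G.hom]
    [IsSeparated G.hom]
    [IsCommMonObj (Red.bc (Spec.map (CommRingCat.ofHom (algebraMap A K))) G)] :
    IsCommMonObj (Red.bc (Spec.map (CommRingCat.ofHom
      (algebraMap A (IsLocalRing.ResidueField A)))) G) := by
  haveI := isSchemeTheoreticallyDominant_Spec_map (algebraMap A K)
    (IsFractionRing.injective A K)
  haveI : IsCommMonObj G :=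
    isCommMonObj_of_pullback (Spec.map (CommRingCat.ofHom (algebraMap A K))) G
  exact Functor.isCommMonObj_obj

end Groth.Agent.Lib.Helper29.DvrComm
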