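import Groth.Agent.Lib.Helper29.SGA3Quot

/-!
# Helper library (helper29): quotient by an open subgroup is étale (light-import variant of `EtaleQuot`)

* `diag_unit_square`: the diagonal of a group object is the pullback of the unit section.
* `etale_of_kernel_open`: an fppf quotient `p : G ⟶ Q` with open kernel has `Q` étale
  (if `G` is flat and locally of finite presentation).
* `main5353`
-/

set_option autoImplicit false
set_option maxHeartbeats 1600000
universe u
open CategoryTheory CategoryTheory.Limits AlgebraicGeometry MonoidalCategory CartesianMonoidalCategory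
  MonObj GrpObj

namespace Groth.Agent.Lib.Helper29.EtaleQuot0

open Groth.Agent.Lib.Helper29 Groth.Agent.Lib.Helper29.AssocBundle
  Groth.Agent.Lib.Helper29.SGA3Quot Groth.Agent.Lib.Helper29.TorsorComp

noncomputable section

variable {S : Scheme.{u}}

theorem diag_unit_square (Q : Over S) [GrpObj Q] :
    IsPullback (lift (𝟙 Q) (𝟙 Q)) (toUnit Q) ((fst Q Q)⁻¹ * snd Q Q) η[Q] := by
  have hD : ∀ {T : Over S} (t : T ⟶ Q ⊗ Q),
      t ≫ ((fst Q Q)⁻¹ * snd Q Q) = (t ≫ fst Q Q)⁻¹ * (t ≫ snd Q Q) := by
    intro T t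
    rw [MonObj.comp_mul, GrpObj.comp_inv]
  have w : lift (𝟙 Q) (𝟙 Q) ≫ ((fst Q Q)⁻¹ * snd Q Q) = toUnit Q ≫ η[Q] := by
    rw [hD, lift_fst, lift_snd, _root_.inv_mul_cancel, Hom.one_def]
  refine isPullback_of_existsUnique w (fun T t y hty => ?_)
  rw [hD] at hty
  have hy : y = toUnit T := toUnit_unique _ _
  have h1 : (t ≫ fst Q Q)⁻¹ * (t ≫ snd Q Q) = 1 := by
    rw [hty, hy, Hom.one_def]
  have h2 : t ≫ fst Q Q = t ≫ snd Q Q := _root_.inv_mul_eq_one.1 h1
  refine ⟨t ≫ fst Q Q, ⟨?_, toUnit_unique _ _⟩, fun m hm => ?_⟩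
  · rw [comp_lift, Category.comp_id]
    apply CartesianMonoidalCategory.hom_ext
    · rw [lift_fst]
    · rw [lift_snd, h2]
  · rw [← hm.1, Category.assoc, lift_fst, Category.comp_id]

/-- a group scheme whose unit section is an open immersion is formally unramified -/
theorem formallyUnramified_of_isOpenImmersion_unit (Q : Over S) [GrpObj Q]
    (hη : IsOpenImmersion η[Q].left) : FormallyUnramified Q.hom := by
  have sq := (diag_unit_square Q).flip.map (Over.forget S)
  have hd : IsOpenImmersion (lift (𝟙 Q) (𝟙 Q)).left :=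
    MorphismProperty.of_isPullback (P := @IsOpenImmersion) sq hη
  haveI : IsOpenImmersion (pullback.diagonal Q.hom) := hd
  infer_instance

theorem etale_of_kernel_open' {G0 G Q : Over S} [GrpObj G] [GrpObj Q]
    [Flat Q.hom] [LocallyOfFinitePresentation Q.hom] (i : G0 ⟶ G) [IsOpenImmersion i.left]
    (p : G ⟶ Q) [Surjective p.left] [Flat p.left] [LocallyOfFinitePresentation p.left]
    (hK : IsPullback i (toUnit G0) p η[Q]) : Etale Q.hom := by
  have hK' : IsPullback i.left (toUnit G0).left p.left η[Q].left := hK.map (Over.forget S)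
  have hη : IsOpenImmersion η[Q].left :=
    MorphismProperty.of_isPullback_of_descendsAlong (P := @IsOpenImmersion)
      (Q := (@Surjective ⊓ @Flat ⊓ @LocallyOfFinitePresentation : MorphismProperty Scheme.{u}))
      hK' ⟨⟨inferInstance, inferInstance⟩, inferInstance⟩ inferInstance
  haveI : FormallyUnramified Q.hom := formallyUnramified_of_isOpenImmersion_unit Q hη
  exact Etale.of_formallyUnramified_of_flat Q.hom

end

end Groth.Agent.Lib.Helper29.EtaleQuot0
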