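import Groth.Agent.Lib.Helper29.ExtGrp
import Groth.Agent.Lib.Helper14.GrpHomog
import Groth.Agent.Lib.Helper28.GenFlatScheme
import Groth.Agent.Lib.Helper22.SmoothRed
import Groth.Agent.Lib.Helper29.EtaleQuot0

/-!
# Helper library (helper29): surjective homomorphisms onto reduced algebraic groups are flat

* `flat_of_surjective_hom`: generic flatness (helper28) + homogeneity (helper14)
* `main8003`: a surjective homomorphism of smooth algebraic groups is smooth iff its kernel is
-/

set_option autoImplicit false
set_option maxHeartbeats 1600000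
universe u

namespace Groth.Agent.Lib.Helper29.SmoothHom

open CategoryTheory CategoryTheory.Limits AlgebraicGeometry MonoidalCategory
  CartesianMonoidalCategory MonObj GrpObj
open Groth.Agent.Lib.Helper29 Groth.Agent.Lib.Helper29.AssocBundle
  Groth.Agent.Lib.Helper29.SGA3Quot Groth.Agent.Lib.Helper29.ExtGrp

theorem flat_of_surjective_hom {k : Type u} [Field k] {G H : Over (Spec (CommRingCat.of k))}
    [GrpObj G] [GrpObj H] [LocallyOfFiniteType G.hom] [QuasiCompact G.hom]
    [LocallyOfFiniteType H.hom] [IsReduced H.left] [Flat G.hom]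
    (φ : G ⟶ H) [IsMonHom φ] [Surjective φ.left] : Flat φ.left := by
  haveI : IsLocallyNoetherian (Spec (CommRingCat.of k)) := inferInstance
  haveI : IsLocallyNoetherian H.left := LocallyOfFiniteType.isLocallyNoetherian H.hom
  haveI : QuasiSeparated H.hom :=
    (HasAffineProperty.iff_of_isAffine (P := @QuasiSeparated)).2 inferInstance
  haveI : QuasiCompact φ.left := quasiCompact_left φ
  have hw : φ.left ≫ H.hom = G.hom := Over.w φ
  haveI : LocallyOfFiniteType (φ.left ≫ H.hom) := by rw [hw]; infer_instance
  haveI : LocallyOfFiniteType φ.left := locallyOfFiniteType_of_comp φ.left H.hom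
  obtain ⟨U, hU, hflat, -⟩ := Groth.Agent.Lib.Helper28.GenFlat.generic_flat φ.left
  obtain ⟨pt⟩ : Nonempty (Spec (CommRingCat.of k)) := inferInstance
  haveI : Nonempty H.left := ⟨η[H].left pt⟩
  obtain ⟨h0, hh0⟩ := hU.nonempty
  obtain ⟨x, hx⟩ := φ.left.surjective h0
  have hxU : x ∈ φ.left ⁻¹ᵁ U := by
    show φ.left x ∈ U
    rw [hx]
    exact hh0
  have sq := (isPullback_morphismRestrict φ.left U).flip
  haveI := hflat
  have h1 : ((φ.left ∣_ U).stalkMap ⟨x, hxU⟩).hom.Flat := Flat.stalkMap (φ.left ∣_ U) ⟨x, hxU⟩
  have h2 := (Groth.Agent.Lib.Helper14.GrpHomog.flatAt_iff_of_isPullback_of_flat sq ⟨x, hxU⟩).1 h1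
  refine Flat.of_stalkMap φ.left (fun y => ?_)
  haveI : Subsingleton (Spec (CommRingCat.of k)) := inferInstance
  exact Groth.Agent.Lib.Helper14.GrpHomog.flatAt_of_flatAt φ _ y (Subsingleton.elim _ _) h2

theorem main8003 (k : Type u) [Field k]
    (G H N : Over (Spec (CommRingCat.of k))) [GrpObj G] [GrpObj H]
    [LocallyOfFiniteType G.hom] [QuasiCompact G.hom] [Smooth G.hom]
    [LocallyOfFiniteType H.hom] [QuasiCompact H.hom] [Smooth H.hom]
    (φ : G ⟶ H) [IsMonHom φ] [Surjective φ.left] (i : N ⟶ G) (hN : AlgGrp.IsKernel i φ) :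
    Smooth φ.left ↔ Smooth N.hom := by
  have hN' : IsPullback i (toUnit N) φ η[H] := hN
  have sqN : IsPullback i.left N.hom φ.left η[H].left := hN'.map (Over.forget _)
  constructor
  · intro h
    exact MorphismProperty.of_isPullback (P := @Smooth) sqN h
  · intro h
    haveI : IsReduced (Spec (CommRingCat.of k)) := inferInstance
    haveI : IsReduced H.left := Groth.Agent.Lib.Helper22.SmoothRed.isReduced_of_smooth H.hom
    haveI : Flat G.hom := inferInstance
    haveI hflat : Flat φ.left := flat_of_surjective_hom φ
    have sq0 := QuotGeom.isPullback_of_isKernel φ i hN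
    have sq : IsPullback ((G ◁ i) ≫ μ[G]).left (fst G N).left φ.left φ.left :=
      sq0.flip.map (Over.forget _)
    haveI : IsLocallyNoetherian (Spec (CommRingCat.of k)) := inferInstance
    haveI : IsLocallyNoetherian H.left := LocallyOfFiniteType.isLocallyNoetherian H.hom
    have hw : φ.left ≫ H.hom = G.hom := Over.w φ
    haveI : LocallyOfFiniteType (φ.left ≫ H.hom) := by rw [hw]; infer_instance
    haveI : LocallyOfFiniteType φ.left := locallyOfFiniteType_of_comp φ.left H.hom
    haveI hlfp : LocallyOfFinitePresentation φ.left := inferInstance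
    have hfst : Smooth (fst G N).left := by
      show Smooth (pullback.fst G.hom N.hom)
      exact MorphismProperty.pullback_fst (P := @Smooth) G.hom N.hom h
    exact (ocovFppf φ inferInstance hflat hlfp).prop_of_base_change @Smooth φ.left _ _ sq hfst

theorem main15593 (k : Type u) [Field k]
    (G G' : Over (Spec (CommRingCat.of k))) [GrpObj G] [GrpObj G']
    [Smooth G.hom] [QuasiCompact G.hom] [Smooth G'.hom] [QuasiCompact G'.hom]
    (f : G ⟶ G') [IsMonHom f] [Mono f] [Surjective f.left] : IsIso f := by
  haveI : IsReduced (Spec (CommRingCat.of k)) := inferInstance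
  haveI : IsReduced G'.left := Groth.Agent.Lib.Helper22.SmoothRed.isReduced_of_smooth G'.hom
  haveI : Flat G.hom := inferInstance
  haveI : LocallyOfFiniteType G.hom := inferInstance
  haveI : LocallyOfFiniteType G'.hom := inferInstance
  haveI hflat : Flat f.left := flat_of_surjective_hom f
  haveI : IsLocallyNoetherian (Spec (CommRingCat.of k)) := inferInstance
  haveI : IsLocallyNoetherian G'.left := LocallyOfFiniteType.isLocallyNoetherian G'.hom
  have hw : f.left ≫ G'.hom = G.hom := Over.w f
  haveI : LocallyOfFiniteType (f.left ≫ G'.hom) := by rw [hw]; infer_instance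
  haveI : LocallyOfFiniteType f.left := locallyOfFiniteType_of_comp f.left G'.hom
  haveI hlfp : LocallyOfFinitePresentation f.left := inferInstance
  haveI : Mono f.left := inferInstance
  have sq : IsPullback (pullback.fst f.left f.left) (pullback.snd f.left f.left) f.left f.left :=
    IsPullback.of_hasPullback _ _
  have hsnd : MorphismProperty.isomorphisms Scheme.{u} (pullback.snd f.left f.left) := by
    show IsIso (pullback.snd f.left f.left)
    infer_instance
  have hiso : MorphismProperty.isomorphisms Scheme.{u} f.left :=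
    (ocovFppf f inferInstance hflat hlfp).prop_of_base_change
      (MorphismProperty.isomorphisms Scheme.{u}) f.left _ _ sq hsnd
  haveI : IsIso f.left := hiso
  haveI : IsIso ((Over.forget _).map f) := hiso
  exact isIso_of_reflects_iso f (Over.forget _)

theorem flat_over_field {k : Type u} [Field k] {X : Scheme.{u}}
    (f : X ⟶ Spec (CommRingCat.of k)) : Flat f := by
  refine Flat.of_stalkMap f (fun x => ?_)
  letI := (Groth.Agent.Lib.Helper14.GrpCM.isField_stalk_Spec_field k (f x)).toField
  letI := (f.stalkMap x).hom.toAlgebra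
  show Module.Flat _ _
  infer_instance

theorem main8030 (k : Type u) [Field k] [PerfectField k]
    (G Gr G₀ P : Over (Spec (CommRingCat.of k))) [GrpObj G] [GrpObj Gr] [GrpObj G₀] [GrpObj P]
    [LocallyOfFiniteType G.hom] [QuasiCompact G.hom] [LocallyOfFiniteType Gr.hom] [QuasiCompact Gr.hom] [LocallyOfFiniteType G₀.hom] [QuasiCompact G₀.hom] [LocallyOfFiniteType P.hom] [QuasiCompact P.hom]
    (r : Gr ⟶ G) [IsMonHom r] [IsClosedImmersion r.left] [IsReduced Gr.left] [Surjective r.left]
    (i₀ : G₀ ⟶ G) [IsMonHom i₀] [IsOpenImmersion i₀.left] [ConnectedSpace G₀.left]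
    (q : G ⟶ P) [IsMonHom q] [Flat q.left] [Surjective q.left] (hq : AlgGrp.IsKernel i₀ q) :
    Flat (r ≫ q).left ∧ Surjective (r ≫ q).left := by
  have hsurj : Surjective (r ≫ q).left := by
    show Surjective (r.left ≫ q.left)
    infer_instance
  refine ⟨?_, hsurj⟩
  haveI := hsurj
  haveI : Flat G.hom := flat_over_field G.hom
  haveI : IsLocallyNoetherian (Spec (CommRingCat.of k)) := inferInstance
  haveI : LocallyOfFinitePresentation G.hom := inferInstance
  haveI : IsLocallyNoetherian P.left := LocallyOfFiniteType.isLocallyNoetherian P.hom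
  have hw : q.left ≫ P.hom = G.hom := Over.w q
  haveI : LocallyOfFiniteType (q.left ≫ P.hom) := by rw [hw]; infer_instance
  haveI : LocallyOfFiniteType q.left := locallyOfFiniteType_of_comp q.left P.hom
  haveI : LocallyOfFinitePresentation q.left := inferInstance
  haveI : Flat P.hom := flat_over_field P.hom
  haveI : LocallyOfFinitePresentation P.hom := inferInstance
  have hP : Etale P.hom := Groth.Agent.Lib.Helper29.EtaleQuot0.etale_of_kernel_open' i₀ q hq
  haveI := hP
  haveI : Smooth P.hom := inferInstance
  haveI : IsReduced (Spec (CommRingCat.of k)) := inferInstance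
  haveI : IsReduced P.left := Groth.Agent.Lib.Helper22.SmoothRed.isReduced_of_smooth P.hom
  haveI : Flat Gr.hom := flat_over_field Gr.hom
  exact flat_of_surjective_hom (r ≫ q)

end Groth.Agent.Lib.Helper29.SmoothHom
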