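import Groth.Agent.Lib.Helper29.SGA3Quot
import Groth.Agent.Lib.Helper9.FppfSource

/-!
# Helper library (helper29): quotient by an open subgroup is étale

* `diag_unit_square`: the diagonal of a group object is the pullback of the unit section.
* `etale_of_kernel_open`: an fppf quotient `p : G ⟶ Q` with open kernel has `Q` étale
  (if `G` is flat and locally of finite presentation).
* `main5353`
-/

set_option autoImplicit false
set_option maxHeartbeats 1600000
universe u
open CategoryTheory CategoryTheory.Limits AlgebraicGeometry MonoidalCategory CartesianMonoidalCategory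
  MonObj GrpObj

namespace Groth.Agent.Lib.Helper29.EtaleQuot

open Groth.Agent.Lib.Helper29 Groth.Agent.Lib.Helper29.AssocBundle
  Groth.Agent.Lib.Helper29.SGA3Quot Groth.Agent.Lib.Helper9 Groth.Agent.Lib.Helper29.TorsorComp

noncomputable section

variable {S : Scheme.{u}}

theorem diag_unit_square (Q : Over S) [GrpObj Q] :
    IsPullback (lift (𝟙 Q) (𝟙 Q)) (toUnit Q) ((fst Q Q)⁻¹ * snd Q Q) η[Q] := by
  have hD : ∀ {T : Over S} (t : T ⟶ Q ⊗ Q),
      t ≫ ((fst Q Q)⁻¹ * snd Q Q) = (t ≫ fst Q Q)⁻¹ * (t ≫ snd Q Q) := by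
    intro T t
    rw [MonObj.comp_mul, GrpObj.comp_inv]
  have w : lift (𝟙 Q) (𝟙 Q) ≫ ((fst Q Q)⁻¹ * snd Q Q) = toUnit Q ≫ η[Q] := by
    rw [hD, lift_fst, lift_snd, _root_.inv_mul_cancel, Hom.one_def]
  refine isPullback_of_existsUnique w (fun T t y hty => ?_)
  rw [hD] at hty
  have hy : y = toUnit T := toUnit_unique _ _
  have h1 : (t ≫ fst Q Q)⁻¹ * (t ≫ snd Q Q) = 1 := by
    rw [hty, hy, Hom.one_def]
  have h2 : t ≫ fst Q Q = t ≫ snd Q Q := _root_.inv_mul_eq_one.1 h1
  refine ⟨t ≫ fst Q Q, ⟨?_, toUnit_unique _ _⟩, fun m hm => ?_⟩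
  · rw [comp_lift, Category.comp_id]
    apply CartesianMonoidalCategory.hom_ext
    · rw [lift_fst]
    · rw [lift_snd, h2]
  · rw [← hm.1, Category.assoc, lift_fst, Category.comp_id]

/-- a group scheme whose unit section is an open immersion is formally unramified -/
theorem formallyUnramified_of_isOpenImmersion_unit (Q : Over S) [GrpObj Q]
    (hη : IsOpenImmersion η[Q].left) : FormallyUnramified Q.hom := by
  have sq := (diag_unit_square Q).flip.map (Over.forget S)
  have hd : IsOpenImmersion (lift (𝟙 Q) (𝟙 Q)).left :=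
    MorphismProperty.of_isPullback (P := @IsOpenImmersion) sq hη
  haveI : IsOpenImmersion (pullback.diagonal Q.hom) := hd
  infer_instance

theorem etale_of_kernel_open {G0 G Q : Over S} [GrpObj G] [GrpObj Q]
    [Flat G.hom] [LocallyOfFinitePresentation G.hom] (i : G0 ⟶ G) [IsOpenImmersion i.left]
    (p : G ⟶ Q) [Surjective p.left] [Flat p.left] [LocallyOfFinitePresentation p.left]
    (hK : IsPullback i (toUnit G0) p η[Q]) : Etale Q.hom := by
  have hK' : IsPullback i.left (toUnit G0).left p.left η[Q].left := hK.map (Over.forget S)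
  have hη : IsOpenImmersion η[Q].left :=
    MorphismProperty.of_isPullback_of_descendsAlong (P := @IsOpenImmersion)
      (Q := (@Surjective ⊓ @Flat ⊓ @LocallyOfFinitePresentation : MorphismProperty Scheme.{u}))
      hK' ⟨⟨inferInstance, inferInstance⟩, inferInstance⟩ inferInstance
  haveI : FormallyUnramified Q.hom := formallyUnramified_of_isOpenImmersion_unit Q hη
  haveI : Flat (p.left ≫ Q.hom) := by
    rw [Over.w p]
    infer_instance
  haveI : Flat Q.hom := Groth.Agent.Lib.Helper3.flat_of_flat_comp_of_surjective p.left Q.hom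
  haveI : LocallyOfFinitePresentation (p.left ≫ Q.hom) := by
    rw [Over.w p]
    infer_instance
  haveI : LocallyOfFinitePresentation Q.hom := FppfSource.lfp_of_comp p.left Q.hom
  exact Etale.of_formallyUnramified_of_flat Q.hom

theorem main5353 (A : Type u) [CommRing A] [IsArtinianRing A] [IsLocalRing A] (G0 G Q : Over (Spec (CommRingCat.of A))) [GrpObj G0] [GrpObj G] [GrpObj Q]
    [Flat G.hom] [LocallyOfFiniteType G.hom] (i : G0 ⟶ G) [IsMonHom i] [IsOpenImmersion i.left]
    (pt : ↥(𝟙_ (Over (Spec (CommRingCat.of A)))).left) (hi : Set.range i.left.base = connectedComponent (η[G].left.base pt))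
    (p : G ⟶ Q) [IsMonHom p] [Surjective p.left] [Flat p.left] [LocallyOfFinitePresentation p.left]
    (hK : AlgGrp.IsKernel i p) : Etale Q.hom := by
  haveI : IsNoetherianRing A := inferInstance
  haveI : IsLocallyNoetherian (Spec (CommRingCat.of A)) := inferInstance
  haveI : LocallyOfFinitePresentation G.hom :=
    (LocallyOfFinitePresentation.iff_locallyOfFiniteType (Y := Spec (CommRingCat.of A))
      (f := G.hom)).2 inferInstance
  exact etale_of_kernel_open i p hK

end

end Groth.Agent.Lib.Helper29.EtaleQuot
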