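import Mathlib
import Groth.Prelude.Def_NonAbH2
import Groth.Agent.Lib.Helper29.ExactSeq

/-!
# Central extensions: descent of commutator maps along fppf-locally split epimorphisms (S8718)
-/
set_option autoImplicit false
set_option maxHeartbeats 1600000
set_option linter.style.haveILetI false
universe u
open CategoryTheory CategoryTheory.Limits AlgebraicGeometry MonoidalCategory CartesianMonoidalCategory
  MonObj GrpObj

noncomputable section

namespace Groth.Agent.Lib.Helper29.ExtCentral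

open Groth.Agent.Lib.Helper29.ExactSeq

section Sieves

variable {X Y X' Y' : Scheme.{u}}

/-- `q` generates a covering sieve for the fppf topology. -/
abbrev Cov (q : X ⟶ Y) : Prop :=
  Sieve.generate (Presieve.singleton q) ∈ Scheme.fppfTopology Y

theorem cov_of_sections (q : X ⟶ Y) (R : Presieve Y) (hR : R ∈ Scheme.fppfPrecoverage Y)
    (hs : ∀ ⦃Z : Scheme.{u}⦄ (f : Z ⟶ Y), R f → ∃ s : Z ⟶ X, s ≫ q = f) : Cov q := by
  refine Scheme.fppfTopology.superset_covering ?_ (Precoverage.generate_mem_toGrothendieck hR)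
  rw [Sieve.generate_le_iff]
  intro Z f hf
  obtain ⟨s, hs'⟩ := hs f hf
  exact ⟨X, s, q, Presieve.singleton.mk, hs'⟩

theorem Cov.effectiveEpi {q : X ⟶ Y} (h : Cov q) : EffectiveEpi q := by
  rw [← Sieve.effectiveEpimorphic_singleton,
    Presieve.EffectiveEpimorphic.iff_forall_isSheafFor_yoneda]
  intro Z
  exact (GrothendieckTopology.Subcanonical.isSheaf_of_isRepresentable _).isSheafFor _ h

theorem Cov.baseChange {q : X ⟶ Y} (h : Cov q) {q' : X' ⟶ Y'} {g' : X' ⟶ X} {g : Y' ⟶ Y}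
    (hpb : IsPullback q' g' g q) : Cov q' := by
  refine Scheme.fppfTopology.superset_covering ?_ (Scheme.fppfTopology.pullback_stable g h)
  intro Z k hk
  obtain ⟨W, a, b, hb, hab⟩ := hk
  cases hb
  exact ⟨X', hpb.lift k a hab.symm, q', Presieve.singleton.mk, hpb.lift_fst _ _ _⟩

theorem Cov.comp {Z : Scheme.{u}} {q₁ : X ⟶ Y} {q₂ : Y ⟶ Z} (h₁ : Cov q₁) (h₂ : Cov q₂) :
    Cov (q₁ ≫ q₂) := by
  refine Scheme.fppfTopology.transitive h₂ _ ?_
  intro W k hk
  obtain ⟨V, a, b, hb, hab⟩ := hk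
  cases hb
  refine Scheme.fppfTopology.superset_covering ?_ (Scheme.fppfTopology.pullback_stable a h₁)
  intro U m hm
  obtain ⟨V', c, d, hd, hcd⟩ := hm
  cases hd
  refine ⟨X, c, q₁ ≫ q₂, Presieve.singleton.mk, ?_⟩
  rw [← Category.assoc, hcd, Category.assoc, hab]

end Sieves

section Cart

variable {C : Type*} [Category C] [CartesianMonoidalCategory C]

theorem isPullback_whiskerRight {E P : C} (v : E ⟶ P) (G : C) :
    IsPullback (v ▷ G) (fst E G) (fst P G) v := by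
  refine ⟨⟨by rw [whiskerRight_fst]⟩,
    ⟨PullbackCone.IsLimit.mk _ (fun s => lift s.snd (s.fst ≫ snd P G)) ?_ ?_ ?_⟩⟩
  · intro s
    apply CartesianMonoidalCategory.hom_ext
    · rw [Category.assoc, whiskerRight_fst, lift_fst_assoc]
      exact s.condition.symm
    · rw [Category.assoc, whiskerRight_snd, lift_snd]
  · intro s
    rw [lift_fst]
  · intro s m h1 h2
    apply CartesianMonoidalCategory.hom_ext
    · rw [lift_fst, h2]
    · rw [lift_snd, ← h1, Category.assoc, whiskerRight_snd]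

theorem isPullback_whiskerLeft (P : C) {E P' : C} (v : E ⟶ P') :
    IsPullback (P ◁ v) (snd P E) (snd P P') v := by
  refine ⟨⟨by rw [whiskerLeft_snd]⟩,
    ⟨PullbackCone.IsLimit.mk _ (fun s => lift (s.fst ≫ fst P P') s.snd) ?_ ?_ ?_⟩⟩
  · intro s
    apply CartesianMonoidalCategory.hom_ext
    · rw [Category.assoc, whiskerLeft_fst, lift_fst]
    · rw [Category.assoc, whiskerLeft_snd, lift_snd_assoc]
      exact s.condition.symm
  · intro s
    rw [lift_snd]
  · intro s m h1 h2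
    apply CartesianMonoidalCategory.hom_ext
    · rw [lift_fst, ← h1, Category.assoc, whiskerLeft_fst]
    · rw [lift_snd, h2]

end Cart

section Desc

variable {S : Scheme.{u}}

theorem exists_desc {A B C : Over S} (q : A ⟶ B) (hq : Cov q.left) (ψ : A ⟶ C)
    (h : ∀ (T : Over S) (a₁ a₂ : T ⟶ A), a₁ ≫ q = a₂ ≫ q → a₁ ≫ ψ = a₂ ≫ ψ) :
    ∃ f : B ⟶ C, q ≫ f = ψ := by
  haveI := hq.effectiveEpi
  have key : ∀ {Z : Scheme.{u}} (g₁ g₂ : Z ⟶ A.left), g₁ ≫ q.left = g₂ ≫ q.left →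
      g₁ ≫ ψ.left = g₂ ≫ ψ.left := by
    intro Z g₁ g₂ hg
    have hw : g₁ ≫ A.hom = g₂ ≫ A.hom := by
      have e : A.hom = q.left ≫ B.hom := (Over.w q).symm
      rw [e, ← Category.assoc, hg, Category.assoc]
    let T : Over S := Over.mk (g₁ ≫ A.hom)
    let a₁ : T ⟶ A := Over.homMk g₁ rfl
    let a₂ : T ⟶ A := Over.homMk g₂ hw.symm
    have h2 := h T a₁ a₂ (Over.OverMorphism.ext hg)
    exact congrArg (fun m => m.left) h2
  let f₀ : B.left ⟶ C.left := EffectiveEpi.desc q.left ψ.left key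
  have hf₀ : q.left ≫ f₀ = ψ.left := EffectiveEpi.fac q.left ψ.left key
  haveI : Epi q.left := inferInstance
  have hw : f₀ ≫ C.hom = B.hom := by
    rw [← cancel_epi q.left, ← Category.assoc, hf₀, Over.w ψ, Over.w q]
  exact ⟨Over.homMk f₀ hw, Over.OverMorphism.ext hf₀⟩

theorem epi_of_cov {A B : Over S} (q : A ⟶ B) (hq : Cov q.left) : Epi q := by
  haveI := hq.effectiveEpi
  haveI : Epi ((Over.forget S).map q) := by
    change Epi q.left
    infer_instance
  exact (Over.forget S).epi_of_epi_map this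

end Desc

section Ext

variable {S : Scheme.{u}} {P G E : Over S} [GrpObj P] [GrpObj G] [GrpObj E]
  (u : G ⟶ E) (v : E ⟶ P) [IsMonHom u] [IsMonHom v] (huv : u ≫ v = 1)
  (hpb : IsPullback (fst E G) ((E ◁ u) ≫ μ[E]) v v)

include huv in
theorem comp_u_v {T : Over S} (g : T ⟶ G) : (g ≫ u) ≫ v = 1 := by
  rw [Category.assoc, huv, MonObj.comp_one]

include hpb in
theorem exists_of_ker {T : Over S} (y : T ⟶ E) (hy : y ≫ v = 1) : ∃ g : T ⟶ G, g ≫ u = y := by
  obtain ⟨g, hg⟩ := exact_exists u v hpb (1 : T ⟶ E) y (by rw [MonObj.one_comp, hy])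
  exact ⟨g, by rw [← hg, _root_.one_mul]⟩

/-- The conjugation defect `ψ(x, g)` with `u(ψ(x,g)) = u(g)⁻¹ x u(g) x⁻¹`. -/
def IsConjDefect (ψ : E ⊗ G ⟶ G) : Prop :=
  ψ ≫ u = (snd E G ≫ u)⁻¹ * fst E G * (snd E G ≫ u) * (fst E G)⁻¹

include huv hpb in
theorem exists_conjDefect : ∃ ψ : E ⊗ G ⟶ G, IsConjDefect u ψ := by
  apply exists_of_ker u v hpb
  rw [MonObj.mul_comp, MonObj.mul_comp, MonObj.mul_comp, GrpObj.inv_comp, GrpObj.inv_comp,
    comp_u_v u v huv]
  simp

theorem conjDefect_pt {ψ : E ⊗ G ⟶ G} (hψ : IsConjDefect u ψ) {T : Over S} (x : T ⟶ E)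
    (g : T ⟶ G) : (lift x g ≫ ψ) ≫ u = (g ≫ u)⁻¹ * x * (g ≫ u) * x⁻¹ := by
  rw [Category.assoc, hψ, MonObj.comp_mul, MonObj.comp_mul, MonObj.comp_mul, GrpObj.comp_inv,
    GrpObj.comp_inv, lift_fst, lift_snd_assoc]

include hpb in
theorem conjDefect_invariant [IsCommMonObj G] {ψ : E ⊗ G ⟶ G} (hψ : IsConjDefect u ψ)
    {T : Over S} (x : T ⟶ E) (h g : T ⟶ G) :
    lift (x * (h ≫ u)) g ≫ ψ = lift x g ≫ ψ := by
  apply exact_inj u v hpb
  rw [conjDefect_pt u hψ, conjDefect_pt u hψ]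
  have hab : (g ≫ u) * (h ≫ u) = (h ≫ u) * (g ≫ u) := by
    rw [← MonObj.mul_comp, ← MonObj.mul_comp, _root_.mul_comm]
  generalize g ≫ u = a at hab ⊢
  generalize h ≫ u = b at hab ⊢
  calc a⁻¹ * (x * b) * a * (x * b)⁻¹ = a⁻¹ * x * (b * a) * b⁻¹ * x⁻¹ := by group
    _ = a⁻¹ * x * (a * b) * b⁻¹ * x⁻¹ := by rw [hab]
    _ = a⁻¹ * x * a * x⁻¹ := by group

include huv hpb in
theorem central_of_axes [IsCommMonObj G] (hcov : Cov v.left)
    (hPG : ∀ f : P ⊗ G ⟶ G, lift (𝟙 P) (toUnit P ≫ η[G]) ≫ f = 1 →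
      lift (toUnit G ≫ η[P]) (𝟙 G) ≫ f = 1 → f = 1)
    (T : Over S) (g : T ⟶ G) (x : T ⟶ E) : (g ≫ u) * x = x * (g ≫ u) := by
  obtain ⟨ψ, hψ⟩ := exists_conjDefect u v huv hpb
  have hcov' : Cov (v ▷ G).left :=
    hcov.baseChange ((isPullback_whiskerRight v G).map (Over.forget S))
  obtain ⟨f, hf⟩ := exists_desc (v ▷ G) hcov' ψ (by
    intro T' a₁ a₂ ha
    have h1 : (a₁ ≫ fst E G) ≫ v = (a₂ ≫ fst E G) ≫ v := by
      have := congrArg (fun m => m ≫ fst P G) ha
      simpa only [Category.assoc, whiskerRight_fst] using this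
    have h2 : a₁ ≫ snd E G = a₂ ≫ snd E G := by
      have := congrArg (fun m => m ≫ snd P G) ha
      simpa only [Category.assoc, whiskerRight_snd] using this
    obtain ⟨h, hh⟩ := exact_exists u v hpb _ _ h1
    rw [← lift_comp_fst_snd a₁, ← lift_comp_fst_snd a₂, ← hh, ← h2]
    exact (conjDefect_invariant u v hpb hψ _ _ _).symm)
  haveI : Epi v := epi_of_cov v hcov
  have hf1 : f = 1 := by
    apply hPG
    · have e0 : v ≫ toUnit P ≫ η[G] = toUnit E ≫ η[G] := by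
        rw [← Category.assoc, toUnit_unique (v ≫ toUnit P) (toUnit E)]
      rw [← cancel_epi v, MonObj.comp_one, ← Category.assoc, comp_lift, Category.comp_id, e0]
      have e : lift v (toUnit E ≫ η[G]) = lift (𝟙 E) (toUnit E ≫ η[G]) ≫ (v ▷ G) := by
        rw [lift_whiskerRight, Category.id_comp]
      rw [e, Category.assoc, hf, ← Hom.one_def]
      apply exact_inj u v hpb
      rw [conjDefect_pt u hψ, MonObj.one_comp]
      simp
    · have e : lift (toUnit G ≫ η[P]) (𝟙 G) = lift (toUnit G ≫ η[E]) (𝟙 G) ≫ (v ▷ G) := by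
        rw [lift_whiskerRight, Category.assoc, IsMonHom.one_hom]
      rw [e, Category.assoc, hf, ← Hom.one_def]
      apply exact_inj u v hpb
      rw [conjDefect_pt u hψ, MonObj.one_comp]
      simp
  have hψ1 : ψ = 1 := by rw [← hf, hf1, MonObj.comp_one]
  have h3 := conjDefect_pt u hψ x g
  rw [hψ1, MonObj.comp_one, MonObj.one_comp] at h3
  generalize g ≫ u = a at h3 ⊢
  calc a * x = a * (a⁻¹ * x * a * x⁻¹) * x := by rw [← h3, _root_.mul_one]
    _ = x * a := by group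

end Ext

section Comm

variable {S : Scheme.{u}} {P G E : Over S} [GrpObj P] [GrpObj G] [GrpObj E]
  (u : G ⟶ E) (v : E ⟶ P) [IsMonHom u] [IsMonHom v]
  (hpb : IsPullback (fst E G) ((E ◁ u) ≫ μ[E]) v v)

/-- The commutator defect `χ(x, y)` with `u(χ(x,y)) = x y x⁻¹ y⁻¹`. -/
def IsCommDefect (χ : E ⊗ E ⟶ G) : Prop :=
  χ ≫ u = fst E E * snd E E * (fst E E)⁻¹ * (snd E E)⁻¹

include hpb in
theorem exists_commDefect [IsCommMonObj P] : ∃ χ : E ⊗ E ⟶ G, IsCommDefect u χ := by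
  apply exists_of_ker u v hpb
  rw [MonObj.mul_comp, MonObj.mul_comp, MonObj.mul_comp, GrpObj.inv_comp, GrpObj.inv_comp]
  generalize fst E E ≫ v = a
  generalize snd E E ≫ v = b
  rw [_root_.mul_comm a b]
  group

theorem commDefect_pt {χ : E ⊗ E ⟶ G} (hχ : IsCommDefect u χ) {T : Over S} (x y : T ⟶ E) :
    (lift x y ≫ χ) ≫ u = x * y * x⁻¹ * y⁻¹ := by
  rw [Category.assoc, hχ, MonObj.comp_mul, MonObj.comp_mul, MonObj.comp_mul, GrpObj.comp_inv,
    GrpObj.comp_inv, lift_fst, lift_snd]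

include hpb in
theorem commDefect_invariant {χ : E ⊗ E ⟶ G} (hχ : IsCommDefect u χ)
    (cent : ∀ (T : Over S) (g : T ⟶ G) (x : T ⟶ E), (g ≫ u) * x = x * (g ≫ u))
    {T : Over S} (x y : T ⟶ E) (h h' : T ⟶ G) :
    lift (x * (h ≫ u)) (y * (h' ≫ u)) ≫ χ = lift x y ≫ χ := by
  apply exact_inj u v hpb
  rw [commDefect_pt u hχ, commDefect_pt u hχ]
  have hb : ∀ z : T ⟶ E, (h ≫ u) * z = z * (h ≫ u) := fun z => cent T h z
  have hb' : ∀ z : T ⟶ E, (h' ≫ u) * z = z * (h' ≫ u) := fun z => cent T h' z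
  generalize h ≫ u = b at hb ⊢
  generalize h' ≫ u = b' at hb' ⊢
  calc x * b * (y * b') * (x * b)⁻¹ * (y * b')⁻¹
      = x * (b * (y * b')) * b⁻¹ * x⁻¹ * b'⁻¹ * y⁻¹ := by group
    _ = x * ((y * b') * b) * b⁻¹ * x⁻¹ * b'⁻¹ * y⁻¹ := by rw [hb (y * b')]
    _ = x * y * (b' * x⁻¹) * b'⁻¹ * y⁻¹ := by group
    _ = x * y * (x⁻¹ * b') * b'⁻¹ * y⁻¹ := by rw [hb' x⁻¹]
    _ = x * y * x⁻¹ * y⁻¹ := by group

include hpb in
theorem comm_of_axes [IsCommMonObj P] (hcov : Cov v.left)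
    (cent : ∀ (T : Over S) (g : T ⟶ G) (x : T ⟶ E), (g ≫ u) * x = x * (g ≫ u))
    (hPP : ∀ f : P ⊗ P ⟶ G, lift (𝟙 P) (toUnit P ≫ η[P]) ≫ f = 1 →
      lift (toUnit P ≫ η[P]) (𝟙 P) ≫ f = 1 → f = 1) :
    IsCommMonObj E := by
  obtain ⟨χ, hχ⟩ := exists_commDefect u v hpb
  let q : E ⊗ E ⟶ P ⊗ P := (v ▷ E) ≫ (P ◁ v)
  have hq1 : q ≫ fst P P = fst E E ≫ v := by
    dsimp only [q]
    rw [Category.assoc, whiskerLeft_fst, whiskerRight_fst]
  have hq2 : q ≫ snd P P = snd E E ≫ v := by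
    dsimp only [q]
    rw [Category.assoc, whiskerLeft_snd, ← Category.assoc, whiskerRight_snd]
  have hcovq : Cov q.left := by
    have h1 : Cov (v ▷ E).left :=
      hcov.baseChange ((isPullback_whiskerRight v E).map (Over.forget S))
    have h2 : Cov (P ◁ v).left :=
      hcov.baseChange ((isPullback_whiskerLeft P v).map (Over.forget S))
    exact h1.comp h2
  have lq : ∀ {T : Over S} (a b : T ⟶ E), lift a b ≫ q = lift (a ≫ v) (b ≫ v) := by
    intro T a b
    dsimp only [q]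
    rw [← Category.assoc, lift_whiskerRight, lift_whiskerLeft]
  obtain ⟨f, hf⟩ := exists_desc q hcovq χ (by
    intro T' a₁ a₂ ha
    have h1 : (a₁ ≫ fst E E) ≫ v = (a₂ ≫ fst E E) ≫ v := by
      have := congrArg (fun m => m ≫ fst P P) ha
      simpa only [Category.assoc, hq1] using this
    have h2 : (a₁ ≫ snd E E) ≫ v = (a₂ ≫ snd E E) ≫ v := by
      have := congrArg (fun m => m ≫ snd P P) ha
      simpa only [Category.assoc, hq2] using this
    obtain ⟨h, hh⟩ := exact_exists u v hpb _ _ h1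
    obtain ⟨h', hh'⟩ := exact_exists u v hpb _ _ h2
    rw [← lift_comp_fst_snd a₁, ← lift_comp_fst_snd a₂, ← hh, ← hh']
    exact (commDefect_invariant u v hpb hχ cent _ _ _ _).symm)
  haveI : Epi v := epi_of_cov v hcov
  have e0 : v ≫ toUnit P ≫ η[P] = (toUnit E ≫ η[E]) ≫ v := by
    rw [Category.assoc, IsMonHom.one_hom, ← Category.assoc,
      toUnit_unique (v ≫ toUnit P) (toUnit E)]
  have hf1 : f = 1 := by
    apply hPP
    · rw [← cancel_epi v, MonObj.comp_one, ← Category.assoc, comp_lift, Category.comp_id, e0]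
      have e : lift v ((toUnit E ≫ η[E]) ≫ v) = lift (𝟙 E) (toUnit E ≫ η[E]) ≫ q := by
        rw [lq, Category.id_comp]
      rw [e, Category.assoc, hf, ← Hom.one_def]
      apply exact_inj u v hpb
      rw [commDefect_pt u hχ, MonObj.one_comp]
      simp
    · rw [← cancel_epi v, MonObj.comp_one, ← Category.assoc, comp_lift, Category.comp_id, e0]
      have e : lift ((toUnit E ≫ η[E]) ≫ v) v = lift (toUnit E ≫ η[E]) (𝟙 E) ≫ q := by
        rw [lq, Category.id_comp]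
      rw [e, Category.assoc, hf, ← Hom.one_def]
      apply exact_inj u v hpb
      rw [commDefect_pt u hχ, MonObj.one_comp]
      simp
  have hχ1 : χ = 1 := by rw [← hf, hf1, MonObj.comp_one]
  have h2 : snd E E * fst E E = fst E E * snd E E := by
    have h3 := commDefect_pt u hχ (fst E E) (snd E E)
    rw [hχ1, MonObj.comp_one, MonObj.one_comp] at h3
    generalize fst E E = a at h3 ⊢
    generalize snd E E = b at h3 ⊢
    calc b * a = (a * b * a⁻¹ * b⁻¹) * b * a := by rw [← h3, _root_.one_mul]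
      _ = a * b := by group
  have hm : fst E E * snd E E = μ[E] := by rw [Hom.mul_def, lift_fst_snd, Category.id_comp]
  constructor
  rw [← hm, MonObj.comp_mul, braiding_hom_fst, braiding_hom_snd, h2]

end Comm

theorem main8718 (S : Scheme.{u})
    (P G E : Over S) [GrpObj P] [GrpObj G] [GrpObj E] [IsCommMonObj G]
    (u : G ⟶ E) (v : E ⟶ P) (hex : NonAbH1.IsExactSeq Scheme.fppfPrecoverage u v)
    (hPG : ∀ f : P ⊗ G ⟶ G, lift (𝟙 P) (toUnit P ≫ η[G]) ≫ f = 1 →
      lift (toUnit G ≫ η[P]) (𝟙 G) ≫ f = 1 → f = 1) :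
    (∀ (T : Over S) (g : T ⟶ G) (x : T ⟶ E), (g ≫ u) * x = x * (g ≫ u)) ∧
      (IsCommMonObj P →
        (∀ f : P ⊗ P ⟶ G, lift (𝟙 P) (toUnit P ≫ η[P]) ≫ f = 1 →
          lift (toUnit P ≫ η[P]) (𝟙 P) ≫ f = 1 → f = 1) →
          IsCommMonObj E) := by
  obtain ⟨hu, hv, huv, hpb, R, hR, hsec⟩ := hex
  haveI := hu
  haveI := hv
  have hcov : Cov v.left := cov_of_sections v.left R hR (fun Z f hf => by
    obtain ⟨s, hs⟩ := hsec f hf
    exact ⟨s, hs⟩)
  have cent := central_of_axes u v huv hpb hcov hPG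
  refine ⟨cent, fun hP hPP => ?_⟩
  haveI := hP
  exact comm_of_axes u v hpb hcov cent hPP

end Groth.Agent.Lib.Helper29.ExtCentral
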