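import Mathlib
import Groth.Prelude.Def_NonAbH2
import Groth.Agent.Lib.Helper29.ExtCentral

/-!
# Morphisms of rigidified bitorsors of extensions are homomorphisms (S12113)
-/
set_option autoImplicit false
set_option maxHeartbeats 1600000
set_option linter.style.haveILetI false
set_option linter.unusedSectionVars false
universe u
open CategoryTheory CategoryTheory.Limits AlgebraicGeometry MonoidalCategory CartesianMonoidalCategory
  MonObj GrpObj

noncomputable section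

namespace Groth.Agent.Lib.Helper29.ExtBitorsor

open Groth.Agent.Lib.Helper29.ExactSeq Groth.Agent.Lib.Helper29.ExtCentral

variable {S : Scheme.{u}} {P G E E' : Over S} [GrpObj P] [GrpObj G] [GrpObj E] [GrpObj E']
  (u : G ⟶ E) (v : E ⟶ P) [IsMonHom u] [IsMonHom v]
  (hpb : IsPullback (fst E G) ((E ◁ u) ≫ μ[E]) v v)
  (u' : G ⟶ E') (v' : E' ⟶ P) [IsMonHom u'] [IsMonHom v']
  (hpb' : IsPullback (fst E' G) ((E' ◁ u') ≫ μ[E']) v' v')
  (f : E ⟶ E')

/-- The multiplicativity defect `d(x, y)` with `u'(d(x,y)) = f(xy) (f(x) f(y))⁻¹`. -/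
def IsMultDefect (d : E ⊗ E ⟶ G) : Prop :=
  d ≫ u' = ((fst E E * snd E E) ≫ f) * ((fst E E ≫ f) * (snd E E ≫ f))⁻¹

include hpb' in
theorem exists_multDefect (hv : f ≫ v' = v) : ∃ d : E ⊗ E ⟶ G, IsMultDefect u' f d := by
  apply exists_of_ker u' v' hpb'
  rw [MonObj.mul_comp _ _ v', GrpObj.inv_comp _ v', MonObj.mul_comp _ _ v', Category.assoc,
    Category.assoc, Category.assoc, hv, MonObj.mul_comp _ _ v]
  exact _root_.mul_inv_cancel _

theorem multDefect_pt {d : E ⊗ E ⟶ G} (hd : IsMultDefect u' f d) {T : Over S} (x y : T ⟶ E) :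
    (lift x y ≫ d) ≫ u' = ((x * y) ≫ f) * ((x ≫ f) * (y ≫ f))⁻¹ := by
  have e1 : lift x y ≫ (fst E E * snd E E) = x * y := by
    rw [MonObj.comp_mul, lift_fst, lift_snd]
  rw [Category.assoc, hd, MonObj.comp_mul, GrpObj.comp_inv, MonObj.comp_mul, lift_fst_assoc,
    lift_snd_assoc, ← Category.assoc, e1]

include hpb hpb' in
theorem multDefect_invariant {d : E ⊗ E ⟶ G} (hd : IsMultDefect u' f d) (huv : u ≫ v = 1)
    (hl : ∀ (T : Over S) (g : T ⟶ G) (x : T ⟶ E), ((g ≫ u) * x) ≫ f = (g ≫ u') * (x ≫ f))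
    (hr : ∀ (T : Over S) (g : T ⟶ G) (x : T ⟶ E), (x * (g ≫ u)) ≫ f = (x ≫ f) * (g ≫ u'))
    {T : Over S} (x y : T ⟶ E) (h h' : T ⟶ G) :
    lift (x * (h ≫ u)) (y * (h' ≫ u)) ≫ d = lift x y ≫ d := by
  apply exact_inj u' v' hpb'
  rw [multDefect_pt u' f hd, multDefect_pt u' f hd]
  obtain ⟨h'', hh''⟩ := exists_of_ker u v hpb (y⁻¹ * (h ≫ u) * y) (by
    rw [MonObj.mul_comp, MonObj.mul_comp, GrpObj.inv_comp, comp_u_v u v huv]
    simp)
  have F1 : (x * (h ≫ u)) ≫ f = (x ≫ f) * (h ≫ u') := hr T h x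
  have F2 : (y * (h' ≫ u)) ≫ f = (y ≫ f) * (h' ≫ u') := hr T h' y
  have E3 : x * (h ≫ u) * (y * (h' ≫ u)) = (x * y * (h'' ≫ u)) * (h' ≫ u) := by
    rw [hh'']
    group
  have F3 : (x * (h ≫ u) * (y * (h' ≫ u))) ≫ f = ((x * y) ≫ f) * (h'' ≫ u') * (h' ≫ u') := by
    rw [E3, hr T h' (x * y * (h'' ≫ u)), hr T h'' (x * y)]
  have E4 : (h ≫ u) * y = y * (h'' ≫ u) := by
    rw [hh'']
    group
  have F4 : (y ≫ f) * (h'' ≫ u') = (h ≫ u') * (y ≫ f) := by
    rw [← hr T h'' y, ← E4, hl T h y]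
  rw [F1, F2, F3]
  generalize x ≫ f = X at *
  generalize y ≫ f = Y at *
  generalize (x * y) ≫ f = Z at *
  generalize h ≫ u' = B at *
  generalize h' ≫ u' = B' at *
  generalize h'' ≫ u' = C at *
  have hC : C = Y⁻¹ * (B * Y) := by
    rw [← F4]
    group
  rw [hC]
  group

include hpb hpb' in
theorem isMonHom_of_axes (hcov : Cov v.left) (huv : u ≫ v = 1)
    (hPP : ∀ c : P ⊗ P ⟶ G, lift (𝟙 P) (toUnit P ≫ η[P]) ≫ c = 1 →
      lift (toUnit P ≫ η[P]) (𝟙 P) ≫ c = 1 → c = 1)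
    (hv : f ≫ v' = v) (h1 : η[E] ≫ f = η[E'])
    (hl : ∀ (T : Over S) (g : T ⟶ G) (x : T ⟶ E), ((g ≫ u) * x) ≫ f = (g ≫ u') * (x ≫ f))
    (hr : ∀ (T : Over S) (g : T ⟶ G) (x : T ⟶ E), (x * (g ≫ u)) ≫ f = (x ≫ f) * (g ≫ u')) :
    IsMonHom f := by
  obtain ⟨d, hd⟩ := exists_multDefect v u' v' hpb' f hv
  have one_f : ∀ (T : Over S), (1 : T ⟶ E) ≫ f = 1 := by
    intro T
    rw [Hom.one_def, Category.assoc, h1, ← Hom.one_def]
  let q : E ⊗ E ⟶ P ⊗ P := (v ▷ E) ≫ (P ◁ v)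
  have hq1 : q ≫ fst P P = fst E E ≫ v := by
    dsimp only [q]
    rw [Category.assoc, whiskerLeft_fst, whiskerRight_fst]
  have hq2 : q ≫ snd P P = snd E E ≫ v := by
    dsimp only [q]
    rw [Category.assoc, whiskerLeft_snd, ← Category.assoc, whiskerRight_snd]
  have hcovq : Cov q.left := by
    have h1 : Cov (v ▷ E).left :=
      hcov.baseChange ((isPullback_whiskerRight v E).map (Over.forget S))
    have h2 : Cov (P ◁ v).left :=
      hcov.baseChange ((isPullback_whiskerLeft P v).map (Over.forget S))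
    exact h1.comp h2
  have lq : ∀ {T : Over S} (a b : T ⟶ E), lift a b ≫ q = lift (a ≫ v) (b ≫ v) := by
    intro T a b
    dsimp only [q]
    rw [← Category.assoc, lift_whiskerRight, lift_whiskerLeft]
  obtain ⟨c, hc⟩ := exists_desc q hcovq d (by
    intro T' a₁ a₂ ha
    have h1 : (a₁ ≫ fst E E) ≫ v = (a₂ ≫ fst E E) ≫ v := by
      have := congrArg (fun m => m ≫ fst P P) ha
      simpa only [Category.assoc, hq1] using this
    have h2 : (a₁ ≫ snd E E) ≫ v = (a₂ ≫ snd E E) ≫ v := by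
      have := congrArg (fun m => m ≫ snd P P) ha
      simpa only [Category.assoc, hq2] using this
    obtain ⟨h, hh⟩ := exact_exists u v hpb _ _ h1
    obtain ⟨h', hh'⟩ := exact_exists u v hpb _ _ h2
    rw [← lift_comp_fst_snd a₁, ← lift_comp_fst_snd a₂, ← hh, ← hh']
    exact (multDefect_invariant u v hpb u' v' hpb' f hd huv hl hr _ _ _ _).symm)
  haveI : Epi v := epi_of_cov v hcov
  have e0 : v ≫ toUnit P ≫ η[P] = (toUnit E ≫ η[E]) ≫ v := by
    rw [Category.assoc, IsMonHom.one_hom, ← Category.assoc,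
      toUnit_unique (v ≫ toUnit P) (toUnit E)]
  have hc1 : c = 1 := by
    apply hPP
    · rw [← cancel_epi v, MonObj.comp_one, ← Category.assoc, comp_lift, Category.comp_id, e0]
      have e : lift v ((toUnit E ≫ η[E]) ≫ v) = lift (𝟙 E) (toUnit E ≫ η[E]) ≫ q := by
        rw [lq, Category.id_comp]
      rw [e, Category.assoc, hc, ← Hom.one_def]
      apply exact_inj u' v' hpb'
      rw [multDefect_pt u' f hd, MonObj.one_comp u', one_f, _root_.mul_one, _root_.mul_one]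
      exact _root_.mul_inv_cancel _
    · rw [← cancel_epi v, MonObj.comp_one, ← Category.assoc, comp_lift, Category.comp_id, e0]
      have e : lift ((toUnit E ≫ η[E]) ≫ v) v = lift (toUnit E ≫ η[E]) (𝟙 E) ≫ q := by
        rw [lq, Category.id_comp]
      rw [e, Category.assoc, hc, ← Hom.one_def]
      apply exact_inj u' v' hpb'
      rw [multDefect_pt u' f hd, MonObj.one_comp u', one_f, _root_.one_mul, _root_.one_mul]
      exact _root_.mul_inv_cancel _
  have hd1 : d = 1 := by rw [← hc, hc1, MonObj.comp_one]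
  have mult : (fst E E * snd E E) ≫ f = (fst E E ≫ f) * (snd E E ≫ f) := by
    have h3 := multDefect_pt u' f hd (fst E E) (snd E E)
    rw [hd1, MonObj.comp_one, MonObj.one_comp] at h3
    generalize (fst E E * snd E E) ≫ f = Z at h3 ⊢
    generalize (fst E E ≫ f) * (snd E E ≫ f) = W at h3 ⊢
    calc Z = Z * W⁻¹ * W := by group
      _ = W := by rw [← h3, _root_.one_mul]
  have hm : fst E E * snd E E = μ[E] := by rw [Hom.mul_def, lift_fst_snd, Category.id_comp]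
  refine ⟨h1, ?_⟩
  rw [hm] at mult
  have ht : lift (fst E E ≫ f) (snd E E ≫ f) = f ⊗ₘ f := by
    apply CartesianMonoidalCategory.hom_ext
    · rw [lift_fst, tensorHom_fst]
    · rw [lift_snd, tensorHom_snd]
  rw [mult, Hom.mul_def, ht]

theorem main12113 (S : Scheme.{u})
    (P G E E' : Over S) [GrpObj P] [GrpObj G] [GrpObj E] [GrpObj E'] [IsCommMonObj G]
    (u : G ⟶ E) (v : E ⟶ P) (hex : NonAbH1.IsExactSeq Scheme.fppfPrecoverage u v)
    (u' : G ⟶ E') (v' : E' ⟶ P) (hex' : NonAbH1.IsExactSeq Scheme.fppfPrecoverage u' v')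
    (hPP : ∀ c : P ⊗ P ⟶ G, lift (𝟙 P) (toUnit P ≫ η[P]) ≫ c = 1 →
      lift (toUnit P ≫ η[P]) (𝟙 P) ≫ c = 1 → c = 1)
    (f : E ⟶ E') (hv : f ≫ v' = v) (_hu : u ≫ f = u') (h1 : η[E] ≫ f = η[E'])
    (hl : ∀ (T : Over S) (g : T ⟶ G) (x : T ⟶ E), ((g ≫ u) * x) ≫ f = (g ≫ u') * (x ≫ f))
    (hr : ∀ (T : Over S) (g : T ⟶ G) (x : T ⟶ E), (x * (g ≫ u)) ≫ f = (x ≫ f) * (g ≫ u')) :
    IsMonHom f := by
  obtain ⟨hu1, hv1, huv, hpb, R, hR, hsec⟩ := hex
  obtain ⟨hu2, hv2, huv', hpb', -⟩ := hex'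
  haveI := hu1
  haveI := hv1
  haveI := hu2
  haveI := hv2
  have hcov : Cov v.left := cov_of_sections v.left R hR (fun Z f hf => by
    obtain ⟨s, hs⟩ := hsec f hf
    exact ⟨s, hs⟩)
  exact isMonHom_of_axes u v hpb u' v' hpb' f hcov huv hPP hv h1 hl hr

end Groth.Agent.Lib.Helper29.ExtBitorsor
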