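import Mathlib
import Groth.Prelude.Def_W4c6instabfans3FanCvx

set_option autoImplicit false
universe u
open CategoryTheory Opposite Instab
open Instab Instab.Fan

namespace Groth.Agent.Lib.Helper29

/-- The real map of the identity cone morphism is the identity. -/
theorem realMap_id (n : ICone) (v : Fin n.dim → ℝ) : (𝟙 n : n ⟶ n).realMap v = v := by
  funext j
  show ∑ i, (((𝟙 n : n ⟶ n).toLin (Pi.single i 1) j : ℤ) : ℝ) * v i = v j
  have : ∀ i, (((𝟙 n : n ⟶ n).toLin (Pi.single i 1) j : ℤ) : ℝ) = if j = i then 1 else 0 := by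
    intro i
    show (((Pi.single i (1 : ℤ) : Fin n.dim → ℤ) j : ℤ) : ℝ) = _
    rw [Pi.single_apply]
    split_ifs <;> simp
  simp only [this, ite_mul, one_mul, zero_mul]
  rw [Finset.sum_ite_eq]
  simp

/-- Positive rescaling does not change the point of the projective realization. -/
theorem P_mk_smul {F : Fan.{u}} {n : ICone} (ξ : F.obj (op n)) (v w : Fan.Orth n) (c : ℝ)
    (hc : 0 < c) (h : w.1 = c • v.1) : Fan.P.mk ξ v = Fan.P.mk ξ w := by
  have hrel := Fan.Rel.glue (F := F) (𝟙 n) ξ v w c hc (by rw [realMap_id]; exact h)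
  have hid : F.map (𝟙 n : n ⟶ n).op ξ = ξ := by
    rw [op_id]; exact Functor.map_id_apply F _ ξ
  rw [hid] at hrel
  exact Quot.sound hrel

end Groth.Agent.Lib.Helper29
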