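import Mathlib

set_option autoImplicit false

/-! Pure lattice geometry: a real point of a rational polyhedral cone `{x ≥ 0, R x = 0}` is a
positive combination of linearly independent integer points of the cone (with supports inside the
support of the point). -/

namespace Groth.Agent.Lib.Helper29.FanCone

section core
variable {ι κ : Type*} [Fintype ι] [Fintype κ]

open Classical in
/-- size of the support -/
noncomputable def suppCard (p : ι → ℝ) : ℕ := (Finset.univ.filter fun i => p i ≠ 0).card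

theorem eq_zero_of_suppCard_le_zero {p : ι → ℝ} (h : suppCard p ≤ 0) : p = 0 := by
  unfold suppCard at h
  have h0 := Finset.card_eq_zero.mp (Nat.le_zero.mp h)
  funext i
  by_contra hi
  have hi' : p i ≠ 0 := hi
  have hmem : i ∈ (∅ : Finset ι) := by
    rw [← h0]
    exact Finset.mem_filter.mpr ⟨Finset.mem_univ i, hi'⟩
  simp at hmem

theorem suppCard_lt {p p' : ι → ℝ} (hsub : ∀ i, p i = 0 → p' i = 0) (i1 : ι) (h1 : p i1 ≠ 0)
    (h1' : p' i1 = 0) : suppCard p' < suppCard p := by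
  unfold suppCard
  apply Finset.card_lt_card
  rw [Finset.ssubset_iff_of_subset]
  · refine ⟨i1, Finset.mem_filter.mpr ⟨Finset.mem_univ _, h1⟩, fun h => ?_⟩
    exact (Finset.mem_filter.mp h).2 h1'
  · intro i hi
    have h2 := (Finset.mem_filter.mp hi).2
    exact Finset.mem_filter.mpr ⟨Finset.mem_univ _, fun h => h2 (hsub i h)⟩

theorem subtract (p w : ι → ℝ) (hp : ∀ i, 0 ≤ p i) (hsupp : ∀ i, p i = 0 → w i = 0)
    (hpos : ∃ i, 0 < w i) :
    ∃ (t : ℝ) (i1 : ι), 0 < t ∧ 0 < p i1 ∧ 0 < w i1 ∧ (∀ i, 0 ≤ p i - t * w i) ∧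
      p i1 - t * w i1 = 0 := by
  classical
  have hne : (Finset.univ.filter (fun i => 0 < w i)).Nonempty := by
    obtain ⟨i, hi⟩ := hpos
    exact ⟨i, Finset.mem_filter.mpr ⟨Finset.mem_univ _, hi⟩⟩
  obtain ⟨i1, hi1, hmin⟩ := Finset.exists_min_image _ (fun i => p i / w i) hne
  have hw1 : 0 < w i1 := (Finset.mem_filter.mp hi1).2
  have hp1 : 0 < p i1 := by
    rcases (hp i1).lt_or_eq with h | h
    · exact h
    · exfalso
      have := hsupp i1 h.symm
      linarith
  have ht : 0 < p i1 / w i1 := div_pos hp1 hw1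
  refine ⟨p i1 / w i1, i1, ht, hp1, hw1, ?_, ?_⟩
  · intro i
    by_cases hi : 0 < w i
    · have h1 : p i1 / w i1 ≤ p i / w i :=
        hmin i (Finset.mem_filter.mpr ⟨Finset.mem_univ _, hi⟩)
      have h2 : p i1 / w i1 * w i ≤ p i / w i * w i := mul_le_mul_of_nonneg_right h1 hi.le
      have h3 : p i / w i * w i = p i := div_mul_cancel₀ _ hi.ne'
      linarith
    · have hwi : w i ≤ 0 := not_lt.mp hi
      have h4 : 0 ≤ p i1 / w i1 * (-(w i)) := mul_nonneg ht.le (by linarith)
      have h5 := hp i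
      have h6 : p i1 / w i1 * (-(w i)) = -(p i1 / w i1 * w i) := by ring
      linarith
  · have h3 : p i1 / w i1 * w i1 = p i1 := div_mul_cancel₀ _ hw1.ne'
    linarith

theorem exists_functional (r : ℝ) (hr : r ≠ 0) : ∃ l : ℝ →ₗ[ℚ] ℚ, l r = 1 := by
  have hinj : LinearMap.ker (LinearMap.toSpanSingleton ℚ ℝ r) = ⊥ :=
    LinearMap.ker_toSpanSingleton ℚ hr
  obtain ⟨g, hg⟩ :=
    LinearMap.exists_leftInverse_of_injective (LinearMap.toSpanSingleton ℚ ℝ r) hinj
  refine ⟨g, ?_⟩
  have h1 := LinearMap.congr_fun hg 1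
  simpa using h1

theorem exists_rat_point (R : κ → ι → ℤ) : ∀ (N : ℕ) (p : ι → ℝ), suppCard p ≤ N →
    (∀ i, 0 ≤ p i) → p ≠ 0 → (∀ j, ∑ i, (R j i : ℝ) * p i = 0) →
    ∃ q : ι → ℚ, (∀ i, 0 ≤ q i) ∧ q ≠ 0 ∧ (∀ j, ∑ i, (R j i : ℚ) * q i = 0) ∧
      (∀ i, p i = 0 → q i = 0) := by
  intro N
  induction N with
  | zero =>
    intro p hN _ hne _
    exact absurd (eq_zero_of_suppCard_le_zero hN) hne
  | succ N ih =>
    intro p hN hp hne hker
    obtain ⟨i0, hi0⟩ : ∃ i0, p i0 ≠ 0 := by
      by_contra hcon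
      push Not at hcon
      exact hne (funext hcon)
    obtain ⟨l, hl⟩ := exists_functional (p i0) hi0
    have hwker : ∀ j, ∑ i, (R j i : ℚ) * l (p i) = 0 := by
      intro j
      have h1 : l (∑ i, (R j i : ℚ) • p i) = ∑ i, (R j i : ℚ) * l (p i) := by
        rw [map_sum]
        refine Finset.sum_congr rfl (fun i _ => ?_)
        rw [map_smul, smul_eq_mul]
      have h2 : ∑ i, (R j i : ℚ) • p i = ∑ i, (R j i : ℝ) * p i :=
        Finset.sum_congr rfl (fun i _ => by rw [Rat.smul_def, Rat.cast_intCast])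
      rw [← h1, h2, hker j, map_zero]
    have hwsupp : ∀ i, p i = 0 → ((l (p i) : ℚ) : ℝ) = 0 := by
      intro i hi
      rw [hi, map_zero, Rat.cast_zero]
    have hwpos : ∃ i, (0 : ℝ) < ((l (p i) : ℚ) : ℝ) := ⟨i0, by rw [hl]; norm_num⟩
    obtain ⟨t, i1, ht, hp1, hw1, hnn, hz1⟩ :=
      subtract p (fun i => ((l (p i) : ℚ) : ℝ)) hp hwsupp hwpos
    have hker' : ∀ j, ∑ i, (R j i : ℝ) * (p i - t * ((l (p i) : ℚ) : ℝ)) = 0 := by
      intro j
      have hq : ∑ i, (R j i : ℝ) * ((l (p i) : ℚ) : ℝ) = 0 := by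
        have h3 : ((∑ i, (R j i : ℚ) * l (p i) : ℚ) : ℝ) = 0 := by
          rw [hwker j, Rat.cast_zero]
        push_cast at h3
        exact h3
      have e : ∑ i, (R j i : ℝ) * (p i - t * ((l (p i) : ℚ) : ℝ)) =
          ∑ i, (R j i : ℝ) * p i - t * ∑ i, (R j i : ℝ) * ((l (p i) : ℚ) : ℝ) := by
        rw [Finset.mul_sum, ← Finset.sum_sub_distrib]
        refine Finset.sum_congr rfl (fun i _ => ?_)
        ring
      rw [e, hker j, hq]
      ring
    have hsub : ∀ i, p i = 0 → p i - t * ((l (p i) : ℚ) : ℝ) = 0 := by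
      intro i hi
      rw [hwsupp i hi, hi]
      ring
    have hcard : suppCard (fun i => p i - t * ((l (p i) : ℚ) : ℝ)) ≤ N := by
      have := suppCard_lt (p := p) (p' := fun i => p i - t * ((l (p i) : ℚ) : ℝ)) hsub i1
        hp1.ne' hz1
      omega
    by_cases hp'0 : (fun i => p i - t * ((l (p i) : ℚ) : ℝ)) = 0
    · refine ⟨fun i => l (p i), ?_, ?_, hwker, ?_⟩
      · intro i
        show (0 : ℚ) ≤ l (p i)
        have h1 : p i - t * ((l (p i) : ℚ) : ℝ) = 0 := congrFun hp'0 i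
        have h3 : (0 : ℝ) ≤ ((l (p i) : ℚ) : ℝ) := by
          by_contra hneg
          have hneg' : ((l (p i) : ℚ) : ℝ) < 0 := not_le.mp hneg
          have h4 := mul_neg_of_pos_of_neg ht hneg'
          have h5 := hp i
          linarith
        exact_mod_cast h3
      · intro h0
        have h1 : l (p i0) = 0 := congrFun h0 i0
        rw [hl] at h1
        exact one_ne_zero h1
      · intro i hi
        show l (p i) = 0
        rw [hi, map_zero]
    · obtain ⟨q, hq0, hqne, hqker, hqsupp⟩ := ih _ hcard hnn hp'0 hker'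
      exact ⟨q, hq0, hqne, hqker, fun i hi => hqsupp i (hsub i hi)⟩

theorem exists_int_of_rat (q : ι → ℚ) :
    ∃ (D : ℕ) (g : ι → ℤ), 0 < D ∧ ∀ i, (g i : ℚ) = q i * D := by
  classical
  refine ⟨∏ i, (q i).den,
    fun i => (q i).num * ∏ i' ∈ Finset.univ.erase i, ((q i').den : ℤ),
    Finset.prod_pos (fun i _ => (q i).den_pos), ?_⟩
  intro i
  have h1 : ((∏ i', (q i').den : ℕ) : ℚ) =
      ((q i).den : ℚ) * ∏ i' ∈ Finset.univ.erase i, ((q i').den : ℚ) := by
    rw [Nat.cast_prod]
    exact (Finset.mul_prod_erase Finset.univ (fun i' => ((q i').den : ℚ))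
      (Finset.mem_univ i)).symm
  rw [h1, ← mul_assoc, Rat.mul_den_eq_num]
  push_cast
  try ring

theorem exists_int_point (R : κ → ι → ℤ) (p : ι → ℝ) (hp : ∀ i, 0 ≤ p i) (hne : p ≠ 0)
    (hker : ∀ j, ∑ i, (R j i : ℝ) * p i = 0) :
    ∃ g : ι → ℤ, (∀ i, 0 ≤ g i) ∧ (∃ i, 0 < g i) ∧ (∀ j, ∑ i, R j i * g i = 0) ∧
      (∀ i, p i = 0 → g i = 0) := by
  obtain ⟨q, hq0, hqne, hqker, hqsupp⟩ := exists_rat_point R (suppCard p) p le_rfl hp hne hker
  obtain ⟨D, g, hD, hg⟩ := exists_int_of_rat q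
  have hDq : (0 : ℚ) < D := by exact_mod_cast hD
  refine ⟨g, ?_, ?_, ?_, ?_⟩
  · intro i
    have h1 : (0 : ℚ) ≤ (g i : ℚ) := by
      rw [hg i]
      exact mul_nonneg (hq0 i) hDq.le
    exact_mod_cast h1
  · obtain ⟨i, hi⟩ : ∃ i, q i ≠ 0 := by
      by_contra hcon
      push Not at hcon
      exact hqne (funext hcon)
    refine ⟨i, ?_⟩
    have h1 : (0 : ℚ) < (g i : ℚ) := by
      rw [hg i]
      exact mul_pos (lt_of_le_of_ne (hq0 i) (Ne.symm hi)) hDq
    exact_mod_cast h1
  · intro j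
    have h1 : ((∑ i, R j i * g i : ℤ) : ℚ) = 0 := by
      rw [Int.cast_sum]
      have e : ∀ i, ((R j i * g i : ℤ) : ℚ) = ((R j i : ℚ) * q i) * D := by
        intro i
        rw [Int.cast_mul, hg i]
        ring
      rw [Finset.sum_congr rfl (fun i _ => e i), ← Finset.sum_mul, hqker j, zero_mul]
    exact_mod_cast h1
  · intro i hi
    have h1 : (g i : ℚ) = 0 := by rw [hg i, hqsupp i hi, zero_mul]
    exact_mod_cast h1

theorem exists_decomp (R : κ → ι → ℤ) : ∀ (N : ℕ) (p : ι → ℝ), suppCard p ≤ N →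
    (∀ i, 0 ≤ p i) → (∀ j, ∑ i, (R j i : ℝ) * p i = 0) →
    ∃ (m : ℕ) (g : Fin m → ι → ℤ) (z : Fin m → ℝ),
      (∀ l i, 0 ≤ g l i) ∧ (∀ l j, ∑ i, R j i * g l i = 0) ∧ (∀ l i, p i = 0 → g l i = 0) ∧
      (∀ t : Fin m → ℤ, (∀ i, ∑ l, t l * g l i = 0) → t = 0) ∧ (∀ l, 0 < z l) ∧
      ∀ i, p i = ∑ l, z l * (g l i : ℝ) := by
  have hzero : ∀ p : ι → ℝ, p = 0 →
      ∃ (m : ℕ) (g : Fin m → ι → ℤ) (z : Fin m → ℝ),
      (∀ l i, 0 ≤ g l i) ∧ (∀ l j, ∑ i, R j i * g l i = 0) ∧ (∀ l i, p i = 0 → g l i = 0) ∧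
      (∀ t : Fin m → ℤ, (∀ i, ∑ l, t l * g l i = 0) → t = 0) ∧ (∀ l, 0 < z l) ∧
      ∀ i, p i = ∑ l, z l * (g l i : ℝ) := by
    intro p hp0
    refine ⟨0, fun l => l.elim0, fun l => l.elim0, fun l => l.elim0, fun l => l.elim0,
      fun l => l.elim0, ?_, fun l => l.elim0, ?_⟩
    · intro t _
      funext l
      exact l.elim0
    · intro i
      rw [hp0, Fin.sum_univ_zero]
      rfl
  intro N
  induction N with
  | zero =>
    intro p hN _ _
    exact hzero p (eq_zero_of_suppCard_le_zero hN)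
  | succ N ih =>
    intro p hN hp hker
    by_cases hp0 : p = 0
    · exact hzero p hp0
    · obtain ⟨g0, hg0nn, ⟨ipos, hipos⟩, hg0ker, hg0supp⟩ := exists_int_point R p hp hp0 hker
      have hwsupp : ∀ i, p i = 0 → ((g0 i : ℤ) : ℝ) = 0 := by
        intro i hi
        rw [hg0supp i hi, Int.cast_zero]
      have hwpos : ∃ i, (0 : ℝ) < ((g0 i : ℤ) : ℝ) := ⟨ipos, by exact_mod_cast hipos⟩
      obtain ⟨t, i1, ht, hp1, hw1, hnn, hz1⟩ :=
        subtract p (fun i => ((g0 i : ℤ) : ℝ)) hp hwsupp hwpos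
      have hker' : ∀ j, ∑ i, (R j i : ℝ) * (p i - t * ((g0 i : ℤ) : ℝ)) = 0 := by
        intro j
        have hq : ∑ i, (R j i : ℝ) * ((g0 i : ℤ) : ℝ) = 0 := by
          have h3 : ((∑ i, R j i * g0 i : ℤ) : ℝ) = 0 := by rw [hg0ker j, Int.cast_zero]
          push_cast at h3
          exact h3
        have e : ∑ i, (R j i : ℝ) * (p i - t * ((g0 i : ℤ) : ℝ)) =
            ∑ i, (R j i : ℝ) * p i - t * ∑ i, (R j i : ℝ) * ((g0 i : ℤ) : ℝ) := by
          rw [Finset.mul_sum, ← Finset.sum_sub_distrib]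
          refine Finset.sum_congr rfl (fun i _ => ?_)
          ring
        rw [e, hker j, hq]
        ring
      have hsub : ∀ i, p i = 0 → p i - t * ((g0 i : ℤ) : ℝ) = 0 := by
        intro i hi
        rw [hwsupp i hi, hi]
        ring
      have hcard : suppCard (fun i => p i - t * ((g0 i : ℤ) : ℝ)) ≤ N := by
        have := suppCard_lt (p := p) (p' := fun i => p i - t * ((g0 i : ℤ) : ℝ)) hsub i1
          hp1.ne' hz1
        omega
      obtain ⟨m, g, z, hgnn, hgker, hgsupp, hind, hz, hpz⟩ := ih _ hcard hnn hker'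
      have hg0i1 : 0 < g0 i1 := by exact_mod_cast hw1
      refine ⟨m + 1, Fin.cons g0 g, Fin.cons t z, ?_, ?_, ?_, ?_, ?_, ?_⟩
      · intro l
        refine Fin.cases ?_ (fun l' => ?_) l
        · intro i
          rw [Fin.cons_zero]
          exact hg0nn i
        · intro i
          rw [Fin.cons_succ]
          exact hgnn l' i
      · intro l
        refine Fin.cases ?_ (fun l' => ?_) l
        · intro j
          simp only [Fin.cons_zero]
          exact hg0ker j
        · intro j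
          simp only [Fin.cons_succ]
          exact hgker l' j
      · intro l
        refine Fin.cases ?_ (fun l' => ?_) l
        · intro i hi
          rw [Fin.cons_zero]
          exact hg0supp i hi
        · intro i hi
          rw [Fin.cons_succ]
          exact hgsupp l' i (hsub i hi)
      · intro t' ht'
        have hsplit : ∀ i, t' 0 * g0 i + ∑ l : Fin m, t' l.succ * g l i = 0 := by
          intro i
          have h1 := ht' i
          rw [Fin.sum_univ_succ] at h1
          simpa only [Fin.cons_zero, Fin.cons_succ] using h1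
        have hgi1 : ∀ l, g l i1 = 0 := fun l => hgsupp l i1 hz1
        have ht0 : t' 0 = 0 := by
          have h1 := hsplit i1
          simp only [hgi1, mul_zero, Finset.sum_const_zero, add_zero] at h1
          rcases mul_eq_zero.mp h1 with h | h
          · exact h
          · omega
        have hrest : (fun l : Fin m => t' l.succ) = 0 := by
          apply hind
          intro i
          have h1 := hsplit i
          rw [ht0, zero_mul, zero_add] at h1
          exact h1
        funext l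
        refine Fin.cases ?_ (fun l' => ?_) l
        · exact ht0
        · exact congrFun hrest l'
      · intro l
        refine Fin.cases ?_ (fun l' => ?_) l
        · rw [Fin.cons_zero]
          exact ht
        · rw [Fin.cons_succ]
          exact hz l'
      · intro i
        rw [Fin.sum_univ_succ]
        simp only [Fin.cons_zero, Fin.cons_succ]
        rw [← hpz i]
        ring

end core

end Groth.Agent.Lib.Helper29.FanCone
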