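import Mathlib
import Groth.Prelude.Def_W4c6instabfans3FanCvx
import Groth.Agent.Lib.Helper29.FanBasic
import Groth.Agent.Lib.Helper29.FanCone

set_option autoImplicit false
universe u
open CategoryTheory Opposite Instab
open Instab Instab.Fan

namespace Groth.Agent.Lib.Helper29.FanKey

open Groth.Agent.Lib.Helper29 Groth.Agent.Lib.Helper29.FanCone

/-! ### integer linear maps from matrices -/

/-- the `ℤ`-linear map `t ↦ ∑ l, t l • G l` -/
def linOf {a b : ℕ} (G : Fin a → Fin b → ℤ) : (Fin a → ℤ) →ₗ[ℤ] (Fin b → ℤ) where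
  toFun t := fun i => ∑ l, t l * G l i
  map_add' s t := by
    funext i
    simp only [Pi.add_apply, add_mul, Finset.sum_add_distrib]
  map_smul' c t := by
    funext i
    simp only [Pi.smul_apply, smul_eq_mul, RingHom.id_apply, Finset.mul_sum, mul_assoc]

theorem linOf_apply {a b : ℕ} (G : Fin a → Fin b → ℤ) (t : Fin a → ℤ) (i : Fin b) :
    linOf G t i = ∑ l, t l * G l i := rfl

theorem linOf_single {a b : ℕ} (G : Fin a → Fin b → ℤ) (l : Fin a) (i : Fin b) :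
    linOf G (Pi.single l 1) i = G l i := by
  rw [linOf_apply, Finset.sum_eq_single l]
  · rw [Pi.single_eq_same, one_mul]
  · intro l' _ hne
    rw [Pi.single_eq_of_ne hne, zero_mul]
  · intro h
    exact absurd (Finset.mem_univ l) h

theorem lin_expand {a b : ℕ} (L : (Fin a → ℤ) →ₗ[ℤ] (Fin b → ℤ)) (u : Fin a → ℤ) (j : Fin b) :
    L u j = ∑ i, L (Pi.single i 1) j * u i := by
  have h := LinearMap.pi_apply_eq_sum_univ L u
  have e : ∀ i : Fin a, (fun j' => if i = j' then (1 : ℤ) else 0) = Pi.single i 1 := by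
    intro i
    funext j'
    rw [Pi.single_apply]
    by_cases hh : i = j'
    · rw [if_pos hh, if_pos hh.symm]
    · rw [if_neg hh, if_neg (fun h' => hh h'.symm)]
  rw [h, Finset.sum_apply]
  refine Finset.sum_congr rfl (fun i _ => ?_)
  rw [e i, Pi.smul_apply, smul_eq_mul, mul_comm]

/-! ### real maps -/

theorem realMap_apply {k n : ICone} (φ : k ⟶ n) (v : Fin k.dim → ℝ) (j : Fin n.dim) :
    φ.realMap v j = ∑ i, (φ.toLin (Pi.single i 1) j : ℝ) * v i := rfl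

theorem realMap_smul {k n : ICone} (φ : k ⟶ n) (c : ℝ) (v : Fin k.dim → ℝ) :
    φ.realMap (c • v) = c • φ.realMap v := by
  funext j
  simp only [realMap_apply, Pi.smul_apply, smul_eq_mul, Finset.mul_sum]
  refine Finset.sum_congr rfl (fun i _ => by ring)

theorem realMap_comp {m k n : ICone} (α : m ⟶ k) (φ : k ⟶ n) (z : Fin m.dim → ℝ) :
    (α ≫ φ).realMap z = φ.realMap (α.realMap z) := by
  funext j
  show ∑ l, ((φ.toLin (α.toLin (Pi.single l 1)) j : ℤ) : ℝ) * z l =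
    ∑ i, (φ.toLin (Pi.single i 1) j : ℝ) * (∑ l, (α.toLin (Pi.single l 1) i : ℝ) * z l)
  have h : ∀ l, ((φ.toLin (α.toLin (Pi.single l 1)) j : ℤ) : ℝ) =
      ∑ i, (φ.toLin (Pi.single i 1) j : ℝ) * (α.toLin (Pi.single l 1) i : ℝ) := by
    intro l
    rw [lin_expand φ.toLin, Int.cast_sum]
    refine Finset.sum_congr rfl (fun i _ => ?_)
    rw [Int.cast_mul]
  simp only [h, Finset.sum_mul, Finset.mul_sum]
  rw [Finset.sum_comm]
  refine Finset.sum_congr rfl (fun i _ => Finset.sum_congr rfl (fun l _ => by ring))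

theorem map_comp_op (F : Fan.{u}) {a b c : ICone} (f : a ⟶ b) (g : b ⟶ c) (σ : F.obj (op c)) :
    F.map (f ≫ g).op σ = F.map f.op (F.map g.op σ) := by
  rw [op_comp]
  exact Functor.map_comp_apply F g.op f.op σ

theorem map_id_op (F : Fan.{u}) {a : ICone} (σ : F.obj (op a)) :
    F.map (𝟙 a : a ⟶ a).op σ = σ := by
  rw [op_id]
  exact Functor.map_id_apply F _ σ

/-! ### cone morphisms from nonnegative integer matrices -/

/-- cone morphism with prescribed matrix -/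
def homOfMatrix {a : ICone} {m : ℕ} (hm : 0 < m) (G : Fin m → Fin a.dim → ℤ)
    (hnn : ∀ l i, 0 ≤ G l i) (hinj : Function.Injective (linOf G)) :
    (⟨⟨m, hm⟩⟩ : ICone) ⟶ a :=
  (ICone.Hom.mk (linOf G) hinj
    (fun v hv j => by
      show 0 ≤ ∑ l : Fin m, v l * G l j
      exact Finset.sum_nonneg (fun l _ => mul_nonneg (hv l) (hnn l j))) :
    ICone.Hom (⟨⟨m, hm⟩⟩ : ICone) a)

theorem homOfMatrix_realMap {a : ICone} {m : ℕ} (hm : 0 < m) (G : Fin m → Fin a.dim → ℤ)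
    (hnn : ∀ l i, 0 ≤ G l i) (hinj : Function.Injective (linOf G)) (z : Fin m → ℝ)
    (i : Fin a.dim) :
    (homOfMatrix hm G hnn hinj).realMap z i = ∑ l, (G l i : ℝ) * z l := by
  show ∑ l : Fin m, ((linOf G (Pi.single l 1) i : ℤ) : ℝ) * z l = _
  simp only [linOf_single]

/-- the constraint matrix of the fibre product of two cones -/
def Rmat {k k' n : ICone} (φ : k ⟶ n) (ψ : k' ⟶ n) (j : Fin n.dim) :
    (Fin k.dim ⊕ Fin k'.dim) → ℤ :=
  Sum.elim (fun i => φ.toLin (Pi.single i 1) j) (fun i' => - ψ.toLin (Pi.single i' 1) j)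

/-- the point of the fibre product -/
def pvec {k k' : ICone} (y : Fin k.dim → ℝ) (y' : Fin k'.dim → ℝ) (c d : ℝ) :
    (Fin k.dim ⊕ Fin k'.dim) → ℝ :=
  Sum.elim (fun i => c * y i) (fun i' => d * y' i')

theorem exists_common_refinement {k k' n : ICone} (φ : k ⟶ n) (ψ : k' ⟶ n) (y : Fan.Orth k)
    (y' : Fan.Orth k') (c d : ℝ) (hc : 0 < c) (hd : 0 < d)
    (h : c • φ.realMap y.1 = d • ψ.realMap y'.1) :
    ∃ (M : ICone) (α : M ⟶ k) (β : M ⟶ k') (z : Fan.Orth M) (s t : ℝ),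
      α ≫ φ = β ≫ ψ ∧ 0 < s ∧ 0 < t ∧
      y.1 = s • α.realMap z.1 ∧ y'.1 = t • β.realMap z.1 := by
  classical
  have hp0 : ∀ x, 0 ≤ pvec y.1 y'.1 c d x := by
    rintro (i | i')
    · exact mul_nonneg hc.le (y.2.1 i)
    · exact mul_nonneg hd.le (y'.2.1 i')
  have hker : ∀ j, ∑ x, (Rmat φ ψ j x : ℝ) * pvec y.1 y'.1 c d x = 0 := by
    intro j
    rw [Fintype.sum_sum_type]
    have h1 := congrFun h j
    simp only [Pi.smul_apply, smul_eq_mul, realMap_apply, Finset.mul_sum] at h1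
    simp only [Rmat, pvec, Sum.elim_inl, Sum.elim_inr, Int.cast_neg, neg_mul,
      Finset.sum_neg_distrib]
    have e1 : ∑ i, (φ.toLin (Pi.single i 1) j : ℝ) * (c * y.1 i) =
        ∑ i, c * ((φ.toLin (Pi.single i 1) j : ℝ) * y.1 i) :=
      Finset.sum_congr rfl (fun i _ => by ring)
    have e2 : ∑ i, (ψ.toLin (Pi.single i 1) j : ℝ) * (d * y'.1 i) =
        ∑ i, d * ((ψ.toLin (Pi.single i 1) j : ℝ) * y'.1 i) :=
      Finset.sum_congr rfl (fun i _ => by ring)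
    rw [e1, e2, h1]
    ring
  obtain ⟨m, g, z, hgnn, hgker, -, hind, hz, hpz⟩ :=
    exists_decomp (Rmat φ ψ) (suppCard (pvec y.1 y'.1 c d)) (pvec y.1 y'.1 c d) le_rfl hp0 hker
  have hm : 0 < m := by
    rcases Nat.eq_zero_or_pos m with h0 | h0
    · exfalso
      subst h0
      apply y.2.2
      funext i
      have h2 := hpz (Sum.inl i)
      rw [Fin.sum_univ_zero] at h2
      have h3 : c * y.1 i = 0 := h2
      rcases mul_eq_zero.mp h3 with h4 | h4
      · exact absurd h4 hc.ne'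
      · exact h4
    · exact h0
  -- the two matrices
  have hk : ∀ l j, ∑ i, φ.toLin (Pi.single i 1) j * g l (Sum.inl i) =
      ∑ i', ψ.toLin (Pi.single i' 1) j * g l (Sum.inr i') := by
    intro l j
    have h1 := hgker l j
    rw [Fintype.sum_sum_type] at h1
    simp only [Rmat, Sum.elim_inl, Sum.elim_inr, neg_mul, Finset.sum_neg_distrib] at h1
    linarith
  have hcomm : ∀ t : Fin m → ℤ, φ.toLin (linOf (fun l i => g l (Sum.inl i)) t) =
      ψ.toLin (linOf (fun l i' => g l (Sum.inr i')) t) := by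
    intro t
    funext j
    rw [lin_expand φ.toLin, lin_expand ψ.toLin]
    simp only [linOf_apply, Finset.mul_sum]
    rw [Finset.sum_comm]
    conv_rhs => rw [Finset.sum_comm]
    refine Finset.sum_congr rfl (fun l _ => ?_)
    have h1 := hk l j
    calc ∑ i, φ.toLin (Pi.single i 1) j * (t l * g l (Sum.inl i))
        = t l * ∑ i, φ.toLin (Pi.single i 1) j * g l (Sum.inl i) := by
          rw [Finset.mul_sum]
          exact Finset.sum_congr rfl (fun i _ => by ring)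
      _ = t l * ∑ i', ψ.toLin (Pi.single i' 1) j * g l (Sum.inr i') := by rw [h1]
      _ = ∑ i', ψ.toLin (Pi.single i' 1) j * (t l * g l (Sum.inr i')) := by
          rw [Finset.mul_sum]
          exact Finset.sum_congr rfl (fun i _ => by ring)
  have hzero : ∀ t : Fin m → ℤ, (linOf (fun l i => g l (Sum.inl i)) t = 0 ∨
      linOf (fun l i' => g l (Sum.inr i')) t = 0) → t = 0 := by
    intro t ht
    have hboth : linOf (fun l i => g l (Sum.inl i)) t = 0 ∧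
        linOf (fun l i' => g l (Sum.inr i')) t = 0 := by
      rcases ht with h1 | h1
      · refine ⟨h1, ψ.injective ?_⟩
        rw [← hcomm t, h1, map_zero, map_zero]
      · refine ⟨φ.injective ?_, h1⟩
        rw [hcomm t, h1, map_zero, map_zero]
    apply hind t
    rintro (i | i')
    · exact congrFun hboth.1 i
    · exact congrFun hboth.2 i'
  have hαinj : Function.Injective (linOf (fun l i => g l (Sum.inl i))) :=
    (injective_iff_map_eq_zero _).mpr (fun t ht => hzero t (Or.inl ht))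
  have hβinj : Function.Injective (linOf (fun l i' => g l (Sum.inr i'))) :=
    (injective_iff_map_eq_zero _).mpr (fun t ht => hzero t (Or.inr ht))
  have hzne : z ≠ 0 := by
    intro h0
    have h1 := hz ⟨0, hm⟩
    rw [h0] at h1
    exact lt_irrefl _ h1
  refine ⟨⟨⟨m, hm⟩⟩,
    homOfMatrix hm (fun l i => g l (Sum.inl i)) (fun l i => hgnn l _) hαinj,
    homOfMatrix hm (fun l i' => g l (Sum.inr i')) (fun l i' => hgnn l _) hβinj,
    ⟨z, fun l => (hz l).le, hzne⟩, 1 / c, 1 / d, ?_, by positivity, by positivity, ?_, ?_⟩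
  · apply ICone.Hom.ext
    show φ.toLin.comp (linOf (fun l i => g l (Sum.inl i))) =
      ψ.toLin.comp (linOf (fun l i' => g l (Sum.inr i')))
    exact LinearMap.ext hcomm
  · funext i
    show y.1 i = 1 / c * (homOfMatrix hm (fun l i => g l (Sum.inl i)) (fun l i => hgnn l _)
      hαinj).realMap z i
    rw [homOfMatrix_realMap]
    have h1 : c * y.1 i = ∑ l, z l * (g l (Sum.inl i) : ℝ) := hpz (Sum.inl i)
    have h2 : ∑ l, (g l (Sum.inl i) : ℝ) * z l = c * y.1 i := by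
      rw [h1]
      exact Finset.sum_congr rfl (fun l _ => mul_comm _ _)
    rw [h2, ← mul_assoc, one_div, inv_mul_cancel₀ hc.ne', one_mul]
  · funext i
    show y'.1 i = 1 / d * (homOfMatrix hm (fun l i' => g l (Sum.inr i')) (fun l i' => hgnn l _)
      hβinj).realMap z i
    rw [homOfMatrix_realMap]
    have h1 : d * y'.1 i = ∑ l, z l * (g l (Sum.inr i) : ℝ) := hpz (Sum.inr i)
    have h2 : ∑ l, (g l (Sum.inr i) : ℝ) * z l = d * y'.1 i := by
      rw [h1]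
      exact Finset.sum_congr rfl (fun l _ => mul_comm _ _)
    rw [h2, ← mul_assoc, one_div, inv_mul_cancel₀ hd.ne', one_mul]

/-! ### the common-subcone relation -/

/-- two points of the disjoint union lie in a common sub-cone -/
def Common (F : Fan.{u}) (a b : Fan.Pt F) : Prop :=
  ∃ (k : ICone) (φ₁ : k ⟶ a.1.1) (φ₂ : k ⟶ b.1.1) (y : Fan.Orth k) (c₁ c₂ : ℝ),
    F.map φ₁.op a.1.2 = F.map φ₂.op b.1.2 ∧ 0 < c₁ ∧ 0 < c₂ ∧
      a.2.1 = c₁ • φ₁.realMap y.1 ∧ b.2.1 = c₂ • φ₂.realMap y.1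

theorem common_refl (F : Fan.{u}) (a : Fan.Pt F) : Common F a a :=
  ⟨a.1.1, 𝟙 _, 𝟙 _, a.2, 1, 1, rfl, one_pos, one_pos,
    by rw [realMap_id, one_smul], by rw [realMap_id, one_smul]⟩

theorem common_symm (F : Fan.{u}) {a b : Fan.Pt F} (h : Common F a b) : Common F b a := by
  obtain ⟨k, φ₁, φ₂, y, c₁, c₂, hF, hc₁, hc₂, ha, hb⟩ := h
  exact ⟨k, φ₂, φ₁, y, c₂, c₁, hF.symm, hc₂, hc₁, hb, ha⟩

theorem common_trans (F : Fan.{u}) {a b c : Fan.Pt F} (h1 : Common F a b) (h2 : Common F b c) :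
    Common F a c := by
  obtain ⟨k, φ₁, φ₂, y, c₁, c₂, hF, hc₁, hc₂, ha, hb⟩ := h1
  obtain ⟨k', ψ₂, ψ₃, y', d₂, d₃, hF', hd₂, hd₃, hb', hc'⟩ := h2
  have heq : c₂ • φ₂.realMap y.1 = d₂ • ψ₂.realMap y'.1 := hb.symm.trans hb'
  obtain ⟨M, α, β, z, s, t, hαβ, hs, ht, hy, hy'⟩ :=
    exists_common_refinement φ₂ ψ₂ y y' c₂ d₂ hc₂ hd₂ heq
  refine ⟨M, α ≫ φ₁, β ≫ ψ₃, z, c₁ * s, d₃ * t, ?_, mul_pos hc₁ hs, mul_pos hd₃ ht, ?_, ?_⟩
  · rw [map_comp_op, map_comp_op, hF, ← hF', ← map_comp_op, ← map_comp_op, hαβ]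
  · rw [ha, hy, realMap_smul, realMap_comp, smul_smul]
  · rw [hc', hy', realMap_smul, realMap_comp, smul_smul]

theorem common_of_rel (F : Fan.{u}) {a b : Fan.Pt F} (h : Fan.Rel F a b) : Common F a b := by
  cases h with
  | @glue k n φ ξ v w c hc hw =>
    refine ⟨k, 𝟙 k, φ, v, 1, c, ?_, one_pos, hc, ?_, hw⟩
    · show F.map (𝟙 k : k ⟶ k).op (F.map φ.op ξ) = F.map φ.op ξ
      exact map_id_op F _
    · show v.1 = (1 : ℝ) • (𝟙 k : k ⟶ k).realMap v.1
      rw [realMap_id, one_smul]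

theorem common_of_eqvGen (F : Fan.{u}) {a b : Fan.Pt F}
    (h : Relation.EqvGen (Fan.Rel F) a b) : Common F a b := by
  induction h with
  | rel a b hab => exact common_of_rel F hab
  | refl a => exact common_refl F a
  | symm a b _ ih => exact common_symm F ih
  | trans a b c _ _ ih1 ih2 => exact common_trans F ih1 ih2

/-- KEY LEMMA: equal points of `P F` lie in a common sub-cone. -/
theorem key (F : Fan.{u}) {n₁ n₂ : ICone}
    (σ₁ : F.obj (op n₁)) (σ₂ : F.obj (op n₂)) (v₁ : Fan.Orth n₁) (v₂ : Fan.Orth n₂)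
    (h : Fan.P.mk σ₁ v₁ = Fan.P.mk σ₂ v₂) :
    ∃ (k : ICone) (φ₁ : k ⟶ n₁) (φ₂ : k ⟶ n₂) (y : Fan.Orth k) (c₁ c₂ : ℝ),
      F.map φ₁.op σ₁ = F.map φ₂.op σ₂ ∧ 0 < c₁ ∧ 0 < c₂ ∧
        v₁.1 = c₁ • φ₁.realMap y.1 ∧ v₂.1 = c₂ • φ₂.realMap y.1 := by
  have h' : Relation.EqvGen (Fan.Rel F) ⟨⟨n₁, σ₁⟩, v₁⟩ ⟨⟨n₂, σ₂⟩, v₂⟩ := Quot.eq.mp h
  exact common_of_eqvGen F h'

/-- converse: points in a common sub-cone are equal in `P F`. -/
theorem mk_eq_of_common (F : Fan.{u}) {n₁ n₂ : ICone}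
    (σ₁ : F.obj (op n₁)) (σ₂ : F.obj (op n₂)) (v₁ : Fan.Orth n₁) (v₂ : Fan.Orth n₂)
    {k : ICone} (φ₁ : k ⟶ n₁) (φ₂ : k ⟶ n₂) (y : Fan.Orth k) (c₁ c₂ : ℝ)
    (hF : F.map φ₁.op σ₁ = F.map φ₂.op σ₂) (hc₁ : 0 < c₁) (hc₂ : 0 < c₂)
    (h₁ : v₁.1 = c₁ • φ₁.realMap y.1) (h₂ : v₂.1 = c₂ • φ₂.realMap y.1) :
    Fan.P.mk σ₁ v₁ = Fan.P.mk σ₂ v₂ := by
  have e1 : Fan.P.mk (F.map φ₁.op σ₁) y = Fan.P.mk σ₁ v₁ :=
    Quot.sound (Fan.Rel.glue φ₁ σ₁ y v₁ c₁ hc₁ h₁)
  have e2 : Fan.P.mk (F.map φ₂.op σ₂) y = Fan.P.mk σ₂ v₂ :=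
    Quot.sound (Fan.Rel.glue φ₂ σ₂ y v₂ c₂ hc₂ h₂)
  rw [← e1, ← e2, hF]

end Groth.Agent.Lib.Helper29.FanKey
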