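import Mathlib
import Groth.Prelude.Def_W4c6instabfans3FanCvx
import Groth.Agent.Lib.Helper29.FanKey

set_option autoImplicit false
universe u
open CategoryTheory Opposite Instab
open Instab Instab.Fan

namespace Groth.Agent.Lib.Helper29.FanMaps

open Groth.Agent.Lib.Helper29 Groth.Agent.Lib.Helper29.FanKey

theorem P_map_mk {F G : Fan.{u}} (f : F ⟶ G) {n : ICone} (σ : F.obj (op n)) (v : Fan.Orth n) :
    Fan.P.map f (Fan.P.mk σ v) = Fan.P.mk (f.app (op n) σ) v := rfl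

theorem P_exists_rep {F : Fan.{u}} (x : Fan.P F) :
    ∃ (n : ICone) (σ : F.obj (op n)) (v : Fan.Orth n), x = Fan.P.mk σ v := by
  obtain ⟨a, rfl⟩ := Quot.exists_rep x
  exact ⟨a.1.1, a.1.2, a.2, rfl⟩

theorem P_map_comp {F G H : Fan.{u}} (f : F ⟶ G) (g : G ⟶ H) (x : Fan.P F) :
    Fan.P.map (f ≫ g) x = Fan.P.map g (Fan.P.map f x) := by
  obtain ⟨n, σ, v, rfl⟩ := P_exists_rep x
  rfl

theorem mk_glue (F : Fan.{u}) {k n : ICone} (φ : k ⟶ n) (σ : F.obj (op n)) (y : Fan.Orth k)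
    (v : Fan.Orth n) (c : ℝ) (hc : 0 < c) (h : v.1 = c • φ.realMap y.1) :
    Fan.P.mk (F.map φ.op σ) y = Fan.P.mk σ v :=
  Quot.sound (Fan.Rel.glue φ σ y v c hc h)

theorem toLin_single_nonneg {k n : ICone} (φ : k ⟶ n) (i : Fin k.dim) (j : Fin n.dim) :
    0 ≤ φ.toLin (Pi.single i 1) j := by
  refine φ.nonneg _ (fun i' => ?_) j
  rw [Pi.single_apply]
  split_ifs <;> norm_num

theorem realMap_nonneg {k n : ICone} (φ : k ⟶ n) (v : Fin k.dim → ℝ) (hv : ∀ i, 0 ≤ v i) :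
    ∀ j, 0 ≤ φ.realMap v j := by
  intro j
  rw [realMap_apply]
  refine Finset.sum_nonneg (fun i _ => mul_nonneg ?_ (hv i))
  exact_mod_cast toLin_single_nonneg φ i j

theorem realMap_ne_zero {k n : ICone} (φ : k ⟶ n) (v : Fin k.dim → ℝ) (hv : ∀ i, 0 ≤ v i)
    (hne : v ≠ 0) : φ.realMap v ≠ 0 := by
  intro h0
  obtain ⟨i, hi⟩ : ∃ i, v i ≠ 0 := by
    by_contra hcon
    push Not at hcon
    exact hne (funext hcon)
  have hcol : φ.toLin (Pi.single i 1) = 0 := by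
    funext j
    show φ.toLin (Pi.single i 1) j = 0
    have h1 : φ.realMap v j = 0 := congrFun h0 j
    rw [realMap_apply] at h1
    have hnn : ∀ i' ∈ Finset.univ, 0 ≤ (φ.toLin (Pi.single i' 1) j : ℝ) * v i' := by
      intro i' _
      refine mul_nonneg ?_ (hv i')
      exact_mod_cast toLin_single_nonneg φ i' j
    have h2 := (Finset.sum_eq_zero_iff_of_nonneg hnn).mp h1 i (Finset.mem_univ i)
    rcases mul_eq_zero.mp h2 with h3 | h3
    · exact_mod_cast h3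
    · exact absurd h3 hi
  have h1 : (Pi.single i 1 : Fin k.dim → ℤ) = 0 := φ.injective (by rw [hcol, map_zero])
  have h2 := congrFun h1 i
  rw [Pi.single_eq_same] at h2
  exact one_ne_zero h2

/-- image of an orthant point under a cone morphism -/
def orthMap {k n : ICone} (φ : k ⟶ n) (v : Fan.Orth k) : Fan.Orth n :=
  ⟨φ.realMap v.1, realMap_nonneg φ v.1 v.2.1, realMap_ne_zero φ v.1 v.2.1 v.2.2⟩

theorem orthMap_val {k n : ICone} (φ : k ⟶ n) (v : Fan.Orth k) :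
    (orthMap φ v).1 = φ.realMap v.1 := rfl

theorem mk_orthMap (F : Fan.{u}) {k n : ICone} (φ : k ⟶ n) (σ : F.obj (op n)) (v : Fan.Orth k) :
    Fan.P.mk (F.map φ.op σ) v = Fan.P.mk σ (orthMap φ v) :=
  mk_glue F φ σ v (orthMap φ v) 1 one_pos (by rw [one_smul, orthMap_val])

theorem main358 {F G : Fan.{u}} (f : F ⟶ G) :
    ((∀ n : ICone, Function.Injective (f.app (op n))) → Function.Injective (Fan.P.map f)) ∧
    ((∀ n : ICone, Function.Surjective (f.app (op n))) → Function.Surjective (Fan.P.map f)) := by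
  constructor
  · intro hinj x x' hxx'
    obtain ⟨n, σ, v, rfl⟩ := P_exists_rep x
    obtain ⟨n', σ', v', rfl⟩ := P_exists_rep x'
    rw [P_map_mk, P_map_mk] at hxx'
    obtain ⟨k, φ₁, φ₂, y, c₁, c₂, hG, hc₁, hc₂, h₁, h₂⟩ := key G _ _ v v' hxx'
    have hF : F.map φ₁.op σ = F.map φ₂.op σ' := by
      apply hinj k
      rw [NatTrans.naturality_apply f φ₁.op σ, NatTrans.naturality_apply f φ₂.op σ']
      exact hG
    exact mk_eq_of_common F σ σ' v v' φ₁ φ₂ y c₁ c₂ hF hc₁ hc₂ h₁ h₂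
  · intro hsurj y
    obtain ⟨n, τ, v, rfl⟩ := P_exists_rep y
    obtain ⟨σ, rfl⟩ := hsurj n τ
    exact ⟨Fan.P.mk σ v, rfl⟩

/-! ### fibre products -/

theorem coneMap_comp {F G : Fan.{u}} {k : ICone} (a : F.obj (op k)) (f : F ⟶ G) :
    Fan.coneMap a ≫ f = Fan.coneMap (f.app (op k) a) :=
  uliftYonedaEquiv_symm_comp a f

theorem coneMap_app {F : Fan.{u}} {n k : ICone} (σ : F.obj (op n))
    (u' : (uliftYoneda.{u}.obj n).obj (op k)) :
    (Fan.coneMap σ).app (op k) u' = F.map u'.down.op σ := rfl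

section pullback
variable {F F' G : Fan.{u}} (f : F ⟶ G) (g : F' ⟶ G)

/-- the element of the fibre product given by a compatible pair -/
noncomputable def pbElem {k : ICone} (a : F.obj (op k)) (b : F'.obj (op k))
    (h : f.app (op k) a = g.app (op k) b) : (Limits.pullback f g).obj (op k) :=
  uliftYonedaEquiv.{u} (Limits.pullback.lift (Fan.coneMap a) (Fan.coneMap b)
    (by rw [coneMap_comp, coneMap_comp, h]))

theorem pbElem_fst {k : ICone} (a : F.obj (op k)) (b : F'.obj (op k))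
    (h : f.app (op k) a = g.app (op k) b) :
    (Limits.pullback.fst f g).app (op k) (pbElem f g a b h) = a := by
  have e : (Limits.pullback.fst f g).app (op k) (pbElem f g a b h) =
      uliftYonedaEquiv.{u} (Limits.pullback.lift (Fan.coneMap a) (Fan.coneMap b)
        (by rw [coneMap_comp, coneMap_comp, h]) ≫ Limits.pullback.fst f g) := rfl
  rw [e, Limits.pullback.lift_fst]
  exact Equiv.apply_symm_apply _ a

theorem pbElem_snd {k : ICone} (a : F.obj (op k)) (b : F'.obj (op k))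
    (h : f.app (op k) a = g.app (op k) b) :
    (Limits.pullback.snd f g).app (op k) (pbElem f g a b h) = b := by
  have e : (Limits.pullback.snd f g).app (op k) (pbElem f g a b h) =
      uliftYonedaEquiv.{u} (Limits.pullback.lift (Fan.coneMap a) (Fan.coneMap b)
        (by rw [coneMap_comp, coneMap_comp, h]) ≫ Limits.pullback.snd f g) := rfl
  rw [e, Limits.pullback.lift_snd]
  exact Equiv.apply_symm_apply _ b

theorem pb_condition {k : ICone} (p : (Limits.pullback f g).obj (op k)) :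
    f.app (op k) ((Limits.pullback.fst f g).app (op k) p) =
      g.app (op k) ((Limits.pullback.snd f g).app (op k) p) := by
  have h := Limits.pullback.condition (f := f) (g := g)
  exact congrArg (fun t : Limits.pullback f g ⟶ G => t.app (op k) p) h

theorem pb_ext {k : ICone} (e e' : (Limits.pullback f g).obj (op k))
    (h1 : (Limits.pullback.fst f g).app (op k) e = (Limits.pullback.fst f g).app (op k) e')
    (h2 : (Limits.pullback.snd f g).app (op k) e = (Limits.pullback.snd f g).app (op k) e') :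
    e = e' := by
  obtain ⟨t, rfl⟩ := (uliftYonedaEquiv.{u} (X := k) (F := Limits.pullback f g)).surjective e
  obtain ⟨t', rfl⟩ := (uliftYonedaEquiv.{u} (X := k) (F := Limits.pullback f g)).surjective e'
  refine congrArg _ (Limits.pullback.hom_ext ?_ ?_)
  · apply (uliftYonedaEquiv.{u}).injective
    rw [uliftYonedaEquiv_comp, uliftYonedaEquiv_comp]
    exact h1
  · apply (uliftYonedaEquiv.{u}).injective
    rw [uliftYonedaEquiv_comp, uliftYonedaEquiv_comp]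
    exact h2

theorem main360 (x : Fan.P F) (x' : Fan.P F') (h : Fan.P.map f x = Fan.P.map g x') :
    ∃ y : Fan.P (Limits.pullback f g),
      Fan.P.map (Limits.pullback.fst f g) y = x ∧ Fan.P.map (Limits.pullback.snd f g) y = x' := by
  obtain ⟨n, σ, v, rfl⟩ := P_exists_rep x
  obtain ⟨n', σ', v', rfl⟩ := P_exists_rep x'
  rw [P_map_mk, P_map_mk] at h
  obtain ⟨k, φ₁, φ₂, y, c₁, c₂, hG, hc₁, hc₂, h₁, h₂⟩ := key G _ _ v v' h
  have hcomp : f.app (op k) (F.map φ₁.op σ) = g.app (op k) (F'.map φ₂.op σ') := by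
    rw [NatTrans.naturality_apply f φ₁.op σ, NatTrans.naturality_apply g φ₂.op σ']
    exact hG
  refine ⟨Fan.P.mk (pbElem f g _ _ hcomp) y, ?_, ?_⟩
  · rw [P_map_mk, pbElem_fst]
    exact mk_glue F φ₁ σ y v c₁ hc₁ h₁
  · rw [P_map_mk, pbElem_snd]
    exact mk_glue F' φ₂ σ' y v' c₂ hc₂ h₂

end pullback

/-! ### sub-fans -/

theorem mem_range_ι_iff {F : Fan.{u}} (S : Subfunctor F) (x : Fan.P F) :
    x ∈ Set.range (Fan.P.map S.ι) ↔
      ∃ (n : ICone) (σ : F.obj (op n)) (v : Fan.Orth n), σ ∈ S.obj (op n) ∧ x = Fan.P.mk σ v := by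
  constructor
  · rintro ⟨y, rfl⟩
    obtain ⟨n, τ, v, rfl⟩ := P_exists_rep y
    exact ⟨n, τ.1, v, τ.2, rfl⟩
  · rintro ⟨n, σ, v, hσ, rfl⟩
    exact ⟨Fan.P.mk (F := S.toFunctor) (⟨σ, hσ⟩ : S.obj (op n)) v, rfl⟩

theorem main362 {F G G' : Fan.{u}} (f : F ⟶ G) (g : G' ⟶ G) :
    Set.range (Fan.P.map f) = Set.range (Fan.P.map (Subfunctor.range f).ι) ∧
    Set.range (Fan.P.map (Limits.pullback.snd f g)) = Fan.P.map g ⁻¹' Set.range (Fan.P.map f) := by
  constructor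
  · ext y
    rw [mem_range_ι_iff]
    constructor
    · rintro ⟨x, rfl⟩
      obtain ⟨n, σ, v, rfl⟩ := P_exists_rep x
      exact ⟨n, f.app (op n) σ, v, ⟨σ, rfl⟩, rfl⟩
    · rintro ⟨n, τ, v, ⟨σ, hσ⟩, rfl⟩
      exact ⟨Fan.P.mk σ v, by rw [P_map_mk, hσ]⟩
  · ext x'
    constructor
    · rintro ⟨y, rfl⟩
      refine ⟨Fan.P.map (Limits.pullback.fst f g) y, ?_⟩
      rw [← P_map_comp, ← P_map_comp, Limits.pullback.condition]
    · rintro ⟨x, hx⟩
      obtain ⟨y, _, hy⟩ := main360 f g x x' hx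
      exact ⟨y, hy⟩

theorem main368 (F : Fan.{u}) :
    (∀ U V : Set (Fan.P F), Fan.IsRealizable U → Fan.IsRealizable V →
      Fan.IsRealizable (U ∩ V)) ∧
    ∀ (ι : Type u) (U : ι → Set (Fan.P F)), (∀ i, Fan.IsRealizable (U i)) →
      Fan.IsRealizable (Set.iUnion U) := by
  constructor
  · rintro U V ⟨S, rfl⟩ ⟨S', rfl⟩
    refine ⟨S ⊓ S', ?_⟩
    ext x
    rw [Set.mem_inter_iff, mem_range_ι_iff, mem_range_ι_iff, mem_range_ι_iff]
    constructor
    · rintro ⟨⟨n, σ, v, hσ, rfl⟩, ⟨n', σ', v', hσ', hx⟩⟩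
      obtain ⟨k, φ₁, φ₂, y, c₁, c₂, hF, hc₁, hc₂, h₁, h₂⟩ := key F _ _ v v' hx
      refine ⟨k, F.map φ₁.op σ, y, ⟨S.map φ₁.op hσ, ?_⟩, (mk_glue F φ₁ σ y v c₁ hc₁ h₁).symm⟩
      rw [hF]
      exact S'.map φ₂.op hσ'
    · rintro ⟨n, σ, v, ⟨hσ, hσ'⟩, rfl⟩
      exact ⟨⟨n, σ, v, hσ, rfl⟩, ⟨n, σ, v, hσ', rfl⟩⟩
  · intro ι U hU
    choose S hS using hU
    refine ⟨⨆ i, S i, ?_⟩
    ext x
    rw [Set.mem_iUnion, mem_range_ι_iff]
    constructor
    · rintro ⟨i, hi⟩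
      rw [hS i, mem_range_ι_iff] at hi
      obtain ⟨n, σ, v, hσ, rfl⟩ := hi
      refine ⟨n, σ, v, ?_, rfl⟩
      rw [Subfunctor.iSup_obj]
      exact Set.mem_iUnion.mpr ⟨i, hσ⟩
    · rintro ⟨n, σ, v, hσ, rfl⟩
      rw [Subfunctor.iSup_obj] at hσ
      obtain ⟨i, hi⟩ := Set.mem_iUnion.mp hσ
      refine ⟨i, ?_⟩
      rw [hS i, mem_range_ι_iff]
      exact ⟨n, σ, v, hi, rfl⟩

/-! ### representable fans -/

theorem rep_eq (n : ICone) {k : ICone} (φ : k ⟶ n) (z : Fan.Orth k) (v : Fan.Orth n)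
    (h : Fan.P.mk (F := uliftYoneda.{u}.obj n) (ULift.up φ) z =
      Fan.P.mk (F := uliftYoneda.{u}.obj n) (ULift.up (𝟙 n)) v) :
    ∃ c : ℝ, 0 < c ∧ v.1 = c • φ.realMap z.1 := by
  obtain ⟨k', ψ₁, ψ₂, y, c₁, c₂, hF, hc₁, hc₂, h₁, h₂⟩ :=
    key (uliftYoneda.{u}.obj n) _ _ z v h
  have hF' : (ULift.up (ψ₁ ≫ φ) : ULift.{u} (k' ⟶ n)) = ULift.up (ψ₂ ≫ 𝟙 n) := hF
  have hψ : ψ₁ ≫ φ = ψ₂ := by
    have h3 := congrArg ULift.down hF'
    simpa using h3
  refine ⟨c₂ / c₁, div_pos hc₂ hc₁, ?_⟩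
  rw [h₂, ← hψ, realMap_comp, h₁, realMap_smul, smul_smul, div_mul_cancel₀ _ hc₁.ne']

theorem main373 (G : Fan.{u}) (hG : G.IsQuasiSeparated)
    {n n' : ICone} (ξ : G.obj (op n)) (ξ' : G.obj (op n')) :
    ∃ s : Finset (Σ k : ICone, (k ⟶ n) × (k ⟶ n')),
      (∀ e ∈ s, G.map e.2.1.op ξ = G.map e.2.2.op ξ') ∧
      ∀ (v : Fan.Orth n) (w : Fan.Orth n'), Fan.P.mk ξ v = Fan.P.mk ξ' w ↔
        ∃ e ∈ s, ∃ (y : Fan.Orth e.1) (c c' : ℝ), 0 < c ∧ 0 < c' ∧
          v.1 = c • e.2.1.realMap y.1 ∧ w.1 = c' • e.2.2.realMap y.1 := by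
  classical
  obtain ⟨s₀, hs₀⟩ := hG n n' ξ ξ'
  let Φ : (Σ k : ICone, (Limits.pullback (Fan.coneMap ξ) (Fan.coneMap ξ')).obj (op k)) →
      (Σ k : ICone, (k ⟶ n) × (k ⟶ n')) :=
    fun e => ⟨e.1, (((Limits.pullback.fst (Fan.coneMap ξ) (Fan.coneMap ξ')).app (op e.1) e.2).down,
      ((Limits.pullback.snd (Fan.coneMap ξ) (Fan.coneMap ξ')).app (op e.1) e.2).down)⟩
  have hΦ : ∀ e, G.map (Φ e).2.1.op ξ = G.map (Φ e).2.2.op ξ' := by
    intro e
    exact pb_condition (Fan.coneMap ξ) (Fan.coneMap ξ') e.2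
  refine ⟨s₀.image Φ, ?_, ?_⟩
  · intro e he
    obtain ⟨e₀, _, rfl⟩ := Finset.mem_image.mp he
    exact hΦ e₀
  · intro v w
    constructor
    · intro h
      have e1 : (Fan.coneMap ξ).app (op n) (ULift.up (𝟙 n)) = ξ := by
        rw [coneMap_app]
        exact map_id_op G ξ
      have e2 : (Fan.coneMap ξ').app (op n') (ULift.up (𝟙 n')) = ξ' := by
        rw [coneMap_app]
        exact map_id_op G ξ'
      have hx : Fan.P.map (Fan.coneMap ξ)
          (Fan.P.mk (F := uliftYoneda.{u}.obj n) (ULift.up (𝟙 n)) v) =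
          Fan.P.map (Fan.coneMap ξ')
            (Fan.P.mk (F := uliftYoneda.{u}.obj n') (ULift.up (𝟙 n')) w) := by
        rw [P_map_mk, P_map_mk, e1, e2]
        exact h
      obtain ⟨y, hy1, hy2⟩ := main360 (Fan.coneMap ξ) (Fan.coneMap ξ') _ _ hx
      obtain ⟨e, he, hye⟩ := hs₀ y
      obtain ⟨z, rfl⟩ := hye
      rw [P_map_mk] at hy1 hy2
      obtain ⟨c, hc, hv⟩ := rep_eq n (Φ e).2.1 z v hy1
      obtain ⟨c', hc', hw⟩ := rep_eq n' (Φ e).2.2 z w hy2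
      exact ⟨Φ e, Finset.mem_image_of_mem Φ he, z, c, c', hc, hc', hv, hw⟩
    · rintro ⟨e, he, y, c, c', hc, hc', hv, hw⟩
      obtain ⟨e₀, _, rfl⟩ := Finset.mem_image.mp he
      exact mk_eq_of_common G ξ ξ' v w _ _ y c c' (hΦ e₀) hc hc' hv hw

end Groth.Agent.Lib.Helper29.FanMaps
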