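import Mathlib
import Groth.Prelude.Def_W4c6instabfans3FanCvx
import Groth.Agent.Lib.Helper29.FanMaps

set_option autoImplicit false
universe u
open CategoryTheory Opposite Instab
open Instab Instab.Fan

namespace Groth.Agent.Lib.Helper29.FanBdd

open Groth.Agent.Lib.Helper29 Groth.Agent.Lib.Helper29.FanKey Groth.Agent.Lib.Helper29.FanMaps

theorem rep_map_up (n : ICone) {k k' : ICone} (ψ : k' ⟶ k)
    (a : (uliftYoneda.{u}.obj n).obj (op k)) :
    (uliftYoneda.{u}.obj n).map ψ.op a = ULift.up (ψ ≫ a.down) := rfl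

/-- representable fans are bounded -/
theorem rep_bounded (n : ICone) : Fan.IsBounded (uliftYoneda.{u}.obj n) := by
  refine ⟨({⟨n, ULift.up (𝟙 n)⟩} : Finset (Σ m : ICone, (uliftYoneda.{u}.obj n).obj (op m))), ?_⟩
  intro x
  obtain ⟨k, σ, v, rfl⟩ := P_exists_rep x
  refine ⟨⟨n, ULift.up (𝟙 n)⟩, Finset.mem_singleton_self _, ?_⟩
  refine ⟨orthMap σ.down v, ?_⟩
  have h := mk_orthMap (uliftYoneda.{u}.obj n) σ.down (ULift.up (𝟙 n)) v
  have e : (uliftYoneda.{u}.obj n).map σ.down.op (ULift.up (𝟙 n)) = σ := by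
    rw [rep_map_up]
    show ULift.up (σ.down ≫ 𝟙 n) = σ
    rw [Category.comp_id]
  rw [e] at h
  exact h.symm

section theta
variable {F G : Fan.{u}} (f : F ⟶ G) {n m : ICone} (σ : F.obj (op n)) (τ : G.obj (op m))

/-- comparison of fibre products -/
noncomputable def Theta :
    Limits.pullback (Fan.coneMap (f.app (op n) σ)) (Fan.coneMap τ) ⟶
      Limits.pullback f (Fan.coneMap τ) :=
  Limits.pullback.lift (Limits.pullback.fst _ _ ≫ Fan.coneMap σ) (Limits.pullback.snd _ _)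
    (by rw [Category.assoc, coneMap_comp, Limits.pullback.condition])

theorem Theta_fst : Theta f σ τ ≫ Limits.pullback.fst f (Fan.coneMap τ) =
    Limits.pullback.fst _ _ ≫ Fan.coneMap σ := Limits.pullback.lift_fst _ _ _

theorem Theta_snd : Theta f σ τ ≫ Limits.pullback.snd f (Fan.coneMap τ) =
    Limits.pullback.snd _ _ := Limits.pullback.lift_snd _ _ _

theorem Theta_fst_app {k : ICone}
    (q : (Limits.pullback (Fan.coneMap (f.app (op n) σ)) (Fan.coneMap τ)).obj (op k)) :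
    (Limits.pullback.fst f (Fan.coneMap τ)).app (op k) ((Theta f σ τ).app (op k) q) =
      (Fan.coneMap σ).app (op k) ((Limits.pullback.fst (Fan.coneMap (f.app (op n) σ))
        (Fan.coneMap τ)).app (op k) q) :=
  congrArg (fun t : Limits.pullback (Fan.coneMap (f.app (op n) σ)) (Fan.coneMap τ) ⟶ F =>
    t.app (op k) q) (Theta_fst f σ τ)

theorem Theta_snd_app {k : ICone}
    (q : (Limits.pullback (Fan.coneMap (f.app (op n) σ)) (Fan.coneMap τ)).obj (op k)) :
    (Limits.pullback.snd f (Fan.coneMap τ)).app (op k) ((Theta f σ τ).app (op k) q) =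
      (Limits.pullback.snd (Fan.coneMap (f.app (op n) σ)) (Fan.coneMap τ)).app (op k) q :=
  congrArg (fun t : Limits.pullback (Fan.coneMap (f.app (op n) σ)) (Fan.coneMap τ) ⟶
    uliftYoneda.{u}.obj m => t.app (op k) q) (Theta_snd f σ τ)

end theta

theorem main359 (G : Fan.{u}) :
    G.IsQuasiSeparated ↔
      ∀ (F : Fan.{u}) (f : F ⟶ G), F.IsBounded → Fan.IsBoundedMap f := by
  constructor
  · intro hG F f hF m τ
    classical
    obtain ⟨sF, hsF⟩ := hF
    have hcov : ∀ e : (Σ n : ICone, F.obj (op n)),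
        ∃ t : Finset (Σ k : ICone,
          (Limits.pullback (Fan.coneMap (f.app (op e.1) e.2)) (Fan.coneMap τ)).obj (op k)),
        ∀ x : Fan.P (Limits.pullback (Fan.coneMap (f.app (op e.1) e.2)) (Fan.coneMap τ)),
          ∃ c ∈ t, x ∈ Fan.P.cell c.2 := fun e => hG e.1 m (f.app (op e.1) e.2) τ
    choose t ht using hcov
    refine ⟨sF.biUnion (fun e => (t e).image
      (fun c => (⟨c.1, (Theta f e.2 τ).app (op c.1) c.2⟩ :
        Σ k : ICone, (Limits.pullback f (Fan.coneMap τ)).obj (op k)))), ?_⟩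
    intro x
    obtain ⟨k, p, v, rfl⟩ := P_exists_rep x
    obtain ⟨a, ha⟩ : ∃ a, (Limits.pullback.fst f (Fan.coneMap τ)).app (op k) p = a := ⟨_, rfl⟩
    obtain ⟨b, hb⟩ : ∃ b, (Limits.pullback.snd f (Fan.coneMap τ)).app (op k) p = b := ⟨_, rfl⟩
    have hab : f.app (op k) a = G.map b.down.op τ := by
      have h1 := pb_condition f (Fan.coneMap τ) p
      rw [ha, hb] at h1
      exact h1
    obtain ⟨e, he, hxe⟩ := hsF (Fan.P.mk a v)
    obtain ⟨w, hw⟩ := hxe
    obtain ⟨k', φ₁, φ₂, y, c₁, c₂, hFeq, hc₁, hc₂, h₁, h₂⟩ := key F a e.2 v w hw.symm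
    have hq : (Fan.coneMap (f.app (op e.1) e.2)).app (op k') (ULift.up φ₂) =
        (Fan.coneMap τ).app (op k') (ULift.up (φ₁ ≫ b.down)) := by
      show G.map φ₂.op (f.app (op e.1) e.2) = G.map (φ₁ ≫ b.down).op τ
      calc G.map φ₂.op (f.app (op e.1) e.2)
          = f.app (op k') (F.map φ₂.op e.2) := (NatTrans.naturality_apply f φ₂.op e.2).symm
        _ = f.app (op k') (F.map φ₁.op a) := by rw [hFeq]
        _ = G.map φ₁.op (f.app (op k) a) := NatTrans.naturality_apply f φ₁.op a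
        _ = G.map φ₁.op (G.map b.down.op τ) := by rw [hab]
        _ = G.map (φ₁ ≫ b.down).op τ := (map_comp_op G φ₁ b.down τ).symm
    -- the two elements of the fibre product over `k'`
    have hpp : (Theta f e.2 τ).app (op k')
        (pbElem (Fan.coneMap (f.app (op e.1) e.2)) (Fan.coneMap τ) _ _ hq) =
        (Limits.pullback f (Fan.coneMap τ)).map φ₁.op p := by
      apply pb_ext f (Fan.coneMap τ)
      · rw [Theta_fst_app, pbElem_fst,
          NatTrans.naturality_apply (Limits.pullback.fst f (Fan.coneMap τ)) φ₁.op p, ha]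
        exact hFeq.symm
      · rw [Theta_snd_app, pbElem_snd,
          NatTrans.naturality_apply (Limits.pullback.snd f (Fan.coneMap τ)) φ₁.op p, hb]
        rfl
    obtain ⟨c, hc, z, hz⟩ := ht e (Fan.P.mk
      (pbElem (Fan.coneMap (f.app (op e.1) e.2)) (Fan.coneMap τ) _ _ hq) y)
    refine ⟨⟨c.1, (Theta f e.2 τ).app (op c.1) c.2⟩,
      Finset.mem_biUnion.mpr ⟨e, he, Finset.mem_image.mpr ⟨c, hc, rfl⟩⟩, z, ?_⟩
    have h3 := congrArg (Fan.P.map (Theta f e.2 τ)) hz
    rw [P_map_mk, P_map_mk, hpp] at h3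
    rw [h3]
    exact mk_glue _ φ₁ p y v c₁ hc₁ h₁
  · intro h n₀ n₁ σ₀ σ₁
    exact h (uliftYoneda.{u}.obj n₀) (Fan.coneMap σ₀) (rep_bounded n₀) n₁ σ₁

end Groth.Agent.Lib.Helper29.FanBdd
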