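import Mathlib
import Groth.Prelude.Def_W4c6instabfans3FanCvx
import Groth.Agent.Lib.Helper29.FanBdd

set_option autoImplicit false
universe u
open CategoryTheory Opposite Instab
open Instab Instab.Fan

namespace Groth.Agent.Lib.Helper29.FanTop

open Groth.Agent.Lib.Helper29 Groth.Agent.Lib.Helper29.FanKey Groth.Agent.Lib.Helper29.FanMaps
open Groth.Agent.Lib.Helper29.FanCone

/-! ### basic topology of the projective realization -/

theorem continuous_mk {F : Fan.{u}} {n : ICone} (ξ : F.obj (op n)) :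
    Continuous (Fan.P.mk ξ : Fan.Orth n → Fan.P F) :=
  continuous_quot_mk.comp
    (continuous_sigmaMk (σ := fun e : (Σ n : ICone, F.obj (op n)) => Fan.Orth e.1) (i := ⟨n, ξ⟩))

theorem isClosed_iff {F : Fan.{u}} (S : Set (Fan.P F)) :
    IsClosed S ↔ ∀ (n : ICone) (ξ : F.obj (op n)), IsClosed (Fan.P.mk ξ ⁻¹' S) := by
  constructor
  · intro h n ξ
    exact h.preimage (continuous_mk ξ)
  · intro h
    have h3 : IsClosed ((Quot.mk (Fan.Rel F)) ⁻¹' S) := by
      refine isClosed_sigma_iff.mpr (fun e => ?_)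
      exact h e.1 e.2
    exact isQuotientMap_quot_mk.isCoinducing.isClosed_preimage.mp h3

theorem continuous_map {F G : Fan.{u}} (f : F ⟶ G) : Continuous (Fan.P.map f) := by
  refine isQuotientMap_quot_mk.continuous_iff.mpr ?_
  refine continuous_sigma (fun e => ?_)
  exact continuous_mk (f.app (op e.1) e.2)

theorem inducing_val (n : ICone) : Topology.IsInducing (fun v : Fan.Orth n => v.1) := ⟨rfl⟩

/-! ### the real linear map of a cone morphism -/

theorem realMap_add {k n : ICone} (φ : k ⟶ n) (v w : Fin k.dim → ℝ) :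
    φ.realMap (v + w) = φ.realMap v + φ.realMap w := by
  funext j
  simp only [realMap_apply, Pi.add_apply, mul_add, Finset.sum_add_distrib]

/-- the real linear map of a cone morphism -/
def realLin {k n : ICone} (φ : k ⟶ n) : (Fin k.dim → ℝ) →ₗ[ℝ] (Fin n.dim → ℝ) where
  toFun := φ.realMap
  map_add' v w := realMap_add φ v w
  map_smul' c v := by
    rw [RingHom.id_apply]
    exact realMap_smul φ c v

theorem realMap_injective {k n : ICone} (φ : k ⟶ n) (v : Fin k.dim → ℝ)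
    (h : φ.realMap v = 0) : v = 0 := by
  by_contra hne
  obtain ⟨i₀, hi₀⟩ : ∃ i, v i ≠ 0 := by
    by_contra hcon
    push Not at hcon
    exact hne (funext hcon)
  obtain ⟨l, hl⟩ := exists_functional (v i₀) hi₀
  obtain ⟨D, g, hD, hg⟩ := exists_int_of_rat (fun i => l (v i))
  have hDq : (D : ℚ) ≠ 0 := by exact_mod_cast hD.ne'
  have hlmul : ∀ (M : ℤ) (x : ℝ), l ((M : ℝ) * x) = (M : ℚ) * l x := by
    intro M x
    have e1 : (M : ℝ) * x = M • x := (zsmul_eq_mul x M).symm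
    have e2 : (M : ℚ) * l x = M • l x := (zsmul_eq_mul (l x) M).symm
    rw [e1, e2, map_zsmul]
  have hker : ∀ j, ∑ i, ((φ.toLin (Pi.single i 1) j : ℤ) : ℚ) * l (v i) = 0 := by
    intro j
    have h1 : φ.realMap v j = 0 := congrFun h j
    rw [realMap_apply] at h1
    have h2 := congrArg l h1
    rw [map_sum, map_zero] at h2
    rw [← h2]
    exact Finset.sum_congr rfl (fun i _ => (hlmul _ _).symm)
  have hg0 : φ.toLin g = 0 := by
    funext j
    rw [lin_expand φ.toLin g j]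
    show ∑ i, φ.toLin (Pi.single i 1) j * g i = 0
    have h1 : ((∑ i, φ.toLin (Pi.single i 1) j * g i : ℤ) : ℚ) = 0 := by
      rw [Int.cast_sum]
      have e : ∀ i, ((φ.toLin (Pi.single i 1) j * g i : ℤ) : ℚ) =
          (((φ.toLin (Pi.single i 1) j : ℤ) : ℚ) * l (v i)) * D := by
        intro i
        rw [Int.cast_mul, hg i]
        ring
      rw [Finset.sum_congr rfl (fun i _ => e i), ← Finset.sum_mul, hker j, zero_mul]
    exact_mod_cast h1
  have hgz : g = 0 := φ.injective (by rw [hg0, map_zero])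
  have h3 : (g i₀ : ℚ) = l (v i₀) * D := hg i₀
  rw [hgz, hl, one_mul] at h3
  have h4 : (D : ℚ) = 0 := by
    rw [← h3]
    simp
  exact hDq h4

theorem realMap_inj {k n : ICone} (φ : k ⟶ n) (a b : Fin k.dim → ℝ)
    (h : φ.realMap a = φ.realMap b) : a = b := by
  have h1 : (realLin φ) (a - b) = 0 := by
    rw [map_sub]
    exact sub_eq_zero.mpr h
  exact sub_eq_zero.mp (realMap_injective φ _ h1)

theorem continuous_realMap {k n : ICone} (φ : k ⟶ n) : Continuous (φ.realMap) := by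
  refine continuous_pi (fun j => ?_)
  show Continuous fun v : Fin k.dim → ℝ => ∑ i, (φ.toLin (Pi.single i 1) j : ℝ) * v i
  exact continuous_finsetSum _ (fun i _ => continuous_const.mul (continuous_apply i))

theorem continuous_orthMap {k n : ICone} (φ : k ⟶ n) : Continuous (orthMap φ) := by
  refine (inducing_val n).continuous_iff.mpr ?_
  exact (continuous_realMap φ).comp (inducing_val k).continuous

theorem isClosed_orthant (m : ℕ) : IsClosed {x : Fin m → ℝ | ∀ i, 0 ≤ x i} := by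
  have h : {x : Fin m → ℝ | ∀ i, 0 ≤ x i} = ⋂ i, {x : Fin m → ℝ | 0 ≤ x i} := by
    ext x
    simp
  rw [h]
  exact isClosed_iInter (fun i => isClosed_le continuous_const (continuous_apply i))

theorem isClosed_image_orthMap {k n : ICone} (φ : k ⟶ n) (C : Set (Fan.Orth k))
    (hC : IsClosed C) : IsClosed (orthMap φ '' C) := by
  obtain ⟨C', hC', hCC'⟩ := (inducing_val k).isClosed_iff.mp hC
  have hD : IsClosed (C' ∩ {x : Fin k.dim → ℝ | ∀ i, 0 ≤ x i}) :=
    hC'.inter (isClosed_orthant _)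
  have hemb : Topology.IsClosedEmbedding (realLin φ) :=
    LinearMap.isClosedEmbedding_of_injective
      (LinearMap.ker_eq_bot'.mpr (fun v hv => realMap_injective φ v hv))
  have himg : IsClosed ((realLin φ) '' (C' ∩ {x : Fin k.dim → ℝ | ∀ i, 0 ≤ x i})) :=
    hemb.isClosedMap _ hD
  refine (inducing_val n).isClosed_iff.mpr ⟨_, himg, ?_⟩
  ext v
  constructor
  · rintro ⟨x, ⟨hxC, hx0⟩, hxv⟩
    have hxv' : φ.realMap x = v.1 := hxv
    have hxne : x ≠ 0 := by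
      intro h0
      apply v.2.2
      rw [← hxv', h0]
      exact map_zero (realLin φ)
    refine ⟨⟨x, hx0, hxne⟩, ?_, Subtype.ext hxv'⟩
    rw [← hCC']
    exact hxC
  · rintro ⟨z, hz, rfl⟩
    refine ⟨z.1, ⟨?_, z.2.1⟩, rfl⟩
    rw [← hCC'] at hz
    exact hz

/-- positive rescaling in the orthant -/
def smulOrth {n : ICone} (c : ℝ) (hc : 0 < c) (v : Fan.Orth n) : Fan.Orth n :=
  ⟨c • v.1, fun i => by
      rw [Pi.smul_apply, smul_eq_mul]
      exact mul_nonneg hc.le (v.2.1 i),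
    fun h => v.2.2 ((smul_eq_zero.mp h).resolve_left hc.ne')⟩

theorem smulOrth_val {n : ICone} (c : ℝ) (hc : 0 < c) (v : Fan.Orth n) :
    (smulOrth c hc v).1 = c • v.1 := rfl

theorem mk_smulOrth {F : Fan.{u}} {n : ICone} (ξ : F.obj (op n)) (c : ℝ) (hc : 0 < c)
    (v : Fan.Orth n) : Fan.P.mk ξ (smulOrth c hc v) = Fan.P.mk ξ v :=
  (P_mk_smul ξ v (smulOrth c hc v) c hc rfl).symm

/-! ### S19366 -/

theorem image_closed (F : Fan.{u}) (hF : F.IsQuasiSeparated) (n : ICone) (ξ : F.obj (op n))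
    (S : Set (Fan.Orth n)) (hS : IsClosed S)
    (hinv : ∀ v w : Fan.Orth n, v ∈ S → ∀ c : ℝ, 0 < c → w.1 = c • v.1 → w ∈ S) :
    IsClosed (Fan.P.mk ξ '' S) := by
  classical
  rw [isClosed_iff]
  intro n' ξ'
  obtain ⟨s, _, hs2⟩ := main373 F hF ξ ξ'
  have hset : Fan.P.mk ξ' ⁻¹' (Fan.P.mk ξ '' S) =
      ⋃ e ∈ s, orthMap e.2.2 '' (orthMap e.2.1 ⁻¹' S) := by
    ext w
    constructor
    · rintro ⟨v, hvS, hvw⟩
      obtain ⟨e, he, y, c, c', hc, hc', hv, hw⟩ := (hs2 v w).mp hvw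
      refine Set.mem_iUnion₂.mpr ⟨e, he, smulOrth c' hc' y, ?_, Subtype.ext ?_⟩
      · refine hinv v _ hvS (c' / c) (div_pos hc' hc) ?_
        show e.2.1.realMap (c' • y.1) = (c' / c) • v.1
        rw [hv, realMap_smul, smul_smul, div_mul_cancel₀ _ hc.ne']
      · show e.2.2.realMap (c' • y.1) = w.1
        rw [hw, realMap_smul]
    · intro hw
      obtain ⟨e, he, y, hyS, rfl⟩ := Set.mem_iUnion₂.mp hw
      refine ⟨orthMap e.2.1 y, hyS, ?_⟩
      refine (hs2 _ _).mpr ⟨e, he, y, 1, 1, one_pos, one_pos, ?_, ?_⟩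
      · rw [one_smul]; rfl
      · rw [one_smul]; rfl
  rw [hset]
  refine isClosed_biUnion_finset (fun e _ => ?_)
  exact isClosed_image_orthMap e.2.2 _ (hS.preimage (continuous_orthMap e.2.1))

theorem main366 (F : Fan.{u}) (hF : F.IsQuasiSeparated) :
    (∀ (n : ICone) (ξ : F.obj (op n)) (S : Set (Fan.Orth n)), IsClosed S →
      (∀ v w : Fan.Orth n, v ∈ S → ∀ c : ℝ, 0 < c → w.1 = c • v.1 → w ∈ S) →
        IsClosed (Fan.P.mk ξ '' S)) ∧
    ∀ S : Set (Fan.P F), IsClosed S ↔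
      ∀ (n : ICone) (ξ : F.obj (op n)), IsClosed (S ∩ Fan.P.cell ξ) := by
  refine ⟨fun n ξ S hS hinv => image_closed F hF n ξ S hS hinv,
    fun S => ⟨fun hS n ξ => ?_, fun h => ?_⟩⟩
  · have hcell : IsClosed (Fan.P.cell ξ) := by
      have h1 := image_closed F hF n ξ Set.univ isClosed_univ
        (fun _ _ _ _ _ _ => Set.mem_univ _)
      rw [Set.image_univ] at h1
      exact h1
    exact hS.inter hcell
  · rw [isClosed_iff]
    intro n ξ
    have h1 : Fan.P.mk ξ ⁻¹' S = Fan.P.mk ξ ⁻¹' (S ∩ Fan.P.cell ξ) := by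
      ext v
      constructor
      · intro hv
        exact ⟨hv, v, rfl⟩
      · intro hv
        exact hv.1
    rw [h1]
    exact (h n ξ).preimage (continuous_mk ξ)

/-! ### bounded maps: S19363 -/

section bounded
variable {F G : Fan.{u}} (ψ : F ⟶ G) {n : ICone} (ξ : G.obj (op n))

/-- first projection of a cone of the fibre product -/
noncomputable def aOf (e : Σ k : ICone, (Limits.pullback ψ (Fan.coneMap ξ)).obj (op k)) :
    F.obj (op e.1) :=
  (Limits.pullback.fst ψ (Fan.coneMap ξ)).app (op e.1) e.2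

/-- second projection of a cone of the fibre product -/
noncomputable def phiOf (e : Σ k : ICone, (Limits.pullback ψ (Fan.coneMap ξ)).obj (op k)) :
    e.1 ⟶ n :=
  ((Limits.pullback.snd ψ (Fan.coneMap ξ)).app (op e.1) e.2).down

theorem psi_aOf (e : Σ k : ICone, (Limits.pullback ψ (Fan.coneMap ξ)).obj (op k)) :
    ψ.app (op e.1) (aOf ψ ξ e) = G.map (phiOf ψ ξ e).op ξ :=
  pb_condition ψ (Fan.coneMap ξ) e.2

theorem lemmaL (s₀ : Finset (Σ k : ICone, (Limits.pullback ψ (Fan.coneMap ξ)).obj (op k)))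
    (hs₀ : ∀ x : Fan.P (Limits.pullback ψ (Fan.coneMap ξ)), ∃ e ∈ s₀, x ∈ Fan.P.cell e.2)
    (x : Fan.P F) (v : Fan.Orth n) :
    Fan.P.map ψ x = Fan.P.mk ξ v ↔
      ∃ e ∈ s₀, ∃ z : Fan.Orth e.1, x = Fan.P.mk (aOf ψ ξ e) z ∧
        ∃ c : ℝ, 0 < c ∧ v.1 = c • (phiOf ψ ξ e).realMap z.1 := by
  constructor
  · intro h
    have e1 : (Fan.coneMap ξ).app (op n) (ULift.up (𝟙 n)) = ξ := by
      rw [coneMap_app]
      exact map_id_op G ξ
    have hx : Fan.P.map ψ x = Fan.P.map (Fan.coneMap ξ)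
        (Fan.P.mk (F := uliftYoneda.{u}.obj n) (ULift.up (𝟙 n)) v) := by
      rw [P_map_mk, e1]
      exact h
    obtain ⟨y, hy1, hy2⟩ := main360 ψ (Fan.coneMap ξ) _ _ hx
    obtain ⟨e, he, hye⟩ := hs₀ y
    obtain ⟨z, rfl⟩ := hye
    rw [P_map_mk] at hy1 hy2
    obtain ⟨c, hc, hv⟩ := rep_eq n (phiOf ψ ξ e) z v hy2
    exact ⟨e, he, z, hy1.symm, c, hc, hv⟩
  · rintro ⟨e, he, z, rfl, c, hc, hv⟩
    rw [P_map_mk, psi_aOf]
    exact mk_glue G (phiOf ψ ξ e) ξ z v c hc hv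

end bounded

theorem main363 {F G : Fan.{u}} (ψ : F ⟶ G) (hψ : Fan.IsBoundedMap ψ) :
    IsClosedMap (Fan.P.map ψ) ∧ (∀ y : Fan.P G, (Fan.P.map ψ ⁻¹' {y}).Finite) ∧
    ∀ (n : ICone) (ξ : G.obj (op n)), ∃ s : Finset (Σ k : ICone, k ⟶ n),
      {v : Fan.Orth n | Fan.P.mk ξ v ∈ Set.range (Fan.P.map ψ)} =
        ⋃ e ∈ s, {v : Fan.Orth n | ∃ (y : Fan.Orth e.1) (c : ℝ),
          0 < c ∧ v.1 = c • e.2.realMap y.1} := by
  classical
  refine ⟨?_, ?_, ?_⟩
  · intro C hC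
    rw [isClosed_iff]
    intro n ξ
    obtain ⟨s₀, hs₀⟩ := hψ n ξ
    have hset : Fan.P.mk ξ ⁻¹' (Fan.P.map ψ '' C) =
        ⋃ e ∈ s₀, orthMap (phiOf ψ ξ e) '' (Fan.P.mk (aOf ψ ξ e) ⁻¹' C) := by
      ext v
      constructor
      · rintro ⟨x, hxC, hxv⟩
        obtain ⟨e, he, z, rfl, c, hc, hv⟩ := (lemmaL ψ ξ s₀ hs₀ x v).mp hxv
        refine Set.mem_iUnion₂.mpr ⟨e, he, smulOrth c hc z, ?_, Subtype.ext ?_⟩
        · show Fan.P.mk (aOf ψ ξ e) (smulOrth c hc z) ∈ C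
          rw [mk_smulOrth]
          exact hxC
        · show (phiOf ψ ξ e).realMap (c • z.1) = v.1
          rw [hv, realMap_smul]
      · intro hv
        obtain ⟨e, he, z, hzC, rfl⟩ := Set.mem_iUnion₂.mp hv
        refine ⟨Fan.P.mk (aOf ψ ξ e) z, hzC, ?_⟩
        exact (lemmaL ψ ξ s₀ hs₀ _ _).mpr
          ⟨e, he, z, rfl, 1, one_pos, by rw [one_smul]; rfl⟩
    rw [hset]
    refine isClosed_biUnion_finset (fun e _ => ?_)
    exact isClosed_image_orthMap _ _ (hC.preimage (continuous_mk _))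
  · intro y
    obtain ⟨n, ξ, v, rfl⟩ := P_exists_rep y
    obtain ⟨s₀, hs₀⟩ := hψ n ξ
    have hsub : Fan.P.map ψ ⁻¹' {Fan.P.mk ξ v} ⊆
        ⋃ e ∈ (↑s₀ : Set (Σ k : ICone, (Limits.pullback ψ (Fan.coneMap ξ)).obj (op k))),
          {x : Fan.P F | ∃ z : Fan.Orth e.1, x = Fan.P.mk (aOf ψ ξ e) z ∧
            ∃ c : ℝ, 0 < c ∧ v.1 = c • (phiOf ψ ξ e).realMap z.1} := by
      intro x hx
      obtain ⟨e, he, hz⟩ := (lemmaL ψ ξ s₀ hs₀ x v).mp hx
      exact Set.mem_biUnion (Finset.mem_coe.mpr he) hz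
    refine Set.Finite.subset (Set.Finite.biUnion s₀.finite_toSet (fun e _ => ?_)) hsub
    refine Set.Subsingleton.finite ?_
    rintro x ⟨z, rfl, c, hc, hv⟩ x' ⟨z', rfl, c', hc', hv'⟩
    have h2 : c • z.1 = c' • z'.1 :=
      realMap_inj (phiOf ψ ξ e) _ _ (by rw [realMap_smul, realMap_smul, ← hv, ← hv'])
    have h3 : z'.1 = (c / c') • z.1 := by
      rw [div_eq_inv_mul, ← smul_smul, h2, smul_smul, inv_mul_cancel₀ hc'.ne', one_smul]
    exact P_mk_smul _ z z' (c / c') (div_pos hc hc') h3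
  · intro n ξ
    obtain ⟨s₀, hs₀⟩ := hψ n ξ
    refine ⟨s₀.image (fun e => (⟨e.1, phiOf ψ ξ e⟩ : Σ k : ICone, k ⟶ n)), ?_⟩
    ext v
    constructor
    · rintro ⟨x, hx⟩
      obtain ⟨e, he, z, _, c, hc, hv⟩ := (lemmaL ψ ξ s₀ hs₀ x v).mp hx
      exact Set.mem_iUnion₂.mpr
        ⟨⟨e.1, phiOf ψ ξ e⟩, Finset.mem_image_of_mem _ he, z, c, hc, hv⟩
    · intro hv
      obtain ⟨e', he', z, c, hc, hv⟩ := Set.mem_iUnion₂.mp hv
      obtain ⟨e, he, rfl⟩ := Finset.mem_image.mp he'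
      exact ⟨Fan.P.mk (aOf ψ ξ e) z,
        (lemmaL ψ ξ s₀ hs₀ _ _).mpr ⟨e, he, z, rfl, c, hc, hv⟩⟩

theorem main365 {F G : Fan.{u}} (ψ : F ⟶ G) (hψ : Fan.IsBoundedMap ψ)
    (hinj : ∀ n : ICone, Function.Injective (ψ.app (op n))) :
    Topology.IsClosedEmbedding (Fan.P.map ψ) :=
  Topology.IsClosedEmbedding.of_continuous_injective_isClosedMap (continuous_map ψ)
    ((main358 ψ).1 hinj) (main363 ψ hψ).1

/-! ### rational points and density -/

theorem fin_one_eq (i : Fin Fan.one.dim) : i = ⟨0, Fan.one.dim.pos⟩ := by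
  have h : i.val < 1 := i.2
  exact Fin.ext (by show i.val = 0; omega)

theorem sum_fin_one {M : Type*} [AddCommMonoid M] (f : Fin Fan.one.dim → M) :
    ∑ i, f i = f ⟨0, Fan.one.dim.pos⟩ := by
  rw [Finset.sum_eq_single (⟨0, Fan.one.dim.pos⟩ : Fin Fan.one.dim)]
  · intro i _ hi
    exact absurd (fin_one_eq i) hi
  · intro h
    exact absurd (Finset.mem_univ _) h

/-- the lattice map of a ray -/
def rayLin {n : ICone} (g : Fin n.dim → ℤ) : (Fin Fan.one.dim → ℤ) →ₗ[ℤ] (Fin n.dim → ℤ) where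
  toFun t := fun j => t ⟨0, Fan.one.dim.pos⟩ * g j
  map_add' s t := by
    funext j
    simp only [Pi.add_apply, add_mul]
  map_smul' c t := by
    funext j
    simp only [Pi.smul_apply, smul_eq_mul, RingHom.id_apply, mul_assoc]

/-- the ray morphism of a nonzero nonnegative lattice vector -/
def rayHom {n : ICone} (g : Fin n.dim → ℤ) (hg : ∀ i, 0 ≤ g i) (hne : g ≠ 0) : Fan.one ⟶ n :=
  (ICone.Hom.mk (rayLin g)
    (by
      intro s t hst
      obtain ⟨j, hj⟩ : ∃ j, g j ≠ 0 := by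
        by_contra hcon
        push Not at hcon
        exact hne (funext hcon)
      have h1 : s ⟨0, Fan.one.dim.pos⟩ * g j = t ⟨0, Fan.one.dim.pos⟩ * g j := congrFun hst j
      have h2 := mul_right_cancel₀ hj h1
      funext i
      rw [fin_one_eq i]
      exact h2)
    (fun v hv j => by
      show 0 ≤ v ⟨0, Fan.one.dim.pos⟩ * g j
      exact mul_nonneg (hv _) (hg j)) : ICone.Hom Fan.one n)

theorem rayHom_realMap {n : ICone} (g : Fin n.dim → ℤ) (hg : ∀ i, 0 ≤ g i) (hne : g ≠ 0)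
    (y : Fin Fan.one.dim → ℝ) (j : Fin n.dim) :
    (rayHom g hg hne).realMap y j = (g j : ℝ) * y ⟨0, Fan.one.dim.pos⟩ := by
  rw [realMap_apply, sum_fin_one]
  show (((Pi.single (⟨0, Fan.one.dim.pos⟩ : Fin Fan.one.dim) (1 : ℤ) : Fin Fan.one.dim → ℤ)
    ⟨0, Fan.one.dim.pos⟩ * g j : ℤ) : ℝ) * y ⟨0, Fan.one.dim.pos⟩ = _
  rw [Pi.single_eq_same, one_mul]

theorem isRational_of_int {G : Fan.{u}} {n : ICone} (ξ : G.obj (op n)) (w : Fan.Orth n)
    (g : Fin n.dim → ℤ) (c : ℝ) (hc : 0 < c) (hw : ∀ j, w.1 j = c * (g j : ℝ)) :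
    (Fan.P.mk ξ w).IsRational := by
  have hg : ∀ i, 0 ≤ g i := by
    intro i
    have h1 : 0 ≤ w.1 i := w.2.1 i
    rw [hw i] at h1
    have h2 : (0 : ℝ) ≤ (g i : ℝ) := by
      by_contra hneg
      push Not at hneg
      have := mul_neg_of_pos_of_neg hc hneg
      linarith
    exact_mod_cast h2
  have hne : g ≠ 0 := by
    intro h0
    apply w.2.2
    funext j
    rw [hw j, h0]
    simp
  refine ⟨G.map (rayHom g hg hne).op ξ, ?_⟩
  refine (mk_glue G (rayHom g hg hne) ξ (Fan.Orth.ones Fan.one) w c hc ?_).symm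
  funext j
  rw [Pi.smul_apply, smul_eq_mul, rayHom_realMap, hw j]
  show c * (g j : ℝ) = c * ((g j : ℝ) * 1)
  rw [mul_one]

theorem exists_int_seq {m : ℕ} (v : Fin m → ℝ) (hv : ∀ i, 0 ≤ v i) (hne : v ≠ 0) :
    ∃ (w : ℕ → Fin m → ℝ), (∀ N i, 0 ≤ w N i) ∧ (∀ N, w N ≠ 0) ∧
      (∀ N, ∃ (g : Fin m → ℤ) (c : ℝ), 0 < c ∧ ∀ j, w N j = c * (g j : ℝ)) ∧
      Filter.Tendsto w Filter.atTop (nhds v) := by
  have hN : ∀ N : ℕ, (0 : ℝ) < (N : ℝ) + 1 := fun N => by positivity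
  refine ⟨fun N i => ((⌈((N : ℝ) + 1) * v i⌉ : ℤ) : ℝ) / ((N : ℝ) + 1), ?_, ?_, ?_, ?_⟩
  · intro N i
    have h1 : (0 : ℝ) ≤ ((⌈((N : ℝ) + 1) * v i⌉ : ℤ) : ℝ) := by
      exact_mod_cast Int.ceil_nonneg (mul_nonneg (hN N).le (hv i))
    exact div_nonneg h1 (hN N).le
  · intro N h0
    obtain ⟨i, hi⟩ : ∃ i, v i ≠ 0 := by
      by_contra hcon
      push Not at hcon
      exact hne (funext hcon)
    have hpos : 0 < v i := lt_of_le_of_ne (hv i) (Ne.symm hi)
    have h2 : (0 : ℝ) < ((⌈((N : ℝ) + 1) * v i⌉ : ℤ) : ℝ) := by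
      exact_mod_cast Int.ceil_pos.mpr (mul_pos (hN N) hpos)
    have h1 : ((⌈((N : ℝ) + 1) * v i⌉ : ℤ) : ℝ) / ((N : ℝ) + 1) = 0 := congrFun h0 i
    have h3 := div_pos h2 (hN N)
    linarith
  · intro N
    refine ⟨fun j => ⌈((N : ℝ) + 1) * v j⌉, 1 / ((N : ℝ) + 1), by positivity, fun j => ?_⟩
    show ((⌈((N : ℝ) + 1) * v j⌉ : ℤ) : ℝ) / ((N : ℝ) + 1) =
      1 / ((N : ℝ) + 1) * ((⌈((N : ℝ) + 1) * v j⌉ : ℤ) : ℝ)
    ring
  · refine tendsto_pi_nhds.mpr (fun i => ?_)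
    have hlow : ∀ N : ℕ, v i ≤ ((⌈((N : ℝ) + 1) * v i⌉ : ℤ) : ℝ) / ((N : ℝ) + 1) := by
      intro N
      rw [le_div_iff₀ (hN N)]
      have := Int.le_ceil (((N : ℝ) + 1) * v i)
      linarith
    have hup : ∀ N : ℕ, ((⌈((N : ℝ) + 1) * v i⌉ : ℤ) : ℝ) / ((N : ℝ) + 1) ≤
        v i + 1 / ((N : ℝ) + 1) := by
      intro N
      rw [div_le_iff₀ (hN N)]
      have h1 := Int.ceil_lt_add_one (((N : ℝ) + 1) * v i)
      have h2 : (v i + 1 / ((N : ℝ) + 1)) * ((N : ℝ) + 1) = v i * ((N : ℝ) + 1) + 1 := by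
        rw [add_mul, one_div, inv_mul_cancel₀ (hN N).ne']
      rw [h2]
      linarith
    have hlim : Filter.Tendsto (fun N : ℕ => v i + 1 / ((N : ℝ) + 1)) Filter.atTop
        (nhds (v i)) := by
      have := (tendsto_const_nhds (x := v i) (f := Filter.atTop (α := ℕ))).add
        (tendsto_one_div_add_atTop_nhds_zero_nat (𝕜 := ℝ))
      simpa using this
    exact tendsto_of_tendsto_of_tendsto_of_le_of_le tendsto_const_nhds hlim hlow hup

/-- a point of the orthant from its data -/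
def mkOrth {n : ICone} (x : Fin n.dim → ℝ) (h0 : ∀ i, 0 ≤ x i) (hne : x ≠ 0) : Fan.Orth n :=
  ⟨x, h0, hne⟩

theorem mem_of_closed_of_int {n : ICone} (T : Set (Fan.Orth n)) (hT : IsClosed T)
    (hint : ∀ (w : Fan.Orth n) (g : Fin n.dim → ℤ) (c : ℝ), 0 < c →
      (∀ j, w.1 j = c * (g j : ℝ)) → w ∈ T)
    (v : Fan.Orth n) : v ∈ T := by
  obtain ⟨w, hw0, hwne, hwint, hwlim⟩ := exists_int_seq v.1 v.2.1 v.2.2
  have hwT : ∀ N, mkOrth (w N) (hw0 N) (hwne N) ∈ T := by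
    intro N
    obtain ⟨g, c, hc, hgc⟩ := hwint N
    exact hint (mkOrth (w N) (hw0 N) (hwne N)) g c hc hgc
  have hlim : Filter.Tendsto (fun N => mkOrth (w N) (hw0 N) (hwne N)) Filter.atTop
      (nhds v) := by
    refine (inducing_val n).tendsto_nhds_iff.mpr ?_
    exact hwlim
  exact hT.mem_of_tendsto hlim (Filter.Eventually.of_forall hwT)

theorem main364 {F G : Fan.{u}} (ψ : F ⟶ G) (hψ : Fan.IsBoundedMap ψ) :
    Function.Surjective (Fan.P.map ψ) ↔
      ∀ y : Fan.P G, y.IsRational → y ∈ Set.range (Fan.P.map ψ) := by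
  constructor
  · intro h y _
    exact h y
  · intro h y
    obtain ⟨n, ξ, v, rfl⟩ := P_exists_rep y
    have hclosed : IsClosed (Set.range (Fan.P.map ψ)) := by
      have h1 := (main363 ψ hψ).1 Set.univ isClosed_univ
      rw [Set.image_univ] at h1
      exact h1
    have hT : IsClosed (Fan.P.mk ξ ⁻¹' Set.range (Fan.P.map ψ)) :=
      hclosed.preimage (continuous_mk ξ)
    exact mem_of_closed_of_int _ hT
      (fun w g c hc hw => h _ (isRational_of_int ξ w g c hc hw)) v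

/-! ### S19367 -/

theorem isClosed_eqLocus (F : Fan.{u}) (hF : F.IsQuasiSeparated) {k : ICone}
    (a b : F.obj (op k)) :
    IsClosed {y : Fan.Orth k | Fan.P.mk a y = Fan.P.mk b y} := by
  classical
  obtain ⟨s, _, hs⟩ := main373 F hF a b
  have hset : {y : Fan.Orth k | Fan.P.mk a y = Fan.P.mk b y} =
      ⋃ e ∈ s, orthMap e.2.1 '' {z : Fan.Orth e.1 |
        ‖e.2.2.realMap z.1‖ • e.2.1.realMap z.1 = ‖e.2.1.realMap z.1‖ • e.2.2.realMap z.1} := by
    ext y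
    constructor
    · intro hy
      obtain ⟨e, he, z, c, c', hc, hc', hy1, hy2⟩ := (hs y y).mp hy
      refine Set.mem_iUnion₂.mpr ⟨e, he, smulOrth c hc z, ?_, Subtype.ext ?_⟩
      · show ‖e.2.2.realMap (c • z.1)‖ • e.2.1.realMap (c • z.1) =
          ‖e.2.1.realMap (c • z.1)‖ • e.2.2.realMap (c • z.1)
        have hα : e.2.1.realMap (c • z.1) = y.1 := by rw [realMap_smul, ← hy1]
        have hβ : e.2.2.realMap (c • z.1) = (c / c') • y.1 := by
          rw [realMap_smul, hy2, smul_smul, div_mul_cancel₀ _ hc'.ne']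
        rw [hα, hβ, norm_smul, Real.norm_of_nonneg (div_pos hc hc').le, smul_smul, mul_comm]
      · show e.2.1.realMap (c • z.1) = y.1
        rw [realMap_smul, ← hy1]
    · intro hy
      obtain ⟨e, he, z, hz, rfl⟩ := Set.mem_iUnion₂.mp hy
      have hz' : ‖e.2.2.realMap z.1‖ • e.2.1.realMap z.1 =
          ‖e.2.1.realMap z.1‖ • e.2.2.realMap z.1 := hz
      have hαne : e.2.1.realMap z.1 ≠ 0 := realMap_ne_zero e.2.1 z.1 z.2.1 z.2.2
      have hβne : e.2.2.realMap z.1 ≠ 0 := realMap_ne_zero e.2.2 z.1 z.2.1 z.2.2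
      have hαpos : 0 < ‖e.2.1.realMap z.1‖ := norm_pos_iff.mpr hαne
      have hβpos : 0 < ‖e.2.2.realMap z.1‖ := norm_pos_iff.mpr hβne
      refine (hs _ _).mpr ⟨e, he, z, 1, ‖e.2.1.realMap z.1‖ / ‖e.2.2.realMap z.1‖, one_pos,
        div_pos hαpos hβpos, ?_, ?_⟩
      · rw [one_smul]; rfl
      · show e.2.1.realMap z.1 =
          (‖e.2.1.realMap z.1‖ / ‖e.2.2.realMap z.1‖) • e.2.2.realMap z.1
        rw [div_eq_inv_mul, ← smul_smul, ← hz', smul_smul, inv_mul_cancel₀ hβpos.ne', one_smul]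
  rw [hset]
  refine isClosed_biUnion_finset (fun e _ => ?_)
  refine isClosed_image_orthMap e.2.1 _ ?_
  have cα : Continuous fun z : Fan.Orth e.1 => e.2.1.realMap z.1 :=
    (continuous_realMap e.2.1).comp (inducing_val _).continuous
  have cβ : Continuous fun z : Fan.Orth e.1 => e.2.2.realMap z.1 :=
    (continuous_realMap e.2.2).comp (inducing_val _).continuous
  exact isClosed_eq ((continuous_norm.comp cβ).smul cα) ((continuous_norm.comp cα).smul cβ)

theorem main367 {F G : Fan.{u}} (ψ : F ⟶ G) (hF : F.IsQuasiSeparated) :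
    Function.Injective (Fan.P.map ψ) ↔
      ∀ x y : Fan.P F, x.IsRational → y.IsRational →
        Fan.P.map ψ x = Fan.P.map ψ y → x = y := by
  constructor
  · intro h x y _ _ hxy
    exact h hxy
  · intro h x x' hxx'
    obtain ⟨n, σ, v, rfl⟩ := P_exists_rep x
    obtain ⟨n', σ', v', rfl⟩ := P_exists_rep x'
    rw [P_map_mk, P_map_mk] at hxx'
    obtain ⟨k, φ₁, φ₂, y₀, c₁, c₂, hG, hc₁, hc₂, h₁, h₂⟩ := key G _ _ v v' hxx'
    have hab : ψ.app (op k) (F.map φ₁.op σ) = ψ.app (op k) (F.map φ₂.op σ') := by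
      rw [NatTrans.naturality_apply ψ φ₁.op σ, NatTrans.naturality_apply ψ φ₂.op σ']
      exact hG
    rw [← mk_glue F φ₁ σ y₀ v c₁ hc₁ h₁, ← mk_glue F φ₂ σ' y₀ v' c₂ hc₂ h₂]
    have hE := isClosed_eqLocus F hF (F.map φ₁.op σ) (F.map φ₂.op σ')
    refine mem_of_closed_of_int _ hE (fun w g c hc hw => ?_) y₀
    show Fan.P.mk (F.map φ₁.op σ) w = Fan.P.mk (F.map φ₂.op σ') w
    apply h _ _ (isRational_of_int _ w g c hc hw) (isRational_of_int _ w g c hc hw)
    rw [P_map_mk, P_map_mk, hab]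

end Groth.Agent.Lib.Helper29.FanTop
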