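import Mathlib
import Groth.Prelude.Def_W4c6instabfans3FanCvx
import Groth.Agent.Lib.Helper29.FanTop

set_option autoImplicit false
universe u v
open CategoryTheory Opposite Instab
open Instab Instab.Fan

namespace Groth.Agent.Lib.Helper29.FanQC

open Groth.Agent.Lib.Helper29 Groth.Agent.Lib.Helper29.FanKey Groth.Agent.Lib.Helper29.FanMaps
open Groth.Agent.Lib.Helper29.FanTop

theorem basis_val (n : ICone) (i j : Fin n.dim) :
    (Fan.Orth.basis n i).1 j = if j = i then (1 : ℝ) else 0 := rfl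

theorem basis_not_mul (n : ICone) (i0 i1 : Fin n.dim) (hi : i0 ≠ i1) :
    ¬ ∃ c : ℝ, (Fan.Orth.basis n i1).1 = c • (Fan.Orth.basis n i0).1 := by
  rintro ⟨c, hc⟩
  have h1 := congrFun hc i1
  rw [Pi.smul_apply, smul_eq_mul, basis_val, basis_val, if_pos rfl, if_neg (Ne.symm hi),
    mul_zero] at h1
  exact one_ne_zero h1

/-- the point `e_{i0} + t e_{i1}` of the orthant -/
def segPt (n : ICone) (i0 i1 : Fin n.dim) (t : ℝ) (ht : 0 ≤ t) : Fan.Orth n :=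
  ⟨fun j => (Fan.Orth.basis n i0).1 j + t * (Fan.Orth.basis n i1).1 j,
    fun j => add_nonneg ((Fan.Orth.basis n i0).2.1 j)
      (mul_nonneg ht ((Fan.Orth.basis n i1).2.1 j)),
    fun h => by
      have h2 : (Fan.Orth.basis n i0).1 i0 = 1 := by rw [basis_val, if_pos rfl]
      have h3 : 0 ≤ t * (Fan.Orth.basis n i1).1 i0 :=
        mul_nonneg ht ((Fan.Orth.basis n i1).2.1 i0)
      have h4 : (Fan.Orth.basis n i0).1 i0 + t * (Fan.Orth.basis n i1).1 i0 = 0 :=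
        congrFun h i0
      linarith⟩

theorem segPt_val (n : ICone) (i0 i1 : Fin n.dim) (t : ℝ) (ht : 0 ≤ t) :
    (segPt n i0 i1 t ht).1 =
      (1 : ℝ) • (Fan.Orth.basis n i0).1 + t • (Fan.Orth.basis n i1).1 := by
  funext j
  show (Fan.Orth.basis n i0).1 j + t * (Fan.Orth.basis n i1).1 j =
    1 * (Fan.Orth.basis n i0).1 j + t * (Fan.Orth.basis n i1).1 j
  rw [one_mul]

theorem inv_nonneg' (N : ℕ) : (0 : ℝ) ≤ 1 / ((N : ℝ) + 1) := by positivity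

theorem inv_pos' (N : ℕ) : (0 : ℝ) < 1 / ((N : ℝ) + 1) := by positivity

theorem segPt_tendsto (n : ICone) (i0 i1 : Fin n.dim) :
    Filter.Tendsto (fun N : ℕ => segPt n i0 i1 (1 / ((N : ℝ) + 1)) (inv_nonneg' N))
      Filter.atTop (nhds (Fan.Orth.basis n i0)) := by
  refine (inducing_val n).tendsto_nhds_iff.mpr ?_
  refine tendsto_pi_nhds.mpr (fun j => ?_)
  show Filter.Tendsto (fun N : ℕ => (Fan.Orth.basis n i0).1 j +
    1 / ((N : ℝ) + 1) * (Fan.Orth.basis n i1).1 j) Filter.atTop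
    (nhds ((Fan.Orth.basis n i0).1 j))
  have h := (tendsto_const_nhds (x := (Fan.Orth.basis n i0).1 j)
    (f := Filter.atTop (α := ℕ))).add
    ((tendsto_one_div_add_atTop_nhds_zero_nat (𝕜 := ℝ)).mul_const
      ((Fan.Orth.basis n i1).1 j))
  simpa using h

section core
variable {F : Fan.{u}} (U : Set (Fan.P F)) {Γ : Type v} [LinearOrder Γ] (Φ : U → Γ)

theorem not_localMax_of_lt (hΦ : Fan.IsQuasiConcaveOn U Φ) (τ : F.obj (op Fan.two))
    (hτ : Fan.P.cell τ ⊆ U) (i0 i1 : Fin Fan.two.dim) (x y : U)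
    (hx : Fan.P.mk τ (Fan.Orth.basis Fan.two i0) = x.1)
    (hy : Fan.P.mk τ (Fan.Orth.basis Fan.two i1) = y.1) (hi : i0 ≠ i1) (hlt : Φ x < Φ y) :
    ¬ IsLocalMax Φ x := by
  intro hmax
  have hmem : ∀ w : Fan.Orth Fan.two, Fan.P.mk τ w ∈ U := fun w => hτ ⟨w, rfl⟩
  have hgt : ∀ N : ℕ, Φ x <
      Φ ⟨Fan.P.mk τ (segPt Fan.two i0 i1 (1 / ((N : ℝ) + 1)) (inv_nonneg' N)), hmem _⟩ := by
    intro N
    have hq := hΦ Fan.two τ (Fan.Orth.basis Fan.two i0)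
      (segPt Fan.two i0 i1 (1 / ((N : ℝ) + 1)) (inv_nonneg' N))
      (Fan.Orth.basis Fan.two i1) (hmem _) (hmem _) (hmem _)
      (basis_not_mul Fan.two i0 i1 hi)
      ⟨1, 1 / ((N : ℝ) + 1), one_pos, inv_pos' N, segPt_val Fan.two i0 i1 _ _⟩
    have ex : (⟨Fan.P.mk τ (Fan.Orth.basis Fan.two i0), hmem _⟩ : U) = x := Subtype.ext hx
    have ey : (⟨Fan.P.mk τ (Fan.Orth.basis Fan.two i1), hmem _⟩ : U) = y := Subtype.ext hy
    rw [ex, ey, min_eq_left hlt.le] at hq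
    rcases lt_or_eq_of_le hq.1 with h | h
    · exact h
    · exact absurd (hq.2 h.symm) hlt.ne
  have hlim : Filter.Tendsto (fun N : ℕ =>
      (⟨Fan.P.mk τ (segPt Fan.two i0 i1 (1 / ((N : ℝ) + 1)) (inv_nonneg' N)), hmem _⟩ : U))
      Filter.atTop (nhds x) := by
    refine tendsto_subtype_rng.mpr ?_
    show Filter.Tendsto (fun N : ℕ =>
      Fan.P.mk τ (segPt Fan.two i0 i1 (1 / ((N : ℝ) + 1)) (inv_nonneg' N)))
      Filter.atTop (nhds x.1)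
    rw [← hx]
    exact ((continuous_mk τ).tendsto _).comp (segPt_tendsto Fan.two i0 i1)
  obtain ⟨N, hN⟩ := (hlim.eventually hmax).exists
  exact absurd (hgt N) (not_lt.mpr hN)

theorem strict_mid (hΦ : Fan.IsStrictQuasiConcaveOn U Φ) (τ : F.obj (op Fan.two))
    (hτ : Fan.P.cell τ ⊆ U) (i0 i1 : Fin Fan.two.dim) (x y : U)
    (hx : Fan.P.mk τ (Fan.Orth.basis Fan.two i0) = x.1)
    (hy : Fan.P.mk τ (Fan.Orth.basis Fan.two i1) = y.1) (hi : i0 ≠ i1) :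
    ∃ p : U, min (Φ x) (Φ y) < Φ p := by
  have hmem : ∀ w : Fan.Orth Fan.two, Fan.P.mk τ w ∈ U := fun w => hτ ⟨w, rfl⟩
  have hq := hΦ Fan.two τ (Fan.Orth.basis Fan.two i0)
    (segPt Fan.two i0 i1 1 zero_le_one)
    (Fan.Orth.basis Fan.two i1) (hmem _) (hmem _) (hmem _)
    (basis_not_mul Fan.two i0 i1 hi)
    ⟨1, 1, one_pos, one_pos, segPt_val Fan.two i0 i1 _ _⟩
  have ex : (⟨Fan.P.mk τ (Fan.Orth.basis Fan.two i0), hmem _⟩ : U) = x := Subtype.ext hx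
  have ey : (⟨Fan.P.mk τ (Fan.Orth.basis Fan.two i1), hmem _⟩ : U) = y := Subtype.ext hy
  rw [ex, ey] at hq
  exact ⟨_, hq⟩

end core

theorem main370 (F : Fan.{u}) (U : Set (Fan.P F))
    (hU : Fan.IsConvex U) {Γ : Type v} [LinearOrder Γ] (Φ : U → Γ)
    (hΦ : Fan.IsQuasiConcaveOn U Φ)
    (hlsc : ∀ c : Γ, IsClosed {x : U | Φ x ≤ c}) :
    (∀ x : U, (x : Fan.P F).IsRational → IsLocalMax Φ x → ∀ y : U, Φ y ≤ Φ x) ∧
    (Fan.IsStrictQuasiConcaveOn U Φ → ∀ x y : U, (x : Fan.P F).IsRational →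
      (y : Fan.P F).IsRational → IsLocalMax Φ x → IsLocalMax Φ y → x = y) := by
  have part1 : ∀ x : U, (x : Fan.P F).IsRational → IsLocalMax Φ x → ∀ y : U, Φ y ≤ Φ x := by
    intro x hxr hmax y
    by_contra hlt
    push Not at hlt
    obtain ⟨S, hS⟩ := hU.2.1
    have hyU : (y : Fan.P F) ∈ Set.range (Fan.P.map S.ι) := by
      rw [← hS]
      exact y.2
    obtain ⟨n, σ, v, hσ, hyv⟩ := (mem_range_ι_iff S _).mp hyU
    have hmem : ∀ w : Fan.Orth n, Fan.P.mk σ w ∈ U := by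
      intro w
      rw [hS]
      exact (mem_range_ι_iff S _).mpr ⟨n, σ, w, hσ, rfl⟩
    have hcont : Continuous (fun w : Fan.Orth n => (⟨Fan.P.mk σ w, hmem w⟩ : U)) :=
      (continuous_mk σ).subtype_mk hmem
    have hT : IsClosed ((fun w : Fan.Orth n => (⟨Fan.P.mk σ w, hmem w⟩ : U)) ⁻¹'
        {z : U | Φ z ≤ Φ x}) := (hlsc (Φ x)).preimage hcont
    have hvT : v ∉ (fun w : Fan.Orth n => (⟨Fan.P.mk σ w, hmem w⟩ : U)) ⁻¹'
        {z : U | Φ z ≤ Φ x} := by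
      intro hv
      have hv' : Φ ⟨Fan.P.mk σ v, hmem v⟩ ≤ Φ x := hv
      have e : (⟨Fan.P.mk σ v, hmem v⟩ : U) = y := Subtype.ext hyv.symm
      rw [e] at hv'
      exact absurd hlt (not_lt.mpr hv')
    obtain ⟨w, g, c, hc, hwg, hwT⟩ : ∃ (w : Fan.Orth n) (g : Fin n.dim → ℤ) (c : ℝ), 0 < c ∧
        (∀ j, w.1 j = c * (g j : ℝ)) ∧
        w ∉ (fun w : Fan.Orth n => (⟨Fan.P.mk σ w, hmem w⟩ : U)) ⁻¹'
          {z : U | Φ z ≤ Φ x} := by
      by_contra hcon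
      push Not at hcon
      exact hvT (mem_of_closed_of_int _ hT hcon v)
    have hlt' : Φ x < Φ ⟨Fan.P.mk σ w, hmem w⟩ := not_le.mp hwT
    have hyr : (Fan.P.mk σ w).IsRational := isRational_of_int σ w g c hc hwg
    have hne : (x : Fan.P F) ≠ Fan.P.mk σ w := by
      intro heq
      have e : x = (⟨Fan.P.mk σ w, hmem w⟩ : U) := Subtype.ext heq
      rw [← e] at hlt'
      exact lt_irrefl _ hlt'
    obtain ⟨τ, hτ, hτx, hτy⟩ := hU.2.2 x.1 (Fan.P.mk σ w) x.2 (hmem w) hxr hyr hne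
    have hidx : ∀ (i0 i1 : Fin Fan.two.dim),
        Fan.P.mk τ (Fan.Orth.basis Fan.two i0) = x.1 →
        Fan.P.mk τ (Fan.Orth.basis Fan.two i1) = Fan.P.mk σ w → i0 ≠ i1 := by
      intro i0 i1 h0 h1 h01
      apply hne
      rw [← h0, ← h1, h01]
    exact not_localMax_of_lt U Φ hΦ τ hτ _ _ x ⟨Fan.P.mk σ w, hmem w⟩ hτx hτy
      (hidx _ _ hτx hτy) hlt' hmax
  refine ⟨part1, fun hstrict x y hxr hyr hmx hmy => ?_⟩
  by_contra hne
  have hxy : Φ y ≤ Φ x := part1 x hxr hmx y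
  have hyx : Φ x ≤ Φ y := part1 y hyr hmy x
  have heq : Φ x = Φ y := le_antisymm hyx hxy
  have hne' : (x : Fan.P F) ≠ y := fun h => hne (Subtype.ext h)
  obtain ⟨τ, hτ, hτx, hτy⟩ := hU.2.2 x.1 y.1 x.2 y.2 hxr hyr hne'
  have hidx : ∀ (i0 i1 : Fin Fan.two.dim),
      Fan.P.mk τ (Fan.Orth.basis Fan.two i0) = x.1 →
      Fan.P.mk τ (Fan.Orth.basis Fan.two i1) = y.1 → i0 ≠ i1 := by
    intro i0 i1 h0 h1 h01
    apply hne'
    rw [← h0, ← h1, h01]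
  obtain ⟨p, hp⟩ := strict_mid U Φ hstrict τ hτ _ _ x y hτx hτy (hidx _ _ hτx hτy)
  rw [← heq, min_self] at hp
  exact absurd hp (not_lt.mpr (part1 x hxr hmx p))

end Groth.Agent.Lib.Helper29.FanQC
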