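import Mathlib
import Groth.Prelude.Def_W4c6instabfans3FanCvx
import Groth.Agent.Lib.Helper29.FanTop

set_option autoImplicit false
universe u
open CategoryTheory Opposite Instab
open Instab Instab.Fan

namespace Groth.Agent.Lib.Helper29.FanRays

open Groth.Agent.Lib.Helper29 Groth.Agent.Lib.Helper29.FanKey Groth.Agent.Lib.Helper29.FanMaps
open Groth.Agent.Lib.Helper29.FanTop Groth.Agent.Lib.Helper29.FanCone

/-! ### real extension of an integer linear map -/

/-- the real extension of an integer matrix -/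
def rext {a b : ℕ} (L : (Fin a → ℤ) →ₗ[ℤ] (Fin b → ℤ)) (v : Fin a → ℝ) : Fin b → ℝ :=
  fun j => ∑ i, (L (Pi.single i 1) j : ℝ) * v i

theorem rext_apply {a b : ℕ} (L : (Fin a → ℤ) →ₗ[ℤ] (Fin b → ℤ)) (v : Fin a → ℝ) (j : Fin b) :
    rext L v j = ∑ i, (L (Pi.single i 1) j : ℝ) * v i := rfl

theorem rext_smul {a b : ℕ} (L : (Fin a → ℤ) →ₗ[ℤ] (Fin b → ℤ)) (c : ℝ) (v : Fin a → ℝ) :
    rext L (c • v) = c • rext L v := by
  funext j
  simp only [rext_apply, Pi.smul_apply, smul_eq_mul, Finset.mul_sum]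
  exact Finset.sum_congr rfl (fun i _ => by ring)

theorem rext_add {a b : ℕ} (L : (Fin a → ℤ) →ₗ[ℤ] (Fin b → ℤ)) (v w : Fin a → ℝ) :
    rext L (v + w) = rext L v + rext L w := by
  funext j
  simp only [rext_apply, Pi.add_apply, mul_add, Finset.sum_add_distrib]

theorem rext_zero {a b : ℕ} (L : (Fin a → ℤ) →ₗ[ℤ] (Fin b → ℤ)) : rext L 0 = 0 := by
  funext j
  simp only [rext_apply, Pi.zero_apply, mul_zero, Finset.sum_const_zero]

/-- the real extension as a linear map -/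
def rextLin {a b : ℕ} (L : (Fin a → ℤ) →ₗ[ℤ] (Fin b → ℤ)) : (Fin a → ℝ) →ₗ[ℝ] (Fin b → ℝ) where
  toFun := rext L
  map_add' := rext_add L
  map_smul' c v := by
    rw [RingHom.id_apply]
    exact rext_smul L c v

theorem rext_comp {a b c : ℕ} (L : (Fin b → ℤ) →ₗ[ℤ] (Fin c → ℤ))
    (L' : (Fin a → ℤ) →ₗ[ℤ] (Fin b → ℤ)) (z : Fin a → ℝ) :
    rext (L.comp L') z = rext L (rext L' z) := by
  funext j
  show ∑ l, ((L (L' (Pi.single l 1)) j : ℤ) : ℝ) * z l =
    ∑ i, (L (Pi.single i 1) j : ℝ) * (∑ l, (L' (Pi.single l 1) i : ℝ) * z l)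
  have h : ∀ l, ((L (L' (Pi.single l 1)) j : ℤ) : ℝ) =
      ∑ i, (L (Pi.single i 1) j : ℝ) * (L' (Pi.single l 1) i : ℝ) := by
    intro l
    rw [lin_expand L, Int.cast_sum]
    refine Finset.sum_congr rfl (fun i _ => ?_)
    rw [Int.cast_mul]
  simp only [h, Finset.sum_mul, Finset.mul_sum]
  rw [Finset.sum_comm]
  refine Finset.sum_congr rfl (fun i _ => Finset.sum_congr rfl (fun l _ => by ring))

theorem rext_intCast {a b : ℕ} (L : (Fin a → ℤ) →ₗ[ℤ] (Fin b → ℤ)) (u : Fin a → ℤ) :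
    rext L (fun i => (u i : ℝ)) = fun j => ((L u j : ℤ) : ℝ) := by
  funext j
  rw [rext_apply, lin_expand L u j, Int.cast_sum]
  exact Finset.sum_congr rfl (fun i _ => (Int.cast_mul _ _).symm)

theorem rext_injective {a b : ℕ} (L : (Fin a → ℤ) →ₗ[ℤ] (Fin b → ℤ))
    (hL : Function.Injective L) (v : Fin a → ℝ) (h : rext L v = 0) : v = 0 := by
  by_contra hne
  obtain ⟨i₀, hi₀⟩ : ∃ i, v i ≠ 0 := by
    by_contra hcon
    push Not at hcon
    exact hne (funext hcon)
  obtain ⟨l, hl⟩ := exists_functional (v i₀) hi₀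
  obtain ⟨D, g, hD, hg⟩ := exists_int_of_rat (fun i => l (v i))
  have hDq : (D : ℚ) ≠ 0 := by exact_mod_cast hD.ne'
  have hlmul : ∀ (M : ℤ) (x : ℝ), l ((M : ℝ) * x) = (M : ℚ) * l x := by
    intro M x
    have e1 : (M : ℝ) * x = M • x := (zsmul_eq_mul x M).symm
    have e2 : (M : ℚ) * l x = M • l x := (zsmul_eq_mul (l x) M).symm
    rw [e1, e2, map_zsmul]
  have hker : ∀ j, ∑ i, ((L (Pi.single i 1) j : ℤ) : ℚ) * l (v i) = 0 := by
    intro j
    have h1 : rext L v j = 0 := congrFun h j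
    rw [rext_apply] at h1
    have h2 := congrArg l h1
    rw [map_sum, map_zero] at h2
    rw [← h2]
    exact Finset.sum_congr rfl (fun i _ => (hlmul _ _).symm)
  have hg0 : L g = 0 := by
    funext j
    rw [lin_expand L g j]
    show ∑ i, L (Pi.single i 1) j * g i = 0
    have h1 : ((∑ i, L (Pi.single i 1) j * g i : ℤ) : ℚ) = 0 := by
      rw [Int.cast_sum]
      have e : ∀ i, ((L (Pi.single i 1) j * g i : ℤ) : ℚ) =
          (((L (Pi.single i 1) j : ℤ) : ℚ) * l (v i)) * D := by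
        intro i
        rw [Int.cast_mul, hg i]
        ring
      rw [Finset.sum_congr rfl (fun i _ => e i), ← Finset.sum_mul, hker j, zero_mul]
    exact_mod_cast h1
  have hgz : g = 0 := hL (by rw [hg0, map_zero])
  have h3 : (g i₀ : ℚ) = l (v i₀) * D := hg i₀
  rw [hgz, hl, one_mul] at h3
  have h4 : (D : ℚ) = 0 := by
    rw [← h3]
    simp
  exact hDq h4

theorem continuous_rext {a b : ℕ} (L : (Fin a → ℤ) →ₗ[ℤ] (Fin b → ℤ)) :
    Continuous (rext L) := by
  refine continuous_pi (fun j => ?_)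
  show Continuous fun v : Fin a → ℝ => ∑ i, (L (Pi.single i 1) j : ℝ) * v i
  exact continuous_finsetSum _ (fun i _ => continuous_const.mul (continuous_apply i))

theorem rext_isClosedEmbedding {a b : ℕ} (L : (Fin a → ℤ) →ₗ[ℤ] (Fin b → ℤ))
    (hL : Function.Injective L) : Topology.IsClosedEmbedding (rext L) :=
  LinearMap.isClosedEmbedding_of_injective (f := rextLin L)
    (LinearMap.ker_eq_bot'.mpr (fun v hv => rext_injective L hL v hv))

/-! ### common refinement for general lattice maps -/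

/-- the constraint matrix -/
def Rmat' {k k' : ICone} {N : ℕ} (L : (Fin k.dim → ℤ) →ₗ[ℤ] (Fin N → ℤ))
    (L' : (Fin k'.dim → ℤ) →ₗ[ℤ] (Fin N → ℤ)) (j : Fin N) :
    (Fin k.dim ⊕ Fin k'.dim) → ℤ :=
  Sum.elim (fun i => L (Pi.single i 1) j) (fun i' => - L' (Pi.single i' 1) j)

theorem exists_common_refinement' {k k' : ICone} {N : ℕ}
    (L : (Fin k.dim → ℤ) →ₗ[ℤ] (Fin N → ℤ)) (L' : (Fin k'.dim → ℤ) →ₗ[ℤ] (Fin N → ℤ))
    (hL : Function.Injective L) (hL' : Function.Injective L')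
    (y : Fan.Orth k) (y' : Fan.Orth k') (c d : ℝ) (hc : 0 < c) (hd : 0 < d)
    (h : c • rext L y.1 = d • rext L' y'.1) :
    ∃ (M : ICone) (α : M ⟶ k) (β : M ⟶ k') (z : Fan.Orth M) (s t : ℝ),
      L.comp α.toLin = L'.comp β.toLin ∧ 0 < s ∧ 0 < t ∧
      y.1 = s • α.realMap z.1 ∧ y'.1 = t • β.realMap z.1 := by
  classical
  have hp0 : ∀ x, 0 ≤ pvec y.1 y'.1 c d x := by
    rintro (i | i')
    · exact mul_nonneg hc.le (y.2.1 i)
    · exact mul_nonneg hd.le (y'.2.1 i')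
  have hker : ∀ j, ∑ x, (Rmat' L L' j x : ℝ) * pvec y.1 y'.1 c d x = 0 := by
    intro j
    rw [Fintype.sum_sum_type]
    have h1 := congrFun h j
    simp only [Pi.smul_apply, smul_eq_mul, rext_apply, Finset.mul_sum] at h1
    simp only [Rmat', pvec, Sum.elim_inl, Sum.elim_inr, Int.cast_neg, neg_mul,
      Finset.sum_neg_distrib]
    have e1 : ∑ i, (L (Pi.single i 1) j : ℝ) * (c * y.1 i) =
        ∑ i, c * ((L (Pi.single i 1) j : ℝ) * y.1 i) :=
      Finset.sum_congr rfl (fun i _ => by ring)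
    have e2 : ∑ i, (L' (Pi.single i 1) j : ℝ) * (d * y'.1 i) =
        ∑ i, d * ((L' (Pi.single i 1) j : ℝ) * y'.1 i) :=
      Finset.sum_congr rfl (fun i _ => by ring)
    rw [e1, e2, h1]
    ring
  obtain ⟨m, g, z, hgnn, hgker, -, hind, hz, hpz⟩ :=
    exists_decomp (Rmat' L L') (suppCard (pvec y.1 y'.1 c d)) (pvec y.1 y'.1 c d) le_rfl hp0 hker
  have hm : 0 < m := by
    rcases Nat.eq_zero_or_pos m with h0 | h0
    · exfalso
      subst h0
      apply y.2.2
      funext i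
      have h2 := hpz (Sum.inl i)
      rw [Fin.sum_univ_zero] at h2
      have h3 : c * y.1 i = 0 := h2
      rcases mul_eq_zero.mp h3 with h4 | h4
      · exact absurd h4 hc.ne'
      · exact h4
    · exact h0
  have hk : ∀ l j, ∑ i, L (Pi.single i 1) j * g l (Sum.inl i) =
      ∑ i', L' (Pi.single i' 1) j * g l (Sum.inr i') := by
    intro l j
    have h1 := hgker l j
    rw [Fintype.sum_sum_type] at h1
    simp only [Rmat', Sum.elim_inl, Sum.elim_inr, neg_mul, Finset.sum_neg_distrib] at h1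
    linarith
  have hcomm : ∀ t : Fin m → ℤ, L (linOf (fun l i => g l (Sum.inl i)) t) =
      L' (linOf (fun l i' => g l (Sum.inr i')) t) := by
    intro t
    funext j
    rw [lin_expand L, lin_expand L']
    simp only [linOf_apply, Finset.mul_sum]
    rw [Finset.sum_comm]
    conv_rhs => rw [Finset.sum_comm]
    refine Finset.sum_congr rfl (fun l _ => ?_)
    have h1 := hk l j
    calc ∑ i, L (Pi.single i 1) j * (t l * g l (Sum.inl i))
        = t l * ∑ i, L (Pi.single i 1) j * g l (Sum.inl i) := by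
          rw [Finset.mul_sum]
          exact Finset.sum_congr rfl (fun i _ => by ring)
      _ = t l * ∑ i', L' (Pi.single i' 1) j * g l (Sum.inr i') := by rw [h1]
      _ = ∑ i', L' (Pi.single i' 1) j * (t l * g l (Sum.inr i')) := by
          rw [Finset.mul_sum]
          exact Finset.sum_congr rfl (fun i _ => by ring)
  have hzero : ∀ t : Fin m → ℤ, (linOf (fun l i => g l (Sum.inl i)) t = 0 ∨
      linOf (fun l i' => g l (Sum.inr i')) t = 0) → t = 0 := by
    intro t ht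
    have hboth : linOf (fun l i => g l (Sum.inl i)) t = 0 ∧
        linOf (fun l i' => g l (Sum.inr i')) t = 0 := by
      rcases ht with h1 | h1
      · refine ⟨h1, hL' ?_⟩
        rw [← hcomm t, h1, map_zero, map_zero]
      · refine ⟨hL ?_, h1⟩
        rw [hcomm t, h1, map_zero, map_zero]
    apply hind t
    rintro (i | i')
    · exact congrFun hboth.1 i
    · exact congrFun hboth.2 i'
  have hαinj : Function.Injective (linOf (fun l i => g l (Sum.inl i))) :=
    (injective_iff_map_eq_zero _).mpr (fun t ht => hzero t (Or.inl ht))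
  have hβinj : Function.Injective (linOf (fun l i' => g l (Sum.inr i'))) :=
    (injective_iff_map_eq_zero _).mpr (fun t ht => hzero t (Or.inr ht))
  have hzne : z ≠ 0 := by
    intro h0
    have h1 := hz ⟨0, hm⟩
    rw [h0] at h1
    exact lt_irrefl _ h1
  refine ⟨⟨⟨m, hm⟩⟩,
    homOfMatrix hm (fun l i => g l (Sum.inl i)) (fun l i => hgnn l _) hαinj,
    homOfMatrix hm (fun l i' => g l (Sum.inr i')) (fun l i' => hgnn l _) hβinj,
    ⟨z, fun l => (hz l).le, hzne⟩, 1 / c, 1 / d, ?_, by positivity, by positivity, ?_, ?_⟩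
  · show L.comp (linOf (fun l i => g l (Sum.inl i))) =
      L'.comp (linOf (fun l i' => g l (Sum.inr i')))
    exact LinearMap.ext hcomm
  · funext i
    show y.1 i = 1 / c * (homOfMatrix hm (fun l i => g l (Sum.inl i)) (fun l i => hgnn l _)
      hαinj).realMap z i
    rw [homOfMatrix_realMap]
    have h1 : c * y.1 i = ∑ l, z l * (g l (Sum.inl i) : ℝ) := hpz (Sum.inl i)
    have h2 : ∑ l, (g l (Sum.inl i) : ℝ) * z l = c * y.1 i := by
      rw [h1]
      exact Finset.sum_congr rfl (fun l _ => mul_comm _ _)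
    rw [h2, ← mul_assoc, one_div, inv_mul_cancel₀ hc.ne', one_mul]
  · funext i
    show y'.1 i = 1 / d * (homOfMatrix hm (fun l i' => g l (Sum.inr i')) (fun l i' => hgnn l _)
      hβinj).realMap z i
    rw [homOfMatrix_realMap]
    have h1 : d * y'.1 i = ∑ l, z l * (g l (Sum.inr i) : ℝ) := hpz (Sum.inr i)
    have h2 : ∑ l, (g l (Sum.inr i) : ℝ) * z l = d * y'.1 i := by
      rw [h1]
      exact Finset.sum_congr rfl (fun l _ => mul_comm _ _)
    rw [h2, ← mul_assoc, one_div, inv_mul_cancel₀ hd.ne', one_mul]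

/-! ### rays -/

theorem normalize_eq_iff {N : ℕ} (a b : Fin N → ℝ) (ha : a ≠ 0) (hb : b ≠ 0) :
    ‖a‖⁻¹ • a = ‖b‖⁻¹ • b ↔ ∃ c : ℝ, 0 < c ∧ b = c • a := by
  have hna : 0 < ‖a‖ := norm_pos_iff.mpr ha
  have hnb : 0 < ‖b‖ := norm_pos_iff.mpr hb
  constructor
  · intro h
    refine ⟨‖b‖ * ‖a‖⁻¹, mul_pos hnb (inv_pos.mpr hna), ?_⟩
    rw [← smul_smul, h, smul_smul, mul_inv_cancel₀ hnb.ne', one_smul]
  · rintro ⟨c, hc, h⟩
    have e : (c * ‖a‖)⁻¹ * c = ‖a‖⁻¹ := by
      rw [mul_inv, mul_comm c⁻¹, mul_assoc, inv_mul_cancel₀ hc.ne', mul_one]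
    rw [h, norm_smul, Real.norm_of_nonneg hc.le, smul_smul, e]

theorem ray_eq_iff {N : ℕ} (a b : {v : Fin N → ℝ // v ≠ 0}) :
    (Quot.mk _ a : Fan.Rays N) = Quot.mk _ b ↔ ∃ c : ℝ, 0 < c ∧ b.1 = c • a.1 := by
  constructor
  · intro h
    have h1 := Quot.eq.mp h
    have heqv : Equivalence
        (fun v w : {v : Fin N → ℝ // v ≠ 0} => ∃ c : ℝ, 0 < c ∧ w.1 = c • v.1) :=
      ⟨fun v => ⟨1, one_pos, (one_smul _ _).symm⟩,
        fun {v w} ⟨c, hc, h⟩ => ⟨c⁻¹, inv_pos.mpr hc, by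
          rw [h, smul_smul, inv_mul_cancel₀ hc.ne', one_smul]⟩,
        fun {u v w} ⟨c, hc, h⟩ ⟨d, hd, h'⟩ => ⟨d * c, mul_pos hd hc, by
          rw [h', h, smul_smul]⟩⟩
    exact heqv.eqvGen_iff.mp h1
  · intro h
    exact Quot.sound h

/-- the normalized representative of a ray -/
noncomputable def rayNorm {N : ℕ} : Fan.Rays N → (Fin N → ℝ) :=
  Quot.lift (fun w : {v : Fin N → ℝ // v ≠ 0} => ‖w.1‖⁻¹ • w.1) (by
    rintro a b ⟨c, hc, h⟩
    exact (normalize_eq_iff a.1 b.1 a.2 b.2).mpr ⟨c, hc, h⟩)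

theorem continuous_rayNorm {N : ℕ} : Continuous (rayNorm : Fan.Rays N → (Fin N → ℝ)) := by
  refine continuous_quot_lift _ ?_
  have h1 : Continuous fun w : {v : Fin N → ℝ // v ≠ 0} => w.1 := continuous_subtype_val
  have h2 : Continuous fun w : {v : Fin N → ℝ // v ≠ 0} => ‖w.1‖⁻¹ :=
    (continuous_norm.comp h1).inv₀ (fun w => (norm_pos_iff.mpr w.2).ne')
  exact h2.smul h1

theorem rayNorm_injective {N : ℕ} : Function.Injective (rayNorm : Fan.Rays N → (Fin N → ℝ)) := by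
  intro r r' h
  obtain ⟨a, rfl⟩ := Quot.exists_rep r
  obtain ⟨b, rfl⟩ := Quot.exists_rep r'
  have h' : ‖a.1‖⁻¹ • a.1 = ‖b.1‖⁻¹ • b.1 := h
  exact (ray_eq_iff a b).mpr ((normalize_eq_iff a.1 b.1 a.2 b.2).mp h')

theorem t2_rays (N : ℕ) : T2Space (Fan.Rays N) :=
  T2Space.of_injective_continuous rayNorm_injective continuous_rayNorm

/-! ### the map to the space of rays -/

section gmap
variable {N : ℕ} {ι : Type} (K : ι → Set (Fin N → ℝ))

theorem toVec_eq (n : ICone) (φ : RFan.Cone K n) (v : Fin n.dim → ℝ) :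
    RFan.toVec K n φ v = rext φ.1 v := rfl

theorem toVec_ne_zero (n : ICone) (φ : RFan.Cone K n) (v : Fan.Orth n) :
    RFan.toVec K n φ v.1 ≠ 0 :=
  fun h => v.2.2 (rext_injective φ.1 φ.2.1 v.1 h)

theorem map_val {k n : ICone} (ψ : k ⟶ n) (φ : RFan.Cone K n) :
    ((RFan K).map ψ.op φ : RFan.Cone K k).1 = φ.1.comp ψ.toLin := rfl

/-- the ray of a point of the disjoint union -/
def gPt (p : Fan.Pt (RFan K)) : Fan.Rays N :=
  Quot.mk _ ⟨RFan.toVec K p.1.1 p.1.2 p.2.1, toVec_ne_zero K p.1.1 p.1.2 p.2⟩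

/-- the canonical map from the projective realization to the space of rays -/
def gMap : Fan.P (RFan K) → Fan.Rays N :=
  Quot.lift (gPt K) (by
    rintro _ _ ⟨φ, ξ, v, w, c, hc, h⟩
    apply Quot.sound
    refine ⟨c, hc, ?_⟩
    show rext (ξ : RFan.Cone K _).1 w.1 = c • rext ((ξ : RFan.Cone K _).1.comp φ.toLin) v.1
    rw [h, rext_smul, rext_comp]
    rfl)

theorem gMap_mk (n : ICone) (φ : (RFan K).obj (op n)) (v : Fan.Orth n)
    (h : RFan.toVec K n φ v.1 ≠ 0) :
    gMap K (Fan.P.mk φ v) = Quot.mk _ ⟨RFan.toVec K n φ v.1, h⟩ := rfl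

theorem continuous_gMap : Continuous (gMap K) := by
  refine continuous_quot_lift _ ?_
  refine continuous_sigma (fun e => ?_)
  have h1 : Continuous fun v : Fan.Orth e.1 =>
      (⟨RFan.toVec K e.1 e.2 v.1, toVec_ne_zero K e.1 e.2 v⟩ : {w : Fin N → ℝ // w ≠ 0}) :=
    ((continuous_rext (e.2 : RFan.Cone K e.1).1).comp
      (inducing_val e.1).continuous).subtype_mk _
  exact continuous_quot_mk.comp h1

theorem gMap_injective : Function.Injective (gMap K) := by
  intro x x' hxx'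
  obtain ⟨n, φ, v, rfl⟩ := P_exists_rep x
  obtain ⟨n', φ', v', rfl⟩ := P_exists_rep x'
  have h1 : (Quot.mk _ ⟨RFan.toVec K n φ v.1, toVec_ne_zero K n φ v⟩ : Fan.Rays N) =
      Quot.mk _ ⟨RFan.toVec K n' φ' v'.1, toVec_ne_zero K n' φ' v'⟩ := hxx'
  obtain ⟨c, hc, hcv⟩ := (ray_eq_iff _ _).mp h1
  have hcv' : c • rext (φ : RFan.Cone K n).1 v.1 = (1 : ℝ) • rext (φ' : RFan.Cone K n').1 v'.1 := by
    rw [one_smul]
    exact hcv.symm
  obtain ⟨M, α, β, z, s, t, hαβ, hs, ht, hv, hv'⟩ :=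
    exists_common_refinement' (φ : RFan.Cone K n).1 (φ' : RFan.Cone K n').1
      (φ : RFan.Cone K n).2.1 (φ' : RFan.Cone K n').2.1 v v' c 1 hc one_pos hcv'
  have hF : (RFan K).map α.op φ = (RFan K).map β.op φ' := Subtype.ext hαβ
  exact mk_eq_of_common (RFan K) φ φ' v v' α β z s t hF hs ht hv hv'

end gmap

/-! ### Carathéodory for integer families -/

theorem caratheodory {κ : Type*} [Fintype κ] {N : ℕ} (G : κ → Fin N → ℤ) :
    ∀ (n : ℕ) (c : κ → ℝ), suppCard c ≤ n → (∀ i, 0 ≤ c i) →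
    ∃ c' : κ → ℝ, (∀ i, 0 ≤ c' i) ∧ (∀ i, c i = 0 → c' i = 0) ∧
      (∀ j, ∑ i, c' i * (G i j : ℝ) = ∑ i, c i * (G i j : ℝ)) ∧
      (∀ t : κ → ℤ, (∀ i, c' i = 0 → t i = 0) → (∀ j, ∑ i, t i * G i j = 0) → t = 0) := by
  intro n
  induction n with
  | zero =>
    intro c hn hc
    have h0 := eq_zero_of_suppCard_le_zero hn
    refine ⟨c, hc, fun i hi => hi, fun j => rfl, fun t ht _ => ?_⟩
    funext i
    exact ht i (by rw [h0]; rfl)
  | succ n ih =>
    intro c hn hc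
    by_cases hind : ∀ t : κ → ℤ, (∀ i, c i = 0 → t i = 0) →
        (∀ j, ∑ i, t i * G i j = 0) → t = 0
    · exact ⟨c, hc, fun i hi => hi, fun j => rfl, hind⟩
    · push Not at hind
      obtain ⟨t₀, ht₀supp, ht₀ker, ht₀ne⟩ := hind
      obtain ⟨t, htsupp, htker, i0, hi0⟩ : ∃ t : κ → ℤ, (∀ i, c i = 0 → t i = 0) ∧
          (∀ j, ∑ i, t i * G i j = 0) ∧ ∃ i, 0 < t i := by
        obtain ⟨i, hi⟩ : ∃ i, t₀ i ≠ 0 := by
          by_contra hcon
          push Not at hcon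
          exact ht₀ne (funext hcon)
        rcases lt_or_gt_of_ne hi with hneg | hpos
        · refine ⟨fun i => - t₀ i, fun i hi' => ?_, fun j => ?_, i, ?_⟩
          · show - t₀ i = 0
            rw [ht₀supp i hi', neg_zero]
          · show ∑ i, - t₀ i * G i j = 0
            simp only [neg_mul, Finset.sum_neg_distrib, ht₀ker j, neg_zero]
          · show 0 < - t₀ i
            omega
        · exact ⟨t₀, ht₀supp, ht₀ker, i, hpos⟩
      have hwsupp : ∀ i, c i = 0 → ((t i : ℤ) : ℝ) = 0 := fun i hi => by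
        rw [htsupp i hi, Int.cast_zero]
      have hwpos : ∃ i, (0 : ℝ) < ((t i : ℤ) : ℝ) := ⟨i0, by exact_mod_cast hi0⟩
      obtain ⟨τ, i1, hτ, hc1, hw1, hnn, hz1⟩ :=
        subtract c (fun i => ((t i : ℤ) : ℝ)) hc hwsupp hwpos
      have hsub : ∀ i, c i = 0 → c i - τ * ((t i : ℤ) : ℝ) = 0 := by
        intro i hi
        rw [hwsupp i hi, hi]
        ring
      have hcard : suppCard (fun i => c i - τ * ((t i : ℤ) : ℝ)) ≤ n := by
        have := suppCard_lt (p := c) (p' := fun i => c i - τ * ((t i : ℤ) : ℝ)) hsub i1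
          hc1.ne' hz1
        omega
      obtain ⟨c', hc'nn, hc'supp, hc'sum, hc'ind⟩ := ih _ hcard hnn
      refine ⟨c', hc'nn, fun i hi => hc'supp i (hsub i hi), fun j => ?_, hc'ind⟩
      rw [hc'sum j]
      have hq : ∑ i, ((t i : ℤ) : ℝ) * (G i j : ℝ) = 0 := by
        have h3 : ((∑ i, t i * G i j : ℤ) : ℝ) = 0 := by rw [htker j, Int.cast_zero]
        push_cast at h3
        exact h3
      have e : ∑ i, (c i - τ * ((t i : ℤ) : ℝ)) * (G i j : ℝ) =
          ∑ i, c i * (G i j : ℝ) - τ * ∑ i, ((t i : ℤ) : ℝ) * (G i j : ℝ) := by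
        rw [Finset.mul_sum, ← Finset.sum_sub_distrib]
        exact Finset.sum_congr rfl (fun i _ => by ring)
      rw [e, hq, mul_zero, sub_zero]

/-- the sub-family indexed by a finset, enumerated -/
noncomputable def Bof {κ : Type*} {N : ℕ} (G : κ → Fin N → ℤ) (T : Finset κ) :
    Fin T.card → Fin N → ℤ :=
  fun i => G (T.equivFin.symm i).1

theorem sum_reindex {κ : Type*} [Fintype κ] (T : Finset κ) {M : Type*} [AddCommMonoid M]
    (f : κ → M) (hf : ∀ k, k ∉ T → f k = 0) :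
    ∑ k, f k = ∑ i : Fin T.card, f (T.equivFin.symm i).1 := by
  rw [← Finset.sum_subset (Finset.subset_univ T) (fun k _ hk => hf k hk)]
  rw [← Finset.sum_coe_sort T f]
  exact (Equiv.sum_comp T.equivFin.symm (fun k : T => f k.1)).symm

theorem cone_decomp {κ : Type*} [Fintype κ] {N : ℕ} (G : κ → Fin N → ℤ) (c : κ → ℝ)
    (hc : ∀ k, 0 ≤ c k) :
    ∃ T : Finset κ, Function.Injective (linOf (Bof G T)) ∧
      ∃ v : Fin T.card → ℝ, (∀ i, 0 ≤ v i) ∧
        ∀ j, ∑ k, c k * (G k j : ℝ) = rext (linOf (Bof G T)) v j := by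
  classical
  obtain ⟨c', hc'nn, -, hc'sum, hc'ind⟩ := caratheodory G (suppCard c) c le_rfl hc
  obtain ⟨T, hT⟩ : ∃ T : Finset κ, ∀ k, k ∈ T ↔ c' k ≠ 0 :=
    ⟨Finset.univ.filter (fun k => c' k ≠ 0), fun k => by simp⟩
  have hTmem : ∀ k, k ∉ T → c' k = 0 := by
    intro k hk
    by_contra hne
    exact hk ((hT k).mpr hne)
  refine ⟨T, ?_, fun i => c' (T.equivFin.symm i).1, fun i => hc'nn _, fun j => ?_⟩
  · refine (injective_iff_map_eq_zero _).mpr (fun s₁ hs₁ => ?_)
    have ht0 : ∀ k, c' k = 0 →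
        (fun k => if h : k ∈ T then s₁ (T.equivFin ⟨k, h⟩) else 0) k = 0 := by
      intro k hk
      have hnot : k ∉ T := fun hmem => (hT k).mp hmem hk
      exact dif_neg hnot
    have htT : ∀ i : Fin T.card,
        (fun k => if h : k ∈ T then s₁ (T.equivFin ⟨k, h⟩) else 0) (T.equivFin.symm i).1 =
          s₁ i := by
      intro i
      show (if h : (T.equivFin.symm i).1 ∈ T then
        s₁ (T.equivFin ⟨(T.equivFin.symm i).1, h⟩) else 0) = s₁ i
      rw [dif_pos (T.equivFin.symm i).2]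
      exact congrArg s₁ (T.equivFin.apply_symm_apply i)
    have htker : ∀ j, ∑ k,
        (fun k => if h : k ∈ T then s₁ (T.equivFin ⟨k, h⟩) else 0) k * G k j = 0 := by
      intro j
      rw [sum_reindex T (fun k =>
        (fun k => if h : k ∈ T then s₁ (T.equivFin ⟨k, h⟩) else 0) k * G k j) (fun k hk => by
          show (if h : k ∈ T then s₁ (T.equivFin ⟨k, h⟩) else 0) * G k j = 0
          rw [dif_neg hk, zero_mul])]
      have h1 : linOf (Bof G T) s₁ j = 0 := congrFun hs₁ j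
      rw [linOf_apply] at h1
      refine Eq.trans ?_ h1
      exact Finset.sum_congr rfl (fun i _ =>
        congrArg (fun x => x * G (T.equivFin.symm i).1 j) (htT i))
    have ht := hc'ind _ ht0 htker
    funext i
    have h2 := congrFun ht (T.equivFin.symm i).1
    exact (htT i).symm.trans h2
  · rw [← hc'sum j]
    rw [sum_reindex T (fun k => c' k * (G k j : ℝ)) (fun k hk => by
      show c' k * (G k j : ℝ) = 0
      rw [hTmem k hk, zero_mul])]
    rw [rext_apply]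
    refine Finset.sum_congr rfl (fun i _ => ?_)
    rw [linOf_single]
    show c' (T.equivFin.symm i).1 * (G (T.equivFin.symm i).1 j : ℝ) =
      (Bof G T i j : ℝ) * c' (T.equivFin.symm i).1
    exact mul_comm _ _

/-- the real cone spanned by an integer family -/
def coneF {κ : Type*} [Fintype κ] {N : ℕ} (G : κ → Fin N → ℤ) : Set (Fin N → ℝ) :=
  {x | ∃ c : κ → ℝ, (∀ k, 0 ≤ c k) ∧ ∀ j, x j = ∑ k, c k * (G k j : ℝ)}

theorem image_subset_coneF {κ : Type*} [Fintype κ] {N : ℕ} (G : κ → Fin N → ℤ)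
    (T : Finset κ) :
    rext (linOf (Bof G T)) '' {v | ∀ i, 0 ≤ v i} ⊆ coneF G := by
  classical
  rintro x ⟨v, hv, rfl⟩
  refine ⟨fun k => if h : k ∈ T then v (T.equivFin ⟨k, h⟩) else 0, fun k => ?_, fun j => ?_⟩
  · show 0 ≤ (if h : k ∈ T then v (T.equivFin ⟨k, h⟩) else 0)
    split_ifs with h
    · exact hv _
    · exact le_rfl
  · rw [sum_reindex T (fun k =>
      (if h : k ∈ T then v (T.equivFin ⟨k, h⟩) else 0) * (G k j : ℝ)) (fun k hk => by
        show (if h : k ∈ T then v (T.equivFin ⟨k, h⟩) else 0) * (G k j : ℝ) = 0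
        rw [dif_neg hk, zero_mul])]
    rw [rext_apply]
    refine Finset.sum_congr rfl (fun i _ => ?_)
    rw [linOf_single]
    show (Bof G T i j : ℝ) * v i =
      (if h : (T.equivFin.symm i).1 ∈ T then v (T.equivFin ⟨(T.equivFin.symm i).1, h⟩) else 0) *
        (G (T.equivFin.symm i).1 j : ℝ)
    rw [dif_pos (T.equivFin.symm i).2]
    have e : T.equivFin ⟨(T.equivFin.symm i).1, (T.equivFin.symm i).2⟩ = i :=
      T.equivFin.apply_symm_apply i
    rw [e]
    exact mul_comm _ _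

theorem coneF_eq_iUnion {κ : Type*} [Fintype κ] {N : ℕ} (G : κ → Fin N → ℤ) :
    coneF G = ⋃ T : {T : Finset κ // Function.Injective (linOf (Bof G T))},
      rext (linOf (Bof G T.1)) '' {v | ∀ i, 0 ≤ v i} := by
  apply Set.Subset.antisymm
  · rintro x ⟨c, hc, hx⟩
    obtain ⟨T, hinj, v, hv, hsum⟩ := cone_decomp G c hc
    refine Set.mem_iUnion.mpr ⟨⟨T, hinj⟩, v, hv, ?_⟩
    funext j
    exact ((hx j).trans (hsum j)).symm
  · intro x hx
    obtain ⟨T, hT⟩ := Set.mem_iUnion.mp hx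
    exact image_subset_coneF G T.1 hT

theorem isClosed_coneF {κ : Type*} [Fintype κ] {N : ℕ} (G : κ → Fin N → ℤ) :
    IsClosed (coneF G) := by
  rw [coneF_eq_iUnion]
  refine isClosed_iUnion_of_finite (fun T => ?_)
  exact (rext_isClosedEmbedding _ T.2).isClosedMap _ (isClosed_orthant _)

theorem coneF_smul {κ : Type*} [Fintype κ] {N : ℕ} (G : κ → Fin N → ℤ) (x : Fin N → ℝ)
    (hx : x ∈ coneF G) (c : ℝ) (hc : 0 ≤ c) : c • x ∈ coneF G := by
  obtain ⟨c₀, hc₀, hx⟩ := hx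
  refine ⟨fun k => c * c₀ k, fun k => mul_nonneg hc (hc₀ k), fun j => ?_⟩
  rw [Pi.smul_apply, smul_eq_mul, hx j, Finset.mul_sum]
  exact Finset.sum_congr rfl (fun k _ => by ring)

/-- the cone of the statement -/
def coneR {N : ℕ} (s : Finset (Fin N → ℤ)) : Set (Fin N → ℝ) :=
  {x | ∃ c : (Fin N → ℤ) → ℝ, (∀ g, 0 ≤ c g) ∧
    x = Finset.sum s fun g => c g • fun j => (g j : ℝ)}

theorem coneR_eq {N : ℕ} (s : Finset (Fin N → ℤ)) :
    coneR s = coneF (fun k : s => k.1) := by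
  classical
  ext x
  constructor
  · rintro ⟨c, hc, rfl⟩
    refine ⟨fun k => c k.1, fun k => hc _, fun j => ?_⟩
    rw [Finset.sum_apply, ← Finset.sum_coe_sort s (fun g => (c g • fun j => (g j : ℝ)) j)]
    exact Finset.sum_congr rfl (fun k _ => rfl)
  · rintro ⟨c₀, hc₀, hx⟩
    refine ⟨fun g => if h : g ∈ s then c₀ ⟨g, h⟩ else 0, fun g => ?_, ?_⟩
    · show 0 ≤ (if h : g ∈ s then c₀ ⟨g, h⟩ else 0)
      split_ifs with h
      · exact hc₀ _
      · exact le_rfl
    · funext j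
      rw [hx j, Finset.sum_apply, ← Finset.sum_coe_sort s (fun g =>
        ((if h : g ∈ s then c₀ ⟨g, h⟩ else 0) • fun j => (g j : ℝ)) j)]
      refine Finset.sum_congr rfl (fun k _ => ?_)
      show c₀ k * (k.1 j : ℝ) = (if h : k.1 ∈ s then c₀ ⟨k.1, h⟩ else 0) * (k.1 j : ℝ)
      rw [dif_pos k.2]

/-! ### compactness of cells -/

theorem isCompact_cell {F : Fan.{u}} {n : ICone} (ξ : F.obj (op n)) :
    IsCompact (Fan.P.cell ξ) := by
  have hΔ : IsCompact (stdSimplex ℝ (Fin n.dim)) :=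
    isCompact_stdSimplex (𝕜 := ℝ) (ι := Fin n.dim)
  have hsub : stdSimplex ℝ (Fin n.dim) ⊆ Set.range (fun v : Fan.Orth n => v.1) := by
    intro x hx
    have hne : x ≠ 0 := by
      intro h0
      have h1 := hx.2
      rw [h0] at h1
      simp at h1
    exact ⟨⟨x, hx.1, hne⟩, rfl⟩
  have hS : IsCompact ((fun v : Fan.Orth n => v.1) ⁻¹' stdSimplex ℝ (Fin n.dim)) := by
    refine (inducing_val n).isCompact_iff.mpr ?_
    rw [Set.image_preimage_eq_of_subset hsub]
    exact hΔ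
  have hcell : Fan.P.cell ξ =
      Fan.P.mk ξ '' ((fun v : Fan.Orth n => v.1) ⁻¹' stdSimplex ℝ (Fin n.dim)) := by
    apply Set.Subset.antisymm
    · rintro x ⟨v, rfl⟩
      have hpos : 0 < ∑ i, v.1 i := by
        obtain ⟨i, hi⟩ : ∃ i, v.1 i ≠ 0 := by
          by_contra hcon
          push Not at hcon
          exact v.2.2 (funext hcon)
        exact Finset.sum_pos' (fun i _ => v.2.1 i)
          ⟨i, Finset.mem_univ i, lt_of_le_of_ne (v.2.1 i) (Ne.symm hi)⟩
      refine ⟨smulOrth (∑ i, v.1 i)⁻¹ (inv_pos.mpr hpos) v, ⟨?_, ?_⟩, mk_smulOrth ξ _ _ v⟩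
      · intro i
        exact (smulOrth (∑ i, v.1 i)⁻¹ (inv_pos.mpr hpos) v).2.1 i
      · show ∑ i, ((∑ i, v.1 i)⁻¹ • v.1) i = 1
        simp only [Pi.smul_apply, smul_eq_mul]
        rw [← Finset.mul_sum, inv_mul_cancel₀ hpos.ne']
    · rintro x ⟨v, _, rfl⟩
      exact ⟨v, rfl⟩
  rw [hcell]
  exact hS.image (continuous_mk ξ)

/-! ### the fan of a family of polyhedral cones -/

section main
variable {N : ℕ} {ι : Type} [Finite ι] (K : ι → Set (Fin N → ℝ))
  (m : ι → ℕ) (gen : (a : ι) → Fin (m a) → Finset (Fin N → ℤ))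

theorem K_closed (hgen : ∀ a, K a = ⋃ l, coneR (gen a l)) (a : ι) : IsClosed (K a) := by
  rw [hgen a]
  refine isClosed_iUnion_of_finite (fun l => ?_)
  rw [coneR_eq]
  exact isClosed_coneF _

theorem K_smul (hgen : ∀ a, K a = ⋃ l, coneR (gen a l)) (a : ι) (x : Fin N → ℝ)
    (hx : x ∈ K a) (c : ℝ) (hc : 0 ≤ c) : c • x ∈ K a := by
  rw [hgen a] at hx ⊢
  obtain ⟨l, hl⟩ := Set.mem_iUnion.mp hx
  refine Set.mem_iUnion.mpr ⟨l, ?_⟩
  rw [coneR_eq] at hl ⊢
  exact coneF_smul _ x hl c hc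

theorem toVec_mem (hgen : ∀ a, K a = ⋃ l, coneR (gen a l)) (n : ICone) (φ : RFan.Cone K n)
    (v : Fan.Orth n) : RFan.toVec K n φ v.1 ∈ Set.iUnion K := by
  obtain ⟨a, ha⟩ := φ.2.2
  refine Set.mem_iUnion.mpr ⟨a, ?_⟩
  have hT : IsClosed {v : Fan.Orth n | rext φ.1 v.1 ∈ K a} :=
    (K_closed K m gen hgen a).preimage
      ((continuous_rext φ.1).comp (inducing_val n).continuous)
  refine mem_of_closed_of_int _ hT (fun w g c hc hw => ?_) v
  have hg : ∀ i, 0 ≤ g i := by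
    intro i
    have h1 : 0 ≤ w.1 i := w.2.1 i
    rw [hw i] at h1
    have h2 : (0 : ℝ) ≤ (g i : ℝ) := by
      by_contra hneg
      push Not at hneg
      have := mul_neg_of_pos_of_neg hc hneg
      linarith
    exact_mod_cast h2
  have hw' : w.1 = c • fun i => (g i : ℝ) := by
    funext j
    exact hw j
  show rext φ.1 w.1 ∈ K a
  rw [hw', rext_smul, rext_intCast]
  exact K_smul K m gen hgen a _ (ha g hg) c hc.le

/-- the cone of `R(K)` spanned by a sub-family of generators -/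
noncomputable def coneOf (hgen : ∀ a, K a = ⋃ l, coneR (gen a l)) (a : ι) (l : Fin (m a))
    (T : Finset (gen a l)) (hpos : 0 < T.card)
    (hinj : Function.Injective (linOf (Bof (fun k : gen a l => k.1) T))) :
    RFan.Cone K (⟨⟨T.card, hpos⟩⟩ : ICone) :=
  ⟨linOf (Bof (fun k : gen a l => k.1) T), hinj, a, fun u hu => by
    have hmem : rext (linOf (Bof (fun k : gen a l => k.1) T)) (fun i => (u i : ℝ)) ∈ K a := by
      rw [hgen a]
      refine Set.mem_iUnion.mpr ⟨l, ?_⟩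
      rw [coneR_eq]
      refine image_subset_coneF _ T ⟨fun i => (u i : ℝ), fun i => ?_, rfl⟩
      show (0 : ℝ) ≤ (u i : ℝ)
      exact_mod_cast hu i
    rw [rext_intCast] at hmem
    exact hmem⟩

theorem exists_cone_of_mem (hgen : ∀ a, K a = ⋃ l, coneR (gen a l)) (a : ι) (w : Fin N → ℝ)
    (hw : w ∈ K a) (hw0 : w ≠ 0) :
    ∃ (l : Fin (m a)) (T : Finset (gen a l)) (hpos : 0 < T.card)
      (_ : Function.Injective (linOf (Bof (fun k : gen a l => k.1) T)))
      (v : Fan.Orth (⟨⟨T.card, hpos⟩⟩ : ICone)),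
      rext (linOf (Bof (fun k : gen a l => k.1) T)) v.1 = w := by
  rw [hgen a] at hw
  obtain ⟨l, hl⟩ := Set.mem_iUnion.mp hw
  rw [coneR_eq] at hl
  obtain ⟨c, hc, hx⟩ := hl
  obtain ⟨T, hinj, v, hv, hsum⟩ := cone_decomp (fun k : gen a l => k.1) c hc
  have hwv : rext (linOf (Bof (fun k : gen a l => k.1) T)) v = w := by
    funext j
    exact ((hx j).trans (hsum j)).symm
  have hvne : v ≠ 0 := by
    intro h0
    apply hw0
    rw [← hwv, h0]
    exact rext_zero _
  have hpos : 0 < T.card := by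
    rcases Nat.eq_zero_or_pos T.card with h0 | h0
    · exfalso
      apply hvne
      funext i
      exact absurd i.2 (by omega)
    · exact h0
  exact ⟨l, T, hpos, hinj, ⟨v, hv, hvne⟩, hwv⟩

theorem range_gMap (hgen : ∀ a, K a = ⋃ l, coneR (gen a l)) :
    Set.range (gMap K) =
      {r | ∃ w : {w : Fin N → ℝ // w ≠ 0}, r = Quot.mk _ w ∧ w.1 ∈ Set.iUnion K} := by
  ext r
  constructor
  · rintro ⟨x, rfl⟩
    obtain ⟨n, φ, v, rfl⟩ := P_exists_rep x
    exact ⟨⟨RFan.toVec K n φ v.1, toVec_ne_zero K n φ v⟩, rfl, toVec_mem K m gen hgen n φ v⟩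
  · rintro ⟨w, rfl, hw⟩
    obtain ⟨a, ha⟩ := Set.mem_iUnion.mp hw
    obtain ⟨l, T, hpos, hinj, v, hv⟩ := exists_cone_of_mem K m gen hgen a w.1 ha w.2
    refine ⟨Fan.P.mk (F := RFan K) (n := ⟨⟨T.card, hpos⟩⟩)
      (coneOf K m gen hgen a l T hpos hinj) v, ?_⟩
    show (Quot.mk _ ⟨RFan.toVec K _ (coneOf K m gen hgen a l T hpos hinj) v.1,
      toVec_ne_zero K _ _ v⟩ : Fan.Rays N) = Quot.mk _ w
    refine (ray_eq_iff _ _).mpr ⟨1, one_pos, ?_⟩
    rw [one_smul]
    exact hv.symm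

/-- the cells of the finite cover -/
def cellOf (hgen : ∀ a, K a = ⋃ l, coneR (gen a l)) (a : ι) (l : Fin (m a))
    (T : Finset (gen a l)) : Set (Fan.P (RFan K)) :=
  {x | ∃ (hpos : 0 < T.card)
    (hinj : Function.Injective (linOf (Bof (fun k : gen a l => k.1) T))),
    x ∈ Fan.P.cell (F := RFan K) (n := ⟨⟨T.card, hpos⟩⟩)
      (coneOf K m gen hgen a l T hpos hinj)}

theorem isCompact_cellOf (hgen : ∀ a, K a = ⋃ l, coneR (gen a l)) (a : ι) (l : Fin (m a))
    (T : Finset (gen a l)) : IsCompact (cellOf K m gen hgen a l T) := by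
  by_cases h : ∃ (_ : 0 < T.card),
      Function.Injective (linOf (Bof (fun k : gen a l => k.1) T))
  · obtain ⟨hpos, hinj⟩ := h
    have e : cellOf K m gen hgen a l T =
        Fan.P.cell (F := RFan K) (n := ⟨⟨T.card, hpos⟩⟩)
          (coneOf K m gen hgen a l T hpos hinj) := by
      ext x
      constructor
      · rintro ⟨_, _, hx⟩
        exact hx
      · intro hx
        exact ⟨hpos, hinj, hx⟩
    rw [e]
    exact isCompact_cell _
  · have e : cellOf K m gen hgen a l T = ∅ := by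
      ext x
      constructor
      · rintro ⟨hpos, hinj, _⟩
        exact absurd ⟨hpos, hinj⟩ h
      · intro hx
        simp at hx
    rw [e]
    exact isCompact_empty

theorem compactSpace_P (hgen : ∀ a, K a = ⋃ l, coneR (gen a l)) :
    CompactSpace (Fan.P (RFan K)) := by
  refine ⟨?_⟩
  have hcover : (Set.univ : Set (Fan.P (RFan K))) =
      ⋃ (a : ι) (l : Fin (m a)) (T : Finset (gen a l)), cellOf K m gen hgen a l T := by
    apply Set.Subset.antisymm
    · intro x _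
      obtain ⟨n, φ, v, rfl⟩ := P_exists_rep x
      obtain ⟨a, ha⟩ := Set.mem_iUnion.mp (toVec_mem K m gen hgen n φ v)
      obtain ⟨l, T, hpos, hinj, v', hv'⟩ :=
        exists_cone_of_mem K m gen hgen a _ ha (toVec_ne_zero K n φ v)
      refine Set.mem_iUnion.mpr ⟨a, Set.mem_iUnion.mpr ⟨l, Set.mem_iUnion.mpr
        ⟨T, hpos, hinj, v', ?_⟩⟩⟩
      apply gMap_injective K
      show (Quot.mk _ ⟨RFan.toVec K _ (coneOf K m gen hgen a l T hpos hinj) v'.1,
        toVec_ne_zero K _ _ v'⟩ : Fan.Rays N) =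
        Quot.mk _ ⟨RFan.toVec K n φ v.1, toVec_ne_zero K n φ v⟩
      refine (ray_eq_iff _ _).mpr ⟨1, one_pos, ?_⟩
      rw [one_smul]
      exact hv'.symm
    · exact Set.subset_univ _
  rw [hcover]
  exact isCompact_iUnion (fun a => isCompact_iUnion (fun l => isCompact_iUnion (fun T =>
    isCompact_cellOf K m gen hgen a l T)))

end main

theorem main372 {N : ℕ} {ι : Type} [Finite ι] (K : ι → Set (Fin N → ℝ))
    (hK : ∀ a, ∃ (m : ℕ) (gen : Fin m → Finset (Fin N → ℤ)),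
      K a = Set.iUnion fun l => {x | ∃ c : (Fin N → ℤ) → ℝ, (∀ g, 0 ≤ c g) ∧
        x = Finset.sum (gen l) fun g => c g • fun j => (g j : ℝ)}) :
    ∃ g : Fan.P (RFan K) → Fan.Rays N,
      (∀ (n : ICone) (φ : (RFan K).obj (op n)) (v : Fan.Orth n)
        (h : RFan.toVec K n φ v.1 ≠ 0),
        g (Fan.P.mk φ v) = Quot.mk _ ⟨RFan.toVec K n φ v.1, h⟩) ∧
      Topology.IsEmbedding g ∧
      Set.range g =
        {r | ∃ w : {w : Fin N → ℝ // w ≠ 0}, r = Quot.mk _ w ∧ w.1 ∈ Set.iUnion K} := by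
  choose m gen hgen using hK
  have hgen' : ∀ a, K a = ⋃ l, coneR (gen a l) := hgen
  haveI : CompactSpace (Fan.P (RFan K)) := compactSpace_P K m gen hgen'
  haveI : T2Space (Fan.Rays N) := t2_rays N
  exact ⟨gMap K, fun n φ v h => rfl,
    ((continuous_gMap K).isClosedEmbedding (gMap_injective K)).toIsEmbedding,
    range_gMap K m gen hgen'⟩

end Groth.Agent.Lib.Helper29.FanRays
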