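import Mathlib
import Groth.Prelude.Def_W4c6instabfans3FanCvx
import Groth.Agent.Lib.Helper29.FanTop

set_option autoImplicit false
universe u
open CategoryTheory Opposite Instab
open Instab Instab.Fan

namespace Groth.Agent.Lib.Helper29.FanSeq

open Groth.Agent.Lib.Helper29 Groth.Agent.Lib.Helper29.FanKey Groth.Agent.Lib.Helper29.FanMaps
open Groth.Agent.Lib.Helper29.FanTop

instance instFirstCountableOrth (n : ICone) : FirstCountableTopology (Fan.Orth n) :=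
  inferInstanceAs (FirstCountableTopology {v : Fin n.dim → ℝ // (∀ i, 0 ≤ v i) ∧ v ≠ 0})

/-- normalization of a vector of the punctured orthant -/
noncomputable def nz {n : ICone} (z : Fan.Orth n) : Fin n.dim → ℝ := ‖z.1‖⁻¹ • z.1

theorem continuous_nz (n : ICone) : Continuous (nz : Fan.Orth n → Fin n.dim → ℝ) := by
  have h1 : Continuous fun z : Fan.Orth n => z.1 := (inducing_val n).continuous
  have h2 : Continuous fun z : Fan.Orth n => ‖z.1‖⁻¹ :=
    (continuous_norm.comp h1).inv₀ (fun z => (norm_pos_iff.mpr z.2.2).ne')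
  exact h2.smul h1

theorem nz_eq_iff {n : ICone} (z u : Fan.Orth n) :
    nz z = nz u ↔ ∃ c : ℝ, 0 < c ∧ z.1 = c • u.1 := by
  have hz : 0 < ‖z.1‖ := norm_pos_iff.mpr z.2.2
  have hu : 0 < ‖u.1‖ := norm_pos_iff.mpr u.2.2
  constructor
  · intro h
    refine ⟨‖z.1‖ * ‖u.1‖⁻¹, mul_pos hz (inv_pos.mpr hu), ?_⟩
    have h' : ‖z.1‖⁻¹ • z.1 = ‖u.1‖⁻¹ • u.1 := h
    rw [← smul_smul, ← h', smul_smul, mul_inv_cancel₀ hz.ne', one_smul]
  · rintro ⟨c, hc, h⟩
    show ‖z.1‖⁻¹ • z.1 = ‖u.1‖⁻¹ • u.1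
    have e : (c * ‖u.1‖)⁻¹ * c = ‖u.1‖⁻¹ := by
      rw [mul_inv, mul_comm c⁻¹, mul_assoc, inv_mul_cancel₀ hc.ne', mul_one]
    rw [h, norm_smul, Real.norm_of_nonneg hc.le, smul_smul, e]

/-- the cone over a set of the punctured orthant -/
def coneOver {n : ICone} (K : Set (Fan.Orth n)) : Set (Fan.Orth n) :=
  {z | ∃ u ∈ K, ∃ c : ℝ, 0 < c ∧ z.1 = c • u.1}

theorem coneOver_inv {n : ICone} (K : Set (Fan.Orth n)) :
    ∀ v w : Fan.Orth n, v ∈ coneOver K → ∀ c : ℝ, 0 < c → w.1 = c • v.1 → w ∈ coneOver K := by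
  rintro v w ⟨u, hu, c', hc', hv⟩ c hc hw
  exact ⟨u, hu, c * c', mul_pos hc hc', by rw [hw, hv, smul_smul]⟩

theorem cone_closed {n : ICone} (K : Set (Fan.Orth n)) (hK : IsCompact K) :
    IsClosed (coneOver K) := by
  have h1 : IsClosed (nz '' K) := (hK.image (continuous_nz n)).isClosed
  have h2 : coneOver K = nz ⁻¹' (nz '' K) := by
    ext z
    constructor
    · rintro ⟨u, hu, hc⟩
      exact ⟨u, hu, ((nz_eq_iff z u).mpr hc).symm⟩
    · rintro ⟨u, hu, h⟩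
      exact ⟨u, hu, (nz_eq_iff z u).mp h.symm⟩
  rw [h2]
  exact h1.preimage (continuous_nz n)

theorem isClosed_singleton' (F : Fan.{u}) (hF : F.IsQuasiSeparated) (x : Fan.P F) :
    IsClosed ({x} : Set (Fan.P F)) := by
  obtain ⟨n, ξ, v, rfl⟩ := P_exists_rep x
  have hcl := cone_closed ({v} : Set (Fan.Orth n)) isCompact_singleton
  have him := image_closed F hF n ξ _ hcl (coneOver_inv _)
  have hset : Fan.P.mk ξ '' coneOver ({v} : Set (Fan.Orth n)) = {Fan.P.mk ξ v} := by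
    ext y
    constructor
    · rintro ⟨z, ⟨u, hu, c, hc, hz⟩, rfl⟩
      have huv : u = v := hu
      rw [huv] at hz
      exact Set.mem_singleton_iff.mpr (P_mk_smul ξ v z c hc hz).symm
    · intro hy
      rw [Set.mem_singleton_iff.mp hy]
      exact ⟨v, ⟨v, rfl, 1, one_pos, (one_smul _ _).symm⟩, rfl⟩
  rw [← hset]
  exact him

theorem main369 (F : Fan.{u}) (hF : F.IsQuasiSeparated)
    (x : ℕ → Fan.P F) (x₀ : Fan.P F) (hx : Filter.Tendsto x Filter.atTop (nhds x₀)) :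
    ∃ (n : ICone) (σ : F.obj (op n)) (r : ℕ → ℕ) (v : ℕ → Fan.Orth n) (v₀ : Fan.Orth n),
      StrictMono r ∧ (∀ j, Fan.P.mk σ (v j) = x (r j)) ∧ Fan.P.mk σ v₀ = x₀ ∧
        Filter.Tendsto v Filter.atTop (nhds v₀) := by
  by_cases hfreq : ∃ᶠ i in Filter.atTop, x i = x₀
  · obtain ⟨φ, hφ, hφx⟩ := Filter.extraction_of_frequently_atTop hfreq
    obtain ⟨n, ξ, u, hu⟩ := P_exists_rep x₀
    exact ⟨n, ξ, φ, fun _ => u, u, hφ, fun j => by rw [hφx j, hu], hu.symm,
      tendsto_const_nhds⟩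
  · have hev : ∀ᶠ i in Filter.atTop, x i ≠ x₀ := Filter.not_frequently.mp hfreq
    obtain ⟨M, hM⟩ := Filter.eventually_atTop.mp hev
    have hx₀A : x₀ ∉ x '' Set.Ici M := by
      rintro ⟨i, hi, hxi⟩
      exact hM i hi hxi
    have hx₀cl : x₀ ∈ closure (x '' Set.Ici M) := by
      refine mem_closure_of_tendsto hx ?_
      exact Filter.eventually_atTop.mpr ⟨M, fun i hi => ⟨i, hi, rfl⟩⟩
    have hAncl : ¬ IsClosed (x '' Set.Ici M) := fun hcl =>
      hx₀A (by rw [← hcl.closure_eq]; exact hx₀cl)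
    rw [isClosed_iff] at hAncl
    push Not at hAncl
    obtain ⟨n, ξ, hξ⟩ := hAncl
    obtain ⟨w, hwcl, hwA⟩ : ∃ w, w ∈ closure (Fan.P.mk ξ ⁻¹' (x '' Set.Ici M)) ∧
        w ∉ Fan.P.mk ξ ⁻¹' (x '' Set.Ici M) := by
      by_contra hcon
      push Not at hcon
      exact hξ (closure_subset_iff_isClosed.mp hcon)
    obtain ⟨uu, huA, hulim⟩ := mem_closure_iff_seq_limit.mp hwcl
    have hex : ∀ m, ∃ i, M ≤ i ∧ x i = Fan.P.mk ξ (uu m) := fun m => huA m
    choose idx hidxM hidx using hex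
    have hidx_tend : Filter.Tendsto idx Filter.atTop Filter.atTop := by
      refine Filter.tendsto_atTop.mpr (fun B => ?_)
      have hclB : IsClosed (⋃ i ∈ Finset.Ico M B, ({x i} : Set (Fan.P F))) :=
        isClosed_biUnion_finset (fun i _ => isClosed_singleton' F hF (x i))
      have hopen : IsOpen (Fan.P.mk ξ ⁻¹'
          (⋃ i ∈ Finset.Ico M B, ({x i} : Set (Fan.P F))))ᶜ :=
        (hclB.preimage (continuous_mk ξ)).isOpen_compl
      have hwB : w ∈ (Fan.P.mk ξ ⁻¹'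
          (⋃ i ∈ Finset.Ico M B, ({x i} : Set (Fan.P F))))ᶜ := by
        intro hw
        have hw' : Fan.P.mk ξ w ∈ ⋃ i ∈ Finset.Ico M B, ({x i} : Set (Fan.P F)) := hw
        obtain ⟨i, hi, hxi⟩ := Set.mem_iUnion₂.mp hw'
        apply hwA
        exact ⟨i, (Finset.mem_Ico.mp hi).1, (Set.mem_singleton_iff.mp hxi).symm⟩
      filter_upwards [hulim.eventually (hopen.mem_nhds hwB)] with m hm
      by_contra hlt
      push Not at hlt
      apply hm
      show Fan.P.mk ξ (uu m) ∈ ⋃ i ∈ Finset.Ico M B, ({x i} : Set (Fan.P F))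
      refine Set.mem_iUnion₂.mpr ⟨idx m, Finset.mem_Ico.mpr ⟨hidxM m, hlt⟩, ?_⟩
      exact Set.mem_singleton_iff.mpr (hidx m).symm
    obtain ⟨φ, hφ, hφidx⟩ := Filter.strictMono_subseq_of_tendsto_atTop hidx_tend
    have hvlim : Filter.Tendsto (uu ∘ φ) Filter.atTop (nhds w) :=
      hulim.comp hφ.tendsto_atTop
    have hcomp : IsCompact (insert w (Set.range (uu ∘ φ))) := hvlim.isCompact_insert_range
    have hZcl := cone_closed _ hcomp
    have hBcl := image_closed F hF n ξ _ hZcl (coneOver_inv _)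
    have hxr : Filter.Tendsto (x ∘ (idx ∘ φ)) Filter.atTop (nhds x₀) :=
      hx.comp hφidx.tendsto_atTop
    have hx₀B : x₀ ∈ Fan.P.mk ξ '' coneOver (insert w (Set.range (uu ∘ φ))) := by
      refine hBcl.mem_of_tendsto hxr (Filter.Eventually.of_forall (fun j => ?_))
      refine ⟨uu (φ j), ⟨uu (φ j), Set.mem_insert_of_mem _ ⟨j, rfl⟩, 1, one_pos,
        (one_smul _ _).symm⟩, ?_⟩
      exact (hidx (φ j)).symm
    obtain ⟨z, ⟨k, hk, c, hc, hz⟩, hzx⟩ := hx₀B
    have hkx : Fan.P.mk ξ k = x₀ := by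
      rw [← hzx]
      exact P_mk_smul ξ k z c hc hz
    rcases hk with hkw | ⟨j, hj⟩
    · refine ⟨n, ξ, idx ∘ φ, uu ∘ φ, w, hφidx, fun j => (hidx (φ j)).symm, ?_, hvlim⟩
      rw [← hkw]
      exact hkx
    · exfalso
      have h1 : x (idx (φ j)) = x₀ := by
        rw [hidx (φ j), ← hkx, ← hj]
        rfl
      exact hM _ (hidxM (φ j)) h1

end Groth.Agent.Lib.Helper29.FanSeq
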