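import Mathlib
import Groth.Prelude.Def_Pi1
import Groth.Prelude.Def_ega3
import Groth.Agent.Lib.Helper13.ZariskiNormal
import Groth.Agent.Lib.Helper22.NormalSections

/-!
# A surjective morphism of normal integral proper schemes is a fibration iff `K(Y)` is
algebraically closed in `K(X)` (helper29)
-/

set_option autoImplicit false
set_option maxHeartbeats 1600000
set_option linter.style.haveILetI false
set_option linter.unusedSectionVars false
universe u
open CategoryTheory CategoryTheory.Limits AlgebraicGeometry TopologicalSpace Opposite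

namespace Groth.Agent.Lib.Helper29.FibAlgClosed

open Groth.Agent.Lib.Helper13 Groth.Agent.Lib.Helper22

theorem isIntegralElem_of_comp {A B C : Type*} [CommRing A] [CommRing B] [CommRing C]
    (α : A →+* B) (β : B →+* C) (y : C) (h : (β.comp α).IsIntegralElem y) :
    β.IsIntegralElem y := by
  obtain ⟨p, hp, hpy⟩ := h
  exact ⟨p.map α, hp.map α, by rw [Polynomial.eval₂_map]; exact hpy⟩

theorem alg_core {A K L : Type*} [CommRing A] [IsDomain A] [CommRing K] [CommRing L]
    [Algebra A K] [IsFractionRing A K] (φ : K →+* L) (x : L) (hx : φ.IsIntegralElem x) :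
    ∃ m : A, m ≠ 0 ∧ (φ.comp (algebraMap A K)).IsIntegralElem (φ (algebraMap A K m) * x) := by
  letI := φ.toAlgebra
  letI : Algebra A L := (φ.comp (algebraMap A K)).toAlgebra
  haveI : IsScalarTower A K L := IsScalarTower.of_algebraMap_eq (fun _ => rfl)
  have hx' : IsIntegral K x := hx
  obtain ⟨m, hm⟩ :=
    IsIntegral.exists_multiple_integral_of_isLocalization (nonZeroDivisors A) x hx'
  refine ⟨m, nonZeroDivisors.ne_zero m.2, ?_⟩
  have e : m • x = φ (algebraMap A K m) * x := by
    rw [Submonoid.smul_def, Algebra.smul_def]; rfl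
  rw [← e]
  exact hm

theorem forward {X Y : Scheme.{u}} [IsIntegral X] [IsIntegral Y] (hX : Pi1.IsNormalScheme X)
    (f : X ⟶ Y) (h : f.base (genericPoint X) ⤳ genericPoint Y)
    (hfib : ∀ U : Y.Opens, IsIso (f.app U)) (x : X.functionField)
    (hx : (CohIII.stalkToFunctionField f (genericPoint Y) h).IsIntegralElem x) :
    x ∈ (CohIII.stalkToFunctionField f (genericPoint Y) h).range := by
  classical
  obtain ⟨V, hV, hgV, -⟩ := Opens.isBasis_iff_nbhd.mp Y.isBasis_affineOpens
    (show genericPoint Y ∈ (⊤ : Y.Opens) from trivial)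
  have hV : IsAffineOpen V := hV
  haveI : Nonempty V := ⟨⟨genericPoint Y, hgV⟩⟩
  haveI hne : Nonempty (f ⁻¹ᵁ V : X.Opens) := ZariskiNormal.nonempty_preimage f h V
  haveI : IsFractionRing Γ(Y, V) Y.functionField :=
    functionField_isFractionRing_of_isAffineOpen Y V hV
  obtain ⟨m, hm0, hm⟩ := alg_core (A := Γ(Y, V))
    (CohIII.stalkToFunctionField f (genericPoint Y) h) x hx
  obtain ⟨y, hy⟩ : ∃ y : X.functionField, y = (CohIII.stalkToFunctionField f (genericPoint Y) h)
      (algebraMap Γ(Y, V) Y.functionField m) * x := ⟨_, rfl⟩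
  rw [← hy] at hm
  have hmem : ∀ x' ∈ (f ⁻¹ᵁ V : X.Opens),
      y ∈ Set.range (algebraMap (X.presheaf.stalk x') X.functionField) := by
    intro x' hx'
    haveI := (hX x').2
    have hfac : (CohIII.stalkToFunctionField f (genericPoint Y) h).comp
        (algebraMap Γ(Y, V) Y.functionField) =
        (algebraMap (X.presheaf.stalk x') X.functionField).comp
          ((X.presheaf.germ (f ⁻¹ᵁ V) x' hx').hom.comp (f.app V).hom) := by
      ext b
      show (CohIII.stalkToFunctionField f (genericPoint Y) h) (Y.germToFunctionField V b) =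
        algebraMap (X.presheaf.stalk x') X.functionField
          (X.presheaf.germ (f ⁻¹ᵁ V) x' hx' (f.app V b))
      rw [Scheme.algebraMap_germ_eq_germToFunctionField]
      exact (ZariskiNormal.germ_app f h V b).symm
    rw [hfac] at hm
    have h1 : IsIntegral (X.presheaf.stalk x') y := isIntegralElem_of_comp _ _ y hm
    exact IsIntegrallyClosed.isIntegral_iff.mp h1
  obtain ⟨t, ht⟩ := NormalSections.exists_section_of_forall_mem_range (f ⁻¹ᵁ V) y hmem
  haveI := hfib V
  obtain ⟨a', ha'⟩ := (ConcreteCategory.bijective_of_isIso (f.app V)).2 t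
  have hkey : (CohIII.stalkToFunctionField f (genericPoint Y) h)
      (algebraMap Γ(Y, V) Y.functionField m) * x =
      (CohIII.stalkToFunctionField f (genericPoint Y) h)
        (algebraMap Γ(Y, V) Y.functionField a') := by
    rw [← hy, ← ht, ← ha']
    exact ZariskiNormal.germ_app f h V a'
  have hunit : IsUnit (algebraMap Γ(Y, V) Y.functionField m) :=
    IsLocalization.map_units Y.functionField
      (⟨m, mem_nonZeroDivisors_of_ne_zero hm0⟩ : nonZeroDivisors Γ(Y, V))
  obtain ⟨u, hu⟩ := hunit.exists_right_inv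
  refine ⟨u * algebraMap Γ(Y, V) Y.functionField a', ?_⟩
  rw [map_mul, ← hkey, ← mul_assoc, ← map_mul, mul_comm u, hu, map_one, one_mul]

theorem backward {X Y : Scheme.{u}} [IsIntegral X] [IsIntegral Y] (hY : Pi1.IsNormalScheme Y)
    (f : X ⟶ Y) [UniversallyClosed f] (h : f.base (genericPoint X) ⤳ genericPoint Y)
    (hyp : ∀ x : X.functionField,
      (CohIII.stalkToFunctionField f (genericPoint Y) h).IsIntegralElem x →
        x ∈ (CohIII.stalkToFunctionField f (genericPoint Y) h).range) (U : Y.Opens) :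
    IsIso (f.app U) := by
  apply ZariskiNormal.isIso_app f h hY
  rintro x ⟨p, hp0, hpx⟩
  have hq : (p * Polynomial.C p.leadingCoeff⁻¹).Monic := Polynomial.monic_mul_leadingCoeff_inv hp0
  obtain ⟨b, hb⟩ := RingHom.mem_range.mp
    (hyp x ⟨_, hq, by rw [Polynomial.eval₂_mul, hpx, zero_mul]⟩)
  exact ⟨b, hb⟩

theorem main14821 (k : Type u) [Field k]
    (X Y : Scheme.{u}) [X.Over (Spec (CommRingCat.of k))] [Y.Over (Spec (CommRingCat.of k))]
    [IsProper (X ↘ Spec (CommRingCat.of k))] [IsProper (Y ↘ Spec (CommRingCat.of k))] [IsIntegral X] [IsIntegral Y]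
    (hX : Pi1.IsNormalScheme X) (hY : Pi1.IsNormalScheme Y) (f : X ⟶ Y) [Surjective f] (hf : f ≫ (Y ↘ Spec (CommRingCat.of k)) = X ↘ Spec (CommRingCat.of k))
    (h : f.base (genericPoint ↥X) ⤳ genericPoint ↥Y) :
    (∀ U : Y.Opens, IsIso (f.app U)) ↔
      ∀ x : ↑X.functionField, (CohIII.stalkToFunctionField f (genericPoint ↥Y) h).IsIntegralElem x → x ∈ (CohIII.stalkToFunctionField f (genericPoint ↥Y) h).range := by
  have hcomp : IsProper (f ≫ (Y ↘ Spec (CommRingCat.of k))) := by rw [hf]; infer_instance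
  haveI : IsProper f := IsProper.of_comp f (Y ↘ Spec (CommRingCat.of k))
  exact ⟨fun hfib x hx => forward hX f h hfib x hx, fun hyp U => backward hY f h hyp U⟩

end Groth.Agent.Lib.Helper29.FibAlgClosed
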