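import Mathlib
import Groth.Prelude.Def_Pi1
import Groth.Prelude.Def_ega3
import Groth.Agent.Lib.Helper13.ZariskiNormal
import Groth.Agent.Lib.Helper12.SchemeDimFT2

/-!
# A surjective morphism of integral proper schemes of the same dimension onto a normal scheme is a
fibration iff it is birational (helper29)
-/

set_option autoImplicit false
set_option maxHeartbeats 1600000
set_option linter.style.haveILetI false
set_option linter.unusedSectionVars false
universe u
open CategoryTheory CategoryTheory.Limits AlgebraicGeometry TopologicalSpace Opposite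

namespace Groth.Agent.Lib.Helper29.FibBirat

open Groth.Agent.Lib.Helper12 Groth.Agent.Lib.Helper13

attribute [local instance] Curv2.resAlgebra

/-- A non-generic point has residue field of strictly smaller transcendence degree. -/
theorem trdeg_lt_generic (k : Type u) [Field k] (X : Scheme.{u}) [X.Over (Spec (CommRingCat.of k))]
    [LocallyOfFiniteType (X ↘ Spec (CommRingCat.of k))] [IrreducibleSpace X]
    (x : X) (hx : x ≠ genericPoint X) (n m : ℕ)
    (hn : Algebra.trdeg k (X.residueField (genericPoint X)) = n)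
    (hm : Algebra.trdeg k (X.residueField x) = m) : m < n := by
  obtain ⟨U, hU, hxU⟩ := SchemeDimFT.exists_affineOpen_mem X x
  have hsp : genericPoint X ⤳ x := (genericPoint_spec X).specializes trivial
  have hξU : genericPoint X ∈ U := hsp.mem_open U.2 hxU
  obtain ⟨n', hn', hcn⟩ := SchemeDimFT.exists_trdeg_eq_coheight k X U hU (genericPoint X) hξU
  obtain ⟨m', hm', hcm⟩ := SchemeDimFT.exists_trdeg_eq_coheight k X U hU x hxU
  have hnn : n' = n := by exact_mod_cast hn'.symm.trans hn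
  have hmm : m' = m := by exact_mod_cast hm'.symm.trans hm
  subst hnn hmm
  have hlt : hU.primeIdealOf ⟨genericPoint X, hξU⟩ < hU.primeIdealOf ⟨x, hxU⟩ :=
    (SchemeDimFT.primeIdealOf_lt_iff hU ⟨genericPoint X, hξU⟩ ⟨x, hxU⟩).mpr
      ⟨hsp, fun hh => hx hh.symm⟩
  have h1 := Order.coheight_add_one_le hlt
  rw [hcn, hcm] at h1
  have h2 : m' + 1 ≤ n' := by exact_mod_cast h1
  omega

theorem forward (k : Type u) [Field k]
    (X Y : Scheme.{u}) [X.Over (Spec (CommRingCat.of k))] [Y.Over (Spec (CommRingCat.of k))]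
    [IsProper (X ↘ Spec (CommRingCat.of k))] [IsProper (Y ↘ Spec (CommRingCat.of k))] [IsIntegral X] [IsIntegral Y]
    (f : X ⟶ Y) (hf : f ≫ (Y ↘ Spec (CommRingCat.of k)) = X ↘ Spec (CommRingCat.of k))
    (hdim : topologicalKrullDim ↥X = topologicalKrullDim ↥Y)
    (h : f.base (genericPoint ↥X) ⤳ genericPoint ↥Y)
    (hfib : ∀ U : Y.Opens, IsIso (f.app U)) :
    Function.Surjective (CohIII.stalkToFunctionField f (genericPoint ↥Y) h) := by
  classical
  have hcomp : IsProper (f ≫ (Y ↘ Spec (CommRingCat.of k))) := by rw [hf]; infer_instance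
  haveI : IsProper f := IsProper.of_comp f (Y ↘ Spec (CommRingCat.of k))
  -- dimensions
  obtain ⟨nX, hnX⟩ := SchemeDimFT.exists_trdeg_eq k X (genericPoint X)
  obtain ⟨nY, hnY⟩ := SchemeDimFT.exists_trdeg_eq k Y (genericPoint Y)
  have dimX := SchemeDimFT.topologicalKrullDim_eq_of_irreducible k X nX hnX
  have dimY := SchemeDimFT.topologicalKrullDim_eq_of_irreducible k Y nY hnY
  have hnXY : nX = nY := by
    have h0 : ((nX : ℕ) : WithBot ℕ∞) = (nY : ℕ) := by rw [← dimX, ← dimY, hdim]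
    exact_mod_cast h0
  -- affine charts
  obtain ⟨V₀, hV₀, hξV₀, -⟩ := Opens.isBasis_iff_nbhd.mp Y.isBasis_affineOpens
    (show genericPoint Y ∈ (⊤ : Y.Opens) from trivial)
  have hV₀ : IsAffineOpen V₀ := hV₀
  haveI : Nonempty V₀ := ⟨⟨genericPoint Y, hξV₀⟩⟩
  have hξW₀ : genericPoint X ∈ f ⁻¹ᵁ V₀ := ZariskiNormal.genericPoint_mem_preimage f h V₀
  obtain ⟨U, hU, hξU, hUW₀⟩ := Opens.isBasis_iff_nbhd.mp X.isBasis_affineOpens hξW₀
  have hU : IsAffineOpen U := hU
  -- the image of the complement of `U` misses the generic point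
  have hcl : IsClosed (f '' ((U : Set X)ᶜ)) := f.isClosedMap _ U.isOpen.isClosed_compl
  have hnot : genericPoint Y ∉ f '' ((U : Set X)ᶜ) := by
    rintro ⟨t, htT, hft⟩
    have htne : t ≠ genericPoint X := fun hh => htT (hh ▸ hξU)
    obtain ⟨mt, hmt⟩ := SchemeDimFT.exists_trdeg_eq k X t
    have h1 := trdeg_lt_generic k X t htne nX mt hnX hmt
    have h5 := SchemeDimFT.trdeg_le_of_hom k (Y ↘ Spec (CommRingCat.of k))
      (X ↘ Spec (CommRingCat.of k)) f hf t
    rw [hft] at h5
    have h6 : (nY : Cardinal) ≤ (mt : Cardinal) := by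
      rw [← hnY, ← hmt]; exact h5
    have h7 : nY ≤ mt := by exact_mod_cast h6
    omega
  obtain ⟨a, haO, hξa⟩ := hV₀.exists_basicOpen_le
    (V := V₀ ⊓ ⟨(f '' ((U : Set X)ᶜ))ᶜ, hcl.isOpen_compl⟩)
    ⟨genericPoint Y, ⟨hξV₀, hnot⟩⟩ hξV₀
  have hVaff : IsAffineOpen (Y.basicOpen a) := hV₀.basicOpen a
  have hle : f ⁻¹ᵁ (Y.basicOpen a) ≤ U := by
    intro p hp
    by_contra hpU
    exact (haO hp).2 ⟨p, hpU, rfl⟩
  have hWeq : f ⁻¹ᵁ (Y.basicOpen a) =
      X.basicOpen (X.presheaf.map (homOfLE hUW₀).op (f.app V₀ a)) := by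
    rw [Scheme.basicOpen_res, ← Scheme.preimage_basicOpen]
    exact (inf_eq_right.mpr hle).symm
  have hWaff : IsAffineOpen (f ⁻¹ᵁ (Y.basicOpen a)) := by
    rw [hWeq]; exact hU.basicOpen _
  haveI : Nonempty (Y.basicOpen a) := ⟨⟨genericPoint Y, hξa⟩⟩
  haveI : Nonempty (f ⁻¹ᵁ (Y.basicOpen a) : X.Opens) :=
    ZariskiNormal.nonempty_preimage f h (Y.basicOpen a)
  haveI : IsFractionRing Γ(X, f ⁻¹ᵁ (Y.basicOpen a)) X.functionField :=
    functionField_isFractionRing_of_isAffineOpen X _ hWaff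
  haveI : IsFractionRing Γ(Y, Y.basicOpen a) Y.functionField :=
    functionField_isFractionRing_of_isAffineOpen Y _ hVaff
  intro x
  obtain ⟨⟨s, t⟩, hst⟩ := IsLocalization.surj (nonZeroDivisors Γ(X, f ⁻¹ᵁ (Y.basicOpen a))) x
  haveI := hfib (Y.basicOpen a)
  obtain ⟨a₁, ha₁⟩ := (ConcreteCategory.bijective_of_isIso (f.app (Y.basicOpen a))).2 s
  obtain ⟨a₂, ha₂⟩ := (ConcreteCategory.bijective_of_isIso (f.app (Y.basicOpen a))).2 t.1
  have ha₂0 : a₂ ≠ 0 := by
    rintro rfl
    rw [map_zero] at ha₂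
    exact nonZeroDivisors.ne_zero t.2 ha₂.symm
  have e1 : algebraMap Γ(X, f ⁻¹ᵁ (Y.basicOpen a)) X.functionField s =
      (CohIII.stalkToFunctionField f (genericPoint Y) h)
        (algebraMap Γ(Y, Y.basicOpen a) Y.functionField a₁) := by
    rw [← ha₁]; exact ZariskiNormal.germ_app f h (Y.basicOpen a) a₁
  have e2 : algebraMap Γ(X, f ⁻¹ᵁ (Y.basicOpen a)) X.functionField t.1 =
      (CohIII.stalkToFunctionField f (genericPoint Y) h)
        (algebraMap Γ(Y, Y.basicOpen a) Y.functionField a₂) := by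
    rw [← ha₂]; exact ZariskiNormal.germ_app f h (Y.basicOpen a) a₂
  have hunit : IsUnit (algebraMap Γ(Y, Y.basicOpen a) Y.functionField a₂) :=
    IsLocalization.map_units Y.functionField
      (⟨a₂, mem_nonZeroDivisors_of_ne_zero ha₂0⟩ : nonZeroDivisors Γ(Y, Y.basicOpen a))
  obtain ⟨u, hu⟩ := hunit.exists_right_inv
  have hst' : x * (CohIII.stalkToFunctionField f (genericPoint Y) h)
        (algebraMap Γ(Y, Y.basicOpen a) Y.functionField a₂) =
      (CohIII.stalkToFunctionField f (genericPoint Y) h)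
        (algebraMap Γ(Y, Y.basicOpen a) Y.functionField a₁) := by
    rw [← e1, ← e2]; exact hst
  refine ⟨algebraMap Γ(Y, Y.basicOpen a) Y.functionField a₁ * u, ?_⟩
  rw [map_mul, ← hst', mul_assoc, ← map_mul, hu, map_one, mul_one]

theorem main14822 (k : Type u) [Field k]
    (X Y : Scheme.{u}) [X.Over (Spec (CommRingCat.of k))] [Y.Over (Spec (CommRingCat.of k))]
    [IsProper (X ↘ Spec (CommRingCat.of k))] [IsProper (Y ↘ Spec (CommRingCat.of k))] [IsIntegral X] [IsIntegral Y]
    (hY : Pi1.IsNormalScheme Y) (f : X ⟶ Y) [Surjective f] (hf : f ≫ (Y ↘ Spec (CommRingCat.of k)) = X ↘ Spec (CommRingCat.of k))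
    (hdim : topologicalKrullDim ↥X = topologicalKrullDim ↥Y)
    (h : f.base (genericPoint ↥X) ⤳ genericPoint ↥Y) :
    (∀ U : Y.Opens, IsIso (f.app U)) ↔ Function.Bijective (CohIII.stalkToFunctionField f (genericPoint ↥Y) h) := by
  have hcomp : IsProper (f ≫ (Y ↘ Spec (CommRingCat.of k))) := by rw [hf]; infer_instance
  haveI : IsProper f := IsProper.of_comp f (Y ↘ Spec (CommRingCat.of k))
  constructor
  · intro hfib
    exact ⟨RingHom.injective (CohIII.stalkToFunctionField f (genericPoint Y) h :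
        Y.functionField →+* X.functionField), forward k X Y f hf hdim h hfib⟩
  · intro hbij U
    apply ZariskiNormal.isIso_app f h hY
    rintro x -
    exact hbij.2 x

end Groth.Agent.Lib.Helper29.FibBirat
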