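import Mathlib
import Groth.Agent.S19511
import Groth.Agent.Lib.Helper29.SchDomEpi

/-!
# Geometric integrality descends along fibrations of proper schemes (S19514)
-/

set_option autoImplicit false
set_option maxHeartbeats 1600000
set_option linter.style.haveILetI false
universe u

open CategoryTheory CategoryTheory.Limits AlgebraicGeometry

namespace Groth.Agent.Lib.Helper29.FibGeomInt

/-- if `q : X' ⟶ Z` is surjective, quasi-compact and schematically dominant with `X'` integral,
then `Z` is integral. -/
theorem isIntegral_of_surjective_schDominant {X' Z : Scheme.{u}} (q : X' ⟶ Z) [Surjective q]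
    [QuasiCompact q] [IsSchemeTheoreticallyDominant q] [IsIntegral X'] : IsIntegral Z := by
  haveI : IsReduced Z := IsSchemeTheoreticallyDominant.isReduced q
  haveI : IrreducibleSpace ↥Z := by
    have h3 := (IrreducibleSpace.isIrreducible_univ ↥X').image q q.continuous.continuousOn
    rw [Set.image_univ, Set.range_eq_univ.mpr q.surjective] at h3
    exact (irreducibleSpace_def _).mpr h3
  exact isIntegral_of_irreducibleSpace_of_isReduced Z

theorem main19514 (k : Type u) [Field k] (X Y : Scheme.{u})
    [X.Over (Spec (CommRingCat.of k))] [Y.Over (Spec (CommRingCat.of k))]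
    [IsProper (X ↘ Spec (CommRingCat.of k))] [IsProper (Y ↘ Spec (CommRingCat.of k))]
    (f : X ⟶ Y) (hf : f ≫ (Y ↘ Spec (CommRingCat.of k)) = X ↘ Spec (CommRingCat.of k))
    (hfib : ∀ V : Y.Opens, IsIso (f.app V))
    [GeometricallyIntegral (X ↘ Spec (CommRingCat.of k))] :
    GeometricallyIntegral (Y ↘ Spec (CommRingCat.of k)) := by
  haveI : Subsingleton ↥(Spec (CommRingCat.of k)) :=
    inferInstanceAs (Subsingleton (PrimeSpectrum k))
  haveI : Surjective f := Groth.Agent.S19511.result k X Y f hf hfib
  haveI : IsSchemeTheoreticallyDominant f :=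
    ⟨Groth.Agent.Lib.Helper29.SchDomEpi.ker_eq_bot_of_isIso_app f hfib⟩
  haveI : QuasiCompact f := by
    haveI : QuasiCompact (f ≫ (Y ↘ Spec (CommRingCat.of k))) := by rw [hf]; infer_instance
    exact QuasiCompact.of_comp f (Y ↘ Spec (CommRingCat.of k))
  refine ⟨fun K _ y Z p₁ p₂ h => ?_⟩
  haveI : Flat y := inferInstance
  haveI : Flat p₁ := MorphismProperty.of_isPullback (P := @Flat) h.flip inferInstance
  have h2 : IsPullback (pullback.fst f p₁) (pullback.snd f p₁ ≫ p₂)
      (f ≫ (Y ↘ Spec (CommRingCat.of k))) y := (IsPullback.of_hasPullback f p₁).paste_vert h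
  rw [hf] at h2
  haveI : IsIntegral (pullback f p₁) :=
    (inferInstance : GeometricallyIntegral (X ↘ Spec (CommRingCat.of k))).geometrically_isIntegral
      y _ _ h2
  exact isIntegral_of_surjective_schDominant (pullback.snd f p₁)

end Groth.Agent.Lib.Helper29.FibGeomInt
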