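import Groth.Agent.Lib.Helper29.IsogFib
import Groth.Agent.Lib.Helper14.GrpHomog

/-!
# Helper library (helper29): the flat locus of a homomorphism of group schemes is a union of
fibres, and is detected fibrewise (SGA3 VI_B 2.5 for flatness)

uses helper14's critère de platitude par fibres (`LCF.flat_fiberMap_iff`, `LCF.isOpen_flat_flat`)
and homogeneity lemma (`GrpHomog.flatAt_of_flatAt`), helper17's `flat_stalkMap_baseChange`.
-/

set_option autoImplicit false
set_option maxHeartbeats 1600000
universe u
open CategoryTheory CategoryTheory.Limits MonoidalCategory CartesianMonoidalCategory MonObj GrpObj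
  AlgebraicGeometry

namespace Groth.Agent.Lib.Helper29.FibHomFlat

open Groth.Agent.Lib.Helper29 Groth.Agent.Lib.Helper29.IsogFib

/-- flat fibre map ⇒ flat at the point (critère de platitude par fibres), in a form that avoids the
dependent-type mismatch between `a` and `u ≫ b`. -/
theorem flatAt_of_fibre_flat {S X Y : Scheme.{u}} (a : X ⟶ S) (b : Y ⟶ S) (u : X ⟶ Y)
    (hu : u ≫ b = a) [Flat a] [LocallyOfFinitePresentation a] [LocallyOfFiniteType b] (x : X)
    (L : pullback a (S.fromSpecResidueField (b (u x))) ⟶
      pullback b (S.fromSpecResidueField (b (u x))))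
    (hL1 : L ≫ pullback.fst b _ = pullback.fst a _ ≫ u)
    (hL2 : L ≫ pullback.snd b _ = pullback.snd a _) [hLf : Flat L] :
    (b.stalkMap (u x)).hom.Flat ∧ (u.stalkMap x).hom.Flat := by
  subst hu
  have hL : L = MoreMor.fiberMap u b (b (u x)) := by
    apply pullback.hom_ext
    · rw [hL1]; exact (pullback.lift_fst _ _ _).symm
    · rw [hL2]; exact (pullback.lift_snd _ _ _).symm
  subst hL
  exact (Groth.Agent.Lib.Helper14.LCF.flat_fiberMap_iff u b x).1
    ⟨Flat.stalkMap (u ≫ b) x, @Flat.stalkMap _ _ (MoreMor.fiberMap u b (b (u x))) hLf _⟩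

theorem main5312 (S : Scheme.{u}) (G H : Over S) [GrpObj G] [GrpObj H] (u : G ⟶ H) [IsMonHom u]
    [Flat G.hom] [LocallyOfFinitePresentation G.hom] [LocallyOfFiniteType H.hom] :
    IsOpen {s : S | Flat ((Over.pullback (S.fromSpecResidueField s)).map u).left} ∧
    {x : G.left | (u.left.stalkMap x).hom.Flat} = G.hom.base ⁻¹'
      {s : S | Flat ((Over.pullback (S.fromSpecResidueField s)).map u).left} := by
  have key1 : ∀ x : G.left, (u.left.stalkMap x).hom.Flat →
      Flat ((Over.pullback (S.fromSpecResidueField (G.hom x))).map u).left := by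
    intro x hx
    refine Flat.of_stalkMap _ (fun x' => ?_)
    have hx'1 : G.hom (pullback.fst G.hom (S.fromSpecResidueField (G.hom x)) x') = G.hom x := by
      rw [← Scheme.Hom.comp_apply, pullback.condition, Scheme.Hom.comp_apply]
      exact Scheme.fromSpecResidueField_apply _ _
    have h2 : (u.left.stalkMap (pullback.fst G.hom (S.fromSpecResidueField (G.hom x)) x')).hom.Flat :=
      Groth.Agent.Lib.Helper14.GrpHomog.flatAt_of_flatAt u x _ hx'1.symm hx
    exact Groth.Agent.Lib.Helper17.FibreFlat.flat_stalkMap_baseChange
      (fibre_sq (S.fromSpecResidueField (G.hom x)) u).flip x' h2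
  have key2 : ∀ x : G.left, Flat ((Over.pullback (S.fromSpecResidueField (G.hom x))).map u).left →
      (H.hom.stalkMap (u.left x)).hom.Flat ∧ (u.left.stalkMap x).hom.Flat := by
    intro x hP
    have hs : H.hom (u.left x) = G.hom x := by rw [← Scheme.Hom.comp_apply, Over.w u]
    have hP' : Flat ((Over.pullback (S.fromSpecResidueField (H.hom (u.left x)))).map u).left := by
      rw [hs]; exact hP
    haveI := hP'
    exact flatAt_of_fibre_flat G.hom H.hom u.left (Over.w u) x
      ((Over.pullback (S.fromSpecResidueField (H.hom (u.left x)))).map u).left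
      (pullback.lift_fst _ _ _) (pullback.lift_snd _ _ _)
  have hset : {x : G.left | (u.left.stalkMap x).hom.Flat} = G.hom.base ⁻¹'
      {s : S | Flat ((Over.pullback (S.fromSpecResidueField s)).map u).left} := by
    ext x
    exact ⟨key1 x, fun h => (key2 x h).2⟩
  refine ⟨?_, hset⟩
  haveI : LocallyOfFinitePresentation (u.left ≫ H.hom) := by rw [Over.w u]; infer_instance
  have hF : IsOpen {x : G.left | (u.left.stalkMap x).hom.Flat} := by
    have h0 := Groth.Agent.Lib.Helper14.LCF.isOpen_flat_flat u.left H.hom
    have he : {x : G.left | (u.left.stalkMap x).hom.Flat} =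
        {x : G.left | (H.hom.stalkMap (u.left x)).hom.Flat ∧ (u.left.stalkMap x).hom.Flat} := by
      ext x
      exact ⟨fun h => key2 x (key1 x h), fun h => h.2⟩
    rw [he]; exact h0
  let e : S ⟶ G.left := η[G].left
  have he : e ≫ G.hom = 𝟙 S := Over.w η[G]
  have hU : {s : S | Flat ((Over.pullback (S.fromSpecResidueField s)).map u).left} =
      e.base ⁻¹' {x : G.left | (u.left.stalkMap x).hom.Flat} := by
    ext s
    rw [hset]
    have : G.hom (e s) = s := by
      rw [← Scheme.Hom.comp_apply, he]; rfl
    simp only [Set.mem_preimage, Set.mem_ofPred_eq]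
    constructor
    · intro h
      show Flat ((Over.pullback (S.fromSpecResidueField (G.hom (e s)))).map u).left
      rw [this]; exact h
    · intro h
      have h' : Flat ((Over.pullback (S.fromSpecResidueField (G.hom (e s)))).map u).left := h
      rw [this] at h'; exact h'
  rw [hU]
  exact hF.preimage e.continuous

end Groth.Agent.Lib.Helper29.FibHomFlat
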