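import Groth.Agent.Lib.Helper29.FibHomFlat
import Groth.Agent.Lib.Helper8.SmoothLocusBC
import Groth.Agent.Lib.Helper8.FiberMapPt

/-!
# Helper library (helper29): smooth / unramified / étale loci of a homomorphism of group schemes
are unions of fibres and are detected fibrewise (SGA3 VI_B 2.5)

* `Loc P f`: points having an open neighbourhood on which `f` has `P`
* homogeneity of `Loc Smooth u`, `Loc FormallyUnramified u` along the fibres of `G → S`
  (translation argument of helper14's `GrpHomog`, with helper8's `SmoothLocusBC` and `UnramNhd`)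
* fibre criteria (helper8's `RelFiberSmoothSch.mem_smoothLocus_of_fibre`,
  `UnramNhd.exists_unramified_nhd_of_cover`)
* `main5313`, `main5314`, `main5316`, `main5317`
-/

set_option autoImplicit false
set_option maxHeartbeats 1600000
universe u
open CategoryTheory CategoryTheory.Limits MonoidalCategory CartesianMonoidalCategory MonObj GrpObj
  AlgebraicGeometry

namespace Groth.Agent.Lib.Helper29.FibHomSmooth

open Groth.Agent.Lib.Helper29 Groth.Agent.Lib.Helper29.IsogFib Groth.Agent.Lib.Helper14
  Groth.Agent.Lib.Helper8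

/-- the locus of points with an open neighbourhood on which `f` has `P`. -/
def Loc (P : MorphismProperty Scheme.{u}) {X Y : Scheme.{u}} (f : X ⟶ Y) : Set X :=
  {x | ∃ W : X.Opens, x ∈ W ∧ P (W.ι ≫ f)}

theorem isOpen_Loc (P : MorphismProperty Scheme.{u}) {X Y : Scheme.{u}} (f : X ⟶ Y) :
    IsOpen (Loc P f) := by
  rw [isOpen_iff_forall_mem_open]
  rintro x ⟨W, hxW, hW⟩
  exact ⟨W, fun y hy => ⟨W, hy, hW⟩, W.2, hxW⟩

theorem mem_Loc_of (P : MorphismProperty Scheme.{u}) [IsZariskiLocalAtSource P]
    {X Y : Scheme.{u}} {f : X ⟶ Y} (h : P f) (x : X) : x ∈ Loc P f :=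
  ⟨⊤, trivial, IsZariskiLocalAtSource.comp h _⟩

theorem of_forall_mem_Loc (P : MorphismProperty Scheme.{u}) [IsZariskiLocalAtSource P]
    {X Y : Scheme.{u}} {f : X ⟶ Y} (h : ∀ x : X, x ∈ Loc P f) : P f := by
  choose W hW1 hW2 using h
  refine IsZariskiLocalAtSource.of_iSup_eq_top W (top_le_iff.mp fun x _ ↦ ?_) hW2
  simpa using ⟨x, hW1 x⟩

theorem Loc_baseChange (P : MorphismProperty Scheme.{u}) [P.IsStableUnderBaseChange]
    {X' X Y' Y : Scheme.{u}} {g' : X' ⟶ X} {f' : X' ⟶ Y'} {f : X ⟶ Y} {g : Y' ⟶ Y}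
    (h : IsPullback g' f' f g) (x' : X') (hx : g' x' ∈ Loc P f) : x' ∈ Loc P f' := by
  obtain ⟨W, hxW, hW⟩ := hx
  have h1 : IsPullback (g' ∣_ W) (g' ⁻¹ᵁ W).ι W.ι g' := isPullback_morphismRestrict g' W
  have h2 : IsPullback (g' ∣_ W) ((g' ⁻¹ᵁ W).ι ≫ f') (W.ι ≫ f) g := h1.paste_vert h
  exact ⟨g' ⁻¹ᵁ W, hxW, MorphismProperty.of_isPullback (P := P) h2 hW⟩

theorem mem_Loc_smooth_iff {X Y : Scheme.{u}} (f : X ⟶ Y) [LocallyOfFinitePresentation f]
    (x : X) : x ∈ Loc @Smooth f ↔ x ∈ f.smoothLocus :=
  LiftCrit.exists_smooth_nhd_iff f x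

theorem Loc_smooth_descend {X' X Y' Y : Scheme.{u}} {g' : X' ⟶ X} {f' : X' ⟶ Y'} {f : X ⟶ Y}
    {g : Y' ⟶ Y} (h : IsPullback g' f' f g) [LocallyOfFinitePresentation f] [Flat g] (x' : X')
    (hx' : x' ∈ Loc @Smooth f') : g' x' ∈ Loc @Smooth f := by
  haveI : LocallyOfFinitePresentation f' :=
    MorphismProperty.of_isPullback (P := @LocallyOfFinitePresentation) h inferInstance
  rw [mem_Loc_smooth_iff] at hx' ⊢
  exact (SmoothLocusBC.mem_smoothLocus_iff_of_isPullback f g f' g' h (Or.inr inferInstance) x').1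
    hx'

theorem Loc_unram_descend {X' X Y' Y : Scheme.{u}} {g' : X' ⟶ X} {f' : X' ⟶ Y'} {f : X ⟶ Y}
    {g : Y' ⟶ Y} (h : IsPullback g' f' f g) [LocallyOfFiniteType f] (x' : X')
    (hx' : x' ∈ Loc @FormallyUnramified f') : g' x' ∈ Loc @FormallyUnramified f := by
  obtain ⟨W', hxW', hW'⟩ := hx'
  let e := h.isoPullback
  have he1 : e.hom ≫ pullback.fst f g = g' := h.isoPullback_hom_fst
  have he2 : e.inv ≫ f' = pullback.snd f g := h.isoPullback_inv_snd
  refine UnramNhd.exists_unramified_nhd_of_cover f (g' x') g (e.inv ⁻¹ᵁ W') (e.hom x') ?_ ?_ ?_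
  · show e.inv (e.hom x') ∈ W'
    rw [← Scheme.Hom.comp_apply, e.hom_inv_id]
    exact hxW'
  · rw [← Scheme.Hom.comp_apply, he1]
  · have h1 : (e.inv ⁻¹ᵁ W').ι ≫ pullback.snd f g = (e.inv ∣_ W') ≫ (W'.ι ≫ f') := by
      rw [← Category.assoc, morphismRestrict_ι, Category.assoc, he2]
    rw [h1]
    haveI : IsIso (e.inv ∣_ W') := inferInstance
    haveI : FormallyUnramified (e.inv ∣_ W') := inferInstance
    exact MorphismProperty.comp_mem _ _ _ inferInstance hW'

theorem Loc_etale_eq {X Y : Scheme.{u}} (f : X ⟶ Y) :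
    Loc @Etale f = Loc @Smooth f ∩ Loc @FormallyUnramified f := by
  ext x
  constructor
  · rintro ⟨W, hxW, hW⟩
    haveI := hW
    exact ⟨⟨W, hxW, inferInstance⟩, ⟨W, hxW, inferInstance⟩⟩
  · rintro ⟨h1, h2⟩
    exact FiberMapPt.exists_etale_nhd_of_smooth_of_unramified f x h1 h2

/-- étale + universally injective ⇒ open immersion. -/
theorem isOpenImmersion_of_etale_of_universallyInjective {X Y : Scheme.{u}} (f : X ⟶ Y)
    [Etale f] [UniversallyInjective f] : IsOpenImmersion f := by
  haveI : IsOpenImmersion (pullback.diagonal f) := inferInstance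
  haveI : Surjective (pullback.diagonal f) := (UniversallyInjective.iff_diagonal f).1 inferInstance
  haveI : IsIso (pullback.diagonal f) :=
    (isIso_iff_isOpenImmersion_and_surjective _).2 ⟨inferInstance, inferInstance⟩
  haveI : IsIso (pullback.fst f f) := by
    have h : pullback.diagonal f ≫ pullback.fst f f = 𝟙 X := pullback.diagonal_fst f
    have : pullback.fst f f = inv (pullback.diagonal f) := by
      rw [← cancel_epi (pullback.diagonal f), h, IsIso.hom_inv_id]
    rw [this]; infer_instance
  haveI : Mono f := IsKernelPair.mono_of_isIso_fst (IsPullback.of_hasPullback f f)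
  exact IsOpenImmersion.of_flat_of_mono f

section grp

variable {S : Scheme.{u}} {G H : Over S} [GrpObj G] [GrpObj H] (u : G ⟶ H) [IsMonHom u]

theorem sq1 : IsPullback (snd G G).left (G ◁ u).left u.left (snd G H).left := by
  simpa using (GrpHomog.isPullback_snd_whiskerLeft G u).map (Over.forget _)

theorem sq2 : IsPullback (μ[G]).left (G ◁ u).left u.left (GrpHomog.tw u).left := by
  simpa using (GrpHomog.isPullback_mul_whiskerLeft u).map (Over.forget _)

theorem Loc_smooth_homog [Flat G.hom] [LocallyOfFinitePresentation u.left] (x y : G.left)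
    (hxy : G.hom x = G.hom y) (hx : x ∈ Loc @Smooth u.left) : y ∈ Loc @Smooth u.left := by
  obtain ⟨z, hz1, hz2⟩ := GrpdCM.exists_preimage_of_isPullback
    (GrpDim.isPullback_snd_mul_left G) x y hxy
  haveI := GrpHomog.flat_tw_left u
  have hz : z ∈ Loc @Smooth (G ◁ u).left :=
    Loc_baseChange @Smooth (sq1 u) z (by rw [hz1]; exact hx)
  have := Loc_smooth_descend (sq2 u) z hz
  rwa [hz2] at this

theorem Loc_unram_homog [LocallyOfFiniteType u.left] (x y : G.left)
    (hxy : G.hom x = G.hom y) (hx : x ∈ Loc @FormallyUnramified u.left) :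
    y ∈ Loc @FormallyUnramified u.left := by
  obtain ⟨z, hz1, hz2⟩ := GrpdCM.exists_preimage_of_isPullback
    (GrpDim.isPullback_snd_mul_left G) x y hxy
  have hz : z ∈ Loc @FormallyUnramified (G ◁ u).left :=
    Loc_baseChange @FormallyUnramified (sq1 u) z (by rw [hz1]; exact hx)
  have := Loc_unram_descend (sq2 u) z hz
  rwa [hz2] at this

theorem snd_fibre_iff (P : MorphismProperty Scheme.{u}) [P.RespectsIso] (s : S) :
    P (pullback.snd u.left (H.hom.fiberι s)) ↔
      P ((Over.pullback (S.fromSpecResidueField s)).map u).left := by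
  have hsq : IsPullback (pullback.fst G.hom (S.fromSpecResidueField s))
      ((Over.pullback (S.fromSpecResidueField s)).map u).left u.left (H.hom.fiberι s) :=
    fibre_sq (S.fromSpecResidueField s) u
  have hiso : hsq.isoPullback.hom ≫ pullback.snd u.left (H.hom.fiberι s) =
      ((Over.pullback (S.fromSpecResidueField s)).map u).left := hsq.isoPullback_hom_snd
  rw [← hiso]
  exact (MorphismProperty.cancel_left_of_respectsIso P hsq.isoPullback.hom _).symm

theorem fibre_of_mem_Loc (P : MorphismProperty Scheme.{u}) [P.IsStableUnderBaseChange]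
    [IsZariskiLocalAtSource P]
    (hhom : ∀ x y : G.left, G.hom x = G.hom y → x ∈ Loc P u.left → y ∈ Loc P u.left)
    (x : G.left) (hx : x ∈ Loc P u.left) :
    P ((Over.pullback (S.fromSpecResidueField (G.hom x))).map u).left := by
  refine of_forall_mem_Loc P (fun x' => ?_)
  have hx'1 : G.hom (pullback.fst G.hom (S.fromSpecResidueField (G.hom x)) x') = G.hom x := by
    rw [← Scheme.Hom.comp_apply, pullback.condition, Scheme.Hom.comp_apply]
    exact Scheme.fromSpecResidueField_apply _ _
  exact Loc_baseChange P (fibre_sq (S.fromSpecResidueField (G.hom x)) u) x'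
    (hhom x _ hx'1.symm hx)

theorem smooth_mem_Loc_of_fibre [Flat G.hom] [LocallyOfFinitePresentation u.left] (x : G.left)
    (hx : Smooth ((Over.pullback (S.fromSpecResidueField (G.hom x))).map u).left) :
    x ∈ Loc @Smooth u.left := by
  have hs : H.hom (u.left x) = G.hom x := by rw [← Scheme.Hom.comp_apply, Over.w u]
  have hx' : Smooth ((Over.pullback (S.fromSpecResidueField (H.hom (u.left x)))).map u).left := by
    rw [hs]; exact hx
  haveI : Smooth (pullback.snd u.left (H.hom.fiberι (H.hom (u.left x)))) :=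
    (snd_fibre_iff u @Smooth _).2 hx'
  haveI : Flat (u.left ≫ H.hom) := by rw [Over.w u]; infer_instance
  rw [mem_Loc_smooth_iff]
  exact RelFiberSmoothSch.mem_smoothLocus_of_fibre H.hom u.left x
    (Flat.stalkMap (u.left ≫ H.hom) x)

theorem unram_mem_Loc_of_fibre [LocallyOfFiniteType u.left] (x : G.left)
    (hx : FormallyUnramified ((Over.pullback (S.fromSpecResidueField (G.hom x))).map u).left) :
    x ∈ Loc @FormallyUnramified u.left := by
  have hs : H.hom (u.left x) = G.hom x := by rw [← Scheme.Hom.comp_apply, Over.w u]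
  have hx' : FormallyUnramified
      ((Over.pullback (S.fromSpecResidueField (H.hom (u.left x)))).map u).left := by
    rw [hs]; exact hx
  have h1 : FormallyUnramified (pullback.snd u.left (H.hom.fiberι (H.hom (u.left x)))) :=
    (snd_fibre_iff u @FormallyUnramified _).2 hx'
  obtain ⟨h', hh'⟩ : u.left x ∈ Set.range (H.hom.fiberι (H.hom (u.left x))) := by
    rw [Scheme.Hom.range_fiberι]; rfl
  obtain ⟨z, hz1, hz2⟩ := Scheme.Pullback.exists_preimage_pullback (f := u.left)
    (g := H.hom.fiberι (H.hom (u.left x))) x h' hh'.symm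
  have := Loc_unram_descend (IsPullback.of_hasPullback u.left (H.hom.fiberι (H.hom (u.left x)))) z
    (mem_Loc_of @FormallyUnramified h1 z)
  rwa [hz1] at this

theorem assemble (G : Over S) [GrpObj G] (Q : S → Prop) (L : Set G.left) (hL : IsOpen L)
    (h1 : ∀ x : G.left, x ∈ L → Q (G.hom x)) (h2 : ∀ x : G.left, Q (G.hom x) → x ∈ L) :
    IsOpen {s : S | Q s} ∧ L = G.hom.base ⁻¹' {s : S | Q s} := by
  have hset : L = G.hom.base ⁻¹' {s : S | Q s} := by
    ext x
    exact ⟨h1 x, h2 x⟩
  refine ⟨?_, hset⟩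
  let e : S ⟶ G.left := η[G].left
  have he : e ≫ G.hom = 𝟙 S := Over.w η[G]
  have hU : {s : S | Q s} = e.base ⁻¹' L := by
    ext s
    have hs : G.hom (e s) = s := by
      rw [← Scheme.Hom.comp_apply, he]; rfl
    constructor
    · intro h
      show e s ∈ L
      exact h2 (e s) (by rw [hs]; exact h)
    · intro h
      have h' : e s ∈ L := h
      have := h1 _ h'
      rwa [hs] at this
  rw [hU]
  exact hL.preimage e.continuous

end grp

theorem main5313 (S : Scheme.{u}) (G H : Over S) [GrpObj G] [GrpObj H] (u : G ⟶ H) [IsMonHom u]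
    [Flat G.hom] [LocallyOfFinitePresentation G.hom] [LocallyOfFiniteType H.hom] :
    IsOpen {s : S | Smooth ((Over.pullback (S.fromSpecResidueField s)).map u).left} ∧
    {x : G.left | ∃ W : G.left.Opens, x ∈ W ∧ Smooth (W.ι ≫ u.left)} = G.hom.base ⁻¹'
      {s : S | Smooth ((Over.pullback (S.fromSpecResidueField s)).map u).left} := by
  haveI : LocallyOfFinitePresentation (u.left ≫ H.hom) := by rw [Over.w u]; infer_instance
  haveI hlfp : LocallyOfFinitePresentation u.left :=
    LCF.locallyOfFinitePresentation_of_comp u.left H.hom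
  exact assemble G (fun s => Smooth ((Over.pullback (S.fromSpecResidueField s)).map u).left)
    (Loc @Smooth u.left) (isOpen_Loc _ _)
    (fun x hx => fibre_of_mem_Loc u @Smooth (Loc_smooth_homog u) x hx)
    (fun x hx => smooth_mem_Loc_of_fibre u x hx)

theorem main5316 (S : Scheme.{u}) (G H : Over S) [GrpObj G] [GrpObj H] (u : G ⟶ H)
    [IsMonHom u] [LocallyOfFinitePresentation u.left]
    (hG : ∀ s : S, LocallyOfFiniteType (G.hom.fiberToSpecResidueField s)) :
    IsOpen {s : S | FormallyUnramified ((Over.pullback (S.fromSpecResidueField s)).map u).left} ∧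
    {x : G.left | ∃ W : G.left.Opens, x ∈ W ∧ FormallyUnramified (W.ι ≫ u.left)} =
      G.hom.base ⁻¹'
        {s : S | FormallyUnramified ((Over.pullback (S.fromSpecResidueField s)).map u).left} := by
  exact assemble G
    (fun s => FormallyUnramified ((Over.pullback (S.fromSpecResidueField s)).map u).left)
    (Loc @FormallyUnramified u.left) (isOpen_Loc _ _)
    (fun x hx => fibre_of_mem_Loc u @FormallyUnramified (Loc_unram_homog u) x hx)
    (fun x hx => unram_mem_Loc_of_fibre u x hx)

section etale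

variable (S : Scheme.{u}) (G H : Over S) [GrpObj G] [GrpObj H] (u : G ⟶ H) [IsMonHom u]
    [Flat G.hom] [LocallyOfFinitePresentation G.hom] [LocallyOfFiniteType H.hom]

theorem etale_fibre_of_mem_Loc [LocallyOfFinitePresentation u.left] (x : G.left)
    (hx : x ∈ Loc @Etale u.left) :
    Etale ((Over.pullback (S.fromSpecResidueField (G.hom x))).map u).left := by
  rw [Loc_etale_eq] at hx
  haveI h1 : Smooth ((Over.pullback (S.fromSpecResidueField (G.hom x))).map u).left :=
    fibre_of_mem_Loc u @Smooth (Loc_smooth_homog u) x hx.1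
  haveI h2 : FormallyUnramified ((Over.pullback (S.fromSpecResidueField (G.hom x))).map u).left :=
    fibre_of_mem_Loc u @FormallyUnramified (Loc_unram_homog u) x hx.2
  exact Etale.of_formallyUnramified_of_flat _

theorem etale_mem_Loc_of_fibre [LocallyOfFinitePresentation u.left] (x : G.left)
    (hx : Etale ((Over.pullback (S.fromSpecResidueField (G.hom x))).map u).left) :
    x ∈ Loc @Etale u.left := by
  haveI := hx
  rw [Loc_etale_eq]
  exact ⟨smooth_mem_Loc_of_fibre u x inferInstance, unram_mem_Loc_of_fibre u x inferInstance⟩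

theorem main5314 :
    IsOpen {s : S | Etale ((Over.pullback (S.fromSpecResidueField s)).map u).left} ∧
    {x : G.left | ∃ W : G.left.Opens, x ∈ W ∧ Etale (W.ι ≫ u.left)} = G.hom.base ⁻¹'
      {s : S | Etale ((Over.pullback (S.fromSpecResidueField s)).map u).left} := by
  haveI : LocallyOfFinitePresentation (u.left ≫ H.hom) := by rw [Over.w u]; infer_instance
  haveI hlfp : LocallyOfFinitePresentation u.left :=
    LCF.locallyOfFinitePresentation_of_comp u.left H.hom
  exact assemble G (fun s => Etale ((Over.pullback (S.fromSpecResidueField s)).map u).left)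
    (Loc @Etale u.left) (isOpen_Loc _ _)
    (fun x hx => etale_fibre_of_mem_Loc S G H u x hx)
    (fun x hx => etale_mem_Loc_of_fibre S G H u x hx)

theorem main5317 [UniversallyInjective u.left] :
    IsOpen {s : S | IsOpenImmersion ((Over.pullback (S.fromSpecResidueField s)).map u).left} ∧
    ∀ W : S.Opens, (W : Set S) ⊆
      {s : S | IsOpenImmersion ((Over.pullback (S.fromSpecResidueField s)).map u).left} →
      IsOpenImmersion ((G.hom ⁻¹ᵁ W).ι ≫ u.left) := by
  haveI : LocallyOfFinitePresentation (u.left ≫ H.hom) := by rw [Over.w u]; infer_instance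
  haveI hlfp : LocallyOfFinitePresentation u.left :=
    LCF.locallyOfFinitePresentation_of_comp u.left H.hom
  have hiff : ∀ s : S, IsOpenImmersion ((Over.pullback (S.fromSpecResidueField s)).map u).left ↔
      Etale ((Over.pullback (S.fromSpecResidueField s)).map u).left := by
    intro s
    constructor
    · intro h; haveI := h; infer_instance
    · intro h
      haveI := h
      haveI : UniversallyInjective ((Over.pullback (S.fromSpecResidueField s)).map u).left :=
        MorphismProperty.of_isPullback (P := @UniversallyInjective)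
          (fibre_sq (S.fromSpecResidueField s) u) inferInstance
      exact isOpenImmersion_of_etale_of_universallyInjective _
  have hEq : {s : S | IsOpenImmersion ((Over.pullback (S.fromSpecResidueField s)).map u).left} =
      {s : S | Etale ((Over.pullback (S.fromSpecResidueField s)).map u).left} := by
    ext s; exact hiff s
  rw [hEq]
  refine ⟨(main5314 S G H u).1, fun W hW => ?_⟩
  haveI : Etale ((G.hom ⁻¹ᵁ W).ι ≫ u.left) := by
    refine of_forall_mem_Loc @Etale (fun v => ?_)
    have hv : G.hom ((G.hom ⁻¹ᵁ W).ι v) ∈ W := v.2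
    have h1 : (G.hom ⁻¹ᵁ W).ι v ∈ Loc @Etale u.left :=
      etale_mem_Loc_of_fibre S G H u _ (hW hv)
    obtain ⟨W₀, hvW₀, hW₀⟩ := h1
    refine ⟨(G.hom ⁻¹ᵁ W).ι ⁻¹ᵁ W₀, hvW₀, ?_⟩
    have e1 : ((G.hom ⁻¹ᵁ W).ι ⁻¹ᵁ W₀).ι ≫ (G.hom ⁻¹ᵁ W).ι ≫ u.left =
        ((G.hom ⁻¹ᵁ W).ι ∣_ W₀) ≫ (W₀.ι ≫ u.left) := by
      rw [← Category.assoc, ← morphismRestrict_ι, Category.assoc]
    rw [e1]
    haveI := hW₀
    infer_instance
  haveI : UniversallyInjective ((G.hom ⁻¹ᵁ W).ι ≫ u.left) :=
    MorphismProperty.comp_mem @UniversallyInjective _ _ inferInstance inferInstance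
  exact isOpenImmersion_of_etale_of_universallyInjective _

end etale

end Groth.Agent.Lib.Helper29.FibHomSmooth
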