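import Groth.Agent.Lib.Helper29.FibHomQF
import Groth.Agent.S19473

/-!
# Helper library (helper29): quasi-finite / unramified homomorphisms of group schemes, tfae
(SGA3 VI_B 2.5 (ii), (iii)): `main5319`, `main5320`
-/

set_option autoImplicit false
set_option maxHeartbeats 1600000
universe u
open CategoryTheory CategoryTheory.Limits MonoidalCategory CartesianMonoidalCategory MonObj GrpObj
  AlgebraicGeometry

namespace Groth.Agent.Lib.Helper29.FibHomSmooth

open Groth.Agent.Lib.Helper29 Groth.Agent.Lib.Helper29.IsogFib Groth.Agent.Lib.Helper14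
  Groth.Agent.Lib.Helper8

section grp

variable {S : Scheme.{u}} {G H : Over S} [GrpObj G] [GrpObj H] (u : G ⟶ H) [IsMonHom u]

theorem iff_fibrewise (P : MorphismProperty Scheme.{u}) [P.IsStableUnderBaseChange]
    [IsZariskiLocalAtSource P]
    (hfib : ∀ x : G.left, P ((Over.pullback (S.fromSpecResidueField (G.hom x))).map u).left →
      x ∈ Loc P u.left) :
    P u.left ↔ ∀ s : S, P ((Over.pullback (S.fromSpecResidueField s)).map u).left := by
  constructor
  · intro h s
    exact MorphismProperty.of_isPullback (P := P) (fibre_sq (S.fromSpecResidueField s) u) h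
  · intro h
    exact of_forall_mem_Loc P (fun x => hfib x (h (G.hom x)))

theorem iff_kernel (P : MorphismProperty Scheme.{u}) [P.IsStableUnderBaseChange]
    [IsZariskiLocalAtSource P]
    (hhom : ∀ x y : G.left, G.hom x = G.hom y → x ∈ Loc P u.left → y ∈ Loc P u.left)
    {K : Over S} [GrpObj K] (i : K ⟶ G) [IsMonHom i] (hK : AlgGrp.IsKernel i u)
    (hdesc : ∀ z : K.left, z ∈ Loc P K.hom → i.left z ∈ Loc P u.left) :
    P u.left ↔ P K.hom := by
  have hK' : IsPullback i (toUnit K) u η[H] := hK
  have sqK : IsPullback i.left K.hom u.left η[H].left := hK'.map (Over.forget _)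
  constructor
  · intro h
    exact MorphismProperty.of_isPullback (P := P) sqK h
  · intro h
    refine of_forall_mem_Loc P (fun x => ?_)
    let eK : S ⟶ K.left := η[K].left
    have heK : eK ≫ K.hom = 𝟙 S := Over.w η[K]
    have h1 : i.left (eK (G.hom x)) ∈ Loc P u.left := hdesc _ (mem_Loc_of P h _)
    refine hhom _ x ?_ h1
    have h2 : i.left ≫ G.hom = K.hom := Over.w i
    rw [← Scheme.Hom.comp_apply, h2, ← Scheme.Hom.comp_apply, heK]
    rfl

end grp

theorem main5319 (S : Scheme.{u}) (G H : Over S) [GrpObj G] [GrpObj H] (u : G ⟶ H) [IsMonHom u]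
    [LocallyOfFiniteType u.left]
    (hG : ∀ s : S, LocallyOfFiniteType (G.hom.fiberToSpecResidueField s))
    (K : Over S) [GrpObj K] (i : K ⟶ G) [IsMonHom i] (hK : AlgGrp.IsKernel i u) :
    (LocallyQuasiFinite u.left ↔
      ∀ s : S, LocallyQuasiFinite ((Over.pullback (S.fromSpecResidueField s)).map u).left) ∧
    (LocallyQuasiFinite u.left ↔ LocallyQuasiFinite K.hom) ∧
    (LocallyQuasiFinite u.left ↔ ∀ s : S, DiscreteTopology ↥(K.hom.base ⁻¹' {s})) := by
  have hK' : IsPullback i (toUnit K) u η[H] := hK
  have sqK : IsPullback i.left K.hom u.left η[H].left := hK'.map (Over.forget _)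
  haveI : LocallyOfFiniteType K.hom :=
    MorphismProperty.of_isPullback (P := @LocallyOfFiniteType) sqK inferInstance
  have hb : LocallyQuasiFinite u.left ↔ LocallyQuasiFinite K.hom :=
    iff_kernel u @LocallyQuasiFinite (Loc_lqf_homog u) i hK
      (fun z hz => Loc_lqf_descend sqK z hz)
  refine ⟨iff_fibrewise u @LocallyQuasiFinite (fun x hx => lqf_mem_Loc_of_fibre u x hx), hb, ?_⟩
  rw [hb, locallyQuasiFinite_iff_isDiscrete_preimage_singleton]
  exact forall_congr' fun s => isDiscrete_iff_discreteTopology

theorem main5320 (S : Scheme.{u}) (G H : Over S) [GrpObj G] [GrpObj H] (u : G ⟶ H) [IsMonHom u]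
    [LocallyOfFinitePresentation u.left]
    (hG : ∀ s : S, LocallyOfFiniteType (G.hom.fiberToSpecResidueField s))
    (K : Over S) [GrpObj K] (i : K ⟶ G) [IsMonHom i] (hK : AlgGrp.IsKernel i u) :
    (FormallyUnramified u.left ↔
      ∀ s : S, FormallyUnramified ((Over.pullback (S.fromSpecResidueField s)).map u).left) ∧
    (FormallyUnramified u.left ↔ FormallyUnramified K.hom) ∧
    (FormallyUnramified u.left ↔ IsOpenImmersion η[K].left) := by
  have hK' : IsPullback i (toUnit K) u η[H] := hK
  have sqK : IsPullback i.left K.hom u.left η[H].left := hK'.map (Over.forget _)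
  haveI : LocallyOfFiniteType K.hom :=
    MorphismProperty.of_isPullback (P := @LocallyOfFiniteType) sqK inferInstance
  have hb : FormallyUnramified u.left ↔ FormallyUnramified K.hom :=
    iff_kernel u @FormallyUnramified (Loc_unram_homog u) i hK
      (fun z hz => Loc_unram_descend sqK z hz)
  refine ⟨iff_fibrewise u @FormallyUnramified (fun x hx => unram_mem_Loc_of_fibre u x hx), hb, ?_⟩
  rw [hb]
  exact Groth.Agent.S19473.result S K

end Groth.Agent.Lib.Helper29.FibHomSmooth
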