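import Mathlib
import Groth.Prelude.Def_Pi1
import Groth.Agent.Lib.Helper22.NormalSections
import Groth.Agent.Lib.Helper15.IrrStalk
import Groth.Agent.S19511

/-!
# Normality descends along a proper fibration `f : X ⟶ Y` (`O_Y ≅ f_* O_X`), `Y` not assumed
integral (helper29)

Key trick (`exists_nhd_preimage_le`): a clopen decomposition `X = U₁ ⊔ U₂` gives an idempotent of
`Γ(X, ⊤) = Γ(Y, ⊤)`; its germ at `y` is `0` or `1` in the local ring `O_{Y,y}`, so some
neighbourhood of `y` has preimage inside `U₁` or inside `U₂`.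
-/

set_option autoImplicit false
set_option maxHeartbeats 1600000
set_option linter.style.haveILetI false
set_option linter.unusedSectionVars false
universe u
open CategoryTheory CategoryTheory.Limits AlgebraicGeometry TopologicalSpace Opposite

namespace Groth.Agent.Lib.Helper29.FibNormal

theorem exists_nhd_preimage_le {X Y : Scheme.{u}} (f : X ⟶ Y) (hfib : IsIso (f.app ⊤))
    (U : Bool → X.Opens) (hcov : ∀ x : X, ∃ b, x ∈ U b) (hdisj : U true ⊓ U false = ⊥) (y : Y) :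
    ∃ V : Y.Opens, y ∈ V ∧ ∃ b, f ⁻¹ᵁ V ≤ U b := by
  classical
  have hxT : ∀ x : X, x ∈ f ⁻¹ᵁ (⊤ : Y.Opens) := fun x => trivial
  have hUT : ∀ b, U b ≤ f ⁻¹ᵁ (⊤ : Y.Opens) := fun b x _ => hxT x
  have hcompat : TopCat.Presheaf.IsCompatible X.presheaf U
      (fun b => cond b (1 : Γ(X, U b)) 0) := by
    intro i j
    by_cases hij : i = j
    · subst hij; rfl
    · have hbot : U i ⊓ U j = ⊥ := by
        cases i <;> cases j
        · exact absurd rfl hij
        · rw [inf_comm]; exact hdisj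
        · exact hdisj
        · exact absurd rfl hij
      have : Subsingleton Γ(X, U i ⊓ U j) := by rw [hbot]; infer_instance
      exact Subsingleton.elim _ _
  obtain ⟨e, he, -⟩ := X.sheaf.existsUnique_gluing' U (f ⁻¹ᵁ (⊤ : Y.Opens))
    (fun b => homOfLE (hUT b))
    (fun x _ => by
      obtain ⟨b, hb⟩ := hcov x
      exact Opens.mem_iSup.mpr ⟨b, hb⟩) (fun b => cond b (1 : Γ(X, U b)) 0) hcompat
  have he1 : X.presheaf.map (homOfLE (hUT true)).op e = 1 := he true
  have he0 : X.presheaf.map (homOfLE (hUT false)).op e = 0 := he false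
  have hg1 : ∀ x (hx : x ∈ U true), X.presheaf.germ (f ⁻¹ᵁ (⊤ : Y.Opens)) x (hxT x) e = 1 := by
    intro x hx
    rw [← TopCat.Presheaf.germ_res_apply X.presheaf (homOfLE (hUT true)) x hx e, he1, map_one]
  have hg0 : ∀ x (hx : x ∈ U false), X.presheaf.germ (f ⁻¹ᵁ (⊤ : Y.Opens)) x (hxT x) e = 0 := by
    intro x hx
    rw [← TopCat.Presheaf.germ_res_apply X.presheaf (homOfLE (hUT false)) x hx e, he0, map_zero]
  have key : ∀ (s : Γ(X, f ⁻¹ᵁ (⊤ : Y.Opens))) (b : Bool),
      (∀ x (_ : x ∈ U b), X.presheaf.germ (f ⁻¹ᵁ (⊤ : Y.Opens)) x (hxT x) s = 0) →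
        X.basicOpen s ≤ U (!b) := by
    intro s b hs x hx
    have hu := (X.mem_basicOpen s x (hxT x)).mp hx
    obtain ⟨b', hb'⟩ := hcov x
    by_cases hbb : b' = b
    · subst hbb
      rw [hs x hb'] at hu
      exact absurd hu not_isUnit_zero
    · have : b' = !b := by cases b <;> cases b' <;> simp_all
      exact this ▸ hb'
  haveI := hfib
  obtain ⟨eY, heY⟩ := (ConcreteCategory.bijective_of_isIso (f.app ⊤)).2 e
  rcases IsLocalRing.isUnit_or_isUnit_one_sub_self (Y.presheaf.germ ⊤ y trivial eY) with hu | hu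
  · refine ⟨Y.basicOpen eY, (Y.mem_basicOpen_top eY y).mpr hu, true, ?_⟩
    rw [Scheme.preimage_basicOpen]
    have := key (f.app ⊤ eY) false (fun x hx => by rw [heY]; exact hg0 x hx)
    exact this
  · refine ⟨Y.basicOpen (1 - eY), (Y.mem_basicOpen_top (1 - eY) y).mpr (by rwa [map_sub, map_one]),
      false, ?_⟩
    rw [Scheme.preimage_basicOpen]
    have := key (f.app ⊤ (1 - eY)) true (fun x hx => by
      rw [map_sub, map_one, heY, map_sub, map_one, hg1 x hx, sub_self])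
    exact this

theorem main19513 (k : Type u) [Field k] (X Y : Scheme.{u})
    [X.Over (Spec (CommRingCat.of k))] [Y.Over (Spec (CommRingCat.of k))] [IsProper (X ↘ Spec (CommRingCat.of k))] [IsProper (Y ↘ Spec (CommRingCat.of k))]
    (f : X ⟶ Y) (hf : f ≫ (Y ↘ Spec (CommRingCat.of k)) = X ↘ Spec (CommRingCat.of k)) (hfib : ∀ V : Y.Opens, IsIso (f.app V))
    (hX : Pi1.IsNormalScheme X) : Pi1.IsNormalScheme Y := by
  classical
  have hsurj : Surjective f := Groth.Agent.S19511.result k X Y f hf hfib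
  haveI : IsLocallyNoetherian X :=
    LocallyOfFiniteType.isLocallyNoetherian (X ↘ Spec (CommRingCat.of k))
  haveI : CompactSpace X :=
    (quasiCompact_iff_compactSpace (X ↘ Spec (CommRingCat.of k))).mp inferInstance
  haveI : AlgebraicGeometry.IsNoetherian X := @AlgebraicGeometry.IsNoetherian.mk X ‹_› ‹_›
  haveI : NoetherianSpace X := inferInstance
  have hfin := NoetherianSpace.finite_irreducibleComponents (α := X)
  have hdisj : (irreducibleComponents (X : Type u)).PairwiseDisjoint id := by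
    rw [Groth.Agent.Lib.Helper15.NT.pairwiseDisjoint_irreducibleComponents_iff_nilradical_isPrime]
    intro p
    haveI := (hX p).1
    rw [nilradical_eq_zero, Ideal.zero_eq_bot]
    exact Ideal.isPrime_bot
  intro y
  obtain ⟨x, rfl⟩ := hsurj.surj y
  obtain ⟨Z, hZdef⟩ : ∃ Z : Set X, Z = irreducibleComponent x := ⟨_, rfl⟩
  have hxZ : x ∈ Z := hZdef ▸ mem_irreducibleComponent
  have hZirr : IsIrreducible Z := hZdef ▸ isIrreducible_irreducibleComponent
  have hZmem : Z ∈ irreducibleComponents (X : Type u) :=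
    hZdef ▸ irreducibleComponent_mem_irreducibleComponents x
  have hZcl : IsClosed Z := isClosed_of_mem_irreducibleComponents Z hZmem
  have hcompl : Zᶜ = ⋃ Z' ∈ irreducibleComponents (X : Type u) \ {Z}, Z' := by
    ext p
    simp only [Set.mem_compl_iff, Set.mem_iUnion, Set.mem_sdiff, Set.mem_singleton_iff, exists_prop]
    constructor
    · intro hp
      have hpU : p ∈ ⋃₀ irreducibleComponents (X : Type u) := by
        rw [sUnion_irreducibleComponents]; trivial
      obtain ⟨Z', hZ', hpZ'⟩ := hpU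
      exact ⟨Z', ⟨hZ', fun h => hp (h ▸ hpZ')⟩, hpZ'⟩
    · rintro ⟨Z', ⟨hZ', hne⟩, hpZ'⟩ hpZ
      exact (Set.disjoint_iff.mp (hdisj hZ' hZmem hne)) ⟨hpZ', hpZ⟩
  have hZop : IsOpen Z := by
    rw [← isClosed_compl_iff, hcompl]
    exact (hfin.subset Set.sdiff_subset).isClosed_biUnion
      (fun Z' hZ' => isClosed_of_mem_irreducibleComponents Z' hZ'.1)
  obtain ⟨V', hyV', b, hb⟩ := exists_nhd_preimage_le f (hfib ⊤)
    (fun b => cond b (⟨Z, hZop⟩ : X.Opens) ⟨Zᶜ, hZcl.isOpen_compl⟩)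
    (fun p => by
      by_cases hp : p ∈ Z
      · exact ⟨true, hp⟩
      · exact ⟨false, hp⟩)
    (by
      apply Opens.ext
      show Z ∩ Zᶜ = ∅
      exact Set.inter_compl_self Z) (f x)
  have hbZ : ∀ p : X, p ∈ f ⁻¹ᵁ V' → p ∈ Z := by
    cases b with
    | true => exact fun p hp => hb hp
    | false => exact absurd hxZ (hb (show x ∈ f ⁻¹ᵁ V' from hyV'))
  obtain ⟨V, hV, hyV, hVV'⟩ := Opens.isBasis_iff_nbhd.mp Y.isBasis_affineOpens
    (show f x ∈ V' from hyV')
  have hV : IsAffineOpen V := hV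
  have hxW : x ∈ f ⁻¹ᵁ V := hyV
  have hWZ : ((f ⁻¹ᵁ V : X.Opens) : Set X) ⊆ Z := fun p hp => hbZ p (hVV' hp)
  have hWirr : IsIrreducible ((f ⁻¹ᵁ V : X.Opens) : Set X) :=
    ⟨⟨x, hxW⟩, hZirr.2.open_subset (f ⁻¹ᵁ V).isOpen hWZ⟩
  haveI : IrreducibleSpace (f ⁻¹ᵁ V).toScheme := Subtype.irreducibleSpace hWirr
  haveI : ∀ p : X, _root_.IsReduced (X.presheaf.stalk p) := fun p => by
    haveI := (hX p).1
    infer_instance
  haveI : IsReduced X := isReduced_of_isReduced_stalk X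
  haveI : IsReduced (f ⁻¹ᵁ V).toScheme := isReduced_of_isOpenImmersion (f ⁻¹ᵁ V).ι
  haveI : IsIntegral (f ⁻¹ᵁ V).toScheme := isIntegral_of_irreducibleSpace_of_isReduced _
  have hWn : Pi1.IsNormalScheme (f ⁻¹ᵁ V).toScheme := by
    intro w
    let e := ((f ⁻¹ᵁ V).stalkIso w).commRingCatIsoToRingEquiv
    haveI := (hX w.1).1
    haveI := (hX w.1).2
    exact ⟨MulEquiv.isDomain _ e.toMulEquiv, IsIntegrallyClosed.of_equiv e.symm⟩
  haveI : Nonempty (f ⁻¹ᵁ V).toScheme := ⟨⟨x, hxW⟩⟩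
  haveI : Nonempty (⊤ : (f ⁻¹ᵁ V).toScheme.Opens) := ⟨⟨⟨x, hxW⟩, trivial⟩⟩
  haveI hic : IsIntegrallyClosed Γ((f ⁻¹ᵁ V).toScheme, ⊤) :=
    Groth.Agent.Lib.Helper22.NormalSections.isIntegrallyClosed_sections hWn ⊤
  haveI hdom : IsDomain Γ((f ⁻¹ᵁ V).toScheme, ⊤) := inferInstance
  haveI := hfib V
  let e : Γ((f ⁻¹ᵁ V).toScheme, ⊤) ≃+* Γ(Y, V) :=
    ((f ⁻¹ᵁ V).topIso ≪≫ (asIso (f.app V)).symm).commRingCatIsoToRingEquiv
  haveI : IsDomain Γ(Y, V) := MulEquiv.isDomain _ e.symm.toMulEquiv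
  haveI : IsIntegrallyClosed Γ(Y, V) := IsIntegrallyClosed.of_equiv e
  letI := TopCat.Presheaf.algebra_section_stalk Y.presheaf ⟨f x, hyV⟩
  haveI : IsLocalization.AtPrime (Y.presheaf.stalk (f x))
      (hV.primeIdealOf ⟨f x, hyV⟩).asIdeal := hV.isLocalization_stalk ⟨f x, hyV⟩
  refine ⟨IsLocalization.isDomain_of_le_nonZeroDivisors (R := Γ(Y, V))
    (Y.presheaf.stalk (f x))
    (Ideal.primeCompl_le_nonZeroDivisors (hV.primeIdealOf ⟨f x, hyV⟩).asIdeal), ?_⟩
  exact isIntegrallyClosed_of_isLocalization (R := Γ(Y, V)) (S := Y.presheaf.stalk (f x))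
    (hV.primeIdealOf ⟨f x, hyV⟩).asIdeal.primeCompl
    (Ideal.primeCompl_le_nonZeroDivisors _)

end Groth.Agent.Lib.Helper29.FibNormal
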