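import Mathlib
import Groth.Prelude.Def_Pi1
import Groth.Agent.Lib.Helper29.FibNormal
import Groth.Agent.Lib.Helper11.IQ1

/-!
# Flat base change of a fibration (`O_Y ≅ f_* O_X`) and geometric normality (helper29)
-/

set_option autoImplicit false
set_option maxHeartbeats 1600000
set_option linter.style.haveILetI false
set_option linter.unusedSectionVars false
universe u
open CategoryTheory CategoryTheory.Limits AlgebraicGeometry TopologicalSpace Opposite

namespace Groth.Agent.Lib.Helper29.FibNormalBC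

open Groth.Agent.Lib.Helper11.IQ1 in
/-- Bijectivity of `O_Y(U) → O_X(p⁻¹U)` can be checked on a basis. -/
theorem bijective_app_of_basis {X Y : Scheme.{u}} (p : X ⟶ Y) {𝓑 : Set Y.Opens}
    (hB : Opens.IsBasis 𝓑)
    (hgood : ∀ U ∈ 𝓑, Function.Bijective (p.app U).hom) (U : Y.Opens) :
    Function.Bijective (p.app U).hom := by
  have hinj : ∀ W : Y.Opens, Function.Injective (p.app W).hom := by
    intro W a b hab
    apply eq_of_res_eq hB W a b
    intro V hV hVW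
    apply (hgood V hV).1
    rw [← app_res, ← app_res, hab]
  refine ⟨hinj U, fun s => ?_⟩
  have hloc : ∀ i : {V : Y.Opens // V ∈ 𝓑 ∧ V ≤ U}, ∃ a : Γ(Y, i.1),
      (p.app i.1).hom a = rX (p.preimage_mono i.2.2) s :=
    fun i => (hgood i.1 i.2.1).2 _
  choose sf hsf using hloc
  have hcompat : TopCat.Presheaf.IsCompatible Y.sheaf.1
      (fun i : {V : Y.Opens // V ∈ 𝓑 ∧ V ≤ U} => i.1) sf := by
    intro i j
    show rY (inf_le_left : i.1 ⊓ j.1 ≤ i.1) (sf i) = rY (inf_le_right : i.1 ⊓ j.1 ≤ j.1) (sf j)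
    apply hinj
    rw [← app_res, ← app_res, hsf i, hsf j, rX_rX, rX_rX]
  obtain ⟨a, ha, -⟩ := Y.sheaf.existsUnique_gluing'
    (fun i : {V : Y.Opens // V ∈ 𝓑 ∧ V ≤ U} => i.1) U (fun i => homOfLE i.2.2)
    (le_iSup_basis hB U) sf hcompat
  refine ⟨a, ?_⟩
  apply eq_of_resX_eq p hB U
  intro V hV hVU
  have ha' : rY hVU a = sf ⟨V, hV, hVU⟩ := ha ⟨V, hV, hVU⟩
  rw [app_res p hVU, ha', hsf ⟨V, hV, hVU⟩]

/-- Flat base change of a fibration is a fibration. -/
theorem isIso_app_of_isPullback {X Y X' Y' : Scheme.{u}} {f : X ⟶ Y} {pY : Y' ⟶ Y} {pX : X' ⟶ X}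
    {f' : X' ⟶ Y'} (H : IsPullback pX f' f pY) [Flat pY] [NoetherianSpace X]
    [QuasiSeparatedSpace X] (hfib : ∀ V : Y.Opens, IsIso (f.app V)) (V : Y'.Opens) :
    IsIso (f'.app V) := by
  classical
  let 𝓑 : Set Y'.Opens :=
    {V' | IsAffineOpen V' ∧ ∃ V₀ : Y.Opens, IsAffineOpen V₀ ∧ V' ≤ pY ⁻¹ᵁ V₀}
  have hB : Opens.IsBasis 𝓑 := by
    rw [Opens.isBasis_iff_nbhd]
    intro W y' hy'
    obtain ⟨V₀, hV₀, hyV₀, -⟩ := Opens.isBasis_iff_nbhd.mp Y.isBasis_affineOpens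
      (show pY y' ∈ (⊤ : Y.Opens) from trivial)
    obtain ⟨V', hV', hyV', hV'W⟩ := Opens.isBasis_iff_nbhd.mp Y'.isBasis_affineOpens
      (show y' ∈ W ⊓ pY ⁻¹ᵁ V₀ from ⟨hy', hyV₀⟩)
    exact ⟨V', ⟨hV', V₀, hV₀, hV'W.trans inf_le_right⟩, hyV', hV'W.trans inf_le_left⟩
  have hgood : ∀ U ∈ 𝓑, Function.Bijective (f'.app U).hom := by
    rintro V' ⟨hV', V₀, hV₀, hV'V₀⟩
    have hle : f' ⁻¹ᵁ V' ≤ pX ⁻¹ᵁ (f ⁻¹ᵁ V₀) := by
      calc f' ⁻¹ᵁ V' ≤ f' ⁻¹ᵁ (pY ⁻¹ᵁ V₀) := f'.preimage_mono hV'V₀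
        _ = (f' ≫ pY) ⁻¹ᵁ V₀ := rfl
        _ = (pX ≫ f) ⁻¹ᵁ V₀ := by rw [H.w]
        _ = pX ⁻¹ᵁ (f ⁻¹ᵁ V₀) := rfl
    have hUY : f' ⁻¹ᵁ V' = pX ⁻¹ᵁ (f ⁻¹ᵁ V₀) ⊓ f' ⁻¹ᵁ V' := (inf_eq_right.mpr hle).symm
    have hiso := isIso_pushoutSection_of_isQuasiSeparated_of_flat_right H hV'V₀
      (le_refl (f ⁻¹ᵁ V₀)) hUY hV₀ hV'
      (NoetherianSpace.isCompact _) (IsQuasiSeparated.of_quasiSeparatedSpace _)
    have hpo := (isIso_pushoutSection_iff H hV'V₀ (le_refl (f ⁻¹ᵁ V₀)) hUY).mp hiso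
    haveI : IsIso (f.appLE V₀ (f ⁻¹ᵁ V₀) (le_refl _)) := by
      have h1 : f.appLE V₀ (f ⁻¹ᵁ V₀) (le_refl _) = f.app V₀ := (Scheme.Hom.app_eq_appLE f).symm
      rw [h1]; exact hfib V₀
    have h2 := hpo.isIso_inr_of_isIso
    have h3 : IsIso (f'.app V') := by
      rw [Scheme.Hom.app_eq_appLE]; exact h2
    exact ConcreteCategory.bijective_of_isIso (f'.app V')
  have hbij := bijective_app_of_basis f' hB hgood V
  exact (ConcreteCategory.isIso_iff_bijective (f'.app V)).mpr hbij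

theorem main19515 (k : Type u) [Field k] (X Y : Scheme.{u})
    [X.Over (Spec (CommRingCat.of k))] [Y.Over (Spec (CommRingCat.of k))] [IsProper (X ↘ Spec (CommRingCat.of k))] [IsProper (Y ↘ Spec (CommRingCat.of k))]
    (f : X ⟶ Y) (hf : f ≫ (Y ↘ Spec (CommRingCat.of k)) = X ↘ Spec (CommRingCat.of k)) (hfib : ∀ V : Y.Opens, IsIso (f.app V))
    (hX : ∀ (K : Type u) [Field K] [Algebra k K] [IsAlgClosure k K],
      Pi1.IsNormalScheme (pullback (X ↘ Spec (CommRingCat.of k)) (Spec.map (CommRingCat.ofHom (algebraMap k K)))))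
    (K : Type u) [Field K] [Algebra k K] [IsAlgClosure k K] :
    Pi1.IsNormalScheme (pullback (Y ↘ Spec (CommRingCat.of k)) (Spec.map (CommRingCat.ofHom (algebraMap k K)))) := by
  haveI : IsLocallyNoetherian X :=
    LocallyOfFiniteType.isLocallyNoetherian (X ↘ Spec (CommRingCat.of k))
  haveI : CompactSpace X :=
    (quasiCompact_iff_compactSpace (X ↘ Spec (CommRingCat.of k))).mp inferInstance
  haveI : AlgebraicGeometry.IsNoetherian X := @AlgebraicGeometry.IsNoetherian.mk X ‹_› ‹_›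
  haveI : NoetherianSpace X := inferInstance
  haveI : QuasiSeparatedSpace X :=
    quasiSeparatedSpace_of_quasiSeparated (X ↘ Spec (CommRingCat.of k))
  haveI : Flat (Spec.map (CommRingCat.ofHom (algebraMap k K))) := inferInstance
  haveI : Flat (pullback.fst (Y ↘ Spec (CommRingCat.of k))
      (Spec.map (CommRingCat.ofHom (algebraMap k K)))) :=
    MorphismProperty.pullback_fst (P := @Flat) _ _ inferInstance
  have hcond : (pullback.fst (X ↘ Spec (CommRingCat.of k))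
      (Spec.map (CommRingCat.ofHom (algebraMap k K))) ≫ f) ≫ (Y ↘ Spec (CommRingCat.of k)) =
      pullback.snd (X ↘ Spec (CommRingCat.of k))
        (Spec.map (CommRingCat.ofHom (algebraMap k K))) ≫
        Spec.map (CommRingCat.ofHom (algebraMap k K)) := by
    rw [Category.assoc, hf, pullback.condition]
  obtain ⟨fK, hfK1, hfK2⟩ : ∃ fK : pullback (X ↘ Spec (CommRingCat.of k))
      (Spec.map (CommRingCat.ofHom (algebraMap k K))) ⟶
      pullback (Y ↘ Spec (CommRingCat.of k)) (Spec.map (CommRingCat.ofHom (algebraMap k K))),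
      fK ≫ pullback.fst _ _ = pullback.fst _ _ ≫ f ∧ fK ≫ pullback.snd _ _ = pullback.snd _ _ :=
    ⟨pullback.lift _ _ hcond, pullback.lift_fst _ _ _, pullback.lift_snd _ _ _⟩
  have H : IsPullback (pullback.fst (X ↘ Spec (CommRingCat.of k))
      (Spec.map (CommRingCat.ofHom (algebraMap k K)))) fK f
      (pullback.fst (Y ↘ Spec (CommRingCat.of k))
        (Spec.map (CommRingCat.ofHom (algebraMap k K)))) := by
    refine IsPullback.of_bot ?_ hfK1.symm (IsPullback.of_hasPullback (Y ↘ Spec (CommRingCat.of k))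
      (Spec.map (CommRingCat.ofHom (algebraMap k K))))
    rw [hfK2, hf]
    exact IsPullback.of_hasPullback _ _
  have hfibK : ∀ V, IsIso (fK.app V) := isIso_app_of_isPullback H hfib
  exact @Groth.Agent.Lib.Helper29.FibNormal.main19513 K _ _ _ ⟨pullback.snd _ _⟩ ⟨pullback.snd _ _⟩
    (MorphismProperty.pullback_snd (P := @IsProper) _ _ inferInstance)
    (MorphismProperty.pullback_snd (P := @IsProper) _ _ inferInstance) fK hfK2 hfibK (hX K)

end Groth.Agent.Lib.Helper29.FibNormalBC
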