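import Groth.Agent.Lib.Helper29.InfTorsor
import Groth.Agent.Lib.Helper29.SmoothHom

/-!
# Helper library (helper29): a finite group scheme is the semidirect product of its reduced
subgroup and its identity component

* `main14587`
-/

set_option autoImplicit false
set_option maxHeartbeats 1600000
universe u

namespace Groth.Agent.Lib.Helper29.FinGrpSplit

open CategoryTheory CategoryTheory.Limits AlgebraicGeometry MonoidalCategory
  CartesianMonoidalCategory MonObj GrpObj
open Groth.Agent.Lib.Helper29 Groth.Agent.Lib.Helper29.AssocBundle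
  Groth.Agent.Lib.Helper29.SGA3Quot Groth.Agent.Lib.Helper29.InfTorsor
  Groth.Agent.Lib.Helper29.SmoothHom Groth.Agent.Lib.Helper29.TorsorMisc

theorem main14587 (k : Type u) [Field k] [PerfectField k]
    (G Gr G₀ : Over (Spec (CommRingCat.of k))) [GrpObj G] [GrpObj Gr] [GrpObj G₀] [IsFinite G.hom]
    (r : Gr ⟶ G) [IsMonHom r] [IsClosedImmersion r.left] [IsReduced Gr.left] [Surjective r.left]
    (i₀ : G₀ ⟶ G) [IsMonHom i₀] [IsOpenImmersion i₀.left] [ConnectedSpace ↥G₀.left] :
    IsIso ((r ⊗ₘ i₀) ≫ μ[G]) := by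
  obtain ⟨m, hm⟩ : ∃ m : Gr ⊗ G₀ ⟶ G, m = (r ⊗ₘ i₀) ≫ μ[G] := ⟨_, rfl⟩
  rw [← hm]
  have hmpt : ∀ {T : Over (Spec (CommRingCat.of k))} (x : T ⟶ Gr ⊗ G₀),
      x ≫ m = ((x ≫ fst Gr G₀) ≫ r) * ((x ≫ snd Gr G₀) ≫ i₀) := by
    intro T x
    have hx : x = lift (x ≫ fst Gr G₀) (x ≫ snd Gr G₀) := by
      apply CartesianMonoidalCategory.hom_ext
      · rw [lift_fst]
      · rw [lift_snd]
    conv_lhs => rw [hx]
    rw [hm, ← Category.assoc, lift_map, Hom.mul_def]
  haveI : IsFinite (r.left ≫ G.hom) := inferInstance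
  haveI : IsFinite Gr.hom := by rw [← Over.w r]; infer_instance
  haveI : LocallyQuasiFinite (i₀.left ≫ G.hom) := inferInstance
  haveI : LocallyQuasiFinite G₀.hom := by rw [← Over.w i₀]; infer_instance
  haveI : IsSeparated (i₀.left ≫ G.hom) := inferInstance
  haveI : IsSeparated G₀.hom := by rw [← Over.w i₀]; infer_instance
  -- the intersection of `Gr` and `G₀` is trivial
  have key : ∀ {T : Over (Spec (CommRingCat.of k))} (a : T ⟶ Gr) (b : T ⟶ G₀),
      a ≫ r = b ≫ i₀ → b = 1 := by
    intro T a b hab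
    haveI : IsReduced (pullback r.left i₀.left) :=
      isReduced_of_isOpenImmersion (pullback.fst r.left i₀.left)
    let Ko : Over (Spec (CommRingCat.of k)) := Over.mk (pullback.snd r.left i₀.left ≫ G₀.hom)
    haveI : IsReduced Ko.left := ‹IsReduced (pullback r.left i₀.left)›
    let bK : Ko ⟶ G₀ := Over.homMk (pullback.snd r.left i₀.left) rfl
    have hbK : bK = 1 := pt_eq_one_of_isReduced' G₀ Ko bK
    have hab' : a.left ≫ r.left = b.left ≫ i₀.left := congrArg (fun f => f.left) hab
    let t : T ⟶ Ko := Over.homMk (pullback.lift a.left b.left hab') (by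
      show pullback.lift a.left b.left hab' ≫ pullback.snd r.left i₀.left ≫ G₀.hom = T.hom
      rw [pullback.lift_snd_assoc]
      exact Over.w b)
    have hb : b = t ≫ bK := by
      apply Over.OverMorphism.ext
      show b.left = pullback.lift a.left b.left hab' ≫ pullback.snd r.left i₀.left
      rw [pullback.lift_snd]
    rw [hb, hbK, MonObj.comp_one]
  haveI : Mono r.left := inferInstance
  haveI : Mono r := (Over.forget _).mono_of_mono_map (inferInstance : Mono r.left)
  haveI hmono : Mono m := ⟨fun {T} x y hxy => by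
    rw [hmpt, hmpt] at hxy
    have h1 : ((y ≫ fst Gr G₀)⁻¹ * (x ≫ fst Gr G₀)) ≫ r =
        ((y ≫ snd Gr G₀) * (x ≫ snd Gr G₀)⁻¹) ≫ i₀ := by
      rw [MonObj.mul_comp, GrpObj.inv_comp, MonObj.mul_comp, GrpObj.inv_comp,
        _root_.inv_mul_eq_iff_eq_mul, ← _root_.mul_assoc, ← hxy, _root_.mul_assoc,
        _root_.mul_inv_cancel, _root_.mul_one]
    have h2 := key _ _ h1
    have hb : x ≫ snd Gr G₀ = y ≫ snd Gr G₀ := (_root_.mul_inv_eq_one.1 h2).symm
    have ha : x ≫ fst Gr G₀ = y ≫ fst Gr G₀ := by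
      rw [hb] at hxy
      exact (cancel_mono r).1 (_root_.mul_right_cancel hxy)
    exact CartesianMonoidalCategory.hom_ext _ _ ha hb⟩
  -- factorisation of `m`
  obtain ⟨τ, hτ⟩ : ∃ τ : Gr ⊗ G ⟶ Gr ⊗ G,
      τ = lift (fst Gr G) ((fst Gr G ≫ r) * snd Gr G) := ⟨_, rfl⟩
  obtain ⟨τ', hτ'⟩ : ∃ τ' : Gr ⊗ G ⟶ Gr ⊗ G,
      τ' = lift (fst Gr G) ((fst Gr G ≫ r)⁻¹ * snd Gr G) := ⟨_, rfl⟩
  have h12 : τ ≫ τ' = 𝟙 _ := by
    rw [hτ', comp_lift, MonObj.comp_mul, GrpObj.comp_inv, ← Category.assoc, hτ, lift_fst,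
      lift_snd, _root_.inv_mul_cancel_left, lift_fst_snd]
  have h21 : τ' ≫ τ = 𝟙 _ := by
    rw [hτ, comp_lift, MonObj.comp_mul, ← Category.assoc, hτ', lift_fst,
      lift_snd, _root_.mul_inv_cancel_left, lift_fst_snd]
  haveI : IsIso τ := ⟨τ', h12, h21⟩
  haveI : IsIso τ.left := (Over.forget _).map_isIso τ
  have hfac : m = (Gr ◁ i₀) ≫ τ ≫ snd Gr G := by
    have e1 : m = 𝟙 _ ≫ m := (Category.id_comp m).symm
    rw [e1, hmpt, Category.id_comp, Category.id_comp, hτ, lift_snd, MonObj.comp_mul,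
      ← Category.assoc, whiskerLeft_fst, whiskerLeft_snd]
  haveI hopen : IsOpenImmersion (Gr ◁ i₀).left :=
    MorphismProperty.of_isPullback (P := @IsOpenImmersion)
      ((isPullback_whiskerLeft_snd Gr i₀).flip.map (Over.forget _))
      (inferInstance : IsOpenImmersion i₀.left)
  haveI : IsLocallyNoetherian (Spec (CommRingCat.of k)) := inferInstance
  haveI : Flat Gr.hom := flat_over_field Gr.hom
  haveI : LocallyOfFiniteType Gr.hom := inferInstance
  haveI : LocallyOfFinitePresentation Gr.hom := inferInstance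
  haveI hsndf : Flat (snd Gr G).left := by
    show Flat (pullback.snd Gr.hom G.hom)
    infer_instance
  haveI hsndp : LocallyOfFinitePresentation (snd Gr G).left := by
    show LocallyOfFinitePresentation (pullback.snd Gr.hom G.hom)
    infer_instance
  have hfacl : m.left = (Gr ◁ i₀).left ≫ τ.left ≫ (snd Gr G).left := by
    rw [hfac]
    rfl
  haveI hflat : Flat m.left := by
    rw [hfacl]
    infer_instance
  haveI hlfp : LocallyOfFinitePresentation m.left := by
    rw [hfacl]
    infer_instance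
  -- surjectivity
  have hsec : lift (𝟙 Gr) (toUnit Gr ≫ η[G₀]) ≫ m = r := by
    rw [hmpt, lift_fst, lift_snd, Category.id_comp, Category.assoc, IsMonHom.one_hom,
      ← Hom.one_def, _root_.mul_one]
  haveI : Surjective ((lift (𝟙 Gr) (toUnit Gr ≫ η[G₀])).left ≫ m.left) := by
    have e : (lift (𝟙 Gr) (toUnit Gr ≫ η[G₀])).left ≫ m.left = r.left :=
      congrArg (fun f => f.left) hsec
    rw [e]
    infer_instance
  haveI hsurj : Surjective m.left := Surjective.of_comp (lift (𝟙 Gr) (toUnit Gr ≫ η[G₀])).left m.left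
  -- descent
  haveI : Mono m.left := inferInstance
  have sq : IsPullback (pullback.fst m.left m.left) (pullback.snd m.left m.left) m.left m.left :=
    IsPullback.of_hasPullback _ _
  have hsnd : MorphismProperty.isomorphisms Scheme.{u} (pullback.snd m.left m.left) := by
    show IsIso (pullback.snd m.left m.left)
    infer_instance
  have hiso : MorphismProperty.isomorphisms Scheme.{u} m.left :=
    (ocovFppf m hsurj hflat hlfp).prop_of_base_change
      (MorphismProperty.isomorphisms Scheme.{u}) m.left _ _ sq hsnd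
  haveI : IsIso ((Over.forget _).map m) := hiso
  exact isIso_of_reflects_iso m (Over.forget _)

end Groth.Agent.Lib.Helper29.FinGrpSplit
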