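import Mathlib

/-!
# `Spec 𝒪_{X,x} ⟶ X` is an open immersion when `x` has a finite open neighbourhood

Used for S14888 (locally quasi-finite schemes over a valuation ring with finite spectrum).
-/

set_option autoImplicit false
set_option maxHeartbeats 1600000
universe u
open CategoryTheory AlgebraicGeometry TopologicalSpace

namespace Groth.Agent.Lib.Helper29.FinSpecStalk

/-- In a topological space, if `U` is a finite open set, then the set of generizations of `x`
lying in `U` is open. -/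
lemma isOpen_generizations_inter {X : Type*} [TopologicalSpace X] (x : X) (U : Set X)
    (hU : IsOpen U) (hfin : U.Finite) : IsOpen ({y | y ⤳ x} ∩ U) := by
  have hSfin : ({y | y ∈ U ∧ ¬ y ⤳ x} : Set X).Finite := hfin.subset fun y hy => hy.1
  have hC : IsClosed (⋃ y ∈ ({y | y ∈ U ∧ ¬ y ⤳ x} : Set X), closure ({y} : Set X)) :=
    hSfin.isClosed_biUnion fun y _ => isClosed_closure
  have hEq : {y | y ⤳ x} ∩ U =
      U ∩ (⋃ y ∈ ({y | y ∈ U ∧ ¬ y ⤳ x} : Set X), closure ({y} : Set X))ᶜ := by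
    ext y
    constructor
    · rintro ⟨hyx, hyU⟩
      refine ⟨hyU, fun hy => ?_⟩
      simp only [Set.mem_iUnion] at hy
      obtain ⟨z, hz, hy⟩ := hy
      have hzy : z ⤳ y := specializes_iff_mem_closure.mpr hy
      exact hz.2 (hzy.trans hyx)
    · rintro ⟨hyU, hy⟩
      refine ⟨?_, hyU⟩
      by_contra hyx
      apply hy
      simp only [Set.mem_iUnion]
      exact ⟨y, ⟨hyU, hyx⟩, subset_closure (Set.mem_singleton y)⟩
  rw [hEq]
  exact hU.inter hC.isOpen_compl

/-- If every point of an affine open neighbourhood `V` of `x` generizes `x`, then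
`Spec 𝒪_{X,x} ⟶ X` is an open immersion. -/
lemma isOpenImmersion_fromSpecStalk_of_forall_specializes {X : Scheme.{u}} (x : X) (V : X.Opens)
    (hV : IsAffineOpen V) (hxV : x ∈ V) (h : ∀ y ∈ V, y ⤳ x) :
    IsOpenImmersion (X.fromSpecStalk x) := by
  letI := X.presheaf.algebra_section_stalk ⟨x, hxV⟩
  have hloc : IsLocalization.AtPrime (X.presheaf.stalk x) (hV.primeIdealOf ⟨x, hxV⟩).asIdeal :=
    hV.isLocalization_stalk ⟨x, hxV⟩
  have hPx : hV.fromSpec (hV.primeIdealOf ⟨x, hxV⟩) = x := hV.fromSpec_primeIdealOf ⟨x, hxV⟩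
  have hunits : (hV.primeIdealOf ⟨x, hxV⟩).asIdeal.primeCompl ≤ IsUnit.submonoid Γ(X, V) := by
    intro s hs
    by_contra hsu
    obtain ⟨m, hm, hsm⟩ :=
      exists_max_ideal_of_mem_nonunits (show s ∈ nonunits Γ(X, V) from fun hu => hsu hu)
    let Q : PrimeSpectrum Γ(X, V) := ⟨m, hm.isPrime⟩
    have hQV : hV.fromSpec Q ∈ V := by
      rw [← SetLike.mem_coe, ← hV.range_fromSpec]
      exact Set.mem_range_self Q
    have hspec : hV.fromSpec Q ⤳ hV.fromSpec (hV.primeIdealOf ⟨x, hxV⟩) := by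
      rw [hPx]; exact h _ hQV
    have hQP : Q ⤳ hV.primeIdealOf ⟨x, hxV⟩ :=
      hV.fromSpec.isOpenEmbedding.isInducing.specializes_iff.mp hspec
    have hle : Q ≤ hV.primeIdealOf ⟨x, hxV⟩ := (PrimeSpectrum.le_iff_specializes _ _).mpr hQP
    exact hs ((PrimeSpectrum.asIdeal_le_asIdeal _ _).mpr hle hsm)
  have hbij : Function.Bijective (X.presheaf.germ V x hxV).hom := by
    let e : Γ(X, V) ≃ₐ[Γ(X, V)] (X.presheaf.stalk x) :=
      IsLocalization.atUnits Γ(X, V) (hV.primeIdealOf ⟨x, hxV⟩).asIdeal.primeCompl hunits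
    have he : ∀ r, e r = (X.presheaf.germ V x hxV).hom r := fun r => e.commutes r
    have hfun : ((X.presheaf.germ V x hxV).hom : Γ(X, V) → X.presheaf.stalk x) = e :=
      funext fun r => (he r).symm
    rw [hfun]; exact e.bijective
  have hiso : IsIso (X.presheaf.germ V x hxV) :=
    (ConcreteCategory.isIso_iff_bijective _).mpr hbij
  rw [← hV.fromSpecStalk_eq_fromSpecStalk hxV]
  unfold IsAffineOpen.fromSpecStalk
  infer_instance

theorem main14888
    (R : Type u) [CommRing R] [IsDomain R] [ValuationRing R] [Finite (PrimeSpectrum R)]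
    {X : Scheme.{u}} (f : X ⟶ Spec (CommRingCat.of R)) [LocallyOfFiniteType f]
    [LocallyQuasiFinite f] (x : X) :
    IsOpenImmersion (X.fromSpecStalk x) ∧ LocallyOfFiniteType (X.fromSpecStalk x ≫ f) := by
  obtain ⟨U, hU, hxU⟩ : ∃ U : X.Opens, IsAffineOpen U ∧ x ∈ U := by
    obtain ⟨_, ⟨U, hU : IsAffineOpen U, rfl⟩, hxU, -⟩ :=
      X.isBasis_affineOpens.exists_subset_of_mem_open (Set.mem_univ x) isOpen_univ
    exact ⟨U, hU, hxU⟩
  haveI : IsAffine (U : Scheme.{u}) := hU
  haveI : Finite ↥(Spec (CommRingCat.of R)) := inferInstanceAs (Finite (PrimeSpectrum R))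
  have hfinU : Finite ↥(U : Scheme.{u}) := by
    have h1 := (U.ι ≫ f).finite_preimage (Set.finite_univ (α := ↥(Spec (CommRingCat.of R))))
    rw [Set.preimage_univ] at h1
    exact Set.finite_univ_iff.mp h1
  have hUfin : (U : Set X).Finite := by
    rw [← Scheme.Opens.range_ι U]
    exact Set.finite_range _
  have hopen : IsOpen ({y | y ⤳ x} ∩ (U : Set X)) :=
    isOpen_generizations_inter x (U : Set X) U.isOpen hUfin
  obtain ⟨V, hV, hxV, hVG⟩ : ∃ V : X.Opens, IsAffineOpen V ∧ x ∈ V ∧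
      (V : Set X) ⊆ {y | y ⤳ x} ∩ (U : Set X) := by
    obtain ⟨_, ⟨V, hV : IsAffineOpen V, rfl⟩, hxV, hVG⟩ :=
      X.isBasis_affineOpens.exists_subset_of_mem_open
        (show x ∈ {y | y ⤳ x} ∩ (U : Set X) from ⟨specializes_rfl, hxU⟩) hopen
    exact ⟨V, hV, hxV, hVG⟩
  have h1 : IsOpenImmersion (X.fromSpecStalk x) :=
    isOpenImmersion_fromSpecStalk_of_forall_specializes x V hV hxV fun y hy => (hVG hy).1
  exact ⟨h1, inferInstance⟩

end Groth.Agent.Lib.Helper29.FinSpecStalk
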