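import Mathlib
import Groth.Agent.Lib.Helper3.Reduced

/-!
# A flat separated surjective birational morphism of integral schemes is an isomorphism (S10879)
-/
set_option autoImplicit false
set_option maxHeartbeats 1600000
set_option linter.style.haveILetI false
universe u
open CategoryTheory CategoryTheory.Limits AlgebraicGeometry

noncomputable section

namespace Groth.Agent.Lib.Helper29.FlatBirat2

theorem mono_of_flat_dense {X S Y : Scheme.{u}} (f : X ⟶ S) [Flat f] [IsSeparated f]
    (j : Y ⟶ X) [Flat j] [QuasiCompact j] [IsSchemeTheoreticallyDominant j]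
    [Mono (j ≫ f)] : Mono f := by
  let p1 : pullback f f ⟶ X := pullback.fst f f
  let p2 : pullback f f ⟶ X := pullback.snd f f
  let a₁ : pullback p1 j ⟶ pullback f f := pullback.fst p1 j
  let q : pullback p1 j ⟶ X := a₁ ≫ p2
  haveI : Flat q := by dsimp only [q, a₁, p2]; infer_instance
  let a₂ : pullback q j ⟶ pullback p1 j := pullback.fst q j
  let m : pullback q j ⟶ pullback f f := a₂ ≫ a₁
  haveI : IsSchemeTheoreticallyDominant a₁ := by dsimp only [a₁]; infer_instance
  haveI : IsSchemeTheoreticallyDominant a₂ := by dsimp only [a₂]; infer_instance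
  haveI : IsSchemeTheoreticallyDominant m := by dsimp only [m]; infer_instance
  let v₁ : pullback q j ⟶ Y := a₂ ≫ pullback.snd p1 j
  let v₂ : pullback q j ⟶ Y := pullback.snd q j
  have e1 : m ≫ p1 = v₁ ≫ j := by
    dsimp only [m, v₁, a₁]
    rw [Category.assoc, Category.assoc, pullback.condition]
  have e2 : m ≫ p2 = v₂ ≫ j := by
    dsimp only [m, v₂, a₂]
    rw [Category.assoc]
    exact pullback.condition
  clear_value m v₁ v₂
  have hc : (m ≫ p1) ≫ f = (m ≫ p2) ≫ f := by
    rw [Category.assoc, Category.assoc, show p1 ≫ f = p2 ≫ f from pullback.condition]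
  have hv : v₁ = v₂ := by
    rw [← cancel_mono (j ≫ f)]
    calc v₁ ≫ j ≫ f = (m ≫ p1) ≫ f := by rw [e1, Category.assoc]
      _ = (m ≫ p2) ≫ f := hc
      _ = v₂ ≫ j ≫ f := by rw [e2, Category.assoc]
  have hm : m = (v₁ ≫ j) ≫ pullback.diagonal f := by
    apply pullback.hom_ext
    · have h3 : ((v₁ ≫ j) ≫ pullback.diagonal f) ≫ pullback.fst f f = v₁ ≫ j := by
        rw [Category.assoc, pullback.diagonal_fst, Category.comp_id]
      rw [h3]
      exact e1
    · have h3 : ((v₁ ≫ j) ≫ pullback.diagonal f) ≫ pullback.snd f f = v₂ ≫ j := by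
        rw [Category.assoc, pullback.diagonal_snd, Category.comp_id, hv]
      rw [h3]
      exact e2
  have hker : (pullback.diagonal f).ker = ⊥ := by
    rw [eq_bot_iff, ← Scheme.Hom.ker_eq_bot m, hm]
    exact Scheme.Hom.le_ker_comp _ _
  haveI : IsIso (pullback.diagonal f) := IsClosedImmersion.isIso_iff_ker_eq_bot.mpr hker
  exact (pullback.isIso_diagonal_iff f).mp inferInstance

theorem main10879 {X' X : Scheme.{u}} [IsIntegral X'] [IsIntegral X]
    (f : X' ⟶ X) [Surjective f] [IsSeparated f] (hK : IsIso (f.stalkMap (genericPoint X')))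
    (h : IsAffineHom f ∨ LocallyOfFinitePresentation f) :
    Flat f ↔ IsIso f := by
  refine ⟨fun hfl => ?_, fun hiso => inferInstance⟩
  haveI := hfl
  haveI := hK
  haveI : Flat (X'.fromSpecStalk (genericPoint X')) :=
    Groth.Agent.Lib.Helper3.flat_fromSpecStalk X' (genericPoint X')
  letI : Field (X'.presheaf.stalk (genericPoint X')) :=
    (inferInstance : Field X'.functionField)
  haveI : TopologicalSpace.NoetherianSpace ↥(Spec (X'.presheaf.stalk (genericPoint X'))) :=
    inferInstanceAs (TopologicalSpace.NoetherianSpace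
      (PrimeSpectrum (X'.presheaf.stalk (genericPoint X'))))
  haveI : QuasiCompact (X'.fromSpecStalk (genericPoint X')) :=
    quasiCompact_of_noetherianSpace_source _
  haveI : IsDominant (X'.fromSpecStalk (genericPoint X')) := by
    rw [isDominant_iff]
    have h1 : Dense ({genericPoint X'} : Set X') := by
      rw [dense_iff_closure_eq]
      exact (genericPoint_spec X').def
    refine h1.mono ?_
    rw [Scheme.range_fromSpecStalk]
    intro y hy
    rw [Set.mem_singleton_iff] at hy
    rw [hy]
    exact specializes_rfl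
  haveI : IsSchemeTheoreticallyDominant (X'.fromSpecStalk (genericPoint X')) :=
    IsSchemeTheoreticallyDominant.of_isDominant _
  haveI : IsIso (Spec.map (f.stalkMap (genericPoint X'))) := inferInstance
  haveI : Mono (X'.fromSpecStalk (genericPoint X') ≫ f) := by
    rw [← Scheme.SpecMap_stalkMap_fromSpecStalk]
    infer_instance
  haveI : Mono f := mono_of_flat_dense f (X'.fromSpecStalk (genericPoint X'))
  rcases h with h | h
  · haveI := h
    exact isIso_of_mono_of_strongEpi f
  · haveI := h
    exact isIso_of_mono_of_strongEpi f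

end Groth.Agent.Lib.Helper29.FlatBirat2
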