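import Groth.Agent.Lib.Helper29.TorsorDesc
import Groth.Prelude.Def_ChGrp
import Mathlib.CategoryTheory.MorphismProperty.Local
import Mathlib.CategoryTheory.Limits.Constructions.Over.Connected

/-!
# Helper library (helper29): applications of fpqc/fppf locality on the target
-/

set_option autoImplicit false
set_option maxHeartbeats 1600000
universe u
open CategoryTheory CategoryTheory.Limits AlgebraicGeometry MonoidalCategory CartesianMonoidalCategory
  MorphismProperty MonObj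

namespace Groth.Agent.Lib.Helper29.FpqcLocal

open Groth.Agent.Lib.Helper29.TorsorDesc

theorem iff_snd_of_isPullback (P : MorphismProperty Scheme.{u}) [P.RespectsIso] {A X S T : Scheme.{u}}
    {a : A ⟶ X} {b : A ⟶ T} {f : X ⟶ S} {g : T ⟶ S} (sq : IsPullback a b f g) :
    P b ↔ P (pullback.snd f g) := by
  rw [← sq.isoPullback_hom_snd, P.cancel_left_of_respectsIso]

theorem isPullback_id_of_mono {C : Type*} [Category C] {X V Z : C} (g : X ⟶ V) (j : V ⟶ Z) [Mono j] :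
    IsPullback (𝟙 X) g (g ≫ j) j := by
  refine ⟨⟨by rw [Category.id_comp]⟩, ⟨PullbackCone.IsLimit.mk _ (fun s => s.fst) (fun s => ?_) (fun s => ?_)
    (fun s m h1 _ => ?_)⟩⟩
  · exact Category.comp_id _
  · rw [← cancel_mono j, Category.assoc]
    exact s.condition
  · rw [← h1]
    exact (Category.comp_id _).symm

theorem main19965 (S : Scheme.{u})
    (G H : Over S) [GrpObj G] [GrpObj H] (i : H ⟶ G)
    (Q : Over S) (aQ : AlgGrp.Action G Q) (q₀ : 𝟙_ (Over S) ⟶ Q)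
    (hQ : ChGrp.IsHomog Scheme.fppfPrecoverage i aQ q₀)
    (P : MorphismProperty Scheme.{u}) [P.IsStableUnderBaseChange]
    [P.IsLocalAtTarget Scheme.fppfPrecoverage]
    (hP : P H.hom) : P (aQ.orbitMap q₀).left := by
  obtain ⟨-, sq, R, hR, hsec⟩ := hQ
  have sq' : IsPullback (fst G H).left ((G ◁ i) ≫ μ[G]).left (aQ.orbitMap q₀).left
      (aQ.orbitMap q₀).left := sq.map (Over.forget S)
  have h1 : P (fst G H).left := P.pullback_fst G.hom H.hom hP
  have h2 : P (pullback.snd (aQ.orbitMap q₀).left (aQ.orbitMap q₀).left) :=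
    (iff_snd_of_isPullback P sq'.flip).mp h1
  refine MorphismProperty.IsLocalAtTarget.of_forall_pullbackSnd (P := P)
    (K := Scheme.fppfPrecoverage) hR ?_
  intro U g _ hg
  obtain ⟨s, hs⟩ := hsec g hg
  have hs' : s ≫ (aQ.orbitMap q₀).left = g := hs
  subst hs'
  exact snd_comp P (aQ.orbitMap q₀).left (aQ.orbitMap q₀).left s h2

theorem main5390 (P : MorphismProperty Scheme.{u}) [P.IsStableUnderBaseChange] [IsZariskiLocalAtTarget P]
    [P.DescendsAlong (@Flat ⊓ @Surjective ⊓ @QuasiCompact)]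
    (X Y Y' : Scheme.{u}) (f : X ⟶ Y) (g : Y' ⟶ Y) [Flat g] (hg : IsOpenMap g.base)
    (W : Y.Opens) (hW : P (f ∣_ W)) (hmax : ∀ W₀ : Y.Opens, P (f ∣_ W₀) → W₀ ≤ W)
    (W₁ : Y'.Opens) (hW₁ : P (pullback.snd f g ∣_ W₁))
    (hmax₁ : ∀ W₀ : Y'.Opens, P (pullback.snd f g ∣_ W₀) → W₀ ≤ W₁) :
    W₁ = g ⁻¹ᵁ W := by
  haveI : P.DescendsAlong (@Surjective ⊓ @Flat ⊓ @QuasiCompact : MorphismProperty Scheme.{u}) :=
    MorphismProperty.DescendsAlong.of_le
      (Q := (@Flat ⊓ @Surjective ⊓ @QuasiCompact : MorphismProperty Scheme.{u}))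
      (fun _ _ _ h => ⟨⟨h.1.2, h.1.1⟩, h.2⟩)
  have res : ∀ {A B : Scheme.{u}} (k : A ⟶ B) (U : B.Opens), P (k ∣_ U) ↔ P (pullback.snd k U.ι) :=
    fun k U => iff_snd_of_isPullback P (isPullback_morphismRestrict k U).flip
  apply le_antisymm
  · -- `W₁ ≤ g⁻¹ W`
    let W' : Y.Opens := ⟨g.base '' (W₁ : Set Y'), hg _ W₁.2⟩
    have hrange : Set.range (W₁.ι ≫ g) ⊆ Set.range W'.ι := by
      rintro _ ⟨x, rfl⟩
      rw [Scheme.Opens.range_ι]
      exact ⟨x.1, x.2, by rw [Scheme.Hom.comp_apply]; rfl⟩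
    let g₁ : W₁.toScheme ⟶ W'.toScheme := IsOpenImmersion.lift W'.ι (W₁.ι ≫ g) hrange
    have hg₁ : g₁ ≫ W'.ι = W₁.ι ≫ g := IsOpenImmersion.lift_fac _ _ _
    have hfl : Flat g₁ := by
      have sq : IsPullback (𝟙 _) g₁ (g₁ ≫ W'.ι) W'.ι := isPullback_id_of_mono g₁ W'.ι
      have hc : Flat (g₁ ≫ W'.ι) := by rw [hg₁]; infer_instance
      exact MorphismProperty.of_isPullback (P := @Flat) sq hc
    haveI hsurj : Surjective g₁ := by
      refine ⟨fun y => ?_⟩
      obtain ⟨x, hx, hxy⟩ := y.2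
      refine ⟨⟨x, hx⟩, ?_⟩
      apply W'.ι.injective
      rw [← Scheme.Hom.comp_apply, hg₁, Scheme.Hom.comp_apply]
      exact hxy
    have hopen : IsOpenMap g₁ := by
      rw [W'.ι.isOpenEmbedding.isOpenMap_iff]
      have e : ⇑W'.ι ∘ ⇑g₁ = ⇑g ∘ ⇑W₁.ι := by
        ext x
        show W'.ι (g₁ x) = g (W₁.ι x)
        rw [← Scheme.Hom.comp_apply, hg₁, Scheme.Hom.comp_apply]
      rw [e]
      exact IsOpenMap.comp hg W₁.ι.isOpenEmbedding.isOpenMap
    let 𝒰₀ : Scheme.Cover.{u} (Scheme.precoverage @Flat) W'.toScheme := g₁.cover hfl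
    haveI : QuasiCompactCover 𝒰₀.toPreZeroHypercover :=
      QuasiCompactCover.of_isOpenMap (fun _ => hopen)
    let 𝒰 : Scheme.Cover.{u} (Scheme.propQCPrecoverage @Flat) W'.toScheme :=
      Scheme.Cover.ofQuasiCompactCover 𝒰₀
    have hPW' : P (pullback.snd f W'.ι) := by
      refine of_propQCCover P (pullback.snd f W'.ι) 𝒰 (fun i => ?_)
      change P (pullback.snd (pullback.snd f W'.ι) g₁)
      rw [← snd_comp_iff P, snd_congr P f hg₁, snd_comp_iff P, ← res]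
      exact hW₁
    have hle : W' ≤ W := hmax W' ((res f W').mpr hPW')
    intro x hx
    exact hle ⟨x, hx, rfl⟩
  · -- `g⁻¹ W ≤ W₁`
    apply hmax₁
    rw [res, ← snd_comp_iff P]
    have e : (g ⁻¹ᵁ W).ι ≫ g = (g ∣_ W) ≫ W.ι := (morphismRestrict_ι g W).symm
    rw [snd_congr P f e]
    exact snd_comp P f W.ι (g ∣_ W) ((res f W).mp hW)

end Groth.Agent.Lib.Helper29.FpqcLocal
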