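import Mathlib
import Groth.Agent.Lib.Helper25.RegPerfectSmooth
import Groth.Agent.Lib.Helper12.ConsPropBasic
import Groth.Agent.Lib.Helper12.FibreDimConstr

/-!
# Generic smoothness on the target for regular sources and perfect function fields (helper29)

After helper25's proof of `S10930`.
-/

set_option autoImplicit false
set_option maxHeartbeats 1600000
set_option linter.style.haveILetI false
universe u

open CategoryTheory CategoryTheory.Limits AlgebraicGeometry

namespace Groth.Agent.Lib.Helper29.GenSmooth2

theorem main7776 (X Y : Scheme.{u}) [IsIntegral X] [IsIntegral Y]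
    [IsLocallyNoetherian X] (hreg : ∀ x : X, IsRegularLocalRing (X.presheaf.stalk x))
    (f : X ⟶ Y) [IsDominant f] [LocallyOfFinitePresentation f] [QuasiCompact f]
    [PerfectField Y.functionField] :
    ∃ V : Y.Opens, Dense (V : Set Y) ∧ Smooth (f ∣_ V) := by
  -- every point of the generic fibre is a smooth point of `f`
  have key : ∀ z : X, f z = genericPoint Y → z ∈ f.smoothLocus := by
    intro z hz
    rw [Scheme.Hom.mem_smoothLocus]
    let e : Y.presheaf.stalk (f z) ≅ Y.presheaf.stalk (genericPoint Y) :=
      Y.presheaf.stalkCongr (.of_eq hz)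
    obtain ⟨φ, hφ⟩ : ∃ φ : Y.functionField ⟶ X.presheaf.stalk z, φ = e.inv ≫ f.stalkMap z :=
      ⟨_, rfl⟩
    have hfac : f.stalkMap z = e.hom ≫ φ := by rw [hφ, e.hom_inv_id_assoc]
    have he : e.hom.hom.FormallySmooth :=
      RingHom.FormallySmooth.of_bijective (ConcreteCategory.bijective_of_isIso e.hom)
    have hφs : φ.hom.FormallySmooth := by
      letI := φ.hom.toAlgebra
      show Algebra.FormallySmooth Y.functionField (X.presheaf.stalk z)
      haveI : Algebra.EssFiniteType Y.functionField (X.presheaf.stalk z) := by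
        show φ.hom.EssFiniteType
        rw [hφ, CommRingCat.hom_comp]
        refine RingHom.EssFiniteType.comp ?_ (LocallyOfFiniteType.stalkMap f z)
        exact RingHom.FiniteType.essFiniteType
          (RingHom.FiniteType.of_surjective _ (ConcreteCategory.bijective_of_isIso e.inv).2)
      exact Groth.Agent.Lib.Helper25.RegPerfectSmooth.formallySmooth_of_isRegularLocalRing_of_perfectField
        _ _ (hreg z)
    rw [hfac, CommRingCat.hom_comp]
    exact he.comp hφs
  have hZc : Topology.IsLocallyConstructible ((f.smoothLocus : Set X)ᶜ) :=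
    Groth.Agent.Lib.Helper12.FibreDimConstr.isLocallyConstructible_of_isClosed _
      f.smoothLocus.2.isClosed_compl
  have hE : Topology.IsLocallyConstructible (f '' ((f.smoothLocus : Set X)ᶜ))ᶜ :=
    Groth.Agent.Lib.Helper12.ConstrNhds.isLocallyConstructible_compl (f.isLocallyConstructible_image hZc)
  have hgen : genericPoint Y ∈ (f '' ((f.smoothLocus : Set X)ᶜ))ᶜ := by
    rintro ⟨z, hz, hfz⟩
    exact hz (key z hfz)
  obtain ⟨v, hv⟩ := Groth.Agent.Lib.Helper12.ConsPropBasic.interior_nonempty_of_genericPoint_mem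
    _ hE hgen
  let V : Y.Opens := ⟨interior (f '' ((f.smoothLocus : Set X)ᶜ))ᶜ, isOpen_interior⟩
  refine ⟨V, V.2.dense ⟨v, hv⟩, ?_⟩
  have hsub : ∀ x : X, f x ∈ V → x ∈ f.smoothLocus := by
    intro x hx
    by_contra hxs
    exact (interior_subset hx) ⟨x, hxs, rfl⟩
  haveI : LocallyOfFinitePresentation (f ∣_ V) :=
    IsZariskiLocalAtTarget.restrict (P := @LocallyOfFinitePresentation) inferInstance V
  rw [← Scheme.Hom.smoothLocus_eq_top_iff, ← top_le_iff]
  rintro x -
  rw [Scheme.Hom.mem_smoothLocus]
  exact (RingHom.FormallySmooth.respectsIso.arrow_mk_iso_iff (morphismRestrictStalkMap f V x)).mpr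
    (hsub x.1 x.2)

end Groth.Agent.Lib.Helper29.GenSmooth2
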