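import Mathlib
import Groth.Prelude.Def_W4bk4git07Quot
import Groth.Prelude.Def_AlgGrp
import Groth.Prelude.Def_Pi1
import Groth.Prelude.Def_ega3
import Groth.Agent.Lib.Helper13.ZariskiNormal
import Groth.Agent.Lib.Helper22.NormalSections

/-!
# A geometric quotient of a normal integral scheme by a flat group scheme is normal (S18505)
-/
set_option autoImplicit false
set_option maxHeartbeats 1600000
set_option linter.style.haveILetI false
set_option linter.unusedSectionVars false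
universe u
open CategoryTheory CategoryTheory.Limits MonoidalCategory CartesianMonoidalCategory MonObj GrpObj
  AlgebraicGeometry Topology TopologicalSpace Opposite

noncomputable section

namespace Groth.Agent.Lib.Helper29.GeomQuotNormal

open Groth.Agent.Lib.Helper13 Groth.Agent.Lib.Helper22

theorem eq_zero_of_flat {R S : Type*} [CommRing R] [CommRing S] [IsDomain R] (θ : R →+* S)
    (hθ : θ.Flat) (r : R) (hr : r ≠ 0) (s : S) (h : s * θ r = 0) : s = 0 := by
  letI := θ.toAlgebra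
  haveI : Module.Flat R S := hθ
  have hreg : IsSMulRegular S r :=
    Module.Flat.isSMulRegular_of_nonZeroDivisors (mem_nonZeroDivisors_of_ne_zero hr)
  apply hreg
  show r • s = r • 0
  rw [smul_zero, Algebra.smul_def, mul_comm]
  exact h

theorem isIntegralElem_of_comp {A B C : Type*} [CommRing A] [CommRing B] [CommRing C]
    (α : A →+* B) (β : B →+* C) (y : C) (h : (β.comp α).IsIntegralElem y) :
    β.IsIntegralElem y := by
  obtain ⟨p, hp, hpy⟩ := h
  exact ⟨p.map α, hp.map α, by rw [Polynomial.eval₂_map]; exact hpy⟩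

/-- Two ring maps out of `Γ(X, W)` along flat-at-stalks `p`: a section `t` with `t * s' = s₁`,
`s'`, `s₁` equalized and `s' ≠ 0`, is equalized. -/
theorem eq_of_mul_eq {X Z : Scheme.{u}} [IsIntegral X] (σ p : Z ⟶ X) [Flat p] (W : X.Opens)
    (t s' s₁ : Γ(X, W)) (hmul : t * s' = s₁) (hs'0 : s' ≠ 0)
    (hs' : σ.appLE W (σ ⁻¹ᵁ W ⊓ p ⁻¹ᵁ W) inf_le_left s' =
      p.appLE W (σ ⁻¹ᵁ W ⊓ p ⁻¹ᵁ W) inf_le_right s')
    (hs₁ : σ.appLE W (σ ⁻¹ᵁ W ⊓ p ⁻¹ᵁ W) inf_le_left s₁ =
      p.appLE W (σ ⁻¹ᵁ W ⊓ p ⁻¹ᵁ W) inf_le_right s₁) :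
    σ.appLE W (σ ⁻¹ᵁ W ⊓ p ⁻¹ᵁ W) inf_le_left t =
      p.appLE W (σ ⁻¹ᵁ W ⊓ p ⁻¹ᵁ W) inf_le_right t := by
  have h1 : σ.appLE W (σ ⁻¹ᵁ W ⊓ p ⁻¹ᵁ W) inf_le_left t *
      σ.appLE W (σ ⁻¹ᵁ W ⊓ p ⁻¹ᵁ W) inf_le_left s' =
      σ.appLE W (σ ⁻¹ᵁ W ⊓ p ⁻¹ᵁ W) inf_le_left s₁ := by rw [← map_mul, hmul]
  have h2 : p.appLE W (σ ⁻¹ᵁ W ⊓ p ⁻¹ᵁ W) inf_le_right t *
      p.appLE W (σ ⁻¹ᵁ W ⊓ p ⁻¹ᵁ W) inf_le_right s' =
      p.appLE W (σ ⁻¹ᵁ W ⊓ p ⁻¹ᵁ W) inf_le_right s₁ := by rw [← map_mul, hmul]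
  have h3 : (σ.appLE W (σ ⁻¹ᵁ W ⊓ p ⁻¹ᵁ W) inf_le_left t -
      p.appLE W (σ ⁻¹ᵁ W ⊓ p ⁻¹ᵁ W) inf_le_right t) *
      p.appLE W (σ ⁻¹ᵁ W ⊓ p ⁻¹ᵁ W) inf_le_right s' = 0 := by
    rw [sub_mul, h2, ← hs', h1, hs₁, sub_self]
  rw [← sub_eq_zero]
  apply TopCat.Presheaf.section_ext Z.sheaf (σ ⁻¹ᵁ W ⊓ p ⁻¹ᵁ W) _ 0
  intro z hz
  change (Z.presheaf.germ (σ ⁻¹ᵁ W ⊓ p ⁻¹ᵁ W) z hz) _ = (Z.presheaf.germ (σ ⁻¹ᵁ W ⊓ p ⁻¹ᵁ W) z hz) 0
  rw [map_zero]
  have hzp : p z ∈ W := hz.2
  have hgerm : Z.presheaf.germ (σ ⁻¹ᵁ W ⊓ p ⁻¹ᵁ W) z hz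
      (p.appLE W (σ ⁻¹ᵁ W ⊓ p ⁻¹ᵁ W) inf_le_right s') =
      p.stalkMap z (X.presheaf.germ W (p z) hzp s') := by
    rw [Scheme.Hom.germ_stalkMap_apply]
    exact TopCat.Presheaf.germ_res_apply Z.presheaf (homOfLE inf_le_right) z hz (p.app W s')
  have hne : X.presheaf.germ W (p z) hzp s' ≠ 0 := by
    intro h0
    apply hs'0
    apply germ_injective_of_isIntegral X (p z) hzp
    rw [h0, map_zero]
  have h4 := congrArg (Z.presheaf.germ (σ ⁻¹ᵁ W ⊓ p ⁻¹ᵁ W) z hz) h3
  rw [map_mul, map_zero, hgerm] at h4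
  exact eq_zero_of_flat (p.stalkMap z).hom (Flat.stalkMap p z) _ hne _ h4

theorem normal_of_geomQuot {S : Scheme.{u}} {G X Y : Over S} [GrpObj G] [Flat G.hom]
    [IsIntegral X.left] (hX : Pi1.IsNormalScheme X.left) (a : AlgGrp.Action G X) (φ : X ⟶ Y)
    (h : GIT.IsGeomQuot a φ) : Pi1.IsNormalScheme Y.left := by
  classical
  haveI hflat : Flat (snd G X).left := by
    rw [Over.snd_left]
    exact MorphismProperty.pullback_snd (P := @Flat) _ _ inferInstance
  -- `Y` is integral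
  haveI : IsIntegral Y.left :=
    { nonempty := ⟨φ.left (Classical.arbitrary X.left)⟩
      component_integral := fun U hU => by
        obtain ⟨⟨y, hy⟩⟩ := hU
        obtain ⟨x, hx⟩ := h.surj y
        haveI : Nonempty (φ.left ⁻¹ᵁ U : X.left.Opens) := ⟨⟨x, by
          show φ.left x ∈ U
          rw [hx]; exact hy⟩⟩
        exact Function.Injective.isDomain (φ.left.app U).hom (h.sections U).1 }
  have hdom : φ.left.base (genericPoint X.left) ⤳ genericPoint Y.left := by
    obtain ⟨xg, hxg⟩ := h.surj (genericPoint Y.left)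
    have h1 : genericPoint X.left ⤳ xg := (genericPoint_spec X.left).specializes trivial
    have h2 := h1.map φ.left.continuous
    rw [hxg] at h2
    exact h2
  intro y
  refine ⟨inferInstance, ?_⟩
  obtain ⟨V, hV, hyV, -⟩ := Opens.isBasis_iff_nbhd.mp Y.left.isBasis_affineOpens
    (show y ∈ (⊤ : Y.left.Opens) from trivial)
  have hV : IsAffineOpen V := hV
  haveI : Nonempty V := ⟨⟨y, hyV⟩⟩
  obtain ⟨x₀, hx₀⟩ := h.surj y
  haveI hne : Nonempty (φ.left ⁻¹ᵁ V : X.left.Opens) := ⟨⟨x₀, by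
    show φ.left x₀ ∈ V
    rw [hx₀]; exact hyV⟩⟩
  haveI : IsFractionRing Γ(Y.left, V) Y.left.functionField :=
    functionField_isFractionRing_of_isAffineOpen Y.left V hV
  have hinjK : Function.Injective (CohIII.stalkToFunctionField φ.left (genericPoint Y.left) hdom) :=
    RingHom.injective (CohIII.stalkToFunctionField φ.left (genericPoint Y.left) hdom :
      Y.left.functionField →+* X.left.functionField)
  haveI hic : IsIntegrallyClosed Γ(Y.left, V) := by
    rw [isIntegrallyClosed_iff Y.left.functionField]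
    intro α hα
    obtain ⟨β, hβ⟩ : ∃ β : X.left.functionField,
        β = (CohIII.stalkToFunctionField φ.left (genericPoint Y.left) hdom) α := ⟨_, rfl⟩
    have hβint : ((CohIII.stalkToFunctionField φ.left (genericPoint Y.left) hdom).comp
        (algebraMap Γ(Y.left, V) Y.left.functionField)).IsIntegralElem β := by
      obtain ⟨q, hq, hqα⟩ := hα
      refine ⟨q, hq, ?_⟩
      rw [hβ, ← Polynomial.hom_eval₂, hqα, map_zero]
    have hmem : ∀ x' ∈ (φ.left ⁻¹ᵁ V : X.left.Opens),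
        β ∈ Set.range (algebraMap (X.left.presheaf.stalk x') X.left.functionField) := by
      intro x' hx'
      haveI := (hX x').2
      have hfac : (CohIII.stalkToFunctionField φ.left (genericPoint Y.left) hdom).comp
          (algebraMap Γ(Y.left, V) Y.left.functionField) =
          (algebraMap (X.left.presheaf.stalk x') X.left.functionField).comp
            ((X.left.presheaf.germ (φ.left ⁻¹ᵁ V) x' hx').hom.comp (φ.left.app V).hom) := by
        ext b
        show (CohIII.stalkToFunctionField φ.left (genericPoint Y.left) hdom)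
            (Y.left.germToFunctionField V b) =
          algebraMap (X.left.presheaf.stalk x') X.left.functionField
            (X.left.presheaf.germ (φ.left ⁻¹ᵁ V) x' hx' (φ.left.app V b))
        rw [Scheme.algebraMap_germ_eq_germToFunctionField]
        exact (ZariskiNormal.germ_app φ.left hdom V b).symm
      rw [hfac] at hβint
      have h1 : IsIntegral (X.left.presheaf.stalk x') β := isIntegralElem_of_comp _ _ β hβint
      exact IsIntegrallyClosed.isIntegral_iff.mp h1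
    obtain ⟨t, ht⟩ := NormalSections.exists_section_of_forall_mem_range (φ.left ⁻¹ᵁ V) β hmem
    -- write `α` as a fraction
    obtain ⟨⟨a₁, a'⟩, hfrac⟩ := IsLocalization.surj (nonZeroDivisors Γ(Y.left, V)) α
    have ha'0 : (a' : Γ(Y.left, V)) ≠ 0 := nonZeroDivisors.ne_zero a'.2
    have hmul : t * (φ.left.app V) (a' : Γ(Y.left, V)) = (φ.left.app V) a₁ := by
      apply X.left.germToFunctionField_injective (φ.left ⁻¹ᵁ V)
      rw [map_mul, ht, ZariskiNormal.germ_app φ.left hdom V, ZariskiNormal.germ_app φ.left hdom V,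
        hβ, ← map_mul]
      exact congrArg _ hfrac
    have hs'0 : (φ.left.app V) (a' : Γ(Y.left, V)) ≠ 0 := by
      intro h0
      apply ha'0
      apply (h.sections V).1
      rw [h0, map_zero]
    have hinv' : GIT.IsInvSection a φ V ((φ.left.app V) (a' : Γ(Y.left, V))) := by
      have : (φ.left.app V) (a' : Γ(Y.left, V)) ∈ Set.range (φ.left.app V) := ⟨_, rfl⟩
      rw [(h.sections V).2] at this
      exact this
    have hinv₁ : GIT.IsInvSection a φ V ((φ.left.app V) a₁) := by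
      have : (φ.left.app V) a₁ ∈ Set.range (φ.left.app V) := ⟨_, rfl⟩
      rw [(h.sections V).2] at this
      exact this
    have hinvt : GIT.IsInvSection a φ V t :=
      eq_of_mul_eq a.act.left (snd G X).left (φ.left ⁻¹ᵁ V) t _ _ hmul hs'0 hinv' hinv₁
    have htr : t ∈ Set.range (φ.left.app V) := by
      rw [(h.sections V).2]; exact hinvt
    obtain ⟨c, hc⟩ := htr
    refine ⟨c, ?_⟩
    apply hinjK
    rw [← hβ, ← ht, ← hc]
    exact (ZariskiNormal.germ_app φ.left hdom V c).symm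
  letI := TopCat.Presheaf.algebra_section_stalk Y.left.presheaf ⟨y, hyV⟩
  haveI : IsLocalization.AtPrime (Y.left.presheaf.stalk y) (hV.primeIdealOf ⟨y, hyV⟩).asIdeal :=
    hV.isLocalization_stalk ⟨y, hyV⟩
  exact isIntegrallyClosed_of_isLocalization (R := Γ(Y.left, V)) (S := Y.left.presheaf.stalk y)
    (hV.primeIdealOf ⟨y, hyV⟩).asIdeal.primeCompl
    (Ideal.primeCompl_le_nonZeroDivisors _)

theorem main18505 (k : Type u) [Field k] [IsAlgClosed k] [CharZero k]
    (G X Y : Over (Spec (CommRingCat.of k))) [GrpObj G] [IsAffine G.left] [LocallyOfFiniteType G.hom]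
    [LocallyOfFiniteType X.hom] [QuasiCompact X.hom] [IsSeparated X.hom] [IsIntegral X.left]
    (hX : Pi1.IsNormalScheme X.left)
    [LocallyOfFiniteType Y.hom] [QuasiCompact Y.hom] [IsSeparated Y.hom]
    (a : AlgGrp.Action G X) (φ : X ⟶ Y) (h : GIT.IsGeomQuot a φ) :
    Pi1.IsNormalScheme Y.left :=
  normal_of_geomQuot hX a φ h

end Groth.Agent.Lib.Helper29.GeomQuotNormal
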