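import Mathlib
import Groth.Prelude.Def_W4bk4git07Quot
import Groth.Prelude.Def_AlgGrp

/-!
# Geometric quotients by flat finitely presented groups are universally open (S18504)
-/
set_option autoImplicit false
set_option maxHeartbeats 1600000
set_option linter.style.haveILetI false
universe u
open CategoryTheory CategoryTheory.Limits MonoidalCategory CartesianMonoidalCategory MonObj GrpObj
  AlgebraicGeometry Topology

noncomputable section

namespace Groth.Agent.Lib.Helper29.GeomQuotOpen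

theorem univOpen_of_isGeomQuot {S : Scheme.{u}} (G X Y : Over S) [GrpObj G]
    [UniversallyOpen G.hom] (a : AlgGrp.Action G X) (φ : X ⟶ Y) (h : GIT.IsGeomQuot a φ) :
    UniversallyOpen φ.left := by
  haveI hsnd : UniversallyOpen (snd G X).left := by
    rw [Over.snd_left]
    infer_instance
  refine ⟨fun X' Y' pr g φ' hpb => ?_⟩
  have hq : IsQuotientMap φ' := h.subm pr g φ' hpb
  intro U' hU'
  rw [← hq.isOpen_preimage]
  -- notation
  let σ : (G ⊗ X).left ⟶ X.left := a.act.left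
  let s₂ : (G ⊗ X).left ⟶ X.left := (snd G X).left
  have hinv : σ ≫ φ.left = s₂ ≫ φ.left := h.inv.left
  let cZ : pullback s₂ pr ⟶ (G ⊗ X).left := pullback.fst s₂ pr
  let α : pullback s₂ pr ⟶ X' := pullback.snd s₂ pr
  have hcZa : cZ ≫ s₂ = α ≫ pr := pullback.condition
  haveI : UniversallyOpen α := by
    dsimp only [α]
    infer_instance
  have hαopen : IsOpenMap α := Scheme.Hom.isOpenMap α
  have hβw : (α ≫ φ') ≫ g = (cZ ≫ σ) ≫ φ.left := by
    rw [Category.assoc, hpb.w, ← Category.assoc, ← hcZa, Category.assoc, Category.assoc, hinv]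
  let β : pullback s₂ pr ⟶ X' := hpb.lift (α ≫ φ') (cZ ≫ σ) hβw
  have hβ1 : β ≫ φ' = α ≫ φ' := hpb.lift_fst _ _ _
  have hβ2 : β ≫ pr = cZ ≫ σ := hpb.lift_snd _ _ _
  -- the comparison map
  let p₁' : pullback φ' φ' ⟶ X' := pullback.fst φ' φ'
  let p₂' : pullback φ' φ' ⟶ X' := pullback.snd φ' φ'
  let Ψ' : pullback s₂ pr ⟶ pullback φ' φ' := pullback.lift β α hβ1
  have hΨ'1 : Ψ' ≫ p₁' = β := pullback.lift_fst _ _ _
  have hΨ'2 : Ψ' ≫ p₂' = α := pullback.lift_snd _ _ _
  let fY : pullback φ.left φ.left ⟶ X.left := pullback.fst φ.left φ.left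
  let sY : pullback φ.left φ.left ⟶ X.left := pullback.snd φ.left φ.left
  let m : pullback φ' φ' ⟶ pullback φ.left φ.left :=
    pullback.map φ' φ' φ.left φ.left pr pr g hpb.w hpb.w
  have hm1 : m ≫ fY = p₁' ≫ pr := pullback.lift_fst _ _ _
  have hm2 : m ≫ sY = p₂' ≫ pr := pullback.lift_snd _ _ _
  let Ψ : (G ⊗ X).left ⟶ pullback φ.left φ.left := GIT.PsiY a φ h.inv
  have hΨ1 : Ψ ≫ fY = σ := pullback.lift_fst _ _ _
  have hΨ2 : Ψ ≫ sY = s₂ := pullback.lift_snd _ _ _
  -- pasting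
  have hA : IsPullback p₁' p₂' φ' φ' := IsPullback.of_hasPullback φ' φ'
  have hB : IsPullback (p₁' ≫ pr) p₂' φ.left (φ' ≫ g) := hA.paste_horiz hpb.flip
  have hB' : IsPullback (m ≫ fY) p₂' φ.left (pr ≫ φ.left) := by
    rw [hm1, ← hpb.w]
    exact hB
  have hR : IsPullback fY sY φ.left φ.left := IsPullback.of_hasPullback φ.left φ.left
  have hC : IsPullback m p₂' sY pr := IsPullback.of_right hB' hm2 hR
  have hZ : IsPullback α cZ pr s₂ := (IsPullback.of_hasPullback s₂ pr).flip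
  have hZ' : IsPullback (Ψ' ≫ p₂') cZ pr (Ψ ≫ sY) := by
    rw [hΨ'2, hΨ2]
    exact hZ
  have hp : Ψ' ≫ m = cZ ≫ Ψ := by
    apply pullback.hom_ext
    · show (Ψ' ≫ m) ≫ fY = (cZ ≫ Ψ) ≫ fY
      rw [Category.assoc, hm1, ← Category.assoc, hΨ'1, hβ2, Category.assoc, hΨ1]
    · show (Ψ' ≫ m) ≫ sY = (cZ ≫ Ψ) ≫ sY
      rw [Category.assoc, hm2, ← Category.assoc, hΨ'2, Category.assoc, hΨ2, hcZa]
  have hD : IsPullback Ψ' cZ m Ψ := IsPullback.of_right hZ' hp hC.flip
  haveI : Surjective Ψ := ⟨h.orbit⟩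
  haveI : Surjective Ψ' := MorphismProperty.of_isPullback (P := @Surjective) hD.flip inferInstance
  -- the topological identity
  have hset : (φ' ⁻¹' (φ' '' U') : Set X') = α '' (β ⁻¹' U') := by
    ext x'
    constructor
    · rintro ⟨u', hu', hux⟩
      obtain ⟨w, hw1, hw2⟩ := Scheme.Pullback.exists_preimage_pullback (f := φ') (g := φ') u' x' hux
      obtain ⟨z, hz⟩ := Ψ'.surjective w
      refine ⟨z, ?_, ?_⟩
      · show β z ∈ U'
        have e1 : β z = u' := by
          rw [← hw1, ← hz, ← hΨ'1]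
          rfl
        rw [e1]
        exact hu'
      · rw [← hw2, ← hz, ← hΨ'2]
        rfl
    · rintro ⟨z, hz, rfl⟩
      refine ⟨β z, hz, ?_⟩
      have e2 : φ' (β z) = (β ≫ φ') z := rfl
      have e3 : φ' (α z) = (α ≫ φ') z := rfl
      rw [e2, e3, hβ1]
  rw [hset]
  exact hαopen _ (hU'.preimage β.continuous)

theorem main18504 (k : Type u) [Field k]
    (G X Y : Over (Spec (CommRingCat.of k))) [GrpObj G] [IsAffine G.left]
    [LocallyOfFiniteType G.hom]
    [LocallyOfFiniteType X.hom] [QuasiCompact X.hom] [IsSeparated X.hom]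
    [LocallyOfFiniteType Y.hom] [QuasiCompact Y.hom] [IsSeparated Y.hom]
    (a : AlgGrp.Action G X) (φ : X ⟶ Y) (h : GIT.IsGeomQuot a φ) :
    UniversallyOpen φ.left := by
  haveI : LocallyOfFinitePresentation G.hom :=
    (LocallyOfFinitePresentation.iff_locallyOfFiniteType (f := G.hom)).mpr inferInstance
  haveI : Flat G.hom := inferInstance
  haveI : UniversallyOpen G.hom := inferInstance
  exact univOpen_of_isGeomQuot G X Y a φ h

end Groth.Agent.Lib.Helper29.GeomQuotOpen
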