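import Mathlib
import Groth.Prelude.Def_GLin
import Groth.Prelude.Def_HopfRep

set_option autoImplicit false
universe u
open TensorProduct LaurentPolynomial

namespace Groth.Agent.Lib.Helper29.GmStable

/-! ### general facts on Laurent polynomials -/

section laurent
variable (k : Type u) [Field k]

theorem pow_integral {R S : Type*} [CommRing R] [CommRing S] (f : R →+* S) (x : S)
    (hx : f.IsIntegralElem x) : ∀ m : ℕ, f.IsIntegralElem (x ^ m) := by
  intro m
  induction m with
  | zero =>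
    rw [pow_zero]
    have e : (1 : S) = f 1 := (map_one f).symm
    rw [e]
    exact RingHom.isIntegralElem_map f
  | succ m ih =>
    rw [pow_succ]
    exact ih.mul f hx

/-- integrality over a subalgebra-like image containing scaled powers of `T` of both signs -/
theorem integral_of_T {R : Type*} [CommRing R] [Algebra k R] (φ : R →ₐ[k] k[T;T⁻¹])
    (hT1 : φ.toRingHom.IsIntegralElem (T 1 : k[T;T⁻¹]))
    (hTm1 : φ.toRingHom.IsIntegralElem (T (-1) : k[T;T⁻¹])) :
    φ.toRingHom.IsIntegral := by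
  have hC : ∀ a : k, φ.toRingHom.IsIntegralElem (algebraMap k k[T;T⁻¹] a) := by
    intro a
    have e : algebraMap k k[T;T⁻¹] a = φ.toRingHom (algebraMap k R a) := (φ.commutes a).symm
    rw [e]
    exact RingHom.isIntegralElem_map _
  have hTn : ∀ n : ℤ, φ.toRingHom.IsIntegralElem (T n : k[T;T⁻¹]) := by
    intro n
    rcases le_total 0 n with hn | hn
    · have e : (T n : k[T;T⁻¹]) = T 1 ^ n.toNat := by
        rw [T_pow, mul_one, Int.toNat_of_nonneg hn]
      rw [e]
      exact pow_integral _ _ hT1 _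
    · have hnn : 0 ≤ -n := by omega
      have e : (T n : k[T;T⁻¹]) = T (-1) ^ (-n).toNat := by
        rw [T_pow, Int.toNat_of_nonneg hnn, mul_neg, mul_one, neg_neg]
      rw [e]
      exact pow_integral _ _ hTm1 _
  intro a
  induction a using LaurentPolynomial.induction_on' with
  | add p q hp hq => exact RingHom.IsIntegralElem.add _ hp hq
  | C_mul_T n a =>
    rw [← LaurentPolynomial.smul_eq_C_mul, Algebra.smul_def]
    exact (hC a).mul _ (hTn n)

/-- the quotient by an ideal containing `T^n - 1`, `n > 0`, is finite -/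
theorem finite_quot (I : Ideal k[T;T⁻¹]) (n : ℤ) (hn : 0 < n)
    (h : (T n : k[T;T⁻¹]) - 1 ∈ I) : Module.Finite k (k[T;T⁻¹] ⧸ I) := by
  classical
  have hπ : Ideal.Quotient.mk I (T n : k[T;T⁻¹]) = 1 := by
    rw [← map_one (Ideal.Quotient.mk I)]
    exact Ideal.Quotient.eq.mpr h
  have hpos : ∀ p : ℕ, Ideal.Quotient.mk I (T ((p : ℤ) * n) : k[T;T⁻¹]) = 1 := by
    intro p
    rw [← T_pow, map_pow, hπ, one_pow]
  have hq : ∀ q : ℤ, Ideal.Quotient.mk I (T (n * q) : k[T;T⁻¹]) = 1 := by
    intro q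
    rcases le_total 0 q with h0 | h0
    · have e : n * q = ((q.toNat : ℕ) : ℤ) * n := by
        rw [Int.toNat_of_nonneg h0, mul_comm]
      rw [e]
      exact hpos _
    · have hnn : 0 ≤ -q := by omega
      have e : n * q + (((-q).toNat : ℕ) : ℤ) * n = 0 := by
        rw [Int.toNat_of_nonneg hnn]
        ring
      have h1 : (T (n * q) : k[T;T⁻¹]) * T ((((-q).toNat : ℕ) : ℤ) * n) = 1 := by
        rw [← T_add, e, T_zero]
      have h2 := congrArg (Ideal.Quotient.mk I) h1
      rw [map_mul, hpos, mul_one, map_one] at h2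
      exact h2
  have hred : ∀ m : ℤ, Ideal.Quotient.mk I (T m : k[T;T⁻¹]) =
      Ideal.Quotient.mk I (T (m % n) : k[T;T⁻¹]) := by
    intro m
    have e : m = m % n + n * (m / n) := (Int.emod_add_mul_ediv m n).symm
    conv_lhs => rw [e]
    rw [T_add, map_mul, hq, mul_one]
  refine ⟨Submodule.fg_def.mpr ⟨Set.range (fun e : Fin n.toNat =>
    Ideal.Quotient.mk I (T ((e : ℕ) : ℤ) : k[T;T⁻¹])), Set.finite_range _, ?_⟩⟩
  rw [eq_top_iff]
  rintro x -
  obtain ⟨a, rfl⟩ := Ideal.Quotient.mk_surjective x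
  induction a using LaurentPolynomial.induction_on' with
  | add p q hp hq =>
    rw [map_add]
    exact Submodule.add_mem _ hp hq
  | C_mul_T m a =>
    rw [← LaurentPolynomial.smul_eq_C_mul]
    have e : Ideal.Quotient.mk I (a • (T m : k[T;T⁻¹])) =
        a • Ideal.Quotient.mk I (T m : k[T;T⁻¹]) :=
      map_smul (Ideal.Quotient.mkₐ k I) a (T m)
    rw [e]
    refine Submodule.smul_mem _ a (Submodule.subset_span ?_)
    have h0 : 0 ≤ m % n := Int.emod_nonneg m (by omega)
    have h1 : m % n < n := Int.emod_lt_of_pos m hn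
    have hlt : (m % n).toNat < n.toNat := by omega
    refine ⟨⟨(m % n).toNat, hlt⟩, ?_⟩
    show Ideal.Quotient.mk I (T (((m % n).toNat : ℕ) : ℤ) : k[T;T⁻¹]) = _
    rw [Int.toNat_of_nonneg h0]
    exact (hred m).symm

theorem not_finite_quot_bot : ¬ Module.Finite k (k[T;T⁻¹] ⧸ (⊥ : Ideal k[T;T⁻¹])) := by
  intro h
  let f : Polynomial k →ₗ[k] (k[T;T⁻¹] ⧸ (⊥ : Ideal k[T;T⁻¹])) :=
    (Ideal.Quotient.mkₐ k (⊥ : Ideal k[T;T⁻¹])).toLinearMap.comp
      Polynomial.toLaurentAlg.toLinearMap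
  have hf : Function.Injective f := by
    intro p q hpq
    have h1 : Ideal.Quotient.mk (⊥ : Ideal k[T;T⁻¹]) (Polynomial.toLaurent p) =
        Ideal.Quotient.mk ⊥ (Polynomial.toLaurent q) := hpq
    rw [Ideal.Quotient.eq, Ideal.mem_bot, sub_eq_zero] at h1
    exact Polynomial.toLaurent_injective h1
  haveI := h
  haveI : Module.Finite k (Polynomial k) := Module.Finite.of_injective f hf
  exact Polynomial.not_finite (R := k) inferInstance

/-- an orbit through a polynomial curve with a coordinate vanishing at `0` is not closed -/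
theorem not_closed_aux {ι : Type u} (v : ι → k) (φ : MvPolynomial ι k →ₐ[k] k[T;T⁻¹])
    (θ : Polynomial k →ₐ[k] k[T;T⁻¹]) (hθ : Function.Injective θ)
    (hθu : IsUnit (θ Polynomial.X)) (e : ι → ℕ)
    (hφ : ∀ j, φ (MvPolynomial.X j) = v j • θ (Polynomial.X ^ e j))
    (i₀ : ι) (hv0 : v i₀ ≠ 0) (he0 : 0 < e i₀) :
    ¬ IsClosed (Set.range (PrimeSpectrum.comap φ.toRingHom)) := by
  classical
  intro hcl
  let ψ : MvPolynomial ι k →ₐ[k] Polynomial k :=
    MvPolynomial.aeval (fun j => v j • (Polynomial.X : Polynomial k) ^ e j)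
  have hfac : φ = θ.comp ψ := by
    apply MvPolynomial.algHom_ext
    intro j
    rw [hφ j, AlgHom.comp_apply]
    show _ = θ (MvPolynomial.aeval (fun j => v j • (Polynomial.X : Polynomial k) ^ e j)
      (MvPolynomial.X j))
    rw [MvPolynomial.aeval_X, map_smul]
  let y : ι → k := fun j => if e j = 0 then v j else 0
  have hy : (Polynomial.aeval (0 : k)).comp ψ =
      (MvPolynomial.aeval y : MvPolynomial ι k →ₐ[k] k) := by
    apply MvPolynomial.algHom_ext
    intro j
    rw [AlgHom.comp_apply]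
    show Polynomial.aeval (0 : k) (MvPolynomial.aeval
      (fun j => v j • (Polynomial.X : Polynomial k) ^ e j) (MvPolynomial.X j)) =
        MvPolynomial.aeval y (MvPolynomial.X j)
    rw [MvPolynomial.aeval_X, MvPolynomial.aeval_X, map_smul, map_pow, Polynomial.aeval_X]
    show v j • (0 : k) ^ e j = if e j = 0 then v j else 0
    by_cases h : e j = 0
    · rw [h, if_pos rfl, pow_zero, smul_eq_mul, mul_one]
    · rw [if_neg h, zero_pow h, smul_zero]
  have hker : ∀ p : MvPolynomial ι k, φ p = 0 →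
      (MvPolynomial.aeval y : MvPolynomial ι k →ₐ[k] k) p = 0 := by
    intro p hp
    rw [hfac, AlgHom.comp_apply] at hp
    have h0 : ψ p = 0 := hθ (hp.trans (map_zero θ).symm)
    rw [← hy, AlgHom.comp_apply, h0, map_zero]
  let Py : PrimeSpectrum (MvPolynomial ι k) :=
    ⟨RingHom.ker (MvPolynomial.aeval y : MvPolynomial ι k →ₐ[k] k), RingHom.ker_isPrime _⟩
  have hmem' : Py ∈ closure (Set.range (PrimeSpectrum.comap φ.toRingHom)) := by
    rw [PrimeSpectrum.closure_range_comap, PrimeSpectrum.mem_zeroLocus]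
    intro p hp
    have hp' : φ p = 0 := (RingHom.mem_ker).mp hp
    show p ∈ RingHom.ker (MvPolynomial.aeval y : MvPolynomial ι k →ₐ[k] k)
    exact (RingHom.mem_ker).mpr (hker p hp')
  obtain ⟨P, hP⟩ := hcl.closure_subset hmem'
  have hX : (MvPolynomial.X i₀ : MvPolynomial ι k) ∈ Py.asIdeal := by
    show MvPolynomial.X i₀ ∈ RingHom.ker (MvPolynomial.aeval y : MvPolynomial ι k →ₐ[k] k)
    rw [RingHom.mem_ker, MvPolynomial.aeval_X]
    show (if e i₀ = 0 then v i₀ else 0) = 0
    rw [if_neg (by omega)]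
  rw [← hP] at hX
  have hX' : φ (MvPolynomial.X i₀) ∈ P.asIdeal := hX
  rw [hφ i₀, map_pow] at hX'
  have h1 : θ Polynomial.X ^ e i₀ ∈ P.asIdeal := by
    have h2 := Submodule.smul_of_tower_mem P.asIdeal (v i₀)⁻¹ hX'
    rwa [smul_smul, inv_mul_cancel₀ hv0, one_smul] at h2
  exact P.isPrime.ne_top (Ideal.eq_top_of_isUnit_mem _ h1 (hθu.pow _))

end laurent

/-! ### the diagonal action of the multiplicative group -/

section main
variable (k : Type u) [Field k]
    (ι : Type u) [Fintype ι] [HopfRep.Comod k k[T;T⁻¹] (MvPolynomial ι k)]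
    [GLin.IsCoactAlg k k[T;T⁻¹] (MvPolynomial ι k)]
    (r : ι → ℤ)
    (hr : ∀ i : ι, HopfRep.Comod.coact (k := k) (A := k[T;T⁻¹])
      (MvPolynomial.X i : MvPolynomial ι k) =
      (MvPolynomial.X i : MvPolynomial ι k) ⊗ₜ[k] (T (r i) : k[T;T⁻¹]))
    (v : ι → k)

include hr in
theorem orbit_X (i : ι) :
    GLin.orbitHom k k[T;T⁻¹] (GLin.vecPt k ι v) (MvPolynomial.X i) =
      v i • (T (r i) : k[T;T⁻¹]) := by
  show (Algebra.TensorProduct.lid k k[T;T⁻¹])
    ((Algebra.TensorProduct.map (GLin.vecPt k ι v) (AlgHom.id k k[T;T⁻¹]))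
      (GLin.coactAlgHom k k[T;T⁻¹] (MvPolynomial ι k) (MvPolynomial.X i))) = _
  rw [GLin.coactAlgHom_apply, hr i, Algebra.TensorProduct.map_tmul,
    Algebra.TensorProduct.lid_tmul]
  show (MvPolynomial.aeval v (MvPolynomial.X i : MvPolynomial ι k)) • (T (r i) : k[T;T⁻¹]) = _
  rw [MvPolynomial.aeval_X]

include hr in
theorem closed_orbit (i j : ι) (hvi : v i ≠ 0) (hvj : v j ≠ 0) (hri : r i < 0) (hrj : 0 < r j) :
    GLin.IsClosedOrbit k k[T;T⁻¹] (GLin.vecPt k ι v) := by
  have hT1 : (GLin.orbitHom k k[T;T⁻¹] (GLin.vecPt k ι v)).toRingHom.IsIntegralElem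
      (T 1 : k[T;T⁻¹]) := by
    refine ⟨Polynomial.X ^ (r j).toNat -
      Polynomial.C ((v j)⁻¹ • (MvPolynomial.X j : MvPolynomial ι k)),
      Polynomial.monic_X_pow_sub_C _ (by omega), ?_⟩
    rw [Polynomial.eval₂_sub, Polynomial.eval₂_pow, Polynomial.eval₂_X, Polynomial.eval₂_C,
      T_pow]
    show (T ((((r j).toNat : ℕ) : ℤ) * 1) : k[T;T⁻¹]) -
      GLin.orbitHom k k[T;T⁻¹] (GLin.vecPt k ι v)
        ((v j)⁻¹ • (MvPolynomial.X j : MvPolynomial ι k)) = 0
    rw [map_smul, orbit_X k ι r hr v j, smul_smul, inv_mul_cancel₀ hvj, one_smul, mul_one,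
      Int.toNat_of_nonneg (le_of_lt hrj), sub_self]
  have hTm1 : (GLin.orbitHom k k[T;T⁻¹] (GLin.vecPt k ι v)).toRingHom.IsIntegralElem
      (T (-1) : k[T;T⁻¹]) := by
    have hnn : 0 ≤ -r i := by omega
    refine ⟨Polynomial.X ^ (-r i).toNat -
      Polynomial.C ((v i)⁻¹ • (MvPolynomial.X i : MvPolynomial ι k)),
      Polynomial.monic_X_pow_sub_C _ (by omega), ?_⟩
    rw [Polynomial.eval₂_sub, Polynomial.eval₂_pow, Polynomial.eval₂_X, Polynomial.eval₂_C,
      T_pow]
    show (T ((((-r i).toNat : ℕ) : ℤ) * -1) : k[T;T⁻¹]) -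
      GLin.orbitHom k k[T;T⁻¹] (GLin.vecPt k ι v)
        ((v i)⁻¹ • (MvPolynomial.X i : MvPolynomial ι k)) = 0
    rw [map_smul, orbit_X k ι r hr v i, smul_smul, inv_mul_cancel₀ hvi, one_smul,
      Int.toNat_of_nonneg hnn, mul_neg, mul_one, neg_neg, sub_self]
  exact (PrimeSpectrum.isClosedMap_comap_of_isIntegral _
    (integral_of_T k _ hT1 hTm1)).isClosed_range

include hr in
theorem finite_stab (j : ι) (hvj : v j ≠ 0) (hrj : 0 < r j) :
    GLin.HasFiniteStab k k[T;T⁻¹] (GLin.vecPt k ι v) := by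
  unfold GLin.HasFiniteStab
  apply finite_quot k _ (r j) hrj
  have hmem : (MvPolynomial.X j - MvPolynomial.C (v j) : MvPolynomial ι k) ∈
      RingHom.ker (GLin.vecPt k ι v) := by
    rw [RingHom.mem_ker, map_sub]
    show MvPolynomial.aeval v (MvPolynomial.X j : MvPolynomial ι k) -
      MvPolynomial.aeval v (MvPolynomial.C (v j) : MvPolynomial ι k) = 0
    rw [MvPolynomial.aeval_X, MvPolynomial.aeval_C]
    exact sub_self _
  have h1 : GLin.orbitHom k k[T;T⁻¹] (GLin.vecPt k ι v)
      (MvPolynomial.X j - MvPolynomial.C (v j)) ∈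
        GLin.stabIdeal k k[T;T⁻¹] (GLin.vecPt k ι v) :=
    Ideal.mem_map_of_mem _ hmem
  have h2 : GLin.orbitHom k k[T;T⁻¹] (GLin.vecPt k ι v)
      (MvPolynomial.X j - MvPolynomial.C (v j)) = v j • ((T (r j) : k[T;T⁻¹]) - 1) := by
    rw [map_sub, orbit_X k ι r hr v j, ← MvPolynomial.algebraMap_eq, AlgHom.commutes, smul_sub,
      Algebra.algebraMap_eq_smul_one]
  rw [h2] at h1
  have h3 := Submodule.smul_of_tower_mem
    (GLin.stabIdeal k k[T;T⁻¹] (GLin.vecPt k ι v)) (v j)⁻¹ h1
  rwa [smul_smul, inv_mul_cancel₀ hvj, one_smul] at h3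

include hr in
theorem exists_of_finite_stab (h : GLin.HasFiniteStab k k[T;T⁻¹] (GLin.vecPt k ι v)) :
    ∃ i, v i ≠ 0 ∧ r i ≠ 0 := by
  by_contra hcon
  push Not at hcon
  have hφ : GLin.orbitHom k k[T;T⁻¹] (GLin.vecPt k ι v) =
      (Algebra.ofId k k[T;T⁻¹]).comp (GLin.vecPt k ι v) := by
    apply MvPolynomial.algHom_ext
    intro i
    rw [orbit_X k ι r hr v i, AlgHom.comp_apply]
    show _ = Algebra.ofId k k[T;T⁻¹] (MvPolynomial.aeval v (MvPolynomial.X i))
    rw [MvPolynomial.aeval_X, Algebra.ofId_apply, Algebra.algebraMap_eq_smul_one]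
    by_cases hv : v i = 0
    · rw [hv, zero_smul, zero_smul]
    · rw [hcon i hv, T_zero]
  have hbot : GLin.stabIdeal k k[T;T⁻¹] (GLin.vecPt k ι v) = ⊥ := by
    unfold GLin.stabIdeal
    rw [eq_bot_iff, Ideal.map_le_iff_le_comap]
    intro p hp
    rw [Ideal.mem_comap, Ideal.mem_bot, hφ, AlgHom.comp_apply, (RingHom.mem_ker).mp hp, map_zero]
  unfold GLin.HasFiniteStab at h
  rw [hbot] at h
  exact not_finite_quot_bot k h

include hr in
theorem main19423 :
    GLin.IsStableVec k k[T;T⁻¹] v ↔ ∃ i j : ι, v i ≠ 0 ∧ v j ≠ 0 ∧ r i < 0 ∧ 0 < r j := by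
  constructor
  · intro h
    obtain ⟨hcl, hfin⟩ := (h : GLin.IsClosedOrbit k k[T;T⁻¹] (GLin.vecPt k ι v) ∧
      GLin.HasFiniteStab k k[T;T⁻¹] (GLin.vecPt k ι v))
    obtain ⟨i₀, hv0, hr0⟩ := exists_of_finite_stab k ι r hr v hfin
    have hcl' : IsClosed (Set.range (PrimeSpectrum.comap
      (GLin.orbitHom k k[T;T⁻¹] (GLin.vecPt k ι v)).toRingHom)) := hcl
    rcases lt_or_gt_of_ne hr0 with hneg | hpos
    · -- r i₀ < 0 : need a positive weight
      have hex : ∃ j, v j ≠ 0 ∧ 0 < r j := by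
        by_contra hcon
        push Not at hcon
        refine not_closed_aux k v (GLin.orbitHom k k[T;T⁻¹] (GLin.vecPt k ι v))
          ((LaurentPolynomial.invert (R := k)).toAlgHom.comp Polynomial.toLaurentAlg) ?_ ?_
          (fun j => (-r j).toNat) ?_ i₀ hv0 (by omega) hcl'
        · intro p q hpq
          have h1 : LaurentPolynomial.invert (Polynomial.toLaurent p) =
              LaurentPolynomial.invert (Polynomial.toLaurent q) := hpq
          exact Polynomial.toLaurent_injective (LaurentPolynomial.invert.injective h1)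
        · show IsUnit (LaurentPolynomial.invert (Polynomial.toLaurent (Polynomial.X : Polynomial k)))
          rw [Polynomial.toLaurent_X, LaurentPolynomial.invert_T]
          exact isUnit_T _
        · intro j
          rw [orbit_X k ι r hr v j]
          by_cases hv : v j = 0
          · rw [hv, zero_smul, zero_smul]
          · have hle : r j ≤ 0 := hcon j hv
            have hnn : 0 ≤ -r j := by omega
            show v j • (T (r j) : k[T;T⁻¹]) = v j • LaurentPolynomial.invert
              (Polynomial.toLaurent ((Polynomial.X : Polynomial k) ^ (-r j).toNat))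
            rw [Polynomial.toLaurent_X_pow, LaurentPolynomial.invert_T,
              Int.toNat_of_nonneg hnn, neg_neg]
      obtain ⟨j, hvj, hrj⟩ := hex
      exact ⟨i₀, j, hv0, hvj, hneg, hrj⟩
    · have hex : ∃ j, v j ≠ 0 ∧ r j < 0 := by
        by_contra hcon
        push Not at hcon
        refine not_closed_aux k v (GLin.orbitHom k k[T;T⁻¹] (GLin.vecPt k ι v))
          Polynomial.toLaurentAlg ?_ ?_
          (fun j => (r j).toNat) ?_ i₀ hv0 (by omega) hcl'
        · intro p q hpq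
          have h1 : Polynomial.toLaurent p = Polynomial.toLaurent q := hpq
          exact Polynomial.toLaurent_injective h1
        · show IsUnit (Polynomial.toLaurent (Polynomial.X : Polynomial k))
          rw [Polynomial.toLaurent_X]
          exact isUnit_T _
        · intro j
          rw [orbit_X k ι r hr v j]
          by_cases hv : v j = 0
          · rw [hv, zero_smul, zero_smul]
          · have hle : 0 ≤ r j := hcon j hv
            show v j • (T (r j) : k[T;T⁻¹]) = v j •
              (Polynomial.toLaurent ((Polynomial.X : Polynomial k) ^ (r j).toNat))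
            rw [Polynomial.toLaurent_X_pow, Int.toNat_of_nonneg hle]
      obtain ⟨j, hvj, hrj⟩ := hex
      exact ⟨j, i₀, hvj, hv0, hrj, hpos⟩
  · rintro ⟨i, j, hvi, hvj, hri, hrj⟩
    show GLin.IsClosedOrbit k k[T;T⁻¹] (GLin.vecPt k ι v) ∧
      GLin.HasFiniteStab k k[T;T⁻¹] (GLin.vecPt k ι v)
    exact ⟨closed_orbit k ι r hr v i j hvi hvj hri hrj, finite_stab k ι r hr v j hvj hrj⟩

end main

end Groth.Agent.Lib.Helper29.GmStable
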