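import Mathlib

/-!
# ℤ-graded modules: injective homogeneous multiplication reflects degree (helper29)
-/

namespace Groth.Agent.Lib.Helper29.GradedZ

open DirectSum

variable {A M σ : Type*} [CommRing A] [AddCommGroup M] [Module A M] [SetLike σ A]
  (𝒜 : ℤ → σ) (ℳ : ℤ → AddSubgroup M) [DirectSum.Decomposition ℳ] [SetLike.GradedSMul 𝒜 ℳ]

/-- component of `r • x` for homogeneous `r`. -/
theorem decompose_smul_of_mem {c : ℤ} {r : A} (hr : r ∈ 𝒜 c) (x : M) (j : ℤ) :
    (decompose ℳ (r • x) (c + j) : M) = r • (decompose ℳ x j : M) := by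
  classical
  induction x using DirectSum.Decomposition.inductionOn ℳ with
  | zero => simp
  | @homogeneous i y =>
    have hmem : r • (y : M) ∈ ℳ (c + i) := SetLike.GradedSMul.smul_mem hr y.2
    by_cases h : i = j
    · subst h
      rw [decompose_of_mem_same ℳ hmem, decompose_of_mem_same ℳ y.2]
    · rw [decompose_of_mem_ne ℳ hmem (by simpa using h), decompose_of_mem_ne ℳ y.2 h, smul_zero]
  | add y z hy hz =>
    rw [smul_add, decompose_add, decompose_add, DirectSum.add_apply, DirectSum.add_apply,
      AddSubgroup.coe_add, AddSubgroup.coe_add, hy, hz, smul_add]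

theorem mem_of_smul_mem {c : ℤ} {r : A} (hr : r ∈ 𝒜 c)
    (hinj : Function.Injective (fun x : M => r • x)) {x : M} {n : ℤ} (h : r • x ∈ ℳ n) :
    x ∈ ℳ (n - c) := by
  classical
  have hz : ∀ j, j ≠ n - c → (decompose ℳ x j : M) = 0 := by
    intro j hj
    apply hinj
    show r • (decompose ℳ x j : M) = r • (0 : M)
    rw [← decompose_smul_of_mem 𝒜 ℳ hr, smul_zero]
    exact decompose_of_mem_ne ℳ h (by omega)
  rw [← DirectSum.sum_support_decompose ℳ x]
  refine AddSubgroup.sum_mem _ (fun i _ => ?_)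
  by_cases hi : i = n - c
  · subst hi; exact (decompose ℳ x (n - c)).2
  · rw [hz i hi]; exact AddSubgroup.zero_mem _

end Groth.Agent.Lib.Helper29.GradedZ
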