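import Mathlib
import Groth.Prelude.Def_W4c2conddiscmodels
import Groth.Prelude.Def_W4c5modbuncurvesppStab
import Groth.Agent.Lib.Helper29.GraphSub

set_option autoImplicit false

open Finset

namespace Groth.Agent.Lib.Helper29.GraphBridge

open Groth.Agent.Lib.Helper29.GraphInc Groth.Agent.Lib.Helper29.GraphSub

universe u

variable {V E : Type u} [Fintype V] [Fintype E] [DecidableEq V] [DecidableEq E]

/-! ### bridge to the subtype graph -/

theorem adj_sub_iff (ends : E → V × V) (T : Finset E) (a b : V) :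
    LabGraph.Adj (fun e : T => ends e.1) a b ↔ AdjOn ends T a b := by
  constructor
  · rintro ⟨⟨e, he⟩, h⟩; exact ⟨e, he, h⟩
  · rintro ⟨e, he, h⟩; exact ⟨⟨e, he⟩, h⟩

theorem rtg_sub_iff (ends : E → V × V) (T : Finset E) (a b : V) :
    Relation.ReflTransGen (LabGraph.Adj (fun e : T => ends e.1)) a b ↔
      Relation.ReflTransGen (AdjOn ends T) a b := by
  constructor
  · intro h
    induction h with
    | refl => exact Relation.ReflTransGen.refl
    | tail _ hbc ih => exact Relation.ReflTransGen.tail ih ((adj_sub_iff ends T _ _).mp hbc)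
  · intro h
    induction h with
    | refl => exact Relation.ReflTransGen.refl
    | tail _ hbc ih => exact Relation.ReflTransGen.tail ih ((adj_sub_iff ends T _ _).mpr hbc)

theorem endCount_sub (ends : E → V × V) (T : Finset E) (C' : Finset T) (v : V) :
    LabGraph.endCount (fun e : T => ends e.1) C' v =
      LabGraph.endCount ends (C'.map (Function.Embedding.subtype _)) v := by
  unfold LabGraph.endCount
  exact (Finset.sum_map C' (Function.Embedding.subtype _)
    (fun e => (if (ends e).1 = v then 1 else 0) + (if (ends e).2 = v then 1 else 0))).symm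

theorem noEven_iff_isForest (ends : E → V × V) (T : Finset E) :
    NoEven ends T ↔ DualGr.IsForest (fun e : T => ends e.1) := by
  constructor
  · intro hT C' hC'
    obtain ⟨v, hv⟩ := hT (C'.map (Function.Embedding.subtype _)) (by
      intro e he
      rw [Finset.mem_map] at he
      obtain ⟨x, _, rfl⟩ := he
      exact x.2) (by
      obtain ⟨x, hx⟩ := hC'.1
      exact ⟨x.1, Finset.mem_map.mpr ⟨x, hx, rfl⟩⟩)
    apply hv
    rw [← endCount_sub]
    exact hC'.2.1 v
  · intro hF D hDT hne
    by_contra hall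
    push Not at hall
    have hmap : (D.subtype (· ∈ T)).map (Function.Embedding.subtype _) = D :=
      Finset.subtype_map_of_mem (fun x hx => hDT hx)
    have hne' : (D.subtype (· ∈ T)).Nonempty := by
      obtain ⟨e, he⟩ := hne
      exact ⟨⟨e, hDT he⟩, Finset.mem_subtype.mpr he⟩
    have hev' : ∀ v, Even (LabGraph.endCount (fun e : T => ends e.1) (D.subtype (· ∈ T)) v) := by
      intro v
      rw [endCount_sub, hmap]
      exact hall v
    obtain ⟨C, hC⟩ := exists_circuit_of_even (fun e : T => ends e.1) (D.subtype (· ∈ T)) hne' hev'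
    exact hF C hC

theorem isSpanningTree_iff (ends : E → V × V) (T : Finset E) :
    LabGraph.IsSpanningTree ends T ↔
      (Nonempty V ∧ ∀ a b, Relation.ReflTransGen (AdjOn ends T) a b) ∧ NoEven ends T := by
  rw [noEven_iff_isForest]
  constructor
  · rintro ⟨⟨hne, h⟩, hF⟩
    exact ⟨⟨hne, fun a b => (rtg_sub_iff ends T a b).mp (h a b)⟩, hF⟩
  · rintro ⟨⟨hne, h⟩, hF⟩
    exact ⟨⟨hne, fun a b => (rtg_sub_iff ends T a b).mpr (h a b)⟩, hF⟩

theorem noEven_univ_of_forest (ends : E → V × V) (hF : DualGr.IsForest ends) :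
    NoEven ends Finset.univ := by
  rw [noEven_iff_no_circuit]
  intro C _ hC
  exact hF C hC

/-- fundamental cycle of an edge outside a spanning set -/
theorem exists_fundamental_cycle (ends : E → V × V) (T : Finset E)
    (hTreach : ∀ a b, Relation.ReflTransGen (AdjOn ends T) a b) (e : E) (heT : e ∉ T) :
    ∃ γ : E → ℤ, γ e = 1 ∧ (∀ e', e' ∉ insert e T → γ e' = 0) ∧
        ∀ w, LabGraph.boundary ends γ w = 0 := by
  obtain ⟨γ', hγ'0, hγ'b⟩ := exists_chain ends T (hTreach (ends e).2 (ends e).1)
  refine ⟨fun e' => γ' e' + (Pi.single e 1 : E → ℤ) e', ?_, ?_, ?_⟩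
  · show γ' e + (Pi.single e 1 : E → ℤ) e = 1
    rw [hγ'0 e heT, Pi.single_eq_same, zero_add]
  · intro e' he'
    rw [Finset.mem_insert, not_or] at he'
    show γ' e' + (Pi.single e 1 : E → ℤ) e' = 0
    rw [hγ'0 e' he'.2, Pi.single_eq_of_ne he'.1, add_zero]
  · intro w
    refine (boundary_add ends γ' (Pi.single e 1) w).trans ?_
    rw [hγ'b, boundary_single]
    ring

/-! ### S14804 -/

theorem main14804
    (ends : E → V × V) (hG : LabGraph.Connected ends) (v : V) :
    (∃ C : Finset E, LabGraph.IsCircuit ends C ∧ LabGraph.endCount ends C v ≠ 0) ↔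
      ∃ T : Finset E, LabGraph.IsSpanningTree ends T ∧
        ∃ e : E, e ∉ T ∧ ((ends e).1 = v ∨ (ends e).2 = v) := by
  classical
  constructor
  · rintro ⟨C, hC, hv⟩
    have hv' : ∑ e ∈ C, ((if (ends e).1 = v then 1 else 0) +
        (if (ends e).2 = v then 1 else 0)) ≠ 0 := hv
    obtain ⟨e, heC, hev⟩ := Finset.exists_ne_zero_of_sum_ne_zero hv'
    have hend : (ends e).1 = v ∨ (ends e).2 = v := by
      by_contra hno
      push Not at hno
      apply hev
      simp [hno.1, hno.2]
    obtain ⟨T, hST, hTne, hTreach⟩ := exists_spanning_extension ends hG (C.erase e)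
      (noEven_erase_of_circuit ends hC e heC)
    refine ⟨T, (isSpanningTree_iff ends T).mpr ⟨⟨hG.1, hTreach⟩, hTne⟩, e, ?_, hend⟩
    intro heT
    have hCT : C ⊆ T := by
      intro e' he'
      by_cases hee : e' = e
      · rw [hee]; exact heT
      · exact hST (Finset.mem_erase.mpr ⟨hee, he'⟩)
    obtain ⟨w, hw⟩ := hTne C hCT hC.1
    exact hw (hC.2.1 w)
  · rintro ⟨T, hT, e, heT, hend⟩
    obtain ⟨⟨_, hTreach⟩, hTne⟩ := (isSpanningTree_iff ends T).mp hT
    obtain ⟨γ, hγe, hγ0, hγb⟩ := exists_fundamental_cycle ends T hTreach e heT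
    have hOev := odd_support_even ends γ hγb
    have heO : e ∈ Finset.univ.filter fun e' => ¬ (2 : ℤ) ∣ γ e' := by
      rw [Finset.mem_filter, hγe]
      exact ⟨Finset.mem_univ e, by norm_num⟩
    have hOsub : (Finset.univ.filter fun e' => ¬ (2 : ℤ) ∣ γ e') ⊆ insert e T := by
      intro e' he'
      rw [Finset.mem_filter] at he'
      by_contra hnot
      apply he'.2
      rw [hγ0 e' hnot]
      exact dvd_zero _
    obtain ⟨C, hCO, hC⟩ := exists_circuit_subset ends _ ⟨e, heO⟩ hOev
    have heC : e ∈ C := by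
      by_contra heC
      have hCT : C ⊆ T := by
        intro e' he'
        rcases Finset.mem_insert.mp (hOsub (hCO he')) with h | h
        · rw [h] at he'; exact absurd he' heC
        · exact h
      obtain ⟨w, hw⟩ := hTne C hCT hC.1
      exact hw (hC.2.1 w)
    refine ⟨C, hC, ?_⟩
    intro h0
    have h0' : ∑ e' ∈ C, ((if (ends e').1 = v then 1 else 0) +
        (if (ends e').2 = v then 1 else 0)) = 0 := h0
    have hterm := Finset.sum_eq_zero_iff.mp h0' e heC
    rcases hend with h | h
    · rw [if_pos h] at hterm; omega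
    · rw [if_pos h] at hterm; omega

/-! ### S18382 -/

theorem mem_side (ends : E → V × V) (e : E) (v : V) :
    v ∈ PhiStab.side ends e ↔
      Relation.ReflTransGen (AdjOn ends (Finset.univ.erase e)) (ends e).1 v := by
  have h0 : v ∈ PhiStab.side ends e ↔ Relation.ReflTransGen
      (LabGraph.Adj (PhiStab.spanEnds ends (Finset.univ.erase e))) (ends e).1 v := by
    simp only [PhiStab.side, Finset.mem_filter, Finset.mem_univ, true_and]
  rw [h0]
  exact rtg_sub_iff ends (Finset.univ.erase e) (ends e).1 v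

theorem snd_notMem_side (ends : E → V × V) (hT : DualGr.IsTree ends) (e : E) :
    (ends e).2 ∉ PhiStab.side ends e := by
  rw [mem_side]
  intro h
  obtain ⟨γ', hγ'0, hγ'b⟩ := exists_chain ends (Finset.univ.erase e) h
  have hne := noEven_univ_of_forest ends hT.2
  have hz := cycle_eq_zero_of_noEven ends Finset.univ hne
    (fun e' => γ' e' - (Pi.single e 1 : E → ℤ) e')
    (fun e' he' => absurd (Finset.mem_univ e') he') (fun w => by
      refine (boundary_sub ends γ' (Pi.single e 1) w).trans ?_
      rw [hγ'b, boundary_single]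
      ring) e
  have h1 : γ' e = 0 := hγ'0 e (Finset.notMem_erase e _)
  have hz' : γ' e - (Pi.single e 1 : E → ℤ) e = 0 := hz
  rw [h1, Pi.single_eq_same] at hz'
  omega

theorem exists_sol (ends : E → V × V) (hT : DualGr.IsTree ends) (c : E → ℝ) (c₀ : ℝ) :
    ∃ φ : V → ℝ, (∀ e, ∑ v ∈ PhiStab.side ends e, φ v = c e) ∧ ∑ v, φ v = c₀ := by
  classical
  obtain ⟨⟨v₀⟩, _⟩ := id hT.1
  have hgen : ∀ (ξ : E → ℝ) (S : Finset V),
      ∑ v ∈ S, (c₀ * (if v₀ = v then 1 else 0) + ∑ e', ξ e' *
        ((if (ends e').2 = v then 1 else 0) - (if (ends e').1 = v then 1 else 0))) =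
      c₀ * (if v₀ ∈ S then 1 else 0) + ∑ e', ξ e' *
        ((if (ends e').2 ∈ S then 1 else 0) - (if (ends e').1 ∈ S then 1 else 0)) := by
    intro ξ S
    rw [Finset.sum_add_distrib, ← Finset.mul_sum, Finset.sum_ite_eq, Finset.sum_comm]
    congr 1
    refine Finset.sum_congr rfl fun e' _ => ?_
    rw [← Finset.mul_sum, Finset.sum_sub_distrib, Finset.sum_ite_eq, Finset.sum_ite_eq]
  obtain ⟨ξ, hξ⟩ : ∃ ξ : E → ℝ, ∀ e', ξ e' =
      c₀ * (if v₀ ∈ PhiStab.side ends e' then 1 else 0) - c e' := ⟨_, fun _ => rfl⟩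
  obtain ⟨φ, hφ⟩ : ∃ φ : V → ℝ, ∀ v, φ v = c₀ * (if v₀ = v then 1 else 0) + ∑ e', ξ e' *
      ((if (ends e').2 = v then 1 else 0) - (if (ends e').1 = v then 1 else 0)) :=
    ⟨_, fun _ => rfl⟩
  refine ⟨φ, ?_, ?_⟩
  · intro e
    rw [Finset.sum_congr rfl (fun v _ => hφ v), hgen, Finset.sum_eq_single e]
    · have h1 : (ends e).1 ∈ PhiStab.side ends e :=
        (mem_side ends e _).mpr Relation.ReflTransGen.refl
      have h2 := snd_notMem_side ends hT e
      rw [if_neg h2, if_pos h1, hξ e]
      ring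
    · intro e' _ hne
      have hiff : (ends e').1 ∈ PhiStab.side ends e ↔ (ends e').2 ∈ PhiStab.side ends e := by
        rw [mem_side, mem_side]
        exact reachOn_step ends (ends e).1 e' (Finset.mem_erase.mpr ⟨hne, Finset.mem_univ e'⟩)
      by_cases h : (ends e').1 ∈ PhiStab.side ends e
      · rw [if_pos h, if_pos (hiff.mp h), sub_self, mul_zero]
      · rw [if_neg h, if_neg (fun h' => h (hiff.mpr h')), sub_self, mul_zero]
    · intro h; exact absurd (Finset.mem_univ e) h
  · rw [Finset.sum_congr rfl (fun v _ => hφ v), hgen]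
    simp

/-- the side-sum map -/
noncomputable def sideMap (ends : E → V × V) : (V → ℝ) →ₗ[ℝ] (Option E → ℝ) where
  toFun φ := fun x => x.elim (∑ v, φ v) (fun e => ∑ v ∈ PhiStab.side ends e, φ v)
  map_add' φ ψ := by
    funext x
    cases x with
    | none => simp [Finset.sum_add_distrib]
    | some e => simp [Finset.sum_add_distrib]
  map_smul' r φ := by
    funext x
    cases x with
    | none => simp [Finset.mul_sum]
    | some e => simp [Finset.mul_sum]

theorem main18382 (ends : E → V × V) (hT : DualGr.IsTree ends)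
    (c : E → ℝ) (c₀ : ℝ) :
    ∃! φ : V → ℝ, (∀ e : E, (∑ v ∈ PhiStab.side ends e, φ v) = c e) ∧ (∑ v : V, φ v) = c₀ := by
  have hsurj : Function.Surjective (sideMap ends) := by
    intro w
    obtain ⟨φ, h1, h2⟩ := exists_sol ends hT (fun e => w (some e)) (w none)
    refine ⟨φ, ?_⟩
    funext x
    cases x with
    | none => exact h2
    | some e => exact h1 e
  have hfin : Module.finrank ℝ (V → ℝ) = Module.finrank ℝ (Option E → ℝ) := by
    rw [Module.finrank_fintype_fun_eq_card, Module.finrank_fintype_fun_eq_card,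
      Fintype.card_option, card_add_one_of_isTree ends hT]
  have hinj : Function.Injective (sideMap ends) :=
    (LinearMap.injective_iff_surjective_of_finrank_eq_finrank hfin).mpr hsurj
  obtain ⟨φ, h1, h2⟩ := exists_sol ends hT c c₀
  refine ⟨φ, ⟨h1, h2⟩, fun ψ hψ => hinj ?_⟩
  obtain ⟨k1, k2⟩ := hψ
  funext x
  cases x with
  | none => exact k2.trans h2.symm
  | some e => exact (k1 e).trans (h1 e).symm

end Groth.Agent.Lib.Helper29.GraphBridge
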