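import Mathlib
import Groth.Prelude.Def_W4c2conddiscmodels
import Groth.Agent.Lib.Helper29.CauchyBinetSq
import Groth.Agent.Lib.Helper29.GraphInc

set_option autoImplicit false

open Finset Matrix

namespace Groth.Agent.Lib.Helper29.GraphDet

open Groth.Agent.Lib.Helper29.GraphInc

universe u

variable {V E : Type u} [Fintype V] [Fintype E] [DecidableEq V] [DecidableEq E]

theorem map_incAug (R : Type*) [CommRing R] (ends : E → V × V) (v0 : V) :
    (incAug ℤ ends (Pi.single v0 1)).map (Int.castRingHom R) = incAug R ends (Pi.single v0 1) := by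
  ext v x
  cases x with
  | none => simp [Pi.single_apply]
  | some e => simp [inc]

theorem det_cast (R : Type*) [CommRing R] (ends : E → V × V) (v0 : V) (f : V → Option E) :
    ((((incAug ℤ ends (Pi.single v0 1)).submatrix id f).det : ℤ) : R) =
      ((incAug R ends (Pi.single v0 1)).submatrix id f).det := by
  rw [← map_incAug R ends v0, Matrix.submatrix_map]
  exact (Int.castRingHom R).map_det _

theorem det_mod_ne_zero (ends : E → V × V) (v0 : V) (φ : V ≃ Option E)
    (hG : LabGraph.Connected ends) (p : ℕ) [Fact p.Prime] :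
    ((((incAug ℤ ends (Pi.single v0 1)).submatrix id φ).det : ℤ) : ZMod p) ≠ 0 := by
  intro h0
  rw [det_cast] at h0
  obtain ⟨y, hy0, hy⟩ := Matrix.exists_vecMul_eq_zero_iff.mpr h0
  apply hy0
  apply left_ker_trivial (ZMod p) ends v0 hG y
  funext x
  have := congrFun hy (φ.symm x)
  have e : (y ᵥ* (incAug (ZMod p) ends (Pi.single v0 1)).submatrix id φ) (φ.symm x)
      = (y ᵥ* incAug (ZMod p) ends (Pi.single v0 1)) (φ (φ.symm x)) := rfl
  rw [e, Equiv.apply_symm_apply] at this
  exact this

theorem core_connected (ends : E → V × V) (v0 : V) (φ : V ≃ Option E)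
    (hG : LabGraph.Connected ends) :
    ((incAug ℤ ends (Pi.single v0 1)).submatrix id φ).det ^ 2 = 1 ∧ DualGr.IsForest ends := by
  have hnat : (((incAug ℤ ends (Pi.single v0 1)).submatrix id φ).det).natAbs = 1 := by
    rw [Nat.eq_one_iff_not_exists_prime_dvd]
    intro p hp hdvd
    haveI := Fact.mk hp
    apply det_mod_ne_zero ends v0 φ hG p
    rw [CharP.intCast_eq_zero_iff (ZMod p) p]
    exact Int.natCast_dvd.mpr hdvd
  refine ⟨?_, forest_of_right_ker_trivial ends v0 fun c' hc' => ?_⟩
  · rw [← Int.natAbs_sq, hnat]; norm_num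
  · have hdet2 : ((incAug (ZMod 2) ends (Pi.single v0 1)).submatrix id φ).det ≠ 0 := by
      rw [← det_cast]; exact det_mod_ne_zero ends v0 φ hG 2
    have h3 : (incAug (ZMod 2) ends (Pi.single v0 1)).submatrix id φ *ᵥ (c' ∘ φ) = 0 := by
      rw [Matrix.submatrix_mulVec_equiv]
      have : (c' ∘ φ) ∘ φ.symm = c' := by funext x; simp
      rw [this, hc']; rfl
    have h4 := Matrix.eq_zero_of_mulVec_eq_zero hdet2 h3
    funext x
    have := congrFun h4 (φ.symm x)
    simpa using this

theorem core_not_connected (ends : E → V × V) (v0 : V) (φ : V ≃ Option E)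
    (hG : ¬ LabGraph.Connected ends) :
    ((incAug ℤ ends (Pi.single v0 1)).submatrix id φ).det = 0 := by
  obtain ⟨y, hy0, hy⟩ := exists_left_ker_of_not_connected ends v0 hG
  apply Matrix.exists_vecMul_eq_zero_iff.mp
  refine ⟨y, hy0, ?_⟩
  funext j
  exact congrFun hy (φ j)

theorem det_sq_eq_ite_aux (ends : E → V × V) (v0 : V) (f : V → Option E)
    (hf : Function.Injective f) (hnone : ∃ j, f j = none) (T : Finset E)
    (hT : ∀ e, e ∈ T ↔ ∃ j, f j = some e) [Decidable (LabGraph.IsSpanningTree ends T)] :
    ((incAug ℤ ends (Pi.single v0 1)).submatrix id f).det ^ 2 =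
      if LabGraph.IsSpanningTree ends T then 1 else 0 := by
  have hι : Function.Injective (Option.map (Subtype.val : T → E)) :=
    Option.map_injective Subtype.val_injective
  have hr : Set.range f = Set.range (Option.map (Subtype.val : T → E)) := by
    ext x
    cases x with
    | none =>
      simp only [Set.mem_range]
      exact ⟨fun _ => ⟨none, rfl⟩, fun _ => hnone⟩
    | some e =>
      simp only [Set.mem_range]
      constructor
      · rintro ⟨j, hj⟩
        have he : e ∈ T := (hT e).mpr ⟨j, hj⟩
        exact ⟨some ⟨e, he⟩, rfl⟩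
      · rintro ⟨y, hy⟩
        cases y with
        | none => simp at hy
        | some e' =>
          have h1 : e'.1 = e := by simpa using hy
          have he : e ∈ T := h1 ▸ e'.2
          exact (hT e).mp he
  obtain ⟨φ, hφ⟩ := CauchyBinetSq.exists_equiv_of_range_eq f _ hf hι hr
  have hQ : (incAug ℤ ends (Pi.single v0 1)).submatrix id f =
      (incAug ℤ (fun e : T => ends e.1) (Pi.single v0 1)).submatrix id φ := by
    ext v j
    simp only [Matrix.submatrix_apply, id_eq]
    rw [← hφ j]
    generalize φ j = x
    cases x with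
    | none => rfl
    | some e => rfl
  rw [hQ]
  by_cases hc : LabGraph.Connected (fun e : T => ends e.1)
  · obtain ⟨h1, h2⟩ := core_connected (fun e : T => ends e.1) v0 φ hc
    have hTree : LabGraph.IsSpanningTree ends T := by
      unfold LabGraph.IsSpanningTree DualGr.IsTree
      exact ⟨hc, h2⟩
    rw [h1, if_pos hTree]
  · have hTree : ¬ LabGraph.IsSpanningTree ends T := by
      intro h
      unfold LabGraph.IsSpanningTree DualGr.IsTree at h
      exact hc h.1
    rw [core_not_connected (fun e : T => ends e.1) v0 φ hc, if_neg hTree]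
    norm_num

theorem det_sq_eq_ite (ends : E → V × V) (v0 : V) (f : V → Option E)
    (hf : Function.Injective f) (hnone : ∃ j, f j = none)
    [Decidable (LabGraph.IsSpanningTree ends (univ.image f).eraseNone)] :
    ((incAug ℤ ends (Pi.single v0 1)).submatrix id f).det ^ 2 =
      if LabGraph.IsSpanningTree ends (univ.image f).eraseNone then 1 else 0 := by
  apply det_sq_eq_ite_aux ends v0 f hf hnone
  intro e
  rw [Finset.mem_eraseNone, Finset.mem_image]
  constructor
  · rintro ⟨j, _, hj⟩; exact ⟨j, hj⟩
  · rintro ⟨j, hj⟩; exact ⟨j, Finset.mem_univ _, hj⟩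

/-! ### the dependence on the extra column -/

theorem det_eq_zero_of_col_sums [Nonempty V] (M : Matrix V V ℤ) (h : ∀ j, ∑ v, M v j = 0) :
    M.det = 0 := by
  apply Matrix.exists_vecMul_eq_zero_iff.mp
  refine ⟨fun _ => 1, ?_, ?_⟩
  · intro h0
    obtain ⟨v⟩ := ‹Nonempty V›
    have := congrFun h0 v
    simp at this
  · funext j
    simp [Matrix.vecMul, dotProduct, h j]

theorem det_incAug_of_none_notMem [Nonempty V] (ends : E → V × V) (z : V → ℤ) (f : V → Option E)
    (hnone : ∀ j, f j ≠ none) : ((incAug ℤ ends z).submatrix id f).det = 0 := by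
  apply det_eq_zero_of_col_sums
  intro j
  cases hfj : f j with
  | none => exact absurd hfj (hnone j)
  | some e =>
    simp only [Matrix.submatrix_apply, id_eq, hfj, incAug_some]
    exact inc_col_sum ℤ ends e

theorem det_incAug_eq [Nonempty V] (ends : E → V × V) (z : V → ℤ) (v0 : V) (f : V → Option E)
    (hf : Function.Injective f) (j0 : V) (hj0 : f j0 = none) :
    ((incAug ℤ ends z).submatrix id f).det =
      (∑ v, z v) * ((incAug ℤ ends (Pi.single v0 1)).submatrix id f).det := by
  have hcol : ∀ (z' : V → ℤ), (incAug ℤ ends z').submatrix id f =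
      ((incAug ℤ ends (Pi.single v0 1)).submatrix id f).updateCol j0 z' := by
    intro z'
    ext v j
    by_cases hj : j = j0
    · subst hj
      rw [Matrix.updateCol_self]
      simp [hj0]
    · rw [Matrix.updateCol_ne hj]
      have hne : f j ≠ none := fun h => hj (hf (h.trans hj0.symm))
      cases hfj : f j with
      | none => exact absurd hfj hne
      | some e => simp [hfj]
  have hself : ((incAug ℤ ends (Pi.single v0 1)).submatrix id f).updateCol j0 (Pi.single v0 1)
      = (incAug ℤ ends (Pi.single v0 1)).submatrix id f := (hcol (Pi.single v0 1)).symm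
  have hdec : z = (∑ v, z v) • (Pi.single v0 (1 : ℤ) : V → ℤ) +
      (z - (∑ v, z v) • (Pi.single v0 (1 : ℤ) : V → ℤ)) := by
    rw [add_sub_cancel]
  rw [hcol z]
  conv_lhs => rw [hdec]
  rw [Matrix.det_updateCol_add, Matrix.det_updateCol_smul, hself]
  have hzero : (((incAug ℤ ends (Pi.single v0 1)).submatrix id f).updateCol j0
      (z - (∑ v, z v) • (Pi.single v0 (1 : ℤ) : V → ℤ))).det = 0 := by
    apply det_eq_zero_of_col_sums
    intro j
    by_cases hj : j = j0
    · subst hj
      simp only [Matrix.updateCol_self]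
      simp [Finset.sum_sub_distrib, ← Finset.mul_sum, Pi.single_apply]
    · simp only [Matrix.updateCol_ne hj]
      have hne : f j ≠ none := fun h => hj (hf (h.trans hj0.symm))
      cases hfj : f j with
      | none => exact absurd hfj hne
      | some e =>
        simp only [Matrix.submatrix_apply, id_eq, hfj, incAug_some]
        exact inc_col_sum ℤ ends e
  rw [hzero, add_zero]

end Groth.Agent.Lib.Helper29.GraphDet
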