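import Mathlib
import Groth.Prelude.Def_W4c6equivkfinstabCyc

/-!
# Cyclotomic decomposition of group rings of finite abelian groups (helper29)

For a commutative ring `Λ`, an abelian group `M` and finite-index subgroups `B` with `M ⧸ B` cyclic,
we study the kernels `K_B` of `cycQuotMap Λ M B : Λ[M] → Λ[M/B]/(Φ_{|M/B|})`:

* `geomSum_mem_cycIdeal`: for `c ≠ 0` in a finite cyclic group `C`, the norm element
  `∑_{i < ord c} [c]^i` lies in `cycIdeal Λ C`;
* `sup_ker_eq_top`, `isCoprime_ker`: comaximality of the `K_B`;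
* `quotMap_eq_zero_of_forall_cyc`: `⋂_{B ≥ B₀} K_B = ker (Λ[M] → Λ[M/B₀])` when `[M : B₀]` is a unit;
* the four milestone statements S19276–S19279 as `thm19276` … `thm19279`.
-/

set_option autoImplicit false
set_option linter.style.haveILetI false
universe u v

namespace Groth.Agent.Lib.Helper29.GrpAlgCyc

open W4c6equivkfinstab Polynomial

section poly

lemma map_eval_cyclotomic {S T : Type*} [CommRing S] [CommRing T] (f : S →+* T) (n : ℕ) (x : S) :
    f ((cyclotomic n S).eval x) = (cyclotomic n T).eval (f x) := by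
  rw [← map_cyclotomic n f, eval_map, eval₂_at_apply]

lemma cyclotomic_dvd_geom_pow (S : Type*) [CommRing S] {d k o : ℕ} (hk : k ≠ 0) (ho : o ≠ 0)
    (hd : d ∣ k * o) (hnd : ¬ d ∣ k) :
    cyclotomic d S ∣ ∑ i ∈ Finset.range o, ((X : S[X]) ^ k) ^ i := by
  suffices h : cyclotomic d ℤ ∣ ∑ i ∈ Finset.range o, ((X : ℤ[X]) ^ k) ^ i by
    simpa only [map_cyclotomic_int, Polynomial.map_sum, Polynomial.map_pow, Polynomial.map_X] using
      Polynomial.map_dvd (Int.castRingHom S) h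
  have hko : k * o ≠ 0 := mul_ne_zero hk ho
  have h1 := X_pow_sub_one_mul_prod_cyclotomic_eq_X_pow_sub_one_of_dvd ℤ
    (Dvd.intro o rfl : k ∣ k * o) hko
  have h2 : ((X : ℤ[X]) ^ k - 1) * ∑ i ∈ Finset.range o, ((X : ℤ[X]) ^ k) ^ i
      = X ^ (k * o) - 1 := by
    rw [mul_geom_sum, pow_mul]
  have h3 : (X : ℤ[X]) ^ k - 1 ≠ 0 := by
    have := Polynomial.X_pow_sub_C_ne_zero (Nat.pos_of_ne_zero hk) (1 : ℤ)
    simpa using this
  have h4 : ∑ i ∈ Finset.range o, ((X : ℤ[X]) ^ k) ^ i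
      = ∏ x ∈ (k * o).divisors \ k.divisors, cyclotomic x ℤ :=
    mul_left_cancel₀ h3 (h2.trans h1.symm)
  rw [h4]
  apply Finset.dvd_prod_of_mem
  rw [Finset.mem_sdiff, Nat.mem_divisors, Nat.mem_divisors]
  exact ⟨⟨hd, hko⟩, fun h => hnd h.1⟩

lemma eval_cyclotomic_dvd_geom_pow {S : Type*} [CommRing S] {d k o : ℕ} (hk : k ≠ 0) (ho : o ≠ 0)
    (hd : d ∣ k * o) (hnd : ¬ d ∣ k) (x : S) :
    (cyclotomic d S).eval x ∣ ∑ i ∈ Finset.range o, (x ^ k) ^ i := by
  have := Polynomial.eval_dvd (x := x) (cyclotomic_dvd_geom_pow S hk ho hd hnd)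
  simpa [Polynomial.eval_finsetSum] using this

lemma isUnit_natCast_of_dvd {R : Type*} [CommRing R] {a b : ℕ} (h : a ∣ b)
    (hb : IsUnit ((b : ℕ) : R)) : IsUnit ((a : ℕ) : R) := by
  obtain ⟨c, rfl⟩ := h
  rw [Nat.cast_mul] at hb
  exact isUnit_of_mul_isUnit_left hb

/-- `{y | y * s ∈ J}` -/
def colon {R : Type*} [CommRing R] (J : Ideal R) (s : R) : Ideal R where
  carrier := {y | y * s ∈ J}
  zero_mem' := by simp
  add_mem' := by
    intro a b ha hb
    simp only [Set.mem_ofPred_eq] at *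
    rw [add_mul]
    exact J.add_mem ha hb
  smul_mem' := by
    intro c a ha
    simp only [Set.mem_ofPred_eq, smul_eq_mul] at *
    rw [mul_assoc]
    exact J.mul_mem_left c ha

lemma mem_colon {R : Type*} [CommRing R] {J : Ideal R} {s y : R} :
    y ∈ colon J s ↔ y * s ∈ J := Iff.rfl

end poly

variable (Λ : Type u) [CommRing Λ]

section basics

variable {M : Type v} [AddCommGroup M]

/-- The group-ring element `[m]`. -/
noncomputable def sg (m : M) : AddMonoidAlgebra Λ M := AddMonoidAlgebra.single m (1 : Λ)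

lemma sg_zero : sg Λ (0 : M) = 1 := (AddMonoidAlgebra.one_def).symm

lemma sg_add (a b : M) : sg Λ (a + b) = sg Λ a * sg Λ b := by
  simp [sg, AddMonoidAlgebra.single_mul_single]

lemma sg_nsmul (n : ℕ) (a : M) : sg Λ (n • a) = sg Λ a ^ n := by
  simp [sg, AddMonoidAlgebra.single_pow]

lemma sg_neg_mul (a : M) : sg Λ (-a) * sg Λ a = 1 := by
  rw [← sg_add, neg_add_cancel, sg_zero]

lemma single_eq_mul_sg (m : M) (r : Λ) (b : M) :
    AddMonoidAlgebra.single (m + b) r = AddMonoidAlgebra.single m r * sg Λ b := by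
  simp [sg, AddMonoidAlgebra.single_mul_single]

lemma aeval_cyclotomic_eq {S : Type*} [CommRing S] [Algebra Λ S] (n : ℕ) (x : S) :
    Polynomial.aeval x (cyclotomic n Λ) = (cyclotomic n S).eval x := by
  rw [aeval_def, eval₂_eq_eval_map, map_cyclotomic]

lemma isUnit_natCast_alg {n : ℕ} (h : IsUnit ((n : ℕ) : Λ)) :
    IsUnit ((n : ℕ) : AddMonoidAlgebra Λ M) := by
  have := h.map (algebraMap Λ (AddMonoidAlgebra Λ M))
  rwa [map_natCast] at this

lemma quotMap_single (B : AddSubgroup M) (m : M) (r : Λ) :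
    quotMap Λ M B (AddMonoidAlgebra.single m r) = AddMonoidAlgebra.single (m : M ⧸ B) r := by
  change AddMonoidAlgebra.mapDomain (QuotientAddGroup.mk' B) (AddMonoidAlgebra.single m r) = _
  rw [AddMonoidAlgebra.mapDomain_single]
  rfl

lemma quotMap_sg (B : AddSubgroup M) (m : M) : quotMap Λ M B (sg Λ m) = sg Λ (m : M ⧸ B) :=
  quotMap_single Λ B m 1

lemma quotMap_surjective (B : AddSubgroup M) : Function.Surjective (quotMap Λ M B) := by
  intro y
  induction y using AddMonoidAlgebra.induction_linear with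
  | zero => exact ⟨0, map_zero _⟩
  | add x y hx hy =>
    obtain ⟨a, rfl⟩ := hx
    obtain ⟨b, rfl⟩ := hy
    exact ⟨a + b, map_add _ _ _⟩
  | single c r =>
    obtain ⟨m, rfl⟩ := QuotientAddGroup.mk_surjective c
    exact ⟨AddMonoidAlgebra.single m r, quotMap_single Λ B m r⟩

lemma cycQuotMap_apply (B : AddSubgroup M) (x : AddMonoidAlgebra Λ M) :
    cycQuotMap Λ M B x = Ideal.Quotient.mk (cycIdeal Λ (M ⧸ B)) (quotMap Λ M B x) := rfl

lemma cycQuotMap_surjective (B : AddSubgroup M) : Function.Surjective (cycQuotMap Λ M B) := by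
  intro y
  obtain ⟨w, rfl⟩ := Ideal.Quotient.mk_surjective y
  obtain ⟨x, rfl⟩ := quotMap_surjective Λ B w
  exact ⟨x, rfl⟩

lemma sg_sub_one_mem_ker (B : AddSubgroup M) {b : M} (hb : b ∈ B) :
    sg Λ b - 1 ∈ RingHom.ker (quotMap Λ M B) := by
  rw [RingHom.mem_ker, map_sub, map_one, quotMap_sg, (QuotientAddGroup.eq_zero_iff b).2 hb,
    sg_zero, sub_self]

lemma ker_quotMap_le (B : AddSubgroup M) (I : Ideal (AddMonoidAlgebra Λ M))
    (h : ∀ b ∈ B, sg Λ b - 1 ∈ I) : RingHom.ker (quotMap Λ M B) ≤ I := by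
  classical
  have key : ∀ x : AddMonoidAlgebra Λ M,
      x - AddMonoidAlgebra.mapDomain (Quotient.out : M ⧸ B → M) (quotMap Λ M B x) ∈ I := by
    intro x
    induction x using AddMonoidAlgebra.induction_linear with
    | zero => simp [AddMonoidAlgebra.mapDomain_zero]
    | add x y hx hy =>
      rw [map_add, AddMonoidAlgebra.mapDomain_add, add_sub_add_comm]
      exact I.add_mem hx hy
    | single m r =>
      rw [quotMap_single, AddMonoidAlgebra.mapDomain_single]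
      have hmem : -(Quotient.out (m : M ⧸ B) : M) + m ∈ B := by
        rw [← QuotientAddGroup.eq]
        exact QuotientAddGroup.out_eq' _
      have e : AddMonoidAlgebra.single m r
            - AddMonoidAlgebra.single (Quotient.out (m : M ⧸ B) : M) r
          = AddMonoidAlgebra.single (Quotient.out (m : M ⧸ B) : M) r
            * (sg Λ (-(Quotient.out (m : M ⧸ B) : M) + m) - 1) := by
        rw [mul_sub, mul_one, ← single_eq_mul_sg, add_neg_cancel_left]
      rw [e]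
      exact I.mul_mem_left _ (h _ hmem)
  intro x hx
  have := key x
  rwa [RingHom.mem_ker.1 hx, AddMonoidAlgebra.mapDomain_zero, sub_zero] at this

lemma ker_quotMap_le_ker_cyc (B : AddSubgroup M) :
    RingHom.ker (quotMap Λ M B) ≤ RingHom.ker (cycQuotMap Λ M B) := by
  intro x hx
  rw [RingHom.mem_ker] at hx ⊢
  rw [cycQuotMap_apply, hx, map_zero]

lemma ker_quotMap_le_ker_cyc_of_le {B₀ B : AddSubgroup M} (h : B₀ ≤ B) :
    RingHom.ker (quotMap Λ M B₀) ≤ RingHom.ker (cycQuotMap Λ M B) :=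
  ker_quotMap_le Λ B₀ _ fun _ hb =>
    ker_quotMap_le_ker_cyc Λ B (sg_sub_one_mem_ker Λ B (h hb))

lemma ker_cycQuotMap_le (B : AddSubgroup M) (T : Ideal (AddMonoidAlgebra Λ M))
    (h1 : ∀ b ∈ B, sg Λ b - 1 ∈ T)
    (h2 : ∀ m : M, AddSubgroup.zmultiples (m : M ⧸ B) = ⊤ →
      (cyclotomic (Nat.card (M ⧸ B)) (AddMonoidAlgebra Λ M)).eval (sg Λ m) ∈ T) :
    RingHom.ker (cycQuotMap Λ M B) ≤ T := by
  intro y hy
  rw [RingHom.mem_ker, cycQuotMap_apply, Ideal.Quotient.eq_zero_iff_mem] at hy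
  have hle : cycIdeal Λ (M ⧸ B) ≤ Ideal.map (quotMap Λ M B) T := by
    unfold cycIdeal
    rw [Ideal.span_le]
    rintro _ ⟨g, hg, rfl⟩
    obtain ⟨m, rfl⟩ := QuotientAddGroup.mk_surjective g
    have e : Polynomial.aeval (AddMonoidAlgebra.single (m : M ⧸ B) (1 : Λ))
          (cyclotomic (Nat.card (M ⧸ B)) Λ)
        = quotMap Λ M B
          ((cyclotomic (Nat.card (M ⧸ B)) (AddMonoidAlgebra Λ M)).eval (sg Λ m)) := by
      rw [aeval_cyclotomic_eq, map_eval_cyclotomic, quotMap_sg]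
      rfl
    rw [SetLike.mem_coe, e]
    exact Ideal.mem_map_of_mem _ (h2 m hg)
  obtain ⟨t, ht, hty⟩ :=
    (Ideal.mem_map_iff_of_surjective _ (quotMap_surjective Λ B)).1 (hle hy)
  have h3 : y - t ∈ RingHom.ker (quotMap Λ M B) := by
    rw [RingHom.mem_ker, map_sub, hty, sub_self]
  have h4 := ker_quotMap_le Λ B T h1 h3
  have e : y = (y - t) + t := by ring
  rw [e]
  exact T.add_mem h4 ht

end basics

section normElement

/-- For `c ≠ 0` in a finite cyclic group `C`, the norm element of the subgroup generated by `c`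
lies in the cyclotomic ideal. -/
lemma geomSum_mem_cycIdeal (C : Type*) [AddCommGroup C] [Finite C] [IsAddCyclic C] (c : C)
    (hc : c ≠ 0) : ∑ i ∈ Finset.range (addOrderOf c), sg Λ c ^ i ∈ cycIdeal Λ C := by
  obtain ⟨g, hg⟩ := IsAddCyclic.exists_generator (α := C)
  have htop : AddSubgroup.zmultiples g = ⊤ := (AddSubgroup.eq_top_iff' _).2 hg
  have hord : addOrderOf g = Nat.card C := addOrderOf_eq_card_of_forall_mem_zmultiples hg
  obtain ⟨k, hk⟩ : ∃ k : ℕ, k • g = c := by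
    have := hg c
    rw [← mem_multiples_iff_mem_zmultiples] at this
    exact (AddSubmonoid.mem_multiples_iff _ _).1 this
  have hk0 : k ≠ 0 := by
    rintro rfl
    exact hc (by rw [← hk, zero_nsmul])
  have hnd : ¬ Nat.card C ∣ k := by
    intro h
    apply hc
    rw [← hk]
    apply addOrderOf_dvd_iff_nsmul_eq_zero.1
    rw [hord]
    exact h
  have ho : addOrderOf c ≠ 0 := (addOrderOf_pos c).ne'
  have hd : Nat.card C ∣ k * addOrderOf c := by
    rw [← hord]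
    apply addOrderOf_dvd_of_nsmul_eq_zero
    rw [mul_comm, mul_smul, hk, addOrderOf_nsmul_eq_zero]
  have hgen : (cyclotomic (Nat.card C) (AddMonoidAlgebra Λ C)).eval (sg Λ g) ∈ cycIdeal Λ C := by
    rw [← aeval_cyclotomic_eq Λ]
    exact Ideal.subset_span ⟨g, htop, rfl⟩
  have hdvd := eval_cyclotomic_dvd_geom_pow hk0 ho hd hnd (sg Λ g)
  have hsg : sg Λ c = sg Λ g ^ k := by rw [← hk, sg_nsmul]
  rw [hsg]
  obtain ⟨q, hq⟩ := hdvd
  rw [hq]
  exact Ideal.mul_mem_right _ _ hgen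

variable {M : Type v} [AddCommGroup M]

lemma natCast_order_mem_sup (B' : AddSubgroup M) [B'.FiniteIndex] [IsAddCyclic (M ⧸ B')]
    (I : Ideal (AddMonoidAlgebra Λ M)) {b : M} (hb : b ∉ B') (hI : sg Λ b - 1 ∈ I) :
    ((addOrderOf (b : M ⧸ B') : ℕ) : AddMonoidAlgebra Λ M)
      ∈ I ⊔ RingHom.ker (cycQuotMap Λ M B') := by
  have h1 : ∑ i ∈ Finset.range (addOrderOf (b : M ⧸ B')), sg Λ b ^ i
      ∈ RingHom.ker (cycQuotMap Λ M B') := by
    rw [RingHom.mem_ker, cycQuotMap_apply, Ideal.Quotient.eq_zero_iff_mem, map_sum]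
    simp only [map_pow, quotMap_sg]
    exact geomSum_mem_cycIdeal Λ (M ⧸ B') _
      (fun h => hb ((QuotientAddGroup.eq_zero_iff b).1 h))
  have h2 : ∑ i ∈ Finset.range (addOrderOf (b : M ⧸ B')), sg Λ b ^ i
      - ((addOrderOf (b : M ⧸ B') : ℕ) : AddMonoidAlgebra Λ M) ∈ I := by
    rw [← Ideal.Quotient.eq]
    have hy : Ideal.Quotient.mk I (sg Λ b) = 1 := by
      rw [← map_one (Ideal.Quotient.mk I)]
      exact Ideal.Quotient.eq.2 hI
    simp [map_sum, map_pow, hy]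
  have e : ((addOrderOf (b : M ⧸ B') : ℕ) : AddMonoidAlgebra Λ M)
      = ∑ i ∈ Finset.range (addOrderOf (b : M ⧸ B')), sg Λ b ^ i
        - (∑ i ∈ Finset.range (addOrderOf (b : M ⧸ B')), sg Λ b ^ i
          - ((addOrderOf (b : M ⧸ B') : ℕ) : AddMonoidAlgebra Λ M)) := by ring
  rw [e]
  exact Submodule.sub_mem _ (Ideal.mem_sup_right h1) (Ideal.mem_sup_left h2)

lemma sup_ker_eq_top (B' : AddSubgroup M) [B'.FiniteIndex] [IsAddCyclic (M ⧸ B')]
    (hu : IsUnit ((B'.index : ℕ) : Λ))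
    (I : Ideal (AddMonoidAlgebra Λ M)) {b : M} (hb : b ∉ B') (hI : sg Λ b - 1 ∈ I) :
    I ⊔ RingHom.ker (cycQuotMap Λ M B') = ⊤ := by
  have h := natCast_order_mem_sup Λ B' I hb hI
  have hdvd : addOrderOf (b : M ⧸ B') ∣ B'.index := by
    rw [AddSubgroup.index_eq_card]
    exact addOrderOf_dvd_natCard _
  exact Ideal.eq_top_of_isUnit_mem _ h (isUnit_natCast_alg Λ (isUnit_natCast_of_dvd hdvd hu))

theorem isCoprime_ker (B B' : AddSubgroup M) [B.FiniteIndex] [B'.FiniteIndex]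
    [IsAddCyclic (M ⧸ B)] [IsAddCyclic (M ⧸ B')] (hne : B ≠ B')
    (hu : IsUnit ((B.index : ℕ) : Λ)) (hu' : IsUnit ((B'.index : ℕ) : Λ)) :
    RingHom.ker (cycQuotMap Λ M B) ⊔ RingHom.ker (cycQuotMap Λ M B') = ⊤ := by
  by_cases h : B ≤ B'
  · have h' : ¬ B' ≤ B := fun h' => hne (le_antisymm h h')
    obtain ⟨b, hb', hb⟩ := SetLike.not_le_iff_exists.1 h'
    rw [sup_comm]
    exact sup_ker_eq_top Λ B hu _ hb
      (ker_quotMap_le_ker_cyc Λ B' (sg_sub_one_mem_ker Λ B' hb'))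
  · obtain ⟨b, hb, hb'⟩ := SetLike.not_le_iff_exists.1 h
    exact sup_ker_eq_top Λ B' hu' _ hb'
      (ker_quotMap_le_ker_cyc Λ B (sg_sub_one_mem_ker Λ B hb))

/-- core of S19278 -/
theorem subsingleton_loc_quot (B₀ B : AddSubgroup M) [B.FiniteIndex]
    [IsAddCyclic (M ⧸ B)] (hle : ¬ B₀ ≤ B) (hu : IsUnit ((B.index : ℕ) : Λ)) :
    Subsingleton (LocalizedModule (locSubmonoid Λ M B) (AddMonoidAlgebra Λ (M ⧸ B₀))) := by
  obtain ⟨b, hb₀, hb⟩ := SetLike.not_le_iff_exists.1 hle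
  have htop := sup_ker_eq_top Λ B hu (RingHom.ker (quotMap Λ M B₀)) hb
    (sg_sub_one_mem_ker Λ B₀ hb₀)
  have h1 : (1 : AddMonoidAlgebra Λ M)
      ∈ RingHom.ker (quotMap Λ M B₀) ⊔ RingHom.ker (cycQuotMap Λ M B) := by
    rw [htop]; trivial
  obtain ⟨i, hi, k, hk, hik⟩ := Submodule.mem_sup.1 h1
  have hs : i ∈ locSubmonoid Λ M B := by
    show cycQuotMap Λ M B i = 1
    have e : i = 1 - k := by rw [← hik]; ring
    rw [e, map_sub, map_one, RingHom.mem_ker.1 hk, sub_zero]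
  rw [LocalizedModule.subsingleton_iff]
  intro z
  refine ⟨i, hs, ?_⟩
  rw [Algebra.smul_def]
  show quotMap Λ M B₀ i * z = 0
  rw [RingHom.mem_ker.1 hi, zero_mul]

/-- core of S19277 -/
theorem subsingleton_loc_cyc (B B' : AddSubgroup M) [B.FiniteIndex] [B'.FiniteIndex]
    [IsAddCyclic (M ⧸ B)] [IsAddCyclic (M ⧸ B')] (hne : B ≠ B')
    (hu : IsUnit ((B.index : ℕ) : Λ)) (hu' : IsUnit ((B'.index : ℕ) : Λ)) :
    Subsingleton (LocalizedModule (locSubmonoid Λ M B') (CycQuot Λ (M ⧸ B))) := by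
  have htop := isCoprime_ker Λ B B' hne hu hu'
  have h1 : (1 : AddMonoidAlgebra Λ M)
      ∈ RingHom.ker (cycQuotMap Λ M B) ⊔ RingHom.ker (cycQuotMap Λ M B') := by
    rw [htop]; trivial
  obtain ⟨k, hk, k', hk', hkk⟩ := Submodule.mem_sup.1 h1
  have hs : k ∈ locSubmonoid Λ M B' := by
    show cycQuotMap Λ M B' k = 1
    have e : k = 1 - k' := by rw [← hkk]; ring
    rw [e, map_sub, map_one, RingHom.mem_ker.1 hk', sub_zero]
  rw [LocalizedModule.subsingleton_iff]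
  intro z
  refine ⟨k, hs, ?_⟩
  obtain ⟨w, rfl⟩ := Ideal.Quotient.mk_surjective z
  have e : k • (Ideal.Quotient.mk (cycIdeal Λ (M ⧸ B)) w)
      = Ideal.Quotient.mk (cycIdeal Λ (M ⧸ B)) (quotMap Λ M B k * w) := rfl
  rw [e, map_mul]
  have e' : Ideal.Quotient.mk (cycIdeal Λ (M ⧸ B)) (quotMap Λ M B k) = cycQuotMap Λ M B k := rfl
  rw [e', RingHom.mem_ker.1 hk, zero_mul]

end normElement

section prime

variable {M : Type v} [AddCommGroup M] (𝔭 : Ideal (AddMonoidAlgebra Λ M))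

/-- The subgroup of the `m` with `[m] ≡ 1` modulo `𝔭`. -/
def pSub : AddSubgroup M where
  carrier := {m | sg Λ m - 1 ∈ 𝔭}
  zero_mem' := by simp [sg_zero]
  add_mem' := by
    intro a b ha hb
    simp only [Set.mem_ofPred_eq] at ha hb ⊢
    have e : sg Λ (a + b) - 1 = sg Λ a * (sg Λ b - 1) + (sg Λ a - 1) := by
      rw [sg_add]; ring
    rw [e]
    exact 𝔭.add_mem (𝔭.mul_mem_left _ hb) ha
  neg_mem' := by
    intro a ha
    simp only [Set.mem_ofPred_eq] at ha ⊢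
    have e : sg Λ (-a) - 1 = -(sg Λ (-a) * (sg Λ a - 1)) := by
      rw [mul_sub, sg_neg_mul, mul_one]; ring
    rw [e]
    exact 𝔭.neg_mem (𝔭.mul_mem_left _ ha)

lemma mem_pSub {m : M} : m ∈ pSub Λ 𝔭 ↔ sg Λ m - 1 ∈ 𝔭 := Iff.rfl

/-- `m ↦ [m] mod 𝔭` as an additive hom to `Additive (Λ[M]/𝔭)`. -/
noncomputable def phi0 : M →+ Additive (AddMonoidAlgebra Λ M ⧸ 𝔭) where
  toFun m := Additive.ofMul (Ideal.Quotient.mk 𝔭 (sg Λ m))
  map_zero' := by rw [sg_zero, map_one]; rfl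
  map_add' a b := by rw [sg_add, map_mul]; rfl

lemma isAddCyclic_pSub [𝔭.IsPrime] [Finite (M ⧸ pSub Λ 𝔭)] : IsAddCyclic (M ⧸ pSub Λ 𝔭) := by
  have hker : pSub Λ 𝔭 ≤ (phi0 Λ 𝔭).ker := by
    intro m hm
    rw [AddMonoidHom.mem_ker]
    show Additive.ofMul (Ideal.Quotient.mk 𝔭 (sg Λ m)) = 0
    have e : Ideal.Quotient.mk 𝔭 (sg Λ m) = 1 := by
      rw [← map_one (Ideal.Quotient.mk 𝔭)]
      exact Ideal.Quotient.eq.2 hm
    rw [e]; rfl
  let f : Multiplicative (M ⧸ pSub Λ 𝔭) →* (AddMonoidAlgebra Λ M ⧸ 𝔭) :=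
    AddMonoidHom.toMultiplicativeLeft (QuotientAddGroup.lift (pSub Λ 𝔭) (phi0 Λ 𝔭) hker)
  have hf : Function.Injective f := by
    rw [injective_iff_map_eq_one]
    intro x hx
    obtain ⟨a, ha⟩ := QuotientAddGroup.mk_surjective (Multiplicative.toAdd x)
    have hfx : f x = Ideal.Quotient.mk 𝔭 (sg Λ a) := by
      show ((QuotientAddGroup.lift (pSub Λ 𝔭) (phi0 Λ 𝔭) hker)
        (Multiplicative.toAdd x)).toMul = _
      rw [← ha]
      rfl
    rw [hfx, ← map_one (Ideal.Quotient.mk 𝔭), Ideal.Quotient.eq] at hx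
    have h0 : (a : M ⧸ pSub Λ 𝔭) = 0 := (QuotientAddGroup.eq_zero_iff a).2 hx
    rw [h0] at ha
    apply Multiplicative.toAdd.injective
    rw [← ha]
    rfl
  haveI : IsCyclic (Multiplicative (M ⧸ pSub Λ 𝔭)) := isCyclic_of_injective_ringHom f hf
  exact isCyclic_multiplicative_iff.1 inferInstance

lemma exists_s1 [𝔭.IsPrime] (B₀ : AddSubgroup M) [B₀.FiniteIndex]
    (hu : IsUnit ((B₀.index : ℕ) : Λ)) (h₀ : B₀ ≤ pSub Λ 𝔭) :
    ∃ s : AddMonoidAlgebra Λ M, s ∉ 𝔭 ∧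
      ∀ y ∈ RingHom.ker (quotMap Λ M (pSub Λ 𝔭)), y * s ∈ RingHom.ker (quotMap Λ M B₀) := by
  classical
  haveI : Fintype (M ⧸ B₀) := Fintype.ofFinite _
  let fac : M ⧸ B₀ → AddMonoidAlgebra Λ M := fun c =>
    if (Quotient.out c : M) ∈ pSub Λ 𝔭 then
      ∑ i ∈ Finset.range B₀.index, sg Λ (Quotient.out c : M) ^ i else 1
  refine ⟨∏ c, fac c, ?_, ?_⟩
  · intro hmem
    rcases (Ideal.IsPrime.prod_mem_iff).1 hmem with ⟨c, -, hc⟩
    by_cases hcB : (Quotient.out c : M) ∈ pSub Λ 𝔭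
    · simp only [fac, if_pos hcB] at hc
      have hy : Ideal.Quotient.mk 𝔭 (sg Λ (Quotient.out c : M)) = 1 := by
        rw [← map_one (Ideal.Quotient.mk 𝔭)]
        exact Ideal.Quotient.eq.2 hcB
      have e : Ideal.Quotient.mk 𝔭 (∑ i ∈ Finset.range B₀.index, sg Λ (Quotient.out c : M) ^ i)
          = ((B₀.index : ℕ) : AddMonoidAlgebra Λ M ⧸ 𝔭) := by
        simp [map_sum, map_pow, hy]
      have h0 : ((B₀.index : ℕ) : AddMonoidAlgebra Λ M ⧸ 𝔭) = 0 := by
        rw [← e]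
        exact Ideal.Quotient.eq_zero_iff_mem.2 hc
      have hunit : IsUnit ((B₀.index : ℕ) : AddMonoidAlgebra Λ M ⧸ 𝔭) := by
        have := (isUnit_natCast_alg Λ (M := M) hu).map (Ideal.Quotient.mk 𝔭)
        rwa [map_natCast] at this
      rw [h0] at hunit
      exact not_isUnit_zero hunit
    · simp only [fac, if_neg hcB] at hc
      exact (Ideal.IsPrime.ne_top ‹_›) ((Ideal.eq_top_iff_one _).2 hc)
  · intro y hy
    refine (ker_quotMap_le Λ (pSub Λ 𝔭) (colon (RingHom.ker (quotMap Λ M B₀)) (∏ c, fac c)) ?_) hy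
    intro b hb
    rw [mem_colon]
    have hfb : -(Quotient.out (b : M ⧸ B₀) : M) + b ∈ B₀ := by
      rw [← QuotientAddGroup.eq]
      exact QuotientAddGroup.out_eq' _
    have hfB : (Quotient.out (b : M ⧸ B₀) : M) ∈ pSub Λ 𝔭 := by
      have e : (Quotient.out (b : M ⧸ B₀) : M)
          = b - (-(Quotient.out (b : M ⧸ B₀) : M) + b) := by abel
      rw [e]
      exact (pSub Λ 𝔭).sub_mem hb (h₀ hfb)
    obtain ⟨r, hr⟩ : fac (b : M ⧸ B₀) ∣ ∏ c, fac c :=
      Finset.dvd_prod_of_mem _ (Finset.mem_univ _)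
    have hfac : fac (b : M ⧸ B₀)
        = ∑ i ∈ Finset.range B₀.index, sg Λ (Quotient.out (b : M ⧸ B₀) : M) ^ i := if_pos hfB
    have e1 : (sg Λ (Quotient.out (b : M ⧸ B₀) : M) - 1) * fac (b : M ⧸ B₀)
        ∈ RingHom.ker (quotMap Λ M B₀) := by
      rw [hfac, mul_geom_sum, ← sg_nsmul]
      exact sg_sub_one_mem_ker Λ B₀ (B₀.nsmul_index_mem _)
    have e2 : sg Λ b - sg Λ (Quotient.out (b : M ⧸ B₀) : M) ∈ RingHom.ker (quotMap Λ M B₀) := by
      have e : sg Λ b - sg Λ (Quotient.out (b : M ⧸ B₀) : M)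
          = sg Λ (Quotient.out (b : M ⧸ B₀) : M)
            * (sg Λ (-(Quotient.out (b : M ⧸ B₀) : M) + b) - 1) := by
        rw [mul_sub, mul_one, ← sg_add, add_neg_cancel_left]
      rw [e]
      exact Ideal.mul_mem_left _ _ (sg_sub_one_mem_ker Λ B₀ hfb)
    have e3 : (sg Λ b - 1) * ∏ c, fac c
        = (sg Λ b - sg Λ (Quotient.out (b : M ⧸ B₀) : M)) * ∏ c, fac c
          + ((sg Λ (Quotient.out (b : M ⧸ B₀) : M) - 1) * fac (b : M ⧸ B₀)) * r := by
      rw [hr]; ring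
    rw [e3]
    exact Ideal.add_mem _ (Ideal.mul_mem_right _ _ e2) (Ideal.mul_mem_right _ _ e1)

lemma exists_s2 [𝔭.IsPrime] [Finite (M ⧸ pSub Λ 𝔭)] :
    ∃ s : AddMonoidAlgebra Λ M, s ∉ 𝔭 ∧
      ∀ m : M, AddSubgroup.zmultiples (m : M ⧸ pSub Λ 𝔭) = ⊤ →
        ∃ m' : M, (m' : M ⧸ pSub Λ 𝔭) = (m : M ⧸ pSub Λ 𝔭) ∧ ∃ r : AddMonoidAlgebra Λ M,
          (cyclotomic (Nat.card (M ⧸ pSub Λ 𝔭)) (AddMonoidAlgebra Λ M)).eval (sg Λ m') * s
            = (sg Λ (Nat.card (M ⧸ pSub Λ 𝔭) • m') - 1) * r := by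
  classical
  haveI : Fintype (M ⧸ pSub Λ 𝔭) := Fintype.ofFinite _
  have hd0 : Nat.card (M ⧸ pSub Λ 𝔭) ≠ 0 := Nat.card_pos.ne'
  let Ψ : (M ⧸ pSub Λ 𝔭) → AddMonoidAlgebra Λ M := fun c =>
    ∏ e ∈ (Nat.card (M ⧸ pSub Λ 𝔭)).divisors.erase (Nat.card (M ⧸ pSub Λ 𝔭)),
      (cyclotomic e (AddMonoidAlgebra Λ M)).eval (sg Λ (Quotient.out c : M))
  let fac : (M ⧸ pSub Λ 𝔭) → AddMonoidAlgebra Λ M := fun c =>
    if AddSubgroup.zmultiples c = ⊤ then Ψ c else 1
  refine ⟨∏ c, fac c, ?_, ?_⟩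
  · intro hmem
    rcases (Ideal.IsPrime.prod_mem_iff).1 hmem with ⟨c, -, hc⟩
    by_cases hgen : AddSubgroup.zmultiples c = ⊤
    · simp only [fac, if_pos hgen, Ψ] at hc
      rcases (Ideal.IsPrime.prod_mem_iff).1 hc with ⟨e, he, hec⟩
      rw [Finset.mem_erase, Nat.mem_divisors] at he
      obtain ⟨hne, hdvd, -⟩ := he
      have h1 : (cyclotomic e (AddMonoidAlgebra Λ M)).eval (sg Λ (Quotient.out c : M))
          ∣ sg Λ (Quotient.out c : M) ^ e - 1 := by
        have := Polynomial.eval_dvd (x := sg Λ (Quotient.out c : M))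
          (cyclotomic.dvd_X_pow_sub_one e (AddMonoidAlgebra Λ M))
        simpa using this
      have h2 : sg Λ (e • (Quotient.out c : M)) - 1 ∈ 𝔭 := by
        rw [sg_nsmul]
        obtain ⟨q, hq⟩ := h1
        rw [hq]
        exact Ideal.mul_mem_right _ _ hec
      have h3 : e • c = 0 := by
        have h := (QuotientAddGroup.eq_zero_iff (N := pSub Λ 𝔭) (e • (Quotient.out c : M))).2
          ((mem_pSub Λ 𝔭).2 h2)
        rwa [QuotientAddGroup.mk_nsmul, QuotientAddGroup.out_eq'] at h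
      have h4 : addOrderOf c = Nat.card (M ⧸ pSub Λ 𝔭) :=
        addOrderOf_eq_card_of_forall_mem_zmultiples (fun x => by rw [hgen]; trivial)
      have h5 : Nat.card (M ⧸ pSub Λ 𝔭) ∣ e := by
        rw [← h4]
        exact addOrderOf_dvd_of_nsmul_eq_zero h3
      exact hne (Nat.dvd_antisymm hdvd h5)
    · simp only [fac, if_neg hgen] at hc
      exact (Ideal.IsPrime.ne_top ‹_›) ((Ideal.eq_top_iff_one _).2 hc)
  · intro m hm
    refine ⟨Quotient.out (m : M ⧸ pSub Λ 𝔭), QuotientAddGroup.out_eq' _, ?_⟩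
    obtain ⟨r, hr⟩ : fac (m : M ⧸ pSub Λ 𝔭) ∣ ∏ c, fac c :=
      Finset.dvd_prod_of_mem _ (Finset.mem_univ _)
    refine ⟨r, ?_⟩
    have hfac : fac (m : M ⧸ pSub Λ 𝔭) = Ψ (m : M ⧸ pSub Λ 𝔭) := if_pos hm
    rw [hr, hfac, ← mul_assoc]
    congr 1
    show (cyclotomic (Nat.card (M ⧸ pSub Λ 𝔭)) (AddMonoidAlgebra Λ M)).eval
        (sg Λ (Quotient.out (m : M ⧸ pSub Λ 𝔭) : M))
      * (∏ e ∈ (Nat.card (M ⧸ pSub Λ 𝔭)).divisors.erase (Nat.card (M ⧸ pSub Λ 𝔭)),
        (cyclotomic e (AddMonoidAlgebra Λ M)).eval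
          (sg Λ (Quotient.out (m : M ⧸ pSub Λ 𝔭) : M))) = _
    have e1 := Finset.mul_prod_erase (Nat.card (M ⧸ pSub Λ 𝔭)).divisors
      (fun e => (cyclotomic e (AddMonoidAlgebra Λ M)).eval
        (sg Λ (Quotient.out (m : M ⧸ pSub Λ 𝔭) : M)))
      (Nat.mem_divisors_self _ hd0)
    refine e1.trans ?_
    rw [← Polynomial.eval_prod, prod_cyclotomic_eq_X_pow_sub_one (Nat.pos_of_ne_zero hd0),
      sg_nsmul]
    simp

/-- `⋂_{B ≥ B₀, M/B cyclic} ker (cycQuotMap B) = ker (quotMap B₀)` when `[M : B₀]` is a unit. -/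
theorem quotMap_eq_zero_of_forall_cyc (B₀ : AddSubgroup M) [B₀.FiniteIndex]
    (hu : IsUnit ((B₀.index : ℕ) : Λ)) (x : AddMonoidAlgebra Λ M)
    (hx : ∀ B : AddSubgroup M, B₀ ≤ B → IsAddCyclic (M ⧸ B) → cycQuotMap Λ M B x = 0) :
    quotMap Λ M B₀ x = 0 := by
  by_contra hne
  have hI : colon (RingHom.ker (quotMap Λ M B₀)) x ≠ ⊤ := by
    intro h
    have h1 : (1 : AddMonoidAlgebra Λ M) ∈ colon (RingHom.ker (quotMap Λ M B₀)) x := by
      rw [h]; trivial
    rw [mem_colon, one_mul] at h1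
    exact hne (RingHom.mem_ker.1 h1)
  obtain ⟨𝔭, hmax, hle⟩ := Ideal.exists_le_maximal _ hI
  haveI : 𝔭.IsPrime := hmax.isPrime
  have hJle : RingHom.ker (quotMap Λ M B₀) ≤ 𝔭 := fun r hr =>
    hle (by rw [mem_colon]; exact Ideal.mul_mem_right _ _ hr)
  have h₀ : B₀ ≤ pSub Λ 𝔭 := fun b hb => hJle (sg_sub_one_mem_ker Λ B₀ hb)
  haveI : (pSub Λ 𝔭).FiniteIndex := AddSubgroup.finiteIndex_of_le h₀
  haveI : IsAddCyclic (M ⧸ pSub Λ 𝔭) := isAddCyclic_pSub Λ 𝔭
  have hxB := hx _ h₀ inferInstance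
  obtain ⟨s₁, hs₁, h₁⟩ := exists_s1 Λ 𝔭 B₀ hu h₀
  obtain ⟨s₂, hs₂, h₂⟩ := exists_s2 Λ 𝔭
  have hK : RingHom.ker (cycQuotMap Λ M (pSub Λ 𝔭))
      ≤ colon (RingHom.ker (quotMap Λ M B₀)) (s₁ * s₂) := by
    apply ker_cycQuotMap_le
    · intro b hb
      rw [mem_colon, ← mul_assoc]
      exact Ideal.mul_mem_right _ _ (h₁ _ (sg_sub_one_mem_ker Λ _ hb))
    · intro m hm
      obtain ⟨m', hm', r, hr⟩ := h₂ m hm
      rw [mem_colon]
      have hd : (cyclotomic (Nat.card (M ⧸ pSub Λ 𝔭)) (AddMonoidAlgebra Λ M)).eval (sg Λ m)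
          - (cyclotomic (Nat.card (M ⧸ pSub Λ 𝔭)) (AddMonoidAlgebra Λ M)).eval (sg Λ m')
          ∈ RingHom.ker (quotMap Λ M (pSub Λ 𝔭)) := by
        rw [RingHom.mem_ker, map_sub, map_eval_cyclotomic, map_eval_cyclotomic, quotMap_sg,
          quotMap_sg, hm', sub_self]
      have hd' : sg Λ (Nat.card (M ⧸ pSub Λ 𝔭) • m') - 1
          ∈ RingHom.ker (quotMap Λ M (pSub Λ 𝔭)) := by
        apply sg_sub_one_mem_ker
        have := (pSub Λ 𝔭).nsmul_index_mem m'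
        rwa [AddSubgroup.index_eq_card] at this
      have e : (cyclotomic (Nat.card (M ⧸ pSub Λ 𝔭)) (AddMonoidAlgebra Λ M)).eval (sg Λ m)
            * (s₁ * s₂)
          = ((cyclotomic (Nat.card (M ⧸ pSub Λ 𝔭)) (AddMonoidAlgebra Λ M)).eval (sg Λ m)
              - (cyclotomic (Nat.card (M ⧸ pSub Λ 𝔭)) (AddMonoidAlgebra Λ M)).eval (sg Λ m'))
              * s₁ * s₂
            + ((cyclotomic (Nat.card (M ⧸ pSub Λ 𝔭)) (AddMonoidAlgebra Λ M)).eval (sg Λ m')
              * s₂) * s₁ := by ring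
      rw [e, hr]
      refine Ideal.add_mem _ (Ideal.mul_mem_right _ _ (h₁ _ hd)) ?_
      rw [mul_right_comm]
      exact Ideal.mul_mem_right _ _ (h₁ _ hd')
  have hxm : x ∈ colon (RingHom.ker (quotMap Λ M B₀)) (s₁ * s₂) := hK (RingHom.mem_ker.2 hxB)
  have h2 : s₁ * s₂ ∈ 𝔭 := hle (by rw [mem_colon, mul_comm]; exact hxm)
  rcases (Ideal.IsPrime.mem_or_mem ‹_› h2) with h | h
  · exact hs₁ h
  · exact hs₂ h

end prime

section final

variable {M : Type v} [AddCommGroup M]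

lemma finite_index_type (B₀ : AddSubgroup M) [B₀.FiniteIndex] (P : AddSubgroup M → Prop) :
    Finite {B : AddSubgroup M // B₀ ≤ B ∧ P B} := by
  apply Finite.of_injective
    (fun B : {B : AddSubgroup M // B₀ ≤ B ∧ P B} =>
      ((QuotientAddGroup.mk : M → M ⧸ B₀) '' (B.1 : Set M)))
  have key : ∀ (C C' : {B : AddSubgroup M // B₀ ≤ B ∧ P B}),
      (QuotientAddGroup.mk : M → M ⧸ B₀) '' (C.1 : Set M)
        = (QuotientAddGroup.mk : M → M ⧸ B₀) '' (C'.1 : Set M) → C.1 ≤ C'.1 := by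
    intro C C' h m hm
    have h1 : (m : M ⧸ B₀) ∈ (QuotientAddGroup.mk : M → M ⧸ B₀) '' (C'.1 : Set M) := by
      rw [← h]
      exact ⟨m, hm, rfl⟩
    obtain ⟨m', hm', hmm⟩ := h1
    have h2 : -m' + m ∈ B₀ := QuotientAddGroup.eq.1 hmm
    have e : m = m' + (-m' + m) := by abel
    rw [e]
    exact C'.1.add_mem hm' (C'.2.1 h2)
  intro B B' h
  exact Subtype.ext (le_antisymm (key B B' h) (key B' B h.symm))

theorem thm19276 (A : Type v) [AddCommGroup A] [Finite A]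
    (hA : IsUnit ((Nat.card A : ℕ) : Λ)) :
    Function.Bijective (RingHom.pi fun B : {B : AddSubgroup A // IsAddCyclic (A ⧸ B)} =>
      W4c6equivkfinstab.cycQuotMap Λ A B.1) := by
  classical
  have hunit : ∀ B : AddSubgroup A, IsUnit ((B.index : ℕ) : Λ) := fun B =>
    isUnit_natCast_of_dvd B.index_dvd_card hA
  haveI : Finite (AddSubgroup A) :=
    Finite.of_injective (fun B : AddSubgroup A => (B : Set A)) SetLike.coe_injective
  constructor
  · rw [injective_iff_map_eq_zero]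
    intro x hx
    have h0 : quotMap Λ A (⊥ : AddSubgroup A) x = 0 := by
      apply quotMap_eq_zero_of_forall_cyc Λ ⊥ (by rw [AddSubgroup.index_bot]; exact hA) x
      intro B _ hB
      exact congr_fun hx ⟨B, hB⟩
    have hmk : Function.Injective (QuotientAddGroup.mk' (⊥ : AddSubgroup A)) := by
      intro a b hab
      have h := QuotientAddGroup.eq.1 hab
      rw [AddSubgroup.mem_bot] at h
      exact neg_add_eq_zero.1 h
    have hinj : Function.Injective (quotMap Λ A (⊥ : AddSubgroup A)) := fun a b hab =>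
      AddMonoidAlgebra.mapDomain_injective hmk hab
    exact hinj (by rw [h0, map_zero])
  · intro y
    have hcop : Pairwise (Function.onFun IsCoprime
        fun B : {B : AddSubgroup A // IsAddCyclic (A ⧸ B)} =>
          RingHom.ker (cycQuotMap Λ A B.1)) := by
      intro B B' hne
      haveI := B.2
      haveI := B'.2
      show IsCoprime _ _
      rw [Ideal.isCoprime_iff_sup_eq]
      exact isCoprime_ker Λ B.1 B'.1 (fun h => hne (Subtype.ext h)) (hunit _) (hunit _)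
    choose x hx using fun B : {B : AddSubgroup A // IsAddCyclic (A ⧸ B)} =>
      cycQuotMap_surjective Λ B.1 (y B)
    obtain ⟨r, hr⟩ := Ideal.exists_forall_sub_mem_ideal hcop x
    refine ⟨r, funext fun B => ?_⟩
    have h := hr B
    rw [RingHom.mem_ker, map_sub, sub_eq_zero] at h
    show cycQuotMap Λ A B.1 r = y B
    rw [h, hx]

theorem thm19277 (B B' : AddSubgroup M) [B.FiniteIndex] [B'.FiniteIndex]
    [IsAddCyclic (M ⧸ B)] [IsAddCyclic (M ⧸ B')] (hne : B ≠ B')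
    (hu : IsUnit ((B.index * B'.index : ℕ) : Λ)) :
    Subsingleton (LocalizedModule (W4c6equivkfinstab.locSubmonoid Λ M B')
      (W4c6equivkfinstab.CycQuot Λ (M ⧸ B))) :=
  subsingleton_loc_cyc Λ B B' hne (isUnit_natCast_of_dvd (Dvd.intro _ rfl) hu)
    (isUnit_natCast_of_dvd (Dvd.intro_left _ rfl) hu)

theorem thm19278 (B₀ B : AddSubgroup M) [B₀.FiniteIndex] [B.FiniteIndex]
    [IsAddCyclic (M ⧸ B)] (hle : ¬ B₀ ≤ B) (hu : IsUnit ((B₀.index * B.index : ℕ) : Λ)) :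
    Subsingleton (LocalizedModule (W4c6equivkfinstab.locSubmonoid Λ M B)
      (AddMonoidAlgebra Λ (M ⧸ B₀))) :=
  subsingleton_loc_quot Λ B₀ B hle (isUnit_natCast_of_dvd (Dvd.intro_left _ rfl) hu)

theorem thm19279 (B₀ : AddSubgroup M) [B₀.FiniteIndex]
    (hu : IsUnit ((B₀.index : ℕ) : Λ)) :
    Function.Bijective (LinearMap.pi (R := AddMonoidAlgebra Λ M)
      fun B : {B : AddSubgroup M // B₀ ≤ B ∧ IsAddCyclic (M ⧸ B)} =>
        LocalizedModule.mkLinearMap (W4c6equivkfinstab.locSubmonoid Λ M B.1)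
          (AddMonoidAlgebra Λ (M ⧸ B₀))) := by
  classical
  have hfi : ∀ B : {B : AddSubgroup M // B₀ ≤ B ∧ IsAddCyclic (M ⧸ B)}, B.1.FiniteIndex :=
    fun B => AddSubgroup.finiteIndex_of_le B.2.1
  have hunit : ∀ B : {B : AddSubgroup M // B₀ ≤ B ∧ IsAddCyclic (M ⧸ B)},
      IsUnit ((B.1.index : ℕ) : Λ) := fun B =>
    isUnit_natCast_of_dvd (AddSubgroup.index_dvd_of_le B.2.1) hu
  haveI : Finite {B : AddSubgroup M // B₀ ≤ B ∧ IsAddCyclic (M ⧸ B)} :=
    finite_index_type B₀ _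
  haveI : Fintype {B : AddSubgroup M // B₀ ≤ B ∧ IsAddCyclic (M ⧸ B)} := Fintype.ofFinite _
  have hb : ∀ x : AddMonoidAlgebra Λ M,
      (∀ B : {B : AddSubgroup M // B₀ ≤ B ∧ IsAddCyclic (M ⧸ B)}, cycQuotMap Λ M B.1 x = 0) →
        quotMap Λ M B₀ x = 0 :=
    fun x hx => quotMap_eq_zero_of_forall_cyc Λ B₀ hu x (fun B h hc => hx ⟨B, h, hc⟩)
  have hsmul : ∀ (r : AddMonoidAlgebra Λ M) (z : AddMonoidAlgebra Λ (M ⧸ B₀)),
      r • z = quotMap Λ M B₀ r * z := fun r z => by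
    rw [Algebra.smul_def]; rfl
  constructor
  · rw [injective_iff_map_eq_zero]
    intro z hz
    obtain ⟨x, rfl⟩ := quotMap_surjective Λ B₀ z
    apply hb
    intro B
    have hzB : LocalizedModule.mkLinearMap (locSubmonoid Λ M B.1)
        (AddMonoidAlgebra Λ (M ⧸ B₀)) (quotMap Λ M B₀ x) = 0 := congr_fun hz B
    obtain ⟨s, hs, hsz⟩ :=
      LocalizedModule.mem_ker_mkLinearMap_iff.1 (LinearMap.mem_ker.2 hzB)
    rw [hsmul, ← map_mul] at hsz
    have h1 : cycQuotMap Λ M B.1 (s * x) = 0 :=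
      RingHom.mem_ker.1 (ker_quotMap_le_ker_cyc_of_le Λ B.2.1 (RingHom.mem_ker.2 hsz))
    have hs1 : cycQuotMap Λ M B.1 s = 1 := hs
    rw [map_mul, hs1, one_mul] at h1
    exact h1
  · intro y
    have hrep : ∀ B : {B : AddSubgroup M // B₀ ≤ B ∧ IsAddCyclic (M ⧸ B)},
        ∃ (x : AddMonoidAlgebra Λ M) (t : locSubmonoid Λ M B.1),
          y B = LocalizedModule.mk (quotMap Λ M B₀ x) t := by
      intro B
      refine LocalizedModule.induction_on
        (β := fun w => ∃ (x : AddMonoidAlgebra Λ M) (t : locSubmonoid Λ M B.1),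
          w = LocalizedModule.mk (quotMap Λ M B₀ x) t) ?_ (y B)
      intro z t
      obtain ⟨x, rfl⟩ := quotMap_surjective Λ B₀ z
      exact ⟨x, t, rfl⟩
    choose x t hxt using hrep
    have hcop : Pairwise (Function.onFun IsCoprime
        fun B : {B : AddSubgroup M // B₀ ≤ B ∧ IsAddCyclic (M ⧸ B)} =>
          RingHom.ker (cycQuotMap Λ M B.1)) := by
      intro B B' hne
      haveI := B.2.2
      haveI := B'.2.2
      haveI := hfi B
      haveI := hfi B'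
      show IsCoprime _ _
      rw [Ideal.isCoprime_iff_sup_eq]
      exact isCoprime_ker Λ B.1 B'.1 (fun h => hne (Subtype.ext h)) (hunit _) (hunit _)
    have hε : ∀ B : {B : AddSubgroup M // B₀ ≤ B ∧ IsAddCyclic (M ⧸ B)},
        ∃ ε : AddMonoidAlgebra Λ M,
          ∀ B' : {B : AddSubgroup M // B₀ ≤ B ∧ IsAddCyclic (M ⧸ B)},
            cycQuotMap Λ M B'.1 ε = if B' = B then 1 else 0 := by
      intro B
      obtain ⟨r, hr⟩ := Ideal.exists_forall_sub_mem_ideal hcop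
        (fun B' => if B' = B then (1 : AddMonoidAlgebra Λ M) else 0)
      refine ⟨r, fun B' => ?_⟩
      have h := hr B'
      rw [RingHom.mem_ker, map_sub, sub_eq_zero] at h
      rw [h]
      split_ifs <;> simp
    choose ε hε using hε
    refine ⟨quotMap Λ M B₀ (∑ B, ε B * x B), funext fun B => ?_⟩
    rw [LinearMap.pi_apply, LocalizedModule.mkLinearMap_apply, hxt B, LocalizedModule.mk_eq]
    have hεB : ε B ∈ locSubmonoid Λ M B.1 := by
      show cycQuotMap Λ M B.1 (ε B) = 1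
      rw [hε B B, if_pos rfl]
    refine ⟨⟨ε B, hεB⟩, ?_⟩
    show (ε B) • ((t B : AddMonoidAlgebra Λ M) • quotMap Λ M B₀ (∑ B', ε B' * x B'))
      = (ε B) • (((1 : locSubmonoid Λ M B.1) : AddMonoidAlgebra Λ M) • quotMap Λ M B₀ (x B))
    rw [hsmul, hsmul, hsmul, hsmul, ← map_mul, ← map_mul, ← map_mul, ← map_mul, ← sub_eq_zero,
      ← map_sub]
    apply hb
    intro B'
    by_cases hBB : B' = B
    · subst hBB
      have ht1 : cycQuotMap Λ M B'.1 (t B' : AddMonoidAlgebra Λ M) = 1 := (t B').2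
      have hsum : ∑ B'' : {B : AddSubgroup M // B₀ ≤ B ∧ IsAddCyclic (M ⧸ B)},
          cycQuotMap Λ M B'.1 (ε B'') * cycQuotMap Λ M B'.1 (x B'')
            = cycQuotMap Λ M B'.1 (x B') := by
        rw [Finset.sum_eq_single B']
        · rw [hε B' B', if_pos rfl, one_mul]
        · intro b _ hb'
          rw [hε b B', if_neg (Ne.symm hb'), zero_mul]
        · intro h
          exact absurd (Finset.mem_univ _) h
      simp only [map_sub, map_mul, map_sum, ht1, hsum, OneMemClass.coe_one, map_one, one_mul,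
        sub_self]
    · simp only [map_sub, map_mul, hε _ B', if_neg hBB, zero_mul, sub_self]

end final

end Groth.Agent.Lib.Helper29.GrpAlgCyc
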