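import Mathlib

/-!
# `H²(Q, kˣ) = 0` for separably closed `k` when `H³(Q, ℤ) = 0` (helper29)

Cochain level argument: a 2-cocycle with values in `kˣ` has `n`-th power a coboundary (`n = |Q|`);
extracting `n`-th roots we may assume it has values in `μ_n ≅ ℤ/n`; lifting to `ℤ`-valued cochains and
using `H³(Q, ℤ) = 0` we may assume it is the reduction of an integral 2-cocycle `F'`; finally
`n F'` is a coboundary and `ζ = ξ^n`.
-/

set_option autoImplicit false
set_option linter.style.haveILetI false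
set_option linter.unusedSectionVars false

open CategoryTheory groupCohomology

namespace Groth.Agent.Lib.Helper29.H2Units

section Coc

variable {Q : Type} [Group Q] {V : Type} [AddCommGroup V]

/-- 2-cocycle condition for the trivial action. -/
def IsCoc (f : Q × Q → V) : Prop :=
  ∀ x y z : Q, f (x * y, z) + f (x, y) = f (y, z) + f (x, y * z)

/-- coboundary of a 1-cochain for the trivial action -/
def dOne (h : Q → V) : Q × Q → V := fun p => h p.2 - h (p.1 * p.2) + h p.1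

lemma isCoc_dOne (h : Q → V) : IsCoc (dOne h) := by
  intro x y z
  simp only [dOne, mul_assoc]
  abel

lemma mem_cocycles₂_trivial (f : Q × Q → V) :
    f ∈ cocycles₂ (Rep.trivial ℤ Q V) ↔ IsCoc f := by
  rw [mem_cocycles₂_iff]
  rfl

lemma mem_coboundaries₂_trivial (f : Q × Q → V) :
    f ∈ coboundaries₂ (Rep.trivial ℤ Q V) ↔ ∃ h : Q → V, dOne h = f := by
  unfold coboundaries₂
  rw [LinearMap.mem_range]
  constructor
  · rintro ⟨h, rfl⟩
    exact ⟨h, rfl⟩
  · rintro ⟨h, rfl⟩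
    exact ⟨h, rfl⟩

lemma card_smul_eq_dOne [Fintype Q] (f : Q × Q → V) (hf : IsCoc f) :
    (fun p => (Fintype.card Q) • f p) = dOne (fun x => ∑ z, f (x, z)) := by
  funext ⟨x, y⟩
  have h1 : ∑ z : Q, (f (x * y, z) + f (x, y)) = ∑ z : Q, (f (y, z) + f (x, y * z)) :=
    Finset.sum_congr rfl (fun z _ => hf x y z)
  rw [Finset.sum_add_distrib, Finset.sum_add_distrib, Finset.sum_const, Finset.card_univ] at h1
  have h2 : ∑ z : Q, f (x, y * z) = ∑ z : Q, f (x, z) :=
    Equiv.sum_comp (Equiv.mulLeft y) (fun z => f (x, z))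
  rw [h2] at h1
  show Fintype.card Q • f (x, y) =
    (∑ z, f (y, z)) - (∑ z, f (x * y, z)) + ∑ z, f (x, z)
  calc Fintype.card Q • f (x, y)
      = ((∑ z, f (x * y, z)) + Fintype.card Q • f (x, y)) - ∑ z, f (x * y, z) := by abel
    _ = ((∑ z, f (y, z)) + ∑ z, f (x, z)) - ∑ z, f (x * y, z) := by rw [h1]
    _ = _ := by abel

lemma zsmul_nsmul_comm (a : ℤ) (n : ℕ) (v : V) : a • (n • v) = (n • a) • v := by
  rw [nsmul_eq_mul, mul_smul, natCast_zsmul]
  exact smul_comm a n v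

end Coc

section Field

variable {k : Type} [Field k] [IsSepClosed k] (n : ℕ) [NeZero (n : k)]

include k in
lemma n_ne_zero : n ≠ 0 := by
  intro h
  have := NeZero.ne (n : k)
  rw [h, Nat.cast_zero] at this
  exact this rfl

lemma exists_nsmul_eq (u : Additive kˣ) : ∃ v : Additive kˣ, n • v = u := by
  obtain ⟨z, hz⟩ := IsSepClosed.exists_pow_nat_eq ((Additive.toMul u : kˣ) : k) n
  have hn0 : n ≠ 0 := n_ne_zero (k := k) n
  have hz0 : z ≠ 0 := by
    intro h
    rw [h, zero_pow hn0] at hz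
    exact (Additive.toMul u : kˣ).ne_zero hz.symm
  refine ⟨Additive.ofMul (Units.mk0 z hz0), ?_⟩
  rw [← ofMul_pow]
  have : (Units.mk0 z hz0) ^ n = Additive.toMul u := Units.ext (by simpa using hz)
  rw [this]
  exact ofMul_toMul u

lemma exists_prim : ∃ ζ : kˣ, IsPrimitiveRoot ζ n := by
  obtain ⟨ζ, hζ⟩ := HasEnoughRootsOfUnity.exists_primitiveRoot k n
  have hn0 : n ≠ 0 := n_ne_zero (k := k) n
  refine ⟨(hζ.isUnit hn0).unit, ?_⟩
  rw [← IsPrimitiveRoot.coe_units_iff]
  exact hζ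

lemma exists_zsmul_eq {ζ : kˣ} (hζ : IsPrimitiveRoot ζ n) (u : Additive kˣ) (hu : n • u = 0) :
    ∃ m : ℤ, m • Additive.ofMul ζ = u := by
  haveI hn : NeZero n := ⟨n_ne_zero (k := k) n⟩
  have h1 : (Additive.toMul u : kˣ) ^ n = 1 := by
    have := congrArg Additive.toMul hu
    simpa using this
  have hζ' : IsPrimitiveRoot (ζ : k) n := IsPrimitiveRoot.coe_units_iff.mpr hζ
  have h2 : ((Additive.toMul u : kˣ) : k) ^ n = 1 := by
    rw [← Units.val_pow_eq_pow_val, h1, Units.val_one]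
  obtain ⟨i, -, hi⟩ := hζ'.eq_pow_of_pow_eq_one h2
  refine ⟨(i : ℤ), ?_⟩
  rw [natCast_zsmul, ← ofMul_pow]
  have : ζ ^ i = Additive.toMul u := Units.ext (by rw [Units.val_pow_eq_pow_val, hi])
  rw [this]
  exact ofMul_toMul u

lemma zsmul_eq_zero_iff {ζ : kˣ} (hζ : IsPrimitiveRoot ζ n) (m : ℤ) :
    m • Additive.ofMul ζ = 0 ↔ (n : ℤ) ∣ m := by
  rw [← hζ.zpow_eq_one_iff_dvd, ← ofMul_zpow]
  constructor
  · intro h
    have := congrArg Additive.toMul h
    simpa using this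
  · intro h
    rw [h]
    rfl

end Field

theorem exact3 {Q : Type} [Group Q]
    (hQ : Subsingleton (groupCohomology (Rep.trivial ℤ Q ℤ) 3))
    (c : Q × Q × Q → ℤ) (F : Q × Q → ℤ) (n : ℕ) (hn : n ≠ 0)
    (hc : ∀ t, (d₂₃ (Rep.trivial ℤ Q ℤ)).hom F t = n * c t) :
    ∃ E : Q × Q → ℤ, (d₂₃ (Rep.trivial ℤ Q ℤ)).hom E = c := by
  set A : Rep ℤ Q := Rep.trivial ℤ Q ℤ with hA
  have hzero : CategoryTheory.Limits.IsZero ((inhomogeneousCochains A).homology 3) := by
    haveI : Subsingleton ((inhomogeneousCochains A).homology 3) := hQ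
    exact ModuleCat.isZero_of_subsingleton _
  have hex : ((inhomogeneousCochains A).sc' 2 3 4).Exact := by
    rw [← (inhomogeneousCochains A).exactAt_iff' 2 3 4 (by simp) (by simp),
      (inhomogeneousCochains A).exactAt_iff_isZero_homology]
    exact hzero
  rw [ShortComplex.moduleCat_exact_iff] at hex
  let c' : ((inhomogeneousCochains A).X 3) := (cochainsIso₃ A).inv.hom c
  have e1 : ((inhomogeneousCochains A).d 2 3).hom ((cochainsIso₂ A).inv.hom F) =
      (cochainsIso₃ A).inv.hom ((d₂₃ A).hom F) := by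
    have := congrArg (fun φ => φ.hom F) (eq_d₂₃_comp_inv A)
    simpa using this
  have e2 : (n : ℤ) • c' = ((inhomogeneousCochains A).d 2 3).hom ((cochainsIso₂ A).inv.hom F) := by
    rw [e1]
    show (n : ℤ) • (cochainsIso₃ A).inv.hom c = _
    rw [← map_smul]
    congr 1
    funext t
    rw [hc t]
    rfl
  have e3 : ((inhomogeneousCochains A).d 3 4).hom ((n : ℤ) • c') = 0 := by
    rw [e2]
    have := congrArg (fun φ => φ.hom ((cochainsIso₂ A).inv.hom F))
      ((inhomogeneousCochains A).d_comp_d 2 3 4)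
    simpa using this
  rw [map_smul] at e3
  have e4 : ∀ t, (((inhomogeneousCochains A).d 3 4).hom c') t = 0 := by
    intro t
    have h0 := congrFun e3 t
    have h' : (n : ℤ) * (((inhomogeneousCochains A).d 3 4).hom c') t = 0 := h0
    rcases mul_eq_zero.mp h' with h1 | h1
    · exact absurd (Int.natCast_eq_zero.mp h1) hn
    · exact h1
  have hg : ((inhomogeneousCochains A).d 3 4).hom c' = 0 := funext e4
  obtain ⟨E', hE'⟩ := hex c' hg
  refine ⟨(cochainsIso₂ A).hom.hom E', ?_⟩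
  have e5 := congrArg (fun φ => φ.hom E') (comp_d₂₃_eq A)
  simp only [ModuleCat.hom_comp, LinearMap.comp_apply] at e5
  rw [e5]
  have e6 : ((inhomogeneousCochains A).d 2 3).hom E' = c' := hE'
  rw [e6]
  exact congrArg (fun φ => φ.hom c) (cochainsIso₃ A).inv_hom_id

theorem coboundary_of_coc {Q : Type} [Group Q] [Fintype Q]
    (hQ : Subsingleton (groupCohomology (Rep.trivial ℤ Q ℤ) 3))
    {k : Type} [Field k] [IsSepClosed k] [NeZero ((Fintype.card Q : ℕ) : k)]
    (f : Q × Q → Additive kˣ) (hf : IsCoc f) : ∃ h : Q → Additive kˣ, dOne h = f := by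
  classical
  obtain ⟨n, hn⟩ : ∃ n : ℕ, n = Fintype.card Q := ⟨_, rfl⟩
  haveI : NeZero (n : k) := by rw [hn]; infer_instance
  have hn0 : n ≠ 0 := by rw [hn]; exact Fintype.card_ne_zero
  -- step 1
  obtain ⟨g₀, hg₀⟩ : ∃ g₀ : Q → Additive kˣ, (fun p => n • f p) = dOne g₀ := by
    rw [hn]; exact ⟨_, card_smul_eq_dOne f hf⟩
  -- step 2
  choose h hh using fun x => exists_nsmul_eq (k := k) n (g₀ x)
  -- step 3
  obtain ⟨f', hf'def⟩ : ∃ f' : Q × Q → Additive kˣ, ∀ p, f' p = f p - dOne h p := ⟨_, fun _ => rfl⟩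
  have hf' : IsCoc f' := by
    intro x y z
    have a := hf x y z
    have b := isCoc_dOne h x y z
    rw [hf'def, hf'def, hf'def, hf'def]
    calc f (x * y, z) - dOne h (x * y, z) + (f (x, y) - dOne h (x, y))
        = (f (x * y, z) + f (x, y)) - (dOne h (x * y, z) + dOne h (x, y)) := by abel
      _ = (f (y, z) + f (x, y * z)) - (dOne h (y, z) + dOne h (x, y * z)) := by rw [a, b]
      _ = _ := by abel
  have hnf' : ∀ p, n • f' p = 0 := by
    intro p
    have e1 : n • f p = dOne g₀ p := congrFun hg₀ p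
    have e2 : n • dOne h p = dOne g₀ p := by
      simp only [dOne, nsmul_add, nsmul_sub, hh]
    rw [hf'def, nsmul_sub, e1, e2, sub_self]
  -- step 4
  obtain ⟨ζ, hζ⟩ := exists_prim (k := k) n
  obtain ⟨ζU, hζU⟩ : ∃ ζU : Additive kˣ, ζU = Additive.ofMul ζ := ⟨_, rfl⟩
  have hzero : ∀ m : ℤ, m • ζU = 0 ↔ (n : ℤ) ∣ m := fun m => by
    rw [hζU]; exact zsmul_eq_zero_iff n hζ m
  choose F hF using fun p => exists_zsmul_eq n hζ (f' p) (hnf' p)
  rw [← hζU] at hF
  -- step 5
  have hdiv : ∀ t : Q × Q × Q, (n : ℤ) ∣ (d₂₃ (Rep.trivial ℤ Q ℤ)).hom F t := by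
    rintro ⟨x, y, z⟩
    rw [← hzero]
    have e : (d₂₃ (Rep.trivial ℤ Q ℤ)).hom F (x, y, z) =
        F (y, z) - F (x * y, z) + F (x, y * z) - F (x, y) := rfl
    rw [e, sub_smul, add_smul, sub_smul, hF, hF, hF, hF]
    have := hf' x y z
    calc f' (y, z) - f' (x * y, z) + f' (x, y * z) - f' (x, y)
        = (f' (y, z) + f' (x, y * z)) - (f' (x * y, z) + f' (x, y)) := by abel
      _ = 0 := by rw [this, sub_self]
  choose c hc using fun t => hdiv t
  -- steps 6-7
  obtain ⟨E, hE⟩ := exact3 hQ c F n hn0 hc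
  -- step 8
  obtain ⟨F', hF'def⟩ : ∃ F' : Q × Q → ℤ, ∀ p, F' p = F p - n * E p := ⟨_, fun _ => rfl⟩
  have hF'mem : F' ∈ cocycles₂ (Rep.trivial ℤ Q ℤ) := by
    have e : F' = F - (n : ℤ) • E := by
      funext p
      rw [hF'def]
      rfl
    show (d₂₃ (Rep.trivial ℤ Q ℤ)).hom F' = 0
    rw [e, map_sub, map_smul, hE]
    funext t
    show (d₂₃ (Rep.trivial ℤ Q ℤ)).hom F t - (n : ℤ) * c t = 0
    rw [hc t, sub_self]
  have hF'coc : IsCoc F' := (mem_cocycles₂_trivial F').mp hF'mem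
  have hF'ζ : ∀ p, F' p • ζU = f' p := by
    intro p
    have h0 : (n : ℤ) • ζU = 0 := (hzero n).mpr dvd_rfl
    rw [hF'def, sub_smul, hF, mul_smul, smul_comm, h0, smul_zero, sub_zero]
  -- step 9
  obtain ⟨G, hG⟩ : ∃ G : Q → ℤ, (fun p => n • F' p) = dOne G := by
    rw [hn]; exact ⟨_, card_smul_eq_dOne F' hF'coc⟩
  -- step 10
  obtain ⟨ξ, hξ⟩ := exists_nsmul_eq (k := k) n ζU
  have h10 : ∀ p, f' p = dOne (fun x => G x • ξ) p := by
    intro p
    have e1 : n • F' p = dOne G p := congrFun hG p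
    calc f' p = F' p • ζU := (hF'ζ p).symm
      _ = F' p • (n • ξ) := by rw [hξ]
      _ = (n • F' p) • ξ := zsmul_nsmul_comm _ _ _
      _ = (dOne G p) • ξ := by rw [e1]
      _ = dOne (fun x => G x • ξ) p := by
          simp only [dOne, add_zsmul, sub_zsmul]
          abel
  -- step 11
  refine ⟨fun x => G x • ξ + h x, ?_⟩
  funext p
  have e : f p = f' p + dOne h p := by rw [hf'def]; abel
  rw [e, h10 p]
  simp only [dOne]
  abel

theorem main19224 (Q : Type) [Group Q] [Finite Q]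
    (hQ : Subsingleton (groupCohomology (Rep.trivial ℤ Q ℤ) 3)) (k : Type) [Field k] [IsSepClosed k]
    (p : ℕ) [CharP k p] (hp : ¬ p ∣ Nat.card Q) :
    Subsingleton (groupCohomology (Rep.trivial ℤ Q (Additive kˣ)) 2) := by
  classical
  haveI : Fintype Q := Fintype.ofFinite Q
  haveI : NeZero ((Fintype.card Q : ℕ) : k) := ⟨by
    rw [Ne, CharP.cast_eq_zero_iff k p]
    rwa [Nat.card_eq_fintype_card] at hp⟩
  refine subsingleton_of_forall_eq 0 (fun x => ?_)
  refine H2_induction_on x (fun f => ?_)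
  rw [H2π_eq_zero_iff, mem_coboundaries₂_trivial]
  exact coboundary_of_coc hQ (⇑f) ((mem_cocycles₂_trivial _).mp f.2)

end Groth.Agent.Lib.Helper29.H2Units
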