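import Mathlib

/-!
# Spreading out a Hilbert–Burch resolution from a localization at a prime to a basic open

Ring-level part.
-/

set_option autoImplicit false
set_option maxHeartbeats 1600000

universe u

open Matrix

namespace Groth.Agent.Lib.Helper29.HBSpreadA

/-- signed maximal minors of an `(r+1) × r` matrix -/
noncomputable def minors {R : Type*} [CommRing R] {r : ℕ} (φ : Matrix (Fin (r + 1)) (Fin r) R)
    (i : Fin (r + 1)) : R :=
  (-1 : R) ^ (i : ℕ) * (φ.submatrix i.succAbove id).det

theorem minors_map {R R' : Type*} [CommRing R] [CommRing R'] (h : R →+* R') {r : ℕ}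
    (φ : Matrix (Fin (r + 1)) (Fin r) R) (i : Fin (r + 1)) :
    minors (φ.map h) i = h (minors φ i) := by
  unfold minors
  rw [map_mul, map_pow, map_neg, map_one, RingHom.map_det]
  rfl

theorem minors_smul {R : Type*} [CommRing R] (s : R) {r : ℕ}
    (φ : Matrix (Fin (r + 1)) (Fin r) R) (i : Fin (r + 1)) :
    minors (s • φ) i = s ^ r * minors φ i := by
  unfold minors
  have : (s • φ).submatrix i.succAbove id = s • (φ.submatrix i.succAbove id) := rfl
  rw [this, Matrix.det_smul, Fintype.card_fin]
  ring

/-- Laplace: the vector of signed minors is orthogonal to every column. -/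
theorem laplace {R : Type*} [CommRing R] {r : ℕ} (φ : Matrix (Fin (r + 1)) (Fin r) R)
    (j : Fin r) : ∑ i, minors φ i * φ i j = 0 := by
  classical
  let A : Matrix (Fin (r + 1)) (Fin (r + 1)) R :=
    Matrix.of fun i c => Fin.cases (φ i j) (fun c' => φ i c') c
  have hdet : A.det = 0 := by
    apply Matrix.det_zero_of_column_eq (i := (0 : Fin (r + 1))) (j := j.succ)
    · exact (Fin.succ_ne_zero j).symm
    · intro i
      simp [A]
  rw [Matrix.det_succ_column_zero] at hdet
  rw [← hdet]
  refine Finset.sum_congr rfl fun i _ => ?_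
  have h1 : A.submatrix i.succAbove Fin.succ = φ.submatrix i.succAbove id := by
    ext a b
    simp [A]
  rw [h1]
  unfold minors
  simp [A]
  ring

end Groth.Agent.Lib.Helper29.HBSpreadA
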