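import Mathlib
import Groth.Agent.Lib.Helper29.HBSpreadA

/-!
# Localization lemmas: common denominators / annihilators
-/

set_option autoImplicit false
set_option maxHeartbeats 1600000

universe u

open Matrix

namespace Groth.Agent.Lib.Helper29.HBSpreadB

open Groth.Agent.Lib.Helper29.HBSpreadA

section Loc

variable {B : Type*} [CommRing B] (M : Submonoid B) {S : Type*} [CommRing S] [Algebra B S]
  [IsLocalization M S]

include M in
theorem exists_mul_mem (I : Ideal B) (x : B) (hx : algebraMap B S x ∈ I.map (algebraMap B S)) :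
    ∃ t : M, (t : B) * x ∈ I := by
  obtain ⟨⟨k, t⟩, hkt⟩ := (IsLocalization.mem_map_algebraMap_iff M S).1 hx
  rw [← map_mul] at hkt
  obtain ⟨c, hc⟩ := (IsLocalization.eq_iff_exists M S).1 hkt
  refine ⟨c * t, ?_⟩
  have : ((c * t : M) : B) * x = (c : B) * (x * t) := by push_cast; ring
  rw [this, hc]
  exact I.mul_mem_left _ k.2

include M in
theorem exists_mul_mem_fin {ι : Type*} [Fintype ι] (I : Ideal B) (x : ι → B)
    (hx : ∀ i, algebraMap B S (x i) ∈ I.map (algebraMap B S)) :
    ∃ t : M, ∀ i, (t : B) * x i ∈ I := by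
  classical
  choose t ht using fun i => exists_mul_mem M (S := S) I (x i) (hx i)
  refine ⟨∏ i, t i, fun i => ?_⟩
  have : ((∏ i, t i : M) : B) = (∏ j ∈ Finset.univ.erase i, (t j : B)) * t i := by
    rw [Submonoid.coe_finset_prod, Finset.prod_erase_mul _ _ (Finset.mem_univ i)]
  rw [this, mul_assoc]
  exact I.mul_mem_left _ (ht i)

include M in
theorem exists_common_ann {ι : Type*} [Fintype ι] (x : ι → B)
    (hx : ∀ i, algebraMap B S (x i) = 0) : ∃ c : M, ∀ i, (c : B) * x i = 0 := by
  have := exists_mul_mem_fin M (S := S) (⊥ : Ideal B) x (fun i => by rw [hx i]; exact zero_mem _)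
  obtain ⟨c, hc⟩ := this
  exact ⟨c, fun i => by simpa using hc i⟩

end Loc

/-- finitely generated submodule: a common multiplier -/
theorem exists_smul_mem_of_fg {B : Type*} [CommRing B] (M : Submonoid B) {V : Type*}
    [AddCommGroup V] [Module B V] (N P : Submodule B V) (hN : N.FG)
    (h : ∀ w ∈ N, ∃ t : M, (t : B) • w ∈ P) : ∃ t : M, ∀ w ∈ N, (t : B) • w ∈ P := by
  classical
  obtain ⟨T, hT⟩ := hN
  have h' : ∀ w : T, ∃ t : M, (t : B) • (w : V) ∈ P := fun w =>
    h w (hT ▸ Submodule.subset_span w.2)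
  choose t ht using h'
  refine ⟨∏ w, t w, ?_⟩
  have hle : N ≤ P.comap (((∏ w, t w : M) : B) • (LinearMap.id : V →ₗ[B] V)) := by
    rw [← hT, Submodule.span_le]
    intro w hw
    simp only [SetLike.mem_coe, Submodule.mem_comap, LinearMap.smul_apply, LinearMap.id_coe, id_eq]
    have : ((∏ w, t w : M) : B) =
        (∏ j ∈ Finset.univ.erase (⟨w, hw⟩ : T), (t j : B)) * t ⟨w, hw⟩ := by
      rw [Submonoid.coe_finset_prod, Finset.prod_erase_mul _ _ (Finset.mem_univ _)]
    rw [this, mul_smul]
    exact P.smul_mem _ (ht ⟨w, hw⟩)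
  intro w hw
  simpa using hle hw

end Groth.Agent.Lib.Helper29.HBSpreadB
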