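import Mathlib
import Groth.Agent.Lib.Helper29.HBSpreadA
import Groth.Agent.Lib.Helper29.HBSpreadB

/-!
# Spreading out a Hilbert–Burch resolution: ring-level theorem
-/

set_option autoImplicit false
set_option maxHeartbeats 1600000

universe u

open Matrix

namespace Groth.Agent.Lib.Helper29.HBSpreadC

open Groth.Agent.Lib.Helper29.HBSpreadA Groth.Agent.Lib.Helper29.HBSpreadB

theorem spread {B A : Type u} [CommRing B] [IsNoetherianRing B] [CommRing A] [Algebra B A]
    (p : Ideal B) [p.IsPrime] [IsLocalization.AtPrime A p] (K : Ideal B)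
    {r : ℕ} (φ : Matrix (Fin (r + 1)) (Fin r) A)
    (h1 : Ideal.span (Set.range (minors φ)) = K.map (algebraMap B A))
    (h2 : Function.Injective φ.mulVecLin)
    (h3 : LinearMap.range φ.mulVecLin = LinearMap.ker (Fintype.linearCombination A (minors φ))) :
    ∃ g : B, g ∉ p ∧ ∀ (B' : Type u) [CommRing B'] [Algebra B B'] [IsLocalization.Away g B'],
      ∃ φ' : Matrix (Fin (r + 1)) (Fin r) B',
        Ideal.span (Set.range (minors φ')) = K.map (algebraMap B B') ∧
        Function.Injective φ'.mulVecLin ∧
        LinearMap.range φ'.mulVecLin =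
          LinearMap.ker (Fintype.linearCombination B' (minors φ')) := by
  classical
  -- Step 0: clear denominators of φ
  obtain ⟨s, hs⟩ := IsLocalization.exist_integer_multiples_of_finite p.primeCompl
    (fun ij : Fin (r + 1) × Fin r => φ ij.1 ij.2)
  obtain ⟨ψ, hψ⟩ : ∃ ψ : Matrix (Fin (r + 1)) (Fin r) B,
      ψ.map (algebraMap B A) = (algebraMap B A s) • φ := by
    have hs' : ∀ ij : Fin (r + 1) × Fin r, ∃ b : B, algebraMap B A b = (s : B) • φ ij.1 ij.2 :=
      fun ij => hs ij
    choose ψ' hψ' using hs'
    refine ⟨Matrix.of fun i j => ψ' (i, j), ?_⟩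
    ext i j
    simp [hψ' (i, j), Algebra.smul_def]
  have hσ : IsUnit (algebraMap B A s) := IsLocalization.map_units A s
  have hm : ∀ i, algebraMap B A (minors ψ i) = (algebraMap B A s) ^ r * minors φ i := by
    intro i
    rw [← minors_map, hψ, minors_smul]
  obtain ⟨u, hu⟩ : ∃ u : A, u * (algebraMap B A s) ^ r = 1 := (hσ.pow r).exists_left_inv
  obtain ⟨u1, hu1⟩ : ∃ u : A, u * (algebraMap B A s) = 1 := hσ.exists_left_inv
  have hJK : (Ideal.span (Set.range (minors ψ))).map (algebraMap B A) =
      K.map (algebraMap B A) := by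
    rw [Ideal.map_span, ← h1]
    apply le_antisymm
    · rw [Ideal.span_le]
      rintro _ ⟨_, ⟨i, rfl⟩, rfl⟩
      rw [hm]
      exact Ideal.mul_mem_left _ _ (Ideal.subset_span ⟨i, rfl⟩)
    · rw [Ideal.span_le]
      rintro _ ⟨i, rfl⟩
      have : minors φ i = u * algebraMap B A (minors ψ i) := by
        rw [hm, ← mul_assoc, hu, one_mul]
      rw [this]
      exact Ideal.mul_mem_left _ _ (Ideal.subset_span ⟨_, ⟨i, rfl⟩, rfl⟩)
  -- Step 1: ideals
  obtain ⟨t1, ht1⟩ := exists_mul_mem_fin p.primeCompl (S := A) K (minors ψ) (fun i => by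
    rw [← hJK]; exact Ideal.mem_map_of_mem _ (Ideal.subset_span ⟨i, rfl⟩))
  obtain ⟨T, hT⟩ := (IsNoetherian.noetherian K : K.FG)
  obtain ⟨t2, ht2⟩ := exists_mul_mem_fin p.primeCompl (S := A)
    (Ideal.span (Set.range (minors ψ))) (fun k : T => (k : B)) (fun k => by
      rw [hJK]; exact Ideal.mem_map_of_mem _ (hT ▸ Ideal.subset_span k.2))
  -- Step 2: kernel of ψ
  obtain ⟨t3, ht3⟩ := exists_smul_mem_of_fg p.primeCompl (LinearMap.ker ψ.mulVecLin) ⊥
    (IsNoetherian.noetherian _) (fun w hw => by
      have hw0 : ψ.mulVec w = 0 := hw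
      have h0 : φ.mulVec (algebraMap B A ∘ w) = 0 := by
        have e1 : (ψ.map (algebraMap B A)).mulVec (algebraMap B A ∘ w) = 0 := by
          ext i
          rw [← RingHom.map_mulVec, hw0]; simp
        rw [hψ, Matrix.smul_mulVec] at e1
        have e2 : u1 • ((algebraMap B A s) • (φ.mulVec (algebraMap B A ∘ w))) = 0 := by
          rw [e1, smul_zero]
        rwa [smul_smul, hu1, one_smul] at e2
      have h00 : algebraMap B A ∘ w = 0 := h2 (by simpa using h0)
      obtain ⟨c, hc⟩ := exists_common_ann p.primeCompl (S := A) w (fun j => congrFun h00 j)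
      refine ⟨c, ?_⟩
      rw [Submodule.mem_bot]
      ext j
      simpa using hc j)
  -- Step 3: exactness
  obtain ⟨t4, ht4⟩ := exists_smul_mem_of_fg p.primeCompl
    (LinearMap.ker (Fintype.linearCombination B (minors ψ))) (LinearMap.range ψ.mulVecLin)
    (IsNoetherian.noetherian _) (fun w hw => by
      have hw0 : ∑ i, w i * minors ψ i = 0 := by
        simpa [Fintype.linearCombination_apply] using hw
      have hA : Fintype.linearCombination A (minors φ) (algebraMap B A ∘ w) = 0 := by
        rw [Fintype.linearCombination_apply]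
        have e := congrArg (algebraMap B A) hw0
        simp only [map_sum, map_mul, hm, map_zero] at e
        have e' : (algebraMap B A s) ^ r * ∑ i, algebraMap B A (w i) * minors φ i = 0 := by
          rw [Finset.mul_sum, ← e]; exact Finset.sum_congr rfl (fun i _ => by ring)
        have := congrArg (fun z => u * z) e'
        simp only [← mul_assoc, hu, one_mul, mul_zero] at this
        simpa [smul_eq_mul] using this
      have hmem : algebraMap B A ∘ w ∈ LinearMap.range φ.mulVecLin := by rw [h3]; exact hA
      obtain ⟨v, hv⟩ := hmem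
      obtain ⟨t, ht⟩ := IsLocalization.exist_integer_multiples_of_finite p.primeCompl v
      have ht' : ∀ j, ∃ b : B, algebraMap B A b = (t : B) • v j := fun j => ht j
      choose uu huu using ht'
      have key : ∀ i, algebraMap B A (((s : B) * t) * w i - (ψ.mulVec uu) i) = 0 := by
        intro i
        rw [map_sub, RingHom.map_mulVec, hψ]
        have h5 : (algebraMap B A ∘ uu) = (algebraMap B A t) • v := by
          ext j; simp [huu j, Algebra.smul_def]
        rw [h5, Matrix.mulVec_smul, Matrix.smul_mulVec]
        have h6 : φ.mulVec v = algebraMap B A ∘ w := hv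
        rw [h6]
        simp only [map_mul, Pi.smul_apply, Function.comp_apply, smul_eq_mul]
        ring
      obtain ⟨c, hc⟩ := exists_common_ann p.primeCompl (S := A) _ key
      refine ⟨c * s * t, ⟨(c : B) • uu, ?_⟩⟩
      ext i
      have := hc i
      simp only [Matrix.mulVecLin_apply, Matrix.mulVec_smul, Pi.smul_apply, smul_eq_mul,
        Submonoid.coe_mul]
      linear_combination (-1 : B) * this)
  -- Step 4
  refine ⟨((t1 * t2 * t3 * t4 * s : p.primeCompl) : B), (t1 * t2 * t3 * t4 * s).2, ?_⟩
  intro B' _ _ _
  have hg : IsUnit (algebraMap B B' ((t1 * t2 * t3 * t4 * s : p.primeCompl) : B)) :=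
    IsLocalization.map_units B'
      (⟨_, Submonoid.mem_powers _⟩ : Submonoid.powers ((t1 * t2 * t3 * t4 * s : p.primeCompl) : B))
  have hun1 : IsUnit (algebraMap B B' t1) :=
    isUnit_of_dvd_unit (map_dvd (algebraMap B B') ⟨(t2 : B) * t3 * t4 * s, by push_cast; ring⟩) hg
  have hun2 : IsUnit (algebraMap B B' t2) :=
    isUnit_of_dvd_unit (map_dvd (algebraMap B B') ⟨(t1 : B) * t3 * t4 * s, by push_cast; ring⟩) hg
  have hun3 : IsUnit (algebraMap B B' t3) :=
    isUnit_of_dvd_unit (map_dvd (algebraMap B B') ⟨(t1 : B) * t2 * t4 * s, by push_cast; ring⟩) hg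
  have hun4 : IsUnit (algebraMap B B' t4) :=
    isUnit_of_dvd_unit (map_dvd (algebraMap B B') ⟨(t1 : B) * t2 * t3 * s, by push_cast; ring⟩) hg
  refine ⟨ψ.map (algebraMap B B'), ?_, ?_, ?_⟩
  · have hmin : Set.range (minors (ψ.map (algebraMap B B'))) =
        (algebraMap B B') '' Set.range (minors ψ) := by
      ext z
      simp [minors_map]
    rw [hmin, ← Ideal.map_span]
    apply le_antisymm
    · rw [Ideal.map_le_iff_le_comap, Ideal.span_le]
      rintro _ ⟨i, rfl⟩
      have : algebraMap B B' t1 * algebraMap B B' (minors ψ i) ∈ K.map (algebraMap B B') := by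
        rw [← map_mul]; exact Ideal.mem_map_of_mem _ (ht1 i)
      exact (Ideal.unit_mul_mem_iff_mem _ hun1).1 this
    · rw [← hT, Ideal.map_span, Ideal.span_le]
      rintro _ ⟨k, hk, rfl⟩
      have : algebraMap B B' t2 * algebraMap B B' k ∈
          (Ideal.span (Set.range (minors ψ))).map (algebraMap B B') := by
        rw [← map_mul]; exact Ideal.mem_map_of_mem _ (ht2 ⟨k, hk⟩)
      exact (Ideal.unit_mul_mem_iff_mem _ hun2).1 this
  · rw [injective_iff_map_eq_zero]
    intro v hv
    have hv0 : (ψ.map (algebraMap B B')).mulVec v = 0 := hv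
    obtain ⟨b, hb⟩ := IsLocalization.exist_integer_multiples_of_finite
      (Submonoid.powers ((t1 * t2 * t3 * t4 * s : p.primeCompl) : B)) v
    have hb' : ∀ j, ∃ x : B, algebraMap B B' x = (b : B) • v j := fun j => hb j
    choose w hw using hb'
    have hwv : algebraMap B B' ∘ w = algebraMap B B' b • v := by
      ext j; simp [hw j, Algebra.smul_def]
    have h0 : ∀ i, algebraMap B B' ((ψ.mulVec w) i) = 0 := by
      intro i
      rw [RingHom.map_mulVec, hwv, Matrix.mulVec_smul, hv0]; simp
    obtain ⟨c, hc⟩ := exists_common_ann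
      (Submonoid.powers ((t1 * t2 * t3 * t4 * s : p.primeCompl) : B)) (S := B') _ h0
    have hcw : (c : B) • w ∈ LinearMap.ker ψ.mulVecLin := by
      rw [LinearMap.mem_ker, Matrix.mulVecLin_apply, Matrix.mulVec_smul]
      ext i; simpa using hc i
    have h3' := ht3 _ hcw
    rw [Submodule.mem_bot] at h3'
    ext j
    have e := congrFun h3' j
    have e' := congrArg (algebraMap B B') e
    simp only [Pi.smul_apply, smul_eq_mul, map_mul, Pi.zero_apply, map_zero] at e'
    have hwj : algebraMap B B' (w j) = algebraMap B B' b * v j := by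
      rw [hw j, Algebra.smul_def]
    rw [hwj] at e'
    have hunit : IsUnit (algebraMap B B' t3 * (algebraMap B B' c * algebraMap B B' b)) :=
      hun3.mul ((IsLocalization.map_units B' c).mul (IsLocalization.map_units B' b))
    have : (algebraMap B B' t3 * (algebraMap B B' c * algebraMap B B' b)) * v j = 0 := by
      linear_combination e'
    exact (hunit.mul_right_eq_zero).1 this
  · apply le_antisymm
    · rintro _ ⟨v, rfl⟩
      rw [LinearMap.mem_ker, Fintype.linearCombination_apply]
      simp only [Matrix.mulVecLin_apply, smul_eq_mul]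
      have : ∀ i, ((ψ.map (algebraMap B B')).mulVec v) i * minors (ψ.map (algebraMap B B')) i =
          ∑ j, v j * (minors (ψ.map (algebraMap B B')) i * (ψ.map (algebraMap B B')) i j) := by
        intro i
        simp only [Matrix.mulVec, dotProduct, Finset.sum_mul]
        exact Finset.sum_congr rfl (fun j _ => by ring)
      rw [Finset.sum_congr rfl (fun i _ => this i), Finset.sum_comm]
      simp_rw [← Finset.mul_sum, laplace, mul_zero, Finset.sum_const_zero]
    · intro v hv
      rw [LinearMap.mem_ker, Fintype.linearCombination_apply] at hv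
      obtain ⟨b, hb⟩ := IsLocalization.exist_integer_multiples_of_finite
        (Submonoid.powers ((t1 * t2 * t3 * t4 * s : p.primeCompl) : B)) v
      have hb' : ∀ j, ∃ x : B, algebraMap B B' x = (b : B) • v j := fun j => hb j
      choose w hw using hb'
      have h0 : algebraMap B B' (∑ i, w i * minors ψ i) = 0 := by
        simp only [map_sum, map_mul, hw, ← minors_map, Algebra.smul_def]
        have : ∑ i, algebraMap B B' b * v i * minors (ψ.map (algebraMap B B')) i =
            algebraMap B B' b * ∑ i, v i • minors (ψ.map (algebraMap B B')) i := by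
          rw [Finset.mul_sum]; exact Finset.sum_congr rfl (fun i _ => by simp [mul_assoc])
        rw [this, hv, mul_zero]
      obtain ⟨c, hc⟩ := exists_common_ann
        (Submonoid.powers ((t1 * t2 * t3 * t4 * s : p.primeCompl) : B)) (S := B')
        (fun _ : Unit => ∑ i, w i * minors ψ i) (fun _ => h0)
      have hcw : (c : B) • w ∈ LinearMap.ker (Fintype.linearCombination B (minors ψ)) := by
        rw [LinearMap.mem_ker, Fintype.linearCombination_apply]
        have := hc ()
        simp only [Pi.smul_apply, smul_eq_mul]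
        rw [← this, Finset.mul_sum]; exact Finset.sum_congr rfl (fun i _ => by ring)
      obtain ⟨uu, huu⟩ := ht4 _ hcw
      have hunit : IsUnit (algebraMap B B' t4 * (algebraMap B B' c * algebraMap B B' b)) :=
        hun4.mul ((IsLocalization.map_units B' c).mul (IsLocalization.map_units B' b))
      obtain ⟨ε, hε⟩ := hunit.exists_left_inv
      refine ⟨ε • (algebraMap B B' ∘ uu), ?_⟩
      ext i
      rw [Matrix.mulVecLin_apply, Matrix.mulVec_smul]
      have e := congrArg (algebraMap B B') (congrFun huu i)
      rw [Matrix.mulVecLin_apply, RingHom.map_mulVec] at e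
      have hwi : algebraMap B B' (w i) = algebraMap B B' b * v i := by
        rw [hw i, Algebra.smul_def]
      simp only [Pi.smul_apply, smul_eq_mul, map_mul, hwi] at e ⊢
      rw [e]
      linear_combination (v i) * hε

end Groth.Agent.Lib.Helper29.HBSpreadC
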