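import Mathlib
import Groth.Agent.Lib.Helper29.HBSpreadC

/-!
# Kernel of the stalk map of a closed immersion
-/

set_option autoImplicit false
set_option maxHeartbeats 1600000

universe u

open AlgebraicGeometry CategoryTheory

namespace Groth.Agent.Lib.Helper29.HBSpreadD

theorem ker_stalkMap_eq {X Y : Scheme.{u}} (ι : Y ⟶ X) [IsClosedImmersion ι] (y : Y)
    (U : X.Opens) (hU : IsAffineOpen U) (hy : ι.base y ∈ U) :
    RingHom.ker (ι.stalkMap y).hom =
      (ι.ker.ideal ⟨U, hU⟩).map (X.presheaf.germ U (ι.base y) hy).hom := by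
  have hV : IsAffineOpen (ι ⁻¹ᵁ U) := hU.preimage ι
  letI algX : Algebra Γ(X, U) (X.presheaf.stalk (ι.base y)) :=
    TopCat.Presheaf.algebra_section_stalk X.presheaf (⟨ι.base y, hy⟩ : U)
  letI algY : Algebra Γ(Y, ι ⁻¹ᵁ U) (Y.presheaf.stalk y) :=
    TopCat.Presheaf.algebra_section_stalk Y.presheaf (⟨y, hy⟩ : (ι ⁻¹ᵁ U : Y.Opens))
  haveI locX : IsLocalization.AtPrime (X.presheaf.stalk (ι.base y))
      (hU.primeIdealOf ⟨ι.base y, hy⟩).asIdeal := hU.isLocalization_stalk ⟨ι.base y, hy⟩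
  haveI locY : IsLocalization.AtPrime (Y.presheaf.stalk y)
      (hV.primeIdealOf ⟨y, hy⟩).asIdeal := hV.isLocalization_stalk ⟨y, hy⟩
  have hker : ι.ker.ideal ⟨U, hU⟩ = RingHom.ker (ι.app U).hom := Scheme.Hom.ker_apply ι ⟨U, hU⟩
  apply le_antisymm
  · intro a ha
    rw [RingHom.mem_ker] at ha
    obtain ⟨⟨b, s⟩, hbs⟩ :=
      IsLocalization.surj (hU.primeIdealOf ⟨ι.base y, hy⟩).asIdeal.primeCompl a
    replace hbs : a * (X.presheaf.germ U (ι.base y) hy).hom s =
        (X.presheaf.germ U (ι.base y) hy).hom b := hbs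
    have hb0 : (Y.presheaf.germ (ι ⁻¹ᵁ U) y hy).hom ((ι.app U).hom b) = 0 := by
      have := ι.germ_stalkMap_apply U y hy b
      change (ι.stalkMap y).hom ((X.presheaf.germ U (ι.base y) hy).hom b) = _ at this
      rw [← this, ← hbs, map_mul, ha, zero_mul]
    obtain ⟨t, ht⟩ := (IsLocalization.map_eq_zero_iff
      (hV.primeIdealOf ⟨y, hy⟩).asIdeal.primeCompl (Y.presheaf.stalk y) _).1 hb0
    obtain ⟨s', hs'⟩ := ι.app_surjective U hU (t : Γ(Y, ι ⁻¹ᵁ U))
    have hunit_t : IsUnit ((Y.presheaf.germ (ι ⁻¹ᵁ U) y hy).hom t) :=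
      IsLocalization.map_units (Y.presheaf.stalk y) t
    have hunit_s' : IsUnit ((X.presheaf.germ U (ι.base y) hy).hom s') := by
      apply isUnit_of_map_unit (ι.stalkMap y).hom
      have := ι.germ_stalkMap_apply U y hy s'
      rw [this, hs']
      exact hunit_t
    have hmem : s' * b ∈ ι.ker.ideal ⟨U, hU⟩ := by
      rw [hker, RingHom.mem_ker, map_mul]
      rw [show (ι.app U).hom s' = t from hs']
      exact ht
    have h1 : (X.presheaf.germ U (ι.base y) hy).hom b ∈
        (ι.ker.ideal ⟨U, hU⟩).map (X.presheaf.germ U (ι.base y) hy).hom := by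
      have := Ideal.mem_map_of_mem (X.presheaf.germ U (ι.base y) hy).hom hmem
      rw [map_mul] at this
      exact (Ideal.unit_mul_mem_iff_mem _ hunit_s').1 this
    rw [← hbs] at h1
    have hunit_s : IsUnit ((X.presheaf.germ U (ι.base y) hy).hom s) :=
      IsLocalization.map_units (X.presheaf.stalk (ι.base y)) s
    exact (Ideal.mul_unit_mem_iff_mem _ hunit_s).1 h1
  · rw [Ideal.map_le_iff_le_comap]
    intro k hk
    rw [hker, RingHom.mem_ker] at hk
    rw [Ideal.mem_comap, RingHom.mem_ker]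
    have := ι.germ_stalkMap_apply U y hy k
    rw [this]
    rw [show (ι.app U) k = 0 from hk, map_zero]

end Groth.Agent.Lib.Helper29.HBSpreadD
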