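import Mathlib
import Groth.Statements.S11460
import Groth.Agent.S11449
import Groth.Agent.Lib.Helper29.HBSpreadC
import Groth.Agent.Lib.Helper29.HBSpreadD
import Groth.Agent.Lib.Helper22.CMGlue
import Groth.Agent.Lib.Helper26.RegularSch

/-!
# S11460: Hilbert–Burch resolution on an affine open neighbourhood
-/

set_option autoImplicit false
set_option maxHeartbeats 1600000

universe u

open AlgebraicGeometry CategoryTheory

namespace Groth.Agent.Lib.Helper29.HBSpreadE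

open Groth.Agent.Lib.Helper29.HBSpreadA Groth.Agent.Lib.Helper29.HBSpreadC
  Groth.Agent.Lib.Helper29.HBSpreadD

theorem main11460 (k : Type u) [Field k]
    (X Y : Scheme.{u}) (f : X ⟶ Spec (CommRingCat.of k)) [Smooth f] (ι : Y ⟶ X) [IsClosedImmersion ι]
    (hCM : ∀ y : Y, LocCoh.IsCohenMacaulayLocalRing (Y.presheaf.stalk y))
    (hcodim : ∀ y : Y, ringKrullDim (Y.presheaf.stalk y) + 2 = ringKrullDim (X.presheaf.stalk (ι.base y)))
    (y : Y) :
    ∃ U : X.affineOpens, ι.base y ∈ (U : X.Opens) ∧ ∃ (r : ℕ) (φ : Matrix (Fin (r + 1)) (Fin r) Γ(X, U)),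
      (Ideal.span (Set.range (fun i : Fin (r + 1) => (-1 : Γ(X, U)) ^ (i : ℕ) * ((φ).submatrix i.succAbove id).det)) = ι.ker.ideal U ∧
        Function.Injective (φ).mulVecLin ∧
        LinearMap.range (φ).mulVecLin = LinearMap.ker (Fintype.linearCombination Γ(X, U) (fun i : Fin (r + 1) => (-1 : Γ(X, U)) ^ (i : ℕ) * ((φ).submatrix i.succAbove id).det))) := by
  obtain ⟨U0, hU0, hyU0⟩ : ∃ U0 : X.Opens, IsAffineOpen U0 ∧ ι.base y ∈ U0 := by
    obtain ⟨_, ⟨U0, hU0, rfl⟩, hy, -⟩ := (X.isBasis_affineOpens).exists_subset_of_mem_open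
      (Set.mem_univ (ι.base y)) isOpen_univ
    exact ⟨U0, hU0, hy⟩
  haveI : IsLocallyNoetherian X := LocallyOfFiniteType.isLocallyNoetherian f
  haveI : IsNoetherianRing Γ(X, U0) := IsLocallyNoetherian.component_noetherian ⟨U0, hU0⟩
  haveI hreg : IsRegularLocalRing (X.presheaf.stalk (ι.base y)) :=
    Groth.Agent.Lib.Helper26.RegularSch.isRegularLocalRing_stalk_of_smooth_field k f _
  have hsurj : Function.Surjective (ι.stalkMap y).hom := ι.stalkMap_surjective y
  haveI := hCM y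
  haveI : LocCoh.IsCohenMacaulayLocalRing
      (X.presheaf.stalk (ι.base y) ⧸ RingHom.ker (ι.stalkMap y).hom) :=
    Groth.Agent.Lib.Helper22.CMG.isCMLocalRing_of_ringEquiv
      (RingHom.quotientKerEquivOfSurjective hsurj).symm
  have hdim : ringKrullDim (X.presheaf.stalk (ι.base y) ⧸ RingHom.ker (ι.stalkMap y).hom) + 2 =
      ringKrullDim (X.presheaf.stalk (ι.base y)) := by
    rw [ringKrullDim_eq_of_ringEquiv (RingHom.quotientKerEquivOfSurjective hsurj)]
    exact hcodim y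
  obtain ⟨r, φ, hφ1, -, hφ2, hφ3⟩ := Groth.Agent.S11449.result _ _ hdim
  letI algX : Algebra Γ(X, U0) (X.presheaf.stalk (ι.base y)) :=
    TopCat.Presheaf.algebra_section_stalk X.presheaf (⟨ι.base y, hyU0⟩ : U0)
  haveI locX : IsLocalization.AtPrime (X.presheaf.stalk (ι.base y))
      (hU0.primeIdealOf ⟨ι.base y, hyU0⟩).asIdeal := hU0.isLocalization_stalk ⟨ι.base y, hyU0⟩
  obtain ⟨g, hg, H⟩ := spread (hU0.primeIdealOf ⟨ι.base y, hyU0⟩).asIdeal
    (ι.ker.ideal ⟨U0, hU0⟩) φ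
    (by
      have := ker_stalkMap_eq ι y U0 hU0 hyU0
      exact hφ1.trans this) hφ2 hφ3
  haveI : IsLocalization.Away g Γ(X, X.basicOpen g) := hU0.isLocalization_basicOpen g
  obtain ⟨φ', h1, h2, h3⟩ := H Γ(X, X.basicOpen g)
  refine ⟨X.affineBasicOpen (U := ⟨U0, hU0⟩) g, ?_, r, φ', ?_, h2, h3⟩
  · show ι.base y ∈ X.basicOpen g
    rw [Scheme.mem_basicOpen _ _ _ hyU0]
    exact (IsLocalization.AtPrime.isUnit_to_map_iff (X.presheaf.stalk (ι.base y))
      (hU0.primeIdealOf ⟨ι.base y, hyU0⟩).asIdeal g).2 hg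
  · have := (ι.ker).map_ideal_basicOpen ⟨U0, hU0⟩ g
    rw [← this]
    exact h1

end Groth.Agent.Lib.Helper29.HBSpreadE
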