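import Mathlib

/-!
# A ring-level lemma: a map of pushouts induced by a split injection is injective (helper29)
-/
set_option autoImplicit false
set_option maxHeartbeats 1600000
universe u
open CategoryTheory CategoryTheory.Limits TensorProduct

noncomputable section

namespace Groth.Agent.Lib.Helper29.MagnetDomRing

theorem injective_of_isPushout_of_retract {R A A' C D D' : CommRingCat.{u}}
    {a : R ⟶ A} {a' : R ⟶ A'} {c : R ⟶ C} {u : A ⟶ D} {v : C ⟶ D} {u' : A' ⟶ D'} {v' : C ⟶ D'}
    (H : IsPushout a c u v) (H' : IsPushout a' c u' v')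
    (j : A ⟶ A') (ρ : D ⟶ D') (haj : a ≫ j = a') (hu : u ≫ ρ = j ≫ u') (hv : v ≫ ρ = v')
    (hR : ∀ r : R, ∃ n : ℤ, r = (n : R))
    (r₀ : A' →+ A) (hr₀ : ∀ x, r₀ (j.hom x) = x) :
    Function.Injective ρ.hom := by
  algebraize [a.hom, a'.hom, c.hom]
  let e : D ≅ CommRingCat.of (A ⊗[R] C) :=
    IsColimit.coconePointUniqueUpToIso H.isColimit (CommRingCat.pushoutCoconeIsColimit R A C)
  let e' : D' ≅ CommRingCat.of (A' ⊗[R] C) :=
    IsColimit.coconePointUniqueUpToIso H'.isColimit (CommRingCat.pushoutCoconeIsColimit R A' C)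
  have hue : u ≫ e.hom = CommRingCat.ofHom (Algebra.TensorProduct.includeLeftRingHom) :=
    IsColimit.comp_coconePointUniqueUpToIso_hom H.isColimit _ WalkingSpan.left
  have hve : v ≫ e.hom = CommRingCat.ofHom (Algebra.TensorProduct.includeRight.toRingHom) :=
    IsColimit.comp_coconePointUniqueUpToIso_hom H.isColimit _ WalkingSpan.right
  have hue' : u' ≫ e'.hom = CommRingCat.ofHom (Algebra.TensorProduct.includeLeftRingHom) :=
    IsColimit.comp_coconePointUniqueUpToIso_hom H'.isColimit _ WalkingSpan.left
  have hve' : v' ≫ e'.hom = CommRingCat.ofHom (Algebra.TensorProduct.includeRight.toRingHom) :=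
    IsColimit.comp_coconePointUniqueUpToIso_hom H'.isColimit _ WalkingSpan.right
  -- `j` as an `R`-algebra map
  let jA : A →ₐ[R] A' :=
    { j.hom with
      commutes' := fun r => by
        have := congrArg (fun ψ => ψ.hom r) haj
        simp only [CommRingCat.hom_comp, RingHom.coe_comp, Function.comp_apply] at this
        exact this }
  let t : A ⊗[R] C →ₐ[R] A' ⊗[R] C := Algebra.TensorProduct.map jA (AlgHom.id R C)
  have key : ρ ≫ e'.hom = e.hom ≫ CommRingCat.ofHom t.toRingHom := by
    apply H.hom_ext
    · rw [← Category.assoc, hu, Category.assoc, hue', ← Category.assoc, hue]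
      ext x
      simp [t, jA]
    · rw [← Category.assoc, hv, hve', ← Category.assoc, hve]
      ext x
      simp [t, jA]
  -- the retraction as an `R`-linear map
  let r₀L : A' →ₗ[R] A :=
    { toFun := r₀
      map_add' := r₀.map_add
      map_smul' := fun r y => by
        obtain ⟨n, rfl⟩ := hR r
        simp only [RingHom.id_apply]
        rw [Algebra.smul_def, Algebra.smul_def, map_intCast, map_intCast, ← zsmul_eq_mul,
          ← zsmul_eq_mul, map_zsmul] }
  have hleft : ∀ z : A ⊗[R] C, LinearMap.rTensor C r₀L (t z) = z := by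
    intro z
    induction z using TensorProduct.induction_on with
    | zero => simp
    | tmul x y =>
      simp only [t, Algebra.TensorProduct.map_tmul, LinearMap.rTensor_tmul, AlgHom.coe_id, id_eq]
      congr 1
      exact hr₀ x
    | add x y hx hy => rw [map_add, map_add, hx, hy]
  have htinj : Function.Injective t := fun z₁ z₂ h => by
    rw [← hleft z₁, ← hleft z₂, h]
  have hinj : Function.Injective (ρ ≫ e'.hom).hom := by
    rw [key]
    exact htinj.comp (ConcreteCategory.bijective_of_isIso e.hom).1
  intro x y hxy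
  apply hinj
  simp only [CommRingCat.hom_comp, RingHom.coe_comp, Function.comp_apply, hxy]

end Groth.Agent.Lib.Helper29.MagnetDomRing
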