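import Mathlib
import Groth.Prelude.Def_Magnet2
import Groth.Agent.Lib.Helper29.MagnetDomRing

/-!
# `A(N')_S ×_S T ⟶ A(N)_S ×_S T` is scheme-theoretically dominant for `N →+ N'` injective (helper29)
-/
set_option autoImplicit false
set_option maxHeartbeats 1600000
set_option linter.style.haveILetI false
universe u
open CategoryTheory CategoryTheory.Limits MonoidalCategory CartesianMonoidalCategory MonObj
  AlgebraicGeometry Opposite

noncomputable section

namespace Groth.Agent.Lib.Helper29.MagnetDom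

open Magnet

theorem appLE_congr_hom {X Y : Scheme.{u}} {f g : X ⟶ Y} (h : f = g) (U : Y.Opens) (V : X.Opens)
    (e : V ≤ f ⁻¹ᵁ U) : f.appLE U V e = g.appLE U V (h ▸ e) := by
  subst h; rfl

theorem appLE_top_top {X Y : Scheme.{u}} (f : X ⟶ Y) (h : (⊤ : X.Opens) ≤ f ⁻¹ᵁ ⊤) :
    f.appLE ⊤ ⊤ h = f.appTop := by
  rw [Scheme.Hom.appTop, Scheme.Hom.app_eq_appLE]
  rfl

/-- every global function on `Spec ℤ` is an integer -/
theorem exists_int (r : Γ(Spec (CommRingCat.of (ULift.{u} ℤ)), ⊤)) :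
    ∃ n : ℤ, r = (n : Γ(Spec (CommRingCat.of (ULift.{u} ℤ)), ⊤)) := by
  set s := (Scheme.ΓSpecIso (CommRingCat.of (ULift.{u} ℤ))).hom.hom r with hs
  have h2 : s = ((s.down : ℤ) : ULift.{u} ℤ) := by
    apply ULift.ext; simp
  have h1 : (Scheme.ΓSpecIso (CommRingCat.of (ULift.{u} ℤ))).inv.hom s = r := by
    have := congrArg (fun ψ => ψ.hom r) (Scheme.ΓSpecIso (CommRingCat.of (ULift.{u} ℤ))).hom_inv_id
    simp only [CommRingCat.hom_comp, RingHom.coe_comp, Function.comp_apply, CommRingCat.hom_id,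
      RingHom.id_apply] at this
    exact this
  refine ⟨s.down, ?_⟩
  rw [← h1]
  conv_lhs => rw [h2]
  rw [map_intCast]

variable (S : Scheme.{u}) (T : Over S)

section one
variable (N : Type) [AddCommMonoid N]

/-- projection `A(N)_S ×_S T ⟶ Spec ℤ[N]` -/
def pN : (AMonS S N ⊗ T).left ⟶ (AMon (ULift.{u} ℤ) N).left :=
  (fst (AMonS S N) T).left ≫
    pullback.fst (AMon (ULift.{u} ℤ) N).hom (Limits.IsTerminal.from specULiftZIsTerminal S)

/-- projection `A(N)_S ×_S T ⟶ T` -/
def qN : (AMonS S N ⊗ T).left ⟶ T.left := (snd (AMonS S N) T).left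

theorem isPullback_pN_qN :
    IsPullback (pN S T N) (qN S T N) (AMon (ULift.{u} ℤ) N).hom
      (T.hom ≫ Limits.IsTerminal.from specULiftZIsTerminal S) :=
  IsPullback.paste_horiz (IsPullback.of_hasPullback (AMonS S N).hom T.hom)
    (IsPullback.of_hasPullback (AMon (ULift.{u} ℤ) N).hom
      (Limits.IsTerminal.from specULiftZIsTerminal S))

theorem isAffine_AMon_left : IsAffine (AMon (ULift.{u} ℤ) N).left := by
  change IsAffine (Spec _); infer_instance

theorem isAffineHom_AMonS_hom : IsAffineHom (AMonS S N).hom := by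
  haveI := isAffine_AMon_left.{u} N
  haveI : IsAffineHom (AMon (ULift.{u} ℤ) N).hom := inferInstance
  change IsAffineHom (pullback.snd (AMon (ULift.{u} ℤ) N).hom
    (Limits.IsTerminal.from specULiftZIsTerminal S))
  exact MorphismProperty.pullback_snd (P := @IsAffineHom) _ _ inferInstance

theorem isAffineHom_qN : IsAffineHom (qN S T N) := by
  haveI := isAffineHom_AMonS_hom S N
  change IsAffineHom (pullback.snd (AMonS S N).hom T.hom)
  exact MorphismProperty.pullback_snd (P := @IsAffineHom) _ _ inferInstance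

end one

section two
variable {N N' : Type} [AddCommMonoid N] [AddCommMonoid N'] (f : N →+ N')

theorem whisker_qN : ((AMonS.map S f) ▷ T).left ≫ qN S T N = qN S T N' := by
  unfold qN
  rw [← Over.comp_left, whiskerRight_snd]

theorem whisker_pN :
    ((AMonS.map S f) ▷ T).left ≫ pN S T N = pN S T N' ≫ (AMon.map (ULift.{u} ℤ) f).left := by
  unfold pN
  rw [← Category.assoc, ← Over.comp_left, whiskerRight_fst, Over.comp_left, Category.assoc,
    Category.assoc]
  congr 1
  simp [AMonS.map]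
  exact pullback.lift_fst _ _ _

variable (hf : Function.Injective f)

/-- additive retraction of `ℤ[N] → ℤ[N']` -/
def retr : MonoidAlgebra (ULift.{u} ℤ) (Multiplicative N') →+
    MonoidAlgebra (ULift.{u} ℤ) (Multiplicative N) :=
  (MonoidAlgebra.coeffAddEquiv.symm.toAddMonoidHom).comp
    ((Finsupp.comapDomain.addMonoidHom
      (f := (AddMonoidHom.toMultiplicative f : Multiplicative N → Multiplicative N'))
      (fun _ _ h => hf h)).comp MonoidAlgebra.coeffAddEquiv.toAddMonoidHom)

theorem retr_map (y : MonoidAlgebra (ULift.{u} ℤ) (Multiplicative N)) :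
    retr.{u} f hf ((MonoidAlgebra.mapDomainBialgHom (ULift.{u} ℤ)
      (AddMonoidHom.toMultiplicative f)).toAlgHom.toRingHom y) = y := by
  apply MonoidAlgebra.coeff_injective
  exact Finsupp.comapDomain_mapDomain _ (fun _ _ h => hf h) y.coeff

include hf in
theorem ker_whiskerRight_eq_bot : ((AMonS.map S f) ▷ T).left.ker = ⊥ := by
  have G1 := whisker_qN S T f
  have G2 := whisker_pN S T f
  haveI hq : IsAffineHom (qN S T N) := isAffineHom_qN S T N
  haveI hq' : IsAffineHom (qN S T N') := isAffineHom_qN S T N'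
  haveI : QuasiCompact (((AMonS.map S f) ▷ T).left ≫ qN S T N) := by rw [G1]; infer_instance
  haveI : QuasiCompact ((AMonS.map S f) ▷ T).left := QuasiCompact.of_comp _ (qN S T N)
  refine Scheme.IdealSheafData.ext_of_iSup_eq_top
    (fun T₀ : T.left.affineOpens => ⟨qN S T N ⁻¹ᵁ T₀.1, T₀.2.preimage (qN S T N)⟩) ?_ ?_
  · rw [eq_top_iff]
    intro x _
    obtain ⟨_, ⟨V, hV, rfl⟩, hxV, -⟩ := T.left.isBasis_affineOpens.exists_subset_of_mem_open
      (Set.mem_univ ((qN S T N) x)) isOpen_univ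
    exact TopologicalSpace.Opens.mem_iSup.mpr ⟨⟨V, hV⟩, hxV⟩
  · intro T₀
    rw [Scheme.Hom.ker_apply, Scheme.IdealSheafData.ideal_bot, Pi.bot_apply,
      ← RingHom.injective_iff_ker_eq_bot]
    set r := ((AMonS.map S f) ▷ T).left with hr
    set W : (AMonS S N ⊗ T).left.Opens := qN S T N ⁻¹ᵁ T₀.1 with hW
    have hUST : T₀.1 ≤ (T.hom ≫ Limits.IsTerminal.from specULiftZIsTerminal S) ⁻¹ᵁ ⊤ :=
      fun _ _ => trivial
    have hUSX : (⊤ : (AMon (ULift.{u} ℤ) N).left.Opens) ≤ (AMon (ULift.{u} ℤ) N).hom ⁻¹ᵁ ⊤ :=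
      fun _ _ => trivial
    have hUSX' : (⊤ : (AMon (ULift.{u} ℤ) N').left.Opens) ≤ (AMon (ULift.{u} ℤ) N').hom ⁻¹ᵁ ⊤ :=
      fun _ _ => trivial
    have hUY : W = pN S T N ⁻¹ᵁ ⊤ ⊓ qN S T N ⁻¹ᵁ T₀.1 := by
      rw [Scheme.Hom.preimage_top, top_inf_eq]
    have hUY' : r ⁻¹ᵁ W = pN S T N' ⁻¹ᵁ ⊤ ⊓ qN S T N' ⁻¹ᵁ T₀.1 := by
      rw [Scheme.Hom.preimage_top, top_inf_eq, hW, ← Scheme.Hom.comp_preimage, G1]
    have hS : IsAffineOpen (⊤ : (Spec (CommRingCat.of (ULift.{u} ℤ))).Opens) := isAffineOpen_top _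
    haveI := isAffine_AMon_left.{u} N
    haveI := isAffine_AMon_left.{u} N'
    have hA : IsAffineOpen (⊤ : (AMon (ULift.{u} ℤ) N).left.Opens) := isAffineOpen_top _
    have hA' : IsAffineOpen (⊤ : (AMon (ULift.{u} ℤ) N').left.Opens) := isAffineOpen_top _
    have P1 := (isIso_pushoutSection_iff (isPullback_pN_qN S T N) hUST hUSX hUY).mp
      (isIso_pushoutSection_of_isAffineOpen (isPullback_pN_qN S T N) hUST hUSX hUY hS T₀.2 hA)
    have P2 := (isIso_pushoutSection_iff (isPullback_pN_qN S T N') hUST hUSX' hUY').mp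
      (isIso_pushoutSection_of_isAffineOpen (isPullback_pN_qN S T N') hUST hUSX' hUY' hS T₀.2 hA')
    have hjle : (⊤ : (AMon (ULift.{u} ℤ) N').left.Opens) ≤
        (AMon.map (ULift.{u} ℤ) f).left ⁻¹ᵁ ⊤ := fun _ _ => trivial
    have hj : (AMon.map (ULift.{u} ℤ) f).left.appLE ⊤ ⊤ hjle =
        (Spec.map (CommRingCat.ofHom ((MonoidAlgebra.mapDomainBialgHom (ULift.{u} ℤ)
          (AddMonoidHom.toMultiplicative f)).toAlgHom.toRingHom))).appTop :=
      appLE_top_top _ _
    have nat := Scheme.ΓSpecIso_naturality (CommRingCat.ofHom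
      ((MonoidAlgebra.mapDomainBialgHom (ULift.{u} ℤ)
          (AddMonoidHom.toMultiplicative f)).toAlgHom.toRingHom))
    refine MagnetDomRing.injective_of_isPushout_of_retract P1 P2
      ((AMon.map (ULift.{u} ℤ) f).left.appLE ⊤ ⊤ hjle) (r.app W) ?_ ?_ ?_ exists_int
      (((Scheme.ΓSpecIso (CommRingCat.of (MonoidAlgebra (ULift.{u} ℤ)
          (Multiplicative N)))).inv.hom.toAddMonoidHom).comp
        ((retr.{u} f hf).comp
          ((Scheme.ΓSpecIso (CommRingCat.of (MonoidAlgebra (ULift.{u} ℤ)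
            (Multiplicative N')))).hom.hom.toAddMonoidHom))) ?_
    · rw [Scheme.Hom.appLE_comp_appLE]
      exact appLE_congr_hom (Over.w (AMon.map (ULift.{u} ℤ) f)) _ _ _
    · rw [Scheme.Hom.app_eq_appLE, Scheme.Hom.appLE_comp_appLE, Scheme.Hom.appLE_comp_appLE]
      exact appLE_congr_hom G2 _ _ _
    · rw [Scheme.Hom.app_eq_appLE, Scheme.Hom.appLE_comp_appLE]
      exact appLE_congr_hom G1 _ _ _
    · intro x
      have e1 : (Scheme.ΓSpecIso (CommRingCat.of (MonoidAlgebra (ULift.{u} ℤ)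
            (Multiplicative N')))).hom.hom
          (((AMon.map (ULift.{u} ℤ) f).left.appLE ⊤ ⊤ hjle).hom x) =
          (MonoidAlgebra.mapDomainBialgHom (ULift.{u} ℤ)
            (AddMonoidHom.toMultiplicative f)).toAlgHom.toRingHom
            ((Scheme.ΓSpecIso (CommRingCat.of (MonoidAlgebra (ULift.{u} ℤ)
              (Multiplicative N)))).hom.hom x) := by
        rw [hj]
        have := congrArg (fun ψ => ψ.hom x) nat
        simp only [CommRingCat.hom_comp, RingHom.coe_comp, Function.comp_apply,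
          CommRingCat.hom_ofHom] at this
        exact this
      have e2 : (Scheme.ΓSpecIso (CommRingCat.of (MonoidAlgebra (ULift.{u} ℤ)
            (Multiplicative N)))).inv.hom
          ((Scheme.ΓSpecIso (CommRingCat.of (MonoidAlgebra (ULift.{u} ℤ)
            (Multiplicative N)))).hom.hom x) = x := by
        have := congrArg (fun ψ => ψ.hom x)
          (Scheme.ΓSpecIso (CommRingCat.of (MonoidAlgebra (ULift.{u} ℤ)
            (Multiplicative N)))).hom_inv_id
        simp only [CommRingCat.hom_comp, RingHom.coe_comp, Function.comp_apply, CommRingCat.hom_id,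
          RingHom.id_apply] at this
        exact this
      change (Scheme.ΓSpecIso (CommRingCat.of (MonoidAlgebra (ULift.{u} ℤ)
            (Multiplicative N)))).inv.hom (retr.{u} f hf
              ((Scheme.ΓSpecIso (CommRingCat.of (MonoidAlgebra (ULift.{u} ℤ)
                (Multiplicative N')))).hom.hom
                (((AMon.map (ULift.{u} ℤ) f).left.appLE ⊤ ⊤ hjle).hom x))) = x
      rw [e1, retr_map, e2]

include hf in
theorem isSchemeTheoreticallyDominant_whiskerRight :
    IsSchemeTheoreticallyDominant ((AMonS.map S f) ▷ T).left :=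
  ⟨ker_whiskerRight_eq_bot S T f hf⟩

end two

end Groth.Agent.Lib.Helper29.MagnetDom
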