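import Mathlib
import Groth.Prelude.Def_Magnet2
import Groth.Agent.Lib.Helper29.MagnetDom
import Groth.Agent.Lib.Helper29.SchDomEpi
import Groth.Agent.Lib.Helper26.MagnetFactor

/-!
# Attractors: monomorphism properties and the closed-immersion square (S18284, S18285, S18286) (helper29)
-/
set_option autoImplicit false
set_option maxHeartbeats 1600000
set_option linter.style.haveILetI false
universe u
open CategoryTheory CategoryTheory.Limits MonoidalCategory CartesianMonoidalCategory MonObj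
  AlgebraicGeometry Opposite

noncomputable section

namespace Groth.Agent.Lib.Helper29.MagnetAttr

open Magnet

section General
variable {C : Type*} [Category C] [CartesianMonoidalCategory C]

/-- An equivariant map out of `M ⊗ T` is determined on `G ⊗ T` by its restriction to the unit section.
(copied from helper26's S18956) -/
lemma whiskerRight_comp_eq {M G X T : C} [MonObj M] [MonObj G] (i : G ⟶ M) [IsMonHom i]
    (aX : Magnet.MonAct G X) (φ : M ⊗ T ⟶ X)
    (hφ : Magnet.MonAct.IsEquivariant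
      (((Magnet.MonAct.regular M).restrict i).prod (Magnet.MonAct.trivial G T)) aX φ) :
    (i ▷ T) ≫ φ = (G ◁ (lift (toUnit T ≫ η[M]) (𝟙 T) ≫ φ)) ≫ aX.act := by
  rw [Magnet.MonAct.mem_eqvHom_iff] at hφ
  apply Magnet.hom_ext_lift₂
  intro T' g t
  have h1 := hφ T' g 1 t
  rw [Magnet.MonAct.lift_restrict_act, Magnet.MonAct.lift_regular_act, _root_.mul_one] at h1
  rw [lift_whiskerRight_assoc, h1, lift_whiskerLeft_assoc, comp_lift_assoc, Category.comp_id,
    ← Category.assoc t, toUnit_unique (t ≫ toUnit T) (toUnit T'), Hom.one_def]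

end General

/-- `φ : M ⊗ T ⟶ X` factors through the closed immersion `j` as soon as its restriction
along a scheme-theoretically dominant `i ▷ T` does. -/
lemma exists_over_factor {S : Scheme.{u}} {G M X Z : Over S}
    (i : G ⟶ M) (T : Over S) [IsSchemeTheoreticallyDominant (i ▷ T).left]
    (j : Z ⟶ X) [IsClosedImmersion j.left]
    (φ : M ⊗ T ⟶ X) (β : G ⊗ T ⟶ Z) (h : (i ▷ T) ≫ φ = β ≫ j) :
    ∃ ψ : M ⊗ T ⟶ Z, ψ ≫ j = φ := by
  have hbl : (i ▷ T).left ≫ φ.left = β.left ≫ j.left := by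
    rw [← Over.comp_left, ← Over.comp_left, h]
  obtain ⟨g, hg⟩ := Groth.Agent.Lib.Helper26.MagnetFactor.exists_factor_of_isSchemeTheoreticallyDominant
    φ.left j.left (i ▷ T).left β.left hbl
  have hw : g ≫ Z.hom = (M ⊗ T).hom := by
    rw [← Over.w j, ← Category.assoc, hg, Over.w φ]
  refine ⟨Over.homMk g hw, ?_⟩
  ext1
  exact hg

theorem main18284 (S : Scheme.{u}) (M : Type) [AddCommMonoid M]
    (X : Over S) [IsSeparated X.hom] (a : Magnet.MonAct (Magnet.AMonS S M) X) {N N' : AddSubmonoid M}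
    (h : N ≤ N') (T : Over S) :
    Function.Injective (fun φ => (Magnet.attrMap a h).app (op T) φ) := by
  intro φ ψ hφψ
  apply Subtype.ext
  have h1 : (AMonS.map S (AddSubmonoid.inclusion h) ▷ T) ≫ φ.1 =
      (AMonS.map S (AddSubmonoid.inclusion h) ▷ T) ≫ ψ.1 := congrArg Subtype.val hφψ
  exact SchDomEpi.eq_of_comp_eq_of_ker_eq_bot _
    (MagnetDom.ker_whiskerRight_eq_bot S T (AddSubmonoid.inclusion h)
      (AddSubmonoid.inclusion_injective h)) _ _ h1

theorem main18285 (S : Scheme.{u}) (M : Type) [AddCommMonoid M]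
    (X : Over S) [IsSeparated X.hom] (a : Magnet.MonAct (Magnet.AMonS S M) X) (N : AddSubmonoid M)
    (T : Over S) :
    Function.Injective (fun φ => (Magnet.attrToX a N).app (op T) φ) := by
  intro φ ψ hφψ
  apply Subtype.ext
  have h0 : lift (toUnit T ≫ η[AMonS S N]) (𝟙 T) ≫ φ.1 =
      lift (toUnit T ≫ η[AMonS S N]) (𝟙 T) ≫ ψ.1 := hφψ
  have hφ := whiskerRight_comp_eq (AMonS.map S N.subtype) a φ.1 φ.2
  have hψ := whiskerRight_comp_eq (AMonS.map S N.subtype) a ψ.1 ψ.2
  have h1 : (AMonS.map S N.subtype ▷ T) ≫ φ.1 = (AMonS.map S N.subtype ▷ T) ≫ ψ.1 := by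
    rw [hφ, hψ, h0]
  exact SchDomEpi.eq_of_comp_eq_of_ker_eq_bot _
    (MagnetDom.ker_whiskerRight_eq_bot S T N.subtype Subtype.val_injective) _ _ h1

theorem main18286 (S : Scheme.{u}) (M : Type) [AddCommMonoid M]
    (N : AddSubmonoid M) (Y Z : Over S) [IsAffineHom Y.hom] (aY : Magnet.MonAct (Magnet.AMonS S M) Y)
    (aZ : Magnet.MonAct (Magnet.AMonS S M) Z) (f : Z ⟶ Y) [IsClosedImmersion f.left]
    (hf : Magnet.MonAct.IsEquivariant aZ aY f) :
    IsPullback (Magnet.MonAct.eqvHom.postcomp (Magnet.subAct S M N) f hf) (Magnet.attrToX aZ N)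
      (Magnet.attrToX aY N) (yoneda.map f) := by
  haveI : Mono f := Groth.Agent.Lib.Helper26.MagnetFactor.mono_of_isClosedImmersion_left f
  apply IsPullback.of_forall_isPullback_app
  intro T
  rw [Limits.Types.isPullback_iff]
  refine ⟨?_, ?_, ?_⟩
  · refine ConcreteCategory.hom_ext _ _ fun ψ => ?_
    change lift (toUnit (unop T) ≫ η[AMonS S N]) (𝟙 (unop T)) ≫ (ψ.1 ≫ f) =
      (lift (toUnit (unop T) ≫ η[AMonS S N]) (𝟙 (unop T)) ≫ ψ.1) ≫ f
    rw [Category.assoc]
  · rintro ψ₁ ψ₂ ⟨h1, -⟩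
    apply Subtype.ext
    have := congrArg Subtype.val h1
    simp only [Magnet.MonAct.eqvHom.postcomp_app_coe] at this
    exact (cancel_mono f).1 this
  · intro φ z hz
    simp only [Magnet.MonAct.eqvHom.evalAt_app] at hz
    have hz' : lift (toUnit (unop T) ≫ η[AMonS S N]) (𝟙 (unop T)) ≫ φ.1 = z ≫ f := hz
    have hres := whiskerRight_comp_eq (AMonS.map S N.subtype) aY φ.1 φ.2
    rw [hz'] at hres
    have hjz : (AMonS S M ◁ (z ≫ f)) ≫ aY.act = ((AMonS S M ◁ z) ≫ aZ.act) ≫ f := by
      have : aZ.act ≫ f = (AMonS S M ◁ f) ≫ aY.act := hf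
      rw [Category.assoc, this, MonoidalCategory.whiskerLeft_comp, Category.assoc]
    rw [hjz] at hres
    haveI := MagnetDom.isSchemeTheoreticallyDominant_whiskerRight S (unop T) N.subtype
      Subtype.val_injective
    obtain ⟨ψ, hψ⟩ := exists_over_factor (AMonS.map S N.subtype) (unop T) f φ.1
      ((AMonS S M ◁ z) ≫ aZ.act) hres
    have hψeq : Magnet.MonAct.IsEquivariant
        ((Magnet.subAct S M N).prod (Magnet.MonAct.trivial (AMonS S M) (unop T))) aZ ψ := by
      have h2 := φ.2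
      unfold Magnet.MonAct.IsEquivariant at h2 ⊢
      rw [← cancel_mono f, Category.assoc, hψ, h2, Category.assoc]
      have : aZ.act ≫ f = (AMonS S M ◁ f) ≫ aY.act := hf
      rw [this, ← MonoidalCategory.whiskerLeft_comp_assoc, hψ]
    refine ⟨⟨ψ, hψeq⟩, ?_, ?_⟩
    · apply Subtype.ext
      exact hψ
    · simp only [Magnet.MonAct.eqvHom.evalAt_app]
      rw [← cancel_mono f, Category.assoc, hψ]
      exact hz'

end Groth.Agent.Lib.Helper29.MagnetAttr
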