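import Mathlib

/-! Algebra for the formal Białynicki-Birula injectivity: the local ring `O[X]_{(𝔪, X)}` of a local ring `O`,
its `X`-adic separatedness, specialisation `X ↦ a` for `a ∈ 𝔪`, and the local ring `O[X]_{𝔪[X]}`. -/

open Polynomial IsLocalRing

namespace Groth.Agent.Lib.Helper29.MagnetBBAlg

universe u

section PS
variable {O : Type u} [CommRing O]

/-- if `v(0)` is a unit and `X^n ∣ v * f` then `X^n ∣ f`. -/
theorem X_pow_dvd_of_mul (v f : O[X]) (hv : IsUnit (v.coeff 0)) (n : ℕ) (h : X ^ n ∣ v * f) :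
    X ^ n ∣ f := by
  induction n with
  | zero => simp
  | succ n ih =>
    have h' : X ^ n ∣ v * f := dvd_trans (pow_dvd_pow X (Nat.le_succ n)) h
    obtain ⟨f', rfl⟩ := ih h'
    have e : v * (X ^ n * f') = X ^ n * (v * f') := by ring
    rw [e] at h
    have hc : (X ^ n * (v * f')).coeff n = 0 :=
      (Polynomial.X_pow_dvd_iff.mp h) n (Nat.lt_succ_self n)
    have hc' : (X ^ n * (v * f')).coeff (0 + n) = (v * f').coeff 0 :=
      Polynomial.coeff_X_pow_mul _ _ _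
    rw [zero_add] at hc'
    rw [hc', Polynomial.mul_coeff_zero] at hc
    have hf0 : f'.coeff 0 = 0 := by
      obtain ⟨w, hw⟩ := hv.exists_left_inv
      calc f'.coeff 0 = w * (v.coeff 0 * f'.coeff 0) := by rw [← mul_assoc, hw, one_mul]
        _ = 0 := by rw [hc, mul_zero]
    obtain ⟨f'', rfl⟩ := Polynomial.X_dvd_iff.mpr hf0
    exact ⟨f'', by rw [pow_succ]; ring⟩

theorem eq_zero_of_forall_X_pow_dvd (f : O[X]) (h : ∀ n : ℕ, X ^ n ∣ f) : f = 0 := by
  ext d
  rw [coeff_zero]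
  exact (Polynomial.X_pow_dvd_iff.mp (h (d + 1))) d (Nat.lt_succ_self d)

end PS

section Loc
variable (O : Type u) [CommRing O] [IsLocalRing O]

/-- the prime `(𝔪, X)` of `O[X]` -/
noncomputable def P₀ : Ideal O[X] := Ideal.comap (constantCoeff : O[X] →+* O) (maximalIdeal O)

instance : (P₀ O).IsPrime := by unfold P₀; infer_instance

theorem mem_P₀ {f : O[X]} : f ∈ P₀ O ↔ f.coeff 0 ∈ maximalIdeal O := Iff.rfl

/-- `O[X]_{(𝔪, X)}` -/
abbrev O₁ : Type u := Localization.AtPrime (P₀ O)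

theorem isUnit_coeff_zero_of_not_mem {v : O[X]} (hv : v ∉ P₀ O) : IsUnit (v.coeff 0) :=
  notMem_maximalIdeal.mp (fun h => hv ((mem_P₀ O).mpr h))

/-- `s := X` in `O₁`. -/
noncomputable def s₁ : O₁ O := algebraMap O[X] (O₁ O) X

theorem s₁_mem : s₁ O ∈ maximalIdeal (O₁ O) := by
  rw [s₁, IsLocalization.AtPrime.to_map_mem_maximal_iff (O₁ O) (P₀ O), mem_P₀, coeff_X_zero]
  exact zero_mem _

theorem eq_zero_of_forall_pow_dvd (z : O₁ O) (h : ∀ n : ℕ, (s₁ O) ^ n ∣ z) : z = 0 := by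
  obtain ⟨f, g, rfl⟩ := IsLocalization.exists_mk'_eq (P₀ O).primeCompl z
  have hf : f = 0 := by
    apply eq_zero_of_forall_X_pow_dvd
    intro n
    obtain ⟨y, hy⟩ := h n
    obtain ⟨q, g', rfl⟩ := IsLocalization.exists_mk'_eq (P₀ O).primeCompl y
    have e1 : algebraMap O[X] (O₁ O) (f * (g' : O[X])) = algebraMap O[X] (O₁ O) (X ^ n * q * (g : O[X])) := by
      calc algebraMap O[X] (O₁ O) (f * (g' : O[X]))
          = algebraMap O[X] (O₁ O) f * algebraMap O[X] (O₁ O) g' := map_mul _ _ _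
        _ = (IsLocalization.mk' (O₁ O) f g * algebraMap O[X] (O₁ O) g) *
              algebraMap O[X] (O₁ O) g' := by rw [IsLocalization.mk'_spec]
        _ = (s₁ O ^ n * IsLocalization.mk' (O₁ O) q g' * algebraMap O[X] (O₁ O) g) *
              algebraMap O[X] (O₁ O) g' := by rw [hy]
        _ = s₁ O ^ n * (IsLocalization.mk' (O₁ O) q g' * algebraMap O[X] (O₁ O) g') *
              algebraMap O[X] (O₁ O) g := by ring
        _ = s₁ O ^ n * algebraMap O[X] (O₁ O) q * algebraMap O[X] (O₁ O) g := by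
              rw [IsLocalization.mk'_spec]
        _ = algebraMap O[X] (O₁ O) (X ^ n * q * (g : O[X])) := by
              rw [map_mul, map_mul, map_pow]; rfl
    obtain ⟨c, hc⟩ := (IsLocalization.eq_iff_exists (P₀ O).primeCompl (O₁ O)).mp e1
    have hv : ((c : O[X]) * (g' : O[X])) ∉ P₀ O := (P₀ O).primeCompl.mul_mem c.2 g'.2
    apply X_pow_dvd_of_mul ((c : O[X]) * (g' : O[X])) f (isUnit_coeff_zero_of_not_mem O hv) n
    refine ⟨(c : O[X]) * q * (g : O[X]), ?_⟩
    calc (c : O[X]) * (g' : O[X]) * f = (c : O[X]) * (f * (g' : O[X])) := by ring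
      _ = (c : O[X]) * (X ^ n * q * (g : O[X])) := hc
      _ = X ^ n * ((c : O[X]) * q * (g : O[X])) := by ring
  rw [hf, IsLocalization.mk'_zero]

theorem isUnit_eval_of_not_mem {a : O} (ha : a ∈ maximalIdeal O) {v : O[X]} (hv : v ∉ P₀ O) :
    IsUnit (v.eval a) := by
  rw [← notMem_maximalIdeal]
  intro h
  apply hv
  rw [mem_P₀, coeff_zero_eq_eval_zero]
  obtain ⟨c, hc⟩ := Polynomial.sub_dvd_eval_sub a 0 v
  have e : v.eval 0 = v.eval a - (a - 0) * c := by rw [← hc]; ring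
  rw [e]
  exact Ideal.sub_mem _ h (Ideal.mul_mem_right _ _ (by simpa using ha))

/-- specialisation `X ↦ a` for `a ∈ 𝔪`. -/
noncomputable def σ (a : O) (ha : a ∈ maximalIdeal O) : O₁ O →+* O :=
  IsLocalization.lift (M := (P₀ O).primeCompl) (g := Polynomial.evalRingHom a)
    (fun y => by rw [Polynomial.coe_evalRingHom]; exact isUnit_eval_of_not_mem O ha y.2)

theorem σ_algebraMap (a : O) (ha : a ∈ maximalIdeal O) (f : O[X]) :
    σ O a ha (algebraMap O[X] (O₁ O) f) = f.eval a :=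
  IsLocalization.lift_eq _ _

/-- `O → O₁`. -/
noncomputable def θ₁ : O →+* O₁ O := (algebraMap O[X] (O₁ O)).comp C

theorem σ_θ₁ (a : O) (ha : a ∈ maximalIdeal O) (c : O) : σ O a ha (θ₁ O c) = c := by
  rw [θ₁, RingHom.comp_apply, σ_algebraMap, eval_C]

theorem σ_s₁ (a : O) (ha : a ∈ maximalIdeal O) : σ O a ha (s₁ O) = a := by
  rw [s₁, σ_algebraMap, eval_X]

/-- the prime `𝔪[X]` of `O[X]`. -/
noncomputable def Q₀ : Ideal O[X] := Ideal.map (C : O →+* O[X]) (maximalIdeal O)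

instance : (Q₀ O).IsPrime := by unfold Q₀; infer_instance

theorem Q₀_le_P₀ : Q₀ O ≤ P₀ O := by
  intro f hf
  rw [mem_P₀]
  exact (Ideal.mem_map_C_iff.mp hf) 0

/-- `O[X]_{𝔪[X]}` -/
abbrev O' : Type u := Localization.AtPrime (Q₀ O)

/-- `O₁ → O'`. -/
noncomputable def τ : O₁ O →+* O' O :=
  IsLocalization.lift (M := (P₀ O).primeCompl) (g := algebraMap O[X] (O' O))
    (fun y => IsLocalization.map_units (O' O)
      (⟨y.1, fun h => y.2 (Q₀_le_P₀ O h)⟩ : (Q₀ O).primeCompl))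

theorem τ_algebraMap (f : O[X]) : τ O (algebraMap O[X] (O₁ O) f) = algebraMap O[X] (O' O) f :=
  IsLocalization.lift_eq _ _

/-- `O → O'`. -/
noncomputable def ι' : O →+* O' O := (algebraMap O[X] (O' O)).comp C

theorem τ_θ₁ (c : O) : τ O (θ₁ O c) = ι' O c := by
  rw [θ₁, RingHom.comp_apply, τ_algebraMap]; rfl

theorem X_not_mem_Q₀ : (X : O[X]) ∉ Q₀ O := by
  intro h
  have h1 := (Ideal.mem_map_C_iff.mp h) 1
  rw [coeff_X_one] at h1
  exact (Ideal.ne_top_iff_one _).mp (Ideal.IsMaximal.ne_top inferInstance) h1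

theorem isUnit_τ_s₁ : IsUnit (τ O (s₁ O)) := by
  rw [s₁, τ_algebraMap]
  exact IsLocalization.map_units (O' O) (⟨X, X_not_mem_Q₀ O⟩ : (Q₀ O).primeCompl)

instance isLocalHom_ι' : IsLocalHom (ι' O) := by
  constructor
  intro c hc
  by_contra hcu
  have hm : c ∈ maximalIdeal O := (mem_maximalIdeal c).mpr hcu
  have h1 : (C c : O[X]) ∈ Q₀ O := Ideal.mem_map_of_mem _ hm
  have h2 : algebraMap O[X] (O' O) (C c) ∈ maximalIdeal (O' O) :=
    (IsLocalization.AtPrime.to_map_mem_maximal_iff (O' O) (Q₀ O) (C c)).mpr h1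
  exact (mem_maximalIdeal _).mp h2 hc

theorem ι'_injective : Function.Injective (ι' O) := by
  rw [injective_iff_map_eq_zero]
  intro c hc
  obtain ⟨m, hm⟩ := (IsLocalization.map_eq_zero_iff (Q₀ O).primeCompl (O' O) (C c)).mp hc
  have hm' : ¬ ∀ n : ℕ, (m : O[X]).coeff n ∈ maximalIdeal O := fun h =>
    m.2 (Ideal.mem_map_C_iff.mpr h)
  push Not at hm'
  obtain ⟨n, hn⟩ := hm'
  have hu : IsUnit ((m : O[X]).coeff n) := notMem_maximalIdeal.mp hn
  have h0 : (m : O[X]).coeff n * c = 0 := by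
    rw [← coeff_mul_C, hm, coeff_zero]
  exact hu.mul_right_eq_zero.mp h0

end Loc

end Groth.Agent.Lib.Helper29.MagnetBBAlg
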