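import Mathlib

/-! Morphisms of schemes are determined on the local rings of the source; morphisms out of the spectrum of a local ring are
determined by jointly injective families of base changes (given the image of the closed point). -/

open CategoryTheory AlgebraicGeometry IsLocalRing

namespace Groth.Agent.Lib.Helper29.MagnetBBGeom

universe u

theorem appTop_germ_eq {P X : Scheme.{u}} (g₁ g₂ : P ⟶ X) (p : P)
    (h : P.fromSpecStalk p ≫ g₁ = P.fromSpecStalk p ≫ g₂) :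
    g₁.appTop ≫ P.presheaf.germ ⊤ p trivial = g₂.appTop ≫ P.presheaf.germ ⊤ p trivial := by
  apply Spec.map_injective
  rw [Spec.map_comp, Spec.map_comp, ← Scheme.fromSpecStalk_toSpecΓ, Category.assoc, Category.assoc,
    ← Scheme.toSpecΓ_naturality, ← Scheme.toSpecΓ_naturality, reassoc_of% h]

theorem hom_ext_of_fromSpecStalk_of_isAffine {P X : Scheme.{u}} [IsAffine X] (g₁ g₂ : P ⟶ X)
    (h : ∀ p : P, P.fromSpecStalk p ≫ g₁ = P.fromSpecStalk p ≫ g₂) : g₁ = g₂ := by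
  apply ext_of_isAffine
  ext β
  refine TopCat.Presheaf.section_ext P.sheaf ⊤ _ _ fun p hp => ?_
  exact congrArg (fun ψ => ψ.hom β) (appTop_germ_eq g₁ g₂ p (h p))

/-- Two morphisms of schemes that agree on all local rings of the source are equal. -/
theorem hom_ext_of_fromSpecStalk {P X : Scheme.{u}} (g₁ g₂ : P ⟶ X)
    (h : ∀ p : P, P.fromSpecStalk p ≫ g₁ = P.fromSpecStalk p ≫ g₂) : g₁ = g₂ := by
  have hbase : ∀ p : P, g₁ p = g₂ p := by
    intro p
    have h1 := congrArg (fun f : Spec (P.presheaf.stalk p) ⟶ X =>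
      f (closedPoint (P.presheaf.stalk p))) (h p)
    simp only [Scheme.Hom.comp_apply, Scheme.fromSpecStalk_closedPoint] at h1
    exact h1
  refine Scheme.hom_ext_of_forall _ _ fun p => ?_
  obtain ⟨_, ⟨U : X.Opens, hU, rfl⟩, hxU, -⟩ :=
    X.isBasis_affineOpens.exists_subset_of_mem_open (Set.mem_univ (g₁ p)) isOpen_univ
  have hxU2 : g₂ p ∈ U := hbase p ▸ hxU
  refine ⟨g₁ ⁻¹ᵁ U ⊓ g₂ ⁻¹ᵁ U, ⟨hxU, hxU2⟩, ?_⟩
  have hr₁ : Set.range ((g₁ ⁻¹ᵁ U ⊓ g₂ ⁻¹ᵁ U).ι ≫ g₁) ⊆ Set.range U.ι := by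
    rintro _ ⟨w, rfl⟩
    rw [Scheme.Opens.range_ι]
    exact w.2.1
  have hr₂ : Set.range ((g₁ ⁻¹ᵁ U ⊓ g₂ ⁻¹ᵁ U).ι ≫ g₂) ⊆ Set.range U.ι := by
    rintro _ ⟨w, rfl⟩
    rw [Scheme.Opens.range_ι]
    exact w.2.2
  haveI : IsAffine U.toScheme := hU
  have e₁ : IsOpenImmersion.lift U.ι ((g₁ ⁻¹ᵁ U ⊓ g₂ ⁻¹ᵁ U).ι ≫ g₁) hr₁ ≫ U.ι =
      (g₁ ⁻¹ᵁ U ⊓ g₂ ⁻¹ᵁ U).ι ≫ g₁ := IsOpenImmersion.lift_fac _ _ _
  have e₂ : IsOpenImmersion.lift U.ι ((g₁ ⁻¹ᵁ U ⊓ g₂ ⁻¹ᵁ U).ι ≫ g₂) hr₂ ≫ U.ι =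
      (g₁ ⁻¹ᵁ U ⊓ g₂ ⁻¹ᵁ U).ι ≫ g₂ := IsOpenImmersion.lift_fac _ _ _
  rw [← e₁, ← e₂]
  congr 1
  apply hom_ext_of_fromSpecStalk_of_isAffine
  intro w
  rw [← cancel_mono U.ι, Category.assoc, Category.assoc, e₁, e₂,
    ← Scheme.SpecMap_stalkMap_fromSpecStalk_assoc, ← Scheme.SpecMap_stalkMap_fromSpecStalk_assoc, h]

/-- Morphisms out of the spectrum of a local ring with the same image of the closed point are equal as soon as they agree after a
jointly injective family of base changes. -/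
theorem hom_ext_of_local {R : CommRingCat.{u}} [IsLocalRing R] {X : Scheme.{u}} (x₁ x₂ : Spec R ⟶ X)
    (hcl : x₁ (closedPoint R) = x₂ (closedPoint R))
    {J : Type} (Rj : J → CommRingCat.{u}) (φ : ∀ j, R ⟶ Rj j)
    (hinj : ∀ r r' : R, (∀ j, (φ j).hom r = (φ j).hom r') → r = r')
    (hagree : ∀ j, Spec.map (φ j) ≫ x₁ = Spec.map (φ j) ≫ x₂) : x₁ = x₂ := by
  have key : ∀ (y : X) (x' : Spec R ⟶ X), x' (closedPoint R) = y →
      ∃ ψ : X.presheaf.stalk y ⟶ R, x' = Spec.map ψ ≫ X.fromSpecStalk y := by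
    intro y x' hy
    subst hy
    exact ⟨Scheme.stalkClosedPointTo x', (Scheme.Spec_stalkClosedPointTo_fromSpecStalk x').symm⟩
  obtain ⟨y, hy₁, hy₂⟩ : ∃ y, x₁ (closedPoint R) = y ∧ x₂ (closedPoint R) = y := ⟨_, rfl, hcl.symm⟩
  obtain ⟨ψ₁, rfl⟩ := key y x₁ hy₁
  obtain ⟨ψ₂, rfl⟩ := key y x₂ hy₂
  have hψ : ψ₁ = ψ₂ := by
    ext r
    apply hinj
    intro j
    have h3 := hagree j
    rw [← Category.assoc, ← Category.assoc, cancel_mono, ← Spec.map_comp, ← Spec.map_comp] at h3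
    have h4 := Spec.map_injective h3
    exact congrArg (fun θ => θ.hom r) h4
  rw [hψ]

theorem hom_ext_of_local_injective {R R' : CommRingCat.{u}} [IsLocalRing R] [IsLocalRing R']
    {X : Scheme.{u}} (φ : R ⟶ R') [IsLocalHom φ.hom] (hφ : Function.Injective φ.hom)
    (x₁ x₂ : Spec R ⟶ X) (h : Spec.map φ ≫ x₁ = Spec.map φ ≫ x₂) : x₁ = x₂ := by
  refine hom_ext_of_local x₁ x₂ ?_ (fun _ : Unit => R') (fun _ => φ)
    (fun r r' hr => hφ (hr ())) (fun _ => h)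
  have h1 := congrArg (fun f : Spec R' ⟶ X => f (closedPoint R')) h
  simp only [Scheme.Hom.comp_apply, Spec_closedPoint] at h1
  exact h1

theorem hom_ext_of_local_adic {R : CommRingCat.{u}} [IsLocalRing R] {X : Scheme.{u}} (s : R)
    (hs : s ∈ maximalIdeal R) (hsep : ∀ z : R, (∀ n : ℕ, s ^ n ∣ z) → z = 0)
    (x₁ x₂ : Spec R ⟶ X)
    (h : ∀ n : ℕ,
      Spec.map (CommRingCat.ofHom (Ideal.Quotient.mk (Ideal.span {s ^ (n + 1)}))) ≫ x₁ =
      Spec.map (CommRingCat.ofHom (Ideal.Quotient.mk (Ideal.span {s ^ (n + 1)}))) ≫ x₂) :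
    x₁ = x₂ := by
  refine hom_ext_of_local x₁ x₂ ?_ (fun n : ℕ => CommRingCat.of (R ⧸ Ideal.span {s ^ (n + 1)}))
    (fun n => CommRingCat.ofHom (Ideal.Quotient.mk _)) ?_ h
  · have hker : ∀ a ∈ Ideal.span {s ^ (0 + 1)}, residue R a = 0 := by
      intro a ha
      rw [residue_eq_zero_iff]
      have hle : Ideal.span {s ^ (0 + 1)} ≤ maximalIdeal R := by
        rw [Ideal.span_singleton_le_iff_mem]
        simpa using hs
      exact hle ha
    let κ : CommRingCat.{u} := CommRingCat.of (ResidueField R)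
    let ρ : R ⟶ κ := CommRingCat.ofHom (residue R)
    haveI : IsLocalHom ρ.hom := by
      change IsLocalHom (residue R)
      infer_instance
    let fac : CommRingCat.of (R ⧸ Ideal.span {s ^ (0 + 1)}) ⟶ κ :=
      CommRingCat.ofHom (Ideal.Quotient.lift (Ideal.span {s ^ (0 + 1)}) (residue R) hker)
    have hρ : ρ = CommRingCat.ofHom (Ideal.Quotient.mk (Ideal.span {s ^ (0 + 1)})) ≫ fac := by
      ext r
      exact (Ideal.Quotient.lift_mk (Ideal.span {s ^ (0 + 1)}) (residue R) hker).symm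
    have h1 : Spec.map ρ ≫ x₁ = Spec.map ρ ≫ x₂ := by
      rw [hρ, Spec.map_comp, Category.assoc, Category.assoc, h 0]
    have h2 := congrArg (fun f : Spec κ ⟶ X => f (closedPoint κ)) h1
    simp only [Scheme.Hom.comp_apply, Spec_closedPoint] at h2
    exact h2
  · intro r r' hr
    have h0 : r - r' = 0 := by
      apply hsep
      intro n
      cases n with
      | zero => simp
      | succ n =>
        have h1 := hr n
        change Ideal.Quotient.mk (Ideal.span {s ^ (n + 1)}) r =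
          Ideal.Quotient.mk (Ideal.span {s ^ (n + 1)}) r' at h1
        rw [Ideal.Quotient.eq, Ideal.mem_span_singleton] at h1
        exact h1
    exact sub_eq_zero.mp h0

end Groth.Agent.Lib.Helper29.MagnetBBGeom
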