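import Mathlib
import Groth.Prelude.Def_Magnet3
import Groth.Agent.Lib.Helper29.MagnetDom
import Groth.Agent.Lib.Helper29.SchDomEpi

/-!
# `attrComap` is an isomorphism for `M ↪ Z` with `Y ⊆ f(M)` and `X` separated (S18288) (helper29)
-/
set_option autoImplicit false
set_option maxHeartbeats 1600000
set_option linter.style.haveILetI false
universe u
open CategoryTheory CategoryTheory.Limits MonoidalCategory CartesianMonoidalCategory MonObj
  AlgebraicGeometry Opposite

noncomputable section

namespace Groth.Agent.Lib.Helper29.MagnetComap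

open Magnet

section General
variable {C : Type*} [Category C] [CartesianMonoidalCategory C]

lemma prod_restrict_act {A A' B T : C} [MonObj A] [MonObj A'] (fS : A' ⟶ A) [IsMonHom fS]
    (ρ : MonAct A B) :
    ((ρ.restrict fS).prod (MonAct.trivial A' T)).act =
      (fS ▷ (B ⊗ T)) ≫ (ρ.prod (MonAct.trivial A T)).act := by
  apply hom_ext_lift₂
  intro T' g z
  rw [← lift_comp_fst_snd z]
  rw [MonAct.lift_prod_act, lift_whiskerRight_assoc, MonAct.lift_prod_act,
    MonAct.lift_restrict_act, MonAct.lift_trivial_act, MonAct.lift_trivial_act]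

end General

lemma isEquivariant_of_restrict {S : Scheme.{u}} {A A' B X T : Over S} [MonObj A] [MonObj A']
    (fS : A' ⟶ A) [IsMonHom fS] [IsSeparated X.hom] (hdom : (fS ▷ (B ⊗ T)).left.ker = ⊥)
    (ρ : MonAct A B) (a : MonAct A X) (φ : B ⊗ T ⟶ X)
    (h : MonAct.IsEquivariant ((ρ.restrict fS).prod (MonAct.trivial A' T)) (a.restrict fS) φ) :
    MonAct.IsEquivariant (ρ.prod (MonAct.trivial A T)) a φ := by
  unfold MonAct.IsEquivariant at h ⊢
  apply SchDomEpi.eq_of_comp_eq_of_ker_eq_bot (fS ▷ (B ⊗ T)) hdom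
  rw [← Category.assoc, ← prod_restrict_act, h, MonAct.restrict_act, whisker_exchange_assoc]

theorem AMon_map_id (R : Type u) [CommRing R] (N : Type) [AddCommMonoid N] :
    AMon.map R (AddMonoidHom.id N) = 𝟙 (AMon R N) := by
  ext : 1
  rw [AMon.map_left]
  have h : (MonoidAlgebra.mapDomainBialgHom R
      (AddMonoidHom.toMultiplicative (AddMonoidHom.id N))) = BialgHom.id R _ := by
    have : AddMonoidHom.toMultiplicative (AddMonoidHom.id N) =
        MonoidHom.id (Multiplicative N) := rfl
    rw [this, MonoidAlgebra.mapDomainBialgHom_id]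
  rw [h]
  exact Spec.map_id _

theorem AMonS_map_id (S : Scheme.{u}) (N : Type) [AddCommMonoid N] :
    AMonS.map S (AddMonoidHom.id N) = 𝟙 (AMonS S N) := by
  rw [AMonS.map, AMon_map_id, CategoryTheory.Functor.map_id]

theorem main18288 (S : Scheme.{u}) (M Z : Type) [AddCommMonoid M]
    [AddCommGroup Z] (f : M →+ Z) (hf : Function.Injective f) (Y : AddSubmonoid Z)
    (hY : Y ≤ AddMonoidHom.mrange f) (X : Over S) [IsSeparated X.hom]
    (a : Magnet.MonAct (Magnet.AMonS S M) X) :
    IsIso (Magnet.attrComap a f Y) := by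
  set g : ↥(Y.comap f) →+ ↥Y := (f.comp (Y.comap f).subtype).codRestrict Y (fun x => x.2) with hgdef
  have hginj : Function.Injective g := by
    intro x y hxy
    apply Subtype.ext
    apply hf
    exact congrArg Subtype.val hxy
  have hgsurj : Function.Surjective g := by
    rintro ⟨y, hy⟩
    obtain ⟨m, rfl⟩ := hY hy
    exact ⟨⟨m, hy⟩, rfl⟩
  let e : ↥(Y.comap f) ≃+ ↥Y := AddEquiv.ofBijective g ⟨hginj, hgsurj⟩
  have he_apply : ∀ x, e x = g x := fun x => rfl
  -- the inverse map of monoid schemes
  set e' : AMonS S ↥(Y.comap f) ⟶ AMonS S ↥Y := AMonS.map S e.symm.toAddMonoidHom with he'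
  have F1 : AMonS.map S g ≫ e' = 𝟙 _ := by
    rw [he', ← AMonS.map_comp]
    have : g.comp e.symm.toAddMonoidHom = AddMonoidHom.id ↥Y := by
      ext y
      have := e.apply_symm_apply y
      exact congrArg Subtype.val this
    rw [this, AMonS_map_id]
  have hequiv : MonAct.IsEquivariant ((subAct S M (Y.comap f)).restrict (AMonS.map S f))
      (subAct S Z Y) e' := by
    rw [subAct, subAct, MonAct.restrict_restrict]
    refine MonAct.isEquivariant_restrict_regular _ _ _ ?_
    rw [he', ← AMonS.map_comp, ← AMonS.map_comp]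
    congr 1
    ext y
    have := e.apply_symm_apply y
    exact congrArg Subtype.val this
  haveI : ∀ T, IsIso ((attrComap a f Y).app T) := fun T => by
    rw [isIso_iff_bijective]
    refine ⟨?_, ?_⟩
    · intro φ₁ φ₂ h
      apply Subtype.ext
      have h1 := congrArg Subtype.val h
      rw [attrComap_app_coe, attrComap_app_coe] at h1
      exact SchDomEpi.eq_of_comp_eq_of_ker_eq_bot _
        (MagnetDom.ker_whiskerRight_eq_bot S (unop T) g hginj) _ _ h1
    · intro ψ
      have h2 := ((MonAct.eqvHom.precomp (a.restrict (AMonS.map S f)) e' hequiv).app T ψ).2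
      have h3 : MonAct.IsEquivariant
          ((subAct S M (Y.comap f)).prod (MonAct.trivial (AMonS S M) (unop T))) a
          ((e' ▷ unop T) ≫ ψ.1) :=
        isEquivariant_of_restrict (AMonS.map S f)
          (MagnetDom.ker_whiskerRight_eq_bot S (AMonS S ↥(Y.comap f) ⊗ unop T) f hf)
          (subAct S M (Y.comap f)) a _ h2
      refine ⟨⟨(e' ▷ unop T) ≫ ψ.1, h3⟩, ?_⟩
      apply Subtype.ext
      rw [attrComap_app_coe]
      change (AMonS.map S g ▷ unop T) ≫ (e' ▷ unop T) ≫ ψ.1 = ψ.1
      rw [← comp_whiskerRight_assoc, F1, id_whiskerRight, Category.id_comp]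
  exact NatIso.isIso_of_isIso_app _

end Groth.Agent.Lib.Helper29.MagnetComap
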