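import Mathlib

/-!
# Monoid algebras of a subgroup: freeness of `R[M]` over `R[Z]` and factorisation through `R[M ⧸ Z]`
(helper29, for S18289)
-/
set_option autoImplicit false
set_option maxHeartbeats 1600000
set_option linter.style.haveILetI false
universe u

noncomputable section

namespace Groth.Agent.Lib.Helper29.MagnetFixAlg

variable (R : Type u) [CommRing R]

/-- the ring map `R[N] → R[N']` of a monoid map, in the spelling of `Magnet.AMon.map_left` -/
abbrev rh {N N' : Type} [AddCommMonoid N] [AddCommMonoid N'] (f : N →+ N') :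
    MonoidAlgebra R (Multiplicative N) →+* MonoidAlgebra R (Multiplicative N') :=
  (MonoidAlgebra.mapDomainBialgHom R (AddMonoidHom.toMultiplicative f)).toAlgHom.toRingHom

theorem rh_single {N N' : Type} [AddCommMonoid N] [AddCommMonoid N'] (f : N →+ N')
    (n : N) (r : R) :
    rh R f (MonoidAlgebra.single (Multiplicative.ofAdd n) r) =
      MonoidAlgebra.single (Multiplicative.ofAdd (f n)) r := by
  change MonoidAlgebra.mapDomainBialgHom R (AddMonoidHom.toMultiplicative f) _ = _
  rw [MonoidAlgebra.mapDomainBialgHom_single]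
  rfl

section Free
variable {M : Type} [AddCommGroup M] (Z : AddSubgroup M)

/-- a set-theoretic section of `M → M ⧸ Z` -/
def sec (c : M ⧸ Z) : M := Quotient.out c

theorem mk_sec (c : M ⧸ Z) : (QuotientAddGroup.mk (sec Z c) : M ⧸ Z) = c :=
  QuotientAddGroup.out_eq' c

theorem sub_sec_mem (m : M) : m - sec Z (QuotientAddGroup.mk m) ∈ Z := by
  rw [← QuotientAddGroup.eq_zero_iff, QuotientAddGroup.mk_sub, mk_sec, sub_self]

/-- the `Z`-component of `m` -/
def dcomp (m : M) : ↥Z.toAddSubmonoid := ⟨m - sec Z (QuotientAddGroup.mk m), sub_sec_mem Z m⟩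

/-- `R[M] →+ (M ⧸ Z →₀ R[Z])` -/
def psi : MonoidAlgebra R (Multiplicative M) →+
    (M ⧸ Z →₀ MonoidAlgebra R (Multiplicative ↥Z.toAddSubmonoid)) :=
  (Finsupp.liftAddHom (fun m : Multiplicative M =>
      (Finsupp.singleAddHom (QuotientAddGroup.mk (Multiplicative.toAdd m) : M ⧸ Z)).comp
        (MonoidAlgebra.singleAddHom
          (Multiplicative.ofAdd (dcomp Z (Multiplicative.toAdd m)))))).comp
    MonoidAlgebra.coeffAddEquiv.toAddMonoidHom

theorem psi_single (m : M) (r : R) :
    psi R Z (MonoidAlgebra.single (Multiplicative.ofAdd m) r) =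
      Finsupp.single (QuotientAddGroup.mk m : M ⧸ Z)
        (MonoidAlgebra.single (Multiplicative.ofAdd (dcomp Z m)) r) := by
  change Finsupp.liftAddHom _ (MonoidAlgebra.single (Multiplicative.ofAdd m) r).coeff = _
  rw [MonoidAlgebra.coeff_single, Finsupp.liftAddHom_apply_single]
  rfl

theorem free : letI := (rh R Z.toAddSubmonoid.subtype).toAlgebra
    Module.Free (MonoidAlgebra R (Multiplicative ↥Z.toAddSubmonoid))
      (MonoidAlgebra R (Multiplicative M)) := by
  letI := (rh R Z.toAddSubmonoid.subtype).toAlgebra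
  let Φ := Finsupp.linearCombination (MonoidAlgebra R (Multiplicative ↥Z.toAddSubmonoid))
      (fun c : M ⧸ Z => (MonoidAlgebra.single (Multiplicative.ofAdd (sec Z c)) (1 : R) :
        MonoidAlgebra R (Multiplicative M)))
  have hΦ : ∀ (c : M ⧸ Z) (p : ↥Z.toAddSubmonoid) (r : R),
      Φ (Finsupp.single c (MonoidAlgebra.single (Multiplicative.ofAdd p) r)) =
        MonoidAlgebra.single (Multiplicative.ofAdd ((p : M) + sec Z c)) r := by
    intro c p r
    rw [Finsupp.linearCombination_single, Algebra.smul_def, RingHom.algebraMap_toAlgebra,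
      rh_single, MonoidAlgebra.single_mul_single, mul_one]
    rfl
  have h1 : ∀ y, Φ (psi R Z y) = y := by
    intro y
    have key : (Φ.toAddMonoidHom.comp (psi R Z)) = AddMonoidHom.id _ := by
      apply MonoidAlgebra.addMonoidHom_ext
      intro m r
      obtain ⟨m, rfl⟩ := Multiplicative.ofAdd.surjective m
      simp only [AddMonoidHom.comp_apply, AddMonoidHom.id_apply, LinearMap.toAddMonoidHom_coe]
      rw [psi_single, hΦ]
      rw [show ((dcomp Z m : M) + sec Z (QuotientAddGroup.mk m) : M) = m from sub_add_cancel _ _]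
    exact DFunLike.congr_fun key y
  have h2 : ∀ x, psi R Z (Φ x) = x := by
    intro x
    have key : ((psi R Z).comp Φ.toAddMonoidHom) = AddMonoidHom.id _ := by
      apply Finsupp.addHom_ext
      intro c a
      have key2 : (((psi R Z).comp Φ.toAddMonoidHom).comp (Finsupp.singleAddHom c)) =
          Finsupp.singleAddHom c := by
        apply MonoidAlgebra.addMonoidHom_ext
        intro p r
        obtain ⟨p, rfl⟩ := Multiplicative.ofAdd.surjective p
        simp only [AddMonoidHom.comp_apply, Finsupp.singleAddHom_apply,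
          LinearMap.toAddMonoidHom_coe]
        rw [hΦ, psi_single]
        have e1 : (QuotientAddGroup.mk ((p : M) + sec Z c) : M ⧸ Z) = c := by
          rw [QuotientAddGroup.mk_add, mk_sec, (QuotientAddGroup.eq_zero_iff _).2 p.2, zero_add]
        have e2 : dcomp Z ((p : M) + sec Z c) = p := by
          apply Subtype.ext
          change (p : M) + sec Z c - sec Z (QuotientAddGroup.mk ((p : M) + sec Z c)) = p
          rw [e1, add_sub_cancel_right]
        rw [e1, e2]
      exact DFunLike.congr_fun key2 a
    exact DFunLike.congr_fun key x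
  exact Module.Free.of_equiv (LinearEquiv.ofBijective Φ
    ⟨Function.LeftInverse.injective h2, Function.RightInverse.surjective h1⟩)

end Free

section Factor

theorem exists_factor {M : Type} [AddCommGroup M] (Z : AddSubgroup M) {Γ' : Type u} [CommRing Γ']
    (χ : MonoidAlgebra R (Multiplicative M) →+* Γ')
    (h : χ.comp (rh R Z.toAddSubmonoid.subtype) =
      χ.comp (rh R (0 : ↥Z.toAddSubmonoid →+ M))) :
    ∃ χ' : MonoidAlgebra R (Multiplicative (M ⧸ Z)) →+* Γ',
      χ'.comp (rh R (QuotientAddGroup.mk' Z)) = χ := by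
  let c : Multiplicative M →* Γ' :=
    (χ : MonoidAlgebra R (Multiplicative M) →* Γ').comp (MonoidAlgebra.of R (Multiplicative M))
  let cA : M →+ Additive Γ' := MonoidHom.toAdditiveRight c
  have hc : ∀ m : M, c (Multiplicative.ofAdd m) =
      χ (MonoidAlgebra.single (Multiplicative.ofAdd m) 1) := fun m => rfl
  have hone : χ (MonoidAlgebra.single (Multiplicative.ofAdd (0 : M)) 1) = 1 := by
    rw [ofAdd_zero, ← MonoidAlgebra.one_def, map_one]
  have hZ : Z ≤ cA.ker := by
    intro z hz
    rw [AddMonoidHom.mem_ker]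
    have e := congrArg (fun ψ => ψ (MonoidAlgebra.single
      (Multiplicative.ofAdd (⟨z, hz⟩ : ↥Z.toAddSubmonoid)) (1 : R))) h
    simp only [RingHom.comp_apply] at e
    rw [rh_single, rh_single] at e
    have e' : χ (MonoidAlgebra.single (Multiplicative.ofAdd z) 1) = 1 := e.trans hone
    change Additive.ofMul (χ (MonoidAlgebra.single (Multiplicative.ofAdd z) 1)) = 0
    rw [e']
    rfl
  let c'A : M ⧸ Z →+ Additive Γ' := QuotientAddGroup.lift Z cA hZ
  let c' : Multiplicative (M ⧸ Z) →* Γ' := AddMonoidHom.toMultiplicativeLeft c'A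
  have hc' : ∀ m : M, c' (Multiplicative.ofAdd (QuotientAddGroup.mk m : M ⧸ Z)) =
      χ (MonoidAlgebra.single (Multiplicative.ofAdd m) 1) := fun m => rfl
  refine ⟨MonoidAlgebra.liftNCRingHom (χ.comp MonoidAlgebra.singleOneRingHom) c'
    (fun _ _ => Commute.all _ _), ?_⟩
  apply MonoidAlgebra.ringHom_ext
  · intro r
    rw [RingHom.comp_apply]
    change MonoidAlgebra.liftNCRingHom _ _ _
      (rh R (QuotientAddGroup.mk' Z) (MonoidAlgebra.single (Multiplicative.ofAdd (0 : M)) r)) = _
    rw [rh_single, MonoidAlgebra.liftNCRingHom_single, map_zero, ofAdd_zero, map_one, mul_one]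
    rfl
  · intro m
    obtain ⟨m, rfl⟩ := Multiplicative.ofAdd.surjective m
    rw [RingHom.comp_apply, rh_single, MonoidAlgebra.liftNCRingHom_single, map_one, one_mul]
    exact hc' m

end Factor

end Groth.Agent.Lib.Helper29.MagnetFixAlg
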