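import Mathlib
import Groth.Agent.Lib.Helper29.MagnetFixAlg

/-!
# Freeness of monoid algebras along "free translation actions" (helper29, for S18298)
-/
set_option autoImplicit false
set_option maxHeartbeats 1600000
set_option linter.style.haveILetI false
universe u

noncomputable section

namespace Groth.Agent.Lib.Helper29.MagnetComapAlg

open MagnetFixAlg

variable (R : Type u) [CommRing R]

section General
variable {N Q : Type} [AddCommMonoid N] [AddCommMonoid Q] (j : N →+ Q) {C : Type}
  (β : N × C ≃ Q) (s : C → Q) (hβ : ∀ n c, β (n, c) = j n + s c)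

include hβ in
theorem free_of_equiv : letI := (rh R j).toAlgebra
    Module.Free (MonoidAlgebra R (Multiplicative N)) (MonoidAlgebra R (Multiplicative Q)) := by
  letI := (rh R j).toAlgebra
  let Φ := Finsupp.linearCombination (MonoidAlgebra R (Multiplicative N))
      (fun c : C => (MonoidAlgebra.single (Multiplicative.ofAdd (s c)) (1 : R) :
        MonoidAlgebra R (Multiplicative Q)))
  let Ψ : MonoidAlgebra R (Multiplicative Q) →+ (C →₀ MonoidAlgebra R (Multiplicative N)) :=
    (Finsupp.liftAddHom (fun q : Multiplicative Q =>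
      (Finsupp.singleAddHom (β.symm (Multiplicative.toAdd q)).2).comp
        (MonoidAlgebra.singleAddHom
          (Multiplicative.ofAdd (β.symm (Multiplicative.toAdd q)).1)))).comp
    MonoidAlgebra.coeffAddEquiv.toAddMonoidHom
  have hΨ : ∀ (q : Q) (r : R), Ψ (MonoidAlgebra.single (Multiplicative.ofAdd q) r) =
      Finsupp.single (β.symm q).2
        (MonoidAlgebra.single (Multiplicative.ofAdd (β.symm q).1) r) := by
    intro q r
    change Finsupp.liftAddHom _ (MonoidAlgebra.single (Multiplicative.ofAdd q) r).coeff = _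
    rw [MonoidAlgebra.coeff_single, Finsupp.liftAddHom_apply_single]
    rfl
  have hΦ : ∀ (c : C) (n : N) (r : R),
      Φ (Finsupp.single c (MonoidAlgebra.single (Multiplicative.ofAdd n) r)) =
        MonoidAlgebra.single (Multiplicative.ofAdd (β (n, c))) r := by
    intro c n r
    rw [Finsupp.linearCombination_single, Algebra.smul_def, RingHom.algebraMap_toAlgebra,
      rh_single, MonoidAlgebra.single_mul_single, mul_one, hβ]
    rfl
  have h1 : ∀ y, Φ (Ψ y) = y := by
    intro y
    have key : (Φ.toAddMonoidHom.comp Ψ) = AddMonoidHom.id _ := by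
      apply MonoidAlgebra.addMonoidHom_ext
      intro q r
      obtain ⟨q, rfl⟩ := Multiplicative.ofAdd.surjective q
      simp only [AddMonoidHom.comp_apply, AddMonoidHom.id_apply, LinearMap.toAddMonoidHom_coe]
      rw [hΨ, hΦ, Prod.mk.eta, Equiv.apply_symm_apply]
    exact DFunLike.congr_fun key y
  have h2 : ∀ x, Ψ (Φ x) = x := by
    intro x
    have key : (Ψ.comp Φ.toAddMonoidHom) = AddMonoidHom.id _ := by
      apply Finsupp.addHom_ext
      intro c a
      have key2 : ((Ψ.comp Φ.toAddMonoidHom).comp (Finsupp.singleAddHom c)) =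
          Finsupp.singleAddHom c := by
        apply MonoidAlgebra.addMonoidHom_ext
        intro n r
        obtain ⟨n, rfl⟩ := Multiplicative.ofAdd.surjective n
        simp only [AddMonoidHom.comp_apply, Finsupp.singleAddHom_apply,
          LinearMap.toAddMonoidHom_coe]
        rw [hΦ, hΨ, Equiv.symm_apply_apply]
      exact DFunLike.congr_fun key2 a
    exact DFunLike.congr_fun key x
  exact Module.Free.of_equiv (LinearEquiv.ofBijective Φ
    ⟨Function.LeftInverse.injective h2, Function.RightInverse.surjective h1⟩)

end General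

theorem free_of_injective {P M : Type} [AddCommGroup P] [AddCommGroup M] (g : P →+ M)
    (hg : Function.Injective g) :
    letI := (rh R g).toAlgebra
    Module.Free (MonoidAlgebra R (Multiplicative P)) (MonoidAlgebra R (Multiplicative M)) := by
  have hmem : ∀ m : M, ∃ p : P, g p = m - sec g.range (QuotientAddGroup.mk m) := fun m =>
    AddMonoidHom.mem_range.1 (sub_sec_mem g.range m)
  let d : M → P := fun m => Classical.choose (hmem m)
  have hd : ∀ m, g (d m) = m - sec g.range (QuotientAddGroup.mk m) := fun m =>
    Classical.choose_spec (hmem m)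
  let β : P × (M ⧸ g.range) ≃ M :=
    { toFun := fun x => g x.1 + sec g.range x.2
      invFun := fun m => (d m, QuotientAddGroup.mk m)
      left_inv := by
        rintro ⟨p, c⟩
        have e1 : (QuotientAddGroup.mk (g p + sec g.range c) : M ⧸ g.range) = c := by
          rw [QuotientAddGroup.mk_add, mk_sec,
            (QuotientAddGroup.eq_zero_iff _).2 (AddMonoidHom.mem_range.2 ⟨p, rfl⟩), zero_add]
        refine Prod.ext ?_ e1
        apply hg
        change g (d (g p + sec g.range c)) = g p
        rw [hd, e1, add_sub_cancel_right]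
      right_inv := by
        intro m
        change g (d m) + sec g.range (QuotientAddGroup.mk m) = m
        rw [hd, sub_add_cancel] }
  exact free_of_equiv R g β (fun c => sec g.range c) (fun n c => rfl)

theorem free_comap {M Z : Type} [AddCommGroup M] [AddCommGroup Z] (f : M →+ Z)
    (Y : AddSubmonoid Z) (hY : Y ≤ AddMonoidHom.mrange f) :
    letI := (rh R (AddMonoidHom.prod (Y.comap f).subtype
      ((f.comp (Y.comap f).subtype).codRestrict Y (fun x => x.2)))).toAlgebra
    Module.Free (MonoidAlgebra R (Multiplicative ↥(Y.comap f)))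
      (MonoidAlgebra R (Multiplicative (M × ↥Y))) := by
  have hn : ∀ y : ↥Y, ∃ m : M, f m = y := fun y => AddMonoidHom.mem_mrange.1 (hY y.2)
  let n₀ : ↥Y → M := fun y => Classical.choose (hn y)
  have hn₀ : ∀ y, f (n₀ y) = y := fun y => Classical.choose_spec (hn y)
  have hsec : ∀ x : M, f (sec f.ker (QuotientAddGroup.mk x)) = f x := by
    intro x
    have := sub_sec_mem f.ker x
    rw [AddMonoidHom.mem_ker, map_sub, sub_eq_zero] at this
    exact this.symm
  have hdmem : ∀ (m : M) (y : ↥Y),
      m - sec f.ker (QuotientAddGroup.mk (m - n₀ y)) ∈ Y.comap f := by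
    intro m y
    change f (m - sec f.ker _) ∈ Y
    rw [map_sub, hsec, map_sub, hn₀, sub_sub_cancel]
    exact y.2
  let β : ↥(Y.comap f) × (M ⧸ f.ker) ≃ M × ↥Y :=
    { toFun := fun x => ((x.1 : M) + sec f.ker x.2, ⟨f x.1, x.1.2⟩)
      invFun := fun q => (⟨q.1 - sec f.ker (QuotientAddGroup.mk (q.1 - n₀ q.2)), hdmem q.1 q.2⟩,
        QuotientAddGroup.mk (q.1 - n₀ q.2))
      left_inv := by
        rintro ⟨n, c⟩
        have e0 : (n : M) - n₀ ⟨f n, n.2⟩ ∈ f.ker := by
          rw [AddMonoidHom.mem_ker, map_sub, hn₀, sub_self]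
        have e1 : (QuotientAddGroup.mk ((n : M) + sec f.ker c - n₀ ⟨f n, n.2⟩) :
            M ⧸ f.ker) = c := by
          rw [add_sub_right_comm, QuotientAddGroup.mk_add, mk_sec,
            (QuotientAddGroup.eq_zero_iff _).2 e0, zero_add]
        refine Prod.ext (Subtype.ext ?_) e1
        change (n : M) + sec f.ker c -
          sec f.ker (QuotientAddGroup.mk ((n : M) + sec f.ker c - n₀ ⟨f n, n.2⟩)) = n
        rw [e1, add_sub_cancel_right]
      right_inv := by
        rintro ⟨m, y⟩
        refine Prod.ext ?_ (Subtype.ext ?_)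
        · change m - sec f.ker (QuotientAddGroup.mk (m - n₀ y)) +
            sec f.ker (QuotientAddGroup.mk (m - n₀ y)) = m
          rw [sub_add_cancel]
        · change f (m - sec f.ker (QuotientAddGroup.mk (m - n₀ y))) = y
          rw [map_sub, hsec, map_sub, hn₀, sub_sub_cancel] }
  exact free_of_equiv R _ β (fun c => (sec f.ker c, 0))
    (fun n c => Prod.ext rfl (add_zero _).symm)

theorem rh_surjective {N Y : Type} [AddCommMonoid N] [AddCommMonoid Y] (g : N →+ Y)
    (hg : Function.Surjective g) : Function.Surjective (rh R g) := by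
  intro x
  induction x using MonoidAlgebra.induction_on with
  | of m =>
    obtain ⟨m, rfl⟩ := Multiplicative.ofAdd.surjective m
    obtain ⟨n, rfl⟩ := hg m
    refine ⟨MonoidAlgebra.single (Multiplicative.ofAdd n) 1, ?_⟩
    rw [rh_single]
    rfl
  | add x y hx hy =>
    obtain ⟨a, rfl⟩ := hx
    obtain ⟨b, rfl⟩ := hy
    exact ⟨a + b, map_add _ _ _⟩
  | smul r x hx =>
    obtain ⟨a, rfl⟩ := hx
    refine ⟨r • a, ?_⟩
    exact map_smul (MonoidAlgebra.mapDomainBialgHom R
      (AddMonoidHom.toMultiplicative g)).toAlgHom r a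

end Groth.Agent.Lib.Helper29.MagnetComapAlg
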