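import Mathlib
import Groth.Prelude.Def_Magnet4
import Groth.Agent.Lib.Helper29.MagnetDom
import Groth.Agent.Lib.Helper29.MagnetAttr
import Groth.Agent.Lib.Helper29.MagnetFixAlg

/-!
# The attractor of a subgroup magnet is the fixed-point functor of `D(M/Z)` (S18289) (helper29)
-/
set_option autoImplicit false
set_option maxHeartbeats 1600000
set_option linter.style.haveILetI false
universe u
open CategoryTheory CategoryTheory.Limits MonoidalCategory CartesianMonoidalCategory MonObj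
  AlgebraicGeometry Opposite

noncomputable section

namespace Groth.Agent.Lib.Helper29.MagnetFix

open Magnet MagnetFixAlg

section Desc
variable {S : Scheme.{u}}

theorem exists_desc' {A B C : Over S} (q : A ⟶ B) [EffectiveEpi q.left] (ψ : A ⟶ C)
    (h : ∀ (T : Over S) (a₁ a₂ : T ⟶ A), a₁ ≫ q = a₂ ≫ q → a₁ ≫ ψ = a₂ ≫ ψ) :
    ∃ f : B ⟶ C, q ≫ f = ψ := by
  have key : ∀ {Z : Scheme.{u}} (g₁ g₂ : Z ⟶ A.left), g₁ ≫ q.left = g₂ ≫ q.left →
      g₁ ≫ ψ.left = g₂ ≫ ψ.left := by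
    intro Z g₁ g₂ hg
    have hw : g₁ ≫ A.hom = g₂ ≫ A.hom := by
      have e : A.hom = q.left ≫ B.hom := (Over.w q).symm
      rw [e, ← Category.assoc, hg, Category.assoc]
    let T : Over S := Over.mk (g₁ ≫ A.hom)
    let a₁ : T ⟶ A := Over.homMk g₁ rfl
    let a₂ : T ⟶ A := Over.homMk g₂ hw.symm
    have h2 := h T a₁ a₂ (Over.OverMorphism.ext hg)
    exact congrArg (fun m => m.left) h2
  let f₀ : B.left ⟶ C.left := EffectiveEpi.desc q.left ψ.left key
  have hf₀ : q.left ≫ f₀ = ψ.left := EffectiveEpi.fac q.left ψ.left key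
  haveI : Epi q.left := inferInstance
  have hw : f₀ ≫ C.hom = B.hom := by
    rw [← cancel_epi q.left, ← Category.assoc, hf₀, Over.w ψ, Over.w q]
  exact ⟨Over.homMk f₀ hw, Over.OverMorphism.ext hf₀⟩

theorem epi_of_effectiveEpi_left {A B : Over S} (q : A ⟶ B) [EffectiveEpi q.left] : Epi q := by
  haveI : Epi ((Over.forget S).map q) := by
    change Epi q.left
    infer_instance
  exact (Over.forget S).epi_of_epi_map this

end Desc

section Abstract
variable {S : Scheme.{u}} {G H K X : Over S} [GrpObj G] [MonObj H] [MonObj K]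
  (i : G ⟶ H) [IsMonHom i] (π : K ⟶ G) [IsMonHom π]

theorem exists_iso_fixed
    (h0 : ∀ (T' : Over S) (k : T' ⟶ K), k ≫ π ≫ i = 1)
    (hker : ∀ (T' : Over S) (g : T' ⟶ G), g ≫ i = 1 → ∃ k : T' ⟶ K, k ≫ π = g)
    (hepi : ∀ T : Over S, EffectiveEpi (i ▷ T).left)
    (a : MonAct G X) :
    ∃ e : MonAct.eqvHom ((MonAct.regular H).restrict i) a ≅ MonAct.fixedPsh (a.restrict π),
      e.hom ≫ MonAct.fixedPshι _ =
        MonAct.eqvHom.evalAt ((MonAct.regular H).restrict i) a η[H] := by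
  have hepi' : ∀ T : Over S, Epi (i ▷ T) := fun T => by
    haveI := hepi T
    exact epi_of_effectiveEpi_left (i ▷ T)
  have star : ∀ (T : Over S) (φ : H ⊗ T ⟶ X),
      MonAct.IsEquivariant (((MonAct.regular H).restrict i).prod (MonAct.trivial G T)) a φ →
      (i ▷ T) ≫ φ = (G ◁ (lift (toUnit T ≫ η[H]) (𝟙 T) ≫ φ)) ≫ a.act :=
    fun T φ hφ => MagnetAttr.whiskerRight_comp_eq i a φ hφ
  have pt1 : ∀ (T : Over S) (φ : H ⊗ T ⟶ X) (T' : Over S) (t : T' ⟶ T),
      lift (1 : T' ⟶ H) t ≫ φ = t ≫ lift (toUnit T ≫ η[H]) (𝟙 T) ≫ φ := by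
    intro T φ T' t
    rw [← Category.assoc t, comp_lift, Category.comp_id, ← Category.assoc t,
      toUnit_unique (t ≫ toUnit T) (toUnit T'), Hom.one_def]
  have fixed : ∀ (T : Over S) (φ : H ⊗ T ⟶ X),
      MonAct.IsEquivariant (((MonAct.regular H).restrict i).prod (MonAct.trivial G T)) a φ →
      ∀ (T' : Over S) (t : T' ⟶ T) (k : T' ⟶ K),
        lift k (t ≫ lift (toUnit T ≫ η[H]) (𝟙 T) ≫ φ) ≫ (a.restrict π).act =
          t ≫ lift (toUnit T ≫ η[H]) (𝟙 T) ≫ φ := by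
    intro T φ hφ T' t k
    have h1 := star T φ hφ
    have h2 : lift (k ≫ π) t ≫ (i ▷ T) ≫ φ =
        lift (k ≫ π) t ≫ (G ◁ (lift (toUnit T ≫ η[H]) (𝟙 T) ≫ φ)) ≫ a.act := by rw [h1]
    rw [lift_whiskerRight_assoc, lift_whiskerLeft_assoc, Category.assoc, h0 T' k, pt1] at h2
    rw [MonAct.lift_restrict_act]
    exact h2.symm
  let hom : MonAct.eqvHom ((MonAct.regular H).restrict i) a ⟶ MonAct.fixedPsh (a.restrict π) :=
    { app := fun T => TypeCat.ofHom fun φ =>
        ⟨lift (toUnit (unop T) ≫ η[H]) (𝟙 (unop T)) ≫ φ.1, fixed (unop T) φ.1 φ.2⟩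
      naturality := fun T T' t => ConcreteCategory.hom_ext _ _ fun φ => Subtype.ext (by
        change lift (toUnit (unop T') ≫ η[H]) (𝟙 (unop T')) ≫ ((H ◁ t.unop) ≫ φ.1) =
          t.unop ≫ (lift (toUnit (unop T) ≫ η[H]) (𝟙 (unop T)) ≫ φ.1)
        rw [lift_whiskerLeft_assoc, Category.id_comp, ← Category.assoc t.unop, comp_lift,
          Category.comp_id, ← Category.assoc t.unop,
          toUnit_unique (t.unop ≫ toUnit (unop T)) (toUnit (unop T'))]) }
  have hcomp : hom ≫ MonAct.fixedPshι (a.restrict π) =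
      MonAct.eqvHom.evalAt ((MonAct.regular H).restrict i) a η[H] := by
    ext T φ
    rfl
  haveI : ∀ T, IsIso (hom.app T) := by
    intro T
    rw [isIso_iff_bijective]
    constructor
    · intro φ₁ φ₂ h12
      have hx : lift (toUnit (unop T) ≫ η[H]) (𝟙 (unop T)) ≫ φ₁.1 =
          lift (toUnit (unop T) ≫ η[H]) (𝟙 (unop T)) ≫ φ₂.1 := congrArg Subtype.val h12
      apply Subtype.ext
      haveI := hepi' (unop T)
      rw [← cancel_epi (i ▷ unop T), star _ _ φ₁.2, star _ _ φ₂.2, hx]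
    · intro x
      haveI := hepi (unop T)
      have hx := x.2
      have key : ∀ (T' : Over S) (g₁ g₂ : T' ⟶ G) (t : T' ⟶ unop T), g₁ ≫ i = g₂ ≫ i →
          lift g₁ (t ≫ x.1) ≫ a.act = lift g₂ (t ≫ x.1) ≫ a.act := by
        intro T' g₁ g₂ t hg
        have hh : (g₁⁻¹ * g₂) ≫ i = 1 := by
          rw [MonObj.mul_comp, ← hg, ← MonObj.mul_comp, inv_mul_cancel, MonObj.one_comp]
        obtain ⟨k, hk⟩ := hker T' _ hh
        have hfix := hx T' t k
        rw [MonAct.lift_restrict_act, hk] at hfix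
        have e : g₂ = g₁ * (g₁⁻¹ * g₂) := (mul_inv_cancel_left g₁ g₂).symm
        rw [e, MonAct.lift_mul_act, hfix]
      obtain ⟨φ, hφ⟩ := exists_desc' (i ▷ unop T) ((G ◁ x.1) ≫ a.act) (by
        intro T' a₁ a₂ h12
        have hg : (a₁ ≫ fst G (unop T)) ≫ i = (a₂ ≫ fst G (unop T)) ≫ i := by
          have := congrArg (fun m => m ≫ fst H (unop T)) h12
          simpa only [Category.assoc, whiskerRight_fst] using this
        have ht : a₁ ≫ snd G (unop T) = a₂ ≫ snd G (unop T) := by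
          have := congrArg (fun m => m ≫ snd H (unop T)) h12
          simpa only [Category.assoc, whiskerRight_snd] using this
        have e₁ : a₁ = lift (a₁ ≫ fst G (unop T)) (a₁ ≫ snd G (unop T)) :=
          (lift_comp_fst_snd a₁).symm
        have e₂ : a₂ = lift (a₂ ≫ fst G (unop T)) (a₁ ≫ snd G (unop T)) := by
          rw [ht]; exact (lift_comp_fst_snd a₂).symm
        rw [e₁, e₂, lift_whiskerLeft_assoc, lift_whiskerLeft_assoc]
        exact key T' _ _ _ hg)
      have hpt : ∀ (T' : Over S) (g : T' ⟶ G) (t : T' ⟶ unop T),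
          lift (g ≫ i) t ≫ φ = lift g (t ≫ x.1) ≫ a.act := by
        intro T' g t
        have h3 : lift g t ≫ (i ▷ unop T) ≫ φ = lift g t ≫ (G ◁ x.1) ≫ a.act := by rw [hφ]
        rw [lift_whiskerRight_assoc, lift_whiskerLeft_assoc] at h3
        exact h3
      have heq : MonAct.IsEquivariant
          (((MonAct.regular H).restrict i).prod (MonAct.trivial G (unop T))) a φ := by
        rw [MonAct.mem_eqvHom_iff]
        let W : Over S := G ⊗ unop T
        let u : H ⊗ W ⟶ X :=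
          lift (((snd H W ≫ fst G (unop T)) ≫ i) * fst H W) (snd H W ≫ snd G (unop T)) ≫ φ
        let v : H ⊗ W ⟶ X :=
          lift (snd H W ≫ fst G (unop T))
            (lift (fst H W) (snd H W ≫ snd G (unop T)) ≫ φ) ≫ a.act
        have hu : ∀ (T' : Over S) (b : T' ⟶ H) (g : T' ⟶ G) (t : T' ⟶ unop T),
            lift b (lift g t) ≫ u = lift ((g ≫ i) * b) t ≫ φ := by
          intro T' b g t
          simp only [u, W, comp_lift_assoc, MonObj.comp_mul, Category.assoc, lift_fst, lift_snd,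
            lift_fst_assoc, lift_snd_assoc]
        have hv : ∀ (T' : Over S) (b : T' ⟶ H) (g : T' ⟶ G) (t : T' ⟶ unop T),
            lift b (lift g t) ≫ v = lift g (lift b t ≫ φ) ≫ a.act := by
          intro T' b g t
          simp only [v, W, comp_lift_assoc, Category.assoc, lift_fst, lift_snd,
            lift_fst_assoc, lift_snd_assoc]
        have huv : u = v := by
          haveI := hepi' W
          rw [← cancel_epi (i ▷ W)]
          apply Magnet.hom_ext_lift₂
          intro T' g' z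
          rw [lift_whiskerRight_assoc, lift_whiskerRight_assoc, ← lift_comp_fst_snd z, hu, hv,
            ← MonObj.mul_comp, hpt, hpt, MonAct.lift_mul_act]
        intro T' g b t
        rw [MonAct.lift_restrict_act, MonAct.lift_regular_act, ← hu, ← hv, huv]
      refine ⟨⟨φ, heq⟩, Subtype.ext ?_⟩
      change lift (toUnit (unop T) ≫ η[H]) (𝟙 (unop T)) ≫ φ = x.1
      have h1 : (toUnit (unop T) ≫ η[H]) = (1 : unop T ⟶ G) ≫ i := by
        rw [MonObj.one_comp, Hom.one_def]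
      rw [h1, hpt, Category.id_comp, MonAct.lift_one_act]
  haveI : IsIso hom := NatIso.isIso_of_isIso_app hom
  exact ⟨asIso hom, hcomp⟩

end Abstract

section Concrete

theorem AMon_map_zero (R : Type u) [CommRing R] {M N : Type} [AddCommMonoid M] [AddCommMonoid N] :
    AMon.map R (0 : N →+ M) = 1 := by
  rw [AMon.map_eq_pt, CoactBr.one_eq_pt]
  congr 1
  refine MonoidAlgebra.algHom_ext (fun m => ?_) (Subsingleton.elim _ _)
  simp

theorem AMonS_map_zero (S : Scheme.{u}) {M N : Type} [AddCommMonoid M] [AddCommMonoid N] :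
    AMonS.map S (0 : N →+ M) = 1 := by
  rw [AMonS.map, AMon_map_zero]
  exact Functor.map_one _

theorem eq_toSpecΓ_comp {Y : Scheme.{u}} {R : CommRingCat.{u}} (w : Y ⟶ Spec R) :
    w = Y.toSpecΓ ≫ Spec.map ((Scheme.ΓSpecIso R).inv ≫ w.appTop) := by
  rw [Spec.map_comp, ← Scheme.toSpecΓ_naturality_assoc, toSpecΓ_SpecMap_ΓSpecIso_inv,
    Category.comp_id]

theorem exists_lift_of_comp_eq_one (S : Scheme.{u}) (M : Type) [AddCommGroup M] (Z : AddSubgroup M)
    {T' : Over S} (g : T' ⟶ AMonS S M)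
    (hg : g ≫ AMonS.map S Z.toAddSubmonoid.subtype = 1) :
    ∃ k : T' ⟶ AMonS S (M ⧸ Z), k ≫ AMonS.map S (QuotientAddGroup.mk' Z) = g := by
  let tS := Limits.IsTerminal.from specULiftZIsTerminal S
  let adj := Over.mapPullbackAdj tS
  let ĝ : (Over.map tS).obj T' ⟶ AMon (ULift.{u} ℤ) M :=
    (adj.homEquiv T' (AMon (ULift.{u} ℤ) M)).symm g
  have hgĝ : adj.homEquiv T' (AMon (ULift.{u} ℤ) M) ĝ = g := Equiv.apply_symm_apply _ _
  have nat : ∀ {N N' : Type} [AddCommMonoid N] [AddCommMonoid N'] (f : N →+ N')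
      (y : (Over.map tS).obj T' ⟶ AMon (ULift.{u} ℤ) N'),
      adj.homEquiv T' _ (y ≫ AMon.map (ULift.{u} ℤ) f) =
        adj.homEquiv T' _ y ≫ AMonS.map S f := by
    intro N N' _ _ f y
    exact adj.homEquiv_naturality_right y (AMon.map (ULift.{u} ℤ) f)
  have h1 : g ≫ AMonS.map S (0 : ↥Z.toAddSubmonoid →+ M) = 1 := by
    rw [AMonS_map_zero, MonObj.comp_one]
  have h2 : ĝ ≫ AMon.map (ULift.{u} ℤ) Z.toAddSubmonoid.subtype =
      ĝ ≫ AMon.map (ULift.{u} ℤ) (0 : ↥Z.toAddSubmonoid →+ M) := by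
    apply (adj.homEquiv T' _).injective
    rw [nat, nat, hgĝ, hg, h1]
  obtain ⟨w, hwdef⟩ : ∃ w : T'.left ⟶
      Spec (CommRingCat.of (MonoidAlgebra (ULift.{u} ℤ) (Multiplicative M))), w = ĝ.left :=
    ⟨_, rfl⟩
  have h3 : w ≫ Spec.map (CommRingCat.ofHom (rh (ULift.{u} ℤ) Z.toAddSubmonoid.subtype)) =
      w ≫ Spec.map (CommRingCat.ofHom (rh (ULift.{u} ℤ) (0 : ↥Z.toAddSubmonoid →+ M))) := by
    rw [hwdef]
    exact congrArg (fun m => m.left) h2
  obtain ⟨χ, hχ⟩ : ∃ χ : CommRingCat.of (MonoidAlgebra (ULift.{u} ℤ) (Multiplicative M)) ⟶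
      Γ(T'.left, ⊤), χ = (Scheme.ΓSpecIso _).inv ≫ w.appTop := ⟨_, rfl⟩
  have hw : w = T'.left.toSpecΓ ≫ Spec.map χ := by
    rw [hχ]; exact eq_toSpecΓ_comp w
  have e : ∀ {R' : CommRingCat.{u}}
      (γ' : R' ⟶ CommRingCat.of (MonoidAlgebra (ULift.{u} ℤ) (Multiplicative M))),
      γ' ≫ χ = (Scheme.ΓSpecIso R').inv ≫ (w ≫ Spec.map γ').appTop := by
    intro R' γ'
    rw [hχ, Scheme.Hom.comp_appTop, ← Category.assoc, Scheme.ΓSpecIso_inv_naturality,
      Category.assoc]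
  have h4 : CommRingCat.ofHom (rh (ULift.{u} ℤ) Z.toAddSubmonoid.subtype) ≫ χ =
      CommRingCat.ofHom (rh (ULift.{u} ℤ) (0 : ↥Z.toAddSubmonoid →+ M)) ≫ χ := by
    rw [e, e, h3]
  obtain ⟨χ', hχ'⟩ := MagnetFixAlg.exists_factor (ULift.{u} ℤ) Z χ.hom (by
    have := congrArg (fun ψ => ψ.hom) h4
    simpa only [CommRingCat.hom_comp, CommRingCat.hom_ofHom] using this)
  let kk : (Over.map tS).obj T' ⟶ AMon (ULift.{u} ℤ) (M ⧸ Z) :=
    Over.homMk (T'.left.toSpecΓ ≫ Spec.map (CommRingCat.ofHom χ'))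
      (specULiftZIsTerminal.hom_ext _ _)
  have hk : kk ≫ AMon.map (ULift.{u} ℤ) (QuotientAddGroup.mk' Z) = ĝ := by
    ext1
    change (T'.left.toSpecΓ ≫ Spec.map (CommRingCat.ofHom χ')) ≫
      Spec.map (CommRingCat.ofHom (rh (ULift.{u} ℤ) (QuotientAddGroup.mk' Z))) = ĝ.left
    rw [Category.assoc, ← Spec.map_comp, ← CommRingCat.ofHom_comp, hχ', ← hwdef, hw]
    rfl
  refine ⟨adj.homEquiv T' _ kk, ?_⟩
  rw [← nat, hk, hgĝ]

theorem effectiveEpi_whiskerRight (S : Scheme.{u}) {M : Type} [AddCommGroup M] (Z : AddSubgroup M)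
    (T : Over S) :
    EffectiveEpi ((AMonS.map S Z.toAddSubmonoid.subtype) ▷ T).left := by
  letI alg := (rh (ULift.{u} ℤ) Z.toAddSubmonoid.subtype).toAlgebra
  haveI hfree := MagnetFixAlg.free (ULift.{u} ℤ) Z
  haveI : Module.FaithfullyFlat (MonoidAlgebra (ULift.{u} ℤ) (Multiplicative ↥Z.toAddSubmonoid))
      (MonoidAlgebra (ULift.{u} ℤ) (Multiplicative M)) := inferInstance
  have hflat : (rh (ULift.{u} ℤ) Z.toAddSubmonoid.subtype).Flat := by
    change (algebraMap (MonoidAlgebra (ULift.{u} ℤ) (Multiplicative ↥Z.toAddSubmonoid))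
      (MonoidAlgebra (ULift.{u} ℤ) (Multiplicative M))).Flat
    rw [RingHom.flat_algebraMap_iff]
    infer_instance
  have hsurj : Function.Surjective
      (PrimeSpectrum.comap (rh (ULift.{u} ℤ) Z.toAddSubmonoid.subtype)) :=
    PrimeSpectrum.comap_surjective_of_faithfullyFlat
      (A := MonoidAlgebra (ULift.{u} ℤ) (Multiplicative ↥Z.toAddSubmonoid))
      (B := MonoidAlgebra (ULift.{u} ℤ) (Multiplicative M))
  let j : Spec (CommRingCat.of (MonoidAlgebra (ULift.{u} ℤ) (Multiplicative M))) ⟶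
      Spec (CommRingCat.of (MonoidAlgebra (ULift.{u} ℤ) (Multiplicative ↥Z.toAddSubmonoid))) :=
    Spec.map (CommRingCat.ofHom (rh (ULift.{u} ℤ) Z.toAddSubmonoid.subtype))
  haveI hjF : Flat j := (HasRingHomProperty.Spec_iff (P := @Flat)).2 hflat
  haveI hjS : Surjective j := ⟨hsurj⟩
  haveI hjQ : QuasiCompact j := inferInstance
  have e1 := MagnetDom.whisker_qN S T Z.toAddSubmonoid.subtype
  have e2 : (AMon.map (ULift.{u} ℤ) Z.toAddSubmonoid.subtype).left ≫
      (AMon (ULift.{u} ℤ) ↥Z.toAddSubmonoid).hom = (AMon (ULift.{u} ℤ) M).hom := Over.w _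
  have s : IsPullback (MagnetDom.pN S T M)
      (((AMonS.map S Z.toAddSubmonoid.subtype) ▷ T).left ≫ MagnetDom.qN S T ↥Z.toAddSubmonoid)
      ((AMon.map (ULift.{u} ℤ) Z.toAddSubmonoid.subtype).left ≫
        (AMon (ULift.{u} ℤ) ↥Z.toAddSubmonoid).hom)
      (T.hom ≫ Limits.IsTerminal.from specULiftZIsTerminal S) := by
    rw [e1, e2]; exact MagnetDom.isPullback_pN_qN S T M
  have hp : MagnetDom.pN S T M ≫ (AMon.map (ULift.{u} ℤ) Z.toAddSubmonoid.subtype).left =
      ((AMonS.map S Z.toAddSubmonoid.subtype) ▷ T).left ≫ MagnetDom.pN S T ↥Z.toAddSubmonoid :=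
    (MagnetDom.whisker_pN S T Z.toAddSubmonoid.subtype).symm
  have sq := (IsPullback.of_bot s hp (MagnetDom.isPullback_pN_qN S T ↥Z.toAddSubmonoid))
  have hjF' : Flat (AMon.map (ULift.{u} ℤ) Z.toAddSubmonoid.subtype).left := hjF
  have hjS' : Surjective (AMon.map (ULift.{u} ℤ) Z.toAddSubmonoid.subtype).left := hjS
  have hjQ' : QuasiCompact (AMon.map (ULift.{u} ℤ) Z.toAddSubmonoid.subtype).left := hjQ
  haveI : Flat ((AMonS.map S Z.toAddSubmonoid.subtype) ▷ T).left :=
    MorphismProperty.of_isPullback (P := @Flat) sq hjF'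
  haveI : Surjective ((AMonS.map S Z.toAddSubmonoid.subtype) ▷ T).left :=
    MorphismProperty.of_isPullback (P := @Surjective) sq hjS'
  haveI : QuasiCompact ((AMonS.map S Z.toAddSubmonoid.subtype) ▷ T).left :=
    MorphismProperty.of_isPullback (P := @QuasiCompact) sq hjQ'
  infer_instance

theorem main18289 (S : Scheme.{u}) (M : Type) [AddCommGroup M] [AddGroup.FG M]
    (Z : AddSubgroup M) (X : Over S) (a : AlgGrp.Action (Red.DS S M) X) :
    ∃ e : Magnet.attr (Magnet.MonAct.ofAction a) Z.toAddSubmonoid ≅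
        Magnet.MonAct.fixedPsh ((Magnet.MonAct.ofAction a).restrict
          (Magnet.AMonS.map S (QuotientAddGroup.mk' Z))),
      e.hom ≫ Magnet.MonAct.fixedPshι _ =
        Magnet.attrToX (Magnet.MonAct.ofAction a) Z.toAddSubmonoid := by
  have h0 : ∀ (T' : Over S) (k : T' ⟶ AMonS S (M ⧸ Z)),
      k ≫ AMonS.map S (QuotientAddGroup.mk' Z) ≫ AMonS.map S Z.toAddSubmonoid.subtype = 1 := by
    intro T' k
    rw [← AMonS.map_comp]
    have hz : (QuotientAddGroup.mk' Z).comp Z.toAddSubmonoid.subtype = 0 := by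
      ext z
      exact (QuotientAddGroup.eq_zero_iff _).2 z.2
    rw [hz, AMonS_map_zero, MonObj.comp_one]
  exact exists_iso_fixed (G := Red.DS S M) (AMonS.map S Z.toAddSubmonoid.subtype)
    (AMonS.map S (QuotientAddGroup.mk' Z)) h0
    (fun T' g hg => exists_lift_of_comp_eq_one S M Z g hg)
    (fun T => effectiveEpi_whiskerRight S Z T) (MonAct.ofAction a)

end Concrete

end Groth.Agent.Lib.Helper29.MagnetFix
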