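import Mathlib
import Groth.Prelude.Def_Magnet4
import Groth.Agent.Lib.Helper29.MagnetFix
import Groth.Agent.Lib.Helper29.MagnetComap
import Groth.Agent.Lib.Helper29.MagnetComapAlg

/-!
# Change of monoid for attractors along `f : M → Z` with `Y ≤ f(M)` is an isomorphism (S18298) (helper29)
-/
set_option autoImplicit false
set_option maxHeartbeats 1600000
set_option linter.style.haveILetI false
universe u
open CategoryTheory CategoryTheory.Limits MonoidalCategory CartesianMonoidalCategory MonObj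
  AlgebraicGeometry Opposite

noncomputable section

namespace Groth.Agent.Lib.Helper29.MagnetComapIso

open Magnet MagnetFixAlg

section AbstractComap
variable {S : Scheme.{u}} {G GZ AN AY AQ AK X : Over S} [GrpObj G] [MonObj GZ] [MonObj AN]
  [MonObj AY] [MonObj AQ] [MonObj AK]

/-- `(q, t) ↦ c₁(q) • ψ(c₂(q), t)` -/
def PsiP (c₁ : AQ ⟶ G) (c₂ : AQ ⟶ AY) (a : MonAct G X) {T : Over S} (ψ : AY ⊗ T ⟶ X) :
    AQ ⊗ T ⟶ X :=
  lift (fst AQ T ≫ c₁) (lift (fst AQ T ≫ c₂) (snd AQ T) ≫ ψ) ≫ a.act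

theorem lift_PsiP (c₁ : AQ ⟶ G) (c₂ : AQ ⟶ AY) (a : MonAct G X) {T : Over S} (ψ : AY ⊗ T ⟶ X)
    {T' : Over S} (q : T' ⟶ AQ) (t : T' ⟶ T) :
    lift q t ≫ PsiP c₁ c₂ a ψ = lift (q ≫ c₁) (lift (q ≫ c₂) t ≫ ψ) ≫ a.act := by
  simp only [PsiP, comp_lift_assoc, lift_fst_assoc, lift_snd]

variable (iN : G ⟶ AN) [IsMonHom iN] (iY : GZ ⟶ AY) [IsMonHom iY] (Df : GZ ⟶ G) [IsMonHom Df]
  (jY : AY ⟶ AN) [IsMonHom jY] (c₁ : AQ ⟶ G) [IsMonHom c₁] (c₂ : AQ ⟶ AY) [IsMonHom c₂]
  (J : AQ ⟶ AN) [IsMonHom J] (sY : AY ⟶ AQ) [IsMonHom sY] (e₁ : G ⟶ AQ) [IsMonHom e₁]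
  (κ : AN ⟶ AK) [IsMonHom κ]

theorem isIso_comap
    (H1 : Df ≫ iN = iY ≫ jY)
    (H2 : J = (c₁ ≫ iN) * (c₂ ≫ jY))
    (H3a : sY ≫ c₁ = 1) (H3b : sY ≫ c₂ = 𝟙 AY)
    (H4a : e₁ ≫ c₁ = 𝟙 G) (H4b : e₁ ≫ c₂ = 1)
    (H5 : jY ≫ κ = 1)
    [Mono jY]
    (H7 : ∀ T : Over S, EffectiveEpi (J ▷ T).left)
    (H8 : ∀ (T' : Over S) (h : T' ⟶ G), h ≫ iN ≫ κ = 1 →
      ∃ (T'' : Over S) (p : T'' ⟶ T') (z : T'' ⟶ GZ), Epi p ∧ z ≫ Df = p ≫ h)
    (a : MonAct G X)
    (θ : MonAct.eqvHom ((MonAct.regular AN).restrict iN) a ⟶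
      MonAct.eqvHom ((MonAct.regular AY).restrict iY) (a.restrict Df))
    (hθ : ∀ (T : (Over S)ᵒᵖ) (φ : (MonAct.eqvHom ((MonAct.regular AN).restrict iN) a).obj T),
      (θ.app T φ).1 = (jY ▷ unop T) ≫ φ.1) :
    IsIso θ := by
  have hepi' : ∀ T : Over S, Epi (J ▷ T) := fun T => by
    haveI := H7 T
    exact MagnetFix.epi_of_effectiveEpi_left (J ▷ T)
  have hsJ : sY ≫ J = jY := by
    rw [H2, MonObj.comp_mul, ← Category.assoc, H3a, MonObj.one_comp, ← Category.assoc, H3b,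
      Category.id_comp, _root_.one_mul]
  have heJ : e₁ ≫ J = iN := by
    rw [H2, MonObj.comp_mul, ← Category.assoc, H4a, Category.id_comp, ← Category.assoc, H4b,
      MonObj.one_comp, _root_.mul_one]
  haveI : ∀ T, IsIso (θ.app T) := by
    intro T
    rw [isIso_iff_bijective]
    constructor
    · intro φ₁ φ₂ h12
      have hx : (jY ▷ unop T) ≫ φ₁.1 = (jY ▷ unop T) ≫ φ₂.1 := by
        have := congrArg Subtype.val h12
        rwa [hθ, hθ] at this
      apply Subtype.ext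
      haveI := hepi' (unop T)
      rw [← cancel_epi (J ▷ unop T)]
      apply Magnet.hom_ext_lift₂
      intro T' q t
      rw [lift_whiskerRight_assoc, lift_whiskerRight_assoc]
      have hq : q ≫ J = lift (q ≫ c₁) (q ≫ c₂ ≫ jY) ≫ ((MonAct.regular AN).restrict iN).act := by
        rw [MonAct.lift_restrict_act, MonAct.lift_regular_act, H2, MonObj.comp_mul,
          Category.assoc]
      have e1 := (MonAct.mem_eqvHom_iff φ₁.1).1 φ₁.2 T' (q ≫ c₁) (q ≫ c₂ ≫ jY) t
      have e2 := (MonAct.mem_eqvHom_iff φ₂.1).1 φ₂.2 T' (q ≫ c₁) (q ≫ c₂ ≫ jY) t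
      rw [hq, e1, e2]
      have e3 : ∀ φ : AN ⊗ unop T ⟶ X,
          lift (q ≫ c₂ ≫ jY) t ≫ φ = lift (q ≫ c₂) t ≫ (jY ▷ unop T) ≫ φ := by
        intro φ
        rw [lift_whiskerRight_assoc, Category.assoc]
      rw [e3, e3, hx]
    · intro ψ
      haveI := H7 (unop T)
      have hψ := (MonAct.mem_eqvHom_iff ψ.1).1 ψ.2
      have hψ' : ∀ (T' : Over S) (z : T' ⟶ GZ) (b : T' ⟶ AY) (t : T' ⟶ unop T),
          lift ((z ≫ iY) * b) t ≫ ψ.1 = lift (z ≫ Df) (lift b t ≫ ψ.1) ≫ a.act := by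
        intro T' z b t
        have := hψ T' z b t
        simp only [MonAct.lift_restrict_act, MonAct.lift_regular_act] at this
        exact this
      have key : ∀ (T' : Over S) (q₁ q₂ : T' ⟶ AQ) (t : T' ⟶ unop T), q₁ ≫ J = q₂ ≫ J →
          lift (q₁ ≫ c₁) (lift (q₁ ≫ c₂) t ≫ ψ.1) ≫ a.act =
            lift (q₂ ≫ c₁) (lift (q₂ ≫ c₂) t ≫ ψ.1) ≫ a.act := by
        intro T' q₁ q₂ t hq
        obtain ⟨m₁, hm₁⟩ : ∃ m : T' ⟶ G, m = q₁ ≫ c₁ := ⟨_, rfl⟩
        obtain ⟨m₂, hm₂⟩ : ∃ m : T' ⟶ G, m = q₂ ≫ c₁ := ⟨_, rfl⟩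
        obtain ⟨b₁, hb₁⟩ : ∃ b : T' ⟶ AY, b = q₁ ≫ c₂ := ⟨_, rfl⟩
        obtain ⟨b₂, hb₂⟩ : ∃ b : T' ⟶ AY, b = q₂ ≫ c₂ := ⟨_, rfl⟩
        have hJ : (m₁ ≫ iN) * (b₁ ≫ jY) = (m₂ ≫ iN) * (b₂ ≫ jY) := by
          rw [hm₁, hm₂, hb₁, hb₂]
          have := hq
          rw [H2, MonObj.comp_mul, MonObj.comp_mul] at this
          simpa only [Category.assoc] using this
        rw [← hm₁, ← hm₂, ← hb₁, ← hb₂]
        have hE1 : b₁ ≫ jY = ((m₁⁻¹ * m₂) ≫ iN) * (b₂ ≫ jY) := by
          rw [MonObj.mul_comp, _root_.mul_assoc, ← hJ, ← _root_.mul_assoc, ← MonObj.mul_comp,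
            inv_mul_cancel, MonObj.one_comp, _root_.one_mul]
        have hK : (m₁⁻¹ * m₂) ≫ iN ≫ κ = 1 := by
          have hK' : (b₁ ≫ jY) ≫ κ = (((m₁⁻¹ * m₂) ≫ iN) * (b₂ ≫ jY)) ≫ κ := by rw [← hE1]
          rw [MonObj.mul_comp, Category.assoc, Category.assoc, Category.assoc, H5,
            MonObj.comp_one, MonObj.comp_one, _root_.mul_one] at hK'
          exact hK'.symm
        obtain ⟨T'', p, z, hp, hz⟩ := H8 T' (m₁⁻¹ * m₂) hK
        haveI := hp
        rw [← cancel_epi p]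
        have hE2 : p ≫ b₁ = (z ≫ iY) * (p ≫ b₂) := by
          rw [← cancel_mono jY]
          have l1 : (p ≫ b₁) ≫ jY = ((p ≫ (m₁⁻¹ * m₂)) ≫ iN) * ((p ≫ b₂) ≫ jY) := by
            rw [Category.assoc, hE1, MonObj.comp_mul, Category.assoc, Category.assoc]
          have l2 : ((z ≫ iY) * (p ≫ b₂)) ≫ jY = ((z ≫ Df) ≫ iN) * ((p ≫ b₂) ≫ jY) := by
            rw [MonObj.mul_comp, Category.assoc, Category.assoc z, H1]
          rw [l1, l2, hz]
        have hm₂' : p ≫ m₂ = (p ≫ m₁) * (z ≫ Df) := by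
          rw [hz, ← MonObj.comp_mul, mul_inv_cancel_left]
        rw [comp_lift_assoc, comp_lift_assoc, comp_lift_assoc, comp_lift_assoc, hm₂',
          MonAct.lift_mul_act, ← hψ', ← hE2]
      obtain ⟨φ, hφ⟩ := MagnetFix.exists_desc' (J ▷ unop T) (PsiP c₁ c₂ a ψ.1) (by
        intro T' a₁ a₂ h12
        have hq : (a₁ ≫ fst AQ (unop T)) ≫ J = (a₂ ≫ fst AQ (unop T)) ≫ J := by
          have := congrArg (fun m => m ≫ fst AN (unop T)) h12
          simpa only [Category.assoc, whiskerRight_fst] using this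
        have ht : a₁ ≫ snd AQ (unop T) = a₂ ≫ snd AQ (unop T) := by
          have := congrArg (fun m => m ≫ snd AN (unop T)) h12
          simpa only [Category.assoc, whiskerRight_snd] using this
        have ee₁ : a₁ = lift (a₁ ≫ fst AQ (unop T)) (a₁ ≫ snd AQ (unop T)) :=
          (lift_comp_fst_snd a₁).symm
        have ee₂ : a₂ = lift (a₂ ≫ fst AQ (unop T)) (a₁ ≫ snd AQ (unop T)) := by
          rw [ht]; exact (lift_comp_fst_snd a₂).symm
        rw [ee₁, ee₂, lift_PsiP, lift_PsiP]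
        exact key T' _ _ _ hq)
      have hpt : ∀ (T' : Over S) (q : T' ⟶ AQ) (t : T' ⟶ unop T),
          lift (q ≫ J) t ≫ φ = lift (q ≫ c₁) (lift (q ≫ c₂) t ≫ ψ.1) ≫ a.act := by
        intro T' q t
        have h3 : lift q t ≫ (J ▷ unop T) ≫ φ = lift q t ≫ PsiP c₁ c₂ a ψ.1 := by rw [hφ]
        rw [lift_whiskerRight_assoc, lift_PsiP] at h3
        exact h3
      have hpt2 : ∀ (T' : Over S) (g : T' ⟶ G) (q : T' ⟶ AQ) (t : T' ⟶ unop T),
          lift ((g ≫ iN) * (q ≫ J)) t ≫ φ = lift g (lift (q ≫ J) t ≫ φ) ≫ a.act := by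
        intro T' g q t
        have hq' : (g ≫ iN) * (q ≫ J) = ((g ≫ e₁) * q) ≫ J := by
          rw [MonObj.mul_comp, Category.assoc, heJ]
        have ea : ((g ≫ e₁) * q) ≫ c₁ = g * (q ≫ c₁) := by
          rw [MonObj.mul_comp, Category.assoc, H4a, Category.comp_id]
        have eb : ((g ≫ e₁) * q) ≫ c₂ = q ≫ c₂ := by
          rw [MonObj.mul_comp, Category.assoc, H4b, MonObj.comp_one, _root_.one_mul]
        rw [hq', hpt, hpt, ea, eb, MonAct.lift_mul_act]
      have heq : MonAct.IsEquivariant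
          (((MonAct.regular AN).restrict iN).prod (MonAct.trivial G (unop T))) a φ := by
        rw [MonAct.mem_eqvHom_iff]
        let W : Over S := G ⊗ unop T
        let u : AN ⊗ W ⟶ X :=
          lift (((snd AN W ≫ fst G (unop T)) ≫ iN) * fst AN W) (snd AN W ≫ snd G (unop T)) ≫ φ
        let v : AN ⊗ W ⟶ X :=
          lift (snd AN W ≫ fst G (unop T))
            (lift (fst AN W) (snd AN W ≫ snd G (unop T)) ≫ φ) ≫ a.act
        have hu : ∀ (T' : Over S) (b : T' ⟶ AN) (g : T' ⟶ G) (t : T' ⟶ unop T),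
            lift b (lift g t) ≫ u = lift ((g ≫ iN) * b) t ≫ φ := by
          intro T' b g t
          simp only [u, W, comp_lift_assoc, MonObj.comp_mul, Category.assoc, lift_fst, lift_snd,
            lift_fst_assoc, lift_snd_assoc]
        have hv : ∀ (T' : Over S) (b : T' ⟶ AN) (g : T' ⟶ G) (t : T' ⟶ unop T),
            lift b (lift g t) ≫ v = lift g (lift b t ≫ φ) ≫ a.act := by
          intro T' b g t
          simp only [v, W, comp_lift_assoc, Category.assoc, lift_fst, lift_snd,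
            lift_fst_assoc, lift_snd_assoc]
        have huv : u = v := by
          haveI := hepi' W
          rw [← cancel_epi (J ▷ W)]
          apply Magnet.hom_ext_lift₂
          intro T' q z
          rw [lift_whiskerRight_assoc, lift_whiskerRight_assoc, ← lift_comp_fst_snd z, hu, hv]
          exact hpt2 T' _ q _
        intro T' g b t
        rw [MonAct.lift_restrict_act, MonAct.lift_regular_act, ← hu, ← hv, huv]
      refine ⟨⟨φ, heq⟩, Subtype.ext ?_⟩
      rw [hθ]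
      change (jY ▷ unop T) ≫ φ = ψ.1
      apply Magnet.hom_ext_lift₂
      intro T' c t
      rw [lift_whiskerRight_assoc, ← hsJ, ← Category.assoc, hpt, Category.assoc, Category.assoc,
        H3a, H3b, MonObj.comp_one, Category.comp_id, MonAct.lift_one_act]
  exact NatIso.isIso_of_isIso_app θ

end AbstractComap

section Concrete

theorem AMon_map_add (R : Type u) [CommRing R] {P Q : Type} [AddCommMonoid P] [AddCommMonoid Q]
    (g h : P →+ Q) : AMon.map R (g + h) = AMon.map R g * AMon.map R h := by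
  rw [AMon.map_eq_pt, AMon.map_eq_pt, AMon.map_eq_pt, CoactBr.pt_mul_pt]
  congr 1
  refine MonoidAlgebra.algHom_ext (fun m => ?_) (Subsingleton.elim _ _)
  obtain ⟨m, rfl⟩ := Multiplicative.ofAdd.surjective m
  simp

theorem AMonS_map_add (S : Scheme.{u}) {P Q : Type} [AddCommMonoid P] [AddCommMonoid Q]
    (g h : P →+ Q) : AMonS.map S (g + h) = AMonS.map S g * AMonS.map S h := by
  rw [AMonS.map, AMon_map_add]
  exact Functor.map_mul _ _ _

theorem covering_props (S : Scheme.{u}) {N Q : Type} [AddCommMonoid N] [AddCommMonoid Q]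
    (j : N →+ Q)
    (hfree : letI := (rh (ULift.{u} ℤ) j).toAlgebra
      Module.Free (MonoidAlgebra (ULift.{u} ℤ) (Multiplicative N))
        (MonoidAlgebra (ULift.{u} ℤ) (Multiplicative Q)))
    (T : Over S) :
    Flat ((AMonS.map S j) ▷ T).left ∧ Surjective ((AMonS.map S j) ▷ T).left ∧
      QuasiCompact ((AMonS.map S j) ▷ T).left := by
  letI alg := (rh (ULift.{u} ℤ) j).toAlgebra
  haveI hfree' : Module.Free (MonoidAlgebra (ULift.{u} ℤ) (Multiplicative N))
      (MonoidAlgebra (ULift.{u} ℤ) (Multiplicative Q)) := hfree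
  haveI : Module.FaithfullyFlat (MonoidAlgebra (ULift.{u} ℤ) (Multiplicative N))
      (MonoidAlgebra (ULift.{u} ℤ) (Multiplicative Q)) := inferInstance
  have hflat : (rh (ULift.{u} ℤ) j).Flat := by
    change (algebraMap (MonoidAlgebra (ULift.{u} ℤ) (Multiplicative N))
      (MonoidAlgebra (ULift.{u} ℤ) (Multiplicative Q))).Flat
    rw [RingHom.flat_algebraMap_iff]
    infer_instance
  have hsurj : Function.Surjective (PrimeSpectrum.comap (rh (ULift.{u} ℤ) j)) :=
    PrimeSpectrum.comap_surjective_of_faithfullyFlat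
      (A := MonoidAlgebra (ULift.{u} ℤ) (Multiplicative N))
      (B := MonoidAlgebra (ULift.{u} ℤ) (Multiplicative Q))
  let jj : Spec (CommRingCat.of (MonoidAlgebra (ULift.{u} ℤ) (Multiplicative Q))) ⟶
      Spec (CommRingCat.of (MonoidAlgebra (ULift.{u} ℤ) (Multiplicative N))) :=
    Spec.map (CommRingCat.ofHom (rh (ULift.{u} ℤ) j))
  haveI hjF : Flat jj := (HasRingHomProperty.Spec_iff (P := @Flat)).2 hflat
  haveI hjS : Surjective jj := ⟨hsurj⟩
  haveI hjQ : QuasiCompact jj := inferInstance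
  have e1 := MagnetDom.whisker_qN S T j
  have e2 : (AMon.map (ULift.{u} ℤ) j).left ≫ (AMon (ULift.{u} ℤ) N).hom =
      (AMon (ULift.{u} ℤ) Q).hom := Over.w _
  have s : IsPullback (MagnetDom.pN S T Q)
      (((AMonS.map S j) ▷ T).left ≫ MagnetDom.qN S T N)
      ((AMon.map (ULift.{u} ℤ) j).left ≫ (AMon (ULift.{u} ℤ) N).hom)
      (T.hom ≫ Limits.IsTerminal.from specULiftZIsTerminal S) := by
    rw [e1, e2]; exact MagnetDom.isPullback_pN_qN S T Q
  have hp : MagnetDom.pN S T Q ≫ (AMon.map (ULift.{u} ℤ) j).left =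
      ((AMonS.map S j) ▷ T).left ≫ MagnetDom.pN S T N :=
    (MagnetDom.whisker_pN S T j).symm
  have sq := (IsPullback.of_bot s hp (MagnetDom.isPullback_pN_qN S T N))
  have hjF' : Flat (AMon.map (ULift.{u} ℤ) j).left := hjF
  have hjS' : Surjective (AMon.map (ULift.{u} ℤ) j).left := hjS
  have hjQ' : QuasiCompact (AMon.map (ULift.{u} ℤ) j).left := hjQ
  exact ⟨MorphismProperty.of_isPullback (P := @Flat) sq hjF',
    MorphismProperty.of_isPullback (P := @Surjective) sq hjS',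
    MorphismProperty.of_isPullback (P := @QuasiCompact) sq hjQ'⟩

theorem exists_local_lift (S : Scheme.{u}) {P Q : Type} [AddCommGroup P] [AddCommGroup Q]
    (g : P →+ Q) (hg : Function.Injective g) {T' : Over S} (h : T' ⟶ AMonS S P) :
    ∃ (T'' : Over S) (p : T'' ⟶ T') (z : T'' ⟶ AMonS S Q),
      Epi p ∧ z ≫ AMonS.map S g = p ≫ h := by
  obtain ⟨hF, hS, hQ⟩ := covering_props S g (MagnetComapAlg.free_of_injective _ g hg) T'
  obtain ⟨E, hE⟩ : ∃ E : AMonS S Q ⊗ T' ⟶ AMonS S P ⊗ T', E = (AMonS.map S g) ▷ T' := ⟨_, rfl⟩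
  rw [← hE] at hF hS hQ
  let σ : T' ⟶ AMonS S P ⊗ T' := lift h (𝟙 T')
  let T'' : Over S := Over.mk ((pullback.fst σ.left E.left) ≫ T'.hom)
  let p : T'' ⟶ T' := Over.homMk (pullback.fst σ.left E.left) rfl
  let w : T'' ⟶ AMonS S Q ⊗ T' := Over.homMk (pullback.snd σ.left E.left) (by
    have hc := pullback.condition (f := σ.left) (g := E.left)
    change pullback.snd σ.left E.left ≫ (AMonS S Q ⊗ T').hom =
      pullback.fst σ.left E.left ≫ T'.hom
    rw [← Over.w E, ← Category.assoc, ← hc, Category.assoc, Over.w σ])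
  haveI : Flat p.left := MorphismProperty.pullback_fst (P := @Flat) _ _ hF
  haveI : Surjective p.left := MorphismProperty.pullback_fst (P := @Surjective) _ _ hS
  haveI : QuasiCompact p.left := MorphismProperty.pullback_fst (P := @QuasiCompact) _ _ hQ
  haveI : EffectiveEpi p.left := inferInstance
  have hw : w ≫ E = p ≫ σ := by
    apply Over.OverMorphism.ext
    exact (pullback.condition (f := σ.left) (g := E.left)).symm
  refine ⟨T'', p, w ≫ fst _ _, MagnetFix.epi_of_effectiveEpi_left p, ?_⟩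
  have hfst : fst (AMonS S Q) T' ≫ AMonS.map S g = E ≫ fst (AMonS S P) T' := by
    rw [hE, whiskerRight_fst]
  rw [Category.assoc, hfst, ← Category.assoc, hw, Category.assoc, lift_fst]

theorem mono_AMonS_map_of_surjective (S : Scheme.{u}) {N Y : Type} [AddCommMonoid N]
    [AddCommMonoid Y] (g : N →+ Y) (hg : Function.Surjective g) : Mono (AMonS.map S g) := by
  have hsurj : Function.Surjective (rh (ULift.{u} ℤ) g) :=
    MagnetComapAlg.rh_surjective _ g hg
  haveI : IsClosedImmersion (AMon.map (ULift.{u} ℤ) g).left := by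
    change IsClosedImmersion (Spec.map (CommRingCat.ofHom (rh (ULift.{u} ℤ) g)))
    exact IsClosedImmersion.spec_of_surjective _ hsurj
  haveI : Mono (AMon.map (ULift.{u} ℤ) g) :=
    Groth.Agent.Lib.Helper26.MagnetFactor.mono_of_isClosedImmersion_left _
  haveI : (Over.pullback (Limits.IsTerminal.from specULiftZIsTerminal S)).IsRightAdjoint :=
    (Over.mapPullbackAdj _).isRightAdjoint
  exact (Over.pullback (Limits.IsTerminal.from specULiftZIsTerminal S)).map_mono _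

theorem main18298 (S : Scheme.{u}) (M Z : Type) [AddCommGroup M] [AddCommGroup Z]
    [AddGroup.FG M] [AddGroup.FG Z] (f : M →+ Z) (Y : AddSubmonoid Z)
    (hY : Y ≤ AddMonoidHom.mrange f)
    (X : Over S) (a : AlgGrp.Action (Red.DS S M) X) :
    IsIso (Magnet.attrComap (Magnet.MonAct.ofAction a) f Y) := by
  -- the monoid maps
  let fN : ↥(Y.comap f) →+ ↥Y := (f.comp (Y.comap f).subtype).codRestrict Y (fun x => x.2)
  let kN : ↥(f.ker).toAddSubmonoid →+ ↥(Y.comap f) :=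
    ((f.ker).toAddSubmonoid.subtype).codRestrict (Y.comap f) (fun k => by
      change f (k : M) ∈ Y
      rw [(AddMonoidHom.mem_ker).1 k.2]
      exact Y.zero_mem)
  have hfN : Function.Surjective fN := by
    intro y
    obtain ⟨m, hm⟩ := AddMonoidHom.mem_mrange.1 (hY y.2)
    exact ⟨⟨m, by change f m ∈ Y; rw [hm]; exact y.2⟩, Subtype.ext hm⟩
  haveI : Mono (AMonS.map S fN) := mono_AMonS_map_of_surjective S fN hfN
  refine isIso_comap (G := Red.DS S M) (GZ := AMonS S Z) (AN := AMonS S ↥(Y.comap f))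
    (AY := AMonS S ↥Y) (AQ := AMonS S (M × ↥Y)) (AK := AMonS S ↥(f.ker).toAddSubmonoid)
    (AMonS.map S (Y.comap f).subtype) (AMonS.map S Y.subtype) (AMonS.map S f) (AMonS.map S fN)
    (AMonS.map S (AddMonoidHom.inl M ↥Y)) (AMonS.map S (AddMonoidHom.inr M ↥Y))
    (AMonS.map S (AddMonoidHom.prod (Y.comap f).subtype fN))
    (AMonS.map S (AddMonoidHom.snd M ↥Y)) (AMonS.map S (AddMonoidHom.fst M ↥Y))
    (AMonS.map S kN) ?_ ?_ ?_ ?_ ?_ ?_ ?_ ?_ ?_ (MonAct.ofAction a)
    (Magnet.attrComap (Magnet.MonAct.ofAction a) f Y)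
    (fun T φ => Magnet.attrComap_app_coe (Magnet.MonAct.ofAction a) f Y T φ)
  · -- H1
    rw [← AMonS.map_comp, ← AMonS.map_comp]
    rfl
  · -- H2
    rw [← AMonS.map_comp, ← AMonS.map_comp, ← AMonS_map_add]
    congr 1
    ext n <;> simp
  · -- H3a
    rw [← AMonS.map_comp, AddMonoidHom.snd_comp_inl, MagnetFix.AMonS_map_zero]
  · -- H3b
    rw [← AMonS.map_comp, AddMonoidHom.snd_comp_inr, MagnetComap.AMonS_map_id]
  · -- H4a
    rw [← AMonS.map_comp, AddMonoidHom.fst_comp_inl, MagnetComap.AMonS_map_id]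
  · -- H4b
    rw [← AMonS.map_comp, AddMonoidHom.fst_comp_inr, MagnetFix.AMonS_map_zero]
  · -- H5
    rw [← AMonS.map_comp]
    have hz : fN.comp kN = 0 := by
      ext k
      exact (AddMonoidHom.mem_ker).1 k.2
    rw [hz, MagnetFix.AMonS_map_zero]
  · -- H7
    intro T
    obtain ⟨hF, hS, hQ⟩ := covering_props S (AddMonoidHom.prod (Y.comap f).subtype fN)
      (MagnetComapAlg.free_comap _ f Y hY) T
    haveI := hF
    haveI := hS
    haveI := hQ
    infer_instance
  · -- H8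
    intro T' h hh
    have hh' : h ≫ AMonS.map S (f.ker).toAddSubmonoid.subtype = 1 := by
      rw [← hh, ← AMonS.map_comp]
      rfl
    obtain ⟨hbar, hhbar⟩ := MagnetFix.exists_lift_of_comp_eq_one S M f.ker h hh'
    obtain ⟨T'', p, z, hp, hz⟩ := exists_local_lift S (QuotientAddGroup.kerLift f)
      (QuotientAddGroup.kerLift_injective f) hbar
    refine ⟨T'', p, z, hp, ?_⟩
    have hf : f = (QuotientAddGroup.kerLift f).comp (QuotientAddGroup.mk' f.ker) := by
      ext m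
      rfl
    have e : AMonS.map S f = AMonS.map S (QuotientAddGroup.kerLift f) ≫
        AMonS.map S (QuotientAddGroup.mk' f.ker) := by
      rw [← AMonS.map_comp, ← hf]
    rw [e, ← Category.assoc, hz, Category.assoc, hhbar]

end Concrete

end Groth.Agent.Lib.Helper29.MagnetComapIso
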