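import Mathlib
import Groth.Prelude.Def_Magnet4
import Groth.Agent.Lib.Helper29.MagnetFix
import Groth.Agent.Lib.Helper29.MagnetComapIso

/-!
# Ring-valued points of diagonalizable monoid schemes over an arbitrary base (helper29, for S18963)

For `f : Spec K ⟶ S` and a ring map `χ : ℤ[N] → K`, the point `ptK f χ : Over.mk f ⟶ A(N)_S`; every point is of this form;
naturality in `N` and in `K`; products of points (`ptK_mul`); the points of the affine line `A(ℕ) = A(multiples 1)` are the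
elements of `K` (`pt`), multiplicatively; units give points of `G_m = D(ℤ)` (`gpt`).
-/
set_option autoImplicit false
set_option maxHeartbeats 1600000
set_option linter.style.haveILetI false
universe u
open CategoryTheory CategoryTheory.Limits MonoidalCategory CartesianMonoidalCategory MonObj
  AlgebraicGeometry Opposite

noncomputable section

namespace Groth.Agent.Lib.Helper29.MagnetBBPts

open Magnet MagnetFixAlg MagnetFix MagnetComapIso

theorem ulift_ringHom_ext {K : Type*} [Ring K] (a b : ULift.{u} ℤ →+* K) : a = b := by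
  ext ⟨n⟩
  have e : (ULift.up n : ULift.{u} ℤ) = ((n : ℤ) : ULift.{u} ℤ) := by
    apply ULift.ext; simp
  rw [e, map_intCast, map_intCast]

section Alg
variable {K : Type u} [CommRing K] {N N' : Type} [AddCommMonoid N] [AddCommMonoid N']

/-- the basis element `e^n` of `ℤ[N]` -/
def eN (n : N) : MonoidAlgebra (ULift.{u} ℤ) (Multiplicative N) :=
  MonoidAlgebra.single (Multiplicative.ofAdd n) 1

theorem eN_zero : eN (0 : N) = (1 : MonoidAlgebra (ULift.{u} ℤ) (Multiplicative N)) := rfl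

theorem eN_add (n m : N) : eN.{u} (n + m) = eN n * eN m := by
  unfold eN
  rw [MonoidAlgebra.single_mul_single, _root_.one_mul]; rfl

theorem eN_nsmul (n : N) (k : ℕ) : eN.{u} (k • n) = eN n ^ k := by
  unfold eN
  rw [MonoidAlgebra.single_pow, one_pow]; rfl

theorem rh_eN (g : N' →+ N) (n : N') : rh (ULift.{u} ℤ) g (eN n) = eN (g n) := rh_single _ g n 1

theorem ringHom_ext_eN {χ χ' : MonoidAlgebra (ULift.{u} ℤ) (Multiplicative N) →+* K}
    (h : ∀ n : N, χ (eN n) = χ' (eN n)) : χ = χ' := by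
  refine MonoidAlgebra.ringHom_ext (fun r => ?_) (fun m => ?_)
  · exact DFunLike.congr_fun (ulift_ringHom_ext (χ.comp MonoidAlgebra.singleOneRingHom)
      (χ'.comp MonoidAlgebra.singleOneRingHom)) r
  · obtain ⟨n, rfl⟩ := Multiplicative.ofAdd.surjective m
    exact h n

/-- the coefficient map `ℤ → K` -/
def cK (K : Type u) [CommRing K] : ULift.{u} ℤ →+* K :=
  (Int.castRingHom K).comp (ULift.ringEquiv : ULift.{u} ℤ ≃+* ℤ).toRingHom

theorem cK_one : cK K (1 : ULift.{u} ℤ) = 1 := map_one _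

/-- the monoid map `(n, n') ↦ χ(e^n) χ'(e^{n'})` -/
def mu2 (χ : MonoidAlgebra (ULift.{u} ℤ) (Multiplicative N) →+* K)
    (χ' : MonoidAlgebra (ULift.{u} ℤ) (Multiplicative N') →+* K) : Multiplicative (N × N') →* K where
  toFun x := χ (eN (Multiplicative.toAdd x).1) * χ' (eN (Multiplicative.toAdd x).2)
  map_one' := by
    change χ (eN (0 : N)) * χ' (eN (0 : N')) = 1
    rw [eN_zero, eN_zero, map_one, map_one, _root_.one_mul]
  map_mul' x y := by
    change χ (eN ((Multiplicative.toAdd x).1 + (Multiplicative.toAdd y).1)) *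
      χ' (eN ((Multiplicative.toAdd x).2 + (Multiplicative.toAdd y).2)) = _
    rw [eN_add, eN_add, map_mul, map_mul]
    ring

/-- the ring map `ℤ[N × N'] → K`, `e^(n,n') ↦ χ(e^n) χ'(e^{n'})` -/
def Xi (χ : MonoidAlgebra (ULift.{u} ℤ) (Multiplicative N) →+* K)
    (χ' : MonoidAlgebra (ULift.{u} ℤ) (Multiplicative N') →+* K) :
    MonoidAlgebra (ULift.{u} ℤ) (Multiplicative (N × N')) →+* K :=
  MonoidAlgebra.liftNCRingHom (cK K) (mu2 χ χ') (fun _ _ => Commute.all _ _)

theorem Xi_eN (χ : MonoidAlgebra (ULift.{u} ℤ) (Multiplicative N) →+* K)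
    (χ' : MonoidAlgebra (ULift.{u} ℤ) (Multiplicative N') →+* K) (x : N × N') :
    Xi χ χ' (eN x) = χ (eN x.1) * χ' (eN x.2) := by
  unfold Xi eN
  rw [MonoidAlgebra.liftNCRingHom_single, cK_one, _root_.one_mul]
  rfl

theorem Xi_comp_inl (χ : MonoidAlgebra (ULift.{u} ℤ) (Multiplicative N) →+* K)
    (χ' : MonoidAlgebra (ULift.{u} ℤ) (Multiplicative N') →+* K) :
    (Xi χ χ').comp (rh (ULift.{u} ℤ) (AddMonoidHom.inl N N')) = χ := by
  apply ringHom_ext_eN
  intro n
  rw [RingHom.comp_apply, rh_eN, Xi_eN]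
  change χ (eN n) * χ' (eN 0) = _
  rw [eN_zero, map_one, _root_.mul_one]

theorem Xi_comp_inr (χ : MonoidAlgebra (ULift.{u} ℤ) (Multiplicative N) →+* K)
    (χ' : MonoidAlgebra (ULift.{u} ℤ) (Multiplicative N') →+* K) :
    (Xi χ χ').comp (rh (ULift.{u} ℤ) (AddMonoidHom.inr N N')) = χ' := by
  apply ringHom_ext_eN
  intro n
  rw [RingHom.comp_apply, rh_eN, Xi_eN]
  change χ (eN 0) * χ' (eN n) = _
  rw [eN_zero, map_one, _root_.one_mul]

/-- the convolution product of two ring maps `ℤ[N] → K` -/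
def conv (χ χ' : MonoidAlgebra (ULift.{u} ℤ) (Multiplicative N) →+* K) :
    MonoidAlgebra (ULift.{u} ℤ) (Multiplicative N) →+* K :=
  (Xi χ χ').comp (rh (ULift.{u} ℤ) (AddMonoidHom.inl N N + AddMonoidHom.inr N N))

theorem conv_eN (χ χ' : MonoidAlgebra (ULift.{u} ℤ) (Multiplicative N) →+* K) (n : N) :
    conv χ χ' (eN n) = χ (eN n) * χ' (eN n) := by
  unfold conv
  rw [RingHom.comp_apply, rh_eN, Xi_eN]
  change χ (eN (n + 0)) * χ' (eN (0 + n)) = _
  rw [add_zero, zero_add]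

end Alg

section Pts
variable {S : Scheme.{u}} {K : CommRingCat.{u}} (f : Spec K ⟶ S) {N N' : Type} [AddCommMonoid N]
  [AddCommMonoid N']

/-- the point of `A(N)_S` over `Spec K` given by a ring map `ℤ[N] → K`. -/
def ptK (χ : MonoidAlgebra (ULift.{u} ℤ) (Multiplicative N) →+* K) : Over.mk f ⟶ AMonS S N :=
  (Over.mapPullbackAdj (Limits.IsTerminal.from specULiftZIsTerminal S)).homEquiv (Over.mk f)
    (AMon (ULift.{u} ℤ) N)
    (Over.homMk (Spec.map (CommRingCat.ofHom χ)) (specULiftZIsTerminal.hom_ext _ _))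

theorem exists_eq_ptK (m : Over.mk f ⟶ AMonS S N) : ∃ χ, m = ptK f χ := by
  let adj := Over.mapPullbackAdj (Limits.IsTerminal.from specULiftZIsTerminal S)
  let mh : (Over.map (Limits.IsTerminal.from specULiftZIsTerminal S)).obj (Over.mk f) ⟶
      AMon (ULift.{u} ℤ) N := (adj.homEquiv (Over.mk f) (AMon (ULift.{u} ℤ) N)).symm m
  let w : Spec K ⟶ Spec (CommRingCat.of (MonoidAlgebra (ULift.{u} ℤ) (Multiplicative N))) := mh.left
  refine ⟨(Spec.preimage w).hom, ?_⟩
  have e : mh = Over.homMk (Spec.map (CommRingCat.ofHom (Spec.preimage w).hom))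
      (specULiftZIsTerminal.hom_ext _ _) := by
    apply Over.OverMorphism.ext
    change w = Spec.map (CommRingCat.ofHom (Spec.preimage w).hom)
    rw [CommRingCat.ofHom_hom, Spec.map_preimage]
  unfold ptK
  rw [← e]
  exact (Equiv.apply_symm_apply _ _).symm

theorem ptK_comp_map (g : N' →+ N) (χ : MonoidAlgebra (ULift.{u} ℤ) (Multiplicative N) →+* K) :
    ptK f χ ≫ AMonS.map S g = ptK f (χ.comp (rh (ULift.{u} ℤ) g)) := by
  have e : (Over.homMk (Spec.map (CommRingCat.ofHom χ)) (specULiftZIsTerminal.hom_ext _ _) :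
      (Over.map (Limits.IsTerminal.from specULiftZIsTerminal S)).obj (Over.mk f) ⟶
        AMon (ULift.{u} ℤ) N) ≫ AMon.map (ULift.{u} ℤ) g =
      Over.homMk (Spec.map (CommRingCat.ofHom (χ.comp (rh (ULift.{u} ℤ) g))))
        (specULiftZIsTerminal.hom_ext _ _) := by
    apply Over.OverMorphism.ext
    change Spec.map (CommRingCat.ofHom χ) ≫ Spec.map (CommRingCat.ofHom (rh (ULift.{u} ℤ) g)) =
      Spec.map _
    rw [← Spec.map_comp, ← CommRingCat.ofHom_comp]
  unfold ptK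
  rw [← e]
  exact ((Over.mapPullbackAdj (Limits.IsTerminal.from specULiftZIsTerminal S)).homEquiv_naturality_right
    _ (AMon.map (ULift.{u} ℤ) g)).symm

theorem homMk_comp_ptK {K' : CommRingCat.{u}} (θ : K ⟶ K') (f' : Spec K' ⟶ S)
    (w : Spec.map θ ≫ f = f') (χ : MonoidAlgebra (ULift.{u} ℤ) (Multiplicative N) →+* K) :
    (Over.homMk (Spec.map θ) w : Over.mk f' ⟶ Over.mk f) ≫ ptK f χ = ptK f' (θ.hom.comp χ) := by
  have e : (Over.map (Limits.IsTerminal.from specULiftZIsTerminal S)).map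
      (Over.homMk (Spec.map θ) w : Over.mk f' ⟶ Over.mk f) ≫
      (Over.homMk (Spec.map (CommRingCat.ofHom χ)) (specULiftZIsTerminal.hom_ext _ _) :
      (Over.map (Limits.IsTerminal.from specULiftZIsTerminal S)).obj (Over.mk f) ⟶
        AMon (ULift.{u} ℤ) N) =
      Over.homMk (Spec.map (CommRingCat.ofHom (θ.hom.comp χ)))
        (specULiftZIsTerminal.hom_ext _ _) := by
    apply Over.OverMorphism.ext
    change Spec.map θ ≫ Spec.map (CommRingCat.ofHom χ) = Spec.map _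
    rw [← Spec.map_comp]
    rfl
  unfold ptK
  rw [← e]
  exact ((Over.mapPullbackAdj (Limits.IsTerminal.from specULiftZIsTerminal S)).homEquiv_naturality_left
    _ _).symm

theorem ptK_mul (χ χ' : MonoidAlgebra (ULift.{u} ℤ) (Multiplicative N) →+* K) :
    ptK f χ * ptK f χ' = ptK f (conv χ χ') := by
  have e1 : ptK f χ = ptK f (N := N × N) (Xi χ χ') ≫ AMonS.map S (AddMonoidHom.inl N N) := by
    rw [ptK_comp_map f (AddMonoidHom.inl N N) (Xi χ χ'), Xi_comp_inl]
  have e2 : ptK f χ' = ptK f (N := N × N) (Xi χ χ') ≫ AMonS.map S (AddMonoidHom.inr N N) := by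
    rw [ptK_comp_map f (AddMonoidHom.inr N N) (Xi χ χ'), Xi_comp_inr]
  have e3 : ptK f (conv χ χ') = ptK f (N := N × N) (Xi χ χ') ≫
      AMonS.map S (AddMonoidHom.inl N N + AddMonoidHom.inr N N) :=
    (ptK_comp_map f (AddMonoidHom.inl N N + AddMonoidHom.inr N N) (Xi χ χ')).symm
  rw [e1, e2, e3, AMonS_map_add, MonObj.comp_mul]

theorem ptK_comp_zero (χ : MonoidAlgebra (ULift.{u} ℤ) (Multiplicative N) →+* K) :
    ptK f (χ.comp (rh (ULift.{u} ℤ) (0 : N →+ N))) = 1 := by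
  rw [← ptK_comp_map, AMonS_map_zero, MonObj.comp_one]

end Pts

/-! ### The affine line `A(multiples 1)` -/

section Line

/-- the magnet `ℕ ⊂ ℤ` -/
abbrev N₁ : AddSubmonoid ℤ := AddSubmonoid.multiples (1 : ℤ)

/-- the generator `1` of `N₁` -/
def gen : ↥N₁ := ⟨1, AddSubmonoid.mem_multiples 1⟩

theorem nonneg_of_mem (n : ↥N₁) : 0 ≤ (n : ℤ) := by
  obtain ⟨k, hk⟩ := (AddSubmonoid.mem_multiples_iff _ _).mp n.2
  rw [← hk]
  simp

theorem eq_nsmul_gen (n : ↥N₁) : ∃ k : ℕ, n = k • gen := by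
  obtain ⟨k, hk⟩ := (AddSubmonoid.mem_multiples_iff _ _).mp n.2
  refine ⟨k, Subtype.ext ?_⟩
  rw [← hk]
  exact (AddSubmonoidClass.coe_nsmul gen k).symm

variable {K : Type u} [CommRing K]

theorem ringHom_ext_gen {χ χ' : MonoidAlgebra (ULift.{u} ℤ) (Multiplicative ↥N₁) →+* K}
    (h : χ (eN gen) = χ' (eN gen)) : χ = χ' := by
  apply ringHom_ext_eN
  intro n
  obtain ⟨k, rfl⟩ := eq_nsmul_gen n
  rw [eN_nsmul, map_pow, map_pow, h]

/-- `n ↦ r^n` -/
def powHom (r : K) : Multiplicative ↥N₁ →* K where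
  toFun x := r ^ ((Multiplicative.toAdd x : ↥N₁) : ℤ).toNat
  map_one' := by
    change r ^ ((0 : ℤ)).toNat = 1
    simp
  map_mul' x y := by
    change r ^ (((Multiplicative.toAdd x : ↥N₁) : ℤ) + ((Multiplicative.toAdd y : ↥N₁) : ℤ)).toNat = _
    rw [Int.toNat_add (nonneg_of_mem _) (nonneg_of_mem _), pow_add]

/-- the ring map `ℤ[ℕ] → K`, `e^1 ↦ r` -/
def chiR (r : K) : MonoidAlgebra (ULift.{u} ℤ) (Multiplicative ↥N₁) →+* K :=
  MonoidAlgebra.liftNCRingHom (cK K) (powHom r) (fun _ _ => Commute.all _ _)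

theorem chiR_gen (r : K) : chiR r (eN gen) = r := by
  unfold chiR eN
  rw [MonoidAlgebra.liftNCRingHom_single, cK_one, _root_.one_mul]
  change r ^ ((1 : ℤ)).toNat = r
  simp

theorem eq_chiR (χ : MonoidAlgebra (ULift.{u} ℤ) (Multiplicative ↥N₁) →+* K) :
    χ = chiR (χ (eN gen)) :=
  ringHom_ext_gen (chiR_gen _).symm

theorem conv_chiR (r r' : K) : conv (chiR r) (chiR r') = chiR (r * r') := by
  apply ringHom_ext_gen
  rw [conv_eN, chiR_gen, chiR_gen, chiR_gen]

theorem chiR_comp_zero (r : K) :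
    (chiR r).comp (rh (ULift.{u} ℤ) (0 : ↥N₁ →+ ↥N₁)) = chiR (1 : K) := by
  apply ringHom_ext_gen
  rw [RingHom.comp_apply, rh_eN, chiR_gen]
  change chiR r (eN 0) = 1
  rw [eN_zero, map_one]

theorem comp_chiR {K' : Type u} [CommRing K'] (θ : K →+* K') (r : K) :
    θ.comp (chiR r) = chiR (θ r) := by
  apply ringHom_ext_gen
  rw [RingHom.comp_apply, chiR_gen, chiR_gen]

/-- `n ↦ u^n` for a unit `u` -/
def zpowHom (u : Kˣ) : Multiplicative ℤ →* K := (Units.coeHom K).comp (zpowersHom Kˣ u)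

/-- the ring map `ℤ[ℤ] → K`, `e^1 ↦ u` -/
def chiU (u : Kˣ) : MonoidAlgebra (ULift.{u} ℤ) (Multiplicative ℤ) →+* K :=
  MonoidAlgebra.liftNCRingHom (cK K) (zpowHom u) (fun _ _ => Commute.all _ _)

theorem chiU_comp_subtype (u : Kˣ) :
    (chiU u).comp (rh (ULift.{u} ℤ) (N₁.subtype)) = chiR (u : K) := by
  apply ringHom_ext_gen
  rw [RingHom.comp_apply, rh_eN, chiR_gen]
  unfold chiU eN
  rw [MonoidAlgebra.liftNCRingHom_single, cK_one, _root_.one_mul]
  change ((zpowersHom Kˣ u (Multiplicative.ofAdd (1 : ℤ)) : Kˣ) : K) = u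
  rw [zpowersHom_apply, toAdd_ofAdd, zpow_one]

end Line

section LinePts
variable {S : Scheme.{u}} {K : CommRingCat.{u}} (f : Spec K ⟶ S)

/-- the point `r` of the affine line -/
def pt (r : K) : Over.mk f ⟶ AMonS S ↥N₁ := ptK f (chiR r)

theorem exists_eq_pt (m : Over.mk f ⟶ AMonS S ↥N₁) : ∃ r : K, m = pt f r := by
  obtain ⟨χ, rfl⟩ := exists_eq_ptK f m
  exact ⟨χ (eN gen), by rw [pt, ← eq_chiR]⟩

theorem pt_mul (r r' : K) : pt f r * pt f r' = pt f (r * r') := by
  unfold pt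
  rw [ptK_mul, conv_chiR]

theorem pt_one : pt f (1 : K) = 1 := by
  unfold pt
  rw [← chiR_comp_zero (1 : K), ptK_comp_zero]

theorem pt_pow (r : K) (n : ℕ) : pt f r ^ n = pt f (r ^ n) := by
  induction n with
  | zero => rw [pow_zero, pow_zero, pt_one]
  | succ n ih => rw [pow_succ, pow_succ, ih, pt_mul]

theorem pt_zero_mul (m : Over.mk f ⟶ AMonS S ↥N₁) : pt f (0 : K) * m = pt f 0 := by
  obtain ⟨r, rfl⟩ := exists_eq_pt f m
  rw [pt_mul, zero_mul]

theorem homMk_comp_pt {K' : CommRingCat.{u}} (θ : K ⟶ K') (f' : Spec K' ⟶ S)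
    (w : Spec.map θ ≫ f = f') (r : K) :
    (Over.homMk (Spec.map θ) w : Over.mk f' ⟶ Over.mk f) ≫ pt f r = pt f' (θ.hom r) := by
  unfold pt
  rw [homMk_comp_ptK, comp_chiR]

/-- the point `u` of `G_m` -/
def gpt (u : Kˣ) : Over.mk f ⟶ AMonS S ℤ := ptK f (chiU u)

theorem gpt_comp (u : Kˣ) : gpt f u ≫ AMonS.map S N₁.subtype = pt f (u : K) := by
  unfold gpt pt
  rw [ptK_comp_map, chiU_comp_subtype]

end LinePts

end Groth.Agent.Lib.Helper29.MagnetBBPts
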