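import Mathlib
import Groth.Prelude.Def_Magnet4
import Groth.Agent.Lib.Helper29.MagnetBBAlg
import Groth.Agent.Lib.Helper29.MagnetBBGeom
import Groth.Agent.Lib.Helper29.MagnetBBPts

/-!
# Injectivity of the map from the Białynicki-Birula functor to its formal version (S18963) (helper29)

Two `G_m`-equivariant maps `A¹ × Y → X` which agree on all nilpotent points of `A¹` are equal.  Proof: it suffices to compare
them on points with values in local rings `O` (`MagnetBBGeom.hom_ext_of_fromSpecStalk`).  Over `O₁ = O[s]_{(𝔪, s)}` the point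
`(s, y)` is a limit of nilpotent points (`s`-adic separatedness of `O₁`), which gives the points `(a, y)` with `a ∈ 𝔪` by
specialisation `s ↦ a`; over `O' = O[s]_{𝔪[s]}` the coordinate `s` becomes a unit, and equivariance gives the point `(1, y)`
over `O'`, hence over `O` since `O → O'` is an injective local homomorphism; equivariance again gives all `(a, y)` with `a` a unit.
-/
set_option autoImplicit false
set_option maxHeartbeats 1600000
set_option linter.style.haveILetI false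
universe u
open CategoryTheory CategoryTheory.Limits MonoidalCategory CartesianMonoidalCategory MonObj
  AlgebraicGeometry Opposite

noncomputable section

namespace Groth.Agent.Lib.Helper29.MagnetBB

open Magnet MagnetBBAlg MagnetBBGeom MagnetBBPts

theorem act_cancel {C : Type*} [Category C] [CartesianMonoidalCategory C] {G X T : C} [GrpObj G]
    (a : MonAct G X) (g : T ⟶ G) (z₁ z₂ : T ⟶ X)
    (h : lift g z₁ ≫ a.act = lift g z₂ ≫ a.act) : z₁ = z₂ := by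
  have e : ∀ z : T ⟶ X, lift g⁻¹ (lift g z ≫ a.act) ≫ a.act = z := fun z => by
    rw [← MonAct.lift_mul_act, inv_mul_cancel, MonAct.lift_one_act]
  rw [← e z₁, h, e z₂]

theorem lift_subAct_act (S : Scheme.{u}) (M : Type) [AddCommMonoid M] (N : AddSubmonoid M)
    {T : Over S} (g : T ⟶ AMonS S M) (b : T ⟶ AMonS S ↥N) :
    lift g b ≫ (subAct S M N).act = (g ≫ AMonS.map S N.subtype) * b := by
  rw [subAct, MonAct.lift_restrict_act, MonAct.lift_regular_act]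

section Main
variable {S : Scheme.{u}} {X Y : Over S} (a : AlgGrp.Action (Red.DS S ℤ) X)
  (γ₁ γ₂ : (Magnet.attr (Magnet.MonAct.ofAction a) (AddSubmonoid.multiples (1 : ℤ))).obj (op Y))

/-- equivariance at a point of `G_m` given by a unit -/
theorem eqv_gpt (φ : (Magnet.attr (Magnet.MonAct.ofAction a) (AddSubmonoid.multiples (1 : ℤ))).obj (op Y))
    {K : CommRingCat.{u}} (f : Spec K ⟶ S) (u : Kˣ) (t : Over.mk f ⟶ Y) :
    lift (pt f (u : K)) t ≫ φ.1 =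
      lift (gpt f u) (lift (1 : Over.mk f ⟶ AMonS S ↥N₁) t ≫ φ.1) ≫ (Magnet.MonAct.ofAction a).act := by
  have h1 := ((MonAct.mem_eqvHom_iff _).mp φ.2) (Over.mk f) (gpt f u) 1 t
  rw [lift_subAct_act, gpt_comp, _root_.mul_one] at h1
  exact h1

variable (H : ∀ (T : Over S) (m : T ⟶ Magnet.AMonS S (AddSubmonoid.multiples (1 : ℤ))) (t : T ⟶ Y),
      (∃ n : ℕ, ∀ m' : T ⟶ Magnet.AMonS S (AddSubmonoid.multiples (1 : ℤ)),
        m ^ (n + 1) * m' = m ^ (n + 1)) →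
      lift m t ≫ γ₁.1 = lift m t ≫ γ₂.1)

include H

/-- nilpotent points -/
theorem stepA {K : CommRingCat.{u}} (f : Spec K ⟶ S) (r : K) (n : ℕ) (hr : r ^ (n + 1) = 0)
    (t : Over.mk f ⟶ Y) : lift (pt f r) t ≫ γ₁.1 = lift (pt f r) t ≫ γ₂.1 := by
  apply H
  refine ⟨n, fun m' => ?_⟩
  rw [pt_pow, hr, pt_zero_mul]

/-- points over a local ring with `s`-adically separated coordinate `s ∈ 𝔪` -/
theorem stepB {K : CommRingCat.{u}} [IsLocalRing K] (f : Spec K ⟶ S) (s : K)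
    (hs : s ∈ IsLocalRing.maximalIdeal K) (hsep : ∀ z : K, (∀ n : ℕ, s ^ n ∣ z) → z = 0)
    (t : Over.mk f ⟶ Y) : lift (pt f s) t ≫ γ₁.1 = lift (pt f s) t ≫ γ₂.1 := by
  apply Over.OverMorphism.ext
  apply hom_ext_of_local_adic s hs hsep
  intro n
  let q : K ⟶ CommRingCat.of (K ⧸ Ideal.span {s ^ (n + 1)}) :=
    CommRingCat.ofHom (Ideal.Quotient.mk (Ideal.span {s ^ (n + 1)}))
  let u : Over.mk (Spec.map q ≫ f) ⟶ Over.mk f := Over.homMk (Spec.map q) rfl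
  have hq : (q.hom s) ^ (n + 1) = 0 := by
    change (Ideal.Quotient.mk (Ideal.span {s ^ (n + 1)}) s) ^ (n + 1) = 0
    rw [← map_pow]
    exact Ideal.Quotient.eq_zero_iff_mem.mpr (Ideal.mem_span_singleton_self _)
  have hA := stepA a γ₁ γ₂ H (Spec.map q ≫ f) (q.hom s) n hq (u ≫ t)
  have e : ∀ φ : AMonS S ↥N₁ ⊗ Y ⟶ X, u ≫ lift (pt f s) t ≫ φ =
      lift (pt (Spec.map q ≫ f) (q.hom s)) (u ≫ t) ≫ φ := by
    intro φ
    have e0 : u ≫ pt f s = pt (Spec.map q ≫ f) (q.hom s) := homMk_comp_pt f q _ rfl s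
    rw [← Category.assoc, comp_lift, e0]
  have e3 : u ≫ lift (pt f s) t ≫ γ₁.1 = u ≫ lift (pt f s) t ≫ γ₂.1 := by
    rw [e, e, hA]
  exact congrArg (fun ψ => ψ.left) e3

section Local
variable {K : CommRingCat.{u}} [IsLocalRing K] (f : Spec K ⟶ S)

/-- the point `(s, y)` over `O₁` -/
theorem stepB₁ (t : Over.mk f ⟶ Y) :
    lift (pt (Spec.map (CommRingCat.ofHom (θ₁ K) : K ⟶ CommRingCat.of (O₁ K)) ≫ f) (s₁ K))
        ((Over.homMk (Spec.map (CommRingCat.ofHom (θ₁ K) : K ⟶ CommRingCat.of (O₁ K))) rfl :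
          Over.mk (Spec.map (CommRingCat.ofHom (θ₁ K) : K ⟶ CommRingCat.of (O₁ K)) ≫ f) ⟶ Over.mk f) ≫ t) ≫
        γ₁.1 =
      lift (pt (Spec.map (CommRingCat.ofHom (θ₁ K) : K ⟶ CommRingCat.of (O₁ K)) ≫ f) (s₁ K))
        ((Over.homMk (Spec.map (CommRingCat.ofHom (θ₁ K) : K ⟶ CommRingCat.of (O₁ K))) rfl :
          Over.mk (Spec.map (CommRingCat.ofHom (θ₁ K) : K ⟶ CommRingCat.of (O₁ K)) ≫ f) ⟶ Over.mk f) ≫ t) ≫
        γ₂.1 :=
  stepB a γ₁ γ₂ H (K := CommRingCat.of (O₁ K)) _ (s₁ K) (s₁_mem K) (eq_zero_of_forall_pow_dvd K) _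

/-- points `(a, y)` with `a ∈ 𝔪` -/
theorem stepC0 (r : K) (hr : r ∈ IsLocalRing.maximalIdeal K) (t : Over.mk f ⟶ Y) :
    lift (pt f r) t ≫ γ₁.1 = lift (pt f r) t ≫ γ₂.1 := by
  let θ : K ⟶ CommRingCat.of (O₁ K) := CommRingCat.ofHom (θ₁ K)
  let u₁ : Over.mk (Spec.map θ ≫ f) ⟶ Over.mk f := Over.homMk (Spec.map θ) rfl
  have hB : lift (pt (Spec.map θ ≫ f) (s₁ K)) (u₁ ≫ t) ≫ γ₁.1 =
      lift (pt (Spec.map θ ≫ f) (s₁ K)) (u₁ ≫ t) ≫ γ₂.1 := stepB₁ a γ₁ γ₂ H f t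
  let σ' : CommRingCat.of (O₁ K) ⟶ K := CommRingCat.ofHom (σ K r hr)
  have hθσ : θ ≫ σ' = 𝟙 K := by
    ext c
    exact σ_θ₁ K r hr c
  have w : Spec.map σ' ≫ Spec.map θ ≫ f = f := by
    rw [← Category.assoc, ← Spec.map_comp, hθσ, Spec.map_id, Category.id_comp]
  let v : Over.mk f ⟶ Over.mk (Spec.map θ ≫ f) := Over.homMk (Spec.map σ') w
  have hv : v ≫ u₁ = 𝟙 _ := by
    apply Over.OverMorphism.ext
    change Spec.map σ' ≫ Spec.map θ = 𝟙 _
    rw [← Spec.map_comp, hθσ, Spec.map_id]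
  have hσs : σ'.hom (s₁ K) = r := σ_s₁ K r hr
  have e : ∀ φ : AMonS S ↥N₁ ⊗ Y ⟶ X, v ≫ lift (pt (Spec.map θ ≫ f) (s₁ K)) (u₁ ≫ t) ≫ φ =
      lift (pt f r) t ≫ φ := by
    intro φ
    have e0 : v ≫ pt (Spec.map θ ≫ f) (s₁ K) = pt f (σ'.hom (s₁ K)) :=
      homMk_comp_pt (Spec.map θ ≫ f) σ' f w (s₁ K)
    rw [← Category.assoc, comp_lift, e0, hσs, ← Category.assoc, hv, Category.id_comp]
  rw [← e, ← e, hB]

/-- the points `(1, y)` -/
theorem stepC1 (t : Over.mk f ⟶ Y) :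
    lift (1 : Over.mk f ⟶ AMonS S ↥N₁) t ≫ γ₁.1 = lift (1 : Over.mk f ⟶ AMonS S ↥N₁) t ≫ γ₂.1 := by
  let θ : K ⟶ CommRingCat.of (O₁ K) := CommRingCat.ofHom (θ₁ K)
  let u₁ : Over.mk (Spec.map θ ≫ f) ⟶ Over.mk f := Over.homMk (Spec.map θ) rfl
  have hB : lift (pt (Spec.map θ ≫ f) (s₁ K)) (u₁ ≫ t) ≫ γ₁.1 =
      lift (pt (Spec.map θ ≫ f) (s₁ K)) (u₁ ≫ t) ≫ γ₂.1 := stepB₁ a γ₁ γ₂ H f t
  let τ' : CommRingCat.of (O₁ K) ⟶ CommRingCat.of (O' K) := CommRingCat.ofHom (τ K)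
  let j : K ⟶ CommRingCat.of (O' K) := CommRingCat.ofHom (ι' K)
  have hθτ : θ ≫ τ' = j := by
    ext c
    exact τ_θ₁ K c
  let u' : Over.mk (Spec.map j ≫ f) ⟶ Over.mk f := Over.homMk (Spec.map j) rfl
  have w' : Spec.map τ' ≫ Spec.map θ ≫ f = Spec.map j ≫ f := by
    rw [← Category.assoc, ← Spec.map_comp, hθτ]
  let v' : Over.mk (Spec.map j ≫ f) ⟶ Over.mk (Spec.map θ ≫ f) := Over.homMk (Spec.map τ') w'
  have hv' : v' ≫ u₁ = u' := by
    apply Over.OverMorphism.ext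
    change Spec.map τ' ≫ Spec.map θ = Spec.map j
    rw [← Spec.map_comp, hθτ]
  let su : (CommRingCat.of (O' K))ˣ := (isUnit_τ_s₁ K).unit
  have hsu : τ'.hom (s₁ K) = (su : CommRingCat.of (O' K)) := (isUnit_τ_s₁ K).unit_spec.symm
  have e : ∀ φ : AMonS S ↥N₁ ⊗ Y ⟶ X, v' ≫ lift (pt (Spec.map θ ≫ f) (s₁ K)) (u₁ ≫ t) ≫ φ =
      lift (pt (Spec.map j ≫ f) (su : CommRingCat.of (O' K))) (u' ≫ t) ≫ φ := by
    intro φ
    have e0 : v' ≫ pt (Spec.map θ ≫ f) (s₁ K) = pt (Spec.map j ≫ f) (τ'.hom (s₁ K)) :=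
      homMk_comp_pt (Spec.map θ ≫ f) τ' (Spec.map j ≫ f) w' (s₁ K)
    rw [← Category.assoc, comp_lift, e0, hsu, ← Category.assoc, hv']
  have E : lift (pt (Spec.map j ≫ f) (su : CommRingCat.of (O' K))) (u' ≫ t) ≫ γ₁.1 =
      lift (pt (Spec.map j ≫ f) (su : CommRingCat.of (O' K))) (u' ≫ t) ≫ γ₂.1 := by
    rw [← e, ← e, hB]
  rw [eqv_gpt a γ₁, eqv_gpt a γ₂] at E
  have E2 := act_cancel (Magnet.MonAct.ofAction a) (gpt (Spec.map j ≫ f) su) _ _ E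
  have e4 : lift (1 : Over.mk (Spec.map j ≫ f) ⟶ AMonS S ↥N₁) (u' ≫ t) =
      u' ≫ lift (1 : Over.mk f ⟶ AMonS S ↥N₁) t := by
    rw [comp_lift, MonObj.comp_one]
  rw [e4, Category.assoc, Category.assoc] at E2
  haveI : IsLocalHom j.hom := isLocalHom_ι' K
  apply Over.OverMorphism.ext
  apply hom_ext_of_local_injective j (ι'_injective K)
  exact congrArg (fun ψ => ψ.left) E2

/-- all points with values in a local ring -/
theorem stepC (m : Over.mk f ⟶ AMonS S ↥N₁) (t : Over.mk f ⟶ Y) :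
    lift m t ≫ γ₁.1 = lift m t ≫ γ₂.1 := by
  obtain ⟨r, rfl⟩ := exists_eq_pt f m
  by_cases hr : r ∈ IsLocalRing.maximalIdeal K
  · exact stepC0 a γ₁ γ₂ H f r hr t
  · have hu : IsUnit r := IsLocalRing.notMem_maximalIdeal.mp hr
    have e1 := eqv_gpt a γ₁ f hu.unit t
    have e2 := eqv_gpt a γ₂ f hu.unit t
    rw [hu.unit_spec] at e1 e2
    rw [e1, e2, stepC1 a γ₁ γ₂ H f t]

end Local

theorem eq_of_forall_nilpotent : γ₁ = γ₂ := by
  apply Subtype.ext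
  apply Over.OverMorphism.ext
  apply hom_ext_of_fromSpecStalk
  intro p
  let P : Scheme.{u} := (AMonS S ↥N₁ ⊗ Y).left
  let z : Over.mk (P.fromSpecStalk p ≫ (AMonS S ↥N₁ ⊗ Y).hom) ⟶ AMonS S ↥N₁ ⊗ Y :=
    Over.homMk (P.fromSpecStalk p) rfl
  have hz : z = lift (z ≫ fst _ _) (z ≫ snd _ _) := by
    rw [← comp_lift, lift_fst_snd, Category.comp_id]
  have h1 := stepC a γ₁ γ₂ H (K := P.presheaf.stalk p)
    (P.fromSpecStalk p ≫ (AMonS S ↥N₁ ⊗ Y).hom) (z ≫ fst _ _) (z ≫ snd _ _)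
  rw [← hz] at h1
  exact congrArg (fun ψ => ψ.left) h1

end Main

theorem main18963 (k : Type u) [Field k]
    (X Y : Over (Spec (CommRingCat.of k))) (a : AlgGrp.Action (Red.DS (Spec (CommRingCat.of k)) ℤ) X)
    (γ₁ γ₂ : (Magnet.attr (Magnet.MonAct.ofAction a) (AddSubmonoid.multiples (1 : ℤ))).obj (op Y))
    (h : ∀ (T : Over (Spec (CommRingCat.of k))) (m : T ⟶ Magnet.AMonS (Spec (CommRingCat.of k)) (AddSubmonoid.multiples (1 : ℤ))) (t : T ⟶ Y),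
      (∃ n : ℕ, ∀ m' : T ⟶ Magnet.AMonS (Spec (CommRingCat.of k)) (AddSubmonoid.multiples (1 : ℤ)), m ^ (n + 1) * m' = m ^ (n + 1)) →
      CartesianMonoidalCategory.lift m t ≫ γ₁.1 = CartesianMonoidalCategory.lift m t ≫ γ₂.1) :
    γ₁ = γ₂ :=
  eq_of_forall_nilpotent a γ₁ γ₂ h

end Groth.Agent.Lib.Helper29.MagnetBB
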