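import Mathlib
import Groth.Prelude.Def_Magnet4
import Groth.Agent.Lib.Helper29.MagnetFix

/-!
# Characters of the diagonalizable monoid scheme are multiplicative (helper29)

For points `P₁ P₂ : T' ⟶ A(M)_S` the monomial function `Xᵐ` pulled back along `P₁ * P₂` is the
product of its pullbacks along `P₁` and `P₂`.
-/
set_option autoImplicit false
set_option maxHeartbeats 1600000
set_option linter.style.haveILetI false
universe u
open CategoryTheory CategoryTheory.Limits MonoidalCategory CartesianMonoidalCategory MonObj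
  AlgebraicGeometry Opposite

noncomputable section

namespace Groth.Agent.Lib.Helper29.MagnetChar

open Magnet

theorem ulift_int_ringHom_ext {K : Type*} [Ring K] (f g : ULift.{u} ℤ →+* K) : f = g := by
  apply RingHom.ext
  intro x
  have hx : x = ((x.down : ℤ) : ULift.{u} ℤ) := by
    apply ULift.ext; simp
  rw [hx, map_intCast, map_intCast]

theorem inv_comp_appTop_toSpecΓ_comp {Y : Scheme.{u}} {B : CommRingCat.{u}} (gam : B ⟶ Γ(Y, ⊤)) :
    (Scheme.ΓSpecIso B).inv ≫ (Y.toSpecΓ ≫ Spec.map gam).appTop = gam := by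
  rw [Scheme.Hom.comp_appTop, ← Category.assoc, ← Scheme.ΓSpecIso_inv_naturality, Category.assoc,
    Scheme.toSpecΓ_appTop, Iso.inv_hom_id, Category.comp_id]

/-- multiplicativity of monomials over `Spec ℤ` -/
theorem chi_mul_base {M : Type} [AddCommMonoid M]
    {Y : Over (Spec (CommRingCat.of (ULift.{u} ℤ)))}
    (Q₁ Q₂ : Y ⟶ AMon (ULift.{u} ℤ) M) (m : Multiplicative M) :
    (Q₁ * Q₂).left.appTop.hom ((Scheme.ΓSpecIso (CommRingCat.of
        (MonoidAlgebra (ULift.{u} ℤ) (Multiplicative M)))).inv.hom (MonoidAlgebra.single m 1)) =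
      Q₁.left.appTop.hom ((Scheme.ΓSpecIso (CommRingCat.of
        (MonoidAlgebra (ULift.{u} ℤ) (Multiplicative M)))).inv.hom (MonoidAlgebra.single m 1)) *
      Q₂.left.appTop.hom ((Scheme.ΓSpecIso (CommRingCat.of
        (MonoidAlgebra (ULift.{u} ℤ) (Multiplicative M)))).inv.hom (MonoidAlgebra.single m 1)) := by
  obtain ⟨gam₁, hgam₁⟩ : ∃ gam : CommRingCat.of (MonoidAlgebra (ULift.{u} ℤ) (Multiplicative M)) ⟶
      Γ(Y.left, ⊤), gam = (Scheme.ΓSpecIso _).inv ≫ Q₁.left.appTop := ⟨_, rfl⟩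
  obtain ⟨gam₂, hgam₂⟩ : ∃ gam : CommRingCat.of (MonoidAlgebra (ULift.{u} ℤ) (Multiplicative M)) ⟶
      Γ(Y.left, ⊤), gam = (Scheme.ΓSpecIso _).inv ≫ Q₂.left.appTop := ⟨_, rfl⟩
  have hQ₁l : Q₁.left = Y.left.toSpecΓ ≫ Spec.map gam₁ := by
    rw [hgam₁]; exact MagnetFix.eq_toSpecΓ_comp Q₁.left
  have hQ₂l : Q₂.left = Y.left.toSpecΓ ≫ Spec.map gam₂ := by
    rw [hgam₂]; exact MagnetFix.eq_toSpecΓ_comp Q₂.left
  letI algK : Algebra (ULift.{u} ℤ) Γ(Y.left, ⊤) :=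
    Algebra.ofModule (fun r x y => smul_mul_assoc r x y) (fun r x y => mul_smul_comm r x y)
  obtain ⟨χ₁, hχ₁⟩ : ∃ χ : MonoidAlgebra (ULift.{u} ℤ) (Multiplicative M) →ₐ[ULift.{u} ℤ]
      Γ(Y.left, ⊤), χ.toRingHom = gam₁.hom :=
    ⟨⟨gam₁.hom, fun r => DFunLike.congr_fun (ulift_int_ringHom_ext
      (gam₁.hom.comp (algebraMap (ULift.{u} ℤ) (MonoidAlgebra (ULift.{u} ℤ) (Multiplicative M))))
      (algebraMap (ULift.{u} ℤ) Γ(Y.left, ⊤))) r⟩, rfl⟩
  obtain ⟨χ₂, hχ₂⟩ : ∃ χ : MonoidAlgebra (ULift.{u} ℤ) (Multiplicative M) →ₐ[ULift.{u} ℤ]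
      Γ(Y.left, ⊤), χ.toRingHom = gam₂.hom :=
    ⟨⟨gam₂.hom, fun r => DFunLike.congr_fun (ulift_int_ringHom_ext
      (gam₂.hom.comp (algebraMap (ULift.{u} ℤ) (MonoidAlgebra (ULift.{u} ℤ) (Multiplicative M))))
      (algebraMap (ULift.{u} ℤ) Γ(Y.left, ⊤))) r⟩, rfl⟩
  obtain ⟨τ, hτ⟩ : ∃ τ : Y ⟶ CoactBr.sp (ULift.{u} ℤ) Γ(Y.left, ⊤), τ.left = Y.left.toSpecΓ :=
    ⟨Over.homMk Y.left.toSpecΓ (specULiftZIsTerminal.hom_ext _ _), rfl⟩
  have hQ₁ : Q₁ = τ ≫ CoactBr.pt χ₁ := by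
    apply Over.OverMorphism.ext
    rw [Over.comp_left, hτ, CoactBr.pt_left, hχ₁]
    exact hQ₁l
  have hQ₂ : Q₂ = τ ≫ CoactBr.pt χ₂ := by
    apply Over.OverMorphism.ext
    rw [Over.comp_left, hτ, CoactBr.pt_left, hχ₂]
    exact hQ₂l
  obtain ⟨cv, hcv⟩ : ∃ cv : MonoidAlgebra (ULift.{u} ℤ) (Multiplicative M) →ₐ[ULift.{u} ℤ]
      Γ(Y.left, ⊤), cv = (Algebra.TensorProduct.lift χ₁ χ₂ fun _ _ => .all _ _).comp
        (Bialgebra.comulAlgHom (ULift.{u} ℤ) (MonoidAlgebra (ULift.{u} ℤ) (Multiplicative M))) :=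
    ⟨_, rfl⟩
  have hmul : Q₁ * Q₂ = τ ≫ CoactBr.pt cv := by
    calc Q₁ * Q₂ = (τ ≫ CoactBr.pt χ₁) * (τ ≫ CoactBr.pt χ₂) := by rw [← hQ₁, ← hQ₂]
      _ = τ ≫ (CoactBr.pt χ₁ * CoactBr.pt χ₂) := (MonObj.comp_mul _ _ _).symm
      _ = τ ≫ CoactBr.pt cv := by rw [CoactBr.pt_mul_pt, hcv]
  have hgam : (Scheme.ΓSpecIso (CommRingCat.of (MonoidAlgebra (ULift.{u} ℤ) (Multiplicative M)))).inv ≫
      (Q₁ * Q₂).left.appTop = CommRingCat.ofHom cv.toRingHom := by
    rw [hmul, Over.comp_left, hτ, CoactBr.pt_left]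
    exact inv_comp_appTop_toSpecΓ_comp (Y := Y.left) (CommRingCat.ofHom cv.toRingHom)
  have h0 := congrArg (fun ψ => ψ.hom (MonoidAlgebra.single m (1 : ULift.{u} ℤ))) hgam
  have h1 := congrArg (fun ψ => ψ.hom (MonoidAlgebra.single m (1 : ULift.{u} ℤ))) hgam₁
  have h2 := congrArg (fun ψ => ψ.hom (MonoidAlgebra.single m (1 : ULift.{u} ℤ))) hgam₂
  have k1 : χ₁ (MonoidAlgebra.single m 1) = gam₁.hom (MonoidAlgebra.single m 1) :=
    congrArg (fun r : _ →+* _ => r (MonoidAlgebra.single m 1)) hχ₁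
  have k2 : χ₂ (MonoidAlgebra.single m 1) = gam₂.hom (MonoidAlgebra.single m 1) :=
    congrArg (fun r : _ →+* _ => r (MonoidAlgebra.single m 1)) hχ₂
  have k0 : cv (MonoidAlgebra.single m 1) =
      χ₁ (MonoidAlgebra.single m 1) * χ₂ (MonoidAlgebra.single m 1) := by
    rw [hcv]
    simp [MonoidAlgebra.comul_single]
  change _ = cv (MonoidAlgebra.single m 1) at h0
  change gam₁.hom (MonoidAlgebra.single m 1) = _ at h1
  change gam₂.hom (MonoidAlgebra.single m 1) = _ at h2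
  calc _ = cv (MonoidAlgebra.single m 1) := h0
    _ = _ := by rw [k0, k1, k2, h1, h2]; rfl

/-- multiplicativity of monomials on points of `A(M)_S` -/
theorem chi_mul (S : Scheme.{u}) {M : Type} [AddCommMonoid M] {T' : Over S}
    (P₁ P₂ : T' ⟶ AMonS S M) (m : Multiplicative M) :
    ((P₁ * P₂).left ≫ pullback.fst (AMon (ULift.{u} ℤ) M).hom
        (Limits.IsTerminal.from specULiftZIsTerminal S)).appTop.hom
        ((Scheme.ΓSpecIso (CommRingCat.of
          (MonoidAlgebra (ULift.{u} ℤ) (Multiplicative M)))).inv.hom (MonoidAlgebra.single m 1)) =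
      (P₁.left ≫ pullback.fst (AMon (ULift.{u} ℤ) M).hom
        (Limits.IsTerminal.from specULiftZIsTerminal S)).appTop.hom
        ((Scheme.ΓSpecIso (CommRingCat.of
          (MonoidAlgebra (ULift.{u} ℤ) (Multiplicative M)))).inv.hom (MonoidAlgebra.single m 1)) *
      (P₂.left ≫ pullback.fst (AMon (ULift.{u} ℤ) M).hom
        (Limits.IsTerminal.from specULiftZIsTerminal S)).appTop.hom
        ((Scheme.ΓSpecIso (CommRingCat.of
          (MonoidAlgebra (ULift.{u} ℤ) (Multiplicative M)))).inv.hom (MonoidAlgebra.single m 1)) := by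
  have hmul : ∀ Q₁ Q₂ : (Over.map (Limits.IsTerminal.from specULiftZIsTerminal S)).obj T' ⟶
      AMon (ULift.{u} ℤ) M,
      (Over.mapPullbackAdj (Limits.IsTerminal.from specULiftZIsTerminal S)).homEquiv T' _ Q₁ *
        (Over.mapPullbackAdj (Limits.IsTerminal.from specULiftZIsTerminal S)).homEquiv T' _ Q₂ =
        (Over.mapPullbackAdj (Limits.IsTerminal.from specULiftZIsTerminal S)).homEquiv T' _
          (Q₁ * Q₂) := by
    intro Q₁ Q₂
    have h := MonAct.lift_homEquiv_bc_act (Limits.IsTerminal.from specULiftZIsTerminal S)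
      (MonAct.regular (AMon (ULift.{u} ℤ) M)) Q₁ Q₂
    rw [MonAct.bc_regular, MonAct.lift_regular_act, MonAct.lift_regular_act] at h
    exact h
  have hleft : ∀ P : T' ⟶ AMonS S M,
      (((Over.mapPullbackAdj (Limits.IsTerminal.from specULiftZIsTerminal S)).homEquiv T'
        (AMon (ULift.{u} ℤ) M)).symm P).left =
        P.left ≫ pullback.fst (AMon (ULift.{u} ℤ) M).hom
          (Limits.IsTerminal.from specULiftZIsTerminal S) := by
    intro P
    simp [Adjunction.homEquiv_counit]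
  have hsymm : ((Over.mapPullbackAdj _).homEquiv T' (AMon (ULift.{u} ℤ) M)).symm (P₁ * P₂) =
      ((Over.mapPullbackAdj _).homEquiv T' (AMon (ULift.{u} ℤ) M)).symm P₁ *
        ((Over.mapPullbackAdj _).homEquiv T' (AMon (ULift.{u} ℤ) M)).symm P₂ := by
    apply ((Over.mapPullbackAdj _).homEquiv T' (AMon (ULift.{u} ℤ) M)).injective
    rw [Equiv.apply_symm_apply, ← hmul, Equiv.apply_symm_apply, Equiv.apply_symm_apply]
  rw [← hleft (P₁ * P₂), ← hleft P₁, ← hleft P₂, hsymm]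
  exact chi_mul_base _ _ m

end Groth.Agent.Lib.Helper29.MagnetChar
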