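import Mathlib
import Groth.Prelude.Def_Magnet4
import Groth.Agent.Lib.Helper29.MagnetBBPts
import Groth.Agent.Lib.Helper29.MagnetChar

/-!
# Points of `A(N)_S` over an arbitrary `S`-scheme and their characters (helper29)

`chi P : ℤ[N] →+* Γ(T)` for `P : T ⟶ A(N)_S`; `P` is determined by `chi P` on monomials (`chi_ext`);
`chi` of products, composites, `AMonS.map`, `AMonS.faceMap`; the point `ptChi T χ` with `chi = χ`.
-/
set_option autoImplicit false
set_option maxHeartbeats 1600000
set_option linter.style.haveILetI false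
universe u
open CategoryTheory CategoryTheory.Limits MonoidalCategory CartesianMonoidalCategory MonObj
  AlgebraicGeometry Opposite

noncomputable section

namespace Groth.Agent.Lib.Helper29.MagnetPt

open Magnet MagnetFixAlg MagnetFix MagnetComapIso MagnetBBPts

variable {S : Scheme.{u}} {N N' : Type} [AddCommMonoid N] [AddCommMonoid N']

theorem hom_ext_AMonS {T : Over S} (P P' : T ⟶ AMonS S N)
    (h : P.left ≫ pullback.fst (AMon (ULift.{u} ℤ) N).hom
        (Limits.IsTerminal.from specULiftZIsTerminal S) =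
      P'.left ≫ pullback.fst (AMon (ULift.{u} ℤ) N).hom
        (Limits.IsTerminal.from specULiftZIsTerminal S)) : P = P' := by
  apply Over.OverMorphism.ext
  refine pullback.hom_ext h ?_
  exact (Over.w P).trans (Over.w P').symm

/-- the underlying map to `Spec ℤ[N]` of a point of `A(N)_S` -/
def wOf {T : Over S} (P : T ⟶ AMonS S N) :
    T.left ⟶ Spec (CommRingCat.of (MonoidAlgebra (ULift.{u} ℤ) (Multiplicative N))) :=
  P.left ≫ pullback.fst (AMon (ULift.{u} ℤ) N).hom
    (Limits.IsTerminal.from specULiftZIsTerminal S)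

theorem wOf_comp {T T' : Over S} (t : T' ⟶ T) (P : T ⟶ AMonS S N) :
    wOf (t ≫ P) = t.left ≫ wOf P := by
  unfold wOf
  rw [Over.comp_left, Category.assoc]

/-- the character of a point of `A(N)_S` -/
def chi {T : Over S} (P : T ⟶ AMonS S N) :
    MonoidAlgebra (ULift.{u} ℤ) (Multiplicative N) →+* Γ(T.left, ⊤) :=
  ((Scheme.ΓSpecIso (CommRingCat.of (MonoidAlgebra (ULift.{u} ℤ) (Multiplicative N)))).inv ≫
    (wOf P).appTop).hom

theorem chi_ext {T : Over S} (P P' : T ⟶ AMonS S N)
    (h : ∀ n : N, chi P (eN n) = chi P' (eN n)) : P = P' := by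
  apply hom_ext_AMonS
  have e : chi P = chi P' := ringHom_ext_eN h
  have e1 : ((Scheme.ΓSpecIso (CommRingCat.of (MonoidAlgebra (ULift.{u} ℤ)
        (Multiplicative N)))).inv ≫ (wOf P).appTop) =
      ((Scheme.ΓSpecIso (CommRingCat.of (MonoidAlgebra (ULift.{u} ℤ)
        (Multiplicative N)))).inv ≫ (wOf P').appTop) := by
    apply CommRingCat.hom_ext
    exact e
  have e2 : wOf P = wOf P' := by
    rw [eq_toSpecΓ_comp (wOf P), e1, ← eq_toSpecΓ_comp (wOf P')]
  exact e2

theorem chi_mul {T : Over S} (P P' : T ⟶ AMonS S N) (n : N) :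
    chi (P * P') (eN n) = chi P (eN n) * chi P' (eN n) :=
  MagnetChar.chi_mul S P P' (Multiplicative.ofAdd n)

theorem chi_comp {T T' : Over S} (t : T' ⟶ T) (P : T ⟶ AMonS S N) :
    chi (t ≫ P) = t.left.appTop.hom.comp (chi P) := by
  unfold chi
  rw [wOf_comp, Scheme.Hom.comp_appTop, ← Category.assoc, CommRingCat.hom_comp]

theorem map_left_fst (g : N' →+ N) :
    (AMonS.map S g).left ≫ pullback.fst (AMon (ULift.{u} ℤ) N').hom
        (Limits.IsTerminal.from specULiftZIsTerminal S) =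
      pullback.fst (AMon (ULift.{u} ℤ) N).hom (Limits.IsTerminal.from specULiftZIsTerminal S) ≫
        (AMon.map (ULift.{u} ℤ) g).left := by
  simp [AMonS.map]
  exact pullback.lift_fst _ _ _

theorem wOf_map {T : Over S} (g : N' →+ N) (P : T ⟶ AMonS S N) :
    wOf (P ≫ AMonS.map S g) = wOf P ≫ Spec.map (CommRingCat.ofHom (rh (ULift.{u} ℤ) g)) := by
  show (P ≫ AMonS.map S g).left ≫ pullback.fst (AMon (ULift.{u} ℤ) N').hom
        (Limits.IsTerminal.from specULiftZIsTerminal S) =
      (P.left ≫ pullback.fst (AMon (ULift.{u} ℤ) N).hom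
        (Limits.IsTerminal.from specULiftZIsTerminal S)) ≫ (AMon.map (ULift.{u} ℤ) g).left
  rw [Over.comp_left, Category.assoc, map_left_fst, Category.assoc]

theorem chi_map {T : Over S} (g : N' →+ N) (P : T ⟶ AMonS S N) :
    chi (P ≫ AMonS.map S g) = (chi P).comp (rh (ULift.{u} ℤ) g) := by
  unfold chi
  rw [wOf_map, Scheme.Hom.comp_appTop, ← Category.assoc, ← Scheme.ΓSpecIso_inv_naturality,
    Category.assoc, CommRingCat.hom_comp]
  rfl

theorem faceMap_left_fst {M : Type} [AddCommMonoid M] {L F : AddSubmonoid M} (hF : IsFace L F) :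
    (AMonS.faceMap S hF).left ≫ pullback.fst (AMon (ULift.{u} ℤ) ↥L).hom
        (Limits.IsTerminal.from specULiftZIsTerminal S) =
      pullback.fst (AMon (ULift.{u} ℤ) ↥F).hom (Limits.IsTerminal.from specULiftZIsTerminal S) ≫
        (AMon.faceMap (ULift.{u} ℤ) hF).left := by
  simp [AMonS.faceMap]
  exact pullback.lift_fst _ _ _

theorem wOf_faceMap {M : Type} [AddCommMonoid M] {L F : AddSubmonoid M} (hF : IsFace L F)
    {T : Over S} (P : T ⟶ AMonS S ↥F) :
    wOf (P ≫ AMonS.faceMap S hF) =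
      wOf P ≫ Spec.map (CommRingCat.ofHom (faceAlgHom (ULift.{u} ℤ) hF).toRingHom) := by
  show (P ≫ AMonS.faceMap S hF).left ≫ pullback.fst (AMon (ULift.{u} ℤ) ↥L).hom
        (Limits.IsTerminal.from specULiftZIsTerminal S) =
      (P.left ≫ pullback.fst (AMon (ULift.{u} ℤ) ↥F).hom
        (Limits.IsTerminal.from specULiftZIsTerminal S)) ≫ (AMon.faceMap (ULift.{u} ℤ) hF).left
  rw [Over.comp_left, Category.assoc, faceMap_left_fst, Category.assoc]

theorem chi_faceMap {M : Type} [AddCommMonoid M] {L F : AddSubmonoid M} (hF : IsFace L F)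
    {T : Over S} (P : T ⟶ AMonS S ↥F) :
    chi (P ≫ AMonS.faceMap S hF) = (chi P).comp (faceAlgHom (ULift.{u} ℤ) hF).toRingHom := by
  unfold chi
  rw [wOf_faceMap, Scheme.Hom.comp_appTop, ← Category.assoc, ← Scheme.ΓSpecIso_inv_naturality,
    Category.assoc, CommRingCat.hom_comp]
  rfl

/-- the point with a given character -/
def ptChi (T : Over S) (χ : MonoidAlgebra (ULift.{u} ℤ) (Multiplicative N) →+* Γ(T.left, ⊤)) :
    T ⟶ AMonS S N :=
  (Over.mapPullbackAdj (Limits.IsTerminal.from specULiftZIsTerminal S)).homEquiv T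
    (AMon (ULift.{u} ℤ) N)
    (Over.homMk (T.left.toSpecΓ ≫ Spec.map (CommRingCat.ofHom χ))
      (specULiftZIsTerminal.hom_ext _ _))

theorem wOf_ptChi (T : Over S)
    (χ : MonoidAlgebra (ULift.{u} ℤ) (Multiplicative N) →+* Γ(T.left, ⊤)) :
    wOf (ptChi T χ) = T.left.toSpecΓ ≫ Spec.map (CommRingCat.ofHom χ) := by
  have h : (((Over.mapPullbackAdj (Limits.IsTerminal.from specULiftZIsTerminal S)).homEquiv T
      (AMon (ULift.{u} ℤ) N)).symm (ptChi T χ)).left =
      (ptChi T χ).left ≫ pullback.fst (AMon (ULift.{u} ℤ) N).hom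
        (Limits.IsTerminal.from specULiftZIsTerminal S) := by
    simp [Adjunction.homEquiv_counit]
  show (ptChi T χ).left ≫ pullback.fst (AMon (ULift.{u} ℤ) N).hom
        (Limits.IsTerminal.from specULiftZIsTerminal S) = _
  rw [← h]
  unfold ptChi
  rw [Equiv.symm_apply_apply]
  rfl

theorem chi_ptChi (T : Over S)
    (χ : MonoidAlgebra (ULift.{u} ℤ) (Multiplicative N) →+* Γ(T.left, ⊤)) :
    chi (ptChi T χ) = χ := by
  unfold chi
  rw [wOf_ptChi, MagnetChar.inv_comp_appTop_toSpecΓ_comp]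
  rfl

theorem comp_ptChi {T T' : Over S} (t : T' ⟶ T)
    (χ : MonoidAlgebra (ULift.{u} ℤ) (Multiplicative N) →+* Γ(T.left, ⊤)) :
    t ≫ ptChi T χ = ptChi T' (t.left.appTop.hom.comp χ) := by
  apply chi_ext
  intro n
  rw [chi_comp, chi_ptChi, chi_ptChi]

theorem eq_ptChi {T : Over S} (P : T ⟶ AMonS S N) : P = ptChi T (chi P) := by
  apply chi_ext
  intro n
  rw [chi_ptChi]

theorem chi_one {T : Over S} (n : N) : chi (1 : T ⟶ AMonS S N) (eN n) = 1 := by
  have h : (1 : T ⟶ AMonS S N) = (1 : T ⟶ AMonS S N) ≫ AMonS.map S (0 : N →+ N) := by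
    rw [MagnetFix.AMonS_map_zero, MonObj.comp_one]
  rw [h, chi_map, RingHom.comp_apply, rh_eN, AddMonoidHom.zero_apply, eN_zero, map_one]

end Groth.Agent.Lib.Helper29.MagnetPt
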