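import Mathlib
import Groth.Prelude.Def_HMNum
import Groth.Agent.Lib.Helper29.MagnetPt
import Groth.Agent.Lib.Helper29.MagnetBB
import Groth.Agent.Lib.Helper29.MagnetAttr

/-!
# Limits under a one-parameter subgroup: basic facts (helper29, for S19787)

* `origin_absorb`: the origin of the affine line is absorbing.
* `limitPt_fixed`: a limit point is fixed.
* `isLimitPt_self`: a fixed point is its own limit.
* `isLimitPt_unique`: limits are unique when `X` is separated.
-/
set_option autoImplicit false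
set_option maxHeartbeats 1600000
set_option linter.style.haveILetI false
universe u
open CategoryTheory CategoryTheory.Limits MonoidalCategory CartesianMonoidalCategory MonObj
  AlgebraicGeometry Opposite

noncomputable section

namespace Groth.Agent.Lib.Helper29.HMLimit

open Magnet MagnetBBPts MagnetPt

section
variable {S : Scheme.{u}}

theorem origin_absorb {T' : Over S} (m : T' ⟶ HMNum.A1 S) :
    m * (toUnit T' ≫ HMNum.origin S) = toUnit T' ≫ HMNum.origin S := by
  apply chi_ext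
  intro n
  have ho : toUnit T' ≫ HMNum.origin S =
      (1 : T' ⟶ AMonS S ↥(⊥ : AddSubmonoid ℤ)) ≫ AMonS.faceMap S HMNum.isFace_bot := by
    unfold HMNum.origin
    rw [← Category.assoc]
    rfl
  rw [chi_mul, ho, chi_faceMap, RingHom.comp_apply]
  by_cases hn : n = 0
  · subst hn
    rw [eN_zero, map_one, _root_.one_mul]
  · have hn' : ((n : ℤ)) ∉ (⊥ : AddSubmonoid ℤ) := by
      intro h
      exact hn (Subtype.ext ((AddSubmonoid.mem_bot).mp h))
    have e : (faceAlgHom (ULift.{u} ℤ) HMNum.isFace_bot).toRingHom (eN n) = 0 :=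
      faceAlgHom_single_of_not_mem _ HMNum.isFace_bot n hn' 1
    rw [e, map_zero, mul_zero]

variable {G X : Over S} [GrpObj G] (a : AlgGrp.Action G X) (l : Red.Gm S ⟶ G) [IsMonHom l]

theorem limitPt_fixed {T : Over S} (φ : (HMNum.attrPlus a l).obj (op T)) :
    HMNum.IsFixedBy a l (HMNum.limitPt φ) := by
  intro T' t g
  have hφ := (MonAct.mem_eqvHom_iff _).mp φ.2 T' g (toUnit T' ≫ HMNum.origin S) t
  rw [MagnetBB.lift_subAct_act, origin_absorb] at hφ
  have hy : t ≫ HMNum.limitPt φ = lift (toUnit T' ≫ HMNum.origin S) t ≫ φ.1 := by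
    rw [HMNum.limitPt_eq, ← Category.assoc, comp_lift, Category.comp_id, ← Category.assoc,
      comp_toUnit]
  have h2 : lift g (lift (toUnit T' ≫ HMNum.origin S) t ≫ φ.1) ≫ (HMNum.gmAct a l).act =
      lift (g ≫ l) (lift (toUnit T' ≫ HMNum.origin S) t ≫ φ.1) ≫ a.act := by
    rw [MonAct.lift_restrict_act]
    rfl
  rw [hy, ← h2]
  exact hφ.symm

theorem isLimitPt_self {T : Over S} (y : T ⟶ X) (hy : HMNum.IsFixedBy a l y) :
    HMNum.IsLimitPt a l y y := by
  have hmem : MonAct.IsEquivariant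
      ((subAct S ℤ HMNum.plus).prod (MonAct.trivial (AMonS S ℤ) T)) (HMNum.gmAct a l)
      (snd (HMNum.A1 S) T ≫ y) := by
    rw [MonAct.mem_eqvHom_iff]
    intro T' g b t
    rw [lift_snd_assoc, lift_snd_assoc, MonAct.lift_restrict_act]
    exact (hy T' t g).symm
  refine ⟨⟨snd (HMNum.A1 S) T ≫ y, hmem⟩, ?_, ?_⟩
  · change lift (toUnit T ≫ η[AMonS S ↥HMNum.plus]) (𝟙 T) ≫ snd _ _ ≫ y = y
    rw [lift_snd_assoc, Category.id_comp]
  · rw [HMNum.limitPt_eq]
    change lift _ (𝟙 T) ≫ snd _ _ ≫ y = y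
    rw [lift_snd_assoc, Category.id_comp]

theorem isLimitPt_unique [IsSeparated X.hom] {T : Over S} (x y₁ y₂ : T ⟶ X)
    (h₁ : HMNum.IsLimitPt a l x y₁) (h₂ : HMNum.IsLimitPt a l x y₂) : y₁ = y₂ := by
  obtain ⟨φ₁, hx₁, rfl⟩ := h₁
  obtain ⟨φ₂, hx₂, rfl⟩ := h₂
  have h := MagnetAttr.main18285 S ℤ X (HMNum.gmAct a l) HMNum.plus T (hx₁.trans hx₂.symm)
  rw [h]

end

theorem main19787 (k : Type u) [Field k] [IsAlgClosed k]
    (G X : Over (Spec (CommRingCat.of k))) [GrpObj G] [Smooth G.hom] [QuasiCompact G.hom] [IsProper X.hom]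
    (a : AlgGrp.Action G X) (B : GLinSh.LinBun G a) (x : 𝟙_ (Over (Spec (CommRingCat.of k))) ⟶ X)
    (l : Red.Gm (Spec (CommRingCat.of k)) ⟶ G) [IsMonHom l] (y : 𝟙_ (Over (Spec (CommRingCat.of k))) ⟶ X) (hy : HMNum.IsLimitPt a l x y)
    (m : ℤ) : HMNum.IsMu B l x m ↔ HMNum.IsMu B l y m := by
  have hyfix : HMNum.IsFixedBy a l y := by
    obtain ⟨φ, -, rfl⟩ := hy
    exact limitPt_fixed a l φ
  have hyy := isLimitPt_self a l y hyfix
  constructor
  · rintro ⟨y', hy', hw⟩
    have e := isLimitPt_unique a l x y' y hy' hy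
    subst e
    exact ⟨y', hyy, hw⟩
  · rintro ⟨y'', hy'', hw⟩
    have e := isLimitPt_unique a l y y'' y hy'' hyy
    subst e
    exact ⟨y'', hy, hw⟩

end Groth.Agent.Lib.Helper29.HMLimit
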