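import Mathlib
import Groth.Prelude.Def_HMNum
import Groth.Agent.Lib.Helper29.HMLimit

/-!
# The numerical function under translation of the point / conjugation of the one-parameter subgroup (helper29, S19786)

`μ(g₀ x, l) = μ(x, g₀⁻¹ l g₀)`: an attractor point for `l' = g₀⁻¹ l g₀` at `x` is translated by `g₀` to one for `l` at
`g₀ x`; the weight on the fibre at the limit point is transported using the fibrewise linearity of the lifted action.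
-/
set_option autoImplicit false
set_option maxHeartbeats 1600000
set_option linter.style.haveILetI false
universe u
open CategoryTheory CategoryTheory.Limits MonoidalCategory CartesianMonoidalCategory MonObj
  AlgebraicGeometry Opposite

noncomputable section

namespace Groth.Agent.Lib.Helper29.HMConj

open Magnet HMLimit

/-! ### sections evaluated at points -/

theorem appLE_appLE_apply {A B C : Scheme.{u}} (f : A ⟶ B) (g : B ⟶ C) (U : C.Opens) (V : B.Opens)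
    (W : A.Opens) (e₁ : V ≤ g ⁻¹ᵁ U) (e₂ : W ≤ f ⁻¹ᵁ V) (s : Γ(C, U)) :
    f.appLE V W e₂ (g.appLE U V e₁ s) =
      (f ≫ g).appLE U W (e₂.trans ((TopologicalSpace.Opens.map f.base).map (homOfLE e₁)).le) s := by
  rw [← Scheme.Hom.appLE_comp_appLE]
  rfl

theorem appLE_congr' {A B : Scheme.{u}} {f f' : A ⟶ B} (e : f = f') (U : B.Opens) (W : A.Opens)
    (h : W ≤ f ⁻¹ᵁ U) (h' : W ≤ f' ⁻¹ᵁ U) (s : Γ(B, U)) :
    f.appLE U W h s = f'.appLE U W h' s := by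
  subst e
  rfl

section
variable {S : Scheme.{u}} {G X : Over S} [GrpObj G]

theorem evalFn_congr {V : Over S} (π : V ⟶ X) {U : X.left.Opens} (y : Γ(V.left, π.left ⁻¹ᵁ U))
    {T' : Over S} {v v' : T' ⟶ V} (e : v = v') (h : ⊤ ≤ v.left ⁻¹ᵁ (π.left ⁻¹ᵁ U))
    (h' : ⊤ ≤ v'.left ⁻¹ᵁ (π.left ⁻¹ᵁ U)) : HMNum.evalFn π y v h = HMNum.evalFn π y v' h' := by
  subst e
  rfl

theorem comp_inv_eq {T T' : Over S} (g : T' ⟶ T) (h : T ⟶ G) : g ≫ h⁻¹ = (g ≫ h)⁻¹ := by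
  rw [Hom.inv_def, Hom.inv_def, Category.assoc]

variable (a : AlgGrp.Action G X)

theorem lift_mul_act' {T : Over S} (g h : T ⟶ G) (x : T ⟶ X) :
    lift (g * h) x ≫ a.act = lift g (lift h x ≫ a.act) ≫ a.act :=
  MonAct.lift_mul_act (MonAct.ofAction a) g h x

theorem lift_one_act' {T : Over S} (x : T ⟶ X) : lift (1 : T ⟶ G) x ≫ a.act = x :=
  MonAct.lift_one_act (MonAct.ofAction a) x

theorem inv_act_act' {T : Over S} (g : T ⟶ G) (x : T ⟶ X) :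
    lift g⁻¹ (lift g x ≫ a.act) ≫ a.act = x := by
  rw [← lift_mul_act', inv_mul_cancel, lift_one_act']

theorem act_inv_act' {T : Over S} (g : T ⟶ G) (x : T ⟶ X) :
    lift g (lift g⁻¹ x ≫ a.act) ≫ a.act = x := by
  rw [← lift_mul_act', mul_inv_cancel, lift_one_act']

/-- pointwise form of the fibrewise linearity of the lifted action -/
theorem linearLift_pt (B : GLinSh.LinBun G a) (U₁ U₂ : X.left.Opens)
    (y₁ : Γ(B.V.left, B.π.left ⁻¹ᵁ U₁)) (y₂ : Γ(B.V.left, B.π.left ⁻¹ᵁ U₂))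
    (hy₁ : y₁ ∈ B.atlas.chart U₁) (hy₂ : y₂ ∈ B.atlas.chart U₂) :
    ∃ cc : Γ((G ⊗ X).left, a.act.left ⁻¹ᵁ U₂ ⊓ (snd G X).left ⁻¹ᵁ U₁),
      ∀ (T' : Over S) (c : T' ⟶ G) (v : T' ⟶ B.V) (r : T' ⟶ G ⊗ X) (_ : r = lift c (v ≫ B.π))
        (h1 : ⊤ ≤ v.left ⁻¹ᵁ (B.π.left ⁻¹ᵁ U₁))
        (h2 : ⊤ ≤ (lift c v ≫ B.lift.act).left ⁻¹ᵁ (B.π.left ⁻¹ᵁ U₂))
        (h3 : ⊤ ≤ r.left ⁻¹ᵁ (a.act.left ⁻¹ᵁ U₂ ⊓ (snd G X).left ⁻¹ᵁ U₁)),
        HMNum.evalFn B.π y₂ (lift c v ≫ B.lift.act) h2 =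
          r.left.appLE _ ⊤ h3 cc * HMNum.evalFn B.π y₁ v h1 := by
  obtain ⟨cc, hcc⟩ := B.lift_linear U₁ U₂ y₁ y₂ hy₁ hy₂
  refine ⟨cc, fun T' c v r hr h1 h2 h3 => ?_⟩
  subst hr
  have e : lift c v ≫ (G ◁ B.π) = lift c (v ≫ B.π) := lift_whiskerLeft _ _ _
  have hq : ⊤ ≤ (lift c v).left ⁻¹ᵁ (GLinSh.liftOpen a B.π U₁ U₂) := by
    have h3' : ⊤ ≤ (lift c v ≫ (G ◁ B.π)).left ⁻¹ᵁ
        (a.act.left ⁻¹ᵁ U₂ ⊓ (snd G X).left ⁻¹ᵁ U₁) := by rw [e]; exact h3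
    exact h3'
  have h := congrArg (fun s => (lift c v).left.appLE _ ⊤ hq s) hcc
  simp only at h
  rw [map_mul, appLE_appLE_apply, appLE_appLE_apply, appLE_appLE_apply] at h
  refine Eq.trans ?_ (h.trans ?_)
  · rfl
  · have e' : (lift c v).left ≫ (G ◁ B.π).left = (lift c (v ≫ B.π)).left := by
      rw [← Over.comp_left, e]
    have e'' : (lift c v).left ≫ (snd G B.V).left = v.left := by
      rw [← Over.comp_left, lift_snd]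
    congr 1
    · exact appLE_congr' e' _ _ _ _ _
    · exact appLE_congr' e'' _ _ _ _ _

/-! ### conjugation -/

variable (l l' : Red.Gm S ⟶ G) [IsMonHom l] [IsMonHom l'] (g₀ : 𝟙_ (Over S) ⟶ G)
  (hl' : l' = (toUnit _ ≫ g₀)⁻¹ * l * (toUnit _ ≫ g₀))

include hl' in
theorem conj_pt {T' : Over S} (g : T' ⟶ Red.Gm S) :
    (toUnit T' ≫ g₀) * (g ≫ l') = (g ≫ l) * (toUnit T' ≫ g₀) := by
  have e : g ≫ l' = (toUnit T' ≫ g₀)⁻¹ * (g ≫ l) * (toUnit T' ≫ g₀) := by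
    rw [hl', MonObj.comp_mul, MonObj.comp_mul, comp_inv_eq, ← Category.assoc, comp_toUnit]
  rw [e]
  group

theorem comp_translate {T T' : Over S} {W : Over S} (q : T' ⟶ W) (c : W ⟶ G) (ψ : W ⟶ X) :
    q ≫ lift c ψ ≫ a.act = lift (q ≫ c) (q ≫ ψ) ≫ a.act := by
  rw [← Category.assoc, comp_lift]

include hl' in
theorem isLimitPt_conj {T : Over S} (x y : T ⟶ X) (h : HMNum.IsLimitPt a l' x y) :
    HMNum.IsLimitPt a l (lift (toUnit T ≫ g₀) x ≫ a.act) (lift (toUnit T ≫ g₀) y ≫ a.act) := by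
  obtain ⟨φ', rfl, rfl⟩ := h
  have hΨ : ∀ {T' : Over S} (q : T' ⟶ HMNum.A1 S ⊗ T),
      q ≫ lift (toUnit _ ≫ g₀) φ'.1 ≫ a.act = lift (toUnit T' ≫ g₀) (q ≫ φ'.1) ≫ a.act := by
    intro T' q
    rw [← Category.assoc, comp_lift, ← Category.assoc, comp_toUnit]
  have hmem : MonAct.IsEquivariant
      ((subAct S ℤ HMNum.plus).prod (MonAct.trivial (AMonS S ℤ) T)) (HMNum.gmAct a l)
      (lift (toUnit _ ≫ g₀) φ'.1 ≫ a.act) := by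
    rw [MonAct.mem_eqvHom_iff]
    intro T' g b t
    have hφ := (MonAct.mem_eqvHom_iff _).mp φ'.2 T' g b t
    rw [hΨ, hΨ, hφ, MonAct.lift_restrict_act, MonAct.lift_restrict_act]
    change lift (toUnit T' ≫ g₀) (lift (g ≫ l') (lift b t ≫ φ'.1) ≫ a.act) ≫ a.act =
      lift (g ≫ l) (lift (toUnit T' ≫ g₀) (lift b t ≫ φ'.1) ≫ a.act) ≫ a.act
    rw [← lift_mul_act', ← lift_mul_act', conj_pt l l' g₀ hl']
  refine ⟨⟨lift (toUnit _ ≫ g₀) φ'.1 ≫ a.act, hmem⟩, ?_, ?_⟩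
  · change lift (toUnit T ≫ η[AMonS S ↥HMNum.plus]) (𝟙 T) ≫ lift (toUnit _ ≫ g₀) φ'.1 ≫ a.act = _
    rw [hΨ]
    rfl
  · rw [HMNum.limitPt_eq, HMNum.limitPt_eq]
    change lift (toUnit T ≫ HMNum.origin S) (𝟙 T) ≫ lift (toUnit _ ≫ g₀) φ'.1 ≫ a.act = _
    rw [hΨ]

include hl' in
theorem isFixedBy_conj {T : Over S} (y' : T ⟶ X) (h : HMNum.IsFixedBy a l' y') :
    HMNum.IsFixedBy a l (lift (toUnit T ≫ g₀) y' ≫ a.act) := by
  intro T' t g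
  have e : t ≫ lift (toUnit T ≫ g₀) y' ≫ a.act = lift (toUnit T' ≫ g₀) (t ≫ y') ≫ a.act := by
    rw [← Category.assoc, comp_lift, ← Category.assoc, comp_toUnit]
  rw [e, ← lift_mul_act', ← conj_pt l l' g₀ hl', lift_mul_act', h T' t g]

include hl' in
theorem hasFibreWt_conj (B : GLinSh.LinBun G a) {T : Over S} (y' : T ⟶ X) (w : ℤ)
    (h : HMNum.HasFibreWeight B l' y' w)
    (U₂ : X.left.Opens) (y₂ : Γ(B.V.left, B.π.left ⁻¹ᵁ U₂)) (hy₂ : y₂ ∈ B.atlas.chart U₂)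
    (hU₂ : (lift (toUnit T ≫ g₀) y' ≫ a.act).left ⁻¹ᵁ U₂ = ⊤) :
    HMNum.HasFibreWeight B l (lift (toUnit T ≫ g₀) y' ≫ a.act) w := by
  obtain ⟨hfix, U₁, y₁, hy₁, hU₁, H⟩ := h
  refine ⟨isFixedBy_conj a l l' g₀ hl' y' hfix, U₂, y₂, hy₂, hU₂, ?_⟩
  intro T' t g v hv hgv
  obtain ⟨cc, hcc⟩ := linearLift_pt a B U₁ U₂ y₁ y₂ hy₁ hy₂
  have et : t ≫ lift (toUnit T ≫ g₀) y' ≫ a.act = lift (toUnit T' ≫ g₀) (t ≫ y') ≫ a.act := by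
    rw [← Category.assoc, comp_lift, ← Category.assoc, comp_toUnit]
  obtain ⟨c, hc⟩ : ∃ c : T' ⟶ G, c = toUnit T' ≫ g₀ := ⟨_, rfl⟩
  rw [← hc] at et
  obtain ⟨v₀, hv₀def⟩ : ∃ v₀ : T' ⟶ B.V, v₀ = lift c⁻¹ v ≫ B.lift.act := ⟨_, rfl⟩
  have hπ : ∀ (p : T' ⟶ G) (u : T' ⟶ B.V),
      (lift p u ≫ B.lift.act) ≫ B.π = lift p (u ≫ B.π) ≫ a.act := by
    intro p u
    rw [Category.assoc, B.lift_π, lift_whiskerLeft_assoc]
  have hv₀ : v₀ ≫ B.π = t ≫ y' := by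
    rw [hv₀def, hπ, hv, et, inv_act_act']
  have hvv₀ : v = lift c v₀ ≫ B.lift.act := by
    rw [hv₀def, act_inv_act']
  obtain ⟨v₁, hv₁def⟩ : ∃ v₁ : T' ⟶ B.V, v₁ = lift (g ≫ l') v₀ ≫ B.lift.act := ⟨_, rfl⟩
  have hv₁ : v₁ ≫ B.π = t ≫ y' := by
    rw [hv₁def, hπ, hv₀, hfix T' t g]
  have hkey : lift (g ≫ l) v ≫ B.lift.act = lift c v₁ ≫ B.lift.act := by
    rw [hvv₀, hv₁def, ← lift_mul_act', ← lift_mul_act', hc, conj_pt l l' g₀ hl']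
  have hgv₀ : (lift (g ≫ l') v₀ ≫ B.lift.act) ≫ B.π = t ≫ y' := by rw [← hv₁def]; exact hv₁
  have HH := H T' t g v₀ hv₀ hgv₀
  -- the common base point of the linearity relation
  obtain ⟨r, hr⟩ : ∃ r : T' ⟶ G ⊗ X, r = lift c (t ≫ y') := ⟨_, rfl⟩
  have hr₀ : r = lift c (v₀ ≫ B.π) := by rw [hr, hv₀]
  have hr₁ : r = lift c (v₁ ≫ B.π) := by rw [hr, hv₁]
  have h3 : ⊤ ≤ r.left ⁻¹ᵁ (a.act.left ⁻¹ᵁ U₂ ⊓ (snd G X).left ⁻¹ᵁ U₁) := by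
    have e1 : r.left ⁻¹ᵁ (a.act.left ⁻¹ᵁ U₂) = ⊤ := by
      have : r.left ⁻¹ᵁ (a.act.left ⁻¹ᵁ U₂) = (r ≫ a.act).left ⁻¹ᵁ U₂ := rfl
      rw [this, hr, ← et]
      have : (t ≫ lift (toUnit T ≫ g₀) y' ≫ a.act).left ⁻¹ᵁ U₂ =
        t.left ⁻¹ᵁ ((lift (toUnit T ≫ g₀) y' ≫ a.act).left ⁻¹ᵁ U₂) := rfl
      rw [this, hU₂]
      rfl
    have e2 : r.left ⁻¹ᵁ ((snd G X).left ⁻¹ᵁ U₁) = ⊤ := by
      have : r.left ⁻¹ᵁ ((snd G X).left ⁻¹ᵁ U₁) = (r ≫ snd G X).left ⁻¹ᵁ U₁ := rfl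
      rw [this, hr, lift_snd]
      have : (t ≫ y').left ⁻¹ᵁ U₁ = t.left ⁻¹ᵁ (y'.left ⁻¹ᵁ U₁) := rfl
      rw [this, hU₁]
      rfl
    have : r.left ⁻¹ᵁ (a.act.left ⁻¹ᵁ U₂ ⊓ (snd G X).left ⁻¹ᵁ U₁) =
        r.left ⁻¹ᵁ (a.act.left ⁻¹ᵁ U₂) ⊓ r.left ⁻¹ᵁ ((snd G X).left ⁻¹ᵁ U₁) := rfl
    rw [this, e1, e2]
    exact le_of_eq (inf_idem ⊤).symm
  have hv' : (lift c v₀ ≫ B.lift.act) ≫ B.π = t ≫ lift (toUnit T ≫ g₀) y' ≫ a.act := by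
    rw [← hvv₀]; exact hv
  have hgv' : (lift c v₁ ≫ B.lift.act) ≫ B.π = t ≫ lift (toUnit T ≫ g₀) y' ≫ a.act := by
    rw [← hkey]; exact hgv
  have Ea := hcc T' c v₀ r hr₀ (HMNum.top_le_preimage B.π hU₁ hv₀)
    (HMNum.top_le_preimage B.π hU₂ hv') h3
  have Eb := hcc T' c v₁ r hr₁ (HMNum.top_le_preimage B.π hU₁ hv₁)
    (HMNum.top_le_preimage B.π hU₂ hgv') h3
  have e1 : HMNum.evalFn B.π y₂ (lift (g ≫ l) v ≫ B.lift.act) (HMNum.top_le_preimage B.π hU₂ hgv) =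
      HMNum.evalFn B.π y₂ (lift c v₁ ≫ B.lift.act) (HMNum.top_le_preimage B.π hU₂ hgv') :=
    evalFn_congr B.π y₂ hkey _ _
  have e2 : HMNum.evalFn B.π y₂ v (HMNum.top_le_preimage B.π hU₂ hv) =
      HMNum.evalFn B.π y₂ (lift c v₀ ≫ B.lift.act) (HMNum.top_le_preimage B.π hU₂ hv') :=
    evalFn_congr B.π y₂ hvv₀ _ _
  have e3 : HMNum.evalFn B.π y₁ v₁ (HMNum.top_le_preimage B.π hU₁ hv₁) =
      HMNum.evalFn B.π y₁ (lift (g ≫ l') v₀ ≫ B.lift.act) (HMNum.top_le_preimage B.π hU₁ hgv₀) :=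
    evalFn_congr B.π y₁ hv₁def _ _
  rw [e1, e2, Eb, Ea, e3, HH]
  ring

end

theorem top_preimage_of_field {k : Type u} [Field k] {X : Over (Spec (CommRingCat.of k))}
    (y : 𝟙_ (Over (Spec (CommRingCat.of k))) ⟶ X) (U : X.left.Opens)
    (hU : y.left (default : PrimeSpectrum k) ∈ U) : y.left ⁻¹ᵁ U = ⊤ := by
  ext p
  constructor
  · intro _; trivial
  · intro _
    have hp : p = (default : PrimeSpectrum k) := Subsingleton.elim (α := PrimeSpectrum k) _ _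
    rw [hp]
    exact hU

theorem main19786 (k : Type u) [Field k] [IsAlgClosed k]
    (G X : Over (Spec (CommRingCat.of k))) [GrpObj G] [Smooth G.hom] [QuasiCompact G.hom] [IsProper X.hom]
    (a : AlgGrp.Action G X) (B : GLinSh.LinBun G a) (x : 𝟙_ (Over (Spec (CommRingCat.of k))) ⟶ X)
    (l : Red.Gm (Spec (CommRingCat.of k)) ⟶ G) [IsMonHom l] (g₀ : 𝟙_ (Over (Spec (CommRingCat.of k))) ⟶ G)
    (l' : Red.Gm (Spec (CommRingCat.of k)) ⟶ G) [IsMonHom l'] (hl' : l' = (toUnit _ ≫ g₀)⁻¹ * l * (toUnit _ ≫ g₀))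
    (m : ℤ) : HMNum.IsMu B l (lift g₀ x ≫ a.act) m ↔ HMNum.IsMu B l' x m := by
  have hunit : toUnit (𝟙_ (Over (Spec (CommRingCat.of k)))) = 𝟙 _ := toUnit_unique _ _
  have hg₀ : toUnit (𝟙_ (Over (Spec (CommRingCat.of k)))) ≫ g₀ = g₀ := by
    rw [hunit, Category.id_comp]
  -- the inverse relation
  have hl : l = (toUnit _ ≫ g₀⁻¹)⁻¹ * l' * (toUnit _ ≫ g₀⁻¹) := by
    rw [hl', comp_inv_eq]
    group
  constructor
  · rintro ⟨y, hy, hw⟩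
    have h1 := isLimitPt_conj a l' l g₀⁻¹ hl _ _ hy
    rw [hunit, Category.id_comp] at h1
    have hx : lift g₀⁻¹ (lift g₀ x ≫ a.act) ≫ a.act = x := inv_act_act' a g₀ x
    rw [hx] at h1
    obtain ⟨U₂, hU₂, y₂, hy₂⟩ := B.atlas.cover
      ((lift g₀⁻¹ y ≫ a.act).left (default : PrimeSpectrum k))
    have h2 := hasFibreWt_conj a l' l g₀⁻¹ hl B y (-m) hw U₂ y₂ hy₂ (by
      rw [hunit, Category.id_comp]
      exact top_preimage_of_field _ U₂ hU₂)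
    rw [hunit, Category.id_comp] at h2
    exact ⟨_, h1, h2⟩
  · rintro ⟨y, hy, hw⟩
    have h1 := isLimitPt_conj a l l' g₀ hl' _ _ hy
    rw [hg₀] at h1
    obtain ⟨U₂, hU₂, y₂, hy₂⟩ := B.atlas.cover
      ((lift g₀ y ≫ a.act).left (default : PrimeSpectrum k))
    have h2 := hasFibreWt_conj a l l' g₀ hl' B y (-m) hw U₂ y₂ hy₂ (by
      rw [hg₀]
      exact top_preimage_of_field _ U₂ hU₂)
    rw [hg₀] at h2
    exact ⟨_, h1, h2⟩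

end Groth.Agent.Lib.Helper29.HMConj
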