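import Mathlib
import Groth.Prelude.Def_HMNum
import Groth.Prelude.Def_Red
import Groth.Agent.Lib.Helper29.HMConj

/-!
# Conjugate one-parameter subgroups and the normalised numerical function (helper29, S19791)
-/
set_option autoImplicit false
set_option maxHeartbeats 1600000
set_option linter.style.haveILetI false
universe u
open CategoryTheory CategoryTheory.Limits MonoidalCategory CartesianMonoidalCategory MonObj
  AlgebraicGeometry Opposite

noncomputable section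

namespace Groth.Agent.Lib.Helper29.HMConj2

open Magnet HMLimit HMConj

section
variable {S : Scheme.{u}} {G : Over S} [GrpObj G]

/-- the conjugate one-parameter subgroup `u ↦ g₀⁻¹ l(u) g₀` -/
def conjHom (l : Red.Gm S ⟶ G) (g₀ : 𝟙_ (Over S) ⟶ G) : Red.Gm S ⟶ G :=
  (toUnit _ ≫ g₀)⁻¹ * l * (toUnit _ ≫ g₀)

theorem comp_conjHom (l : Red.Gm S ⟶ G) (g₀ : 𝟙_ (Over S) ⟶ G) {T : Over S}
    (u : T ⟶ Red.Gm S) :
    u ≫ conjHom l g₀ = (toUnit T ≫ g₀)⁻¹ * (u ≫ l) * (toUnit T ≫ g₀) := by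
  unfold conjHom
  rw [MonObj.comp_mul, MonObj.comp_mul, comp_inv_eq, ← Category.assoc, comp_toUnit]

instance isMonHom_conjHom (l : Red.Gm S ⟶ G) [IsMonHom l] (g₀ : 𝟙_ (Over S) ⟶ G) :
    IsMonHom (conjHom l g₀) where
  one_hom := by
    have h1 : (1 : 𝟙_ (Over S) ⟶ G) = η[G] := by
      rw [Hom.one_def, toUnit_unit, Category.id_comp]
    rw [comp_conjHom, IsMonHom.one_hom l, ← h1, _root_.mul_one, inv_mul_cancel]
  mul_hom := by
    rw [← lift_fst_comp_snd_comp, ← Hom.mul_def, comp_conjHom, comp_conjHom, comp_conjHom,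
      IsMonHom.mul_hom l, ← lift_fst_comp_snd_comp, ← Hom.mul_def]
    group

end

theorem isMu_conj_iff (k : Type u) [Field k]
    (G X : Over (Spec (CommRingCat.of k))) [GrpObj G]
    (a : AlgGrp.Action G X) (B : GLinSh.LinBun G a) (x : 𝟙_ (Over (Spec (CommRingCat.of k))) ⟶ X)
    (l : Red.Gm (Spec (CommRingCat.of k)) ⟶ G) [IsMonHom l] (g₀ : 𝟙_ (Over (Spec (CommRingCat.of k))) ⟶ G)
    (l' : Red.Gm (Spec (CommRingCat.of k)) ⟶ G) [IsMonHom l'] (hl' : l' = (toUnit _ ≫ g₀)⁻¹ * l * (toUnit _ ≫ g₀))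
    (m : ℤ) : HMNum.IsMu B l (lift g₀ x ≫ a.act) m ↔ HMNum.IsMu B l' x m := by
  have hunit : toUnit (𝟙_ (Over (Spec (CommRingCat.of k)))) = 𝟙 _ := toUnit_unique _ _
  have hg₀ : toUnit (𝟙_ (Over (Spec (CommRingCat.of k)))) ≫ g₀ = g₀ := by
    rw [hunit, Category.id_comp]
  have hl : l = (toUnit _ ≫ g₀⁻¹)⁻¹ * l' * (toUnit _ ≫ g₀⁻¹) := by
    rw [hl', comp_inv_eq]
    group
  constructor
  · rintro ⟨y, hy, hw⟩
    have h1 := isLimitPt_conj a l' l g₀⁻¹ hl _ _ hy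
    rw [hunit, Category.id_comp] at h1
    have hx : lift g₀⁻¹ (lift g₀ x ≫ a.act) ≫ a.act = x := inv_act_act' a g₀ x
    rw [hx] at h1
    obtain ⟨U₂, hU₂, y₂, hy₂⟩ := B.atlas.cover
      ((lift g₀⁻¹ y ≫ a.act).left (default : PrimeSpectrum k))
    have h2 := hasFibreWt_conj a l' l g₀⁻¹ hl B y (-m) hw U₂ y₂ hy₂ (by
      rw [hunit, Category.id_comp]
      exact top_preimage_of_field _ U₂ hU₂)
    rw [hunit, Category.id_comp] at h2
    exact ⟨_, h1, h2⟩
  · rintro ⟨y, hy, hw⟩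
    have h1 := isLimitPt_conj a l l' g₀ hl' _ _ hy
    rw [hg₀] at h1
    obtain ⟨U₂, hU₂, y₂, hy₂⟩ := B.atlas.cover
      ((lift g₀ y ≫ a.act).left (default : PrimeSpectrum k))
    have h2 := hasFibreWt_conj a l l' g₀ hl' B y (-m) hw U₂ y₂ hy₂ (by
      rw [hg₀]
      exact top_preimage_of_field _ U₂ hU₂)
    rw [hg₀] at h2
    exact ⟨_, h1, h2⟩

theorem main19791 (k : Type u) [Field k] [IsAlgClosed k]
    (G X : Over (Spec (CommRingCat.of k))) [GrpObj G] (hG : Red.IsReductive G) [IsProper X.hom]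
    (a : AlgGrp.Action G X) (B : GLinSh.LinBun G a) (hB : HMNum.AmpleCover B)
    (nrm : (Red.Gm (Spec (CommRingCat.of k)) ⟶ G) → ℝ)
    (hnrm : ∀ (l : Red.Gm (Spec (CommRingCat.of k)) ⟶ G) [IsMonHom l] (g : 𝟙_ (Over (Spec (CommRingCat.of k))) ⟶ G),
      nrm ((toUnit _ ≫ g) * l * (toUnit _ ≫ g)⁻¹) = nrm l)
    (x : 𝟙_ (Over (Spec (CommRingCat.of k))) ⟶ X) (g : 𝟙_ (Over (Spec (CommRingCat.of k))) ⟶ G) (q : ℝ) :
    (∃ (l : Red.Gm (Spec (CommRingCat.of k)) ⟶ G) (_ : IsMonHom l) (m : ℤ),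
        l ≠ 1 ∧ HMNum.IsMu B l (lift g x ≫ a.act) m ∧ q = (m : ℝ) / nrm l) ↔
      ∃ (l : Red.Gm (Spec (CommRingCat.of k)) ⟶ G) (_ : IsMonHom l) (m : ℤ),
        l ≠ 1 ∧ HMNum.IsMu B l x m ∧ q = (m : ℝ) / nrm l := by
  constructor
  · rintro ⟨l, hl, m, hne, hmu, hq⟩
    haveI := hl
    have e : (toUnit _ ≫ g) * conjHom l g * (toUnit _ ≫ g)⁻¹ = l := by
      unfold conjHom
      group
    refine ⟨conjHom l g, inferInstance, m, ?_, ?_, ?_⟩
    · intro h1
      apply hne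
      rw [← e, h1]
      group
    · exact (isMu_conj_iff k G X a B x l g (conjHom l g) rfl m).mp hmu
    · rw [hq]
      congr 1
      have h := hnrm (conjHom l g) g
      rw [e] at h
      exact h
  · rintro ⟨l', hl', m, hne, hmu, hq⟩
    haveI := hl'
    have e : conjHom l' g⁻¹ = (toUnit _ ≫ g) * l' * (toUnit _ ≫ g)⁻¹ := by
      unfold conjHom
      rw [comp_inv_eq]
      group
    refine ⟨conjHom l' g⁻¹, inferInstance, m, ?_, ?_, ?_⟩
    · intro h1
      apply hne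
      have e' : l' = (toUnit _ ≫ g)⁻¹ * conjHom l' g⁻¹ * (toUnit _ ≫ g) := by
        rw [e]
        group
      rw [e', h1]
      group
    · refine (isMu_conj_iff k G X a B x (conjHom l' g⁻¹) g l' ?_ m).mpr hmu
      rw [e]
      group
    · rw [hq]
      congr 1
      rw [e]
      exact (hnrm l' g).symm

end Groth.Agent.Lib.Helper29.HMConj2
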