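import Mathlib
import Groth.Prelude.Def_HMNum
import Groth.Prelude.Def_Red
import Groth.Agent.Lib.Helper29.HMConj2
import Groth.Agent.Lib.Helper29.MagnetAttr

/-!
# The numerical function and the parabolic subgroup of a one-parameter subgroup (helper29, S19785)

If `u ↦ l(u) g₀ l(u)⁻¹` extends to `f : A¹ → G`, then `f` is equivariant for conjugation by `l`
(schematic density of `G_m` in `A¹`, `G` separated), `γ₀ = f(0)` commutes with `l`, and for an attractor point `φ` at `x`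
the map `u ↦ f(u) φ(u)` is an attractor point at `g₀ x` with limit `γ₀ y`.  Hence `μ(g₀ x, l) = μ(x, l)`, and with
`μ(g₀ x, l) = μ(x, g₀⁻¹ l g₀)` the claim follows.
-/
set_option autoImplicit false
set_option maxHeartbeats 1600000
set_option linter.style.haveILetI false
universe u
open CategoryTheory CategoryTheory.Limits MonoidalCategory CartesianMonoidalCategory MonObj
  AlgebraicGeometry Opposite

noncomputable section

namespace Groth.Agent.Lib.Helper29.HMParab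

open Magnet HMLimit HMConj HMConj2

section
variable {S : Scheme.{u}} {G X : Over S} [GrpObj G] (a : AlgGrp.Action G X)
  (l : Red.Gm S ⟶ G) [IsMonHom l] (g₀ : 𝟙_ (Over S) ⟶ G) (f : HMNum.A1 S ⟶ G)
  (hf : HMNum.incl S ≫ f = l * (toUnit _ ≫ g₀) * l⁻¹)

include hf in
theorem f_incl {T'' : Over S} (w : T'' ⟶ Red.Gm S) :
    (w ≫ HMNum.incl S) ≫ f = (w ≫ l) * (toUnit T'' ≫ g₀) * (w ≫ l)⁻¹ := by
  rw [Category.assoc, hf, MonObj.comp_mul, MonObj.comp_mul, GrpObj.comp_inv, ← Category.assoc w,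
    comp_toUnit]

include hf in
theorem f_core {T'' : Over S} (u' v' : T'' ⟶ Red.Gm S) :
    ((v' ≫ HMNum.incl S) * (u' ≫ HMNum.incl S)) ≫ f =
      (v' ≫ l) * ((u' ≫ HMNum.incl S) ≫ f) * (v' ≫ l)⁻¹ := by
  rw [← MonObj.mul_comp, f_incl l g₀ f hf, f_incl l g₀ f hf, MonObj.mul_comp]
  group

/-- `(u, v) ↦ f(v u)` -/
def F₁ : HMNum.A1 S ⊗ Red.Gm S ⟶ G :=
  ((snd (HMNum.A1 S) (Red.Gm S) ≫ HMNum.incl S) * fst (HMNum.A1 S) (Red.Gm S)) ≫ f

/-- `(u, v) ↦ l(v) f(u) l(v)⁻¹` -/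
def F₂ : HMNum.A1 S ⊗ Red.Gm S ⟶ G :=
  (snd (HMNum.A1 S) (Red.Gm S) ≫ l) * (fst (HMNum.A1 S) (Red.Gm S) ≫ f) *
    (snd (HMNum.A1 S) (Red.Gm S) ≫ l)⁻¹

theorem comp_F₁ {W : Over S} (q : W ⟶ HMNum.A1 S ⊗ Red.Gm S) :
    q ≫ F₁ f = (((q ≫ snd _ _) ≫ HMNum.incl S) * (q ≫ fst _ _)) ≫ f := by
  unfold F₁
  rw [← Category.assoc, MonObj.comp_mul, ← Category.assoc]

theorem comp_F₂ {W : Over S} (q : W ⟶ HMNum.A1 S ⊗ Red.Gm S) :
    q ≫ F₂ l f = ((q ≫ snd _ _) ≫ l) * ((q ≫ fst _ _) ≫ f) * ((q ≫ snd _ _) ≫ l)⁻¹ := by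
  unfold F₂
  rw [MonObj.comp_mul, MonObj.comp_mul, GrpObj.comp_inv]
  simp only [← Category.assoc]

include hf in
theorem F₁_eq_F₂ [IsSeparated G.hom] : F₁ f = F₂ l f := by
  apply SchDomEpi.eq_of_comp_eq_of_ker_eq_bot (HMNum.incl S ▷ Red.Gm S)
    (MagnetDom.ker_whiskerRight_eq_bot S (Red.Gm S) HMNum.plus.subtype Subtype.val_injective)
  rw [comp_F₁, comp_F₂, whiskerRight_fst, whiskerRight_snd]
  exact f_core l g₀ f hf _ _

include hf in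
theorem f_equivariant [IsSeparated G.hom] {T' : Over S} (u : T' ⟶ HMNum.A1 S)
    (v : T' ⟶ Red.Gm S) :
    ((v ≫ HMNum.incl S) * u) ≫ f = (v ≫ l) * (u ≫ f) * (v ≫ l)⁻¹ := by
  have h : lift u v ≫ F₁ f = lift u v ≫ F₂ l f := by rw [F₁_eq_F₂ l g₀ f hf]
  rw [comp_F₁, comp_F₂, lift_fst, lift_snd] at h
  exact h

include hf in
theorem eta_f : η[HMNum.A1 S] ≫ f = g₀ := by
  have h1 : (1 : 𝟙_ (Over S) ⟶ G) = η[G] := by
    rw [Hom.one_def, toUnit_unit, Category.id_comp]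
  have h2 : η[Red.Gm S] ≫ HMNum.incl S = η[HMNum.A1 S] := IsMonHom.one_hom (HMNum.incl S)
  rw [← h2, f_incl l g₀ f hf, IsMonHom.one_hom l, ← h1, toUnit_unit, Category.id_comp]
  group

include hf in
theorem isLimitPt_parab [IsSeparated G.hom] {T : Over S} (x y : T ⟶ X)
    (h : HMNum.IsLimitPt a l x y) :
    HMNum.IsLimitPt a l (lift (toUnit T ≫ g₀) x ≫ a.act)
      (lift (toUnit T ≫ HMNum.origin S ≫ f) y ≫ a.act) := by
  obtain ⟨φ, rfl, rfl⟩ := h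
  have hΨ : ∀ {T' : Over S} (b' : T' ⟶ HMNum.A1 S) (t : T' ⟶ T),
      lift b' t ≫ lift (fst _ _ ≫ f) φ.1 ≫ a.act = lift (b' ≫ f) (lift b' t ≫ φ.1) ≫ a.act := by
    intro T' b' t
    rw [← Category.assoc, comp_lift, ← Category.assoc, lift_fst]
  have hmem : MonAct.IsEquivariant
      ((subAct S ℤ HMNum.plus).prod (MonAct.trivial (AMonS S ℤ) T)) (HMNum.gmAct a l)
      (lift (fst _ _ ≫ f) φ.1 ≫ a.act) := by
    rw [MonAct.mem_eqvHom_iff]
    intro T' g b t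
    have hφ := (MonAct.mem_eqvHom_iff _).mp φ.2 T' g b t
    rw [MagnetBB.lift_subAct_act] at hφ ⊢
    rw [hΨ, hΨ, hφ, MonAct.lift_restrict_act, MonAct.lift_restrict_act]
    change lift (((g ≫ HMNum.incl S) * b) ≫ f) (lift (g ≫ l) (lift b t ≫ φ.1) ≫ a.act) ≫ a.act =
      lift (g ≫ l) (lift (b ≫ f) (lift b t ≫ φ.1) ≫ a.act) ≫ a.act
    rw [← lift_mul_act', ← lift_mul_act', f_equivariant l g₀ f hf b g]
    congr 2
    group
  refine ⟨⟨lift (fst _ _ ≫ f) φ.1 ≫ a.act, hmem⟩, ?_, ?_⟩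
  · change lift (toUnit T ≫ η[AMonS S ↥HMNum.plus]) (𝟙 T) ≫ lift (fst _ _ ≫ f) φ.1 ≫ a.act = _
    rw [hΨ, Category.assoc, eta_f l g₀ f hf]
    rfl
  · rw [HMNum.limitPt_eq, HMNum.limitPt_eq]
    change lift (toUnit T ≫ HMNum.origin S) (𝟙 T) ≫ lift (fst _ _ ≫ f) φ.1 ≫ a.act = _
    rw [hΨ, Category.assoc]

include hf in
theorem gamma_comm [IsSeparated G.hom] :
    l = (toUnit _ ≫ (HMNum.origin S ≫ f))⁻¹ * l * (toUnit _ ≫ (HMNum.origin S ≫ f)) := by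
  have h := f_equivariant l g₀ f hf (toUnit (Red.Gm S) ≫ HMNum.origin S) (𝟙 (Red.Gm S))
  rw [origin_absorb, Category.id_comp, Category.assoc] at h
  generalize toUnit (Red.Gm S) ≫ HMNum.origin S ≫ f = c at h ⊢
  have hc : c * l = l * c := by
    calc c * l = (l * c * l⁻¹) * l := by rw [← h]
      _ = l * c := by group
  calc l = c⁻¹ * (c * l) := by group
    _ = c⁻¹ * (l * c) := by rw [hc]
    _ = c⁻¹ * l * c := by group

end

theorem isMu_parab (k : Type u) [Field k]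
    (G X : Over (Spec (CommRingCat.of k))) [GrpObj G] [IsSeparated G.hom]
    (a : AlgGrp.Action G X) (B : GLinSh.LinBun G a) (x : 𝟙_ (Over (Spec (CommRingCat.of k))) ⟶ X)
    (l : Red.Gm (Spec (CommRingCat.of k)) ⟶ G) [IsMonHom l] (g₀ : 𝟙_ (Over (Spec (CommRingCat.of k))) ⟶ G)
    (f : HMNum.A1 (Spec (CommRingCat.of k)) ⟶ G)
    (hf : HMNum.incl (Spec (CommRingCat.of k)) ≫ f = l * (toUnit _ ≫ g₀) * l⁻¹)
    (m : ℤ) (h : HMNum.IsMu B l x m) : HMNum.IsMu B l (lift g₀ x ≫ a.act) m := by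
  obtain ⟨y, hy, hw⟩ := h
  have h1 := isLimitPt_parab a l g₀ f hf x y hy
  rw [toUnit_unit, Category.id_comp, Category.id_comp] at h1
  have hl := gamma_comm l g₀ f hf
  obtain ⟨U₂, hU₂, y₂, hy₂⟩ := B.atlas.cover
    ((lift (HMNum.origin _ ≫ f) y ≫ a.act).left (default : PrimeSpectrum k))
  have h2 := hasFibreWt_conj a l l (HMNum.origin _ ≫ f) hl B y (-m) hw U₂ y₂ hy₂ (by
    rw [toUnit_unit, Category.id_comp]
    exact top_preimage_of_field _ U₂ hU₂)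
  rw [toUnit_unit, Category.id_comp] at h2
  exact ⟨_, h1, h2⟩

theorem main19785 (k : Type u) [Field k] [IsAlgClosed k]
    (G X : Over (Spec (CommRingCat.of k))) [GrpObj G] (hG : Red.IsReductive G) [IsProper X.hom]
    (a : AlgGrp.Action G X) (B : GLinSh.LinBun G a) (x : 𝟙_ (Over (Spec (CommRingCat.of k))) ⟶ X)
    (l : Red.Gm (Spec (CommRingCat.of k)) ⟶ G) [IsMonHom l] (g₀ : 𝟙_ (Over (Spec (CommRingCat.of k))) ⟶ G)
    (hg₀ : ∃ f : HMNum.A1 (Spec (CommRingCat.of k)) ⟶ G, HMNum.incl (Spec (CommRingCat.of k)) ≫ f = l * (toUnit _ ≫ g₀) * l⁻¹)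
    (l' : Red.Gm (Spec (CommRingCat.of k)) ⟶ G) [IsMonHom l'] (hl' : l' = (toUnit _ ≫ g₀)⁻¹ * l * (toUnit _ ≫ g₀))
    (m : ℤ) : HMNum.IsMu B l x m ↔ HMNum.IsMu B l' x m := by
  haveI : IsAffineHom G.hom := hG.1
  obtain ⟨f, hf⟩ := hg₀
  rw [← isMu_conj_iff k G X a B x l g₀ l' hl' m]
  constructor
  · exact isMu_parab k G X a B x l g₀ f hf m
  · intro h
    have hf' : HMNum.incl _ ≫ f⁻¹ = l * (toUnit _ ≫ g₀⁻¹) * l⁻¹ := by
      rw [GrpObj.comp_inv, hf, GrpObj.comp_inv]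
      group
    have h2 := isMu_parab k G X a B (lift g₀ x ≫ a.act) l g₀⁻¹ f⁻¹ hf' m h
    rwa [inv_act_act'] at h2

end Groth.Agent.Lib.Helper29.HMParab
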