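import Mathlib

/-!
# Algebra for the numerical function along a torus (helper29, for S19789)

Laurent series bookkeeping: a scaling lemma identifying the order of a Laurent series from its behaviour under
`X ↦ g X`, and a two-variable lemma comparing the order along the diagonal with the orders along the axes.
-/
set_option autoImplicit false
set_option maxHeartbeats 1600000
universe u

noncomputable section

namespace Groth.Agent.Lib.Helper29.HMWtAlg

variable {k L : Type u} [Field k] [Field L] [Algebra k L]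

/-- the inclusion of power series into Laurent series -/
abbrev io (L : Type u) [Field L] : PowerSeries L →+* LaurentSeries L := HahnSeries.ofPowerSeries ℤ L

/-- `s^m` -/
abbrev sPow (L : Type u) [Field L] (m : ℤ) : LaurentSeries L := HahnSeries.single m (1 : L)

theorem coeff_sPow_mul (m n : ℤ) (b : PowerSeries L) (h : n < m) :
    ((sPow L m) * io L b).coeff n = 0 := by
  rw [HahnSeries.coeff_single_mul, one_mul]
  have := PowerSeries.coeff_coe (f := b) (n - m)
  rw [this, if_pos (by omega)]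

theorem coeff_sPow_mul_self (m : ℤ) (b : PowerSeries L) :
    ((sPow L m) * io L b).coeff m = PowerSeries.constantCoeff b := by
  rw [HahnSeries.coeff_single_mul, one_mul, sub_self]
  have := PowerSeries.coeff_coe (f := b) 0
  rw [this, if_neg (lt_irrefl 0)]
  simp

theorem sPow_eq_zpow (m : ℤ) : sPow L m = (sPow L 1) ^ m := RatFunc.single_zpow m

theorem sPow_ne_zero (m : ℤ) : sPow L m ≠ 0 := by
  rw [sPow_eq_zpow]
  apply zpow_ne_zero
  intro h
  have := congrArg (fun x : LaurentSeries L => x.coeff 1) h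
  simp at this

theorem eq_of_forall_zpow_eq [Infinite k] (e w : ℤ) (h : ∀ g : k, g ≠ 0 → g ^ e = g ^ w) :
    e = w := by
  classical
  by_contra hne
  have hd : e - w ≠ 0 := sub_ne_zero.mpr hne
  obtain ⟨d, hd0, hdd⟩ : ∃ d : ℕ, 0 < d ∧ ∀ g : k, g ≠ 0 → g ^ d = 1 := by
    refine ⟨(e - w).natAbs, Int.natAbs_pos.mpr hd, fun g hg => ?_⟩
    have h1 : g ^ (e - w) = 1 := by
      rw [zpow_sub₀ hg, h g hg, div_self (zpow_ne_zero _ hg)]
    obtain ⟨n, hn⟩ : ∃ n : ℤ, n = e - w := ⟨_, rfl⟩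
    rw [← hn] at h1 ⊢
    rcases Int.natAbs_eq n with h2 | h2
    · have h3 : g ^ ((n.natAbs : ℕ) : ℤ) = 1 := by rw [← h2]; exact h1
      rwa [zpow_natCast] at h3
    · have h3 : g ^ (-((n.natAbs : ℕ) : ℤ)) = 1 := by rw [← h2]; exact h1
      rw [zpow_neg, inv_eq_one, zpow_natCast] at h3
      exact h3
  obtain ⟨g, hg⟩ := Infinite.exists_notMem_finset
    (insert 0 (Polynomial.nthRoots d (1 : k)).toFinset)
  rw [Finset.mem_insert, not_or] at hg
  apply hg.2
  rw [Multiset.mem_toFinset, Polynomial.mem_nthRoots hd0]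
  exact hdd g hg.1

/-- The scaling lemma. -/
theorem scaling_lemma [Infinite k] (w : ℤ) (r : LaurentSeries L)
    (σ : kˣ → (LaurentSeries L →+* LaurentSeries L))
    (hσ : ∀ (g : kˣ) (a : PowerSeries L),
      σ g (io L a) = io L (PowerSeries.rescale (algebraMap k L (g : k)) a))
    (γ : kˣ → PowerSeries L)
    (hγ0 : ∀ g : kˣ, PowerSeries.constantCoeff (γ g) = (algebraMap k L (g : k)) ^ w)
    (hγ : ∀ g : kˣ, σ g r = io L (γ g) * r) :
    ∃ r₀ : PowerSeries L, r = sPow L w * io L r₀ ∧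
      (r ≠ 0 → PowerSeries.constantCoeff r₀ ≠ 0) := by
  by_cases hr : r = 0
  · exact ⟨0, by simp [hr], fun h => absurd hr h⟩
  obtain ⟨e, he⟩ : ∃ e : ℤ, e = r.order := ⟨_, rfl⟩
  obtain ⟨r₀, hr₀⟩ : ∃ r₀ : PowerSeries L, r₀ = LaurentSeries.powerSeriesPart r := ⟨_, rfl⟩
  have hdec : sPow L e * io L r₀ = r := by
    rw [he, hr₀]
    exact LaurentSeries.single_order_mul_powerSeriesPart r
  have hc0 : PowerSeries.constantCoeff r₀ ≠ 0 := by
    rw [hr₀, ← PowerSeries.coeff_zero_eq_constantCoeff_apply, LaurentSeries.powerSeriesPart_coeff]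
    simpa using (HahnSeries.coeff_order_eq_zero.not.mpr hr)
  have hew : e = w := by
    apply eq_of_forall_zpow_eq (k := k)
    intro g' hg
    obtain ⟨g, hgg⟩ : ∃ g : kˣ, (g : k) = g' := ⟨Units.mk0 g' hg, rfl⟩
    have hgL : algebraMap k L g' ≠ 0 := (map_ne_zero _).mpr hg
    obtain ⟨gL, hgL'⟩ : ∃ gL : L, gL = algebraMap k L g' := ⟨_, rfl⟩
    rw [← hgL'] at hgL
    have h1 := hγ g
    rw [← hdec, map_mul, hσ, hgg, ← hgL'] at h1
    have hs : σ g (sPow L e) = HahnSeries.C (gL ^ e) * sPow L e := by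
      have hX : σ g (sPow L 1) = HahnSeries.C gL * sPow L 1 := by
        have h2 := hσ g PowerSeries.X
        rw [PowerSeries.rescale_X, map_mul, HahnSeries.ofPowerSeries_X,
          HahnSeries.ofPowerSeries_C, hgg, ← hgL'] at h2
        exact h2
      rw [sPow_eq_zpow e, map_zpow₀, hX, mul_zpow, ← map_zpow₀ (HahnSeries.C : L →+* LaurentSeries L)]
    rw [hs] at h1
    have h2 : (HahnSeries.C (gL ^ e) * sPow L e * io L (PowerSeries.rescale gL r₀)).coeff e =
        (io L (γ g) * (sPow L e * io L r₀)).coeff e := congrArg (fun x : LaurentSeries L => x.coeff e) h1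
    rw [mul_assoc, HahnSeries.C_mul_eq_smul, HahnSeries.coeff_smul, coeff_sPow_mul_self,
      mul_left_comm, ← map_mul, coeff_sPow_mul_self, map_mul, hγ0 g, hgg, ← hgL', smul_eq_mul,
      ← PowerSeries.coeff_zero_eq_constantCoeff_apply, PowerSeries.coeff_rescale, pow_zero,
      one_mul, PowerSeries.coeff_zero_eq_constantCoeff_apply] at h2
    have h3 : gL ^ e = gL ^ w := mul_right_cancel₀ hc0 h2
    have h4 : algebraMap k L (g' ^ e) = algebraMap k L (g' ^ w) := by
      rw [map_zpow₀, map_zpow₀, ← hgL']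
      exact h3
    exact (algebraMap k L).injective h4
  exact ⟨r₀, by rw [← hew, hdec], fun _ => hc0⟩

/-! ### two variables -/

/-- evaluation of a two-variable Laurent polynomial at a pair of Laurent series -/
def ev2 (P : (ℤ × ℤ) →₀ L) (a b : LaurentSeries L) : LaurentSeries L :=
  P.sum fun ij c => HahnSeries.C c * a ^ ij.1 * b ^ ij.2

theorem coeff_ev2_s_C (P : (ℤ × ℤ) →₀ L) (v : L) (n : ℤ) :
    (ev2 P (sPow L 1) (HahnSeries.C v)).coeff n =
      ∑ ij ∈ P.support.filter (fun ij => ij.1 = n), P ij * v ^ ij.2 := by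
  unfold ev2 Finsupp.sum
  rw [HahnSeries.coeff_sum, Finset.sum_filter]
  refine Finset.sum_congr rfl fun ij _ => ?_
  show (HahnSeries.C (P ij) * sPow L 1 ^ ij.1 * HahnSeries.C v ^ ij.2).coeff n = _
  rw [← sPow_eq_zpow, ← map_zpow₀ (HahnSeries.C : L →+* LaurentSeries L), mul_right_comm,
    ← map_mul, HahnSeries.C_mul_eq_smul, HahnSeries.coeff_smul, HahnSeries.coeff_single,
    smul_eq_mul]
  by_cases h : ij.1 = n
  · rw [if_pos h, if_pos h.symm, mul_one]
  · rw [if_neg h, if_neg (fun h' => h h'.symm), mul_zero]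

theorem coeff_ev2_C_s (P : (ℤ × ℤ) →₀ L) (v : L) (n : ℤ) :
    (ev2 P (HahnSeries.C v) (sPow L 1)).coeff n =
      ∑ ij ∈ P.support.filter (fun ij => ij.2 = n), P ij * v ^ ij.1 := by
  unfold ev2 Finsupp.sum
  rw [HahnSeries.coeff_sum, Finset.sum_filter]
  refine Finset.sum_congr rfl fun ij _ => ?_
  show (HahnSeries.C (P ij) * HahnSeries.C v ^ ij.1 * sPow L 1 ^ ij.2).coeff n = _
  rw [← sPow_eq_zpow, ← map_zpow₀ (HahnSeries.C : L →+* LaurentSeries L),
    ← map_mul, HahnSeries.C_mul_eq_smul, HahnSeries.coeff_smul, HahnSeries.coeff_single,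
    smul_eq_mul]
  by_cases h : ij.2 = n
  · rw [if_pos h, if_pos h.symm, mul_one]
  · rw [if_neg h, if_neg (fun h' => h h'.symm), mul_zero]

theorem coeff_ev2_s_s (P : (ℤ × ℤ) →₀ L) (n : ℤ) :
    (ev2 P (sPow L 1) (sPow L 1)).coeff n =
      ∑ ij ∈ P.support.filter (fun ij => ij.1 + ij.2 = n), P ij := by
  unfold ev2 Finsupp.sum
  rw [HahnSeries.coeff_sum, Finset.sum_filter]
  refine Finset.sum_congr rfl fun ij _ => ?_
  show (HahnSeries.C (P ij) * sPow L 1 ^ ij.1 * sPow L 1 ^ ij.2).coeff n = _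
  rw [mul_assoc, ← zpow_add₀ (sPow_ne_zero 1), ← sPow_eq_zpow, HahnSeries.C_mul_eq_smul,
    HahnSeries.coeff_smul, HahnSeries.coeff_single, smul_eq_mul]
  by_cases h : ij.1 + ij.2 = n
  · rw [if_pos h, if_pos h.symm, mul_one]
  · rw [if_neg h, if_neg (fun h' => h h'.symm), mul_zero]

/-- characters `g ↦ g^j` of `kˣ` with values in `L` -/
def chiZ (k L : Type u) [Field k] [Field L] [Algebra k L] (j : ℤ) : kˣ →* L where
  toFun g := (algebraMap k L (g : k)) ^ j
  map_one' := by simp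
  map_mul' a b := by simp [mul_zpow]

theorem chiZ_injective [Infinite k] : Function.Injective (chiZ k L) := by
  intro e w h
  apply eq_of_forall_zpow_eq (k := k)
  intro g hg
  have h1 : (algebraMap k L g) ^ e = (algebraMap k L g) ^ w :=
    DFunLike.congr_fun h (Units.mk0 g hg)
  have h2 : algebraMap k L (g ^ e) = algebraMap k L (g ^ w) := by
    rw [map_zpow₀, map_zpow₀]
    exact h1
  exact (algebraMap k L).injective h2

theorem linInd_chiZ [Infinite k] :
    LinearIndependent L (fun j : ℤ => (chiZ k L j : kˣ → L)) :=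
  (linearIndependent_monoidHom kˣ L).comp (chiZ k L) chiZ_injective

theorem row_bound [Infinite k] (P : (ℤ × ℤ) →₀ L) (pr co : ℤ × ℤ → ℤ)
    (hinj : ∀ x y : ℤ × ℤ, pr x = pr y → co x = co y → x = y) (m₁ : ℤ)
    (h : ∀ (v₀ : kˣ) (n : ℤ), n < m₁ →
      ∑ ij ∈ P.support.filter (fun ij => pr ij = n),
        P ij * (algebraMap k L (v₀ : k)) ^ co ij = 0) :
    ∀ ij ∈ P.support, m₁ ≤ pr ij := by
  intro ij₀ hij₀
  by_contra hlt
  rw [not_le] at hlt
  obtain ⟨s', hs'⟩ : ∃ s' : Finset (ℤ × ℤ),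
      s' = P.support.filter (fun ij => pr ij = pr ij₀) := ⟨_, rfl⟩
  have hmem : ∀ x, x ∈ s' ↔ x ∈ P.support ∧ pr x = pr ij₀ := by
    intro x
    rw [hs', Finset.mem_filter]
  have hinj' : Function.Injective (fun ij : ↥s' => co ij.1) := by
    intro x y hxy
    apply Subtype.ext
    exact hinj x.1 y.1 (((hmem x.1).1 x.2).2.trans ((hmem y.1).1 y.2).2.symm) hxy
  have hLI := (linInd_chiZ (k := k) (L := L)).comp (fun ij : ↥s' => co ij.1) hinj'
  have hsum : ∑ ij : ↥s', P ij.1 • ((fun j : ℤ => (chiZ k L j : kˣ → L)) ∘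
      (fun ij : ↥s' => co ij.1)) ij = 0 := by
    funext v₀
    rw [Finset.sum_apply]
    have h1 := h v₀ (pr ij₀) hlt
    rw [← hs', ← Finset.sum_coe_sort s'] at h1
    exact h1
  have h0 := Fintype.linearIndependent_iff.mp hLI (fun ij => P ij.1) hsum
    ⟨ij₀, (hmem ij₀).2 ⟨hij₀, rfl⟩⟩
  exact (Finsupp.mem_support_iff.mp hij₀) h0

theorem two_var_lemma [Infinite k] (P : (ℤ × ℤ) →₀ L) (m₁ m₂ m : ℤ)
    (h₁ : ∀ v₀ : kˣ, ∃ b' : PowerSeries L,
      ev2 P (sPow L 1) (HahnSeries.C (algebraMap k L (v₀ : k))) = sPow L m₁ * io L b')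
    (h₂ : ∀ u₀ : kˣ, ∃ b' : PowerSeries L,
      ev2 P (HahnSeries.C (algebraMap k L (u₀ : k))) (sPow L 1) = sPow L m₂ * io L b')
    (h : ∃ b' : PowerSeries L, ev2 P (sPow L 1) (sPow L 1) = sPow L m * io L b' ∧
      PowerSeries.constantCoeff b' ≠ 0) :
    m₁ + m₂ ≤ m := by
  have hA := row_bound (k := k) P Prod.fst Prod.snd (fun x y h1 h2 => Prod.ext h1 h2) m₁
    (fun v₀ n hn => by
      obtain ⟨b', hb'⟩ := h₁ v₀
      rw [← coeff_ev2_s_C, hb', coeff_sPow_mul _ _ _ hn])
  have hB := row_bound (k := k) P Prod.snd Prod.fst (fun x y h1 h2 => Prod.ext h2 h1) m₂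
    (fun u₀ n hn => by
      obtain ⟨b', hb'⟩ := h₂ u₀
      rw [← coeff_ev2_C_s, hb', coeff_sPow_mul _ _ _ hn])
  obtain ⟨b', hb', hb0⟩ := h
  have hc : (ev2 P (sPow L 1) (sPow L 1)).coeff m ≠ 0 := by
    rw [hb', coeff_sPow_mul_self]
    exact hb0
  rw [coeff_ev2_s_s] at hc
  obtain ⟨ij, hij, -⟩ := Finset.exists_ne_zero_of_sum_ne_zero hc
  rw [Finset.mem_filter] at hij
  have h3 := hA ij hij.1
  have h4 := hB ij hij.1
  have h5 := hij.2
  omega

/-! ### the ring of two-variable Laurent polynomials and its specialisations -/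

/-- the monoid homomorphism `(i, j) ↦ a^i b^j` -/
def pairHom (a b : (LaurentSeries L)ˣ) : Multiplicative (ℤ × ℤ) →* LaurentSeries L where
  toFun ij := ((a ^ (Multiplicative.toAdd ij).1 * b ^ (Multiplicative.toAdd ij).2 :
    (LaurentSeries L)ˣ) : LaurentSeries L)
  map_one' := by simp
  map_mul' x y := by
    simp only [toAdd_mul, Prod.fst_add, Prod.snd_add, zpow_add, ← Units.val_mul]
    congr 1
    exact mul_mul_mul_comm _ _ _ _

/-- specialisation `u ↦ a, v ↦ b` -/
def theta (a b : (LaurentSeries L)ˣ) : AddMonoidAlgebra L (ℤ × ℤ) →ₐ[L] LaurentSeries L :=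
  AddMonoidAlgebra.lift L (LaurentSeries L) (ℤ × ℤ) (pairHom a b)

theorem theta_apply (a b : (LaurentSeries L)ˣ) (P : AddMonoidAlgebra L (ℤ × ℤ)) :
    theta a b P = ev2 P.coeff (a : LaurentSeries L) (b : LaurentSeries L) := by
  unfold theta ev2
  rw [AddMonoidAlgebra.lift_apply]
  refine Finsupp.sum_congr fun ij _ => ?_
  rw [Algebra.smul_def, mul_assoc, LaurentSeries.algebraMap_apply]
  congr 1
  show ((a ^ ij.1 * b ^ ij.2 : (LaurentSeries L)ˣ) : LaurentSeries L) = _
  rw [Units.val_mul, Units.val_zpow_eq_zpow_val, Units.val_zpow_eq_zpow_val]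

theorem theta_single (a b : (LaurentSeries L)ˣ) (i j : ℤ) :
    theta a b (AddMonoidAlgebra.single (i, j) 1) =
      ((a ^ i * b ^ j : (LaurentSeries L)ˣ) : LaurentSeries L) := by
  unfold theta
  rw [AddMonoidAlgebra.lift_single, Algebra.smul_def, map_one, one_mul]
  rfl

end Groth.Agent.Lib.Helper29.HMWtAlg
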