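import Mathlib
import Groth.Prelude.Def_Magnet4
import Groth.Agent.Lib.Helper29.MagnetPt
import Groth.Agent.Lib.Helper29.MagnetBBAlg
import Groth.Agent.Lib.Helper29.MagnetBBGeom

/-!
# Points of the affine line `A(ℕ)_S` and of `G_m = A(ℤ)_S`, and the orbit-limit lemma (helper29, for S18959)

* `ptN f r : Over.mk f ⟶ AMonS S ℕ` for `f : Spec K ⟶ S`, `r : K`; multiplicative; `ptZ f u` for a unit `u`.
* For an action `a` of `A(ℕ)_S` on `Z` and a point `z` of `Z` with values in a local ring `K`: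
  `lim a f z = 0 • z` (a fixed point), `orb a f z` the orbit map over `O₁ = K[s]_{(𝔪, s)}` and `gen a f z` the
  generic orbit point over `O' = K[s]_{𝔪[s]}` (where `s` is a unit); `gen` lies in every open containing `lim`,
  and `s⁻¹ • gen = z`.
-/
set_option autoImplicit false
set_option maxHeartbeats 1600000
set_option linter.style.haveILetI false
universe u
open CategoryTheory CategoryTheory.Limits MonoidalCategory CartesianMonoidalCategory MonObj
  AlgebraicGeometry Opposite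

noncomputable section

namespace Groth.Agent.Lib.Helper29.MagnetLine

open Magnet MagnetFixAlg MagnetBBPts MagnetPt MagnetBBAlg MagnetBBGeom

section Alg
variable {K : Type u} [CommRing K]

/-- the ring map `ℤ[ℕ] → K`, `e^1 ↦ r` -/
def chiN (r : K) : MonoidAlgebra (ULift.{u} ℤ) (Multiplicative ℕ) →+* K :=
  MonoidAlgebra.liftNCRingHom (cK K) (powersHom K r) (fun _ _ => Commute.all _ _)

theorem chiN_eN (r : K) (n : ℕ) : chiN r (eN n) = r ^ n := by
  unfold chiN eN
  rw [MonoidAlgebra.liftNCRingHom_single, cK_one, _root_.one_mul]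
  rfl

theorem chiU_eN (u : Kˣ) (n : ℤ) : chiU u (eN n) = ((u ^ n : Kˣ) : K) := by
  unfold chiU eN
  rw [MonoidAlgebra.liftNCRingHom_single, cK_one, _root_.one_mul]
  change ((zpowersHom Kˣ u (Multiplicative.ofAdd n) : Kˣ) : K) = _
  rw [zpowersHom_apply, toAdd_ofAdd]

end Alg

section Pts
variable {S : Scheme.{u}} {K : CommRingCat.{u}} (f : Spec K ⟶ S)

/-- `K → Γ(Spec K)` -/
def gI (K : CommRingCat.{u}) : K →+* Γ(Spec K, ⊤) := (Scheme.ΓSpecIso K).inv.hom

theorem gI_nat {K K' : CommRingCat.{u}} (θ : K ⟶ K') (x : K) :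
    (Spec.map θ).appTop.hom (gI K x) = gI K' (θ.hom x) := by
  have h := ConcreteCategory.congr_hom (Scheme.ΓSpecIso_inv_naturality θ) x
  exact h.symm

/-- the point `r` of the affine line -/
def ptN (r : K) : Over.mk f ⟶ AMonS S ℕ := ptChi (Over.mk f) ((gI K).comp (chiN r))

theorem chi_ptN (r : K) (n : ℕ) : chi (ptN f r) (eN n) = gI K (r ^ n) := by
  unfold ptN
  rw [chi_ptChi, RingHom.comp_apply, chiN_eN]

/-- the point `u` of `G_m` -/
def ptZ (u : Kˣ) : Over.mk f ⟶ AMonS S ℤ := ptChi (Over.mk f) ((gI K).comp (chiU u))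

theorem chi_ptZ (u : Kˣ) (n : ℤ) : chi (ptZ f u) (eN n) = gI K ((u ^ n : Kˣ) : K) := by
  unfold ptZ
  rw [chi_ptChi, RingHom.comp_apply, chiU_eN]

theorem ptN_mul (r r' : K) : ptN f r * ptN f r' = ptN f (r * r') := by
  apply chi_ext
  intro n
  rw [chi_mul, chi_ptN, chi_ptN, chi_ptN, ← map_mul, mul_pow]

theorem ptN_one : ptN f (1 : K) = 1 := by
  apply chi_ext
  intro n
  rw [chi_ptN, chi_one, one_pow, map_one]

theorem ptZ_cast (u : Kˣ) :
    ptZ f u ≫ AMonS.map S (Nat.castAddMonoidHom ℤ) = ptN f (u : K) := by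
  apply chi_ext
  intro n
  rw [chi_map, RingHom.comp_apply, rh_eN, chi_ptZ, chi_ptN]
  congr 1

theorem homMk_comp_ptN {K' : CommRingCat.{u}} (θ : K ⟶ K') (f' : Spec K' ⟶ S)
    (w : Spec.map θ ≫ f = f') (r : K) :
    (Over.homMk (Spec.map θ) w : Over.mk f' ⟶ Over.mk f) ≫ ptN f r = ptN f' (θ.hom r) := by
  apply chi_ext
  intro n
  rw [chi_comp, RingHom.comp_apply, chi_ptN, chi_ptN, ← map_pow]
  exact gI_nat θ _

theorem zero_absorb {T' : Over S} (t : T' ⟶ Over.mk f) (g : T' ⟶ AMonS S ℕ) :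
    g * (t ≫ ptN f 0) = t ≫ ptN f 0 := by
  apply chi_ext
  intro n
  rw [chi_mul, chi_comp, RingHom.comp_apply, chi_ptN]
  cases n with
  | zero => rw [eN_zero, map_one, _root_.one_mul]
  | succ n => rw [pow_succ, mul_zero, map_zero, map_zero, mul_zero]

end Pts

/-! ### a topological lemma -/

theorem range_subset_of_closedPoint {R : CommRingCat.{u}} [IsLocalRing R] {W : Scheme.{u}}
    (x : Spec R ⟶ W) (U : W.Opens) (h : x (IsLocalRing.closedPoint R) ∈ U) :
    Set.range x ⊆ U := by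
  rintro _ ⟨p, rfl⟩
  have hs : x p ⤳ x (IsLocalRing.closedPoint R) :=
    (IsLocalRing.specializes_closedPoint (R := R) p).map x.continuous
  exact hs.mem_open U.isOpen h

theorem specMap_closedPoint_of_surjective {R R' : CommRingCat.{u}} [IsLocalRing R] [IsLocalRing R']
    (φ : R ⟶ R') (hφ : Function.Surjective φ.hom) :
    (Spec.map φ) (IsLocalRing.closedPoint R') = IsLocalRing.closedPoint R := by
  apply PrimeSpectrum.ext
  change Ideal.comap φ.hom (IsLocalRing.maximalIdeal R') = IsLocalRing.maximalIdeal R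
  haveI : (Ideal.comap φ.hom (IsLocalRing.maximalIdeal R')).IsMaximal :=
    Ideal.comap_isMaximal_of_surjective φ.hom hφ
  exact IsLocalRing.eq_maximalIdeal inferInstance

/-! ### the orbit-limit lemma -/

section Orbit
variable {S : Scheme.{u}} {Z : Over S} (a : MonAct (AMonS S ℕ) Z)
  {K : CommRingCat.{u}} [IsLocalRing K] (f : Spec K ⟶ S) (z : Over.mk f ⟶ Z)

/-- `K → O₁ K` -/
abbrev θc (K : CommRingCat.{u}) [IsLocalRing K] : K ⟶ CommRingCat.of (O₁ K) :=
  CommRingCat.ofHom (θ₁ K)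

/-- `O₁ K → K`, `s ↦ 0` -/
abbrev σc (K : CommRingCat.{u}) [IsLocalRing K] : CommRingCat.of (O₁ K) ⟶ K :=
  CommRingCat.ofHom (σ K 0 (Ideal.zero_mem _))

/-- `O₁ K → O' K` -/
abbrev τc (K : CommRingCat.{u}) [IsLocalRing K] : CommRingCat.of (O₁ K) ⟶ CommRingCat.of (O' K) :=
  CommRingCat.ofHom (τ K)

/-- `K → O' K` -/
abbrev ιc (K : CommRingCat.{u}) [IsLocalRing K] : K ⟶ CommRingCat.of (O' K) :=
  CommRingCat.ofHom (ι' K)

theorem θσ (K : CommRingCat.{u}) [IsLocalRing K] : θc K ≫ σc K = 𝟙 K := by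
  ext c
  exact σ_θ₁ K 0 (Ideal.zero_mem _) c

theorem θτ (K : CommRingCat.{u}) [IsLocalRing K] : θc K ≫ τc K = ιc K := by
  ext c
  exact τ_θ₁ K c

/-- the unit `s` of `O' K` -/
def su (K : CommRingCat.{u}) [IsLocalRing K] : (CommRingCat.of (O' K))ˣ := (isUnit_τ_s₁ K).unit

theorem su_spec (K : CommRingCat.{u}) [IsLocalRing K] :
    (τc K).hom (s₁ K) = ((su K : (CommRingCat.of (O' K))ˣ) : CommRingCat.of (O' K)) :=
  (isUnit_τ_s₁ K).unit_spec.symm

/-- the base `Spec O₁ → S` -/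
abbrev f₁ : Spec (CommRingCat.of (O₁ K)) ⟶ S := Spec.map (θc K) ≫ f

/-- the base `Spec O' → S` -/
abbrev fL : Spec (CommRingCat.of (O' K)) ⟶ S := Spec.map (ιc K) ≫ f

/-- `Spec O₁ → Spec K` -/
def π₁ : Over.mk (f₁ f) ⟶ Over.mk f := Over.homMk (Spec.map (θc K)) rfl

/-- `Spec O' → Spec K` -/
def πL : Over.mk (fL f) ⟶ Over.mk f := Over.homMk (Spec.map (ιc K)) rfl

theorem w₀ : Spec.map (σc K) ≫ f₁ f = f := by
  rw [← Category.assoc, ← Spec.map_comp, θσ, Spec.map_id, Category.id_comp]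

theorem wj : Spec.map (τc K) ≫ f₁ f = fL f := by
  rw [← Category.assoc, ← Spec.map_comp, θτ]

/-- the section `s = 0` -/
def ε₀ : Over.mk f ⟶ Over.mk (f₁ f) := Over.homMk (Spec.map (σc K)) (w₀ f)

/-- the generic point -/
def jL : Over.mk (fL f) ⟶ Over.mk (f₁ f) := Over.homMk (Spec.map (τc K)) (wj f)

theorem ε₀_π₁ : ε₀ f ≫ π₁ f = 𝟙 _ := by
  apply Over.OverMorphism.ext
  change Spec.map (σc K) ≫ Spec.map (θc K) = 𝟙 _
  rw [← Spec.map_comp, θσ, Spec.map_id]

theorem jL_π₁ : jL f ≫ π₁ f = πL f := by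
  apply Over.OverMorphism.ext
  change Spec.map (τc K) ≫ Spec.map (θc K) = Spec.map (ιc K)
  rw [← Spec.map_comp, θτ]

/-- the limit point `0 • z` -/
def lim : Over.mk f ⟶ Z := lift (ptN f 0) z ≫ a.act

/-- the orbit map over `O₁` -/
def orb : Over.mk (f₁ f) ⟶ Z := lift (ptN (f₁ f) (s₁ K)) (π₁ f ≫ z) ≫ a.act

/-- the generic orbit point over `O'` -/
def gen : Over.mk (fL f) ⟶ Z :=
  lift (ptN (fL f) ((su K : (CommRingCat.of (O' K))ˣ) : CommRingCat.of (O' K))) (πL f ≫ z) ≫ a.act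

theorem ε₀_orb : ε₀ f ≫ orb a f z = lim a f z := by
  unfold orb lim ε₀
  rw [← Category.assoc, comp_lift, homMk_comp_ptN (f₁ f) (σc K) f (w₀ f) (s₁ K)]
  have h0 : (σc K).hom (s₁ K) = 0 := σ_s₁ K 0 (Ideal.zero_mem _)
  rw [h0]
  have h1 : (Over.homMk (Spec.map (σc K)) (w₀ f) : Over.mk f ⟶ Over.mk (f₁ f)) ≫ π₁ f ≫ z = z := by
    rw [← Category.assoc]
    have := ε₀_π₁ f
    unfold ε₀ at this
    rw [this, Category.id_comp]
  rw [h1]

theorem jL_orb : jL f ≫ orb a f z = gen a f z := by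
  unfold orb gen jL
  rw [← Category.assoc, comp_lift, homMk_comp_ptN (f₁ f) (τc K) (fL f) (wj f) (s₁ K), su_spec]
  have h1 : (Over.homMk (Spec.map (τc K)) (wj f) : Over.mk (fL f) ⟶ Over.mk (f₁ f)) ≫ π₁ f ≫ z =
      πL f ≫ z := by
    rw [← Category.assoc]
    have := jL_π₁ f
    unfold jL at this
    rw [this]
  rw [h1]

/-- the limit point is fixed -/
theorem lim_fixed (T' : Over S) (t : T' ⟶ Over.mk f) (g : T' ⟶ AMonS S ℕ) :
    lift g (t ≫ lim a f z) ≫ a.act = t ≫ lim a f z := by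
  unfold lim
  rw [← Category.assoc t, comp_lift, ← MonAct.lift_mul_act, zero_absorb]

/-- `s⁻¹ • gen = z` -/
theorem inv_gen :
    lift (ptN (fL f) (((su K)⁻¹ : (CommRingCat.of (O' K))ˣ) : CommRingCat.of (O' K))) (gen a f z) ≫
      a.act = πL f ≫ z := by
  unfold gen
  rw [← MonAct.lift_mul_act, ptN_mul, Units.inv_mul, ptN_one, MonAct.lift_one_act]

/-- `G_m`-form of `inv_gen` -/
theorem inv_gen' :
    lift (ptZ (fL f) (su K)⁻¹) (gen a f z) ≫
      (a.restrict (AMonS.map S (Nat.castAddMonoidHom ℤ))).act = πL f ≫ z := by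
  rw [MonAct.lift_restrict_act, ptZ_cast, inv_gen]

/-- equivariant maps commute with `lim`, `orb`, `gen` -/
theorem lim_comp {Y : Over S} (b : MonAct (AMonS S ℕ) Y) (h : Z ⟶ Y)
    (hh : MonAct.IsEquivariant a b h) : lim a f z ≫ h = lim b f (z ≫ h) := by
  unfold lim
  rw [Category.assoc, (MonAct.isEquivariant_iff a b h).mp hh]

theorem orb_comp {Y : Over S} (b : MonAct (AMonS S ℕ) Y) (h : Z ⟶ Y)
    (hh : MonAct.IsEquivariant a b h) : orb a f z ≫ h = orb b f (z ≫ h) := by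
  unfold orb
  rw [Category.assoc, (MonAct.isEquivariant_iff a b h).mp hh, Category.assoc]

theorem gen_comp {Y : Over S} (b : MonAct (AMonS S ℕ) Y) (h : Z ⟶ Y)
    (hh : MonAct.IsEquivariant a b h) : gen a f z ≫ h = gen b f (z ≫ h) := by
  unfold gen
  rw [Category.assoc, (MonAct.isEquivariant_iff a b h).mp hh, Category.assoc]

theorem closedPoint_O₁ :
    (Spec.map (σc K)) (IsLocalRing.closedPoint K) = IsLocalRing.closedPoint (CommRingCat.of (O₁ K)) := by
  apply specMap_closedPoint_of_surjective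
  intro c
  exact ⟨θ₁ K c, σ_θ₁ K 0 (Ideal.zero_mem _) c⟩

/-- an open containing the limit point contains the whole orbit -/
theorem range_orb_subset (U : Z.left.Opens)
    (h : (lim a f z).left (IsLocalRing.closedPoint K) ∈ U) : Set.range (orb a f z).left ⊆ U := by
  apply range_subset_of_closedPoint (R := CommRingCat.of (O₁ K))
  rw [← closedPoint_O₁]
  have e : (lim a f z).left = Spec.map (σc K) ≫ (orb a f z).left := by
    rw [← ε₀_orb]; rfl
  rw [e] at h
  exact h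

theorem range_gen_subset (U : Z.left.Opens)
    (h : (lim a f z).left (IsLocalRing.closedPoint K) ∈ U) : Set.range (gen a f z).left ⊆ U := by
  rintro _ ⟨p, rfl⟩
  have e : (gen a f z).left = Spec.map (τc K) ≫ (orb a f z).left := by
    rw [← jL_orb]; rfl
  rw [e]
  exact range_orb_subset a f z U h ⟨_, rfl⟩

end Orbit

end Groth.Agent.Lib.Helper29.MagnetLine
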