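import Mathlib
import Groth.Prelude.Def_HMNum
import Groth.Agent.Lib.Helper29.HMConj
import Groth.Agent.Lib.Helper29.MagnetLine
import Groth.Agent.Lib.Helper29.HMWtAlg

/-!
# Geometry for the numerical function along a torus, part 1 (helper29, for S19789)

Points of the affine line and of the multiplicative group with values in an arbitrary `T`, evaluation of functions on the
total space of a linearised bundle at points, and points of the fibres at which a given function does not vanish.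
-/
set_option autoImplicit false
set_option maxHeartbeats 1600000
set_option linter.style.haveILetI false
universe u
open CategoryTheory CategoryTheory.Limits MonoidalCategory CartesianMonoidalCategory MonObj
  AlgebraicGeometry Opposite

noncomputable section

namespace Groth.Agent.Lib.Helper29.HMWtGeom

open Magnet MagnetBBPts MagnetPt HMLimit HMConj MagnetLine

/-! ### points -/

section Alg
variable {K K' : Type u} [CommRing K] [CommRing K']

theorem comp_chiU (θ : K →+* K') (u : Kˣ) :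
    θ.comp (chiU u) = chiU (Units.map (θ : K →* K') u) := by
  apply ringHom_ext_eN
  intro n
  rw [RingHom.comp_apply, MagnetLine.chiU_eN, MagnetLine.chiU_eN, ← map_zpow]
  rfl

theorem conv_chiU (u u' : Kˣ) : conv (chiU u) (chiU u') = chiU (u * u') := by
  apply ringHom_ext_eN
  intro n
  rw [conv_eN, MagnetLine.chiU_eN, MagnetLine.chiU_eN, MagnetLine.chiU_eN, mul_zpow, Units.val_mul]

end Alg

section Pts
variable {S : Scheme.{u}}

/-- the point of the affine line with coordinate `r` -/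
def aPt (T : Over S) (r : Γ(T.left, ⊤)) : T ⟶ HMNum.A1 S := ptChi T (chiR r)

/-- the point of the multiplicative group with coordinate `u` -/
def gPt (T : Over S) (u : (Γ(T.left, ⊤))ˣ) : T ⟶ Red.Gm S := ptChi T (chiU u)

theorem comp_aPt {T T' : Over S} (q : T' ⟶ T) (r : Γ(T.left, ⊤)) :
    q ≫ aPt T r = aPt T' (q.left.appTop.hom r) := by
  unfold aPt
  rw [comp_ptChi, comp_chiR]

theorem comp_gPt {T T' : Over S} (q : T' ⟶ T) (u : (Γ(T.left, ⊤))ˣ) :
    q ≫ gPt T u = gPt T' (Units.map (q.left.appTop.hom : Γ(T.left, ⊤) →* Γ(T'.left, ⊤)) u) := by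
  unfold gPt
  rw [comp_ptChi, comp_chiU]

theorem gPt_incl (T : Over S) (u : (Γ(T.left, ⊤))ˣ) :
    gPt T u ≫ HMNum.incl S = aPt T (u : Γ(T.left, ⊤)) := by
  unfold gPt aPt HMNum.incl
  refine (eq_ptChi _).trans (congrArg (ptChi T) ?_)
  rw [chi_map, chi_ptChi, chiU_comp_subtype]

theorem chi_mul' {N : Type} [AddCommMonoid N] {T : Over S} (P P' : T ⟶ AMonS S N) :
    chi (P * P') = conv (chi P) (chi P') := by
  apply ringHom_ext_eN
  intro n
  rw [chi_mul, conv_eN]

theorem gPt_mul (T : Over S) (u u' : (Γ(T.left, ⊤))ˣ) : gPt T u * gPt T u' = gPt T (u * u') := by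
  unfold gPt
  refine (eq_ptChi _).trans (congrArg (ptChi T) ?_)
  rw [chi_mul', chi_ptChi, chi_ptChi, conv_chiU]

theorem aPt_mul (T : Over S) (r r' : Γ(T.left, ⊤)) : aPt T r * aPt T r' = aPt T (r * r') := by
  unfold aPt
  refine (eq_ptChi _).trans (congrArg (ptChi T) ?_)
  rw [chi_mul', chi_ptChi, chi_ptChi, conv_chiR]

theorem exists_eq_aPt {T : Over S} (m : T ⟶ HMNum.A1 S) : ∃ r, m = aPt T r :=
  ⟨chi m (eN gen), (eq_ptChi m).trans (congrArg (ptChi T) (eq_chiR _))⟩

theorem aPt_zero (T : Over S) : aPt T 0 = toUnit T ≫ HMNum.origin S := by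
  have h1 : aPt T (0 : Γ(T.left, ⊤)) * (toUnit T ≫ HMNum.origin S) = toUnit T ≫ HMNum.origin S :=
    origin_absorb _
  obtain ⟨r, hr⟩ := exists_eq_aPt (toUnit T ≫ HMNum.origin S)
  rw [← h1, hr, aPt_mul, zero_mul]

theorem aPt_one (T : Over S) : aPt T 1 = 1 := by
  apply chi_ext
  intro n
  unfold aPt
  rw [chi_ptChi, chi_one]
  obtain ⟨k, rfl⟩ := eq_nsmul_gen n
  rw [eN_nsmul, map_pow, chiR_gen, one_pow]

theorem unitOfPt_gPt (T : Over S) (u : (Γ(T.left, ⊤))ˣ) : GmPts.unitOfPt (gPt T u) = u := by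
  apply Units.ext
  rw [GmPts.val_unitOfPt]
  show chi (gPt T u) (eN (1 : ℤ)) = u
  unfold gPt
  rw [chi_ptChi, MagnetLine.chiU_eN, zpow_one]

end Pts

/-! ### evaluation of functions at points -/

/-- the identification of `Γ(Spec R, ⊤)` with `R` -/
def evR (R : CommRingCat.{u}) : Γ(Spec R, ⊤) →+* R := (Scheme.ΓSpecIso R).hom.hom

theorem evR_gI (R : CommRingCat.{u}) (x : R) : evR R (gI R x) = x := by
  have h := ConcreteCategory.congr_hom (Scheme.ΓSpecIso R).inv_hom_id x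
  exact h

theorem gI_evR (R : CommRingCat.{u}) (s : Γ(Spec R, ⊤)) : gI R (evR R s) = s := by
  have h := ConcreteCategory.congr_hom (Scheme.ΓSpecIso R).hom_inv_id s
  exact h

theorem evR_nat {R R' : CommRingCat.{u}} (θ : R ⟶ R') (s : Γ(Spec R, ⊤)) :
    evR R' ((Spec.map θ).appTop.hom s) = θ.hom (evR R s) := by
  rw [← gI_evR R s, gI_nat, evR_gI, evR_gI]

theorem evR_injective (R : CommRingCat.{u}) : Function.Injective (evR R) := by
  intro s s' h
  rw [← gI_evR R s, ← gI_evR R s', h]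

section Eval
variable {S : Scheme.{u}}

theorem appLE_top_top {A B : Scheme.{u}} (f : A ⟶ B) (e : (⊤ : A.Opens) ≤ f ⁻¹ᵁ ⊤) (s : Γ(B, ⊤)) :
    f.appLE ⊤ ⊤ e s = f.appTop s := by
  rw [Scheme.Hom.appTop, Scheme.Hom.app_eq_appLE]
  rfl

theorem appTop_comp_pt {T T' V : Over S} (q : T' ⟶ T) (v : T ⟶ V) (f : Γ(V.left, ⊤)) :
    q.left.appTop.hom (v.left.appTop.hom f) = (q ≫ v).left.appTop.hom f := by
  rw [Over.comp_left, Scheme.Hom.comp_appTop]
  rfl

theorem appLE_comp_pt {T T' X : Over S} (q : T' ⟶ T) (x : T ⟶ X) (U : X.left.Opens)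
    (h : ⊤ ≤ x.left ⁻¹ᵁ U) (h' : ⊤ ≤ (q ≫ x).left ⁻¹ᵁ U) (c : Γ(X.left, U)) :
    q.left.appTop.hom (x.left.appLE U ⊤ h c) = (q ≫ x).left.appLE U ⊤ h' c := by
  rw [← appLE_top_top q.left le_top, appLE_appLE_apply]
  rfl

theorem evalFn_comp {X V : Over S} (π : V ⟶ X) {U : X.left.Opens} (t : Γ(V.left, π.left ⁻¹ᵁ U))
    {T T' : Over S} (q : T' ⟶ T) (v : T ⟶ V) (h : ⊤ ≤ v.left ⁻¹ᵁ (π.left ⁻¹ᵁ U))
    (h' : ⊤ ≤ (q ≫ v).left ⁻¹ᵁ (π.left ⁻¹ᵁ U)) :
    q.left.appTop.hom (HMNum.evalFn π t v h) = HMNum.evalFn π t (q ≫ v) h' := by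
  unfold HMNum.evalFn
  rw [← appLE_top_top q.left le_top, appLE_appLE_apply]
  rfl

variable {G X : Over S} [GrpObj G] {a : AlgGrp.Action G X} (B : GLinSh.LinBun G a)

/-- pointwise form of `HasWeight` -/
theorem hasWeight_pt {n : ℕ} {f : Γ(B.V.left, ⊤)} (hf : GLinSh.HasWeight B.atlas.chart n f)
    (U : X.left.Opens) (t : Γ(B.V.left, B.π.left ⁻¹ᵁ U)) (ht : t ∈ B.atlas.chart U) :
    ∃ c : Γ(X.left, U), ∀ (T : Over S) (v : T ⟶ B.V) (x : T ⟶ X) (_ : v ≫ B.π = x)
      (h1 : ⊤ ≤ v.left ⁻¹ᵁ (B.π.left ⁻¹ᵁ U)) (h2 : ⊤ ≤ x.left ⁻¹ᵁ U),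
      v.left.appTop.hom f = x.left.appLE U ⊤ h2 c * HMNum.evalFn B.π t v h1 ^ n := by
  obtain ⟨c, hc⟩ := hf U t ht
  refine ⟨c, fun T v x hx h1 h2 => ?_⟩
  subst hx
  have h := congrArg (fun s => v.left.appLE (B.π.left ⁻¹ᵁ U) ⊤ h1 s) hc
  simp only at h
  rw [map_mul, map_pow] at h
  have e1 : v.left.appLE (B.π.left ⁻¹ᵁ U) ⊤ h1 (GLinSh.resTop B.π U f) = v.left.appTop.hom f := by
    rw [← appLE_top_top v.left le_top]
    have h3 := ConcreteCategory.congr_hom
      (v.left.map_appLE h1 (homOfLE (le_top : B.π.left ⁻¹ᵁ U ≤ ⊤)).op) f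
    exact h3
  have e2 : v.left.appLE (B.π.left ⁻¹ᵁ U) ⊤ h1 (B.π.left.app U c) =
      (v ≫ B.π).left.appLE U ⊤ h2 c := by
    rw [Scheme.Hom.app_eq_appLE, appLE_appLE_apply]
    rfl
  rw [e1, e2] at h
  exact h

/-- a field-valued point of the fibre of `V` over a point of `X`, at which a given function does not vanish -/
theorem exists_fibre_pt {T : Over S} (z : T ⟶ X) (p : T.left) (f : Γ(B.V.left, ⊤))
    (hz : z.left p ∈ GLinSh.nonvanishing B.π f) :
    ∃ (F : Type u) (_ : Field F) (fF : Spec (CommRingCat.of F) ⟶ S) (v₀ : Over.mk fF ⟶ B.V)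
      (t'' : Over.mk fF ⟶ T), v₀ ≫ B.π = t'' ≫ z ∧ v₀.left.appTop.hom f ≠ 0 := by
  obtain ⟨q, hq, hqz⟩ := hz
  obtain ⟨w, hw1, hw2⟩ := Scheme.Pullback.exists_preimage_pullback (f := B.π.left) (g := z.left)
    q p hqz
  obtain ⟨m, hm⟩ : ∃ m : Spec (CommRingCat.of ((pullback B.π.left z.left).residueField w)) ⟶
      pullback B.π.left z.left, m = (pullback B.π.left z.left).fromSpecResidueField w := ⟨_, rfl⟩
  have hcond : (m ≫ pullback.snd B.π.left z.left) ≫ T.hom =
      (m ≫ pullback.fst B.π.left z.left) ≫ B.V.hom := by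
    rw [Category.assoc, Category.assoc, ← Over.w z, ← Over.w B.π, ← Category.assoc (pullback.snd _ _),
      ← pullback.condition, Category.assoc]
  refine ⟨(pullback B.π.left z.left).residueField w, inferInstance,
    (m ≫ pullback.fst B.π.left z.left) ≫ B.V.hom,
    Over.homMk (m ≫ pullback.fst B.π.left z.left) rfl,
    Over.homMk (m ≫ pullback.snd B.π.left z.left) hcond, ?_, ?_⟩
  · apply Over.OverMorphism.ext
    simp only [Over.comp_left, Over.homMk_left, Category.assoc]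
    rw [pullback.condition]
  · intro h0
    have hc : (m ≫ pullback.fst B.π.left z.left) (IsLocalRing.closedPoint _) ∈
        B.V.left.basicOpen f := by
      rw [Scheme.Hom.comp_apply, hm, Scheme.fromSpecResidueField_apply, hw1]
      exact hq
    have hc' : IsLocalRing.closedPoint _ ∈
        (m ≫ pullback.fst B.π.left z.left) ⁻¹ᵁ (B.V.left.basicOpen f) := hc
    rw [Scheme.preimage_basicOpen] at hc'
    have h0' : (m ≫ pullback.fst B.π.left z.left).app ⊤ f = 0 := h0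
    rw [h0', Scheme.basicOpen_zero] at hc'
    exact hc'

end Eval

end Groth.Agent.Lib.Helper29.HMWtGeom
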