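import Mathlib
import Groth.Prelude.Def_HMNum
import Groth.Agent.Lib.Helper29.HMWtGeom
import Groth.Agent.Lib.Helper29.MagnetBB

/-!
# Geometry for the numerical function along a torus, part 2: the weight lemma (helper29, for S19789)

For a one-parameter subgroup `l`, a point `x` with limit `y` and weight `w` on the fibre at `y`, and a point `x̃` of `V`
over `x` with values in a field `L`, the function `s ↦ f(l(s) x̃)` (for `f` of weight `n`) lies in `s^{nw} L[[s]]`, with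
nonzero leading coefficient when `f` does not vanish at `y` and `x̃` is not in the zero section.
-/
set_option autoImplicit false
set_option maxHeartbeats 1600000
set_option linter.style.haveILetI false
universe u
open CategoryTheory CategoryTheory.Limits MonoidalCategory CartesianMonoidalCategory MonObj
  AlgebraicGeometry Opposite

noncomputable section

namespace Groth.Agent.Lib.Helper29.HMWtW

open Magnet MagnetBBPts MagnetPt HMLimit HMConj MagnetLine HMWtGeom HMWtAlg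

/-! ### the limit curve and orbits, over an arbitrary `T` -/

section Curve
variable {S : Scheme.{u}} {G X : Over S} [GrpObj G] (a : AlgGrp.Action G X) (l : Red.Gm S ⟶ G)
  [IsMonHom l] (φ : (HMNum.attrPlus a l).obj (op (𝟙_ (Over S))))

/-- the limit curve at a `T`-point `b` of the affine line -/
def psi (T : Over S) (b : T ⟶ HMNum.A1 S) : T ⟶ X := lift b (toUnit T) ≫ φ.1

theorem comp_psi {T T' : Over S} (q : T' ⟶ T) (b : T ⟶ HMNum.A1 S) :
    q ≫ psi a l φ T b = psi a l φ T' (q ≫ b) := by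
  unfold psi
  rw [← Category.assoc, comp_lift, comp_toUnit]

theorem psi_equivariant (T : Over S) (g : T ⟶ Red.Gm S) (b : T ⟶ HMNum.A1 S) :
    psi a l φ T ((g ≫ HMNum.incl S) * b) = lift (g ≫ l) (psi a l φ T b) ≫ a.act := by
  have hφ := (MonAct.mem_eqvHom_iff _).mp φ.2 T g b (toUnit T)
  rw [MagnetBB.lift_subAct_act] at hφ
  have h2 : lift g (lift b (toUnit T) ≫ φ.1) ≫ (HMNum.gmAct a l).act =
      lift (g ≫ l) (lift b (toUnit T) ≫ φ.1) ≫ a.act := by
    rw [MonAct.lift_restrict_act]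
    rfl
  rw [h2] at hφ
  exact hφ

theorem psi_one_eq (T : Over S) :
    psi a l φ T 1 =
      toUnit T ≫ (Magnet.attrToX (HMNum.gmAct a l) HMNum.plus).app (op (𝟙_ (Over S))) φ := by
  unfold psi
  change _ = toUnit T ≫ lift (toUnit (𝟙_ (Over S)) ≫ η[AMonS S ↥HMNum.plus]) (𝟙 (𝟙_ (Over S))) ≫ φ.1
  rw [← Category.assoc, comp_lift, Category.comp_id, ← Category.assoc, comp_toUnit, Hom.one_def]

theorem psi_zero_eq (T : Over S) :
    psi a l φ T (aPt T 0) = toUnit T ≫ HMNum.limitPt φ := by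
  unfold psi
  rw [HMNum.limitPt_eq, ← Category.assoc, comp_lift, Category.comp_id, ← Category.assoc,
    comp_toUnit, aPt_zero]

variable (B : GLinSh.LinBun G a)

/-- the translate of a point `v` of `V` by `l(u)` -/
def orb (T : Over S) (u : T ⟶ Red.Gm S) (v : T ⟶ B.V) : T ⟶ B.V := lift (u ≫ l) v ≫ B.lift.act

theorem comp_orb {T T' : Over S} (q : T' ⟶ T) (u : T ⟶ Red.Gm S) (v : T ⟶ B.V) :
    q ≫ orb a l B T u v = orb a l B T' (q ≫ u) (q ≫ v) := by
  unfold orb
  rw [← Category.assoc, comp_lift, Category.assoc]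

theorem orb_mul (T : Over S) (g u : T ⟶ Red.Gm S) (v : T ⟶ B.V) :
    orb a l B T (g * u) v = lift (g ≫ l) (orb a l B T u v) ≫ B.lift.act := by
  unfold orb
  rw [MonObj.mul_comp, lift_mul_act']

theorem orb_pi (T : Over S) (u : T ⟶ Red.Gm S) (v : T ⟶ B.V)
    (hv : v ≫ B.π =
      toUnit T ≫ (Magnet.attrToX (HMNum.gmAct a l) HMNum.plus).app (op (𝟙_ (Over S))) φ) :
    orb a l B T u v ≫ B.π = psi a l φ T (u ≫ HMNum.incl S) := by
  unfold orb
  rw [Category.assoc, B.lift_π, lift_whiskerLeft_assoc, hv, ← psi_one_eq, ← psi_equivariant,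
    _root_.mul_one]

end Curve

/-! ### rings over a field `L` -/

section Rings
variable {S : Scheme.{u}} {L : Type u} [Field L] (fL : Spec (CommRingCat.of L) ⟶ S)

abbrev Oc (L : Type u) [Field L] : CommRingCat.{u} := CommRingCat.of (PowerSeries L)
abbrev Kc (L : Type u) [Field L] : CommRingCat.{u} := CommRingCat.of (LaurentSeries L)
abbrev cC (L : Type u) [Field L] : CommRingCat.of L ⟶ Oc L :=
  CommRingCat.ofHom (PowerSeries.C : L →+* PowerSeries L)
abbrev cE (L : Type u) [Field L] : Oc L ⟶ CommRingCat.of L :=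
  CommRingCat.ofHom (PowerSeries.constantCoeff : PowerSeries L →+* L)
abbrev cI (L : Type u) [Field L] : Oc L ⟶ Kc L := CommRingCat.ofHom (io L)

theorem cC_cE : cC L ≫ cE L = 𝟙 _ := by
  refine CommRingCat.hom_ext (RingHom.ext fun b => ?_)
  show PowerSeries.constantCoeff (PowerSeries.C b) = b
  simp

/-- the scaling automorphism of the Laurent series field -/
def sigmaK (c : L) (hc : c ≠ 0) : LaurentSeries L →+* LaurentSeries L :=
  IsFractionRing.lift (A := PowerSeries L) (K := LaurentSeries L)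
    (g := (io L).comp (PowerSeries.rescale c))
    ((HahnSeries.ofPowerSeries_injective).comp (PowerSeries.rescale_injective hc))

theorem sigmaK_io (c : L) (hc : c ≠ 0) (b : PowerSeries L) :
    sigmaK c hc (io L b) = io L (PowerSeries.rescale c b) :=
  IsFractionRing.lift_algebraMap _ b

abbrev cS (c : L) : Oc L ⟶ Oc L := CommRingCat.ofHom (PowerSeries.rescale c)
abbrev cSK (c : L) (hc : c ≠ 0) : Kc L ⟶ Kc L := CommRingCat.ofHom (sigmaK c hc)

theorem cC_cS (c : L) : cC L ≫ cS c = cC L := by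
  refine CommRingCat.hom_ext (RingHom.ext fun b => ?_)
  show PowerSeries.rescale c (PowerSeries.C b) = PowerSeries.C b
  ext n
  rw [PowerSeries.coeff_rescale, PowerSeries.coeff_C]
  split_ifs with h
  · rw [h, pow_zero, _root_.one_mul]
  · rw [mul_zero]

theorem cI_cSK (c : L) (hc : c ≠ 0) : cI L ≫ cSK c hc = cS c ≫ cI L := by
  refine CommRingCat.hom_ext (RingHom.ext fun b => ?_)
  exact sigmaK_io c hc b

def fO : Spec (Oc L) ⟶ S := Spec.map (cC L) ≫ fL
def fK : Spec (Kc L) ⟶ S := Spec.map (cI L) ≫ fO fL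

def piO : Over.mk (fO fL) ⟶ Over.mk fL := Over.homMk (Spec.map (cC L)) rfl
def jK : Over.mk (fK fL) ⟶ Over.mk (fO fL) := Over.homMk (Spec.map (cI L)) rfl

def epsL : Over.mk fL ⟶ Over.mk (fO fL) := Over.homMk (Spec.map (cE L)) (by
  show Spec.map (cE L) ≫ Spec.map (cC L) ≫ fL = fL
  rw [← Category.assoc, ← Spec.map_comp, cC_cE, Spec.map_id, Category.id_comp])

def SigO (c : L) : Over.mk (fO fL) ⟶ Over.mk (fO fL) := Over.homMk (Spec.map (cS c)) (by
  show Spec.map (cS c) ≫ Spec.map (cC L) ≫ fL = Spec.map (cC L) ≫ fL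
  rw [← Category.assoc, ← Spec.map_comp, cC_cS])

def SigK (c : L) (hc : c ≠ 0) : Over.mk (fK fL) ⟶ Over.mk (fK fL) :=
  Over.homMk (Spec.map (cSK c hc)) (by
    show Spec.map (cSK c hc) ≫ Spec.map (cI L) ≫ Spec.map (cC L) ≫ fL =
      Spec.map (cI L) ≫ Spec.map (cC L) ≫ fL
    rw [← Category.assoc, ← Spec.map_comp, cI_cSK, Spec.map_comp, Category.assoc,
      ← Category.assoc (Spec.map (cS c)), ← Spec.map_comp, cC_cS])

theorem SigK_jK (c : L) (hc : c ≠ 0) : SigK fL c hc ≫ jK fL = jK fL ≫ SigO fL c := by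
  apply Over.OverMorphism.ext
  show Spec.map (cSK c hc) ≫ Spec.map (cI L) = Spec.map (cI L) ≫ Spec.map (cS c)
  rw [← Spec.map_comp, ← Spec.map_comp, cI_cSK]

theorem SigO_piO (c : L) : SigO fL c ≫ piO fL = piO fL := by
  apply Over.OverMorphism.ext
  show Spec.map (cS c) ≫ Spec.map (cC L) = Spec.map (cC L)
  rw [← Spec.map_comp, cC_cS]

theorem epsL_piO : epsL fL ≫ piO fL = 𝟙 _ := by
  apply Over.OverMorphism.ext
  show Spec.map (cE L) ≫ Spec.map (cC L) = 𝟙 _
  rw [← Spec.map_comp, cC_cE, Spec.map_id]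

/-- the coordinate `s` as a unit of the Laurent series field -/
def sU (L : Type u) [Field L] : (LaurentSeries L)ˣ := Units.mk0 (sPow L 1) (sPow_ne_zero 1)

/-- the coordinate `s` as a unit function on `Spec K` -/
def sKu (L : Type u) [Field L] : (Γ(Spec (Kc L), ⊤))ˣ :=
  Units.map (gI (Kc L) : LaurentSeries L →* Γ(Spec (Kc L), ⊤)) (sU L)

/-- a nonzero constant as a unit function on `Spec L` -/
def cLu (c : L) (hc : c ≠ 0) : (Γ(Spec (CommRingCat.of L), ⊤))ˣ :=
  Units.map (gI (CommRingCat.of L) : L →* Γ(Spec (CommRingCat.of L), ⊤)) (Units.mk0 c hc)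

theorem jK_aPt :
    jK fL ≫ aPt (Over.mk (fO fL)) (gI (Oc L) (PowerSeries.X : PowerSeries L)) =
      gPt (Over.mk (fK fL)) (sKu L) ≫ HMNum.incl S := by
  rw [comp_aPt, gPt_incl]
  congr 1
  show (Spec.map (cI L)).appTop.hom (gI (Oc L) PowerSeries.X) = gI (Kc L) (sPow L 1)
  rw [gI_nat]
  congr 1
  exact HahnSeries.ofPowerSeries_X

theorem epsL_aPt :
    epsL fL ≫ aPt (Over.mk (fO fL)) (gI (Oc L) (PowerSeries.X : PowerSeries L)) =
      aPt (Over.mk fL) 0 := by
  rw [comp_aPt]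
  congr 1
  show (Spec.map (cE L)).appTop.hom (gI (Oc L) PowerSeries.X) = 0
  rw [gI_nat]
  show gI (CommRingCat.of L) (PowerSeries.constantCoeff (PowerSeries.X : PowerSeries L)) = 0
  rw [PowerSeries.constantCoeff_X, map_zero]

theorem SigK_gPt (c : L) (hc : c ≠ 0) :
    SigK fL c hc ≫ gPt (Over.mk (fK fL)) (sKu L) =
      ((jK fL ≫ piO fL) ≫ gPt (Over.mk fL) (cLu c hc)) * gPt (Over.mk (fK fL)) (sKu L) := by
  rw [comp_gPt, comp_gPt, gPt_mul]
  congr 1
  apply Units.ext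
  show (Spec.map (cSK c hc)).appTop.hom (gI (Kc L) (sPow L 1)) =
    (Spec.map (cI L) ≫ Spec.map (cC L)).appTop.hom (gI (CommRingCat.of L) c) * gI (Kc L) (sPow L 1)
  rw [gI_nat, ← Spec.map_comp, gI_nat, ← map_mul]
  congr 1
  show sigmaK c hc (sPow L 1) = io L (PowerSeries.C c) * sPow L 1
  have h := sigmaK_io c hc PowerSeries.X
  rw [PowerSeries.rescale_X, map_mul, HahnSeries.ofPowerSeries_X] at h
  exact h

end Rings

/-! ### small helpers -/

section Helpers
variable {S : Scheme.{u}}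

theorem top_le_comp {T T' X : Over S} (q : T' ⟶ T) (x : T ⟶ X) (U : X.left.Opens)
    (hx : ⊤ ≤ x.left ⁻¹ᵁ U) : ⊤ ≤ (q ≫ x).left ⁻¹ᵁ U := by
  intro p _
  show x.left (q.left p) ∈ U
  exact hx (show q.left p ∈ (⊤ : T.left.Opens) from trivial)

theorem top_le_of_comp_eq {X V T T' : Over S} (π : V ⟶ X) (v : T' ⟶ V) (q : T' ⟶ T) (x : T ⟶ X)
    (e : v ≫ π = q ≫ x) (U : X.left.Opens) (hx : ⊤ ≤ x.left ⁻¹ᵁ U) :
    ⊤ ≤ v.left ⁻¹ᵁ (π.left ⁻¹ᵁ U) := by
  have h1 : v.left ⁻¹ᵁ (π.left ⁻¹ᵁ U) = (v ≫ π).left ⁻¹ᵁ U := rfl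
  rw [h1, e]
  exact top_le_comp q x U hx

theorem top_le_inf_of {T W X : Over S} (ρ : T ⟶ W) (h₁ h₂ : W ⟶ X) (U₁ U₂ : X.left.Opens)
    (e₁ : ⊤ ≤ (ρ ≫ h₁).left ⁻¹ᵁ U₁) (e₂ : ⊤ ≤ (ρ ≫ h₂).left ⁻¹ᵁ U₂) :
    ⊤ ≤ ρ.left ⁻¹ᵁ (h₁.left ⁻¹ᵁ U₁ ⊓ h₂.left ⁻¹ᵁ U₂) := by
  intro p hp
  exact ⟨e₁ hp, e₂ hp⟩

theorem nontrivial_ΓSpec (F : Type u) [Field F] : Nontrivial Γ(Spec (CommRingCat.of F), ⊤) :=
  (evR (CommRingCat.of F)).domain_nontrivial

theorem map_ne_zero_of_field {F : Type u} [Field F] {R' : Type u} [CommRing R'] [Nontrivial R']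
    (θ : Γ(Spec (CommRingCat.of F), ⊤) →+* R') (s : Γ(Spec (CommRingCat.of F), ⊤)) (hs : s ≠ 0) :
    θ s ≠ 0 := by
  have h1 : evR (CommRingCat.of F) s ≠ 0 := fun h => hs (by rw [← gI_evR _ s, h, map_zero])
  have h2 : IsUnit (evR (CommRingCat.of F) s) := IsUnit.mk0 _ h1
  have h3 : IsUnit (θ (gI (CommRingCat.of F) (evR (CommRingCat.of F) s))) :=
    (h2.map (gI (CommRingCat.of F))).map θ
  rw [gI_evR] at h3
  exact h3.ne_zero

theorem mul_right_cancel_ΓSpec {F : Type u} [Field F] (x y z : Γ(Spec (CommRingCat.of F), ⊤))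
    (hy : y ≠ 0) (h : x * y = z * y) : x = z := by
  apply evR_injective
  have h1 := congrArg (evR (CommRingCat.of F)) h
  rw [map_mul, map_mul] at h1
  exact mul_right_cancel₀
    (fun h0 => hy (evR_injective _ (h0.trans (map_zero _).symm))) h1

variable {L : Type u} [Field L] (fL : Spec (CommRingCat.of L) ⟶ S)

theorem top_le_of_epsL {W : Over S} (ρ : Over.mk (fO fL) ⟶ W) (A : W.left.Opens)
    (h : ⊤ ≤ (epsL fL ≫ ρ).left ⁻¹ᵁ A) : ⊤ ≤ ρ.left ⁻¹ᵁ A := by
  have h1 : (Spec.map (cE L)) (IsLocalRing.closedPoint (CommRingCat.of L)) =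
      IsLocalRing.closedPoint (Oc L) :=
    specMap_closedPoint_of_surjective (cE L) (fun b => ⟨PowerSeries.C b, by
      show PowerSeries.constantCoeff (PowerSeries.C b) = b
      simp⟩)
  have hcp : ρ.left (IsLocalRing.closedPoint (Oc L)) ∈ A := by
    rw [← h1]
    exact h (show IsLocalRing.closedPoint (CommRingCat.of L) ∈
      (⊤ : (Over.mk fL).left.Opens) from trivial)
  have hr := range_subset_of_closedPoint (R := Oc L) ρ.left A hcp
  intro p _
  exact hr ⟨p, rfl⟩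

end Helpers

end Groth.Agent.Lib.Helper29.HMWtW
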