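import Mathlib
import Groth.Prelude.Def_HMNum
import Groth.Agent.Lib.Helper29.HMWtW

/-!
# Geometry for the numerical function along a torus, part 3: the weight lemma (helper29, for S19789)
-/
set_option autoImplicit false
set_option maxHeartbeats 1600000
set_option linter.style.haveILetI false
universe u
open CategoryTheory CategoryTheory.Limits MonoidalCategory CartesianMonoidalCategory MonObj
  AlgebraicGeometry Opposite

noncomputable section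

namespace Groth.Agent.Lib.Helper29.HMWtW2

open Magnet MagnetBBPts MagnetPt HMLimit HMConj MagnetLine HMWtGeom HMWtAlg HMWtW

section
variable (k : Type u) [Field k]
  {G X : Over (Spec (CommRingCat.of k))} [GrpObj G] (a : AlgGrp.Action G X)
  (B : GLinSh.LinBun G a) (l : Red.Gm (Spec (CommRingCat.of k)) ⟶ G) [IsMonHom l]

/-- the value of the cocycle of the lifted action at a fixed point is the character `z ↦ z^w` -/
theorem cocycle_const (y : 𝟙_ (Over (Spec (CommRingCat.of k))) ⟶ X) (w : ℤ)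
    (hyfix : HMNum.IsFixedBy a l y)
    (U : X.left.Opens) (t : Γ(B.V.left, B.π.left ⁻¹ᵁ U)) (hU : y.left ⁻¹ᵁ U = ⊤)
    (hwt : ∀ (T' : Over (Spec (CommRingCat.of k))) (t₁ : T' ⟶ 𝟙_ (Over (Spec (CommRingCat.of k))))
        (g : T' ⟶ Red.Gm (Spec (CommRingCat.of k))) (v : T' ⟶ B.V) (hv : v ≫ B.π = t₁ ≫ y)
        (hgv : (lift (g ≫ l) v ≫ B.lift.act) ≫ B.π = t₁ ≫ y),
        HMNum.evalFn B.π t (lift (g ≫ l) v ≫ B.lift.act) (HMNum.top_le_preimage B.π hU hgv) =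
          ((GmPts.unitOfPt g ^ w : (Γ(T'.left, ⊤))ˣ) : Γ(T'.left, ⊤)) *
            HMNum.evalFn B.π t v (HMNum.top_le_preimage B.π hU hv))
    (cc : Γ((G ⊗ X).left, a.act.left ⁻¹ᵁ U ⊓ (snd G X).left ⁻¹ᵁ U))
    (hcc : ∀ (T' : Over (Spec (CommRingCat.of k))) (c : T' ⟶ G) (v : T' ⟶ B.V) (r : T' ⟶ G ⊗ X)
        (_ : r = lift c (v ≫ B.π))
        (h1 : ⊤ ≤ v.left ⁻¹ᵁ (B.π.left ⁻¹ᵁ U))
        (h2 : ⊤ ≤ (lift c v ≫ B.lift.act).left ⁻¹ᵁ (B.π.left ⁻¹ᵁ U))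
        (h3 : ⊤ ≤ r.left ⁻¹ᵁ (a.act.left ⁻¹ᵁ U ⊓ (snd G X).left ⁻¹ᵁ U)),
        HMNum.evalFn B.π t (lift c v ≫ B.lift.act) h2 =
          r.left.appLE _ ⊤ h3 cc * HMNum.evalFn B.π t v h1)
    (g₀ : 𝟙_ (Over (Spec (CommRingCat.of k))) ⟶ Red.Gm (Spec (CommRingCat.of k)))
    (F : Type u) [Field F] (fF : Spec (CommRingCat.of F) ⟶ Spec (CommRingCat.of k))
    (v₀ : Over.mk fF ⟶ B.V) (t'' : Over.mk fF ⟶ 𝟙_ (Over (Spec (CommRingCat.of k))))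
    (hv₀ : v₀ ≫ B.π = t'' ≫ y)
    (hne : HMNum.evalFn B.π t v₀ (HMNum.top_le_preimage B.π hU hv₀) ≠ 0)
    (hρ : ⊤ ≤ (lift (g₀ ≫ l) y).left ⁻¹ᵁ (a.act.left ⁻¹ᵁ U ⊓ (snd G X).left ⁻¹ᵁ U)) :
    (lift (g₀ ≫ l) y).left.appLE _ ⊤ hρ cc =
      ((GmPts.unitOfPt g₀ ^ w : (Γ((𝟙_ (Over (Spec (CommRingCat.of k)))).left, ⊤))ˣ) :
        Γ((𝟙_ (Over (Spec (CommRingCat.of k)))).left, ⊤)) := by
  obtain ⟨g, hg⟩ : ∃ g : Over.mk fF ⟶ Red.Gm (Spec (CommRingCat.of k)), g = t'' ≫ g₀ := ⟨_, rfl⟩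
  have hgv : (lift (g ≫ l) v₀ ≫ B.lift.act) ≫ B.π = t'' ≫ y := by
    rw [Category.assoc, B.lift_π, lift_whiskerLeft_assoc, hv₀]
    exact hyfix _ t'' g
  have e1 := hwt _ t'' g v₀ hv₀ hgv
  have hr : t'' ≫ lift (g₀ ≫ l) y = lift (g ≫ l) (v₀ ≫ B.π) := by
    rw [comp_lift, hv₀, hg, Category.assoc]
  have h3 : ⊤ ≤ (t'' ≫ lift (g₀ ≫ l) y).left ⁻¹ᵁ (a.act.left ⁻¹ᵁ U ⊓ (snd G X).left ⁻¹ᵁ U) :=
    top_le_comp t'' _ _ hρ
  have e2 := hcc _ (g ≫ l) v₀ (t'' ≫ lift (g₀ ≫ l) y) hr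
    (HMNum.top_le_preimage B.π hU hv₀) (HMNum.top_le_preimage B.π hU hgv) h3
  rw [e1] at e2
  have e3 : (t'' ≫ lift (g₀ ≫ l) y).left.appLE _ ⊤ h3 cc =
      t''.left.appTop.hom ((lift (g₀ ≫ l) y).left.appLE _ ⊤ hρ cc) :=
    (appLE_comp_pt t'' (lift (g₀ ≫ l) y) _ hρ h3 cc).symm
  rw [e3] at e2
  have e4 := mul_right_cancel_ΓSpec _ _ _ hne e2
  have e5 : ((GmPts.unitOfPt g ^ w : (Γ((Over.mk fF).left, ⊤))ˣ) : Γ((Over.mk fF).left, ⊤)) =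
      t''.left.appTop.hom ((GmPts.unitOfPt g₀ ^ w :
        (Γ((𝟙_ (Over (Spec (CommRingCat.of k)))).left, ⊤))ˣ) :
        Γ((𝟙_ (Over (Spec (CommRingCat.of k)))).left, ⊤)) := by
    rw [hg, GmPts.unitOfPt_comp, ← map_zpow]
    rfl
  rw [e5] at e4
  by_contra hcon
  have h6 : (lift (g₀ ≫ l) y).left.appLE _ ⊤ hρ cc -
      ((GmPts.unitOfPt g₀ ^ w : (Γ((𝟙_ (Over (Spec (CommRingCat.of k)))).left, ⊤))ˣ) :
        Γ((𝟙_ (Over (Spec (CommRingCat.of k)))).left, ⊤)) ≠ 0 := sub_ne_zero.mpr hcon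
  haveI : Nontrivial Γ((Over.mk fF).left, ⊤) := nontrivial_ΓSpec F
  have h7 := map_ne_zero_of_field (F := k) (R' := Γ((Over.mk fF).left, ⊤)) t''.left.appTop.hom _ h6
  rw [map_sub, e4, sub_self] at h7
  exact h7 rfl

end

section
variable (k : Type u) [Field k] [Infinite k]
  {G X : Over (Spec (CommRingCat.of k))} [GrpObj G] (a : AlgGrp.Action G X)
  (B : GLinSh.LinBun G a) (l : Red.Gm (Spec (CommRingCat.of k)) ⟶ G) [IsMonHom l]
  (φ : (HMNum.attrPlus a l).obj (op (𝟙_ (Over (Spec (CommRingCat.of k))))))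

/-- a vector over `y` on which the fibre coordinate does not vanish -/
theorem exists_nonzero_vector (y : 𝟙_ (Over (Spec (CommRingCat.of k))) ⟶ X)
    (p : (𝟙_ (Over (Spec (CommRingCat.of k)))).left)
    (hB2 : ∀ pt : X.left, ∃ (n : ℕ) (f : Γ(B.V.left, ⊤)), 1 ≤ n ∧
      GLinSh.HasWeight B.atlas.chart n f ∧ pt ∈ GLinSh.nonvanishing B.π f)
    (U : X.left.Opens) (t : Γ(B.V.left, B.π.left ⁻¹ᵁ U)) (ht : t ∈ B.atlas.chart U)
    (hU : y.left ⁻¹ᵁ U = ⊤) :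
    ∃ (F : Type u) (_ : Field F) (fF : Spec (CommRingCat.of F) ⟶ Spec (CommRingCat.of k))
      (v₀ : Over.mk fF ⟶ B.V) (t'' : Over.mk fF ⟶ 𝟙_ (Over (Spec (CommRingCat.of k))))
      (hv₀ : v₀ ≫ B.π = t'' ≫ y),
      HMNum.evalFn B.π t v₀ (HMNum.top_le_preimage B.π hU hv₀) ≠ 0 := by
  obtain ⟨n₁, f₁, hn₁, hf₁, hnv₁⟩ := hB2 (y.left p)
  obtain ⟨F, hF, fF, v₀, t'', hv₀, hne⟩ := exists_fibre_pt B y p f₁ hnv₁
  obtain ⟨c₁, hc₁⟩ := hasWeight_pt B hf₁ U t ht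
  refine ⟨F, hF, fF, v₀, t'', hv₀, fun h0 => hne ?_⟩
  have h1 := hc₁ _ v₀ (t'' ≫ y) hv₀ (HMNum.top_le_preimage B.π hU hv₀)
    (top_le_comp t'' y U (by rw [hU]))
  rw [h1, h0, zero_pow (by omega), mul_zero]

theorem weight_lemma
    (p : (𝟙_ (Over (Spec (CommRingCat.of k)))).left) (w : ℤ)
    (hw : HMNum.HasFibreWt a B.π B.atlas.chart B.lift l (HMNum.limitPt φ) w)
    (hB2 : ∀ pt : X.left, ∃ (n : ℕ) (f : Γ(B.V.left, ⊤)), 1 ≤ n ∧
      GLinSh.HasWeight B.atlas.chart n f ∧ pt ∈ GLinSh.nonvanishing B.π f)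
    (L : Type u) [Field L] (fL : Spec (CommRingCat.of L) ⟶ Spec (CommRingCat.of k))
    (xt : Over.mk fL ⟶ B.V)
    (hxt : xt ≫ B.π = toUnit _ ≫
      (Magnet.attrToX (HMNum.gmAct a l) HMNum.plus).app (op (𝟙_ (Over (Spec (CommRingCat.of k))))) φ)
    (n : ℕ) (f : Γ(B.V.left, ⊤)) (hf : GLinSh.HasWeight B.atlas.chart n f) :
    ∃ b : PowerSeries L,
      evR (Kc L) ((orb a l B (Over.mk (fK fL)) (gPt (Over.mk (fK fL)) (sKu L))
        ((jK fL ≫ piO fL) ≫ xt)).left.appTop.hom f) = sPow L (n * w) * io L b ∧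
      ((HMNum.limitPt φ).left p ∈ GLinSh.nonvanishing B.π f →
        (∃ (U' : X.left.Opens) (t' : Γ(B.V.left, B.π.left ⁻¹ᵁ U')) (_ : t' ∈ B.atlas.chart U')
          (h' : ⊤ ≤ xt.left ⁻¹ᵁ (B.π.left ⁻¹ᵁ U')), HMNum.evalFn B.π t' xt h' ≠ 0) →
        PowerSeries.constantCoeff b ≠ 0) := by
  classical
  obtain ⟨y, hy⟩ : ∃ y, y = HMNum.limitPt φ := ⟨_, rfl⟩
  rw [← hy] at hw ⊢
  obtain ⟨hyfix, U, t, ht, hU, hwt⟩ := hw
  letI : Algebra k L := (Spec.preimage fL).hom.toAlgebra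
  have hfL : fL = Spec.map (Spec.preimage fL) := (Spec.map_preimage fL).symm
  obtain ⟨cc, hcc⟩ := linearLift_pt a B U U t t ht ht
  obtain ⟨cf, hcf⟩ := hasWeight_pt B hf U t ht
  obtain ⟨F, hF, fF, v₀, t'', hv₀, hne₀⟩ := exists_nonzero_vector k a B y p hB2 U t ht hU
  -- the curve over `O`
  obtain ⟨ψO, hψO⟩ : ∃ ψO, ψO = psi a l φ (Over.mk (fO fL))
      (aPt (Over.mk (fO fL)) (gI (Oc L) (PowerSeries.X : PowerSeries L))) := ⟨_, rfl⟩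
  have hεψ : epsL fL ≫ ψO = toUnit (Over.mk fL) ≫ y := by
    rw [hψO, comp_psi, epsL_aPt, psi_zero_eq, hy]
  have hyU : ∀ {T : Over (Spec (CommRingCat.of k))} (q : T ⟶ 𝟙_ _), ⊤ ≤ (q ≫ y).left ⁻¹ᵁ U :=
    fun q => top_le_comp q y U (by rw [hU])
  have hψOU : ⊤ ≤ ψO.left ⁻¹ᵁ U := top_le_of_epsL fL ψO U (by rw [hεψ]; exact hyU _)
  -- the orbit over `K`
  obtain ⟨sK, hsK⟩ : ∃ sK, sK = gPt (Over.mk (fK fL)) (sKu L) := ⟨_, rfl⟩
  obtain ⟨xK, hxK⟩ : ∃ xK, xK = (jK fL ≫ piO fL) ≫ xt := ⟨_, rfl⟩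
  obtain ⟨oK, hoK⟩ : ∃ oK, oK = orb a l B (Over.mk (fK fL)) sK xK := ⟨_, rfl⟩
  rw [← hsK, ← hxK, ← hoK]
  have hxKπ : xK ≫ B.π = toUnit (Over.mk (fK fL)) ≫
      (Magnet.attrToX (HMNum.gmAct a l) HMNum.plus).app (op (𝟙_ _)) φ := by
    rw [hxK, Category.assoc, hxt, ← Category.assoc, comp_toUnit]
  have hoKπ : oK ≫ B.π = jK fL ≫ ψO := by
    rw [hoK, orb_pi a l φ B _ sK xK hxKπ, hsK, ← jK_aPt, hψO, comp_psi]
  have hoKU : ⊤ ≤ oK.left ⁻¹ᵁ (B.π.left ⁻¹ᵁ U) :=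
    top_le_of_comp_eq B.π oK (jK fL) ψO hoKπ U hψOU
  obtain ⟨r, hr⟩ : ∃ r, r = evR (Kc L) (HMNum.evalFn B.π t oK hoKU) := ⟨_, rfl⟩
  -- the weight formula
  have hjψ : ⊤ ≤ (jK fL ≫ ψO).left ⁻¹ᵁ U := top_le_comp (jK fL) ψO U hψOU
  have hW := hcf _ oK (jK fL ≫ ψO) hoKπ hoKU hjψ
  have hW2 : (jK fL ≫ ψO).left.appLE U ⊤ hjψ cf =
      (jK fL).left.appTop.hom (ψO.left.appLE U ⊤ hψOU cf) :=
    (appLE_comp_pt (jK fL) ψO U hψOU hjψ cf).symm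
  obtain ⟨gamf, hgamf⟩ : ∃ gamf, gamf = evR (Oc L) (ψO.left.appLE U ⊤ hψOU cf) := ⟨_, rfl⟩
  have hnatI : ∀ s : Γ(Spec (Oc L), ⊤),
      evR (Kc L) ((jK fL).left.appTop.hom s) = io L (evR (Oc L) s) := fun s => evR_nat (cI L) s
  have hW3 : evR (Kc L) (oK.left.appTop.hom f) = io L gamf * r ^ n := by
    rw [hW, hW2, map_mul, map_pow, hnatI, ← hgamf, ← hr]
  -- the cocycle
  have hcocycle : ∀ g₀ : kˣ, ∃ gam : PowerSeries L,
      PowerSeries.constantCoeff gam = (algebraMap k L (g₀ : k)) ^ w ∧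
      sigmaK (algebraMap k L (g₀ : k)) ((map_ne_zero _).mpr g₀.ne_zero) r = io L gam * r := by
    intro g₀
    obtain ⟨c, hc⟩ : ∃ c : L, c = algebraMap k L (g₀ : k) := ⟨_, rfl⟩
    have hc0 : c ≠ 0 := by rw [hc]; exact (map_ne_zero _).mpr g₀.ne_zero
    have hsig : sigmaK (algebraMap k L (g₀ : k)) ((map_ne_zero _).mpr g₀.ne_zero) = sigmaK c hc0 := by
      subst hc; rfl
    rw [hsig, ← hc]
    obtain ⟨ug, hug⟩ : ∃ ug : (Γ((𝟙_ (Over (Spec (CommRingCat.of k)))).left, ⊤))ˣ,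
        ug = Units.map (gI (CommRingCat.of k) : k →* Γ(Spec (CommRingCat.of k), ⊤)) g₀ := ⟨_, rfl⟩
    obtain ⟨g₀pt, hg₀pt⟩ : ∃ g₀pt : 𝟙_ (Over (Spec (CommRingCat.of k))) ⟶ Red.Gm _,
        g₀pt = gPt (𝟙_ _) ug := ⟨_, rfl⟩
    obtain ⟨gL, hgL⟩ : ∃ gL, gL = gPt (Over.mk fL) (cLu c hc0) := ⟨_, rfl⟩
    have hgL' : gL = toUnit (Over.mk fL) ≫ g₀pt := by
      rw [hgL, hg₀pt, comp_gPt]
      congr 1
      apply Units.ext
      rw [hug]
      show gI (CommRingCat.of L) c = (toUnit (Over.mk fL)).left.appTop.hom (gI (CommRingCat.of k) (g₀ : k))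
      have hfl : (toUnit (Over.mk fL)).left = Spec.map (Spec.preimage fL) := hfL
      rw [hfl, gI_nat, hc]
      rfl
    -- ρO
    obtain ⟨ρO, hρO⟩ : ∃ ρO, ρO = lift ((piO fL ≫ gL) ≫ l) ψO := ⟨_, rfl⟩
    have hερ : epsL fL ≫ ρO = toUnit (Over.mk fL) ≫ lift (g₀pt ≫ l) y := by
      rw [hρO, comp_lift, comp_lift, hεψ, ← Category.assoc, ← Category.assoc, epsL_piO,
        Category.id_comp, hgL', Category.assoc]
    have hρk : ⊤ ≤ (lift (g₀pt ≫ l) y).left ⁻¹ᵁ (a.act.left ⁻¹ᵁ U ⊓ (snd G X).left ⁻¹ᵁ U) := by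
      apply top_le_inf_of
      · have e : lift (g₀pt ≫ l) y ≫ a.act = y := by
          have := hyfix _ (𝟙 _) g₀pt
          rwa [Category.id_comp] at this
        rw [e, hU]
      · rw [lift_snd, hU]
    have hρOU : ⊤ ≤ ρO.left ⁻¹ᵁ (a.act.left ⁻¹ᵁ U ⊓ (snd G X).left ⁻¹ᵁ U) :=
      top_le_of_epsL fL ρO _ (by rw [hερ]; exact top_le_comp _ _ _ hρk)
    obtain ⟨gam, hgam⟩ : ∃ gam, gam = evR (Oc L) (ρO.left.appLE _ ⊤ hρOU cc) := ⟨_, rfl⟩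
    refine ⟨gam, ?_, ?_⟩
    · -- the constant coefficient
      have h1 : PowerSeries.constantCoeff gam =
          evR (CommRingCat.of L) ((epsL fL).left.appTop.hom (ρO.left.appLE _ ⊤ hρOU cc)) := by
        rw [hgam]
        exact (evR_nat (cE L) _).symm
      have hερU : ⊤ ≤ (epsL fL ≫ ρO).left ⁻¹ᵁ (a.act.left ⁻¹ᵁ U ⊓ (snd G X).left ⁻¹ᵁ U) :=
        top_le_comp _ _ _ hρOU
      have htρk : ⊤ ≤ (toUnit (Over.mk fL) ≫ lift (g₀pt ≫ l) y).left ⁻¹ᵁ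
          (a.act.left ⁻¹ᵁ U ⊓ (snd G X).left ⁻¹ᵁ U) := top_le_comp _ _ _ hρk
      have h2 : (epsL fL).left.appTop.hom (ρO.left.appLE _ ⊤ hρOU cc) =
          (toUnit (Over.mk fL)).left.appTop.hom ((lift (g₀pt ≫ l) y).left.appLE _ ⊤ hρk cc) := by
        rw [appLE_comp_pt (epsL fL) ρO _ hρOU hερU cc,
          appLE_comp_pt (toUnit (Over.mk fL)) (lift (g₀pt ≫ l) y) _ hρk htρk cc]
        have e' : (epsL fL ≫ ρO).left = (toUnit (Over.mk fL) ≫ lift (g₀pt ≫ l) y).left := by rw [hερ]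
        exact appLE_congr' e' _ _ _ _ _
      have h3 := cocycle_const k a B l y w hyfix U t hU hwt cc hcc g₀pt F fF v₀ t'' hv₀ hne₀ hρk
      rw [h1, h2, h3, hg₀pt, unitOfPt_gPt, hug, ← map_zpow]
      have hfl : (toUnit (Over.mk fL)).left = Spec.map (Spec.preimage fL) := hfL
      show evR (CommRingCat.of L) ((toUnit (Over.mk fL)).left.appTop.hom
        (gI (CommRingCat.of k) ((g₀ ^ w : kˣ) : k))) = c ^ w
      rw [hfl, gI_nat, evR_gI, hc, Units.val_zpow_eq_zpow_val, map_zpow₀]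
      rfl
    · -- the cocycle identity
      obtain ⟨gK, hgK⟩ : ∃ gK, gK = (jK fL ≫ piO fL) ≫ gL := ⟨_, rfl⟩
      have hπK : SigK fL c hc0 ≫ (jK fL ≫ piO fL) = jK fL ≫ piO fL := by
        rw [← Category.assoc, SigK_jK, Category.assoc, SigO_piO]
      have h1 : SigK fL c hc0 ≫ oK = lift (gK ≫ l) oK ≫ B.lift.act := by
        rw [hoK, comp_orb, hsK, SigK_gPt, ← hgL, ← hgK, ← hsK, orb_mul, hxK, ← Category.assoc, hπK]
      have hr' : jK fL ≫ ρO = lift (gK ≫ l) (oK ≫ B.π) := by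
        rw [hoKπ, hρO, comp_lift, hgK]
        simp only [Category.assoc]
      have h3 : ⊤ ≤ (jK fL ≫ ρO).left ⁻¹ᵁ (a.act.left ⁻¹ᵁ U ⊓ (snd G X).left ⁻¹ᵁ U) :=
        top_le_comp (jK fL) ρO _ hρOU
      have h2' : ⊤ ≤ (SigK fL c hc0 ≫ oK).left ⁻¹ᵁ (B.π.left ⁻¹ᵁ U) :=
        top_le_comp (SigK fL c hc0) oK _ hoKU
      have h2 : ⊤ ≤ (lift (gK ≫ l) oK ≫ B.lift.act).left ⁻¹ᵁ (B.π.left ⁻¹ᵁ U) := by
        rw [← h1]; exact h2'
      have e2 := hcc _ (gK ≫ l) oK (jK fL ≫ ρO) hr' hoKU h2 h3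
      have e3 : HMNum.evalFn B.π t (lift (gK ≫ l) oK ≫ B.lift.act) h2 =
          (SigK fL c hc0).left.appTop.hom (HMNum.evalFn B.π t oK hoKU) := by
        rw [evalFn_comp B.π t (SigK fL c hc0) oK hoKU h2']
        exact evalFn_congr B.π t h1.symm _ _
      have e4 : (jK fL ≫ ρO).left.appLE _ ⊤ h3 cc =
          (jK fL).left.appTop.hom (ρO.left.appLE _ ⊤ hρOU cc) :=
        (appLE_comp_pt (jK fL) ρO _ hρOU h3 cc).symm
      rw [e3, e4] at e2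
      have e5 := congrArg (evR (Kc L)) e2
      rw [map_mul, hnatI, ← hgam, ← hr] at e5
      have e6 : evR (Kc L) ((SigK fL c hc0).left.appTop.hom (HMNum.evalFn B.π t oK hoKU)) =
          sigmaK c hc0 (evR (Kc L) (HMNum.evalFn B.π t oK hoKU)) := evR_nat (cSK c hc0) _
      rw [e6, ← hr] at e5
      exact e5
  choose gam hgam0 hgam using hcocycle
  obtain ⟨r₀, hr₀, hr₀c⟩ := scaling_lemma (k := k) (L := L) w r
    (fun g₀ => sigmaK (algebraMap k L (g₀ : k)) ((map_ne_zero _).mpr g₀.ne_zero))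
    (fun g₀ b => sigmaK_io _ _ b) gam hgam0 hgam
  refine ⟨gamf * r₀ ^ n, ?_, ?_⟩
  · rw [hW3, hr₀, mul_pow, map_mul, map_pow]
    have hp : sPow L w ^ n = sPow L (n * w) := by
      rw [sPow_eq_zpow w, sPow_eq_zpow (n * w), ← zpow_natCast, ← zpow_mul, mul_comm]
    rw [hp]
    ring
  · intro hnv hx
    obtain ⟨U', t', ht', h', hne'⟩ := hx
    rw [map_mul, map_pow]
    apply mul_ne_zero
    · -- the constant coefficient of `gamf`
      have h1 : PowerSeries.constantCoeff gamf =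
          evR (CommRingCat.of L) ((epsL fL).left.appTop.hom (ψO.left.appLE U ⊤ hψOU cf)) := by
        rw [hgamf]
        exact (evR_nat (cE L) _).symm
      have hyU' : ⊤ ≤ y.left ⁻¹ᵁ U := by rw [hU]
      have h2 : (epsL fL).left.appTop.hom (ψO.left.appLE U ⊤ hψOU cf) =
          (toUnit (Over.mk fL)).left.appTop.hom (y.left.appLE U ⊤ hyU' cf) := by
        rw [appLE_comp_pt (epsL fL) ψO U hψOU (top_le_comp _ _ _ hψOU) cf,
          appLE_comp_pt (toUnit (Over.mk fL)) y U hyU' (hyU _) cf]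
        have e' : (epsL fL ≫ ψO).left = (toUnit (Over.mk fL) ≫ y).left := by rw [hεψ]
        exact appLE_congr' e' _ _ _ _ _
      rw [h1, h2]
      have h3 : y.left.appLE U ⊤ hyU' cf ≠ 0 := by
        obtain ⟨F', hF', fF', v₀', t3, hv₀', hne3⟩ := exists_fibre_pt B y p f hnv
        intro h0
        apply hne3
        have h4 := hcf _ v₀' (t3 ≫ y) hv₀' (HMNum.top_le_preimage B.π hU hv₀') (hyU t3)
        rw [h4, ← appLE_comp_pt t3 y U hyU' (hyU t3) cf, h0, map_zero, zero_mul]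
      haveI : Nontrivial Γ((Over.mk fL).left, ⊤) := nontrivial_ΓSpec L
      have h5 := map_ne_zero_of_field (F := k) (R' := Γ((Over.mk fL).left, ⊤))
        (toUnit (Over.mk fL)).left.appTop.hom _ h3
      intro h0
      exact h5 (evR_injective _ (h0.trans (map_zero _).symm))
    · apply pow_ne_zero
      apply hr₀c
      -- `r ≠ 0`
      intro hr0
      have hev0 : HMNum.evalFn B.π t oK hoKU = 0 :=
        evR_injective _ ((hr.symm.trans hr0).trans (map_zero _).symm)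
      obtain ⟨cc', hcc'⟩ := linearLift_pt a B U U' t t' ht ht'
      obtain ⟨cI', hcI'⟩ : ∃ cI' : Over.mk (fK fL) ⟶ G, cI' = (sK ≫ l)⁻¹ := ⟨_, rfl⟩
      have hinv : lift cI' oK ≫ B.lift.act = xK := by
        rw [hcI', hoK]
        exact inv_act_act' B.lift (sK ≫ l) xK
      have hxKU : ⊤ ≤ xK.left ⁻¹ᵁ (B.π.left ⁻¹ᵁ U') := by
        rw [hxK]; exact top_le_comp _ xt _ h'
      have h2 : ⊤ ≤ (lift cI' oK ≫ B.lift.act).left ⁻¹ᵁ (B.π.left ⁻¹ᵁ U') := by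
        rw [hinv]; exact hxKU
      have h3 : ⊤ ≤ (lift cI' (oK ≫ B.π)).left ⁻¹ᵁ (a.act.left ⁻¹ᵁ U' ⊓ (snd G X).left ⁻¹ᵁ U) := by
        apply top_le_inf_of
        · have e : lift cI' (oK ≫ B.π) ≫ a.act = xK ≫ B.π := by
            rw [← hinv, Category.assoc, B.lift_π, lift_whiskerLeft_assoc]
          rw [e]
          exact hxKU
        · rw [lift_snd]
          exact hoKU
      have e2 := hcc' _ cI' oK (lift cI' (oK ≫ B.π)) rfl hoKU h2 h3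
      rw [hev0, mul_zero] at e2
      have e3 : HMNum.evalFn B.π t' (lift cI' oK ≫ B.lift.act) h2 =
          (jK fL ≫ piO fL).left.appTop.hom (HMNum.evalFn B.π t' xt h') := by
        rw [evalFn_comp B.π t' (jK fL ≫ piO fL) xt h' (by rw [← hxK]; exact hxKU)]
        exact evalFn_congr B.π t' (hinv.trans hxK) _ _
      rw [e3] at e2
      haveI : Nontrivial Γ((Over.mk (fK fL)).left, ⊤) := nontrivial_ΓSpec (LaurentSeries L)
      exact map_ne_zero_of_field (F := L) (R' := Γ((Over.mk (fK fL)).left, ⊤))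
        (jK fL ≫ piO fL).left.appTop.hom _ hne' e2

end

end Groth.Agent.Lib.Helper29.HMWtW2
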