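import Mathlib
import Groth.Prelude.Def_HMNum
import Groth.Agent.Lib.Helper29.HMWtW2

/-!
# The numerical function along a torus is subadditive (helper29, S19789)

`μ(x, λ₁λ₂) ≤ μ(x, λ₁) + μ(x, λ₂)` for commuting one-parameter subgroups `λ₁, λ₂` whose product is a one-parameter
subgroup.  The function `(u, v) ↦ f(λ₁(u) λ₂(v) x̃)` (for `f` of weight `n` not vanishing at the limit point of the
product, `x̃` a nonzero vector over `x`) is a Laurent polynomial `P` in two variables; its three specialisations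
`(s, v₀)`, `(u₀, s)`, `(s, s)` are controlled by the weight lemma of `HMWtW2`, and `HMWtAlg.two_var_lemma` concludes.
-/
set_option autoImplicit false
set_option maxHeartbeats 1600000
set_option linter.style.haveILetI false
universe u
open CategoryTheory CategoryTheory.Limits MonoidalCategory CartesianMonoidalCategory MonObj
  AlgebraicGeometry Opposite

noncomputable section

namespace Groth.Agent.Lib.Helper29.HMWtMain

open Magnet MagnetBBPts MagnetPt HMLimit HMConj MagnetLine HMWtGeom HMWtAlg HMWtW HMWtW2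

/-! ### conjugation of the numerical function -/

section Conj
variable {k : Type u} [Field k] {G X : Over (Spec (CommRingCat.of k))} [GrpObj G]
  (a : AlgGrp.Action G X) (B : GLinSh.LinBun G a)

theorem isMu_conj (l l' : Red.Gm (Spec (CommRingCat.of k)) ⟶ G) [IsMonHom l] [IsMonHom l']
    (g₀ : 𝟙_ (Over (Spec (CommRingCat.of k))) ⟶ G)
    (hl' : l' = (toUnit _ ≫ g₀)⁻¹ * l * (toUnit _ ≫ g₀))
    (x : 𝟙_ (Over (Spec (CommRingCat.of k))) ⟶ X) (m : ℤ) (h : HMNum.IsMu B l' x m) :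
    HMNum.IsMu B l (lift g₀ x ≫ a.act) m := by
  have hunit : toUnit (𝟙_ (Over (Spec (CommRingCat.of k)))) = 𝟙 _ := toUnit_unique _ _
  have hg₀ : toUnit (𝟙_ (Over (Spec (CommRingCat.of k)))) ≫ g₀ = g₀ := by
    rw [hunit, Category.id_comp]
  obtain ⟨y, hy, hw⟩ := h
  have h1 := isLimitPt_conj a l l' g₀ hl' _ _ hy
  rw [hg₀] at h1
  obtain ⟨U₂, hU₂, y₂, hy₂⟩ := B.atlas.cover
    ((lift g₀ y ≫ a.act).left (default : PrimeSpectrum k))
  have h2 := hasFibreWt_conj a l l' g₀ hl' B y (-m) hw U₂ y₂ hy₂ (by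
    rw [hg₀]
    exact top_preimage_of_field _ U₂ hU₂)
  rw [hg₀] at h2
  exact ⟨_, h1, h2⟩

end Conj

/-! ### commutation -/

section Comm
variable {S : Scheme.{u}} {G : Over S} [GrpObj G] (Λ₁ Λ₂ : Red.Gm S ⟶ G) [IsMonHom Λ₁] [IsMonHom Λ₂]
  [IsMonHom (Λ₁ * Λ₂)]

theorem comm_pt {T : Over S} (p q : T ⟶ Red.Gm S) :
    (p ≫ Λ₁) * (q ≫ Λ₂) = (q ≫ Λ₂) * (p ≫ Λ₁) := by
  have e1 := MonObj.mul_comp q p (Λ₁ * Λ₂)
  have e2 := MonObj.comp_mul (q * p) Λ₁ Λ₂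
  have e3 := MonObj.mul_comp q p Λ₁
  have e4 := MonObj.mul_comp q p Λ₂
  have e5 := MonObj.comp_mul q Λ₁ Λ₂
  have e6 := MonObj.comp_mul p Λ₁ Λ₂
  rw [e2, e3, e4, e5, e6] at e1
  have h' : (p ≫ Λ₁) * (q ≫ Λ₂) =
      (q ≫ Λ₁)⁻¹ * (((q ≫ Λ₁) * (p ≫ Λ₁)) * ((q ≫ Λ₂) * (p ≫ Λ₂))) * (p ≫ Λ₂)⁻¹ := by group
  rw [h', e1]
  group

end Comm

/-! ### the ring of Laurent polynomials in two variables -/

section R2
variable {S : Scheme.{u}} {L : Type u} [Field L] (fL : Spec (CommRingCat.of L) ⟶ S)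

abbrev R2c (L : Type u) [Field L] : CommRingCat.{u} := CommRingCat.of (AddMonoidAlgebra L (ℤ × ℤ))
abbrev cC2 (L : Type u) [Field L] : CommRingCat.of L ⟶ R2c L :=
  CommRingCat.ofHom (algebraMap L (AddMonoidAlgebra L (ℤ × ℤ)))
abbrev cTh (a b : (LaurentSeries L)ˣ) : R2c L ⟶ Kc L := CommRingCat.ofHom (theta a b).toRingHom

theorem cC2_cTh (a b : (LaurentSeries L)ˣ) : cC2 L ≫ cTh a b = cC L ≫ cI L := by
  refine CommRingCat.hom_ext (RingHom.ext fun c => ?_)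
  show theta a b (algebraMap L (AddMonoidAlgebra L (ℤ × ℤ)) c) = io L (PowerSeries.C c)
  rw [AlgHom.commutes, LaurentSeries.algebraMap_apply, HahnSeries.ofPowerSeries_C]

def f2 : Spec (R2c L) ⟶ S := Spec.map (cC2 L) ≫ fL

def pi2 : Over.mk (f2 fL) ⟶ Over.mk fL := Over.homMk (Spec.map (cC2 L)) rfl

def Th (a b : (LaurentSeries L)ˣ) : Over.mk (fK fL) ⟶ Over.mk (f2 fL) :=
  Over.homMk (Spec.map (cTh a b)) (by
    show Spec.map (cTh a b) ≫ Spec.map (cC2 L) ≫ fL = Spec.map (cI L) ≫ Spec.map (cC L) ≫ fL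
    rw [← Category.assoc, ← Spec.map_comp, cC2_cTh, Spec.map_comp, Category.assoc])

theorem Th_pi2 (a b : (LaurentSeries L)ˣ) : Th fL a b ≫ pi2 fL = jK fL ≫ piO fL := by
  apply Over.OverMorphism.ext
  show Spec.map (cTh a b) ≫ Spec.map (cC2 L) = Spec.map (cI L) ≫ Spec.map (cC L)
  rw [← Spec.map_comp, ← Spec.map_comp, cC2_cTh]

/-- the monomial units of the ring of Laurent polynomials -/
def uu (L : Type u) [Field L] (ij : ℤ × ℤ) : (AddMonoidAlgebra L (ℤ × ℤ))ˣ :=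
  Units.map (AddMonoidAlgebra.of L (ℤ × ℤ)) (toUnits (Multiplicative.ofAdd ij))

theorem theta_uu (a b : (LaurentSeries L)ˣ) (ij : ℤ × ℤ) :
    theta a b ((uu L ij : (AddMonoidAlgebra L (ℤ × ℤ))ˣ) : AddMonoidAlgebra L (ℤ × ℤ)) =
      ((a ^ ij.1 * b ^ ij.2 : (LaurentSeries L)ˣ) : LaurentSeries L) := by
  show theta a b (AddMonoidAlgebra.of L (ℤ × ℤ) (Multiplicative.ofAdd ij)) = _
  rw [AddMonoidAlgebra.of_apply]
  exact theta_single a b ij.1 ij.2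

/-- the monomial units as unit functions on `Spec R₂` -/
def uT (L : Type u) [Field L] (ij : ℤ × ℤ) : (Γ(Spec (R2c L), ⊤))ˣ :=
  Units.map (gI (R2c L) : AddMonoidAlgebra L (ℤ × ℤ) →* Γ(Spec (R2c L), ⊤)) (uu L ij)

/-- units of the Laurent series field as unit functions on `Spec K` -/
abbrev gIu (L : Type u) [Field L] (a : (LaurentSeries L)ˣ) : (Γ(Spec (Kc L), ⊤))ˣ :=
  Units.map (gI (Kc L) : LaurentSeries L →* Γ(Spec (Kc L), ⊤)) a

theorem Th_gPt (a b : (LaurentSeries L)ˣ) (ij : ℤ × ℤ) :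
    Th fL a b ≫ gPt (Over.mk (f2 fL)) (uT L ij) =
      gPt (Over.mk (fK fL)) (gIu L (a ^ ij.1 * b ^ ij.2)) := by
  rw [comp_gPt]
  congr 1
  apply Units.ext
  show (Spec.map (cTh a b)).appTop.hom (gI (R2c L)
      ((uu L ij : (AddMonoidAlgebra L (ℤ × ℤ))ˣ) : AddMonoidAlgebra L (ℤ × ℤ))) =
    gI (Kc L) ((a ^ ij.1 * b ^ ij.2 : (LaurentSeries L)ˣ) : LaurentSeries L)
  rw [gI_nat]
  congr 1
  exact theta_uu a b ij

theorem Th_gPt10 (a b : (LaurentSeries L)ˣ) :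
    Th fL a b ≫ gPt (Over.mk (f2 fL)) (uT L (1, 0)) = gPt (Over.mk (fK fL)) (gIu L a) := by
  rw [Th_gPt]
  exact congrArg (fun c => gPt (Over.mk (fK fL)) (gIu L c))
    (show a ^ (1 : ℤ) * b ^ (0 : ℤ) = a by rw [zpow_one, zpow_zero, _root_.mul_one])

theorem Th_gPt01 (a b : (LaurentSeries L)ˣ) :
    Th fL a b ≫ gPt (Over.mk (f2 fL)) (uT L (0, 1)) = gPt (Over.mk (fK fL)) (gIu L b) := by
  rw [Th_gPt]
  exact congrArg (fun c => gPt (Over.mk (fK fL)) (gIu L c))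
    (show a ^ (0 : ℤ) * b ^ (1 : ℤ) = b by rw [zpow_one, zpow_zero, _root_.one_mul])

/-- constant units of the Laurent series field -/
def Cu (c : Lˣ) : (LaurentSeries L)ˣ :=
  Units.map ((HahnSeries.C : L →+* LaurentSeries L) : L →* LaurentSeries L) c

end R2

/-! ### constant points of the multiplicative group -/

section Const
variable (k : Type u) [Field k]

/-- a nonzero constant as a unit function on the base -/
def kU (v₀ : kˣ) : (Γ((𝟙_ (Over (Spec (CommRingCat.of k)))).left, ⊤))ˣ :=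
  Units.map (gI (CommRingCat.of k) : k →* Γ(Spec (CommRingCat.of k), ⊤)) v₀

/-- a nonzero constant as a rational point of the multiplicative group -/
def kPt (v₀ : kˣ) : 𝟙_ (Over (Spec (CommRingCat.of k))) ⟶ Red.Gm (Spec (CommRingCat.of k)) :=
  gPt (𝟙_ _) (kU k v₀)

variable {k} {L : Type u} [Field L]

theorem const_gPt (j0 : CommRingCat.of k ⟶ CommRingCat.of L) (v₀ : kˣ) :
    toUnit (Over.mk (fK (Spec.map j0))) ≫ kPt k v₀ =
      gPt (Over.mk (fK (Spec.map j0))) (gIu L (Cu (Units.map (j0.hom : k →* L) v₀))) := by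
  unfold kPt
  rw [comp_gPt]
  congr 1
  apply Units.ext
  show (toUnit (Over.mk (fK (Spec.map j0)))).left.appTop.hom (gI (CommRingCat.of k) (v₀ : k)) =
    gI (Kc L) (HahnSeries.C (j0.hom (v₀ : k)))
  have hfl : (toUnit (Over.mk (fK (Spec.map j0)))).left = Spec.map (j0 ≫ cC L ≫ cI L) := by
    show fK (Spec.map j0) = _
    unfold fK fO
    rw [Spec.map_comp, Spec.map_comp, Category.assoc]
  rw [hfl, gI_nat]
  congr 1
  exact HahnSeries.ofPowerSeries_C _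

end Const

/-! ### the Laurent polynomial of a two-parameter orbit -/

section Formula
variable (k : Type u) [Field k] {G X : Over (Spec (CommRingCat.of k))} [GrpObj G]
  (a : AlgGrp.Action G X) (B : GLinSh.LinBun G a) (Λ₁ Λ₂ : Red.Gm (Spec (CommRingCat.of k)) ⟶ G)
  {L : Type u} [Field L] (fL : Spec (CommRingCat.of L) ⟶ Spec (CommRingCat.of k))
  (xt : Over.mk fL ⟶ B.V)

/-- the two-parameter orbit point over the ring of Laurent polynomials -/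
def q2 : Over.mk (f2 fL) ⟶ B.V :=
  lift ((gPt (Over.mk (f2 fL)) (uT L (1, 0)) ≫ Λ₁) * (gPt (Over.mk (f2 fL)) (uT L (0, 1)) ≫ Λ₂))
    (pi2 fL ≫ xt) ≫ B.lift.act

/-- the Laurent polynomial `f(λ₁(u) λ₂(v) x̃)` -/
def PP (f : Γ(B.V.left, ⊤)) : AddMonoidAlgebra L (ℤ × ℤ) :=
  evR (R2c L) ((q2 k a B Λ₁ Λ₂ fL xt).left.appTop.hom f)

theorem theta_PP (f : Γ(B.V.left, ⊤)) (a' b' : (LaurentSeries L)ˣ) :
    theta a' b' (PP k a B Λ₁ Λ₂ fL xt f) =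
      evR (Kc L) ((lift ((gPt (Over.mk (fK fL)) (gIu L a') ≫ Λ₁) *
          (gPt (Over.mk (fK fL)) (gIu L b') ≫ Λ₂))
        ((jK fL ≫ piO fL) ≫ xt) ≫ B.lift.act).left.appTop.hom f) := by
  have h1 : Th fL a' b' ≫ q2 k a B Λ₁ Λ₂ fL xt =
      lift ((gPt (Over.mk (fK fL)) (gIu L a') ≫ Λ₁) * (gPt (Over.mk (fK fL)) (gIu L b') ≫ Λ₂))
        ((jK fL ≫ piO fL) ≫ xt) ≫ B.lift.act := by
    unfold q2
    rw [← Category.assoc, comp_lift, MonObj.comp_mul,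
      ← Category.assoc (Th fL a' b') (gPt (Over.mk (f2 fL)) (uT L (1, 0))) Λ₁,
      ← Category.assoc (Th fL a' b') (gPt (Over.mk (f2 fL)) (uT L (0, 1))) Λ₂,
      Th_gPt10, Th_gPt01, ← Category.assoc (Th fL a' b') (pi2 fL) xt, Th_pi2]
  unfold PP
  rw [← h1, ← appTop_comp_pt (Th fL a' b') (q2 k a B Λ₁ Λ₂ fL xt) f]
  exact (evR_nat (cTh a' b') _).symm

end Formula

/-! ### one parameter constant -/

section ConstSide
variable (k : Type u) [Field k] [Infinite k] {G X : Over (Spec (CommRingCat.of k))} [GrpObj G]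
  (a : AlgGrp.Action G X) (B : GLinSh.LinBun G a)

theorem const_side (Λa Λb : Red.Gm (Spec (CommRingCat.of k)) ⟶ G) [IsMonHom Λa] [IsMonHom Λb]
    (hcomm : ∀ (T : Over (Spec (CommRingCat.of k))) (p q : T ⟶ Red.Gm (Spec (CommRingCat.of k))),
      (p ≫ Λa) * (q ≫ Λb) = (q ≫ Λb) * (p ≫ Λa))
    (x : 𝟙_ (Over (Spec (CommRingCat.of k))) ⟶ X) (ma : ℤ) (hmu : HMNum.IsMu B Λa x ma)
    (hB2 : ∀ pt : X.left, ∃ (n : ℕ) (f : Γ(B.V.left, ⊤)), 1 ≤ n ∧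
      GLinSh.HasWeight B.atlas.chart n f ∧ pt ∈ GLinSh.nonvanishing B.π f)
    (L : Type u) [Field L] (fL : Spec (CommRingCat.of L) ⟶ Spec (CommRingCat.of k))
    (xt : Over.mk fL ⟶ B.V) (hxt : xt ≫ B.π = toUnit _ ≫ x)
    (n : ℕ) (f : Γ(B.V.left, ⊤)) (hf : GLinSh.HasWeight B.atlas.chart n f) (v₀ : kˣ) :
    ∃ b' : PowerSeries L,
      evR (Kc L) ((lift ((gPt (Over.mk (fK fL)) (sKu L) ≫ Λa) *
          ((toUnit (Over.mk (fK fL)) ≫ kPt k v₀) ≫ Λb))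
        ((jK fL ≫ piO fL) ≫ xt) ≫ B.lift.act).left.appTop.hom f) =
        sPow L (n * (-ma)) * io L b' := by
  obtain ⟨g₀, hg₀⟩ : ∃ g₀ : 𝟙_ (Over (Spec (CommRingCat.of k))) ⟶ G, g₀ = kPt k v₀ ≫ Λb :=
    ⟨_, rfl⟩
  have hl' : Λa = (toUnit _ ≫ g₀)⁻¹ * Λa * (toUnit _ ≫ g₀) := by
    have h := hcomm _ (𝟙 _) (toUnit _ ≫ kPt k v₀)
    rw [Category.id_comp, Category.assoc, ← hg₀] at h
    rw [_root_.mul_assoc, h, ← _root_.mul_assoc, inv_mul_cancel, _root_.one_mul]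
  have hmu' := isMu_conj a B Λa Λa g₀ hl' x ma hmu
  obtain ⟨y', ⟨φ', hφx, hφy⟩, hw⟩ := hmu'
  subst hφy
  obtain ⟨xt', hxt'def⟩ : ∃ xt' : Over.mk fL ⟶ B.V,
      xt' = lift (toUnit _ ≫ g₀) xt ≫ B.lift.act := ⟨_, rfl⟩
  have e0 : toUnit (Over.mk fL) ≫ (lift g₀ x ≫ a.act) =
      lift (toUnit _ ≫ g₀) (toUnit _ ≫ x) ≫ a.act := by
    rw [← Category.assoc, comp_lift]
  have hxt' : xt' ≫ B.π = toUnit _ ≫
      (Magnet.attrToX (HMNum.gmAct a Λa) HMNum.plus).app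
        (op (𝟙_ (Over (Spec (CommRingCat.of k))))) φ' := by
    rw [hφx, e0, hxt'def, Category.assoc, B.lift_π, lift_whiskerLeft_assoc, hxt]
  obtain ⟨b', hb', -⟩ := weight_lemma k a B Λa φ' (default : PrimeSpectrum k) (-ma) hw hB2 L fL xt'
    hxt' n f hf
  refine ⟨b', ?_⟩
  rw [← hb']
  have e1 : (jK fL ≫ piO fL) ≫ xt' =
      lift ((toUnit (Over.mk (fK fL)) ≫ kPt k v₀) ≫ Λb) ((jK fL ≫ piO fL) ≫ xt) ≫ B.lift.act := by
    rw [hxt'def, ← Category.assoc, comp_lift, ← Category.assoc, comp_toUnit, hg₀]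
    simp only [Category.assoc]
  have heq : lift ((gPt (Over.mk (fK fL)) (sKu L) ≫ Λa) *
        ((toUnit (Over.mk (fK fL)) ≫ kPt k v₀) ≫ Λb)) ((jK fL ≫ piO fL) ≫ xt) ≫ B.lift.act =
      HMWtW.orb a Λa B (Over.mk (fK fL)) (gPt (Over.mk (fK fL)) (sKu L)) ((jK fL ≫ piO fL) ≫ xt') := by
    unfold HMWtW.orb
    rw [lift_mul_act', e1]
  rw [heq]

end ConstSide

/-! ### the inequality -/

section Main
variable (k : Type u) [Field k] [Infinite k] {G X : Over (Spec (CommRingCat.of k))} [GrpObj G]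
  (a : AlgGrp.Action G X) (B : GLinSh.LinBun G a)

theorem mu_mul_le
    (hB2 : ∀ pt : X.left, ∃ (n : ℕ) (f : Γ(B.V.left, ⊤)), 1 ≤ n ∧
      GLinSh.HasWeight B.atlas.chart n f ∧ pt ∈ GLinSh.nonvanishing B.π f)
    (x : 𝟙_ (Over (Spec (CommRingCat.of k))) ⟶ X)
    (Λ₁ Λ₂ Λ : Red.Gm (Spec (CommRingCat.of k)) ⟶ G) [IsMonHom Λ₁] [IsMonHom Λ₂] [IsMonHom Λ]
    (hΛ : Λ = Λ₁ * Λ₂) (m₁ m₂ m : ℤ)
    (h₁ : HMNum.IsMu B Λ₁ x m₁) (h₂ : HMNum.IsMu B Λ₂ x m₂) (h : HMNum.IsMu B Λ x m) :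
    m ≤ m₁ + m₂ := by
  classical
  subst hΛ
  have hcomm : ∀ (T : Over (Spec (CommRingCat.of k))) (p q : T ⟶ Red.Gm (Spec (CommRingCat.of k))),
      (p ≫ Λ₁) * (q ≫ Λ₂) = (q ≫ Λ₂) * (p ≫ Λ₁) := fun T p q => comm_pt Λ₁ Λ₂ p q
  -- the diagonal
  obtain ⟨y, ⟨φ, hφx, hφy⟩, hw⟩ := h
  subst hφy
  obtain ⟨n, f, hn, hf, hnv⟩ := hB2 ((HMNum.limitPt φ).left (default : PrimeSpectrum k))
  -- a nonzero vector over `x`
  obtain ⟨U', hxU', t', ht'⟩ := B.atlas.cover (x.left (default : PrimeSpectrum k))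
  have hU' : x.left ⁻¹ᵁ U' = ⊤ := top_preimage_of_field x U' hxU'
  obtain ⟨L, hL, fL, xt, t'', hxt, hne⟩ :=
    exists_nonzero_vector k a B x (default : PrimeSpectrum k) hB2 U' t' ht' hU'
  have ht'' : t'' = toUnit _ := toUnit_unique _ _
  subst ht''
  obtain ⟨j0, rfl⟩ : ∃ j0 : CommRingCat.of k ⟶ CommRingCat.of L, fL = Spec.map j0 :=
    ⟨Spec.preimage fL, (Spec.map_preimage fL).symm⟩
  letI : Algebra k L := j0.hom.toAlgebra
  obtain ⟨bD, hbD, hbD0⟩ := weight_lemma k a B (Λ₁ * Λ₂) φ (default : PrimeSpectrum k) (-m) hw hB2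
    L (Spec.map j0) xt (by rw [hφx]; exact hxt) n f hf
  have hbD0' := hbD0 hnv ⟨U', t', ht', _, hne⟩
  obtain ⟨P, hP⟩ : ∃ P, P = PP k a B Λ₁ Λ₂ (Spec.map j0) xt f := ⟨_, rfl⟩
  -- the three specialisations
  have HD : ∃ b' : PowerSeries L, ev2 P.coeff (sPow L 1) (sPow L 1) = sPow L (n * (-m)) * io L b' ∧
      PowerSeries.constantCoeff b' ≠ 0 := by
    refine ⟨bD, ?_, hbD0'⟩
    have e1 : ev2 P.coeff (sPow L 1) (sPow L 1) = theta (sU L) (sU L) P :=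
      (theta_apply (sU L) (sU L) P).symm
    rw [e1, hP, theta_PP, ← hbD]
    have e2 : HMWtW.orb a (Λ₁ * Λ₂) B (Over.mk (fK (Spec.map j0))) (gPt (Over.mk (fK (Spec.map j0))) (sKu L))
        ((jK (Spec.map j0) ≫ piO (Spec.map j0)) ≫ xt) =
        lift ((gPt (Over.mk (fK (Spec.map j0))) (gIu L (sU L)) ≫ Λ₁) *
          (gPt (Over.mk (fK (Spec.map j0))) (gIu L (sU L)) ≫ Λ₂))
        ((jK (Spec.map j0) ≫ piO (Spec.map j0)) ≫ xt) ≫ B.lift.act := by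
      unfold HMWtW.orb
      rw [MonObj.comp_mul]
      rfl
    rw [e2]
  have H1 : ∀ v₀ : kˣ, ∃ b' : PowerSeries L,
      ev2 P.coeff (sPow L 1) (HahnSeries.C (algebraMap k L (v₀ : k))) =
        sPow L (n * (-m₁)) * io L b' := by
    intro v₀
    obtain ⟨b', hb'⟩ := const_side k a B Λ₁ Λ₂ hcomm x m₁ h₁ hB2 L (Spec.map j0) xt hxt n f hf v₀
    refine ⟨b', ?_⟩
    have e1 : ev2 P.coeff (sPow L 1) (HahnSeries.C (algebraMap k L (v₀ : k))) =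
        theta (sU L) (Cu (Units.map (j0.hom : k →* L) v₀)) P :=
      (theta_apply (sU L) (Cu (Units.map (j0.hom : k →* L) v₀)) P).symm
    rw [e1, hP, theta_PP, ← hb', ← const_gPt]
    rfl
  have H2 : ∀ u₀ : kˣ, ∃ b' : PowerSeries L,
      ev2 P.coeff (HahnSeries.C (algebraMap k L (u₀ : k))) (sPow L 1) =
        sPow L (n * (-m₂)) * io L b' := by
    intro u₀
    obtain ⟨b', hb'⟩ := const_side k a B Λ₂ Λ₁ (fun T p q => (hcomm T q p).symm) x m₂ h₂ hB2 L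
      (Spec.map j0) xt hxt n f hf u₀
    refine ⟨b', ?_⟩
    have e1 : ev2 P.coeff (HahnSeries.C (algebraMap k L (u₀ : k))) (sPow L 1) =
        theta (Cu (Units.map (j0.hom : k →* L) u₀)) (sU L) P :=
      (theta_apply (Cu (Units.map (j0.hom : k →* L) u₀)) (sU L) P).symm
    rw [e1, hP, theta_PP, ← hb', ← const_gPt, hcomm]
    rfl
  have hfin := two_var_lemma (k := k) (L := L) P.coeff (n * (-m₁)) (n * (-m₂)) (n * (-m)) H1 H2 HD
  have hn' : (0 : ℤ) < n := by exact_mod_cast hn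
  have h5 : (n : ℤ) * m ≤ n * (m₁ + m₂) := by linarith
  exact le_of_mul_le_mul_left h5 hn'

end Main

theorem main19789 (k : Type u) [Field k] [IsAlgClosed k]
    (G X T : Over (Spec (CommRingCat.of k))) [GrpObj G] [GrpObj T] (hG : Red.IsReductive G)
    (i : T ⟶ G) [IsMonHom i] (hi : Red.IsMaximalTorus i) [IsProper X.hom]
    (a : AlgGrp.Action G X) (B : GLinSh.LinBun G a) (hB : HMNum.AmpleCover B)
    (x : 𝟙_ (Over (Spec (CommRingCat.of k))) ⟶ X)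
    (l₁ l₂ : Red.Gm (Spec (CommRingCat.of k)) ⟶ T) [IsMonHom l₁] [IsMonHom l₂] [IsMonHom ((l₁ * l₂) ≫ i)]
    (m₁ m₂ m : ℤ) (h₁ : HMNum.IsMu B (l₁ ≫ i) x m₁) (h₂ : HMNum.IsMu B (l₂ ≫ i) x m₂)
    (h : HMNum.IsMu B ((l₁ * l₂) ≫ i) x m) : m ≤ m₁ + m₂ :=
  mu_mul_le k a B (fun pt => by
    obtain ⟨n, f, hn, hf, hnv, -⟩ := hB.2 pt
    exact ⟨n, f, hn, hf, hnv⟩) x (l₁ ≫ i) (l₂ ≫ i) ((l₁ * l₂) ≫ i) (MonObj.mul_comp l₁ l₂ i)
    m₁ m₂ m h₁ h₂ h

end Groth.Agent.Lib.Helper29.HMWtMain
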