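import Mathlib
import Groth.Prelude.Def_CycAlg

set_option autoImplicit false

namespace Groth.Agent.Lib.Helper29.Herbrand

open CycAlg

universe u v

section enat

theorem enat_add_lt_top {a b : ℕ∞} (ha : a < ⊤) (hb : b < ⊤) : a + b < ⊤ := by
  lift a to ℕ using ha.ne
  lift b to ℕ using hb.ne
  rw [← Nat.cast_add]; exact ENat.coe_lt_top _

theorem enat_cancel {a b c : ℕ∞} (hc : c < ⊤) (h : a + c = b + c) : a = b := by
  lift c to ℕ using hc.ne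
  by_cases ha : a = ⊤
  · by_cases hb : b = ⊤
    · rw [ha, hb]
    · exfalso
      lift b to ℕ using hb
      rw [ha, top_add, ← Nat.cast_add] at h
      exact ENat.coe_ne_top _ h.symm
  · by_cases hb : b = ⊤
    · exfalso
      lift a to ℕ using ha
      rw [hb, top_add, ← Nat.cast_add] at h
      exact ENat.coe_ne_top _ h
    · lift a to ℕ using ha
      lift b to ℕ using hb
      have h' : a + c = b + c := by exact_mod_cast h
      have : a = b := by omega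
      rw [this]

theorem enat_toNat_eq {a b c d : ℕ∞} (ha : a < ⊤) (hb : b < ⊤) (hc : c < ⊤) (hd : d < ⊤)
    (h : a + b = c + d) : a.toNat + b.toNat = c.toNat + d.toNat := by
  lift a to ℕ using ha.ne
  lift b to ℕ using hb.ne
  lift c to ℕ using hc.ne
  lift d to ℕ using hd.ne
  simp only [ENat.toNat_natCast]
  exact_mod_cast h

theorem enat_hex {a₁ a₂ a₃ b₁ b₂ b₃ x₁ x₂ x₃ y₁ y₂ y₃ : ℕ∞}
    (e1 : x₁ = a₁ + a₂) (e2 : x₂ = a₂ + a₃) (e3 : x₃ = a₃ + b₁)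
    (e4 : y₁ = b₁ + b₂) (e5 : y₂ = b₂ + b₃) (e6 : y₃ = b₃ + a₁)
    (htwo : ((x₁ < ⊤ ∧ y₁ < ⊤) ∧ (x₂ < ⊤ ∧ y₂ < ⊤)) ∨ ((x₁ < ⊤ ∧ y₁ < ⊤) ∧ (x₃ < ⊤ ∧ y₃ < ⊤)) ∨
      ((x₂ < ⊤ ∧ y₂ < ⊤) ∧ (x₃ < ⊤ ∧ y₃ < ⊤))) :
    (x₁ < ⊤ ∧ y₁ < ⊤) ∧ (x₂ < ⊤ ∧ y₂ < ⊤) ∧ (x₃ < ⊤ ∧ y₃ < ⊤) ∧
      ((x₂.toNat : ℤ) - (y₂.toNat : ℤ) =
        ((x₁.toNat : ℤ) - (y₁.toNat : ℤ)) + ((x₃.toNat : ℤ) - (y₃.toNat : ℤ))) := by
  subst e1 e2 e3 e4 e5 e6
  have L : ∀ {a b : ℕ∞}, a + b < ⊤ → a < ⊤ := fun h => lt_of_le_of_lt le_self_add h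
  have Rr : ∀ {a b : ℕ∞}, a + b < ⊤ → b < ⊤ := fun h => lt_of_le_of_lt le_add_self h
  have hall : a₁ < ⊤ ∧ a₂ < ⊤ ∧ a₃ < ⊤ ∧ b₁ < ⊤ ∧ b₂ < ⊤ ∧ b₃ < ⊤ := by
    rcases htwo with ⟨⟨hx1, hy1⟩, ⟨hx2, hy2⟩⟩ | ⟨⟨hx1, hy1⟩, ⟨hx3, hy3⟩⟩ | ⟨⟨hx2, hy2⟩, ⟨hx3, hy3⟩⟩
    · exact ⟨L hx1, Rr hx1, Rr hx2, L hy1, Rr hy1, Rr hy2⟩
    · exact ⟨L hx1, Rr hx1, L hx3, Rr hx3, Rr hy1, L hy3⟩
    · exact ⟨Rr hy3, L hx2, Rr hx2, Rr hx3, L hy2, Rr hy2⟩
  obtain ⟨h1, h2, h3, h4, h5, h6⟩ := hall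
  lift a₁ to ℕ using h1.ne
  lift a₂ to ℕ using h2.ne
  lift a₃ to ℕ using h3.ne
  lift b₁ to ℕ using h4.ne
  lift b₂ to ℕ using h5.ne
  lift b₃ to ℕ using h6.ne
  have T : ∀ m k : ℕ, ((m : ℕ∞) + (k : ℕ∞)) < ⊤ := fun m k => by
    rw [← Nat.cast_add]; exact ENat.coe_lt_top _
  have N : ∀ m k : ℕ, ((m : ℕ∞) + (k : ℕ∞)).toNat = m + k := fun m k => by
    rw [← Nat.cast_add, ENat.toNat_natCast]
  refine ⟨⟨T _ _, T _ _⟩, ⟨T _ _, T _ _⟩, ⟨T _ _, T _ _⟩, ?_⟩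
  simp only [N]
  push_cast
  ring

theorem enat_Z {L p q a b x y : ℕ∞} (hL : L < ⊤) (k1 : L = p + a + q) (k2 : L = q + b + p)
    (hx : x = a) (hy : y = b) : (x < ⊤ ∧ y < ⊤) ∧ ((x.toNat : ℤ) - (y.toNat : ℤ) = 0) := by
  subst hx hy
  have hp : p < ⊤ := lt_of_le_of_lt (by rw [k1]; exact le_trans le_self_add le_self_add) hL
  have ha : x < ⊤ := lt_of_le_of_lt (by rw [k1]; exact le_trans le_add_self le_self_add) hL
  have hq : q < ⊤ := lt_of_le_of_lt (by rw [k1]; exact le_add_self) hL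
  have hb : y < ⊤ := lt_of_le_of_lt (by rw [k2]; exact le_trans le_add_self le_self_add) hL
  lift L to ℕ using hL.ne
  lift p to ℕ using hp.ne
  lift q to ℕ using hq.ne
  lift x to ℕ using ha.ne
  lift y to ℕ using hb.ne
  have k1' : L = p + x + q := by exact_mod_cast k1
  have k2' : L = q + y + p := by exact_mod_cast k2
  have hxy : x = y := by omega
  refine ⟨⟨ENat.coe_lt_top _, ENat.coe_lt_top _⟩, ?_⟩
  rw [ENat.toNat_natCast, ENat.toNat_natCast, hxy, sub_self]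

end enat

section relLen

variable {R : Type*} [CommRing R] {X : Type*} [AddCommGroup X] [Module R X]
  {Y : Type*} [AddCommGroup Y] [Module R Y]

/-- length of `Q / (P ∩ Q)` -/
noncomputable def relLen (P Q : Submodule R X) : ℕ∞ :=
  Module.length R (↥Q ⧸ P.submoduleOf Q)

noncomputable def subqMap (u : X →ₗ[R] Y) {P Q : Submodule R X} {P' Q' : Submodule R Y}
    (hQ : ∀ x ∈ Q, u x ∈ Q') (hP : ∀ x ∈ Q, x ∈ P → u x ∈ P') :
    (↥Q ⧸ P.submoduleOf Q) →ₗ[R] (↥Q' ⧸ P'.submoduleOf Q') :=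
  Submodule.mapQ (P.submoduleOf Q) (P'.submoduleOf Q') (u.restrict hQ)
    (fun x hx => hP x x.2 hx)

theorem subqMap_mk (u : X →ₗ[R] Y) {P Q : Submodule R X} {P' Q' : Submodule R Y}
    (hQ : ∀ x ∈ Q, u x ∈ Q') (hP : ∀ x ∈ Q, x ∈ P → u x ∈ P') (x : ↥Q) :
    subqMap u hQ hP (Submodule.Quotient.mk x) = Submodule.Quotient.mk ⟨u x, hQ x x.2⟩ := rfl

theorem relLen_eq_of_map (u : X →ₗ[R] Y) {P Q : Submodule R X} {P' Q' : Submodule R Y}
    (hQ : ∀ x ∈ Q, u x ∈ Q') (hP : ∀ x ∈ Q, x ∈ P → u x ∈ P')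
    (hinj : ∀ x ∈ Q, u x ∈ P' → x ∈ P)
    (hsurj : ∀ y ∈ Q', ∃ x ∈ Q, u x - y ∈ P') :
    relLen P Q = relLen P' Q' := by
  have hbij : Function.Bijective (subqMap u hQ hP) := by
    constructor
    · rw [injective_iff_map_eq_zero]
      intro z hz
      obtain ⟨x, rfl⟩ := Submodule.Quotient.mk_surjective _ z
      rw [subqMap_mk, Submodule.Quotient.mk_eq_zero] at hz
      rw [Submodule.Quotient.mk_eq_zero]
      exact hinj x x.2 hz
    · intro z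
      obtain ⟨y, rfl⟩ := Submodule.Quotient.mk_surjective _ z
      obtain ⟨x, hx, hxy⟩ := hsurj y y.2
      refine ⟨Submodule.Quotient.mk ⟨x, hx⟩, ?_⟩
      rw [subqMap_mk, Submodule.Quotient.eq]
      exact hxy
  exact (LinearEquiv.ofBijective _ hbij).length_eq

theorem relLen_add {P Q T : Submodule R X} (hPQ : P ≤ Q) (hQT : Q ≤ T) :
    relLen P T = relLen P Q + relLen Q T := by
  unfold relLen
  refine Module.length_eq_add_of_exact
    (subqMap (LinearMap.id : X →ₗ[R] X) (P := P) (Q := Q) (P' := P) (Q' := T)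
      (fun x hx => hQT hx) (fun x _ hx => hx))
    (subqMap (LinearMap.id : X →ₗ[R] X) (P := P) (Q := T) (P' := Q) (Q' := T)
      (fun x hx => hx) (fun x _ hx => hPQ hx)) ?_ ?_ ?_
  · rw [injective_iff_map_eq_zero]
    intro z hz
    obtain ⟨x, rfl⟩ := Submodule.Quotient.mk_surjective _ z
    rw [subqMap_mk, Submodule.Quotient.mk_eq_zero] at hz
    rw [Submodule.Quotient.mk_eq_zero]
    exact hz
  · intro z
    obtain ⟨x, rfl⟩ := Submodule.Quotient.mk_surjective _ z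
    exact ⟨Submodule.Quotient.mk x, rfl⟩
  · intro z
    obtain ⟨x, rfl⟩ := Submodule.Quotient.mk_surjective _ z
    constructor
    · intro hz
      rw [subqMap_mk, Submodule.Quotient.mk_eq_zero] at hz
      have hxQ : (x : X) ∈ Q := hz
      exact ⟨Submodule.Quotient.mk ⟨x, hxQ⟩, rfl⟩
    · rintro ⟨w, hw⟩
      obtain ⟨y, rfl⟩ := Submodule.Quotient.mk_surjective _ w
      rw [← hw, subqMap_mk, subqMap_mk, Submodule.Quotient.mk_eq_zero]
      exact y.2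

theorem relLen_eq_zero {P Q : Submodule R X} (h : Q ≤ P) : relLen P Q = 0 := by
  unfold relLen
  rw [Module.length_eq_zero_iff]
  refine ⟨fun a b => ?_⟩
  obtain ⟨x, rfl⟩ := Submodule.Quotient.mk_surjective _ a
  obtain ⟨y, rfl⟩ := Submodule.Quotient.mk_surjective _ b
  rw [Submodule.Quotient.eq]
  exact h (x - y).2

theorem relLen_bot (Q : Submodule R X) : relLen ⊥ Q = Module.length R Q := by
  unfold relLen
  have h : (⊥ : Submodule R X).submoduleOf Q = ⊥ := by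
    unfold Submodule.submoduleOf
    rw [Submodule.comap_bot]
    exact Submodule.ker_subtype Q
  exact (Submodule.quotEquivOfEqBot _ h).length_eq

end relLen

section hex

variable {R : Type u} [CommRing R] {M₁ N₁ M₂ N₂ M₃ N₃ : Type v}
  [AddCommGroup M₁] [Module R M₁] [AddCommGroup N₁] [Module R N₁]
  [AddCommGroup M₂] [Module R M₂] [AddCommGroup N₂] [Module R N₂]
  [AddCommGroup M₃] [Module R M₃] [AddCommGroup N₃] [Module R N₃]

theorem half_hex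
    (φ₁ : M₁ →ₗ[R] N₁) (ψ₁ : N₁ →ₗ[R] M₁) (φ₂ : M₂ →ₗ[R] N₂) (ψ₂ : N₂ →ₗ[R] M₂)
    (φ₃ : M₃ →ₗ[R] N₃) (ψ₃ : N₃ →ₗ[R] M₃)
    (h₂ : φ₂ ∘ₗ ψ₂ = 0)
    (f₁ : M₁ →ₗ[R] M₂) (g₁ : N₁ →ₗ[R] N₂) (f₂ : M₂ →ₗ[R] M₃) (g₂ : N₂ →ₗ[R] N₃)
    (cφ₁ : φ₂ ∘ₗ f₁ = g₁ ∘ₗ φ₁) (cψ₁ : ψ₂ ∘ₗ g₁ = f₁ ∘ₗ ψ₁)
    (cφ₂ : φ₃ ∘ₗ f₂ = g₂ ∘ₗ φ₂) (cψ₂ : ψ₃ ∘ₗ g₂ = f₂ ∘ₗ ψ₂)
    (hf₁ : Function.Injective f₁) (hg₁ : Function.Injective g₁)
    (hf₂ : Function.Surjective f₂) (hg₂ : Function.Surjective g₂)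
    (hM : LinearMap.range f₁ = LinearMap.ker f₂) (hN : LinearMap.range g₁ = LinearMap.ker g₂) :
    Module.length R (perH φ₁ ψ₁) =
        relLen ((LinearMap.range g₁).map ψ₂) (LinearMap.range f₁ ⊓ LinearMap.range ψ₂) +
        relLen (LinearMap.range f₁ ⊓ LinearMap.range ψ₂) (LinearMap.range f₁ ⊓ LinearMap.ker φ₂) ∧
    Module.length R (perH φ₂ ψ₂) =
        relLen (LinearMap.range f₁ ⊓ LinearMap.range ψ₂) (LinearMap.range f₁ ⊓ LinearMap.ker φ₂) +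
        relLen (LinearMap.range ψ₂ ⊔ LinearMap.range f₁) (LinearMap.ker φ₂ ⊔ LinearMap.range f₁) ∧
    Module.length R (perH φ₃ ψ₃) =
        relLen (LinearMap.range ψ₂ ⊔ LinearMap.range f₁) (LinearMap.ker φ₂ ⊔ LinearMap.range f₁) +
        relLen ((LinearMap.range f₁).map φ₂) (LinearMap.range g₁ ⊓ LinearMap.range φ₂) := by
  have e₂ : ∀ y, φ₂ (ψ₂ y) = 0 := fun y => LinearMap.congr_fun h₂ y
  have eφ₁ : ∀ x, φ₂ (f₁ x) = g₁ (φ₁ x) := fun x => LinearMap.congr_fun cφ₁ x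
  have eψ₁ : ∀ y, ψ₂ (g₁ y) = f₁ (ψ₁ y) := fun y => LinearMap.congr_fun cψ₁ y
  have eφ₂ : ∀ x, φ₃ (f₂ x) = g₂ (φ₂ x) := fun x => LinearMap.congr_fun cφ₂ x
  have eψ₂ : ∀ y, ψ₃ (g₂ y) = f₂ (ψ₂ y) := fun y => LinearMap.congr_fun cψ₂ y
  have hA : ∀ a, a ∈ LinearMap.range f₁ ↔ f₂ a = 0 := fun a => by rw [hM, LinearMap.mem_ker]
  have hB : ∀ b, b ∈ LinearMap.range g₁ ↔ g₂ b = 0 := fun b => by rw [hN, LinearMap.mem_ker]
  have hψφ : LinearMap.range ψ₂ ≤ LinearMap.ker φ₂ := by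
    rintro _ ⟨y, rfl⟩; exact LinearMap.mem_ker.2 (e₂ y)
  -- part 1
  have G1a : relLen (LinearMap.range ψ₁) (LinearMap.ker φ₁) =
      relLen ((LinearMap.range g₁).map ψ₂) (LinearMap.range f₁ ⊓ LinearMap.ker φ₂) := by
    refine relLen_eq_of_map f₁ ?_ ?_ ?_ ?_
    · intro x hx
      refine Submodule.mem_inf.2 ⟨LinearMap.mem_range_self f₁ x, ?_⟩
      rw [LinearMap.mem_ker, eφ₁, LinearMap.mem_ker.1 hx, map_zero]
    · rintro x - ⟨y, rfl⟩
      exact ⟨g₁ y, LinearMap.mem_range_self g₁ y, eψ₁ y⟩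
    · rintro x - ⟨b, ⟨y, rfl⟩, hb⟩
      rw [eψ₁] at hb
      exact ⟨y, hf₁ hb⟩
    · intro y hy0
      obtain ⟨⟨x, rfl⟩, hy⟩ := Submodule.mem_inf.1 hy0
      refine ⟨x, ?_, ?_⟩
      · rw [LinearMap.mem_ker] at hy ⊢
        rw [eφ₁] at hy
        exact hg₁ (by rw [hy, map_zero])
      · rw [sub_self]; exact Submodule.zero_mem _
  have G1b : relLen ((LinearMap.range g₁).map ψ₂) (LinearMap.range f₁ ⊓ LinearMap.ker φ₂) =
      relLen ((LinearMap.range g₁).map ψ₂) (LinearMap.range f₁ ⊓ LinearMap.range ψ₂) +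
      relLen (LinearMap.range f₁ ⊓ LinearMap.range ψ₂)
        (LinearMap.range f₁ ⊓ LinearMap.ker φ₂) := by
    refine relLen_add ?_ ?_
    · rintro _ ⟨b, ⟨y, rfl⟩, rfl⟩
      exact ⟨⟨ψ₁ y, (eψ₁ y).symm⟩, ⟨g₁ y, rfl⟩⟩
    · exact inf_le_inf_left _ hψφ
  -- part 2
  have G2a : relLen (LinearMap.range ψ₂) (LinearMap.ker φ₂) =
      relLen (LinearMap.range ψ₂)
        (LinearMap.range ψ₂ ⊔ (LinearMap.range f₁ ⊓ LinearMap.ker φ₂)) +
      relLen (LinearMap.range ψ₂ ⊔ (LinearMap.range f₁ ⊓ LinearMap.ker φ₂))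
        (LinearMap.ker φ₂) :=
    relLen_add le_sup_left (sup_le hψφ inf_le_right)
  have G2b : relLen (LinearMap.range f₁ ⊓ LinearMap.range ψ₂)
        (LinearMap.range f₁ ⊓ LinearMap.ker φ₂) =
      relLen (LinearMap.range ψ₂)
        (LinearMap.range ψ₂ ⊔ (LinearMap.range f₁ ⊓ LinearMap.ker φ₂)) := by
    refine relLen_eq_of_map LinearMap.id ?_ ?_ ?_ ?_
    · intro x hx; exact Submodule.mem_sup_right hx
    · intro x _ hx; exact hx.2
    · intro x hx hx'; exact ⟨hx.1, hx'⟩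
    · intro y hy
      obtain ⟨s, hs, t, ht, rfl⟩ := Submodule.mem_sup.1 hy
      refine ⟨t, ht, ?_⟩
      have : (LinearMap.id : M₂ →ₗ[R] M₂) t - (s + t) = -s := by
        simp only [LinearMap.id_coe, id_eq]; abel
      rw [this]; exact Submodule.neg_mem _ hs
  have G2c : relLen (LinearMap.range ψ₂ ⊔ (LinearMap.range f₁ ⊓ LinearMap.ker φ₂))
        (LinearMap.ker φ₂) =
      relLen (LinearMap.range ψ₂ ⊔ LinearMap.range f₁)
        (LinearMap.ker φ₂ ⊔ LinearMap.range f₁) := by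
    refine relLen_eq_of_map LinearMap.id ?_ ?_ ?_ ?_
    · intro x hx; exact Submodule.mem_sup_left hx
    · intro x _ hx
      have h' : LinearMap.range ψ₂ ⊔ (LinearMap.range f₁ ⊓ LinearMap.ker φ₂) ≤
          LinearMap.range ψ₂ ⊔ LinearMap.range f₁ := sup_le_sup_left inf_le_left _
      exact h' hx
    · intro x hx hx'
      obtain ⟨s, hs, a, ha, hsa⟩ := Submodule.mem_sup.1 hx'
      have hsa' : s + a = x := hsa
      refine Submodule.mem_sup.2 ⟨s, hs, a, ⟨ha, ?_⟩, hsa'⟩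
      have : a = x - s := by rw [← hsa']; abel
      rw [this]; exact Submodule.sub_mem _ hx (hψφ hs)
    · intro y hy
      obtain ⟨c, hc, a, ha, rfl⟩ := Submodule.mem_sup.1 hy
      refine ⟨c, hc, ?_⟩
      have : (LinearMap.id : M₂ →ₗ[R] M₂) c - (c + a) = -a := by
        simp only [LinearMap.id_coe, id_eq]; abel
      rw [this]; exact Submodule.neg_mem _ (Submodule.mem_sup_right ha)
  -- part 3
  have G3a : relLen (LinearMap.range ψ₂ ⊔ LinearMap.range f₁)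
        ((LinearMap.range g₁).comap φ₂) =
      relLen (LinearMap.range ψ₃) (LinearMap.ker φ₃) := by
    refine relLen_eq_of_map f₂ ?_ ?_ ?_ ?_
    · intro x hx
      have hx' : g₂ (φ₂ x) = 0 := (hB _).1 hx
      rw [LinearMap.mem_ker, eφ₂, hx']
    · intro x _ hx
      obtain ⟨s, ⟨y, rfl⟩, a, ha, rfl⟩ := Submodule.mem_sup.1 hx
      rw [map_add, (hA a).1 ha, add_zero, ← eψ₂]
      exact LinearMap.mem_range_self ψ₃ _
    · intro x _ hx
      obtain ⟨y₃, hy₃⟩ := hx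
      obtain ⟨y₂, rfl⟩ := hg₂ y₃
      rw [eψ₂] at hy₃
      refine Submodule.mem_sup.2
        ⟨ψ₂ y₂, LinearMap.mem_range_self ψ₂ y₂, x - ψ₂ y₂, ?_, by abel⟩
      rw [hA, map_sub, hy₃, sub_self]
    · intro y hy
      obtain ⟨x, rfl⟩ := hf₂ y
      refine ⟨x, ?_, ?_⟩
      · show φ₂ x ∈ LinearMap.range g₁
        rw [hB, ← eφ₂]; exact LinearMap.mem_ker.1 hy
      · rw [sub_self]; exact Submodule.zero_mem _
  have hKA : LinearMap.ker φ₂ ⊔ LinearMap.range f₁ ≤ (LinearMap.range g₁).comap φ₂ := by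
    refine sup_le ?_ ?_
    · intro x hx
      show φ₂ x ∈ LinearMap.range g₁
      rw [LinearMap.mem_ker.1 hx]; exact Submodule.zero_mem _
    · rintro _ ⟨x, rfl⟩
      show φ₂ (f₁ x) ∈ LinearMap.range g₁
      rw [eφ₁]; exact LinearMap.mem_range_self g₁ _
  have G3b : relLen (LinearMap.range ψ₂ ⊔ LinearMap.range f₁)
        ((LinearMap.range g₁).comap φ₂) =
      relLen (LinearMap.range ψ₂ ⊔ LinearMap.range f₁)
        (LinearMap.ker φ₂ ⊔ LinearMap.range f₁) +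
      relLen (LinearMap.ker φ₂ ⊔ LinearMap.range f₁) ((LinearMap.range g₁).comap φ₂) :=
    relLen_add (sup_le_sup_right hψφ _) hKA
  have G3c : relLen (LinearMap.ker φ₂ ⊔ LinearMap.range f₁)
        ((LinearMap.range g₁).comap φ₂) =
      relLen ((LinearMap.range f₁).map φ₂) (LinearMap.range g₁ ⊓ LinearMap.range φ₂) := by
    refine relLen_eq_of_map φ₂ ?_ ?_ ?_ ?_
    · intro x hx; exact ⟨hx, LinearMap.mem_range_self φ₂ x⟩
    · intro x _ hx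
      obtain ⟨c, hc, a, ha, rfl⟩ := Submodule.mem_sup.1 hx
      rw [map_add, LinearMap.mem_ker.1 hc, zero_add]
      exact Submodule.mem_map_of_mem ha
    · intro x _ hx
      obtain ⟨a, ha, hax⟩ := hx
      refine Submodule.mem_sup.2 ⟨x - a, ?_, a, ha, by abel⟩
      rw [LinearMap.mem_ker, map_sub, hax, sub_self]
    · rintro y ⟨hyB, ⟨x, rfl⟩⟩
      exact ⟨x, hyB, by rw [sub_self]; exact Submodule.zero_mem _⟩
  refine ⟨?_, ?_, ?_⟩
  · show relLen (LinearMap.range ψ₁) (LinearMap.ker φ₁) = _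
    rw [G1a, G1b]
  · show relLen (LinearMap.range ψ₂) (LinearMap.ker φ₂) = _
    rw [G2a, ← G2b, G2c]
  · show relLen (LinearMap.range ψ₃) (LinearMap.ker φ₃) = _
    rw [← G3a, G3b, G3c]

theorem main1869
    (φ₁ : M₁ →ₗ[R] N₁) (ψ₁ : N₁ →ₗ[R] M₁) (φ₂ : M₂ →ₗ[R] N₂) (ψ₂ : N₂ →ₗ[R] M₂)
    (φ₃ : M₃ →ₗ[R] N₃) (ψ₃ : N₃ →ₗ[R] M₃)
    (h₁ : CycAlg.IsPeriodic φ₁ ψ₁) (h₂ : CycAlg.IsPeriodic φ₂ ψ₂) (h₃ : CycAlg.IsPeriodic φ₃ ψ₃)
    (f₁ : M₁ →ₗ[R] M₂) (g₁ : N₁ →ₗ[R] N₂) (f₂ : M₂ →ₗ[R] M₃) (g₂ : N₂ →ₗ[R] N₃)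
    (cφ₁ : φ₂ ∘ₗ f₁ = g₁ ∘ₗ φ₁) (cψ₁ : ψ₂ ∘ₗ g₁ = f₁ ∘ₗ ψ₁)
    (cφ₂ : φ₃ ∘ₗ f₂ = g₂ ∘ₗ φ₂) (cψ₂ : ψ₃ ∘ₗ g₂ = f₂ ∘ₗ ψ₂)
    (hf₁ : Function.Injective f₁) (hg₁ : Function.Injective g₁)
    (hf₂ : Function.Surjective f₂) (hg₂ : Function.Surjective g₂)
    (hM : LinearMap.range f₁ = LinearMap.ker f₂) (hN : LinearMap.range g₁ = LinearMap.ker g₂)
    (htwo : (CycAlg.FinCoh R φ₁ ψ₁ ∧ CycAlg.FinCoh R φ₂ ψ₂) ∨
      (CycAlg.FinCoh R φ₁ ψ₁ ∧ CycAlg.FinCoh R φ₃ ψ₃) ∨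
      (CycAlg.FinCoh R φ₂ ψ₂ ∧ CycAlg.FinCoh R φ₃ ψ₃)) :
    CycAlg.FinCoh R φ₁ ψ₁ ∧ CycAlg.FinCoh R φ₂ ψ₂ ∧ CycAlg.FinCoh R φ₃ ψ₃ ∧
      CycAlg.herbrand R φ₂ ψ₂ = CycAlg.herbrand R φ₁ ψ₁ + CycAlg.herbrand R φ₃ ψ₃ := by
  obtain ⟨e1, e2, e3⟩ := half_hex φ₁ ψ₁ φ₂ ψ₂ φ₃ ψ₃ h₂.1 f₁ g₁ f₂ g₂ cφ₁ cψ₁ cφ₂ cψ₂
    hf₁ hg₁ hf₂ hg₂ hM hN
  obtain ⟨e4, e5, e6⟩ := half_hex ψ₁ φ₁ ψ₂ φ₂ ψ₃ φ₃ h₂.2 g₁ f₁ g₂ f₂ cψ₁ cφ₁ cψ₂ cφ₂
    hg₁ hf₁ hg₂ hf₂ hN hM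
  exact enat_hex e1 e2 e3 e4 e5 e6 htwo

end hex

section fin

variable {R : Type u} [CommRing R]

theorem herbrand_of_finite_length {X : Type v} [AddCommGroup X] [Module R X]
    (φ ψ : X →ₗ[R] X) (h : CycAlg.IsPeriodic φ ψ) (hX : Module.length R X < ⊤) :
    CycAlg.FinCoh R φ ψ ∧ CycAlg.herbrand R φ ψ = 0 := by
  have e1 : ∀ y, φ (ψ y) = 0 := fun y => LinearMap.congr_fun h.1 y
  have e2 : ∀ y, ψ (φ y) = 0 := fun y => LinearMap.congr_fun h.2 y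
  have key : ∀ (α β : X →ₗ[R] X), (∀ y, α (β y) = 0) →
      Module.length R X = relLen ⊥ (LinearMap.range β) +
        relLen (LinearMap.range β) (LinearMap.ker α) + relLen ⊥ (LinearMap.range α) := by
    intro α β hαβ
    have hle : LinearMap.range β ≤ LinearMap.ker α := by
      rintro _ ⟨y, rfl⟩; exact LinearMap.mem_ker.2 (hαβ y)
    have s1 : relLen (⊥ : Submodule R X) ⊤ =
        relLen ⊥ (LinearMap.ker α) + relLen (LinearMap.ker α) ⊤ :=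
      relLen_add bot_le le_top
    have s2 : relLen (⊥ : Submodule R X) (LinearMap.ker α) =
        relLen ⊥ (LinearMap.range β) + relLen (LinearMap.range β) (LinearMap.ker α) :=
      relLen_add bot_le hle
    have s3 : relLen (LinearMap.ker α) (⊤ : Submodule R X) =
        relLen (⊥ : Submodule R X) (LinearMap.range α) := by
      refine relLen_eq_of_map α ?_ ?_ ?_ ?_
      · intro x _; exact LinearMap.mem_range_self α x
      · intro x _ hx; rw [LinearMap.mem_ker.1 hx]; exact Submodule.zero_mem _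
      · intro x _ hx; exact LinearMap.mem_ker.2 ((Submodule.mem_bot R).1 hx)
      · rintro _ ⟨x, rfl⟩
        exact ⟨x, Submodule.mem_top, by rw [sub_self]; exact Submodule.zero_mem _⟩
    have s0 : relLen (⊥ : Submodule R X) ⊤ = Module.length R X := by
      rw [relLen_bot, Module.length_top]
    rw [← s0, s1, s2, s3]
  have k1 := key φ ψ e1
  have k2 := key ψ φ e2
  have hh0 : Module.length R (perH φ ψ) = relLen (LinearMap.range ψ) (LinearMap.ker φ) := rfl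
  have hh1 : Module.length R (perH ψ φ) = relLen (LinearMap.range φ) (LinearMap.ker ψ) := rfl
  exact enat_Z hX k1 k2 hh0 hh1

theorem main1870 {M M' : Type v} [AddCommGroup M] [Module R M] [AddCommGroup M'] [Module R M']
    (φ ψ : M →ₗ[R] M) (φ' ψ' : M' →ₗ[R] M') (h : CycAlg.IsPeriodic φ ψ)
    (h' : CycAlg.IsPeriodic φ' ψ')
    (f : M →ₗ[R] M') (cφ : φ' ∘ₗ f = f ∘ₗ φ) (cψ : ψ' ∘ₗ f = f ∘ₗ ψ)
    (hfin : CycAlg.FinCoh R φ ψ) (hfin' : CycAlg.FinCoh R φ' ψ')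
    (hker : Module.length R (LinearMap.ker f) < ⊤)
    (hcoker : Module.length R (M' ⧸ LinearMap.range f) < ⊤) :
    CycAlg.herbrand R φ ψ = CycAlg.herbrand R φ' ψ' := by
  have eφ : ∀ x, φ' (f x) = f (φ x) := fun x => LinearMap.congr_fun cφ x
  have eψ : ∀ x, ψ' (f x) = f (ψ x) := fun x => LinearMap.congr_fun cψ x
  have p1 : ∀ y, φ (ψ y) = 0 := fun y => LinearMap.congr_fun h.1 y
  have p2 : ∀ y, ψ (φ y) = 0 := fun y => LinearMap.congr_fun h.2 y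
  have p1' : ∀ y, φ' (ψ' y) = 0 := fun y => LinearMap.congr_fun h'.1 y
  have p2' : ∀ y, ψ' (φ' y) = 0 := fun y => LinearMap.congr_fun h'.2 y
  have hφK : ∀ x ∈ LinearMap.ker f, φ x ∈ LinearMap.ker f := by
    intro x hx; rw [LinearMap.mem_ker] at hx ⊢; rw [← eφ, hx, map_zero]
  have hψK : ∀ x ∈ LinearMap.ker f, ψ x ∈ LinearMap.ker f := by
    intro x hx; rw [LinearMap.mem_ker] at hx ⊢; rw [← eψ, hx, map_zero]
  have hφI : ∀ y ∈ LinearMap.range f, φ' y ∈ LinearMap.range f := by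
    rintro _ ⟨x, rfl⟩; exact ⟨φ x, (eφ x).symm⟩
  have hψI : ∀ y ∈ LinearMap.range f, ψ' y ∈ LinearMap.range f := by
    rintro _ ⟨x, rfl⟩; exact ⟨ψ x, (eψ x).symm⟩
  have hK : CycAlg.IsPeriodic (φ.restrict hφK) (ψ.restrict hψK) :=
    ⟨LinearMap.ext fun x => Subtype.ext (p1 (x : M)),
      LinearMap.ext fun x => Subtype.ext (p2 (x : M))⟩
  have hI : CycAlg.IsPeriodic (φ'.restrict hφI) (ψ'.restrict hψI) :=
    ⟨LinearMap.ext fun x => Subtype.ext (p1' (x : M')),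
      LinearMap.ext fun x => Subtype.ext (p2' (x : M'))⟩
  have hC : CycAlg.IsPeriodic
      (Submodule.mapQ (LinearMap.range f) (LinearMap.range f) φ' (fun y hy => hφI y hy))
      (Submodule.mapQ (LinearMap.range f) (LinearMap.range f) ψ' (fun y hy => hψI y hy)) := by
    constructor
    · refine LinearMap.ext fun z => ?_
      obtain ⟨y, rfl⟩ := Submodule.Quotient.mk_surjective _ z
      show Submodule.Quotient.mk (φ' (ψ' y)) = (0 : M' ⧸ LinearMap.range f)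
      rw [p1', Submodule.Quotient.mk_zero]
    · refine LinearMap.ext fun z => ?_
      obtain ⟨y, rfl⟩ := Submodule.Quotient.mk_surjective _ z
      show Submodule.Quotient.mk (ψ' (φ' y)) = (0 : M' ⧸ LinearMap.range f)
      rw [p2', Submodule.Quotient.mk_zero]
  obtain ⟨fK, eK⟩ := herbrand_of_finite_length _ _ hK hker
  obtain ⟨fC, eC⟩ := herbrand_of_finite_length _ _ hC hcoker
  have S1 := main1869 (φ.restrict hφK) (ψ.restrict hψK) φ ψ (φ'.restrict hφI) (ψ'.restrict hψI)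
    hK h hI (LinearMap.ker f).subtype (LinearMap.ker f).subtype
    f.rangeRestrict f.rangeRestrict
    (LinearMap.ext fun x => rfl) (LinearMap.ext fun x => rfl)
    (LinearMap.ext fun x => Subtype.ext (eφ x)) (LinearMap.ext fun x => Subtype.ext (eψ x))
    (Submodule.subtype_injective _) (Submodule.subtype_injective _)
    (LinearMap.surjective_rangeRestrict f) (LinearMap.surjective_rangeRestrict f)
    (by rw [Submodule.range_subtype, LinearMap.ker_rangeRestrict])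
    (by rw [Submodule.range_subtype, LinearMap.ker_rangeRestrict])
    (Or.inl ⟨fK, hfin⟩)
  have S2 := main1869 (φ'.restrict hφI) (ψ'.restrict hψI) φ' ψ'
    (Submodule.mapQ (LinearMap.range f) (LinearMap.range f) φ' (fun y hy => hφI y hy))
    (Submodule.mapQ (LinearMap.range f) (LinearMap.range f) ψ' (fun y hy => hψI y hy))
    hI h' hC (LinearMap.range f).subtype (LinearMap.range f).subtype
    (LinearMap.range f).mkQ (LinearMap.range f).mkQ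
    (LinearMap.ext fun x => rfl) (LinearMap.ext fun x => rfl)
    (LinearMap.ext fun x => rfl) (LinearMap.ext fun x => rfl)
    (Submodule.subtype_injective _) (Submodule.subtype_injective _)
    (Submodule.mkQ_surjective _) (Submodule.mkQ_surjective _)
    (by rw [Submodule.range_subtype, Submodule.ker_mkQ])
    (by rw [Submodule.range_subtype, Submodule.ker_mkQ])
    (Or.inl ⟨S1.2.2.1, hfin'⟩)
  rw [S1.2.2.2, S2.2.2.2, eK, eC]
  ring

end fin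

section nilp

variable {R : Type*} [CommRing R] {X : Type*} [AddCommGroup X] [Module R X]

theorem pow_succ_apply (φ : X →ₗ[R] X) (j : ℕ) (x : X) :
    (φ ^ (j + 1)) x = (φ ^ j) (φ x) := by
  rw [pow_succ]; rfl

theorem pow_succ_apply' (φ : X →ₗ[R] X) (j : ℕ) (x : X) :
    (φ ^ (j + 1)) x = φ ((φ ^ j) x) := by
  rw [pow_succ']; rfl

theorem pow_add_apply (φ : X →ₗ[R] X) (a b : ℕ) (x : X) :
    (φ ^ (a + b)) x = (φ ^ a) ((φ ^ b) x) := by
  rw [pow_add]; rfl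

theorem pow_one_apply (φ : X →ₗ[R] X) (x : X) : (φ ^ 1) x = φ x := by rw [pow_one]

theorem pow_zero_apply (φ : X →ₗ[R] X) (x : X) : (φ ^ 0) x = x := by rw [pow_zero]; rfl

def Kk (φ : X →ₗ[R] X) (j : ℕ) : Submodule R X := LinearMap.ker (φ ^ j)
def Ii (φ : X →ₗ[R] X) (j : ℕ) : Submodule R X := LinearMap.range (φ ^ j)

theorem mem_Kk {φ : X →ₗ[R] X} {j : ℕ} {x : X} : x ∈ Kk φ j ↔ (φ ^ j) x = 0 :=
  LinearMap.mem_ker

theorem mem_Ii {φ : X →ₗ[R] X} {j : ℕ} {y : X} : y ∈ Ii φ j ↔ ∃ x, (φ ^ j) x = y :=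
  LinearMap.mem_range

theorem Kk_mono_succ (φ : X →ₗ[R] X) (j : ℕ) : Kk φ j ≤ Kk φ (j + 1) := by
  intro x hx
  rw [mem_Kk] at hx ⊢
  rw [pow_succ_apply', hx, map_zero]

theorem Kk_one_le (φ : X →ₗ[R] X) (j : ℕ) : Kk φ 1 ≤ Kk φ (j + 1) := by
  intro x hx
  rw [mem_Kk] at hx ⊢
  rw [pow_one_apply] at hx
  rw [pow_succ_apply, hx, map_zero]

theorem Ii_succ_le (φ : X →ₗ[R] X) (j : ℕ) : Ii φ (j + 1) ≤ Ii φ j := by
  intro y hy
  obtain ⟨x, rfl⟩ := mem_Ii.1 hy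
  exact mem_Ii.2 ⟨φ x, (pow_succ_apply φ j x).symm⟩

theorem Ii_le_Kk (φ : X →ₗ[R] X) {n : ℕ} (hφ : φ ^ n = 0) {a b : ℕ} (hab : a + b = n) :
    Ii φ b ≤ Kk φ a := by
  intro y hy
  obtain ⟨x, rfl⟩ := mem_Ii.1 hy
  rw [mem_Kk, ← pow_add_apply, hab, hφ]; rfl

theorem stepA (φ : X →ₗ[R] X) {n : ℕ} (hφ : φ ^ n = 0) (i m : ℕ) (him : i + m + 1 = n) :
    relLen (Ii φ m) (Kk φ (i + 1)) + relLen (Ii φ 1 ⊓ Kk φ i) (Kk φ i) =
      relLen (Ii φ (m + 1)) (Kk φ i) + relLen (Kk φ 1 ⊓ Ii φ m) (Kk φ 1) := by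
  have hImK : Ii φ m ≤ Kk φ (i + 1) := Ii_le_Kk φ hφ (by omega)
  have A1 : relLen (Ii φ m) (Kk φ (i + 1)) =
      relLen (Ii φ m) (Ii φ m ⊔ Kk φ 1) + relLen (Ii φ m ⊔ Kk φ 1) (Kk φ (i + 1)) :=
    relLen_add le_sup_left (sup_le hImK (Kk_one_le φ i))
  have A2 : relLen (Kk φ 1 ⊓ Ii φ m) (Kk φ 1) = relLen (Ii φ m) (Ii φ m ⊔ Kk φ 1) := by
    refine relLen_eq_of_map LinearMap.id ?_ ?_ ?_ ?_
    · intro x hx; exact Submodule.mem_sup_right hx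
    · intro x _ hx; exact hx.2
    · intro x hx hx'; exact ⟨hx, hx'⟩
    · intro y hy
      obtain ⟨s, hs, t, ht, rfl⟩ := Submodule.mem_sup.1 hy
      refine ⟨t, ht, ?_⟩
      have : (LinearMap.id : X →ₗ[R] X) t - (s + t) = -s := by
        simp only [LinearMap.id_coe, id_eq]; abel
      rw [this]; exact Submodule.neg_mem _ hs
  have A3 : relLen (Ii φ m ⊔ Kk φ 1) (Kk φ (i + 1)) =
      relLen (Ii φ (m + 1)) (Ii φ 1 ⊓ Kk φ i) := by
    refine relLen_eq_of_map φ ?_ ?_ ?_ ?_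
    · intro x hx
      refine Submodule.mem_inf.2 ⟨mem_Ii.2 ⟨x, pow_one_apply φ x⟩, ?_⟩
      rw [mem_Kk] at hx ⊢
      rw [← pow_succ_apply]; exact hx
    · intro x _ hx
      obtain ⟨s, hs, t, ht, rfl⟩ := Submodule.mem_sup.1 hx
      obtain ⟨z, rfl⟩ := mem_Ii.1 hs
      rw [mem_Kk, pow_one_apply] at ht
      rw [map_add, ht, add_zero]
      exact mem_Ii.2 ⟨z, pow_succ_apply' φ m z⟩
    · intro x _ hx
      obtain ⟨z, hz⟩ := mem_Ii.1 hx
      rw [pow_succ_apply'] at hz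
      refine Submodule.mem_sup.2
        ⟨(φ ^ m) z, mem_Ii.2 ⟨z, rfl⟩, x - (φ ^ m) z, ?_, by abel⟩
      rw [mem_Kk, pow_one_apply, map_sub, hz, sub_self]
    · intro y hy0
      obtain ⟨hy1, hy2⟩ := Submodule.mem_inf.1 hy0
      obtain ⟨x, hx⟩ := mem_Ii.1 hy1
      rw [pow_one_apply] at hx
      subst hx
      refine ⟨x, ?_, by rw [sub_self]; exact Submodule.zero_mem _⟩
      rw [mem_Kk] at hy2 ⊢
      rw [pow_succ_apply]; exact hy2
  have hIK : Ii φ (m + 1) ≤ Ii φ 1 ⊓ Kk φ i := by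
    refine le_inf ?_ (Ii_le_Kk φ hφ (by omega))
    intro y hy
    obtain ⟨x, rfl⟩ := mem_Ii.1 hy
    exact mem_Ii.2 ⟨(φ ^ m) x, by rw [pow_one_apply, pow_succ_apply']⟩
  have A4 : relLen (Ii φ (m + 1)) (Kk φ i) =
      relLen (Ii φ (m + 1)) (Ii φ 1 ⊓ Kk φ i) + relLen (Ii φ 1 ⊓ Kk φ i) (Kk φ i) :=
    relLen_add hIK inf_le_right
  rw [A1, A4, ← A2, A3]
  ring

theorem pp_succ (φ : X →ₗ[R] X) (i : ℕ) :
    relLen (Kk φ 1 ⊓ Ii φ (i + 1)) (Kk φ 1) =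
      relLen (Kk φ 1 ⊓ Ii φ (i + 1)) (Kk φ 1 ⊓ Ii φ i) + relLen (Kk φ 1 ⊓ Ii φ i) (Kk φ 1) :=
  relLen_add (inf_le_inf_left _ (Ii_succ_le φ i)) inf_le_left

theorem stepB (φ : X →ₗ[R] X) (i : ℕ) :
    relLen (Ii φ 1 ⊓ Kk φ (i + 1)) (Kk φ (i + 1)) + relLen (Kk φ 1 ⊓ Ii φ i) (Kk φ 1) =
      relLen (Ii φ 1 ⊓ Kk φ i) (Kk φ i) + relLen (Kk φ 1 ⊓ Ii φ (i + 1)) (Kk φ 1) := by
  have B1 := pp_succ φ i
  have B2 : relLen (Ii φ 1 ⊓ Kk φ (i + 1)) (Kk φ (i + 1)) =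
      relLen (Ii φ 1 ⊓ Kk φ (i + 1)) ((Ii φ 1 ⊓ Kk φ (i + 1)) ⊔ Kk φ i) +
      relLen ((Ii φ 1 ⊓ Kk φ (i + 1)) ⊔ Kk φ i) (Kk φ (i + 1)) :=
    relLen_add le_sup_left (sup_le inf_le_right (Kk_mono_succ φ i))
  have B3 : relLen (Ii φ 1 ⊓ Kk φ i) (Kk φ i) =
      relLen (Ii φ 1 ⊓ Kk φ (i + 1)) ((Ii φ 1 ⊓ Kk φ (i + 1)) ⊔ Kk φ i) := by
    refine relLen_eq_of_map LinearMap.id ?_ ?_ ?_ ?_
    · intro x hx; exact Submodule.mem_sup_right hx
    · intro x _ hx; exact ⟨hx.1, Kk_mono_succ φ i hx.2⟩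
    · intro x hx hx'; exact ⟨hx'.1, hx⟩
    · intro y hy
      obtain ⟨s, hs, t, ht, rfl⟩ := Submodule.mem_sup.1 hy
      refine ⟨t, ht, ?_⟩
      have : (LinearMap.id : X →ₗ[R] X) t - (s + t) = -s := by
        simp only [LinearMap.id_coe, id_eq]; abel
      rw [this]; exact Submodule.neg_mem _ hs
  have B4 : relLen ((Ii φ 1 ⊓ Kk φ (i + 1)) ⊔ Kk φ i) (Kk φ (i + 1)) =
      relLen (Kk φ 1 ⊓ Ii φ (i + 1)) (Kk φ 1 ⊓ Ii φ i) := by
    refine relLen_eq_of_map (φ ^ i) ?_ ?_ ?_ ?_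
    · intro x hx
      refine Submodule.mem_inf.2 ⟨?_, mem_Ii.2 ⟨x, rfl⟩⟩
      rw [mem_Kk] at hx ⊢
      rw [pow_one_apply, ← pow_succ_apply']; exact hx
    · intro x _ hx
      obtain ⟨s, hs, t, ht, rfl⟩ := Submodule.mem_sup.1 hx
      obtain ⟨hs1, hs2⟩ := Submodule.mem_inf.1 hs
      obtain ⟨z, hz⟩ := mem_Ii.1 hs1
      rw [pow_one_apply] at hz
      rw [mem_Kk] at ht hs2
      rw [map_add, ht, add_zero]
      refine Submodule.mem_inf.2 ⟨?_, ?_⟩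
      · rw [mem_Kk, pow_one_apply, ← pow_succ_apply']; exact hs2
      · rw [← hz]; exact mem_Ii.2 ⟨z, pow_succ_apply φ i z⟩
    · intro x hx hx'
      obtain ⟨_, hx2⟩ := Submodule.mem_inf.1 hx'
      obtain ⟨z, hz⟩ := mem_Ii.1 hx2
      rw [pow_succ_apply] at hz
      have ht : x - φ z ∈ Kk φ i := by
        rw [mem_Kk, map_sub, hz, sub_self]
      have hs : φ z ∈ Kk φ (i + 1) := by
        have : φ z = x - (x - φ z) := by abel
        rw [this]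
        exact Submodule.sub_mem _ hx (Kk_mono_succ φ i ht)
      exact Submodule.mem_sup.2
        ⟨φ z, ⟨mem_Ii.2 ⟨z, pow_one_apply φ z⟩, hs⟩, x - φ z, ht, by abel⟩
    · intro y hy0
      obtain ⟨hy1, hy2⟩ := Submodule.mem_inf.1 hy0
      obtain ⟨x, hx⟩ := mem_Ii.1 hy2
      subst hx
      refine ⟨x, ?_, by rw [sub_self]; exact Submodule.zero_mem _⟩
      rw [mem_Kk] at hy1 ⊢
      rw [pow_one_apply] at hy1
      rw [pow_succ_apply']; exact hy1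
  rw [B2, B1, B3, B4]
  ring

noncomputable def hh (φ : X →ₗ[R] X) (n j : ℕ) : ℕ∞ := relLen (Ii φ (n - j)) (Kk φ j)
noncomputable def pp (φ : X →ₗ[R] X) (j : ℕ) : ℕ∞ := relLen (Kk φ 1 ⊓ Ii φ j) (Kk φ 1)
noncomputable def qq (φ : X →ₗ[R] X) (j : ℕ) : ℕ∞ := relLen (Ii φ 1 ⊓ Kk φ j) (Kk φ j)

end nilp

theorem main1831 {R : Type u} [CommRing R] {M : Type v} [AddCommGroup M] [Module R M]
    (φ : M →ₗ[R] M) (n : ℕ) (hn : 0 < n) (hφ : φ ^ n = 0)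
    (hfin : Module.length R (CycAlg.perH φ (φ ^ (n - 1))) < ⊤) (i : ℕ) (hi : i ≤ n) :
    CycAlg.FinCoh R (φ ^ i) (φ ^ (n - i)) ∧ CycAlg.herbrand R (φ ^ i) (φ ^ (n - i)) = 0 := by
  have hA : ∀ j, j < n → hh φ n (j + 1) + qq φ j = hh φ n j + pp φ (n - 1 - j) := by
    intro j hj
    have e1 : n - (j + 1) = n - 1 - j := by omega
    have e2 : n - j = n - 1 - j + 1 := by omega
    have := stepA φ hφ j (n - 1 - j) (by omega)
    unfold hh pp qq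
    rw [e1, e2]
    exact this
  have hB : ∀ j, qq φ (j + 1) + pp φ j = qq φ j + pp φ (j + 1) := fun j => stepB φ j
  have p0 : pp φ 0 = 0 :=
    relLen_eq_zero (le_inf le_rfl (fun x _ => mem_Ii.2 ⟨x, pow_zero_apply φ x⟩))
  have q0 : qq φ 0 = 0 := by
    refine relLen_eq_zero ?_
    intro x hx
    rw [mem_Kk, pow_zero_apply] at hx
    rw [hx]; exact Submodule.zero_mem _
  have h0 : hh φ n 0 = 0 := by
    refine relLen_eq_zero ?_
    intro x hx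
    rw [mem_Kk, pow_zero_apply] at hx
    rw [hx]; exact Submodule.zero_mem _
  have hn' : hh φ n n = 0 := by
    refine relLen_eq_zero ?_
    intro x _
    rw [Nat.sub_self]
    exact mem_Ii.2 ⟨x, pow_zero_apply φ x⟩
  have pfin : pp φ (n - 1) < ⊤ := by
    have : pp φ (n - 1) = Module.length R (CycAlg.perH φ (φ ^ (n - 1))) := by
      show relLen (Kk φ 1 ⊓ Ii φ (n - 1)) (Kk φ 1) =
        relLen (LinearMap.range (φ ^ (n - 1))) (LinearMap.ker φ)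
      refine relLen_eq_of_map LinearMap.id ?_ ?_ ?_ ?_
      · intro x hx
        rw [mem_Kk, pow_one_apply] at hx
        exact LinearMap.mem_ker.2 hx
      · intro x _ hx; exact hx.2
      · intro x hx hx'; exact ⟨hx, hx'⟩
      · intro y hy
        refine ⟨y, mem_Kk.2 (by rw [pow_one_apply]; exact LinearMap.mem_ker.1 hy), ?_⟩
        have : (LinearMap.id : M →ₗ[R] M) y - y = 0 := by
          simp only [LinearMap.id_coe, id_eq, sub_self]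
        rw [this]; exact Submodule.zero_mem _
    rw [this]; exact hfin
  have pmono : ∀ j, pp φ j ≤ pp φ (j + 1) := by
    intro j
    have := pp_succ φ j
    unfold pp
    rw [this]; exact le_add_self
  have pfinj : ∀ j, j ≤ n - 1 → pp φ j < ⊤ :=
    fun j hj => lt_of_le_of_lt (monotone_nat_of_le_succ pmono hj) pfin
  have qp : ∀ j, j ≤ n - 1 → qq φ j = pp φ j := by
    intro j
    induction j with
    | zero => intro _; rw [q0, p0]
    | succ j ih =>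
      intro hj
      have ih' := ih (by omega)
      have hb := hB j
      rw [ih', add_comm (pp φ j) (pp φ (j + 1))] at hb
      exact enat_cancel (pfinj j (by omega)) hb
  have hfinall : ∀ j, j ≤ n → hh φ n j < ⊤ := by
    intro j
    induction j with
    | zero => intro _; rw [h0]; simp
    | succ j ih =>
      intro hj
      have ha := hA j (by omega)
      have h1 : hh φ n j < ⊤ := ih (by omega)
      have h2 : pp φ (n - 1 - j) < ⊤ := pfinj _ (by omega)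
      have h3 : hh φ n j + pp φ (n - 1 - j) < ⊤ := enat_add_lt_top h1 h2
      rw [← ha] at h3
      exact lt_of_le_of_lt le_self_add h3
  have hA' : ∀ j, j < n → (hh φ n (j + 1)).toNat + (pp φ j).toNat =
      (hh φ n j).toNat + (pp φ (n - 1 - j)).toNat := by
    intro j hj
    have ha := hA j hj
    rw [qp j (by omega)] at ha
    exact enat_toNat_eq (hfinall (j + 1) (by omega)) (pfinj j (by omega))
      (hfinall j (by omega)) (pfinj (n - 1 - j) (by omega)) ha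
  have sym : ∀ j, j ≤ n → (hh φ n j).toNat = (hh φ n (n - j)).toNat := by
    intro j
    induction j with
    | zero => intro _; rw [Nat.sub_zero, h0, hn']
    | succ j ih =>
      intro hj
      have ih' := ih (by omega)
      have a1 := hA' j (by omega)
      have a2 := hA' (n - 1 - j) (by omega)
      have e1 : n - 1 - j + 1 = n - j := by omega
      have e2 : n - 1 - (n - 1 - j) = j := by omega
      have e3 : n - (j + 1) = n - 1 - j := by omega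
      rw [e1, e2] at a2
      rw [e3]
      omega
  have hsub : n - (n - i) = i := Nat.sub_sub_self hi
  have E0 : Module.length R (CycAlg.perH (φ ^ i) (φ ^ (n - i))) = hh φ n i := rfl
  have E1 : Module.length R (CycAlg.perH (φ ^ (n - i)) (φ ^ i)) = hh φ n (n - i) := by
    show relLen (LinearMap.range (φ ^ i)) (LinearMap.ker (φ ^ (n - i))) =
      relLen (Ii φ (n - (n - i))) (Kk φ (n - i))
    rw [hsub]; rfl
  refine ⟨⟨?_, ?_⟩, ?_⟩
  · rw [E0]; exact hfinall i hi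
  · rw [E1]; exact hfinall (n - i) (Nat.sub_le n i)
  · unfold CycAlg.herbrand
    rw [E0, E1, sym i hi]
    exact sub_self _

end Groth.Agent.Lib.Helper29.Herbrand
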