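import Mathlib
import Groth.Prelude.Def_CycAlg
import Groth.Agent.Lib.Helper29.Herbrand

set_option autoImplicit false

namespace Groth.Agent.Lib.Helper29.Herbrand2

open CycAlg Groth.Agent.Lib.Helper29.Herbrand
open scoped Pointwise

universe u v

theorem enat_m1 {h0 h1 T Q A B : ℕ∞} (f0 : h0 < ⊤) (f1 : h1 < ⊤) (fT : T < ⊤) (fQ : Q < ⊤)
    (eA : A = h0 + T) (eB : B = Q + h1) :
    (A < ⊤ ∧ B < ⊤) ∧ ((A.toNat : ℤ) - (B.toNat : ℤ) =
      ((h0.toNat : ℤ) - (h1.toNat : ℤ)) - ((Q.toNat : ℤ) - (T.toNat : ℤ))) := by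
  subst eA eB
  lift h0 to ℕ using f0.ne
  lift h1 to ℕ using f1.ne
  lift T to ℕ using fT.ne
  lift Q to ℕ using fQ.ne
  have N : ∀ m k : ℕ, ((m : ℕ∞) + (k : ℕ∞)).toNat = m + k := fun m k => by
    rw [← Nat.cast_add, ENat.toNat_natCast]
  have Tt : ∀ m k : ℕ, ((m : ℕ∞) + (k : ℕ∞)) < ⊤ := fun m k => by
    rw [← Nat.cast_add]; exact ENat.coe_lt_top _
  refine ⟨⟨Tt _ _, Tt _ _⟩, ?_⟩
  simp only [N, ENat.toNat_natCast]
  push_cast
  ring

theorem enat_m2 {h0 h1 T Q A B : ℕ∞} (f0 : h0 < ⊤) (f1 : h1 < ⊤) (fT : T < ⊤) (fQ : Q < ⊤)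
    (eA : A = Q + h0) (eB : B = h1 + T) :
    (A < ⊤ ∧ B < ⊤) ∧ ((A.toNat : ℤ) - (B.toNat : ℤ) =
      ((h0.toNat : ℤ) - (h1.toNat : ℤ)) + ((Q.toNat : ℤ) - (T.toNat : ℤ))) := by
  subst eA eB
  lift h0 to ℕ using f0.ne
  lift h1 to ℕ using f1.ne
  lift T to ℕ using fT.ne
  lift Q to ℕ using fQ.ne
  have N : ∀ m k : ℕ, ((m : ℕ∞) + (k : ℕ∞)).toNat = m + k := fun m k => by
    rw [← Nat.cast_add, ENat.toNat_natCast]
  have Tt : ∀ m k : ℕ, ((m : ℕ∞) + (k : ℕ∞)) < ⊤ := fun m k => by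
    rw [← Nat.cast_add]; exact ENat.coe_lt_top _
  refine ⟨⟨Tt _ _, Tt _ _⟩, ?_⟩
  simp only [N, ENat.toNat_natCast]
  push_cast
  ring

theorem relLen_top {R : Type*} [CommRing R] {X : Type*} [AddCommGroup X] [Module R X]
    (P : Submodule R X) : relLen P ⊤ = Module.length R (X ⧸ P) := by
  unfold relLen
  have hle : P.submoduleOf ⊤ ≤ P.comap (⊤ : Submodule R X).subtype := le_rfl
  have hbij : Function.Bijective
      (Submodule.mapQ (P.submoduleOf ⊤) P (⊤ : Submodule R X).subtype hle) := by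
    constructor
    · rw [injective_iff_map_eq_zero]
      intro z hz
      obtain ⟨w, rfl⟩ := Submodule.Quotient.mk_surjective _ z
      rw [Submodule.mapQ_apply, Submodule.Quotient.mk_eq_zero] at hz
      rw [Submodule.Quotient.mk_eq_zero]
      exact hz
    · intro z
      obtain ⟨y, rfl⟩ := Submodule.Quotient.mk_surjective _ z
      exact ⟨Submodule.Quotient.mk ⟨y, Submodule.mem_top⟩, rfl⟩
  exact (LinearEquiv.ofBijective _ hbij).length_eq

theorem finLen_of_dim {R : Type u} [CommRing R] [IsNoetherianRing R] {N : Type v}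
    [AddCommGroup N] [Module R N] [Module.Finite R N]
    (J : Ideal R) (hJ : ∀ r ∈ J, ∀ n : N, r • n = 0) (hdim : ringKrullDim (R ⧸ J) ≤ 0) :
    Module.length R N < ⊤ := by
  have hT : Module.IsTorsionBySet R N (J : Set R) := fun n r => hJ r.1 r.2 n
  letI : Module (R ⧸ J) N := hT.module
  haveI : IsScalarTower R (R ⧸ J) N := hT.isScalarTower
  haveI : Ring.KrullDimLE 0 (R ⧸ J) := by
    rw [Ring.krullDimLE_iff, Nat.cast_zero]; exact hdim
  haveI : IsArtinianRing (R ⧸ J) := IsNoetherianRing.isArtinianRing_of_krullDimLE_zero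
  haveI : Module.Finite (R ⧸ J) N := Module.Finite.of_restrictScalars_finite R (R ⧸ J) N
  haveI : IsArtinian (R ⧸ J) N := inferInstance
  haveI : IsArtinian R N :=
    isArtinian_of_surjective_algebraMap (S := R) (R := R ⧸ J) Ideal.Quotient.mk_surjective
  have hfl : IsFiniteLength R N :=
    isFiniteLength_iff_isNoetherian_isArtinian.2 ⟨inferInstance, inferInstance⟩
  exact lt_top_iff_ne_top.2 (Module.length_ne_top_iff.2 hfl)

theorem dimJ {R : Type u} [CommRing R] [IsNoetherianRing R] {M : Type v} [AddCommGroup M]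
    [Module R M] [Module.Finite R M] (x : R)
    (hx : Module.supportDim R (M ⧸ x • (⊤ : Submodule R M)) ≤ 0) :
    ringKrullDim (R ⧸ (Module.annihilator R M ⊔ Ideal.span {x})) ≤ 0 := by
  rw [ringKrullDim_quotient, PrimeSpectrum.zeroLocus_sup, ← Module.support_eq_zeroLocus,
    PrimeSpectrum.zeroLocus_span, ← Module.support_quotSMulTop]
  exact hx

theorem fin_quot {R : Type u} [CommRing R] [IsNoetherianRing R] {M : Type v} [AddCommGroup M]
    [Module R M] [Module.Finite R M] (x : R)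
    (hx : Module.supportDim R (M ⧸ x • (⊤ : Submodule R M)) ≤ 0) :
    Module.length R (M ⧸ x • (⊤ : Submodule R M)) < ⊤ ∧
      Module.length R ↥(LinearMap.ker (x • LinearMap.id : M →ₗ[R] M)) < ⊤ := by
  have hd := dimJ (M := M) x hx
  have kill : ∀ {N : Type v} [AddCommGroup N] [Module R N],
      (∀ a ∈ Module.annihilator R M, ∀ n : N, a • n = 0) → (∀ n : N, x • n = 0) →
      ∀ r ∈ Module.annihilator R M ⊔ Ideal.span {x}, ∀ n : N, r • n = 0 := by
    intro N _ _ hA hxN r hr n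
    obtain ⟨a, ha, b, hb, rfl⟩ := Submodule.mem_sup.1 hr
    obtain ⟨c, rfl⟩ := Ideal.mem_span_singleton'.1 hb
    rw [add_smul, hA a ha, mul_smul, hxN, smul_zero, add_zero]
  constructor
  · refine finLen_of_dim _ (kill ?_ ?_) hd
    · intro a ha n
      obtain ⟨m, rfl⟩ := Submodule.Quotient.mk_surjective _ n
      rw [← Submodule.Quotient.mk_smul, Module.mem_annihilator.1 ha m, Submodule.Quotient.mk_zero]
    · intro n
      obtain ⟨m, rfl⟩ := Submodule.Quotient.mk_surjective _ n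
      rw [← Submodule.Quotient.mk_smul, Submodule.Quotient.mk_eq_zero]
      exact Submodule.smul_mem_pointwise_smul m x ⊤ Submodule.mem_top
  · refine finLen_of_dim _ (kill ?_ ?_) hd
    · intro a ha n
      exact Subtype.ext (Module.mem_annihilator.1 ha n.1)
    · intro n
      exact Subtype.ext (LinearMap.mem_ker.1 n.2)

section mulx

variable {R : Type u} [CommRing R] {M : Type v} [AddCommGroup M] [Module R M]

theorem transT (α : M →ₗ[R] M) (x : R) :
    Module.length R (perH (x • LinearMap.id : ↥(LinearMap.range α) →ₗ[R] ↥(LinearMap.range α)) 0) =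
      relLen (⊥ : Submodule R M)
        (LinearMap.range α ⊓ LinearMap.ker (x • LinearMap.id : M →ₗ[R] M)) := by
  show relLen (LinearMap.range (0 : ↥(LinearMap.range α) →ₗ[R] ↥(LinearMap.range α)))
      (LinearMap.ker (x • LinearMap.id : ↥(LinearMap.range α) →ₗ[R] ↥(LinearMap.range α))) = _
  refine relLen_eq_of_map (LinearMap.range α).subtype ?_ ?_ ?_ ?_
  · intro y hy
    refine Submodule.mem_inf.2 ⟨y.2, ?_⟩
    rw [LinearMap.mem_ker] at hy ⊢
    have h2 := congrArg Subtype.val hy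
    exact h2
  · intro y _ hy
    obtain ⟨z, hz⟩ := hy
    have : y = 0 := hz.symm
    rw [this, map_zero]; exact Submodule.zero_mem _
  · intro y _ hy
    have h0 : (y : M) = 0 := (Submodule.mem_bot R).1 hy
    have : y = 0 := Subtype.ext h0
    rw [this]; exact Submodule.zero_mem _
  · intro y hy
    obtain ⟨hy1, hy2⟩ := Submodule.mem_inf.1 hy
    refine ⟨⟨y, hy1⟩, ?_, ?_⟩
    · rw [LinearMap.mem_ker]
      apply Subtype.ext
      exact LinearMap.mem_ker.1 hy2
    · have : (LinearMap.range α).subtype ⟨y, hy1⟩ - y = 0 := sub_self y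
      rw [this]; exact Submodule.zero_mem _

theorem transQ (α : M →ₗ[R] M) (x : R) :
    Module.length R (perH (0 : ↥(LinearMap.range α) →ₗ[R] ↥(LinearMap.range α))
        (x • LinearMap.id)) =
      relLen (LinearMap.range (x • α)) (LinearMap.range α) := by
  show relLen (LinearMap.range
        (x • LinearMap.id : ↥(LinearMap.range α) →ₗ[R] ↥(LinearMap.range α)))
      (LinearMap.ker (0 : ↥(LinearMap.range α) →ₗ[R] ↥(LinearMap.range α))) = _
  refine relLen_eq_of_map (LinearMap.range α).subtype ?_ ?_ ?_ ?_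
  · intro y _; exact y.2
  · intro y _ hy
    obtain ⟨z, hz⟩ := hy
    obtain ⟨w, hw⟩ := z.2
    refine ⟨w, ?_⟩
    rw [← hz]
    show x • α w = x • (z : M)
    rw [hw]
  · intro y _ hy
    obtain ⟨w, hw⟩ := hy
    refine ⟨⟨α w, LinearMap.mem_range_self α w⟩, ?_⟩
    apply Subtype.ext
    exact hw
  · intro y hy
    refine ⟨⟨y, hy⟩, LinearMap.mem_ker.2 rfl, ?_⟩
    have : (LinearMap.range α).subtype ⟨y, hy⟩ - y = 0 := sub_self y
    rw [this]; exact Submodule.zero_mem _

theorem mulx_i (α β : M →ₗ[R] M) (hαβ : ∀ y, α (β y) = 0) (x : R) :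
    relLen (LinearMap.range β) (LinearMap.ker (x • α)) =
      relLen (LinearMap.range β) (LinearMap.ker α) +
      Module.length R
        (perH (x • LinearMap.id : ↥(LinearMap.range α) →ₗ[R] ↥(LinearMap.range α)) 0) := by
  have h1 : LinearMap.range β ≤ LinearMap.ker α := by
    rintro _ ⟨y, rfl⟩; exact LinearMap.mem_ker.2 (hαβ y)
  have h2 : LinearMap.ker α ≤ LinearMap.ker (x • α) := by
    intro m hm
    rw [LinearMap.mem_ker] at hm ⊢
    rw [LinearMap.smul_apply, hm, smul_zero]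
  have s1 := relLen_add h1 h2
  have s2 : relLen (LinearMap.ker α) (LinearMap.ker (x • α)) =
      relLen (⊥ : Submodule R M)
        (LinearMap.range α ⊓ LinearMap.ker (x • LinearMap.id : M →ₗ[R] M)) := by
    refine relLen_eq_of_map α ?_ ?_ ?_ ?_
    · intro m hm
      refine Submodule.mem_inf.2 ⟨LinearMap.mem_range_self α m, ?_⟩
      rw [LinearMap.mem_ker] at hm ⊢
      exact hm
    · intro m _ hm
      rw [LinearMap.mem_ker.1 hm]; exact Submodule.zero_mem _
    · intro m _ hm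
      exact LinearMap.mem_ker.2 ((Submodule.mem_bot R).1 hm)
    · intro y hy
      obtain ⟨⟨m, rfl⟩, hy2⟩ := Submodule.mem_inf.1 hy
      refine ⟨m, ?_, by rw [sub_self]; exact Submodule.zero_mem _⟩
      rw [LinearMap.mem_ker] at hy2 ⊢
      exact hy2
  rw [s1, s2, ← transT]

theorem mulx_ii (α β : M →ₗ[R] M) (hβα : ∀ y, β (α y) = 0) (x : R) :
    relLen (LinearMap.range (x • α)) (LinearMap.ker β) =
      Module.length R (perH (0 : ↥(LinearMap.range α) →ₗ[R] ↥(LinearMap.range α))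
        (x • LinearMap.id)) +
      relLen (LinearMap.range α) (LinearMap.ker β) := by
  have h1 : LinearMap.range (x • α) ≤ LinearMap.range α := by
    rintro _ ⟨m, rfl⟩
    exact ⟨x • m, by rw [map_smul]; rfl⟩
  have h2 : LinearMap.range α ≤ LinearMap.ker β := by
    rintro _ ⟨y, rfl⟩; exact LinearMap.mem_ker.2 (hβα y)
  rw [relLen_add h1 h2, ← transQ]

theorem mulx_iii (α : M →ₗ[R] M) (x : R) :
    Module.length R
        (perH (x • LinearMap.id : ↥(LinearMap.range α) →ₗ[R] ↥(LinearMap.range α)) 0) ≤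
      Module.length R ↥(LinearMap.ker (x • LinearMap.id : M →ₗ[R] M)) := by
  rw [transT, ← relLen_bot]
  have := relLen_add (bot_le : (⊥ : Submodule R M) ≤
    LinearMap.range α ⊓ LinearMap.ker (x • LinearMap.id : M →ₗ[R] M)) inf_le_right
  rw [this]; exact le_self_add

theorem mulx_iv (α : M →ₗ[R] M) (x : R) :
    Module.length R (perH (0 : ↥(LinearMap.range α) →ₗ[R] ↥(LinearMap.range α))
        (x • LinearMap.id)) ≤
      Module.length R (M ⧸ x • (⊤ : Submodule R M)) := by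
  rw [transQ, ← relLen_top]
  have e : relLen (x • (⊤ : Submodule R M) ⊔ LinearMap.ker α) ⊤ =
      relLen (LinearMap.range (x • α)) (LinearMap.range α) := by
    refine relLen_eq_of_map α ?_ ?_ ?_ ?_
    · intro m _; exact LinearMap.mem_range_self α m
    · intro m _ hm
      obtain ⟨s, hs, k, hk, rfl⟩ := Submodule.mem_sup.1 hm
      obtain ⟨m', -, rfl⟩ := (Submodule.mem_smul_pointwise_iff_exists _ _ _).1 hs
      rw [map_add, LinearMap.mem_ker.1 hk, add_zero, map_smul]
      exact ⟨m', rfl⟩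
    · intro m _ hm
      obtain ⟨w, hw⟩ := hm
      refine Submodule.mem_sup.2 ⟨x • w,
        Submodule.smul_mem_pointwise_smul w x ⊤ Submodule.mem_top, m - x • w, ?_, by abel⟩
      rw [LinearMap.mem_ker, map_sub, map_smul, ← hw]
      exact sub_self _
    · rintro _ ⟨m, rfl⟩
      exact ⟨m, Submodule.mem_top, by rw [sub_self]; exact Submodule.zero_mem _⟩
  rw [← e]
  have := relLen_add (le_sup_left : x • (⊤ : Submodule R M) ≤
    x • (⊤ : Submodule R M) ⊔ LinearMap.ker α) le_top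
  rw [this]; exact le_add_self

end mulx

theorem main1832 {R : Type u} [CommRing R] [IsNoetherianRing R] [IsLocalRing R] {M : Type v}
    [AddCommGroup M] [Module R M] [Module.Finite R M] (φ ψ : M →ₗ[R] M)
    (hper : CycAlg.IsPeriodic φ ψ) (hfin : CycAlg.FinCoh R φ ψ) (x : R)
    (hx : Module.supportDim R (M ⧸ x • (⊤ : Submodule R M)) ≤ 0) :
    (CycAlg.FinCoh R (x • φ) ψ ∧ CycAlg.herbrand R (x • φ) ψ = CycAlg.herbrand R φ ψ -
      CycAlg.herbrand R (0 : ↥(LinearMap.range φ) →ₗ[R] ↥(LinearMap.range φ))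
        (x • LinearMap.id)) ∧
    (CycAlg.FinCoh R φ (x • ψ) ∧ CycAlg.herbrand R φ (x • ψ) = CycAlg.herbrand R φ ψ +
      CycAlg.herbrand R (0 : ↥(LinearMap.range ψ) →ₗ[R] ↥(LinearMap.range ψ))
        (x • LinearMap.id)) := by
  have e1 : ∀ y, φ (ψ y) = 0 := fun y => LinearMap.congr_fun hper.1 y
  have e2 : ∀ y, ψ (φ y) = 0 := fun y => LinearMap.congr_fun hper.2 y
  obtain ⟨fq, fk⟩ := fin_quot (M := M) x hx
  obtain ⟨f0, f1⟩ := hfin
  have fTφ := lt_of_le_of_lt (mulx_iii φ x) fk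
  have fQφ := lt_of_le_of_lt (mulx_iv φ x) fq
  have fTψ := lt_of_le_of_lt (mulx_iii ψ x) fk
  have fQψ := lt_of_le_of_lt (mulx_iv ψ x) fq
  have A1 : Module.length R (perH (x • φ) ψ) = Module.length R (perH φ ψ) +
      Module.length R
        (perH (x • LinearMap.id : ↥(LinearMap.range φ) →ₗ[R] ↥(LinearMap.range φ)) 0) :=
    mulx_i φ ψ e1 x
  have B1 : Module.length R (perH ψ (x • φ)) =
      Module.length R (perH (0 : ↥(LinearMap.range φ) →ₗ[R] ↥(LinearMap.range φ))
        (x • LinearMap.id)) + Module.length R (perH ψ φ) :=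
    mulx_ii φ ψ e2 x
  have A2 : Module.length R (perH φ (x • ψ)) =
      Module.length R (perH (0 : ↥(LinearMap.range ψ) →ₗ[R] ↥(LinearMap.range ψ))
        (x • LinearMap.id)) + Module.length R (perH φ ψ) :=
    mulx_ii ψ φ e1 x
  have B2 : Module.length R (perH (x • ψ) φ) = Module.length R (perH ψ φ) +
      Module.length R
        (perH (x • LinearMap.id : ↥(LinearMap.range ψ) →ₗ[R] ↥(LinearMap.range ψ)) 0) :=
    mulx_i ψ φ e2 x
  exact ⟨enat_m1 f0 f1 fTφ fQφ A1 B1, enat_m2 f0 f1 fTψ fQψ A2 B2⟩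

end Groth.Agent.Lib.Helper29.Herbrand2
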