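import Mathlib
import Groth.Prelude.Def_ModSite
import Groth.Agent.Lib.Helper25.LocGenRel
import Groth.Agent.Lib.Helper3.ShColim

/-!
# Local morphisms of modules on a ringed space, in terms of sections

* `sec_ext`, `sec_glue`, `sec_ext_pt`: the sheaf property of a sheaf of modules on a space;
* `LHom G H U`: morphisms `G|_U ⟶ H|_U` as compatible families of linear maps on sections;
* `LHom.ext_of_span`: local morphisms agreeing on a locally spanning family are equal;
* `ofFPData`: the local morphism out of a module with finite presentation data sending the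
  generators to given sections satisfying the relations;
* `exists_glue`, `hom_ext_of_cover`: gluing of local morphisms.
-/

set_option autoImplicit false
set_option maxHeartbeats 1600000
universe u

open CategoryTheory CategoryTheory.Limits Opposite SheafOfModules TopologicalSpace
open Groth.Agent.Lib.Helper25.LocGenSite Groth.Agent.Lib.Helper25.LocGenFP
  Groth.Agent.Lib.Helper25.LocGenRel

noncomputable section

namespace Groth.Agent.Lib.Helper29.HomFPA

variable {X : TopCat.{u}} {R : Sheaf (Opens.grothendieckTopology X) RingCat.{u}}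

/-- the underlying sheaf of sets of a module. -/
abbrev Φ : SheafOfModules.{u} R ⥤ TopCat.Sheaf (Type u) X :=
  SheafOfModules.toSheaf.{u} R ⋙
    sheafCompose (Opens.grothendieckTopology X) (forget AddCommGrpCat.{u})

lemma sec_ext (M : SheafOfModules.{u} R) {ι : Type*} (W : ι → Opens X) (V : Opens X)
    (hW : ∀ a, W a ≤ V) (hcov : V ≤ ⨆ a, W a) (s t : M.val.obj (op V))
    (h : ∀ a, res M (hW a) s = res M (hW a) t) : s = t :=
  Groth.Agent.Lib.Helper3.ShColim.sec_ext (Φ.obj M) W V hW hcov s t h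

lemma sec_glue (M : SheafOfModules.{u} R) {ι : Type*} (W : ι → Opens X) (V : Opens X)
    (hW : ∀ a, W a ≤ V) (hcov : V ≤ ⨆ a, W a) (sf : ∀ a, M.val.obj (op (W a)))
    (hcompat : ∀ a b, res M (inf_le_left : W a ⊓ W b ≤ W a) (sf a) =
      res M (inf_le_right : W a ⊓ W b ≤ W b) (sf b)) :
    ∃ s : M.val.obj (op V), ∀ a, res M (hW a) s = sf a :=
  Groth.Agent.Lib.Helper3.ShColim.sec_glue (Φ.obj M) W V hW hcov sf hcompat

lemma sec_ext_pt (M : SheafOfModules.{u} R) (V : Opens X) (s t : M.val.obj (op V))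
    (h : ∀ y ∈ V, ∃ (V' : Opens X) (hV' : V' ≤ V), y ∈ V' ∧ res M hV' s = res M hV' t) :
    s = t := by
  choose V' hV' hy he using h
  refine sec_ext M (fun a : ↥V => V' a.1 a.2) V (fun a => hV' a.1 a.2) ?_ s t
    (fun a => he a.1 a.2)
  intro y hy'
  exact Opens.mem_iSup.2 ⟨⟨y, hy'⟩, hy y hy'⟩

lemma res_sum_smul {ι : Type*} [Fintype ι] (M : SheafOfModules.{u} R) {W W' W'' : Opens X}
    (h : W' ≤ W) (h' : W'' ≤ W') (r : ι → R.obj.obj (op W')) (x : ι → M.val.obj (op W)) :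
    res M h' (∑ i, r i • res M h (x i)) = ∑ i, resR h' (r i) • res M (h'.trans h) (x i) := by
  rw [map_sum]
  refine Finset.sum_congr rfl (fun i _ => ?_)
  rw [res_smul, res_res]

/-- a morphism `G|_U ⟶ H|_U`, in terms of sections. -/
structure LHom (G H : SheafOfModules.{u} R) (U : Opens X) where
  /-- the maps on sections -/
  f : ∀ (V : Opens X), V ≤ U → (G.val.obj (op V) →ₗ[R.obj.obj (op V)] H.val.obj (op V))
  /-- compatibility with restriction -/
  nat : ∀ (V : Opens X) (hV : V ≤ U) (V' : Opens X) (hV' : V' ≤ V) (m : G.val.obj (op V)),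
    f V' (hV'.trans hV) (res G hV' m) = res H hV' (f V hV m)

namespace LHom

/-- the local morphism of a morphism. -/
def ofHom {G H : SheafOfModules.{u} R} (ψ : G ⟶ H) (U : Opens X) : LHom G H U where
  f V _ := app ψ V
  nat _ _ _ hV' m := app_res ψ hV' m

/-- composition with a global morphism. -/
def postcomp {G H H' : SheafOfModules.{u} R} {U : Opens X} (ψ : LHom G H U) (g : H ⟶ H') :
    LHom G H' U where
  f V hV := (app g V).comp (ψ.f V hV)
  nat V hV V' hV' m := by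
    change app g V' (ψ.f V' (hV'.trans hV) (res G hV' m)) = res H' hV' (app g V (ψ.f V hV m))
    rw [ψ.nat V hV V' hV' m, app_res]

/-- restriction to a smaller open. -/
def restrict {G H : SheafOfModules.{u} R} {U U' : Opens X} (ψ : LHom G H U) (h : U' ≤ U) :
    LHom G H U' where
  f V hV := ψ.f V (hV.trans h)
  nat V hV V' hV' m := ψ.nat V (hV.trans h) V' hV' m

theorem ext_of_span {G H : SheafOfModules.{u} R} {U : Opens X} {ι : Type u} [Fintype ι]
    (s : ι → G.val.obj (op U)) (hs : LocSpanT G U s) (ψ ψ' : LHom G H U)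
    (h : ∀ i, ψ.f U le_rfl (s i) = ψ'.f U le_rfl (s i)) (V : Opens X) (hV : V ≤ U)
    (m : G.val.obj (op V)) : ψ.f V hV m = ψ'.f V hV m := by
  apply sec_ext_pt H V
  intro y hy
  obtain ⟨W', hW', hyW', r, hr⟩ := hs V hV m y hy
  refine ⟨W', hW', hyW', ?_⟩
  rw [← ψ.nat V hV W' hW' m, ← ψ'.nat V hV W' hW' m, hr, map_sum, map_sum]
  refine Finset.sum_congr rfl (fun i _ => ?_)
  rw [map_smul, map_smul]
  congr 1
  have e1 := ψ.nat U le_rfl W' (hW'.trans hV) (s i)
  have e2 := ψ'.nat U le_rfl W' (hW'.trans hV) (s i)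
  exact e1.trans ((congrArg _ (h i)).trans e2.symm)

end LHom

section FP

variable {G H : SheafOfModules.{u} R} {U : Opens X} {ι κ : Type u} [Fintype ι] [Fintype κ]
  (s : ι → G.val.obj (op U)) (ρ : κ → ι → R.obj.obj (op U)) (t : ι → H.val.obj (op U))

theorem kill (hloc : LocRelT G U s ρ) (ht : ∀ k, ∑ i, ρ k i • t i = 0) {W : Opens X}
    (hW : W ≤ U) (a : ι → R.obj.obj (op W)) (ha : ∑ i, a i • res G hW (s i) = 0) :
    ∑ i, a i • res H hW (t i) = 0 := by
  apply sec_ext_pt H W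
  intro y hy
  obtain ⟨W', hW', hyW', b, hb⟩ := hloc W hW a ha y hy
  refine ⟨W', hW', hyW', ?_⟩
  rw [res_sum_smul, map_zero]
  have h0 : ∀ k, ∑ i, resR (hW'.trans hW) (ρ k i) • res H (hW'.trans hW) (t i) = 0 :=
    fun k => rel_mono (ht k) _
  calc ∑ i, resR hW' (a i) • res H (hW'.trans hW) (t i)
      = ∑ i, ∑ k, b k • (resR (hW'.trans hW) (ρ k i) • res H (hW'.trans hW) (t i)) := by
        refine Finset.sum_congr rfl (fun i _ => ?_)
        rw [hb i, Finset.sum_smul]
        refine Finset.sum_congr rfl (fun k _ => ?_)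
        rw [mul_smul]
    _ = ∑ k, b k • ∑ i, resR (hW'.trans hW) (ρ k i) • res H (hW'.trans hW) (t i) := by
        rw [Finset.sum_comm]
        refine Finset.sum_congr rfl (fun k _ => ?_)
        rw [Finset.smul_sum]
    _ = 0 := by simp only [h0, smul_zero, Finset.sum_const_zero]

theorem indep (hloc : LocRelT G U s ρ) (ht : ∀ k, ∑ i, ρ k i • t i = 0) {W : Opens X}
    (hW : W ≤ U) (a a' : ι → R.obj.obj (op W))
    (h : ∑ i, a i • res G hW (s i) = ∑ i, a' i • res G hW (s i)) :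
    ∑ i, a i • res H hW (t i) = ∑ i, a' i • res H hW (t i) := by
  have h1 : ∑ i, (a i - a' i) • res G hW (s i) = 0 := by
    simp only [sub_smul, Finset.sum_sub_distrib]
    rw [h, sub_self]
  have h2 := kill s ρ t hloc ht hW (fun i => a i - a' i) h1
  simp only [sub_smul, Finset.sum_sub_distrib] at h2
  exact sub_eq_zero.1 h2

/-- `h` is the value at `m` of the morphism sending `s i` to `t i`. -/
def IsVal (V : Opens X) (hV : V ≤ U) (m : G.val.obj (op V)) (h : H.val.obj (op V)) : Prop :=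
  ∀ y ∈ V, ∃ (V' : Opens X) (hV' : V' ≤ V), y ∈ V' ∧ ∃ r : ι → R.obj.obj (op V'),
    res G hV' m = ∑ i, r i • res G (hV'.trans hV) (s i) ∧
    res H hV' h = ∑ i, r i • res H (hV'.trans hV) (t i)

variable {s t}

theorem IsVal.local {V : Opens X} {hV : V ≤ U} {m : G.val.obj (op V)} {h : H.val.obj (op V)}
    (hv : IsVal s t V hV m h) {y : X} (hy : y ∈ V) {V₁ : Opens X} (hV₁ : V₁ ≤ V)
    (hy₁ : y ∈ V₁) :
    ∃ (V' : Opens X) (hV' : V' ≤ V₁), y ∈ V' ∧ ∃ r : ι → R.obj.obj (op V'),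
      res G (hV'.trans hV₁) m = ∑ i, r i • res G ((hV'.trans hV₁).trans hV) (s i) ∧
      res H (hV'.trans hV₁) h = ∑ i, r i • res H ((hV'.trans hV₁).trans hV) (t i) := by
  obtain ⟨V', hV', hyV', r, e1, e2⟩ := hv y hy
  refine ⟨V' ⊓ V₁, inf_le_right, ⟨hyV', hy₁⟩,
    fun i => resR (inf_le_left : V' ⊓ V₁ ≤ V') (r i), ?_, ?_⟩
  · rw [← res_res G hV' (inf_le_left : V' ⊓ V₁ ≤ V') m, e1, res_sum_smul]
  · rw [← res_res H hV' (inf_le_left : V' ⊓ V₁ ≤ V') h, e2, res_sum_smul]

theorem IsVal.uniq (hloc : LocRelT G U s ρ) (ht : ∀ k, ∑ i, ρ k i • t i = 0) {V : Opens X}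
    {hV : V ≤ U} {m : G.val.obj (op V)} {h h' : H.val.obj (op V)}
    (hv : IsVal s t V hV m h) (hv' : IsVal s t V hV m h') : h = h' := by
  apply sec_ext_pt H V
  intro y hy
  obtain ⟨V₁, hV₁, hy₁, r₁, e1, f1⟩ := hv y hy
  obtain ⟨V₂, hV₂, hy₂, r₂, e2, f2⟩ := hv'.local hy hV₁ hy₁
  refine ⟨V₂, hV₂.trans hV₁, hy₂, ?_⟩
  rw [f2, ← res_res H hV₁ hV₂ h, f1, res_sum_smul]
  refine indep s ρ t hloc ht ((hV₂.trans hV₁).trans hV) _ _ ?_
  rw [← e2, ← res_res G hV₁ hV₂ m, e1, res_sum_smul]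

theorem IsVal.add {V : Opens X} {hV : V ≤ U} {m m' : G.val.obj (op V)}
    {h h' : H.val.obj (op V)} (hv : IsVal s t V hV m h) (hv' : IsVal s t V hV m' h') :
    IsVal s t V hV (m + m') (h + h') := by
  intro y hy
  obtain ⟨V₁, hV₁, hy₁, r₁, e1, f1⟩ := hv y hy
  obtain ⟨V₂, hV₂, hy₂, r₂, e2, f2⟩ := hv'.local hy hV₁ hy₁
  refine ⟨V₂, hV₂.trans hV₁, hy₂, fun i => resR hV₂ (r₁ i) + r₂ i, ?_, ?_⟩
  · rw [map_add, e2, ← res_res G hV₁ hV₂ m, e1, res_sum_smul]
    simp only [add_smul, Finset.sum_add_distrib]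
  · rw [map_add, f2, ← res_res H hV₁ hV₂ h, f1, res_sum_smul]
    simp only [add_smul, Finset.sum_add_distrib]

theorem IsVal.smul {V : Opens X} {hV : V ≤ U} {m : G.val.obj (op V)}
    {h : H.val.obj (op V)} (hv : IsVal s t V hV m h) (a : R.obj.obj (op V)) :
    IsVal s t V hV (a • m) (a • h) := by
  intro y hy
  obtain ⟨V₁, hV₁, hy₁, r₁, e1, f1⟩ := hv y hy
  refine ⟨V₁, hV₁, hy₁, fun i => resR hV₁ a * r₁ i, ?_, ?_⟩
  · rw [res_smul, e1, Finset.smul_sum]
    simp only [mul_smul]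
  · rw [res_smul, f1, Finset.smul_sum]
    simp only [mul_smul]

theorem IsVal.restr {V : Opens X} {hV : V ≤ U} {m : G.val.obj (op V)}
    {h : H.val.obj (op V)} (hv : IsVal s t V hV m h) {V₁ : Opens X} (hV₁ : V₁ ≤ V) :
    IsVal s t V₁ (hV₁.trans hV) (res G hV₁ m) (res H hV₁ h) := by
  intro y hy
  obtain ⟨V', hV', hyV', r, e1, e2⟩ := hv.local (hV₁ hy) hV₁ hy
  refine ⟨V', hV', hyV', r, ?_, ?_⟩
  · rw [res_res]
    exact e1
  · rw [res_res]
    exact e2

theorem isVal_gen (i₀ : ι) : IsVal s t U le_rfl (s i₀) (t i₀) := by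
  classical
  intro y hy
  refine ⟨U, le_rfl, hy, fun i => if i = i₀ then 1 else 0, ?_, ?_⟩
  · rw [Finset.sum_eq_single i₀]
    · dsimp only
      rw [if_pos rfl, one_smul]
    · intro b _ hb
      dsimp only
      rw [if_neg hb, zero_smul]
    · intro h
      exact absurd (Finset.mem_univ _) h
  · rw [Finset.sum_eq_single i₀]
    · dsimp only
      rw [if_pos rfl, one_smul]
    · intro b _ hb
      dsimp only
      rw [if_neg hb, zero_smul]
    · intro h
      exact absurd (Finset.mem_univ _) h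

theorem exists_isVal (hs : LocSpanT G U s) (hloc : LocRelT G U s ρ)
    (ht : ∀ k, ∑ i, ρ k i • t i = 0) (V : Opens X) (hV : V ≤ U) (m : G.val.obj (op V)) :
    ∃ h : H.val.obj (op V), IsVal s t V hV m h := by
  have h1 := fun a : ↥V => hs V hV m a.1 a.2
  choose V' hV' hyV' r hr using h1
  obtain ⟨h, hh⟩ := sec_glue H V' V hV' (fun y hy => Opens.mem_iSup.2 ⟨⟨y, hy⟩, hyV' ⟨y, hy⟩⟩)
    (fun a => ∑ i, r a i • res H ((hV' a).trans hV) (t i)) (by
      intro a b
      rw [res_sum_smul, res_sum_smul]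
      refine indep s ρ t hloc ht _ _ _ ?_
      rw [← res_sum_smul G ((hV' a).trans hV) (inf_le_left : V' a ⊓ V' b ≤ V' a),
        ← res_sum_smul G ((hV' b).trans hV) (inf_le_right : V' a ⊓ V' b ≤ V' b),
        ← hr a, ← hr b, res_res, res_res])
  refine ⟨h, fun y hy => ⟨V' ⟨y, hy⟩, hV' ⟨y, hy⟩, hyV' ⟨y, hy⟩, r ⟨y, hy⟩, hr ⟨y, hy⟩, hh ⟨y, hy⟩⟩⟩

variable (s t)

/-- the local morphism attached to finite presentation data and sections satisfying the
relations. -/
def ofFPData (hs : LocSpanT G U s) (hloc : LocRelT G U s ρ)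
    (ht : ∀ k, ∑ i, ρ k i • t i = 0) : LHom G H U where
  f V hV :=
    { toFun := fun m => (exists_isVal (ρ := ρ) hs hloc ht V hV m).choose
      map_add' := fun m m' =>
        IsVal.uniq (ρ := ρ) hloc ht (exists_isVal (ρ := ρ) hs hloc ht V hV (m + m')).choose_spec
          ((exists_isVal (ρ := ρ) hs hloc ht V hV m).choose_spec.add
            (exists_isVal (ρ := ρ) hs hloc ht V hV m').choose_spec)
      map_smul' := fun a m =>
        IsVal.uniq (ρ := ρ) hloc ht (exists_isVal (ρ := ρ) hs hloc ht V hV (a • m)).choose_spec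
          ((exists_isVal (ρ := ρ) hs hloc ht V hV m).choose_spec.smul a) }
  nat V hV V' hV' m :=
    IsVal.uniq (ρ := ρ) hloc ht
      (exists_isVal (ρ := ρ) hs hloc ht V' (hV'.trans hV) (res G hV' m)).choose_spec
      ((exists_isVal (ρ := ρ) hs hloc ht V hV m).choose_spec.restr hV')

theorem ofFPData_gen (hs : LocSpanT G U s) (hloc : LocRelT G U s ρ)
    (ht : ∀ k, ∑ i, ρ k i • t i = 0) (i₀ : ι) :
    (ofFPData s ρ t hs hloc ht).f U le_rfl (s i₀) = t i₀ :=
  IsVal.uniq (ρ := ρ) hloc ht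
    (exists_isVal (ρ := ρ) hs hloc ht U le_rfl (s i₀)).choose_spec (isVal_gen i₀)

end FP

section Glue

variable {G H : SheafOfModules.{u} R} {J : Type*} (W : J → Opens X)

theorem hom_ext_of_cover (hcov : (⊤ : Opens X) ≤ ⨆ j, W j) (ψ ψ' : G ⟶ H)
    (h : ∀ j (V : Opens X) (_ : V ≤ W j) (m : G.val.obj (op V)), app ψ V m = app ψ' V m) :
    ψ = ψ' := by
  apply SheafOfModules.hom_ext
  apply PresheafOfModules.hom_ext
  intro V
  apply ModuleCat.hom_ext
  apply LinearMap.ext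
  intro m
  change app ψ V.unop m = app ψ' V.unop m
  refine sec_ext H (fun j => V.unop ⊓ W j) V.unop (fun j => inf_le_left) ?_ _ _ (fun j => ?_)
  · intro y hy
    obtain ⟨j, hj⟩ := Opens.mem_iSup.1 (hcov (show y ∈ (⊤ : Opens X) from trivial))
    exact Opens.mem_iSup.2 ⟨j, ⟨hy, hj⟩⟩
  · rw [← app_res, ← app_res]
    exact h j _ inf_le_right _

variable (ψ : ∀ j, LHom G H (W j))

/-- the glued value. -/
def IsGl (V : Opens X) (m : G.val.obj (op V)) (h : H.val.obj (op V)) : Prop :=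
  ∀ j, res H (inf_le_left : V ⊓ W j ≤ V) h =
    (ψ j).f (V ⊓ W j) inf_le_right (res G (inf_le_left : V ⊓ W j ≤ V) m)

variable {W ψ}

theorem IsGl.uniq (hcov : (⊤ : Opens X) ≤ ⨆ j, W j) {V : Opens X} {m : G.val.obj (op V)}
    {h h' : H.val.obj (op V)} (hv : IsGl W ψ V m h) (hv' : IsGl W ψ V m h') : h = h' := by
  refine sec_ext H (fun j => V ⊓ W j) V (fun j => inf_le_left) ?_ _ _
    (fun j => (hv j).trans (hv' j).symm)
  intro y hy
  obtain ⟨j, hj⟩ := Opens.mem_iSup.1 (hcov (show y ∈ (⊤ : Opens X) from trivial))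
  exact Opens.mem_iSup.2 ⟨j, ⟨hy, hj⟩⟩

theorem exists_isGl (hcov : (⊤ : Opens X) ≤ ⨆ j, W j)
    (hψ : ∀ j j' (V : Opens X) (hV : V ≤ W j) (hV' : V ≤ W j') (m : G.val.obj (op V)),
      (ψ j).f V hV m = (ψ j').f V hV' m) (V : Opens X) (m : G.val.obj (op V)) :
    ∃ h : H.val.obj (op V), IsGl W ψ V m h := by
  refine sec_glue H (fun j => V ⊓ W j) V (fun j => inf_le_left) ?_
    (fun j => (ψ j).f (V ⊓ W j) inf_le_right (res G (inf_le_left : V ⊓ W j ≤ V) m)) ?_
  · intro y hy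
    obtain ⟨j, hj⟩ := Opens.mem_iSup.1 (hcov (show y ∈ (⊤ : Opens X) from trivial))
    exact Opens.mem_iSup.2 ⟨j, ⟨hy, hj⟩⟩
  · intro a b
    rw [← (ψ a).nat, ← (ψ b).nat, res_res, res_res]
    exact hψ a b _ _ _ _

theorem IsGl.add {V : Opens X} {m m' : G.val.obj (op V)} {h h' : H.val.obj (op V)}
    (hv : IsGl W ψ V m h) (hv' : IsGl W ψ V m' h') : IsGl W ψ V (m + m') (h + h') := by
  intro j
  rw [map_add, map_add, map_add, hv j, hv' j]

theorem IsGl.smul {V : Opens X} {m : G.val.obj (op V)} {h : H.val.obj (op V)}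
    (hv : IsGl W ψ V m h) (a : R.obj.obj (op V)) : IsGl W ψ V (a • m) (a • h) := by
  intro j
  rw [res_smul, res_smul, map_smul, hv j]

theorem IsGl.restr {V : Opens X} {m : G.val.obj (op V)} {h : H.val.obj (op V)}
    (hv : IsGl W ψ V m h) {V₁ : Opens X} (hV₁ : V₁ ≤ V) :
    IsGl W ψ V₁ (res G hV₁ m) (res H hV₁ h) := by
  intro j
  have hle : V₁ ⊓ W j ≤ V ⊓ W j := inf_le_inf_right _ hV₁
  rw [res_res, res_res, ← res_res H (inf_le_left : V ⊓ W j ≤ V) hle h, hv j, ← (ψ j).nat,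
    res_res]

theorem IsGl.of_le {j : J} {V : Opens X} (hV : V ≤ W j) {m : G.val.obj (op V)}
    {h : H.val.obj (op V)} (hv : IsGl W ψ V m h) : h = (ψ j).f V hV m := by
  have hle : V ≤ V ⊓ W j := le_inf le_rfl hV
  have e := congrArg (res H hle) (hv j)
  rw [res_res, res_self, ← (ψ j).nat, res_res, res_self] at e
  exact e

theorem exists_glue (hcov : (⊤ : Opens X) ≤ ⨆ j, W j)
    (hψ : ∀ j j' (V : Opens X) (hV : V ≤ W j) (hV' : V ≤ W j') (m : G.val.obj (op V)),
      (ψ j).f V hV m = (ψ j').f V hV' m) :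
    ∃ Ψ : G ⟶ H, ∀ j (V : Opens X) (hV : V ≤ W j) (m : G.val.obj (op V)),
      app Ψ V m = (ψ j).f V hV m := by
  let g : ∀ V : Opens X, G.val.obj (op V) →ₗ[R.obj.obj (op V)] H.val.obj (op V) := fun V =>
    { toFun := fun m => (exists_isGl hcov hψ V m).choose
      map_add' := fun m m' => IsGl.uniq hcov (exists_isGl hcov hψ V (m + m')).choose_spec
        ((exists_isGl hcov hψ V m).choose_spec.add (exists_isGl hcov hψ V m').choose_spec)
      map_smul' := fun a m => IsGl.uniq hcov (exists_isGl hcov hψ V (a • m)).choose_spec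
        ((exists_isGl hcov hψ V m).choose_spec.smul a) }
  have hg : ∀ (V : Opens X) (m : G.val.obj (op V)), IsGl W ψ V m (g V m) := fun V m =>
    (exists_isGl hcov hψ V m).choose_spec
  have hnat : ∀ (V V' : Opens X) (hV' : V' ≤ V) (m : G.val.obj (op V)),
      g V' (res G hV' m) = res H hV' (g V m) := fun V V' hV' m =>
    IsGl.uniq hcov (hg V' _) ((hg V m).restr hV')
  let Ψ : G ⟶ H := ⟨
    { app := fun V => ModuleCat.ofHom (g V.unop)
      naturality := fun {V V'} f => by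
        ext m
        have e : f = (homOfLE (leOfHom f.unop)).op := Subsingleton.elim _ _
        rw [e]
        exact hnat V.unop V'.unop (leOfHom f.unop) m }⟩
  refine ⟨Ψ, fun j V hV m => ?_⟩
  exact (hg V m).of_le hV

end Glue

end Groth.Agent.Lib.Helper29.HomFPA
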