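import Mathlib
import Groth.Prelude.Def_ModSite
import Groth.Agent.Lib.Helper29.HomFPA
import Groth.Agent.Lib.Helper17.ModColimSec

/-!
# `Hom(G, -)` commutes with directed colimits for `G` of finite presentation on a ringed space
all of whose open coverings are refined by finite coverings with quasi-compact intersections
-/

set_option autoImplicit false
set_option maxHeartbeats 1600000
universe u

open CategoryTheory CategoryTheory.Limits Opposite SheafOfModules TopologicalSpace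
open Groth.Agent.Lib.Helper25.LocGenSite Groth.Agent.Lib.Helper25.LocGenFP
  Groth.Agent.Lib.Helper25.LocGenRel Groth.Agent.Lib.Helper29.HomFPA
open Groth.Agent.Lib.Helper3

noncomputable section

namespace Groth.Agent.Lib.Helper29.HomFPB

variable {X : TopCat.{u}} {R : Sheaf (Opens.grothendieckTopology X) RingCat.{u}}
  {I : Type u} [Preorder I] [Nonempty I] [IsDirected I (· ≤ ·)] (D : I ⥤ SheafOfModules.{u} R)
  (c : Cocone D) (hc : IsColimit c)

include hc in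
theorem isColimit_map : Nonempty (IsColimit ((Φ (R := R)).mapCocone c)) := by
  haveI : IsFiltered I := inferInstance
  haveI h1 : PreservesColimitsOfShape I (SheafOfModules.toSheaf.{u} R) := inferInstance
  haveI h2 : PreservesColimitsOfShape I
      (sheafCompose (Opens.grothendieckTopology X) (forget AddCommGrpCat.{u})) :=
    Groth.Agent.Lib.Helper17.ModColimSec.sheafCompose_forget_preservesColimitsOfShape _ I
  haveI : PreservesColimitsOfShape I (Φ (R := R)) :=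
    comp_preservesColimitsOfShape (SheafOfModules.toSheaf.{u} R)
      (sheafCompose (Opens.grothendieckTopology X) (forget AddCommGrpCat.{u}))
  exact ⟨isColimitOfPreserves (Φ (R := R)) hc⟩

include hc in
theorem locSurj_mod (V : Opens X) (s : c.pt.val.obj (op V)) (x : X) (hx : x ∈ V) :
    ∃ (W : Opens X) (hW : W ≤ V) (i : I) (si : (D.obj i).val.obj (op W)), x ∈ W ∧
      app (c.ι.app i) W si = res c.pt hW s := by
  obtain ⟨hc'⟩ := isColimit_map D c hc
  obtain ⟨W, hW, i, si, hxW, h⟩ :=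
    ShColim.locSurj (D ⋙ Φ (R := R)) ((Φ (R := R)).mapCocone c) hc' V s x hx
  exact ⟨W, hW, i, si, hxW, h⟩

include hc in
theorem locInj_mod (V : Opens X) (i : I) (s t : (D.obj i).val.obj (op V))
    (h : app (c.ι.app i) V s = app (c.ι.app i) V t) (x : X) (hx : x ∈ V) :
    ∃ (W : Opens X) (hW : W ≤ V) (k : I) (hik : i ≤ k), x ∈ W ∧
      app (D.map (homOfLE hik)) W (res (D.obj i) hW s) =
        app (D.map (homOfLE hik)) W (res (D.obj i) hW t) := by
  obtain ⟨hc'⟩ := isColimit_map D c hc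
  obtain ⟨W, hW, k, hik, hxW, h'⟩ :=
    ShColim.locInj (D ⋙ Φ (R := R)) ((Φ (R := R)).mapCocone c) hc' V i s t h x hx
  exact ⟨W, hW, k, hik, hxW, h'⟩

include hc in
theorem qcInj_mod (V : Opens X) (hV : IsCompact (V : Set X)) (i : I)
    (s t : (D.obj i).val.obj (op V)) (h : app (c.ι.app i) V s = app (c.ι.app i) V t) :
    ∃ (k : I) (hik : i ≤ k), app (D.map (homOfLE hik)) V s = app (D.map (homOfLE hik)) V t := by
  obtain ⟨hc'⟩ := isColimit_map D c hc
  obtain ⟨k, hik, h'⟩ := ShColim.exists_tr_eq_of_isCompact (D ⋙ Φ (R := R))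
    ((Φ (R := R)).mapCocone c) hc' V hV i s t h
  exact ⟨k, hik, h'⟩

omit [Nonempty I] [IsDirected I (· ≤ ·)] in
lemma app_ι_of_le {i j : I} (h : i ≤ j) (V : Opens X) (m : (D.obj i).val.obj (op V)) :
    app (c.ι.app j) V (app (D.map (homOfLE h)) V m) = app (c.ι.app i) V m := by
  rw [← app_comp, c.w]

omit [Nonempty I] [IsDirected I (· ≤ ·)] in
lemma app_map_trans {i j k : I} (h : i ≤ j) (h' : j ≤ k) (V : Opens X)
    (m : (D.obj i).val.obj (op V)) :
    app (D.map (homOfLE h')) V (app (D.map (homOfLE h)) V m) =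
      app (D.map (homOfLE (h.trans h'))) V m := by
  rw [← app_comp, ← D.map_comp, homOfLE_comp]

include hc in
theorem exists_local (G : SheafOfModules.{u} R) [G.IsFinitePresentation] (φ : G ⟶ c.pt)
    (x : X) :
    ∃ (U : Opens X), x ∈ U ∧ ∃ (ι : Type u) (_ : Fintype ι) (s : ι → G.val.obj (op U)),
      LocSpanT G U s ∧ ∃ (i : I) (ψ : LHom G (D.obj i) U),
        ∀ (V : Opens X) (hV : V ≤ U) (m : G.val.obj (op V)),
          app (c.ι.app i) V (ψ.f V hV m) = app φ V m := by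
  classical
  obtain ⟨U₀, hx₀, ι, _, s, κ, _, ρ, hs, hrel, hloc⟩ :=
    (isFinitePresentation_iff G).1 inferInstance x
  -- lift the images of the generators
  have h1 := fun a : ι => locSurj_mod D c hc U₀ (app φ U₀ (s a)) x hx₀
  choose V hV j m hxV hm using h1
  obtain ⟨U₁', hxU₁', hU₁'⟩ := exists_open_le_of_finite x V hxV
  obtain ⟨j₀, hj₀⟩ := Finite.exists_le j
  have hU₁ : U₁' ⊓ U₀ ≤ U₀ := inf_le_right
  have hU₁V : ∀ a, U₁' ⊓ U₀ ≤ V a := fun a => inf_le_left.trans (hU₁' a)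
  let t₁ : ι → (D.obj j₀).val.obj (op (U₁' ⊓ U₀)) := fun a =>
    app (D.map (homOfLE (hj₀ a))) _ (res (D.obj (j a)) (hU₁V a) (m a))
  have ht₁ : ∀ a, app (c.ι.app j₀) _ (t₁ a) = res c.pt hU₁ (app φ U₀ (s a)) := by
    intro a
    change app (c.ι.app j₀) _ (app (D.map (homOfLE (hj₀ a))) _ _) = _
    rw [app_ι_of_le, app_res, hm a]
    exact res_res c.pt (hV a) (hU₁V a) _
  -- the relations
  let e : κ → (D.obj j₀).val.obj (op (U₁' ⊓ U₀)) := fun k => ∑ a, resR hU₁ (ρ k a) • t₁ a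
  have he : ∀ k, app (c.ι.app j₀) _ (e k) = 0 := by
    intro k
    have e1 : app (c.ι.app j₀) _ (e k) = res c.pt hU₁ (app φ U₀ (∑ a, ρ k a • s a)) := by
      change app (c.ι.app j₀) _ (∑ a, resR hU₁ (ρ k a) • t₁ a) = _
      rw [map_sum, map_sum, map_sum]
      refine Finset.sum_congr rfl (fun a _ => ?_)
      rw [map_smul, map_smul, res_smul, ht₁ a]
    rw [e1, hrel k, map_zero, map_zero]
  have h2 := fun k : κ => locInj_mod D c hc (U₁' ⊓ U₀) j₀ (e k) 0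
    (by rw [he k, map_zero]) x ⟨hxU₁', hx₀⟩
  choose W hW l hl hxW hWe using h2
  obtain ⟨U₂', hxU₂', hU₂'⟩ := exists_open_le_of_finite x W hxW
  obtain ⟨l₀', hl₀'⟩ := Finite.exists_le l
  obtain ⟨l₀, hl₁, hl₂⟩ := exists_ge_ge l₀' j₀
  have hU₂₁ : U₂' ⊓ (U₁' ⊓ U₀) ≤ U₁' ⊓ U₀ := inf_le_right
  have hU₂₀ : U₂' ⊓ (U₁' ⊓ U₀) ≤ U₀ := hU₂₁.trans hU₁
  have hU₂W : ∀ k, U₂' ⊓ (U₁' ⊓ U₀) ≤ W k := fun k => inf_le_left.trans (hU₂' k)
  have hxU₂ : x ∈ U₂' ⊓ (U₁' ⊓ U₀) := ⟨hxU₂', hxU₁', hx₀⟩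
  let t₂ : ι → (D.obj l₀).val.obj (op (U₂' ⊓ (U₁' ⊓ U₀))) := fun a =>
    app (D.map (homOfLE hl₂)) _ (res (D.obj j₀) hU₂₁ (t₁ a))
  have key : ∀ k, app (D.map (homOfLE hl₂)) _ (res (D.obj j₀) hU₂₁ (e k)) = 0 := by
    intro k
    have hlk : l k ≤ l₀ := (hl₀' k).trans hl₁
    have e1 := app_map_trans D (hl k) hlk _ (res (D.obj j₀) hU₂₁ (e k))
    refine e1.symm.trans ?_
    rw [← res_res (D.obj j₀) (hW k) (hU₂W k) (e k), app_res, hWe k]
    simp only [map_zero]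
  have hrel₂ : ∀ k, ∑ a, resR hU₂₀ (ρ k a) • t₂ a = 0 := by
    intro k
    rw [← key k]
    change _ = app _ _ (res _ hU₂₁ (∑ a, resR hU₁ (ρ k a) • t₁ a))
    rw [map_sum, map_sum]
    refine Finset.sum_congr rfl (fun a _ => ?_)
    rw [res_smul, map_smul, resR_resR]
  let ψ := ofFPData (H := D.obj l₀) (fun a => res G hU₂₀ (s a)) (fun k a => resR hU₂₀ (ρ k a))
    t₂ (LocSpanT.mono hs hU₂₀) (LocRelT.mono hloc hU₂₀) hrel₂
  have hψgen : ∀ a, ψ.f _ le_rfl (res G hU₂₀ (s a)) = t₂ a := fun a =>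
    ofFPData_gen (H := D.obj l₀) (fun a => res G hU₂₀ (s a)) (fun k a => resR hU₂₀ (ρ k a))
      t₂ (LocSpanT.mono hs hU₂₀) (LocRelT.mono hloc hU₂₀) hrel₂ a
  refine ⟨U₂' ⊓ (U₁' ⊓ U₀), hxU₂, ι, inferInstance, fun a => res G hU₂₀ (s a),
    LocSpanT.mono hs hU₂₀, l₀, ψ, ?_⟩
  intro V' hV' m'
  refine LHom.ext_of_span (fun a => res G hU₂₀ (s a)) (LocSpanT.mono hs hU₂₀)
    (ψ.postcomp (c.ι.app l₀)) (LHom.ofHom φ _) ?_ V' hV' m'
  intro a
  change app (c.ι.app l₀) _ (ψ.f _ le_rfl (res G hU₂₀ (s a))) = app φ _ (res G hU₂₀ (s a))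
  rw [hψgen a]
  change app (c.ι.app l₀) _ (app (D.map (homOfLE hl₂)) _ (res (D.obj j₀) hU₂₁ (t₁ a))) = _
  rw [app_ι_of_le, app_res, ht₁ a]
  exact (res_res c.pt hU₁ hU₂₁ _).trans (app_res φ hU₂₀ (s a)).symm

include hc in
theorem exists_stage_eq (G : SheafOfModules.{u} R) {W : Opens X} (hW : IsCompact (W : Set X))
    {ι : Type u} [Fintype ι] (s : ι → G.val.obj (op W)) (hs : LocSpanT G W s) (i : I)
    (ψ ψ' : LHom G (D.obj i) W)
    (h : ∀ a, app (c.ι.app i) W (ψ.f W le_rfl (s a)) = app (c.ι.app i) W (ψ'.f W le_rfl (s a))) :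
    ∃ (k : I) (hik : i ≤ k), ∀ (V : Opens X) (hV : V ≤ W) (m : G.val.obj (op V)),
      app (D.map (homOfLE hik)) V (ψ.f V hV m) = app (D.map (homOfLE hik)) V (ψ'.f V hV m) := by
  have h1 := fun a => qcInj_mod D c hc W hW i _ _ (h a)
  choose k hik hk using h1
  obtain ⟨k₀, hk₀⟩ := Finite.exists_le k
  obtain ⟨k₁, hk₁, hk₂⟩ := exists_ge_ge k₀ i
  refine ⟨k₁, hk₂, fun V hV m => ?_⟩
  refine LHom.ext_of_span s hs (ψ.postcomp (D.map (homOfLE hk₂)))
    (ψ'.postcomp (D.map (homOfLE hk₂))) ?_ V hV m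
  intro a
  change app (D.map (homOfLE hk₂)) W (ψ.f W le_rfl (s a)) =
    app (D.map (homOfLE hk₂)) W (ψ'.f W le_rfl (s a))
  have hle : k a ≤ k₁ := (hk₀ a).trans hk₁
  have e1 := app_map_trans D (hik a) hle W (ψ.f W le_rfl (s a))
  have e2 := app_map_trans D (hik a) hle W (ψ'.f W le_rfl (s a))
  exact e1.symm.trans ((congrArg _ (hk a)).trans e2)

include hc in
theorem surj (hX : ∀ (ι : Type u) (V : ι → Opens X), iSup V = ⊤ →
      ∃ (J : Type u) (_ : Finite J) (U : J → Opens X), iSup U = ⊤ ∧ (∀ j, ∃ i, U j ≤ V i) ∧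
        ∀ j j', IsCompact ((U j ⊓ U j' : Opens X) : Set X))
    (G : SheafOfModules.{u} R) [G.IsFinitePresentation] (φ : G ⟶ c.pt) :
    ∃ (i : I) (ψ : G ⟶ D.obj i), ψ ≫ c.ι.app i = φ := by
  classical
  have h1 := exists_local D c hc G φ
  choose U hxU ι' instι s hs i ψ hψ using h1
  obtain ⟨J, hJ, W, hWtop, hWref, hWqc⟩ := hX X U
    (eq_top_iff.2 fun x _ => Opens.mem_iSup.2 ⟨x, hxU x⟩)
  haveI := hJ
  choose x hx using hWref
  have hcov : (⊤ : Opens X) ≤ ⨆ j, W j := hWtop.ge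
  obtain ⟨i₀, hi₀⟩ := Finite.exists_le (fun j => i (x j))
  let ψ₀ : ∀ j, LHom G (D.obj i₀) (W j) := fun j =>
    ((ψ (x j)).restrict (hx j)).postcomp (D.map (homOfLE (hi₀ j)))
  have hψ₀ : ∀ j (V : Opens X) (hV : V ≤ W j) (m : G.val.obj (op V)),
      app (c.ι.app i₀) V ((ψ₀ j).f V hV m) = app φ V m := by
    intro j V hV m
    change app (c.ι.app i₀) V (app (D.map (homOfLE (hi₀ j))) V
      ((ψ (x j)).f V (hV.trans (hx j)) m)) = _
    rw [app_ι_of_le]
    exact hψ (x j) V _ m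
  have h2 : ∀ p : J × J, ∃ (k : I) (hik : i₀ ≤ k), ∀ (V : Opens X) (hV : V ≤ W p.1 ⊓ W p.2)
      (m : G.val.obj (op V)),
      app (D.map (homOfLE hik)) V ((ψ₀ p.1).f V (hV.trans inf_le_left) m) =
        app (D.map (homOfLE hik)) V ((ψ₀ p.2).f V (hV.trans inf_le_right) m) := by
    intro p
    letI := instι (x p.1)
    have hle : W p.1 ⊓ W p.2 ≤ U (x p.1) := inf_le_left.trans (hx p.1)
    exact exists_stage_eq D c hc G (hWqc p.1 p.2) (fun a => res G hle (s (x p.1) a))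
      (LocSpanT.mono (hs (x p.1)) hle) i₀ ((ψ₀ p.1).restrict inf_le_left)
      ((ψ₀ p.2).restrict inf_le_right)
      (fun a => (hψ₀ p.1 _ _ _).trans (hψ₀ p.2 _ _ _).symm)
  choose k hk hagree using h2
  obtain ⟨k₀, hk₀⟩ := Finite.exists_le k
  obtain ⟨k₁, hk₁, hk₂⟩ := exists_ge_ge k₀ i₀
  let ψ₁ : ∀ j, LHom G (D.obj k₁) (W j) := fun j => (ψ₀ j).postcomp (D.map (homOfLE hk₂))
  have hψ₁ : ∀ j j' (V : Opens X) (hV : V ≤ W j) (hV' : V ≤ W j') (m : G.val.obj (op V)),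
      (ψ₁ j).f V hV m = (ψ₁ j').f V hV' m := by
    intro j j' V hV hV' m
    change app (D.map (homOfLE hk₂)) V ((ψ₀ j).f V hV m) =
      app (D.map (homOfLE hk₂)) V ((ψ₀ j').f V hV' m)
    have hle : k (j, j') ≤ k₁ := (hk₀ (j, j')).trans hk₁
    have e1 := app_map_trans D (hk (j, j')) hle V ((ψ₀ j).f V hV m)
    have e2 := app_map_trans D (hk (j, j')) hle V ((ψ₀ j').f V hV' m)
    exact e1.symm.trans ((congrArg _ (hagree (j, j') V (le_inf hV hV') m)).trans e2)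
  obtain ⟨Ψ, hΨ⟩ := exists_glue hcov hψ₁
  refine ⟨k₁, Ψ, hom_ext_of_cover W hcov _ _ (fun j V hV m => ?_)⟩
  rw [app_comp, hΨ j V hV m]
  change app (c.ι.app k₁) V (app (D.map (homOfLE hk₂)) V ((ψ₀ j).f V hV m)) = _
  rw [app_ι_of_le]
  exact hψ₀ j V hV m

include hc in
theorem inj (hX : ∀ (ι : Type u) (V : ι → Opens X), iSup V = ⊤ →
      ∃ (J : Type u) (_ : Finite J) (U : J → Opens X), iSup U = ⊤ ∧ (∀ j, ∃ i, U j ≤ V i) ∧
        ∀ j j', IsCompact ((U j ⊓ U j' : Opens X) : Set X))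
    (G : SheafOfModules.{u} R) [G.IsFinitePresentation] (i : I) (ψ ψ' : G ⟶ D.obj i)
    (h : ψ ≫ c.ι.app i = ψ' ≫ c.ι.app i) :
    ∃ (k : I) (hik : i ≤ k), ψ ≫ D.map (homOfLE hik) = ψ' ≫ D.map (homOfLE hik) := by
  classical
  have h1 := (isFinitePresentation_iff G).1 inferInstance
  choose U hxU hU using h1
  obtain ⟨J, hJ, W, hWtop, hWref, hWqc⟩ := hX X U
    (eq_top_iff.2 fun x _ => Opens.mem_iSup.2 ⟨x, hxU x⟩)
  haveI := hJ
  choose x hx using hWref
  have h2 : ∀ j : J, ∃ (k : I) (hik : i ≤ k), ∀ (V : Opens X) (_ : V ≤ W j)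
      (m : G.val.obj (op V)),
      app (D.map (homOfLE hik)) V (app ψ V m) = app (D.map (homOfLE hik)) V (app ψ' V m) := by
    intro j
    obtain ⟨ι, _, s, κ, _, ρ, hs, -, -⟩ := hU (x j)
    have hq : IsCompact ((W j : Opens X) : Set X) := by
      have := hWqc j j
      rwa [inf_idem] at this
    exact exists_stage_eq D c hc G hq (fun a => res G (hx j) (s a)) (LocSpanT.mono hs (hx j)) i
      (LHom.ofHom ψ (W j)) (LHom.ofHom ψ' (W j)) (fun a => by
        change app (c.ι.app i) (W j) (app ψ (W j) _) = app (c.ι.app i) (W j) (app ψ' (W j) _)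
        rw [← app_comp, ← app_comp, h])
  choose k hk hagree using h2
  obtain ⟨k₀, hk₀⟩ := Finite.exists_le k
  obtain ⟨k₁, hk₁, hk₂⟩ := exists_ge_ge k₀ i
  refine ⟨k₁, hk₂, hom_ext_of_cover W hWtop.ge _ _ (fun j V hV m => ?_)⟩
  rw [app_comp, app_comp]
  have hle : k j ≤ k₁ := (hk₀ j).trans hk₁
  have e1 := app_map_trans D (hk j) hle V (app ψ V m)
  have e2 := app_map_trans D (hk j) hle V (app ψ' V m)
  exact e1.symm.trans ((congrArg _ (hagree j V hV m)).trans e2)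

end Groth.Agent.Lib.Helper29.HomFPB

namespace Groth.Agent.Lib.Helper29.HomFPB

theorem main6840 {X : TopCat.{u}} (O : TopCat.Sheaf CommRingCat.{u} X)
    (hX : ∀ (ι : Type u) (V : ι → Opens X), iSup V = ⊤ →
      ∃ (J : Type u) (_ : Finite J) (U : J → Opens X), iSup U = ⊤ ∧ (∀ j, ∃ i, U j ≤ V i) ∧
        ∀ j j', IsCompact ((U j ⊓ U j' : Opens X) : Set X))
    {I : Type u} [Preorder I] [Nonempty I] [IsDirected I (· ≤ ·)] (D : I ⥤ ModSite.Mod O)
    (G : ModSite.Mod O) [SheafOfModules.IsFinitePresentation (R := ModSite.ringSh O) G] :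
    PreservesColimit D (coyoneda.obj (Opposite.op G)) := by
  have hc := colimit.isColimit D
  refine preservesColimit_of_preserves_colimit_cocone hc ?_
  refine Types.FilteredColimit.isColimitOf' _ _ ?_ ?_
  · intro φ
    obtain ⟨i, ψ, h⟩ := surj D _ hc hX G φ
    exact ⟨i, ψ, h.symm⟩
  · intro i ψ ψ' h
    obtain ⟨k, hik, e⟩ := inj D _ hc hX G i ψ ψ' h
    exact ⟨k, homOfLE hik, e⟩

end Groth.Agent.Lib.Helper29.HomFPB
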