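import Groth.Agent.Lib.Helper29.QuotSecA

/-!
# Helper library (helper29): fpqc descent of quasi-coherent ideal sheaves along a single covering morphism
-/

set_option autoImplicit false
set_option maxHeartbeats 1600000
universe u
open CategoryTheory CategoryTheory.Limits AlgebraicGeometry

namespace Groth.Agent.Lib.Helper29.IdealGlue1

open Groth.Agent.Lib.Helper29.QuotSecA Scheme.IdealSheafData

theorem main5136 {S S' : Scheme.{u}} (g : S' ⟶ S) [Flat g] [Surjective g]
    [QuasiCompact g] (J' : S'.IdealSheafData)
    (h : J'.comap (pullback.fst g g) = J'.comap (pullback.snd g g)) :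
    ∃ J : S.IdealSheafData, J.comap g = J' := by
  have hcov : Presieve.ofArrows (fun _ : PUnit.{1} => S') (fun _ => g) ∈
      Scheme.fpqcPrecoverage S := by
    rw [Presieve.ofArrows_pUnit]
    exact g.singleton_mem_fpqcPrecoverage
  obtain ⟨J, hJ⟩ := glue_ideals (fun _ : PUnit.{1} => g) hcov (fun _ => J')
    (fun _ _ Z a b hab => by
      have ea : a = pullback.lift a b hab ≫ pullback.fst g g := (pullback.lift_fst _ _ _).symm
      have eb : b = pullback.lift a b hab ≫ pullback.snd g g := (pullback.lift_snd _ _ _).symm
      calc J'.comap a = J'.comap (pullback.lift a b hab ≫ pullback.fst g g) := by rw [← ea]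
        _ = (J'.comap (pullback.fst g g)).comap (pullback.lift a b hab) := comap_comp _ _ _
        _ = (J'.comap (pullback.snd g g)).comap (pullback.lift a b hab) := by rw [h]
        _ = J'.comap (pullback.lift a b hab ≫ pullback.snd g g) := (comap_comp _ _ _).symm
        _ = J'.comap b := by rw [← eb])
  exact ⟨J, hJ PUnit.unit⟩

end Groth.Agent.Lib.Helper29.IdealGlue1
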