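import Groth.Agent.Lib.Helper29.TorsorPush
import Groth.Agent.Lib.Helper29.QuotMain
import Groth.Agent.Lib.Helper22.SmoothRed
import Mathlib.AlgebraicGeometry.Morphisms.QuasiFinite

/-!
# Helper library (helper29): torsors under finite connected group schemes over a field

* `pt_eq_one_of_isReduced`: a finite connected group over a field has only the trivial point with
  values in a reduced scheme
* `exists_pt_of_reduced_overlaps`: a pseudo-torsor trivialised by a covering with reduced overlaps
  has a rational point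
* `main18317`
-/

set_option autoImplicit false
set_option maxHeartbeats 1600000
universe u
open CategoryTheory CategoryTheory.Limits AlgebraicGeometry MonoidalCategory CartesianMonoidalCategory
  MonObj GrpObj

namespace Groth.Agent.Lib.Helper29.InfTorsor

open Groth.Agent.Lib.Helper29.InvFun Groth.Agent.Lib.Helper22 Groth.Agent.Lib.Helper29.TorsorPush

noncomputable section

theorem subsingleton_of_finite_connected {K : Type u} [Field K] {Y : Scheme.{u}}
    (f : Y ⟶ Spec (CommRingCat.of K)) [IsFinite f] [ConnectedSpace Y] : Subsingleton Y := by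
  obtain ⟨pt⟩ : Nonempty (Spec (CommRingCat.of K)) := inferInstance
  haveI : Subsingleton (Spec (CommRingCat.of K)) := inferInstance
  haveI : LocallyQuasiFinite f := inferInstance
  haveI hd : DiscreteTopology Y := by
    have h1 := f.isDiscrete_preimage_singleton pt
    have h2 : f ⁻¹' {pt} = Set.univ := Set.eq_univ_of_forall (fun z => Subsingleton.elim _ _)
    rw [h2] at h1
    exact isDiscrete_univ_iff.mp h1
  have := (isPreconnected_univ (α := Y)).subsingleton
  exact ⟨fun a b => this (Set.mem_univ a) (Set.mem_univ b)⟩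

theorem pt_eq_one_of_isReduced {K : Type u} [Field K] (G : Over (Spec (CommRingCat.of K)))
    [GrpObj G] [IsFinite G.hom] [ConnectedSpace G.left] (T : Over (Spec (CommRingCat.of K)))
    [IsReduced T.left] (t : T ⟶ G) : t = 1 := by
  obtain ⟨pt⟩ : Nonempty (Spec (CommRingCat.of K)) := inferInstance
  haveI : Subsingleton G.left := subsingleton_of_finite_connected G.hom
  obtain ⟨e, he⟩ : ∃ e : Spec (CommRingCat.of K) ⟶ G.left, e = η[G].left := ⟨_, rfl⟩
  have heG : e ≫ G.hom = 𝟙 _ := by
    rw [he]
    exact Over.w η[G]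
  haveI : IsClosedImmersion (e ≫ G.hom) := by rw [heG]; infer_instance
  haveI : IsClosedImmersion e := IsClosedImmersion.of_comp e G.hom
  haveI : Nonempty (Spec (CommRingCat.of K)) := ⟨pt⟩
  haveI : Surjective e := ⟨Function.surjective_to_subsingleton _⟩
  haveI : IsIso (pullback.fst t.left e) := isIso_of_isClosedImmersion_of_surjective _
  have h1 : t.left = inv (pullback.fst t.left e) ≫ pullback.snd t.left e ≫ e := by
    rw [← pullback.condition, IsIso.inv_hom_id_assoc]
  have h2 : inv (pullback.fst t.left e) ≫ pullback.snd t.left e = T.hom := by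
    rw [IsIso.inv_comp_eq]
    calc pullback.snd t.left e = pullback.snd t.left e ≫ e ≫ G.hom := by
          rw [heG, Category.comp_id]
      _ = pullback.fst t.left e ≫ t.left ≫ G.hom := by rw [← pullback.condition_assoc]
      _ = pullback.fst t.left e ≫ T.hom := by rw [Over.w t]
  apply Over.OverMorphism.ext
  rw [Hom.one_def]
  show t.left = T.hom ≫ η[G].left
  rw [← he, h1, ← Category.assoc, h2]

theorem exists_pt_of_reduced_overlaps {K : Type u} [Field K]
    (G X : Over (Spec (CommRingCat.of K))) [GrpObj G]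
    [IsFinite G.hom] [ConnectedSpace G.left] (a : AlgGrp.Action G X)
    (ha : NonAbH1.IsPseudoTorsorSch a)
    {J : Type*} {V : J → Scheme.{u}} (π : ∀ i, V i ⟶ Spec (CommRingCat.of K))
    (hπ : Presieve.ofArrows V π ∈ Scheme.fpqcPrecoverage (Spec (CommRingCat.of K)))
    (ψ : ∀ i, V i ⟶ X.left) (hψ : ∀ i, ψ i ≫ X.hom = π i)
    (hred : ∀ i j, IsReduced (pullback (π i) (π j))) :
    NonAbH1.HasSectionOver X (𝟙 (Spec (CommRingCat.of K))) := by
  have hcompat : ∀ (i j : J) (Z : Scheme.{u}) (p : Z ⟶ V i) (q : Z ⟶ V j),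
      p ≫ π i = q ≫ π j → p ≫ ψ i = q ≫ ψ j := by
    intro i j Z p q hpq
    let T : Over (Spec (CommRingCat.of K)) := Over.mk (pullback.fst (π i) (π j) ≫ π i)
    let x₁ : T ⟶ X := Over.homMk (pullback.fst (π i) (π j) ≫ ψ i) (by
      show (pullback.fst (π i) (π j) ≫ ψ i) ≫ X.hom = pullback.fst (π i) (π j) ≫ π i
      rw [Category.assoc, hψ])
    let x₂ : T ⟶ X := Over.homMk (pullback.snd (π i) (π j) ≫ ψ j) (by
      show (pullback.snd (π i) (π j) ≫ ψ j) ≫ X.hom = pullback.fst (π i) (π j) ≫ π i
      rw [Category.assoc, hψ, pullback.condition])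
    haveI : IsReduced T.left := hred i j
    have h1 : dv a ha x₁ x₂ = 1 := pt_eq_one_of_isReduced G T _
    have h2 : x₁ = x₂ :=
      calc x₁ = smul a (dv a ha x₁ x₂) x₂ := (dv_smul a ha x₁ x₂).symm
        _ = x₂ := by rw [h1, pt_one_smul]
    have h3 : pullback.fst (π i) (π j) ≫ ψ i = pullback.snd (π i) (π j) ≫ ψ j :=
      congrArg (fun k => k.left) h2
    calc p ≫ ψ i = pullback.lift p q hpq ≫ pullback.fst (π i) (π j) ≫ ψ i := by
          rw [pullback.lift_fst_assoc]
      _ = pullback.lift p q hpq ≫ pullback.snd (π i) (π j) ≫ ψ j := by rw [h3]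
      _ = q ≫ ψ j := by rw [pullback.lift_snd_assoc]
  obtain ⟨g, hg⟩ := fpqc_glue' X.left π hπ ψ hcompat
  refine ⟨g, ?_⟩
  refine fpqc_sep' _ π hπ _ _ (fun i => ?_)
  rw [← Category.assoc, hg, hψ, Category.comp_id]

theorem main18317 (K : Type u) [Field K]
    (G X : Over (Spec (CommRingCat.of K))) [GrpObj G] [IsFinite G.hom] [ConnectedSpace G.left]
    (a : AlgGrp.Action G X) (h : NonAbH1.IsTorsorFor Scheme.etalePrecoverage a) :
    NonAbH1.HasSectionOver X (𝟙 (Spec (CommRingCat.of K))) := by
  obtain ⟨h1, R, hR, hsec⟩ := h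
  obtain ⟨κ, V, π, rfl⟩ := R.exists_eq_ofArrows
  choose ψ hψ using fun l => hsec (π l) ⟨l⟩
  have het : ∀ l, Etale (π l) := ((Scheme.ofArrows_mem_precoverage_iff @Etale).1 hR).2
  refine exists_pt_of_reduced_overlaps G X a h1 π
    (Scheme.fppfPrecoverage_le_fpqcPrecoverage _ (QuotMain.etale_le_fppf _ hR)) ψ hψ
    (fun i j => ?_)
  haveI := het i
  haveI := het j
  haveI : Smooth (pullback.fst (π i) (π j) ≫ π i) := inferInstance
  exact SmoothRed.isReduced_of_smooth (pullback.fst (π i) (π j) ≫ π i)

theorem subsingleton_of_lqf_connected {K : Type u} [Field K] {Y : Scheme.{u}}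
    (f : Y ⟶ Spec (CommRingCat.of K)) [LocallyQuasiFinite f] [ConnectedSpace Y] :
    Subsingleton Y := by
  obtain ⟨pt⟩ : Nonempty (Spec (CommRingCat.of K)) := inferInstance
  haveI : Subsingleton (Spec (CommRingCat.of K)) := inferInstance
  haveI hd : DiscreteTopology Y := by
    have h1 := f.isDiscrete_preimage_singleton pt
    have h2 : f ⁻¹' {pt} = Set.univ := Set.eq_univ_of_forall (fun z => Subsingleton.elim _ _)
    rw [h2] at h1
    exact isDiscrete_univ_iff.mp h1
  have := (isPreconnected_univ (α := Y)).subsingleton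
  exact ⟨fun a b => this (Set.mem_univ a) (Set.mem_univ b)⟩

theorem pt_eq_one_of_isReduced' {K : Type u} [Field K] (G : Over (Spec (CommRingCat.of K)))
    [GrpObj G] [LocallyQuasiFinite G.hom] [IsSeparated G.hom] [ConnectedSpace G.left]
    (T : Over (Spec (CommRingCat.of K))) [IsReduced T.left] (t : T ⟶ G) : t = 1 := by
  obtain ⟨pt⟩ : Nonempty (Spec (CommRingCat.of K)) := inferInstance
  haveI : Subsingleton G.left := subsingleton_of_lqf_connected G.hom
  obtain ⟨e, he⟩ : ∃ e : Spec (CommRingCat.of K) ⟶ G.left, e = η[G].left := ⟨_, rfl⟩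
  have heG : e ≫ G.hom = 𝟙 _ := by
    rw [he]
    exact Over.w η[G]
  haveI : IsClosedImmersion (e ≫ G.hom) := by rw [heG]; infer_instance
  haveI : IsClosedImmersion e := IsClosedImmersion.of_comp e G.hom
  haveI : Nonempty (Spec (CommRingCat.of K)) := ⟨pt⟩
  haveI : Surjective e := ⟨Function.surjective_to_subsingleton _⟩
  haveI : IsIso (pullback.fst t.left e) := isIso_of_isClosedImmersion_of_surjective _
  have h1 : t.left = inv (pullback.fst t.left e) ≫ pullback.snd t.left e ≫ e := by
    rw [← pullback.condition, IsIso.inv_hom_id_assoc]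
  have h2 : inv (pullback.fst t.left e) ≫ pullback.snd t.left e = T.hom := by
    rw [IsIso.inv_comp_eq]
    calc pullback.snd t.left e = pullback.snd t.left e ≫ e ≫ G.hom := by
          rw [heG, Category.comp_id]
      _ = pullback.fst t.left e ≫ t.left ≫ G.hom := by rw [← pullback.condition_assoc]
      _ = pullback.fst t.left e ≫ T.hom := by rw [Over.w t]
  apply Over.OverMorphism.ext
  rw [Hom.one_def]
  show t.left = T.hom ≫ η[G].left
  rw [← he, h1, ← Category.assoc, h2]

end

end Groth.Agent.Lib.Helper29.InfTorsor
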