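import Mathlib
import Groth.Agent.Lib.Helper29.InfTorsor

/-!
# fppf torsors under finite connected groups over a perfect field are trivial (S18319)
-/
set_option autoImplicit false
set_option maxHeartbeats 1600000
set_option linter.style.haveILetI false
universe u
open CategoryTheory CategoryTheory.Limits AlgebraicGeometry MonoidalCategory CartesianMonoidalCategory
  MonObj GrpObj

namespace Groth.Agent.Lib.Helper29.InfTorsorFppf

open Groth.Agent.Lib.Helper29.InfTorsor Groth.Agent.Lib.Helper22

noncomputable section

theorem etale_of_finite_perfect (K : Type u) [Field K] [PerfectField K]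
    {Y : Scheme.{u}} (y : Y) (φ : Spec (Y.residueField y) ⟶ Spec (CommRingCat.of K)) [IsFinite φ] :
    Etale φ := by
  let L : CommRingCat.{u} := Y.residueField y
  let a : CommRingCat.of K ⟶ L := Spec.preimage φ
  have ha : Spec.map a = φ := Spec.map_preimage φ
  letI : Algebra K L := a.hom.toAlgebra
  have hfin : a.hom.Finite := by
    rw [← IsFinite.SpecMap_iff, ha]
    infer_instance
  haveI : Module.Finite K L := hfin
  haveI : Algebra.IsAlgebraic K L := Algebra.IsAlgebraic.of_finite K L
  haveI : Algebra.IsSeparable K L := inferInstance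
  haveI : Algebra.FormallyEtale K L := Algebra.FormallyEtale.of_isSeparable K L
  haveI : Algebra.FinitePresentation K L :=
    Algebra.FinitePresentation.of_finiteType.mp inferInstance
  haveI : Algebra.Etale K L := {}
  rw [← ha, HasRingHomProperty.Spec_iff (P := @Etale)]
  exact RingHom.etale_algebraMap.mpr inferInstance

theorem main18319 (K : Type u) [Field K]
    [PerfectField K] (G X : Over (Spec (CommRingCat.of K))) [GrpObj G] [IsFinite G.hom]
    [ConnectedSpace G.left]
    (a : AlgGrp.Action G X) (h : NonAbH1.IsTorsorFor Scheme.fppfPrecoverage a) :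
    NonAbH1.HasSectionOver X (𝟙 (Spec (CommRingCat.of K))) := by
  obtain ⟨h1, R, hR, hsec⟩ := h
  obtain ⟨κ, V, π, rfl⟩ := R.exists_eq_ofArrows
  choose ψ hψ using fun l => hsec (π l) ⟨l⟩
  have hcov := (Scheme.ofArrows_mem_precoverage_iff
    (P := @Flat ⊓ @LocallyOfFinitePresentation)).1 hR
  obtain ⟨pt⟩ : Nonempty (Spec (CommRingCat.of K)) := inferInstance
  obtain ⟨l, v₀, -⟩ := hcov.1 pt
  haveI : LocallyOfFinitePresentation (π l) := (hcov.2 l).2
  haveI : LocallyOfFiniteType (π l) := inferInstance
  haveI : JacobsonSpace (V l) := LocallyOfFiniteType.jacobsonSpace (π l)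
  obtain ⟨u, -, hu⟩ := nonempty_inter_closedPoints (X := V l) (Z := Set.univ) ⟨v₀, trivial⟩
    isOpen_univ.isLocallyClosed
  have huc : IsClosed ({u} : Set (V l)) := hu
  let φ : Spec ((V l).residueField u) ⟶ Spec (CommRingCat.of K) :=
    (V l).fromSpecResidueField u ≫ π l
  haveI : IsClosedImmersion ((V l).fromSpecResidueField u) :=
    isClosed_singleton_iff_isClosedImmersion.mp huc
  haveI : IsFinite φ := by
    rw [isFinite_iff_locallyOfFiniteType_of_jacobsonSpace]
    infer_instance
  haveI : Etale φ := etale_of_finite_perfect K u φ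
  haveI : Surjective φ := ⟨fun x => ⟨IsLocalRing.closedPoint _, Subsingleton.elim _ _⟩⟩
  refine exists_pt_of_reduced_overlaps G X a h1 (J := PUnit.{1})
    (V := fun _ => Spec ((V l).residueField u)) (fun _ => φ) ?_
    (fun _ => (V l).fromSpecResidueField u ≫ ψ l) (fun _ => ?_) (fun i j => ?_)
  · rw [Presieve.ofArrows_pUnit]
    exact Scheme.Hom.singleton_mem_fpqcPrecoverage φ
  · rw [Category.assoc, hψ]
  · haveI : Smooth (pullback.fst φ φ ≫ φ) := inferInstance
    exact SmoothRed.isReduced_of_smooth (pullback.fst φ φ ≫ φ)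

end

end Groth.Agent.Lib.Helper29.InfTorsorFppf
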