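import Mathlib

/-! # Bilinear forms invariant under an endomorphism: generalized kernels of `Q₁(M)` and `Q₂(M)`
are orthogonal when `Q₁.reverse` is coprime to `Q₂` (helper29). -/
open Polynomial

namespace Groth.Agent.Lib.Helper29.InvForm
universe u v
variable {k : Type u} [Field k] {V : Type v} [AddCommGroup V] [Module k V]

lemma pow_inv (B : LinearMap.BilinForm k V) (f : V →ₗ[k] V)
    (hM : ∀ x y : V, B (f x) (f y) = B x y) (i : ℕ) (a b : V) :
    B ((f ^ i) a) ((f ^ i) b) = B a b := by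
  induction i generalizing a b with
  | zero => simp
  | succ i ih => rw [pow_succ, Module.End.mul_apply, Module.End.mul_apply, ih, hM]

lemma adj (B : LinearMap.BilinForm k V) (f : V →ₗ[k] V)
    (hM : ∀ x y : V, B (f x) (f y) = B x y) (P : k[X]) (u v : V) :
    B (aeval f P u) ((f ^ P.natDegree) v) = B u (aeval f P.reverse v) := by
  rw [Polynomial.aeval_eq_sum_range,
    Polynomial.aeval_eq_sum_range' (n := P.natDegree + 1)
      (Nat.lt_succ_of_le P.reverse_natDegree_le)]
  rw [LinearMap.sum_apply, LinearMap.sum_apply, map_sum, LinearMap.sum_apply, map_sum]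
  rw [← Finset.sum_range_reflect]
  apply Finset.sum_congr rfl
  intro j hj
  have hj' : j ≤ P.natDegree := Nat.lt_succ_iff.mp (Finset.mem_range.mp hj)
  rw [Nat.add_sub_cancel, LinearMap.smul_apply, LinearMap.smul_apply, map_smul, map_smul,
    LinearMap.smul_apply, coeff_reverse, revAt_le hj']
  congr 1
  have h1 : (f ^ P.natDegree) v = (f ^ (P.natDegree - j)) ((f ^ j) v) := by
    rw [← Module.End.mul_apply, ← pow_add, Nat.sub_add_cancel hj']
  rw [h1, pow_inv B f hM]

lemma reverse_pow' (Q : k[X]) (n : ℕ) : (Q ^ n).reverse = Q.reverse ^ n := by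
  induction n with
  | zero => rw [pow_zero, pow_zero, ← C_1, reverse_C]
  | succ n ih => rw [pow_succ, reverse_mul_of_domain, ih, pow_succ]

theorem main (B : LinearMap.BilinForm k V) (f : V →ₗ[k] V)
    (hM : ∀ x y : V, B (f x) (f y) = B x y)
    (Q₁ Q₂ : k[X]) (h : IsCoprime Q₁.reverse Q₂) (x y : V)
    (hx : ∃ n : ℕ, (aeval f Q₁ ^ n) x = 0) (hy : ∃ n : ℕ, (aeval f Q₂ ^ n) y = 0) :
    B x y = 0 := by
  obtain ⟨n, hn⟩ := hx
  obtain ⟨m, hm⟩ := hy
  have hcop : IsCoprime ((Q₁ ^ n).reverse) (Q₂ ^ m) := by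
    rw [reverse_pow']; exact h.pow
  obtain ⟨a, b, hab⟩ := hcop
  rw [mul_comm] at hab
  have hy' : y = aeval f (Q₁ ^ n).reverse (aeval f a y) := by
    have := congrArg (fun P => aeval f P y) hab
    simp only [map_add, map_mul, map_one, LinearMap.add_apply, Module.End.mul_apply,
      Module.End.one_apply] at this
    rw [map_pow, hm, map_zero, add_zero] at this
    exact this.symm
  rw [hy', ← adj B f hM (Q₁ ^ n) x (aeval f a y), map_pow, hn, map_zero, LinearMap.zero_apply]

lemma nondeg_restrict_of_isCompl (B : LinearMap.BilinForm k V) (hB : B.Nondegenerate)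
    (W W' : Submodule k V) (hc : IsCompl W W')
    (h1 : ∀ x ∈ W, ∀ y ∈ W', B x y = 0) (h2 : ∀ x ∈ W, ∀ y ∈ W', B y x = 0) :
    (B.restrict W).Nondegenerate := by
  constructor
  · rintro ⟨x, hx⟩ hxy
    apply Subtype.ext
    apply hB.1 x
    intro v
    obtain ⟨w, w', hw, hw', rfl⟩ := Submodule.codisjoint_iff_exists_add_eq.mp hc.codisjoint v
    rw [map_add, h1 x hx w' hw', add_zero]
    exact hxy ⟨w, hw⟩
  · rintro ⟨x, hx⟩ hxy
    apply Subtype.ext
    apply hB.2 x
    intro v
    obtain ⟨w, w', hw, hw', rfl⟩ := Submodule.codisjoint_iff_exists_add_eq.mp hc.codisjoint v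
    rw [map_add, LinearMap.add_apply, h2 x hx w' hw', add_zero]
    exact hxy ⟨w, hw⟩

/-- orthogonality of the generalized kernel and the "eventual range" of `Q(f)` for `Q` self-reciprocal. -/
lemma ortho_fitting (B : LinearMap.BilinForm k V) (f : V →ₗ[k] V)
    (hM : ∀ x y : V, B (f x) (f y) = B x y) (Q : k[X]) (hQ : Associated Q Q.reverse)
    (x y : V) (hx : x ∈ ⨆ n : ℕ, LinearMap.ker (aeval f Q ^ n))
    (hy : y ∈ ⨅ n : ℕ, LinearMap.range (aeval f Q ^ n)) : B x y = 0 := by
  obtain ⟨n, hn⟩ := (Submodule.mem_iSup_of_chain (LinearMap.iterateKer (aeval f Q)) x).mp hx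
  have hn' : (aeval f Q ^ n) x = 0 := hn
  obtain ⟨y', hy'⟩ := (Submodule.mem_iInf _).mp hy n
  obtain ⟨c, hc⟩ := hQ
  have hrev : (Q ^ n).reverse = Q ^ n * ((c ^ n : k[X]ˣ) : k[X]) := by
    rw [reverse_pow', ← hc, mul_pow, Units.val_pow_eq_pow_val]
  have hy2 : y = aeval f (Q ^ n).reverse (aeval f (((c ^ n)⁻¹ : k[X]ˣ) : k[X]) y') := by
    rw [← Module.End.mul_apply, ← map_mul, hrev, mul_assoc, Units.mul_inv, mul_one, map_pow, hy']
  rw [hy2, ← adj B f hM (Q ^ n) x, map_pow, hn', map_zero, LinearMap.zero_apply]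

theorem main2 [FiniteDimensional k V] (B : LinearMap.BilinForm k V) (hB : B.Nondegenerate)
    (f : V →ₗ[k] V) (hM : ∀ x y : V, B (f x) (f y) = B x y) (Q : k[X])
    (hQ : Associated Q Q.reverse) :
    (B.restrict (⨆ n : ℕ, LinearMap.ker (aeval f Q ^ n))).Nondegenerate := by
  apply nondeg_restrict_of_isCompl B hB _ (⨅ n : ℕ, LinearMap.range (aeval f Q ^ n))
    (LinearMap.isCompl_iSup_ker_pow_iInf_range_pow _)
  · intro x hx y hy
    exact ortho_fitting B f hM Q hQ x y hx hy
  · intro x hx y hy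
    exact ortho_fitting (LinearMap.flip B) f (fun a b => hM b a) Q hQ x y hx hy

end Groth.Agent.Lib.Helper29.InvForm
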