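import Groth.Agent.Lib.Helper29.IsogFib
import Groth.Agent.Lib.Helper16.EtDim

/-!
# Helper library (helper29): finite surjective homomorphisms of abelian schemes

* `main7801` (flatness: helper6's `GrpHomFlat.main7800`; dimensions: helper16's `EtDim`)
-/

set_option autoImplicit false
set_option maxHeartbeats 1600000
universe u
open CategoryTheory CategoryTheory.Limits MonoidalCategory CartesianMonoidalCategory MonObj GrpObj
  AlgebraicGeometry

namespace Groth.Agent.Lib.Helper29.IsogFib

theorem main7801 {S : Scheme.{u}} (X Y : Over S) [GrpObj X] [IsProper X.hom] [Flat X.hom]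
    [LocallyOfFinitePresentation X.hom] [GeometricallyReduced X.hom] [GeometricallyConnected X.hom]
    [GrpObj Y] [IsProper Y.hom] [Flat Y.hom] [LocallyOfFinitePresentation Y.hom]
    [GeometricallyReduced Y.hom] [GeometricallyConnected Y.hom]
    (f : X ⟶ Y) [IsMonHom f] [IsFinite f.left] [Surjective f.left] :
    Flat f.left ∧ ∀ s : S, topologicalKrullDim ↥(X.hom.fiber s) =
      topologicalKrullDim ↥(Y.hom.fiber s) := by
  have hflat : Flat f.left := (Groth.Agent.Lib.Helper6.GrpHomFlat.main7800 X Y f).1
  haveI := hflat
  refine ⟨hflat, fun s => ?_⟩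
  have hsq := fibre_sq (S.fromSpecResidueField s) f
  haveI : Flat ((Over.pullback (S.fromSpecResidueField s)).map f).left :=
    MorphismProperty.of_isPullback (P := @Flat) hsq inferInstance
  haveI : IsFinite ((Over.pullback (S.fromSpecResidueField s)).map f).left :=
    MorphismProperty.of_isPullback (P := @IsFinite) hsq inferInstance
  haveI : Surjective ((Over.pullback (S.fromSpecResidueField s)).map f).left :=
    MorphismProperty.of_isPullback (P := @Surjective) hsq inferInstance
  have key : topologicalKrullDim ↥((Over.pullback (S.fromSpecResidueField s)).obj X).left =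
      topologicalKrullDim ↥((Over.pullback (S.fromSpecResidueField s)).obj Y).left := le_antisymm
    (Groth.Agent.Lib.Helper16.EtDim.topologicalKrullDim_le_of_locallyQuasiFinite
      ((Over.pullback (S.fromSpecResidueField s)).map f).left)
    (Groth.Agent.Lib.Helper16.EtDim.topologicalKrullDim_le_of_flat_of_surjective
      ((Over.pullback (S.fromSpecResidueField s)).map f).left)
  exact key

end Groth.Agent.Lib.Helper29.IsogFib
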