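import Mathlib

/-!
# Weighted ("Euler") derivations of monoid algebras, and descent of derivations along surjections

* `wLin w` : the `k`-linear endomorphism `single m r ↦ single m (w m * r)` of `k[M]`.
* `wDer w` : for additive `w : M →+ k`, this is a `k`-derivation of `k[M]`.
* `Derivation.descend` : a derivation `S → N` killing the kernel of a surjection `S → A`
  descends to a derivation `A → N` (`N` an `A`-module).
-/

namespace Groth.Agent.Lib.Helper29

section weighted
variable {k M : Type*} [CommRing k] [AddCommMonoid M]

/-- The linear endomorphism `single m r ↦ single m (w m * r)` of the monoid algebra. -/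
noncomputable def wLin (w : M → k) : AddMonoidAlgebra k M →ₗ[k] AddMonoidAlgebra k M :=
  (AddMonoidAlgebra.coeffLinearEquiv k).symm.toLinearMap ∘ₗ
    (Finsupp.lsum k (fun n : M => (w n) • (Finsupp.lsingle n : k →ₗ[k] M →₀ k))) ∘ₗ
    (AddMonoidAlgebra.coeffLinearEquiv k).toLinearMap

theorem wLin_single (w : M → k) (n : M) (r : k) :
    wLin w (AddMonoidAlgebra.single n r) = AddMonoidAlgebra.single n (w n * r) := by
  have h1 : (AddMonoidAlgebra.coeffLinearEquiv k) (AddMonoidAlgebra.single n r) =
      Finsupp.single n r := rfl
  have h2 : (AddMonoidAlgebra.coeffLinearEquiv k).symm (Finsupp.single n (w n * r)) =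
      AddMonoidAlgebra.single n (w n * r) := rfl
  show (AddMonoidAlgebra.coeffLinearEquiv k).symm
    ((Finsupp.lsum k (fun n : M => (w n) • (Finsupp.lsingle n : k →ₗ[k] M →₀ k)))
      ((AddMonoidAlgebra.coeffLinearEquiv k) (AddMonoidAlgebra.single n r))) = _
  rw [h1, Finsupp.lsum_single, LinearMap.smul_apply, Finsupp.lsingle_apply, Finsupp.smul_single,
    smul_eq_mul, h2]

theorem wLin_coeff (w : M → k) (f : AddMonoidAlgebra k M) (n : M) :
    (wLin w f).coeff n = w n * f.coeff n := by
  classical
  induction f using AddMonoidAlgebra.induction_linear with
  | zero =>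
    simp only [map_zero, AddMonoidAlgebra.coeff_zero, Finsupp.coe_zero, Pi.zero_apply, mul_zero]
  | add x y hx hy =>
    rw [map_add, AddMonoidAlgebra.coeff_add, Finsupp.add_apply, hx, hy,
      AddMonoidAlgebra.coeff_add, Finsupp.add_apply, mul_add]
  | single m r =>
    rw [wLin_single, AddMonoidAlgebra.coeff_single, AddMonoidAlgebra.coeff_single,
      Finsupp.single_apply, Finsupp.single_apply]
    by_cases h : m = n
    · subst h; simp only [if_true]
    · simp only [h, if_false, mul_zero]

theorem wLin_mul (w : M →+ k) (a b : AddMonoidAlgebra k M) :
    wLin w (a * b) = a * wLin w b + b * wLin w a := by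
  induction a using AddMonoidAlgebra.induction_linear with
  | zero => simp only [zero_mul, map_zero, mul_zero, add_zero]
  | add x y hx hy => rw [add_mul, map_add, hx, hy, add_mul, map_add, mul_add]; abel
  | single m r =>
    induction b using AddMonoidAlgebra.induction_linear with
    | zero => simp only [zero_mul, map_zero, mul_zero, add_zero]
    | add x y hx hy => rw [mul_add, map_add, hx, hy, map_add, mul_add, add_mul]; abel
    | single n s =>
      rw [AddMonoidAlgebra.single_mul_single, wLin_single, wLin_single, wLin_single,
        AddMonoidAlgebra.single_mul_single, AddMonoidAlgebra.single_mul_single,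
        add_comm n m, ← AddMonoidAlgebra.single_add]
      congr 1
      rw [map_add]; ring

/-- The weighted Euler derivation of a monoid algebra attached to an additive weight. -/
noncomputable def wDer (w : M →+ k) :
    Derivation k (AddMonoidAlgebra k M) (AddMonoidAlgebra k M) :=
  Derivation.mk' (wLin w) (fun a b => by
    rw [smul_eq_mul, smul_eq_mul]; exact wLin_mul w a b)

theorem wDer_apply (w : M →+ k) (f : AddMonoidAlgebra k M) : wDer w f = wLin w f := rfl

end weighted

section descend

variable {R S A N : Type*} [CommRing R] [CommRing S] [CommRing A]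
  [Algebra R S] [Algebra R A] [Algebra S A] [IsScalarTower R S A]
  [AddCommGroup N] [Module R N] [Module S N] [Module A N] [IsScalarTower S A N]

theorem derivation_eq_of_algebraMap_eq (D : Derivation R S N)
    (hD : ∀ x, algebraMap S A x = 0 → D x = 0) {x y : S}
    (h : algebraMap S A x = algebraMap S A y) : D x = D y := by
  have := hD (x - y) (by rw [map_sub, h, sub_self])
  rwa [map_sub, sub_eq_zero] at this

/-- A derivation `S → N` killing the kernel of the surjection `S → A` descends to `A → N`. -/
noncomputable def descendDer (hs : Function.Surjective (algebraMap S A)) (D : Derivation R S N)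
    (hD : ∀ x, algebraMap S A x = 0 → D x = 0) : Derivation R A N where
  toFun a := D (Function.surjInv hs a)
  map_add' a b := by
    rw [← map_add]
    apply derivation_eq_of_algebraMap_eq D hD
    rw [map_add, Function.surjInv_eq hs, Function.surjInv_eq hs, Function.surjInv_eq hs]
  map_smul' r a := by
    rw [RingHom.id_apply, ← Derivation.map_smul]
    apply derivation_eq_of_algebraMap_eq D hD
    rw [Function.surjInv_eq hs, Algebra.smul_def r (Function.surjInv hs a), map_mul,
      Function.surjInv_eq hs, ← IsScalarTower.algebraMap_apply, Algebra.smul_def]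
  map_one_eq_zero' := by
    show D (Function.surjInv hs 1) = 0
    rw [derivation_eq_of_algebraMap_eq D hD (y := 1) (by rw [Function.surjInv_eq hs, map_one]),
      Derivation.map_one_eq_zero]
  leibniz' a b := by
    show D (Function.surjInv hs (a * b)) = a • D (Function.surjInv hs b) +
      b • D (Function.surjInv hs a)
    rw [derivation_eq_of_algebraMap_eq D hD (y := Function.surjInv hs a * Function.surjInv hs b)
      (by rw [map_mul, Function.surjInv_eq hs, Function.surjInv_eq hs, Function.surjInv_eq hs]),
      Derivation.leibniz, ← algebraMap_smul A (Function.surjInv hs a),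
      ← algebraMap_smul A (Function.surjInv hs b), Function.surjInv_eq hs,
      Function.surjInv_eq hs]

theorem descendDer_apply (hs : Function.Surjective (algebraMap S A)) (D : Derivation R S N)
    (hD : ∀ x, algebraMap S A x = 0 → D x = 0) (s : S) :
    descendDer hs D hD (algebraMap S A s) = D s := by
  show D (Function.surjInv hs (algebraMap S A s)) = D s
  exact derivation_eq_of_algebraMap_eq D hD (Function.surjInv_eq hs _)

end descend

end Groth.Agent.Lib.Helper29
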