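import Mathlib
import Groth.Agent.Lib.Helper29.MonoidAlgDeriv

/-!
# Kähler differentials of the Laurent polynomial ring `k[T;T⁻¹]`

`Ω` is free of rank one on `dT`; the Euler derivation `E = T d/dT` gives an isomorphism
`φ : Ω ≃ k[T;T⁻¹]`, `f dT ↦ f T`.
-/

namespace Groth.Agent.Lib.Helper29.LaurentDR

open LaurentPolynomial

variable (k : Type*) [Field k]

/-- Euler derivation `T d/dT`. -/
noncomputable def E : Derivation k (LaurentPolynomial k) (LaurentPolynomial k) :=
  wDer (Int.castAddHom k)

lemma E_single (n : ℤ) (r : k) :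
    E k (AddMonoidAlgebra.single n r) = AddMonoidAlgebra.single n ((n : k) * r) :=
  wLin_single (Int.castAddHom k) n r

lemma E_coeff (f : LaurentPolynomial k) (n : ℤ) : (E k f).coeff n = (n : k) * f.coeff n :=
  wLin_coeff (Int.castAddHom k) f n

lemma E_T_one : E k (T 1) = T 1 := by
  show E k (AddMonoidAlgebra.single 1 1) = AddMonoidAlgebra.single 1 1
  rw [E_single, Int.cast_one, mul_one]

/-- `φ : Ω → A`, `f dg ↦ f T g'`. -/
noncomputable def φ : Ω[LaurentPolynomial k⁄k] →ₗ[LaurentPolynomial k] LaurentPolynomial k :=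
  (E k).liftKaehlerDifferential

lemma φ_D (f : LaurentPolynomial k) :
    φ k (KaehlerDifferential.D k (LaurentPolynomial k) f) = E k f :=
  Derivation.liftKaehlerDifferential_comp_D _ _

lemma fwd (m : ℤ)
    (h : ∃ a : LaurentPolynomial k, KaehlerDifferential.D k (LaurentPolynomial k) (T m) =
      a • KaehlerDifferential.D k (LaurentPolynomial k) (T 1)) :
    ∃ a : LaurentPolynomial k, KaehlerDifferential.D k (LaurentPolynomial k) (T (m + 1)) =
      a • KaehlerDifferential.D k (LaurentPolynomial k) (T 1) := by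
  obtain ⟨a, ha⟩ := h
  refine ⟨T m + T 1 * a, ?_⟩
  rw [T_add, Derivation.leibniz, ha, add_smul, mul_smul]

lemma bwd (m : ℤ)
    (h : ∃ a : LaurentPolynomial k, KaehlerDifferential.D k (LaurentPolynomial k) (T (m + 1)) =
      a • KaehlerDifferential.D k (LaurentPolynomial k) (T 1)) :
    ∃ a : LaurentPolynomial k, KaehlerDifferential.D k (LaurentPolynomial k) (T m) =
      a • KaehlerDifferential.D k (LaurentPolynomial k) (T 1) := by
  obtain ⟨a, ha⟩ := h
  refine ⟨T (-1) * (a - T m), ?_⟩
  rw [T_add, Derivation.leibniz] at ha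
  have h2 : (T 1 : LaurentPolynomial k) • KaehlerDifferential.D k (LaurentPolynomial k) (T m) =
      (a - T m) • KaehlerDifferential.D k (LaurentPolynomial k) (T 1) := by
    rw [sub_smul, ← ha]
    exact (add_sub_cancel_left _ _).symm
  have h3 : (T (-1) * T 1 : LaurentPolynomial k) = 1 := by
    rw [← T_add]; simp
  calc KaehlerDifferential.D k (LaurentPolynomial k) (T m)
      = (T (-1) * T 1 : LaurentPolynomial k) •
          KaehlerDifferential.D k (LaurentPolynomial k) (T m) := by rw [h3, one_smul]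
    _ = (T (-1) * (a - T m)) • KaehlerDifferential.D k (LaurentPolynomial k) (T 1) := by
        rw [mul_smul, h2, mul_smul]

lemma D_T_mem (n : ℤ) :
    ∃ a : LaurentPolynomial k, KaehlerDifferential.D k (LaurentPolynomial k) (T n) =
      a • KaehlerDifferential.D k (LaurentPolynomial k) (T 1) := by
  induction n using Int.induction_on with
  | zero =>
    refine ⟨0, ?_⟩
    rw [T_zero, Derivation.map_one_eq_zero, zero_smul]
  | succ i ih => exact fwd k _ ih
  | pred i ih =>
    apply bwd k
    rwa [sub_add_cancel]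

lemma D_mem (f : LaurentPolynomial k) :
    ∃ a : LaurentPolynomial k, KaehlerDifferential.D k (LaurentPolynomial k) f =
      a • KaehlerDifferential.D k (LaurentPolynomial k) (T 1) := by
  induction f using AddMonoidAlgebra.induction_linear with
  | zero => exact ⟨0, by rw [map_zero, zero_smul]⟩
  | add x y hx hy =>
    obtain ⟨a, ha⟩ := hx
    obtain ⟨b, hb⟩ := hy
    exact ⟨a + b, by rw [map_add, ha, hb, add_smul]⟩
  | single n r =>
    obtain ⟨a, ha⟩ := D_T_mem k n
    refine ⟨r • a, ?_⟩
    have : (AddMonoidAlgebra.single n r : LaurentPolynomial k) = r • T n := by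
      show _ = r • AddMonoidAlgebra.single n 1
      rw [AddMonoidAlgebra.smul_single, smul_eq_mul, mul_one]
    rw [this, Derivation.map_smul, ha, smul_assoc]

lemma exists_eq_smul_dT (ω : Ω[LaurentPolynomial k⁄k]) :
    ∃ a : LaurentPolynomial k, ω = a • KaehlerDifferential.D k (LaurentPolynomial k) (T 1) := by
  have hω : ω ∈ Submodule.span (LaurentPolynomial k)
      (Set.range (KaehlerDifferential.D k (LaurentPolynomial k))) := by
    rw [KaehlerDifferential.span_range_derivation]; trivial
  induction hω using Submodule.span_induction with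
  | mem x hx =>
    obtain ⟨f, rfl⟩ := hx
    exact D_mem k f
  | zero => exact ⟨0, by rw [zero_smul]⟩
  | add x y _ _ hx hy =>
    obtain ⟨a, rfl⟩ := hx
    obtain ⟨b, rfl⟩ := hy
    exact ⟨a + b, by rw [add_smul]⟩
  | smul c x _ hx =>
    obtain ⟨a, rfl⟩ := hx
    exact ⟨c * a, by rw [mul_smul]⟩

lemma φ_smul_dT (a : LaurentPolynomial k) :
    φ k (a • KaehlerDifferential.D k (LaurentPolynomial k) (T 1)) = a * T 1 := by
  rw [map_smul, φ_D, E_T_one, smul_eq_mul]

lemma φ_injective : Function.Injective (φ k) := by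
  rw [injective_iff_map_eq_zero]
  intro ω hω
  obtain ⟨a, rfl⟩ := exists_eq_smul_dT k ω
  rw [φ_smul_dT] at hω
  have : a = a * T 1 * T (-1) := by
    rw [mul_assoc, ← T_add]; simp
  rw [this, hω, zero_mul, zero_smul]

lemma φ_surjective : Function.Surjective (φ k) := by
  intro b
  refine ⟨(b * T (-1)) • KaehlerDifferential.D k (LaurentPolynomial k) (T 1), ?_⟩
  rw [φ_smul_dT, mul_assoc, ← T_add]; simp

/-- `Ω ≃ A`. -/
noncomputable def φEquiv : Ω[LaurentPolynomial k⁄k] ≃ₗ[LaurentPolynomial k] LaurentPolynomial k :=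
  LinearEquiv.ofBijective (φ k) ⟨φ_injective k, φ_surjective k⟩

instance : Module.Free (LaurentPolynomial k) (Ω[LaurentPolynomial k⁄k]) :=
  Module.Free.of_equiv (φEquiv k).symm

instance : Module.Finite (LaurentPolynomial k) (Ω[LaurentPolynomial k⁄k]) :=
  Module.Finite.equiv (φEquiv k).symm

lemma finrank_Ω : Module.finrank (LaurentPolynomial k) (Ω[LaurentPolynomial k⁄k]) = 1 := by
  rw [LinearEquiv.finrank_eq (φEquiv k), Module.finrank_self]

lemma subsingleton_exteriorPower (i : ℕ) :
    Subsingleton (⋀[LaurentPolynomial k]^(i + 2) (Ω[LaurentPolynomial k⁄k])) := by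
  rw [← Module.finrank_eq_zero_iff_of_free (LaurentPolynomial k), exteriorPower.finrank_eq,
    finrank_Ω]
  exact Nat.choose_eq_zero_of_lt (by omega)

/-- The `1/n`-antiderivative for the Euler derivation. -/
noncomputable def Einv : LaurentPolynomial k →ₗ[k] LaurentPolynomial k :=
  wLin (fun n : ℤ => if n = 0 then 0 else ((n : k))⁻¹)

lemma E_Einv [CharZero k] (f : LaurentPolynomial k) :
    E k (Einv k f) = f - C (f.coeff 0) := by
  apply AddMonoidAlgebra.coeff_injective
  ext n
  rw [E_coeff, Einv, wLin_coeff]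
  show _ = (f - AddMonoidAlgebra.single (0 : ℤ) (f.coeff 0)).coeff n
  rw [AddMonoidAlgebra.coeff_sub, Finsupp.sub_apply, AddMonoidAlgebra.coeff_single,
    Finsupp.single_apply]
  by_cases hn : n = 0
  · subst hn; simp
  · rw [if_neg hn, if_neg (Ne.symm hn), sub_zero, ← mul_assoc,
      mul_inv_cancel₀ (by exact_mod_cast hn), one_mul]

end Groth.Agent.Lib.Helper29.LaurentDR
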