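import Mathlib

set_option autoImplicit false

namespace Groth.Agent.Lib.Helper29.LexHilb

open Polynomial

/-- `α_n(P) = n! · coeff_n P`. -/
noncomputable def A (P : ℚ[X]) (n : ℕ) : ℚ := P.coeff n * (n.factorial : ℚ)

lemma A_ne_zero (P : ℚ[X]) (d : ℕ) (hP : P.natDegree = d) (hP0 : P ≠ 0) : A P d ≠ 0 := by
  unfold A
  refine mul_ne_zero ?_ (by positivity)
  rw [← hP, coeff_natDegree]
  exact leadingCoeff_ne_zero.mpr hP0

lemma coeff_comp_sub (P : ℚ[X]) (a : ℚ) (n : ℕ) :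
    (P.comp (X - C a)).coeff n
      = ∑ i ∈ Finset.range (P.natDegree + 1), (i.choose n : ℚ) * P.coeff i * (-a) ^ (i - n) := by
  have h1 : P.comp (X - C a) = taylor (-a) P := by
    rw [taylor_apply, C_neg, ← sub_eq_add_neg]
  rw [h1, taylor_coeff, hasseDeriv_apply, Polynomial.sum_over_range _ (by intro k; simp),
    eval_finset_sum]
  refine Finset.sum_congr rfl fun i _ => ?_
  rw [eval_monomial]

lemma A_delta (P : ℚ[X]) (a : ℚ) (d n : ℕ) (hP : P.natDegree = d) (hn : n < d) :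
    A (P - P.comp (X - C a)) n
      = - ∑ s ∈ Finset.range (d - n),
          A P (n + 1 + s) * ((-a) ^ (s + 1) / ((s + 1).factorial : ℚ)) := by
  unfold A
  rw [coeff_sub, coeff_comp_sub, hP]
  rw [← Finset.sum_range_add_sum_Ico _ (show n + 1 ≤ d + 1 by omega)]
  have h1 : ∑ i ∈ Finset.range (n + 1), (i.choose n : ℚ) * P.coeff i * (-a) ^ (i - n)
      = P.coeff n := by
    rw [Finset.sum_eq_single_of_mem n (Finset.mem_range.mpr (Nat.lt_succ_self n))]
    · simp
    · intro i hi hne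
      have : i < n := by have := Finset.mem_range.mp hi; omega
      rw [Nat.choose_eq_zero_of_lt this]; simp
  rw [h1, Finset.sum_Ico_eq_sum_range]
  have h2 : d + 1 - (n + 1) = d - n := by omega
  rw [h2]
  have key : ∀ s : ℕ, ((n + 1 + s).choose n : ℚ) * P.coeff (n + 1 + s)
        * (-a) ^ (n + 1 + s - n) * (n.factorial : ℚ)
      = P.coeff (n + 1 + s) * ((n + 1 + s).factorial : ℚ)
        * ((-a) ^ (s + 1) / ((s + 1).factorial : ℚ)) := by
    intro s
    have e1 : n + 1 + s - n = s + 1 := by omega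
    have e2 : ((n + 1 + s).choose n : ℚ) * (n.factorial : ℚ) * ((s + 1).factorial : ℚ)
        = ((n + 1 + s).factorial : ℚ) := by
      have := Nat.choose_mul_factorial_mul_factorial (show n ≤ n + 1 + s by omega)
      rw [e1] at this
      exact_mod_cast this
    have e3 : ((s + 1).factorial : ℚ) ≠ 0 := by positivity
    rw [e1, ← e2]
    field_simp
  calc (P.coeff n - (P.coeff n + ∑ s ∈ Finset.range (d - n),
          ((n + 1 + s).choose n : ℚ) * P.coeff (n + 1 + s) * (-a) ^ (n + 1 + s - n)))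
          * (n.factorial : ℚ)
      = - ∑ s ∈ Finset.range (d - n), ((n + 1 + s).choose n : ℚ) * P.coeff (n + 1 + s)
          * (-a) ^ (n + 1 + s - n) * (n.factorial : ℚ) := by
        rw [← Finset.sum_mul]; ring
    _ = _ := by rw [Finset.sum_congr rfl fun s _ => key s]

lemma ratio_delta (P : ℚ[X]) (a : ℚ) (ha : a ≠ 0) (d : ℕ) (hP : P.natDegree = d) (hP0 : P ≠ 0)
    (j : ℕ) (hj : j + 2 ≤ d) :
    A (P - P.comp (X - C a)) (d - 1 - 1 - j) / A (P - P.comp (X - C a)) (d - 1)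
      = ∑ s ∈ Finset.range (j + 2),
          (A P (d - 1 - j + s) / A P d) * ((-a) ^ s / ((s + 1).factorial : ℚ)) := by
  have hAd : A P d ≠ 0 := A_ne_zero P d hP hP0
  rw [A_delta P a d (d - 1 - 1 - j) hP (by omega), A_delta P a d (d - 1) hP (by omega)]
  have e1 : d - (d - 1 - 1 - j) = j + 2 := by omega
  have e2 : d - (d - 1) = 1 := by omega
  rw [e1, e2, Finset.sum_range_one]
  have e3 : d - 1 + 1 + 0 = d := by omega
  rw [e3]
  simp only [zero_add, pow_one, Nat.factorial_one, Nat.cast_one, div_one]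
  rw [neg_div_neg_eq, Finset.sum_div]
  refine Finset.sum_congr rfl fun s _ => ?_
  have e4 : d - 1 - 1 - j + 1 + s = d - 1 - j + s := by omega
  rw [e4, pow_succ]
  have hna : (-a) ≠ 0 := neg_ne_zero.mpr ha
  have e5 : ((s + 1).factorial : ℚ) ≠ 0 := by positivity
  field_simp

lemma diff_eq (d ℓ : ℕ) (hℓ : ℓ + 1 ≤ d) (a : ℚ) (P Q : ℚ[X]) (hAP : A P d ≠ 0)
    (hAQ : A Q d ≠ 0) (j : Fin ℓ)
    (h : ∀ i : Fin ℓ, i < j → A P (d - 1 - i) / A P d = A Q (d - 1 - i) / A Q d) :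
    (∑ s ∈ Finset.range (j + 2),
        (A P (d - 1 - j + s) / A P d) * ((-a) ^ s / ((s + 1).factorial : ℚ)))
    - (∑ s ∈ Finset.range (j + 2),
        (A Q (d - 1 - j + s) / A Q d) * ((-a) ^ s / ((s + 1).factorial : ℚ)))
    = A P (d - 1 - j) / A P d - A Q (d - 1 - j) / A Q d := by
  rw [← Finset.sum_sub_distrib, Finset.sum_eq_single_of_mem 0 (Finset.mem_range.mpr (by omega))]
  · simp
  · intro s hs hs0
    obtain ⟨s', rfl⟩ := Nat.exists_eq_add_one_of_ne_zero hs0
    have hs' := Finset.mem_range.mp hs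
    have hj2 := j.2
    have hterm : A P (d - 1 - j + (s' + 1)) / A P d = A Q (d - 1 - j + (s' + 1)) / A Q d := by
      by_cases hsj : s' = j
      · have e : d - 1 - (j : ℕ) + (s' + 1) = d := by omega
        rw [e, div_self hAP, div_self hAQ]
      · have hlt : (j : ℕ) - 1 - s' < ℓ := by omega
        have := h ⟨j - 1 - s', hlt⟩ (by rw [Fin.lt_def]; simp only; omega)
        have e : d - 1 - (j : ℕ) + (s' + 1) = d - 1 - ((j : ℕ) - 1 - s') := by omega
        rw [e]; exact this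
    rw [hterm, sub_self]

lemma lex_fwd_lt {ℓ : ℕ} (u v u' v' : Fin ℓ → ℚ)
    (h : ∀ j : Fin ℓ, (∀ i : Fin ℓ, i < j → u i = v i) → u' j - v' j = u j - v j)
    (hlt : toLex u < toLex v) : toLex u' < toLex v' := by
  change ∃ i, (∀ j, j < i → u j = v j) ∧ u i < v i at hlt
  change ∃ i, (∀ j, j < i → u' j = v' j) ∧ u' i < v' i
  obtain ⟨j, hj1, hj2⟩ := hlt
  refine ⟨j, fun i hi => ?_, ?_⟩
  · have := h i (fun i' hi' => hj1 i' (lt_trans hi' hi))
    rw [hj1 i hi, sub_self] at this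
    linarith
  · have := h j hj1
    linarith

lemma lex_iff {ℓ : ℕ} (u v u' v' : Fin ℓ → ℚ)
    (h : ∀ j : Fin ℓ, (∀ i : Fin ℓ, i < j → u i = v i) → u' j - v' j = u j - v j) :
    toLex u ≤ toLex v ↔ toLex u' ≤ toLex v' := by
  constructor
  · intro hle
    rcases lt_or_eq_of_le hle with hlt | heq
    · exact (lex_fwd_lt u v u' v' h hlt).le
    · have huv : u = v := toLex_inj.mp heq
      have : u' = v' := by
        funext j
        have := h j (fun i _ => by rw [huv])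
        rw [huv, sub_self] at this
        linarith
      rw [this]
  · intro hle
    by_contra hnot
    have hlt : toLex v < toLex u := not_le.mp hnot
    have h' : ∀ j : Fin ℓ, (∀ i : Fin ℓ, i < j → v i = u i) → v' j - u' j = v j - u j := by
      intro j hj
      have := h j (fun i hi => (hj i hi).symm)
      linarith
    exact absurd hle (not_le.mpr (lex_fwd_lt v u v' u' h' hlt))

theorem main14997 (d ℓ : ℕ) (hℓ : ℓ + 1 ≤ d) (a : ℚ) (ha : a ≠ 0)
    (P Q : ℚ[X]) (hP : P.natDegree = d) (hQ : Q.natDegree = d) (hP0 : P ≠ 0) (hQ0 : Q ≠ 0) :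
    toLex (fun j : Fin ℓ => ((P).coeff (d - 1 - (j : ℕ)) * (Nat.factorial (d - 1 - (j : ℕ)) : ℚ)) / ((P).coeff (d) * (Nat.factorial (d) : ℚ))) ≤ toLex (fun j : Fin ℓ => ((Q).coeff (d - 1 - (j : ℕ)) * (Nat.factorial (d - 1 - (j : ℕ)) : ℚ)) / ((Q).coeff (d) * (Nat.factorial (d) : ℚ))) ↔
      toLex (fun j : Fin ℓ => ((P - P.comp (X - C a)).coeff ((d - 1) - 1 - (j : ℕ)) * (Nat.factorial ((d - 1) - 1 - (j : ℕ)) : ℚ)) / ((P - P.comp (X - C a)).coeff ((d - 1)) * (Nat.factorial ((d - 1)) : ℚ))) ≤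
        toLex (fun j : Fin ℓ => ((Q - Q.comp (X - C a)).coeff ((d - 1) - 1 - (j : ℕ)) * (Nat.factorial ((d - 1) - 1 - (j : ℕ)) : ℚ)) / ((Q - Q.comp (X - C a)).coeff ((d - 1)) * (Nat.factorial ((d - 1)) : ℚ))) := by
  have hAP : A P d ≠ 0 := A_ne_zero P d hP hP0
  have hAQ : A Q d ≠ 0 := A_ne_zero Q d hQ hQ0
  apply lex_iff
  intro j hj
  show A (P - P.comp (X - C a)) (d - 1 - 1 - j) / A (P - P.comp (X - C a)) (d - 1)
      - A (Q - Q.comp (X - C a)) (d - 1 - 1 - j) / A (Q - Q.comp (X - C a)) (d - 1)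
    = A P (d - 1 - j) / A P d - A Q (d - 1 - j) / A Q d
  rw [ratio_delta P a ha d hP hP0 j (by have := j.2; omega),
    ratio_delta Q a ha d hQ hQ0 j (by have := j.2; omega)]
  exact diff_eq d ℓ hℓ a P Q hAP hAQ j hj

end Groth.Agent.Lib.Helper29.LexHilb
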