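import Mathlib

/-!
# Coordinates in a free module / Lie algebra of rank three (helper29)

Small toolkit for explicit computations with Lie algebras that are free of rank three:
coordinates of a vector, comparison of coefficients and the expansion of a bracket of two
linear combinations of three elements.
-/

set_option autoImplicit false
universe u v

namespace Groth.Agent.Lib.Helper29.Lie3Coord

section Basis

variable {R : Type u} [CommRing R] {M : Type v} [AddCommGroup M] [Module R M]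

lemma exists_coords (bs : Module.Basis (Fin 3) R M) (m : M) :
    ∃ m0 m1 m2 : R, m = m0 • bs 0 + m1 • bs 1 + m2 • bs 2 := by
  refine ⟨bs.repr m 0, bs.repr m 1, bs.repr m 2, ?_⟩
  conv_lhs => rw [← bs.sum_repr m, Fin.sum_univ_three]

lemma comb_eq_zero (bs : Module.Basis (Fin 3) R M) {r0 r1 r2 : R}
    (h : r0 • bs 0 + r1 • bs 1 + r2 • bs 2 = 0) : r0 = 0 ∧ r1 = 0 ∧ r2 = 0 := by
  have h1 := Fintype.linearIndependent_iff.1 bs.linearIndependent ![r0, r1, r2]
    (by rw [Fin.sum_univ_three]; exact h)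
  exact ⟨h1 0, h1 1, h1 2⟩

lemma comb_eq (bs : Module.Basis (Fin 3) R M) {r0 r1 r2 s0 s1 s2 : R}
    (h : r0 • bs 0 + r1 • bs 1 + r2 • bs 2 = s0 • bs 0 + s1 • bs 1 + s2 • bs 2) :
    r0 = s0 ∧ r1 = s1 ∧ r2 = s2 := by
  have h' : (r0 - s0) • bs 0 + (r1 - s1) • bs 1 + (r2 - s2) • bs 2 = 0 := by
    have h0 := sub_eq_zero.2 h
    rw [← h0]
    module
  obtain ⟨e0, e1, e2⟩ := comb_eq_zero bs h'
  exact ⟨sub_eq_zero.1 e0, sub_eq_zero.1 e1, sub_eq_zero.1 e2⟩

end Basis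

section Lie

variable {R : Type u} [CommRing R] {L : Type v} [LieRing L] [LieAlgebra R L]

lemma bracket_comb (x y z : L) (u0 u1 u2 v0 v1 v2 : R) :
    ⁅u0 • x + u1 • y + u2 • z, v0 • x + v1 • y + v2 • z⁆ =
      (u0 * v1 - u1 * v0) • ⁅x, y⁆ + (u0 * v2 - u2 * v0) • ⁅x, z⁆ +
        (u1 * v2 - u2 * v1) • ⁅y, z⁆ := by
  have hyx : ⁅y, x⁆ = -⁅x, y⁆ := neg_eq_iff_eq_neg.1 (lie_skew x y)
  have hzx : ⁅z, x⁆ = -⁅x, z⁆ := neg_eq_iff_eq_neg.1 (lie_skew x z)
  have hzy : ⁅z, y⁆ = -⁅y, z⁆ := neg_eq_iff_eq_neg.1 (lie_skew y z)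
  simp only [add_lie, lie_add, smul_lie, lie_smul, lie_self, hyx, hzx, hzy]
  module

end Lie

end Groth.Agent.Lib.Helper29.Lie3Coord
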