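import Mathlib

/-!
# Three-dimensional Lie algebras with a basis: the matrices of `ad` (helper29)

For a Lie algebra `L` over a commutative ring `S` with a basis `bs : Fin 3 → L` and structure constants
`[x,y] = p`, `[x,z] = q`, `[y,z] = r` the matrices of `ad x`, `ad y`, `ad z` are explicit, `ad` of a general
element is the corresponding combination, and the Jacobi identity becomes three scalar identities.
-/

set_option autoImplicit false
universe u v

namespace Groth.Agent.Lib.Helper29.Lie3Mat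

attribute [local instance 100] LieRing.ofAssociativeRing

section Mat3

variable {α : Type u}

lemma mat3_ext {a11 a12 a13 a21 a22 a23 a31 a32 a33 b11 b12 b13 b21 b22 b23 b31 b32 b33 : α}
    (h11 : a11 = b11) (h12 : a12 = b12) (h13 : a13 = b13) (h21 : a21 = b21) (h22 : a22 = b22)
    (h23 : a23 = b23) (h31 : a31 = b31) (h32 : a32 = b32) (h33 : a33 = b33) :
    !![a11, a12, a13; a21, a22, a23; a31, a32, a33] =
      !![b11, b12, b13; b21, b22, b23; b31, b32, b33] := by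
  rw [h11, h12, h13, h21, h22, h23, h31, h32, h33]

lemma smul_mat3 [Mul α] (s a11 a12 a13 a21 a22 a23 a31 a32 a33 : α) :
    s • !![a11, a12, a13; a21, a22, a23; a31, a32, a33] =
      !![s * a11, s * a12, s * a13; s * a21, s * a22, s * a23; s * a31, s * a32, s * a33] := by
  ext r c
  fin_cases r <;> fin_cases c <;> rfl

lemma add_mat3 [Add α] (a11 a12 a13 a21 a22 a23 a31 a32 a33 b11 b12 b13 b21 b22 b23 b31 b32 b33 : α) :
    !![a11, a12, a13; a21, a22, a23; a31, a32, a33] + !![b11, b12, b13; b21, b22, b23; b31, b32, b33] =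
      !![a11 + b11, a12 + b12, a13 + b13; a21 + b21, a22 + b22, a23 + b23;
        a31 + b31, a32 + b32, a33 + b33] := by
  ext r c
  fin_cases r <;> fin_cases c <;> rfl

lemma zero3 [Zero α] : (!![0, 0, 0; 0, 0, 0; 0, 0, 0] : Matrix (Fin 3) (Fin 3) α) = 0 := by
  ext r c
  fin_cases r <;> fin_cases c <;> rfl

lemma col_ext (M N : Matrix (Fin 3) (Fin 3) α)
    (h0 : ∀ r, M r 0 = N r 0) (h1 : ∀ r, M r 1 = N r 1) (h2 : ∀ r, M r 2 = N r 2) : M = N := by
  ext r c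
  fin_cases c
  · exact h0 r
  · exact h1 r
  · exact h2 r

end Mat3

section General

variable {S : Type u} [CommRing S] {L : Type v} [LieRing L] [LieAlgebra S L]
variable (bs : Module.Basis (Fin 3) S L)

/-- the combination matrix `u0 • ad x + u1 • ad y + u2 • ad z` -/
def combM (p0 p1 p2 q0 q1 q2 r0 r1 r2 u0 u1 u2 : S) : Matrix (Fin 3) (Fin 3) S :=
  !![-(u1 * p0) - u2 * q0, u0 * p0 - u2 * r0, u0 * q0 + u1 * r0;
     -(u1 * p1) - u2 * q1, u0 * p1 - u2 * r1, u0 * q1 + u1 * r1;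
     -(u1 * p2) - u2 * q2, u0 * p2 - u2 * r2, u0 * q2 + u1 * r2]

lemma comb_eq (p0 p1 p2 q0 q1 q2 r0 r1 r2 u0 u1 u2 : S) :
    u0 • !![0, p0, q0; 0, p1, q1; 0, p2, q2] + u1 • !![-p0, 0, r0; -p1, 0, r1; -p2, 0, r2] +
      u2 • !![-q0, -r0, 0; -q1, -r1, 0; -q2, -r2, 0] =
    combM p0 p1 p2 q0 q1 q2 r0 r1 r2 u0 u1 u2 := by
  unfold combM
  rw [smul_mat3, smul_mat3, smul_mat3, add_mat3, add_mat3]
  exact mat3_ext (by ring) (by ring) (by ring) (by ring) (by ring) (by ring) (by ring) (by ring)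
    (by ring)

/-- matrix of `ad u` in the basis `bs` -/
noncomputable def adM (u : L) : Matrix (Fin 3) (Fin 3) S :=
  LinearMap.toMatrix bs bs (LieAlgebra.ad S L u)

lemma adM_apply (u : L) (r c : Fin 3) : adM bs u r c = bs.repr ⁅u, bs c⁆ r := by
  unfold adM
  rw [LinearMap.toMatrix_apply, LieAlgebra.ad_apply]

lemma adM_zero : adM bs (0 : L) = 0 := by
  unfold adM; rw [map_zero, map_zero]

lemma adM_add (u w : L) : adM bs (u + w) = adM bs u + adM bs w := by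
  unfold adM; rw [map_add, map_add]

lemma adM_smul (s : S) (u : L) : adM bs (s • u) = s • adM bs u := by
  unfold adM; rw [map_smul, map_smul]

lemma adM_lie (u w : L) : adM bs ⁅u, w⁆ = adM bs u * adM bs w - adM bs w * adM bs u := by
  unfold adM
  rw [LieHom.map_lie, Ring.lie_def, map_sub, LinearMap.toMatrix_mul, LinearMap.toMatrix_mul]

lemma adM_pow_eq_iff (u w : L) (n : ℕ) :
    (LieAlgebra.ad S L u) ^ n = LieAlgebra.ad S L w ↔ (adM bs u) ^ n = adM bs w := by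
  unfold adM
  rw [LinearMap.toMatrix_pow]
  exact ((LinearMap.toMatrix bs bs).injective.eq_iff).symm

lemma adM_repr (w : L) : adM bs w =
    bs.repr w 0 • adM bs (bs 0) + bs.repr w 1 • adM bs (bs 1) + bs.repr w 2 • adM bs (bs 2) := by
  conv_lhs => rw [← bs.sum_repr w, Fin.sum_univ_three]
  rw [adM_add, adM_add, adM_smul, adM_smul, adM_smul]

lemma repr_comb (A B C : S) (r : Fin 3) :
    bs.repr (A • bs 0 + B • bs 1 + C • bs 2) r = ![A, B, C] r := by
  have h : bs.repr (A • bs 0 + B • bs 1 + C • bs 2) =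
      Finsupp.single 0 A + Finsupp.single 1 B + Finsupp.single 2 C := by
    simp only [map_add, map_smul, Module.Basis.repr_self, Finsupp.smul_single, smul_eq_mul, mul_one]
  rw [h]
  fin_cases r <;> simp [Finsupp.single_apply]

lemma neg_comb (A B C : S) :
    -(A • bs 0 + B • bs 1 + C • bs 2) = (-A) • bs 0 + (-B) • bs 1 + (-C) • bs 2 := by
  rw [neg_add, neg_add, neg_smul, neg_smul, neg_smul]

lemma adM_bs0 {p0 p1 p2 q0 q1 q2 : S}
    (hxy : ⁅bs 0, bs 1⁆ = p0 • bs 0 + p1 • bs 1 + p2 • bs 2)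
    (hxz : ⁅bs 0, bs 2⁆ = q0 • bs 0 + q1 • bs 1 + q2 • bs 2) :
    adM bs (bs 0) = !![0, p0, q0; 0, p1, q1; 0, p2, q2] := by
  refine col_ext _ _ (fun r => ?_) (fun r => ?_) (fun r => ?_)
  · rw [adM_apply, lie_self, map_zero]
    fin_cases r <;> first | rfl | simp
  · rw [adM_apply, hxy, repr_comb]
    fin_cases r <;> first | rfl | simp
  · rw [adM_apply, hxz, repr_comb]
    fin_cases r <;> first | rfl | simp

lemma adM_bs1 {p0 p1 p2 r0 r1 r2 : S}
    (hxy : ⁅bs 0, bs 1⁆ = p0 • bs 0 + p1 • bs 1 + p2 • bs 2)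
    (hyz : ⁅bs 1, bs 2⁆ = r0 • bs 0 + r1 • bs 1 + r2 • bs 2) :
    adM bs (bs 1) = !![-p0, 0, r0; -p1, 0, r1; -p2, 0, r2] := by
  refine col_ext _ _ (fun r => ?_) (fun r => ?_) (fun r => ?_)
  · rw [adM_apply, ← lie_skew (bs 1) (bs 0), hxy, neg_comb, repr_comb]
    fin_cases r <;> first | rfl | simp
  · rw [adM_apply, lie_self, map_zero]
    fin_cases r <;> first | rfl | simp
  · rw [adM_apply, hyz, repr_comb]
    fin_cases r <;> first | rfl | simp

lemma adM_bs2 {q0 q1 q2 r0 r1 r2 : S}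
    (hxz : ⁅bs 0, bs 2⁆ = q0 • bs 0 + q1 • bs 1 + q2 • bs 2)
    (hyz : ⁅bs 1, bs 2⁆ = r0 • bs 0 + r1 • bs 1 + r2 • bs 2) :
    adM bs (bs 2) = !![-q0, -r0, 0; -q1, -r1, 0; -q2, -r2, 0] := by
  refine col_ext _ _ (fun r => ?_) (fun r => ?_) (fun r => ?_)
  · rw [adM_apply, ← lie_skew (bs 2) (bs 0), hxz, neg_comb, repr_comb]
    fin_cases r <;> first | rfl | simp
  · rw [adM_apply, ← lie_skew (bs 2) (bs 1), hyz, neg_comb, repr_comb]
    fin_cases r <;> first | rfl | simp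
  · rw [adM_apply, lie_self, map_zero]
    fin_cases r <;> first | rfl | simp

lemma adM_eq_comb {p0 p1 p2 q0 q1 q2 r0 r1 r2 : S}
    (hxy : ⁅bs 0, bs 1⁆ = p0 • bs 0 + p1 • bs 1 + p2 • bs 2)
    (hxz : ⁅bs 0, bs 2⁆ = q0 • bs 0 + q1 • bs 1 + q2 • bs 2)
    (hyz : ⁅bs 1, bs 2⁆ = r0 • bs 0 + r1 • bs 1 + r2 • bs 2) (w : L) :
    adM bs w = combM p0 p1 p2 q0 q1 q2 r0 r1 r2 (bs.repr w 0) (bs.repr w 1) (bs.repr w 2) := by
  rw [adM_repr, adM_bs0 bs hxy hxz, adM_bs1 bs hxy hyz, adM_bs2 bs hxz hyz, comb_eq]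

/-- the Jacobi identity for `x, y, z` in terms of the structure constants -/
lemma jacobi_scalar {p0 p1 p2 q0 q1 q2 r0 r1 r2 : S}
    (hxy : ⁅bs 0, bs 1⁆ = p0 • bs 0 + p1 • bs 1 + p2 • bs 2)
    (hxz : ⁅bs 0, bs 2⁆ = q0 • bs 0 + q1 • bs 1 + q2 • bs 2)
    (hyz : ⁅bs 1, bs 2⁆ = r0 • bs 0 + r1 • bs 1 + r2 • bs 2) :
    (p0 * q0 + p1 * r0 = p0 * r1 + q0 * r2 + p0 * q0 - r0 * q2) ∧
    (p0 * q1 + p1 * r1 = p1 * r1 + q1 * r2 + p1 * q0 - r1 * q2) ∧
    (p0 * q2 + p1 * r2 = p2 * r1 + q2 * r2 + p2 * q0 - r2 * q2) := by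
  have h := adM_lie bs (bs 0) (bs 1)
  rw [hxy, adM_add, adM_add, adM_smul, adM_smul, adM_smul, adM_bs0 bs hxy hxz, adM_bs1 bs hxy hyz,
    adM_bs2 bs hxz hyz, comb_eq, Matrix.mul_fin_three, Matrix.mul_fin_three] at h
  have h02 : p0 * q0 + p1 * r0 = (0 * r0 + p0 * r1 + q0 * r2) - (-p0 * q0 + 0 * q1 + r0 * q2) :=
    congrFun (congrFun h 0) 2
  have h12 : p0 * q1 + p1 * r1 = (0 * r0 + p1 * r1 + q1 * r2) - (-p1 * q0 + 0 * q1 + r1 * q2) :=
    congrFun (congrFun h 1) 2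
  have h22 : p0 * q2 + p1 * r2 = (0 * r0 + p2 * r1 + q2 * r2) - (-p2 * q0 + 0 * q1 + r2 * q2) :=
    congrFun (congrFun h 2) 2
  exact ⟨by linear_combination h02, by linear_combination h12, by linear_combination h22⟩

end General

section Dual

variable {K : Type u} [Field K]

lemma fst_eq {x y : DualNumber K} (h : x = y) {α β : K} (hx : x.fst = α) (hy : y.fst = β) :
    α = β := by rw [← hx, ← hy, h]

lemma snd_eq {x y : DualNumber K} (h : x = y) {α β : K} (hx : x.snd = α) (hy : y.snd = β) :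
    α = β := by rw [← hx, ← hy, h]

lemma prime_cases {p : ℕ} (hp : p.Prime) : p = 2 ∨ p = 3 ∨ 5 ≤ p := by
  have h2 := hp.two_le
  have h4 : p ≠ 4 := by
    rintro rfl
    exact absurd hp (by norm_num)
  omega

end Dual

end Groth.Agent.Lib.Helper29.Lie3Mat
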