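import Groth.Agent.Lib.Helper29.HomogSq
import Groth.Agent.Lib.Helper8.SmoothLocusBC
import Groth.Agent.Lib.Helper8.FiberMapPt
import Groth.Agent.Lib.Helper9.FppfSource

/-!
# Homogeneity of the loci of a homomorphism of group schemes (helper29)

`Loc P f`: points having an open neighbourhood on which `f` has `P`.  For a homomorphism
`u : G ⟶ H` of `S`-group schemes the loci `Loc P u` for `P` = lft, lfp (`G` flat lfp), smooth
(`G` flat, `u` lfp), formally unramified (`u` lft), étale, locally quasi-finite (`u` lft) are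
unions of fibres of `G ⟶ S` (SGA3 VI_B 1.3 / 2.5), by the universal-point squares of `HomogSq`.
The lfp / lft loci use helper9's fppf-locality on the source.  (This file lives on the `FppfSource`
side of the import conflict with helper14's `FlatOpen`; it repeats the `Loc` lemmas of
`FibHomSmooth` / `FibHomQF`.)
-/

set_option autoImplicit false
set_option maxHeartbeats 1600000
set_option linter.style.haveILetI false
universe u
open CategoryTheory CategoryTheory.Limits MonoidalCategory CartesianMonoidalCategory MonObj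
  AlgebraicGeometry

namespace Groth.Agent.Lib.Helper29.LocHomog

open Groth.Agent.Lib.Helper29.HomogSq Groth.Agent.Lib.Helper8

/-- the locus of points with an open neighbourhood on which `f` has `P`. -/
def Loc (P : MorphismProperty Scheme.{u}) {X Y : Scheme.{u}} (f : X ⟶ Y) : Set X :=
  {x | ∃ W : X.Opens, x ∈ W ∧ P (W.ι ≫ f)}

theorem isOpen_Loc (P : MorphismProperty Scheme.{u}) {X Y : Scheme.{u}} (f : X ⟶ Y) :
    IsOpen (Loc P f) := by
  rw [isOpen_iff_forall_mem_open]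
  rintro x ⟨W, hxW, hW⟩
  exact ⟨W, fun y hy => ⟨W, hy, hW⟩, W.2, hxW⟩

theorem mem_Loc_of (P : MorphismProperty Scheme.{u}) [IsZariskiLocalAtSource P]
    {X Y : Scheme.{u}} {f : X ⟶ Y} (h : P f) (x : X) : x ∈ Loc P f :=
  ⟨⊤, trivial, IsZariskiLocalAtSource.comp h _⟩

theorem of_forall_mem_Loc (P : MorphismProperty Scheme.{u}) [IsZariskiLocalAtSource P]
    {X Y : Scheme.{u}} {f : X ⟶ Y} (h : ∀ x : X, x ∈ Loc P f) : P f := by
  choose W hW1 hW2 using h
  refine IsZariskiLocalAtSource.of_iSup_eq_top W (top_le_iff.mp fun x _ ↦ ?_) hW2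
  simpa using ⟨x, hW1 x⟩

theorem Loc_baseChange (P : MorphismProperty Scheme.{u}) [P.IsStableUnderBaseChange]
    {X' X Y' Y : Scheme.{u}} {g' : X' ⟶ X} {f' : X' ⟶ Y'} {f : X ⟶ Y} {g : Y' ⟶ Y}
    (h : IsPullback g' f' f g) (x' : X') (hx : g' x' ∈ Loc P f) : x' ∈ Loc P f' := by
  obtain ⟨W, hxW, hW⟩ := hx
  have h1 : IsPullback (g' ∣_ W) (g' ⁻¹ᵁ W).ι W.ι g' := isPullback_morphismRestrict g' W
  have h2 : IsPullback (g' ∣_ W) ((g' ⁻¹ᵁ W).ι ≫ f') (W.ι ≫ f) g := h1.paste_vert h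
  exact ⟨g' ⁻¹ᵁ W, hxW, MorphismProperty.of_isPullback (P := P) h2 hW⟩

theorem mem_Loc_smooth_iff {X Y : Scheme.{u}} (f : X ⟶ Y) [LocallyOfFinitePresentation f]
    (x : X) : x ∈ Loc @Smooth f ↔ x ∈ f.smoothLocus :=
  LiftCrit.exists_smooth_nhd_iff f x

theorem Loc_smooth_descend {X' X Y' Y : Scheme.{u}} {g' : X' ⟶ X} {f' : X' ⟶ Y'} {f : X ⟶ Y}
    {g : Y' ⟶ Y} (h : IsPullback g' f' f g) [LocallyOfFinitePresentation f] [Flat g] (x' : X')
    (hx' : x' ∈ Loc @Smooth f') : g' x' ∈ Loc @Smooth f := by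
  haveI : LocallyOfFinitePresentation f' :=
    MorphismProperty.of_isPullback (P := @LocallyOfFinitePresentation) h inferInstance
  rw [mem_Loc_smooth_iff] at hx' ⊢
  exact (SmoothLocusBC.mem_smoothLocus_iff_of_isPullback f g f' g' h (Or.inr inferInstance) x').1
    hx'

theorem Loc_unram_descend {X' X Y' Y : Scheme.{u}} {g' : X' ⟶ X} {f' : X' ⟶ Y'} {f : X ⟶ Y}
    {g : Y' ⟶ Y} (h : IsPullback g' f' f g) [LocallyOfFiniteType f] (x' : X')
    (hx' : x' ∈ Loc @FormallyUnramified f') : g' x' ∈ Loc @FormallyUnramified f := by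
  obtain ⟨W', hxW', hW'⟩ := hx'
  let e := h.isoPullback
  have he1 : e.hom ≫ pullback.fst f g = g' := h.isoPullback_hom_fst
  have he2 : e.inv ≫ f' = pullback.snd f g := h.isoPullback_inv_snd
  refine UnramNhd.exists_unramified_nhd_of_cover f (g' x') g (e.inv ⁻¹ᵁ W') (e.hom x') ?_ ?_ ?_
  · show e.inv (e.hom x') ∈ W'
    rw [← Scheme.Hom.comp_apply, e.hom_inv_id]
    exact hxW'
  · rw [← Scheme.Hom.comp_apply, he1]
  · have h1 : (e.inv ⁻¹ᵁ W').ι ≫ pullback.snd f g = (e.inv ∣_ W') ≫ (W'.ι ≫ f') := by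
      rw [← Category.assoc, morphismRestrict_ι, Category.assoc, he2]
    rw [h1]
    haveI : IsIso (e.inv ∣_ W') := inferInstance
    haveI : FormallyUnramified (e.inv ∣_ W') := inferInstance
    exact MorphismProperty.comp_mem _ _ _ inferInstance hW'

theorem Loc_etale_eq {X Y : Scheme.{u}} (f : X ⟶ Y) :
    Loc @Etale f = Loc @Smooth f ∩ Loc @FormallyUnramified f := by
  ext x
  constructor
  · rintro ⟨W, hxW, hW⟩
    haveI := hW
    exact ⟨⟨W, hxW, inferInstance⟩, ⟨W, hxW, inferInstance⟩⟩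
  · rintro ⟨h1, h2⟩
    exact FiberMapPt.exists_etale_nhd_of_smooth_of_unramified f x h1 h2

theorem qfAt_iff {X Y : Scheme.{u}} (f : X ⟶ Y) [LocallyOfFiniteType f] (x : X) (y : Y)
    (hxy : f x = y) :
    f.QuasiFiniteAt x ↔ IsOpen ({(f.fiberHomeo y).symm ⟨x, hxy⟩} : Set (f.fiber y)) := by
  subst hxy
  exact Scheme.Hom.quasiFiniteAt_iff_isOpen_singleton_asFiber

theorem quasiFiniteAt_descend {X' X Y' Y : Scheme.{u}} {g' : X' ⟶ X} {f' : X' ⟶ Y'} {f : X ⟶ Y}
    {g : Y' ⟶ Y} (h : IsPullback g' f' f g) [LocallyOfFiniteType f] (x' : X')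
    (hx' : f'.QuasiFiniteAt x') : f.QuasiFiniteAt (g' x') := by
  haveI : LocallyOfFiniteType f' :=
    MorphismProperty.of_isPullback (P := @LocallyOfFiniteType) h inferInstance
  have hxy : f (g' x') = g (f' x') := by
    rw [← Scheme.Hom.comp_apply, h.w, Scheme.Hom.comp_apply]
  rw [qfAt_iff f (g' x') (g (f' x')) hxy]
  rw [qfAt_iff f' x' (f' x') rfl] at hx'
  obtain ⟨φ, hpb, hφι⟩ : ∃ φ : f'.fiber (f' x') ⟶ f.fiber (g (f' x')),
      IsPullback φ (f'.fiberToSpecResidueField (f' x')) (f.fiberToSpecResidueField (g (f' x')))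
        (Spec.map (g.residueFieldMap (f' x'))) ∧
      φ ≫ f.fiberι (g (f' x')) = f'.fiberι (f' x') ≫ g' :=
    ⟨_, isPullback_fiberToSpecResidueField_of_isPullback h (f' x'), pullback.lift_fst _ _ _⟩
  haveI : UniversallyOpen (Spec.map (g.residueFieldMap (f' x'))) := inferInstance
  haveI hφo : UniversallyOpen φ :=
    MorphismProperty.of_isPullback (P := @UniversallyOpen) hpb.flip inferInstance
  have hpt : φ ((f'.fiberHomeo (f' x')).symm ⟨x', rfl⟩) =
      (f.fiberHomeo (g (f' x'))).symm ⟨g' x', hxy⟩ := by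
    apply (f.fiberι (g (f' x'))).isEmbedding.injective
    have e1 := congrArg
      (fun ψ : f'.fiber (f' x') ⟶ X => ψ ((f'.fiberHomeo (f' x')).symm ⟨x', rfl⟩)) hφι
    simp only [Scheme.Hom.comp_apply, Scheme.Hom.fiberι_fiberHomeo_symm] at e1
    simp only [Scheme.Hom.fiberι_fiberHomeo_symm]
    exact e1
  rw [← hpt, ← Set.image_singleton]
  exact φ.isOpenMap _ hx'

theorem mem_Loc_lqf_iff {X Y : Scheme.{u}} (f : X ⟶ Y) [LocallyOfFiniteType f] (x : X) :
    x ∈ Loc @LocallyQuasiFinite f ↔ f.QuasiFiniteAt x := by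
  constructor
  · rintro ⟨W, hxW, hW⟩
    haveI := hW
    have := (W.ι ≫ f).quasiFiniteAt ⟨x, hxW⟩
    rw [Scheme.Hom.quasiFiniteAt_comp_iff_of_isOpenImmersion] at this
    exact this
  · intro hx
    refine ⟨f.quasiFiniteLocus, hx, ?_⟩
    infer_instance

theorem Loc_lqf_descend {X' X Y' Y : Scheme.{u}} {g' : X' ⟶ X} {f' : X' ⟶ Y'} {f : X ⟶ Y}
    {g : Y' ⟶ Y} (h : IsPullback g' f' f g) [LocallyOfFiniteType f] (x' : X')
    (hx' : x' ∈ Loc @LocallyQuasiFinite f') : g' x' ∈ Loc @LocallyQuasiFinite f := by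
  haveI : LocallyOfFiniteType f' :=
    MorphismProperty.of_isPullback (P := @LocallyOfFiniteType) h inferInstance
  rw [mem_Loc_lqf_iff] at hx' ⊢
  exact quasiFiniteAt_descend h x' hx'

/-- the image of an open `W'` under a flat lfp morphism, with the induced fppf cover. -/
theorem exists_image_cover {X' X : Scheme.{u}} (g' : X' ⟶ X) [Flat g']
    [LocallyOfFinitePresentation g'] (W' : X'.Opens) :
    ∃ (U : X.Opens) (p : (W' : Scheme.{u}) ⟶ U), (U : Set X) = g' '' (W' : Set X') ∧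
      p ≫ U.ι = W'.ι ≫ g' ∧ Surjective p ∧ Flat p ∧ LocallyOfFinitePresentation p := by
  have hopen : IsOpen (g' '' (W' : Set X')) := g'.isOpenMap _ W'.2
  obtain ⟨U, hU⟩ : ∃ U : X.Opens, (U : Set X) = g' '' (W' : Set X') := ⟨⟨_, hopen⟩, rfl⟩
  have hrange : Set.range (W'.ι ≫ g') ⊆ Set.range U.ι := by
    rintro _ ⟨x, rfl⟩
    rw [Scheme.Opens.range_ι, hU]
    refine ⟨x.1, x.2, ?_⟩
    rw [Scheme.Hom.comp_apply]
    rfl
  obtain ⟨p, hp⟩ : ∃ p : (W' : Scheme.{u}) ⟶ U, p ≫ U.ι = W'.ι ≫ g' :=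
    ⟨IsOpenImmersion.lift U.ι (W'.ι ≫ g') hrange, IsOpenImmersion.lift_fac _ _ _⟩
  refine ⟨U, p, hU, hp, ⟨fun y => ?_⟩, ?_, ?_⟩
  · have hy2 : U.ι y ∈ (U : Set X) := by
      rw [← Scheme.Opens.range_ι]; exact ⟨y, rfl⟩
    rw [hU] at hy2
    obtain ⟨w, hw, hy⟩ := hy2
    refine ⟨⟨w, hw⟩, ?_⟩
    apply U.ι.isOpenEmbedding.injective
    have h3 := congrArg (fun ψ => ψ (⟨w, hw⟩ : W')) hp
    simp only [Scheme.Hom.comp_apply] at h3
    rw [h3]
    exact hy
  · exact MorphismProperty.of_postcomp (@Flat) (W' := @IsOpenImmersion) p U.ι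
      inferInstance (by rw [hp]; infer_instance)
  · exact MorphismProperty.of_postcomp (@LocallyOfFinitePresentation)
      (W' := @IsOpenImmersion) p U.ι inferInstance (by rw [hp]; infer_instance)

theorem Loc_lfp_descend {X' X Y' Y : Scheme.{u}} {g' : X' ⟶ X} {f' : X' ⟶ Y'} {f : X ⟶ Y}
    {g : Y' ⟶ Y} (h : IsPullback g' f' f g) [Flat g] [LocallyOfFinitePresentation g] (x' : X')
    (hx' : x' ∈ Loc @LocallyOfFinitePresentation f') :
    g' x' ∈ Loc @LocallyOfFinitePresentation f := by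
  obtain ⟨W', hxW', hW'⟩ := hx'
  haveI : Flat g' := MorphismProperty.of_isPullback (P := @Flat) h.flip inferInstance
  haveI : LocallyOfFinitePresentation g' :=
    MorphismProperty.of_isPullback (P := @LocallyOfFinitePresentation) h.flip inferInstance
  obtain ⟨U, p, hU, hp, hp1, hp2, hp3⟩ := exists_image_cover g' W'
  haveI := hp1
  haveI := hp2
  haveI := hp3
  haveI := hW'
  haveI : LocallyOfFinitePresentation (p ≫ (U.ι ≫ f)) := by
    have e : p ≫ (U.ι ≫ f) = (W'.ι ≫ f') ≫ g := by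
      rw [← Category.assoc, hp, Category.assoc, h.w, Category.assoc]
    rw [e]
    infer_instance
  refine ⟨U, ?_, Groth.Agent.Lib.Helper9.FppfSource.lfp_of_comp p (U.ι ≫ f)⟩
  rw [← SetLike.mem_coe, hU]
  exact ⟨x', hxW', rfl⟩

theorem Loc_lft_descend {X' X Y' Y : Scheme.{u}} {g' : X' ⟶ X} {f' : X' ⟶ Y'} {f : X ⟶ Y}
    {g : Y' ⟶ Y} (h : IsPullback g' f' f g) [Flat g] [LocallyOfFinitePresentation g] (x' : X')
    (hx' : x' ∈ Loc @LocallyOfFiniteType f') :
    g' x' ∈ Loc @LocallyOfFiniteType f := by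
  obtain ⟨W', hxW', hW'⟩ := hx'
  haveI : Flat g' := MorphismProperty.of_isPullback (P := @Flat) h.flip inferInstance
  haveI : LocallyOfFinitePresentation g' :=
    MorphismProperty.of_isPullback (P := @LocallyOfFinitePresentation) h.flip inferInstance
  obtain ⟨U, p, hU, hp, hp1, hp2, hp3⟩ := exists_image_cover g' W'
  haveI := hp1
  haveI := hp2
  haveI := hp3
  haveI := hW'
  haveI : LocallyOfFiniteType (p ≫ (U.ι ≫ f)) := by
    have e : p ≫ (U.ι ≫ f) = (W'.ι ≫ f') ≫ g := by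
      rw [← Category.assoc, hp, Category.assoc, h.w, Category.assoc]
    rw [e]
    infer_instance
  refine ⟨U, ?_, Groth.Agent.Lib.Helper9.FppfSource.lft_of_comp p (U.ι ≫ f)⟩
  rw [← SetLike.mem_coe, hU]
  exact ⟨x', hxW', rfl⟩

section grp

variable {S : Scheme.{u}} {G H : Over S} [GrpObj G] [GrpObj H] (u : G ⟶ H) [IsMonHom u]

/-- the general homogeneity argument. -/
theorem Loc_homog (P : MorphismProperty Scheme.{u}) [P.IsStableUnderBaseChange]
    (hdesc : ∀ z : (G ⊗ G).left, z ∈ Loc P (G ◁ u).left → (μ[G]).left z ∈ Loc P u.left)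
    (x y : G.left) (hxy : G.hom x = G.hom y) (hx : x ∈ Loc P u.left) : y ∈ Loc P u.left := by
  obtain ⟨z, hz1, hz2⟩ := exists_preimage_of_isPullback (isPullback_snd_mul_left G) x y hxy
  have hz : z ∈ Loc P (G ◁ u).left := Loc_baseChange P (sq1 u) z (by rw [hz1]; exact hx)
  have := hdesc z hz
  rwa [hz2] at this

theorem Loc_lfp_homog [Flat G.hom] [LocallyOfFinitePresentation G.hom] (x y : G.left)
    (hxy : G.hom x = G.hom y) (hx : x ∈ Loc @LocallyOfFinitePresentation u.left) :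
    y ∈ Loc @LocallyOfFinitePresentation u.left := by
  haveI : Flat (tw u).left := prop_tw_left u @Flat inferInstance
  haveI : LocallyOfFinitePresentation (tw u).left :=
    prop_tw_left u @LocallyOfFinitePresentation inferInstance
  exact Loc_homog u _ (fun z hz => Loc_lfp_descend (sq2 u) z hz) x y hxy hx

theorem Loc_lft_homog [Flat G.hom] [LocallyOfFinitePresentation G.hom] (x y : G.left)
    (hxy : G.hom x = G.hom y) (hx : x ∈ Loc @LocallyOfFiniteType u.left) :
    y ∈ Loc @LocallyOfFiniteType u.left := by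
  haveI : Flat (tw u).left := prop_tw_left u @Flat inferInstance
  haveI : LocallyOfFinitePresentation (tw u).left :=
    prop_tw_left u @LocallyOfFinitePresentation inferInstance
  exact Loc_homog u _ (fun z hz => Loc_lft_descend (sq2 u) z hz) x y hxy hx

theorem Loc_smooth_homog [Flat G.hom] [LocallyOfFinitePresentation u.left] (x y : G.left)
    (hxy : G.hom x = G.hom y) (hx : x ∈ Loc @Smooth u.left) : y ∈ Loc @Smooth u.left := by
  haveI : Flat (tw u).left := prop_tw_left u @Flat inferInstance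
  exact Loc_homog u _ (fun z hz => Loc_smooth_descend (sq2 u) z hz) x y hxy hx

theorem Loc_unram_homog [LocallyOfFiniteType u.left] (x y : G.left)
    (hxy : G.hom x = G.hom y) (hx : x ∈ Loc @FormallyUnramified u.left) :
    y ∈ Loc @FormallyUnramified u.left :=
  Loc_homog u _ (fun z hz => Loc_unram_descend (sq2 u) z hz) x y hxy hx

theorem Loc_lqf_homog [LocallyOfFiniteType u.left] (x y : G.left)
    (hxy : G.hom x = G.hom y) (hx : x ∈ Loc @LocallyQuasiFinite u.left) :
    y ∈ Loc @LocallyQuasiFinite u.left :=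
  Loc_homog u _ (fun z hz => Loc_lqf_descend (sq2 u) z hz) x y hxy hx

end grp

end Groth.Agent.Lib.Helper29.LocHomog
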