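import Mathlib
import Groth.Prelude.Def_W4c5cptfessfintypeLocImm
import Groth.Agent.Lib.Helper27.LocImm
import Groth.Agent.Lib.Helper29.ClosedDesc

/-!
# Ideal sheaves extend along localizing immersions (S18206)
-/

set_option autoImplicit false
set_option maxHeartbeats 1600000
universe u
open CategoryTheory CategoryTheory.Limits AlgebraicGeometry Opposite

namespace Groth.Agent.Lib.Helper29.LocImmIdeal

open Scheme.IdealSheafData Groth.Agent.Lib.Helper29.ClosedDesc

/-- for a flat monomorphism `f` and an ideal sheaf `I` on the source whose closed subscheme is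
quasi-compact over the target, `I` is the pullback of its pushforward -/
theorem map_comap_eq_of_flat_of_mono {X Y : Scheme.{u}} (f : X ⟶ Y) [Flat f] [Mono f]
    (I : X.IdealSheafData) [QuasiCompact (I.subschemeι ≫ f)] :
    ((I.subschemeι ≫ f).ker).comap f = I := by
  rw [ker_comap_of_flat f (I.subschemeι ≫ f)]
  have H : IsPullback I.subschemeι (𝟙 _) f (I.subschemeι ≫ f) := by
    have h1 : IsPullback I.subschemeι (𝟙 _) (𝟙 X) I.subschemeι :=
      IsPullback.of_vert_isIso ⟨by simp⟩
    have h2 : IsPullback (𝟙 X) (𝟙 X) f f := IsKernelPair.id_of_mono f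
    simpa using h1.paste_horiz h2
  rw [← Scheme.Hom.ker_comp_of_isIso H.isoPullback.hom (pullback.fst f (I.subschemeι ≫ f)),
    H.isoPullback_hom_fst, ker_subschemeι]

/-- **S18206** -/
theorem main18206 {X Y : Scheme.{u}} [IsNoetherian X] [IsNoetherian Y]
    (f : X ⟶ Y) (hf : LocImm.IsLocImmersion f) (I : X.IdealSheafData) :
    ∃ J : Y.IdealSheafData, J.comap f = I := by
  haveI : Flat f := Groth.Agent.Lib.Helper27.LocImmLib.flat_of_isLocalizing f hf.1
  haveI : IsPreimmersion f := Groth.Agent.Lib.Helper27.LocImmLib.isPreimmersion_of_isLocImmersion f hf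
  haveI : TopologicalSpace.NoetherianSpace I.subscheme :=
    I.subschemeι.isClosedEmbedding.isInducing.noetherianSpace
  haveI : QuasiCompact (I.subschemeι ≫ f) := inferInstance
  exact ⟨(I.subschemeι ≫ f).ker, map_comap_eq_of_flat_of_mono f I⟩

end Groth.Agent.Lib.Helper29.LocImmIdeal
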