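import Mathlib

/-!
# Logarithmic connections on the trivial bundle over the affine line: pole order reduction
-/

set_option autoImplicit false
universe u

namespace Helper29.LogConn

open Polynomial

variable {R : Type u} [CommRing R]

section LinAlg
variable {d : ℕ}

theorem aeval_apply_eigen (T : (Fin d → R) →ₗ[R] (Fin d → R)) (c : R) (x : Fin d → R)
    (hx : T x = c • x) (P : R[X]) : (aeval T P) x = P.eval c • x := by
  have hpow : ∀ n : ℕ, (T ^ n) x = c ^ n • x := by
    intro n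
    induction n with
    | zero => simp
    | succ n ih =>
      rw [pow_succ, Module.End.mul_apply, hx, map_smul, ih, smul_smul, ← pow_succ']
  refine Polynomial.induction_on' P (fun p q hp hq => ?_) (fun n a => ?_)
  · rw [map_add, LinearMap.add_apply, hp, hq, eval_add, add_smul]
  · rw [aeval_monomial, eval_monomial, Module.End.mul_apply, hpow, Module.algebraMap_end_apply,
      smul_smul]

theorem eigen_zero (T : (Fin d → R) →ₗ[R] (Fin d → R)) (c : R)
    (hc : IsUnit (T.charpoly.eval c)) (x : Fin d → R) (hx : T x = c • x) : x = 0 := by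
  have h := aeval_apply_eigen T c x hx T.charpoly
  rw [LinearMap.aeval_self_charpoly, LinearMap.zero_apply] at h
  funext j
  have h' := congrFun h j
  simp only [Pi.zero_apply, Pi.smul_apply, smul_eq_mul] at h'
  exact hc.mul_right_eq_zero.1 h'.symm

theorem sub_smul_surjective (T : (Fin d → R) →ₗ[R] (Fin d → R)) (c : R)
    (hc : IsUnit (T.charpoly.eval c)) (y : Fin d → R) : ∃ x, T x - c • x = y := by
  obtain ⟨q, hq⟩ : ∃ q : R[X], T.charpoly - C (T.charpoly.eval c) = (X - C c) * q := by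
    have hroot : (T.charpoly - C (T.charpoly.eval c)).IsRoot c := by simp [IsRoot]
    exact ⟨_, (mul_divByMonic_eq_iff_isRoot.2 hroot).symm⟩
  have h2 := congrArg (fun p => aeval T p) hq
  simp only [map_sub, map_mul, aeval_X, aeval_C, LinearMap.aeval_self_charpoly, zero_sub] at h2
  obtain ⟨u, hu⟩ := hc
  rw [← hu] at h2
  have h3 := LinearMap.congr_fun h2 y
  simp only [LinearMap.neg_apply, Module.algebraMap_end_apply, Module.End.mul_apply,
    LinearMap.sub_apply] at h3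
  refine ⟨-((↑u⁻¹ : R) • (aeval T q) y), ?_⟩
  have e : T (-((↑u⁻¹ : R) • (aeval T q) y)) - c • (-((↑u⁻¹ : R) • (aeval T q) y))
      = -((↑u⁻¹ : R) • (T ((aeval T q) y) - c • (aeval T q) y)) := by
    rw [map_neg, map_smul, smul_sub, smul_neg, smul_comm c]
    abel
  rw [e, ← h3, smul_neg, neg_neg, smul_smul, Units.inv_mul, one_smul]

end LinAlg

section Poly
variable {r : ℕ} (θ : Fin r → R)

theorem prod_dvd_of_eval (hθ : ∀ i k, i ≠ k → IsUnit (θ i - θ k)) (q : R[X])
    (h : ∀ i, q.eval (θ i) = 0) : (∏ i, (X - C (θ i))) ∣ q := by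
  refine Finset.prod_dvd_of_coprime ?_ (fun i _ => (dvd_iff_isRoot.2 (h i)))
  intro i _ k _ hik
  exact isCoprime_X_sub_C_of_isUnit_sub (hθ i k hik)

theorem eval_prod_zero (i : Fin r) : (∏ k, (X - C (θ k))).eval (θ i) = 0 := by
  rw [eval_prod]
  exact Finset.prod_eq_zero (Finset.mem_univ i) (by simp)

theorem eval_derivative_prod (i : Fin r) :
    (derivative (∏ k, (X - C (θ k)))).eval (θ i) = ∏ k ∈ Finset.univ.erase i, (θ i - θ k) := by
  rw [← Finset.mul_prod_erase Finset.univ _ (Finset.mem_univ i), derivative_mul, eval_add,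
    eval_mul, eval_mul]
  simp [eval_prod]

theorem isUnit_pi (hθ : ∀ i k, i ≠ k → IsUnit (θ i - θ k)) (i : Fin r) :
    IsUnit (∏ k ∈ Finset.univ.erase i, (θ i - θ k)) :=
  Finset.prod_induction _ IsUnit (fun _ _ => IsUnit.mul) isUnit_one
    (fun k hk => hθ i k (Finset.ne_of_mem_erase hk).symm)

theorem exists_interp (hθ : ∀ i k, i ≠ k → IsUnit (θ i - θ k)) (c : Fin r → R) :
    ∃ u : R[X], ∀ i, u.eval (θ i) = c i := by
  classical
  refine ⟨∑ i, C (c i * ↑(isUnit_pi θ hθ i).unit⁻¹) * ∏ k ∈ Finset.univ.erase i, (X - C (θ k)),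
    fun l => ?_⟩
  rw [eval_finset_sum, Finset.sum_eq_single l]
  · rw [eval_mul, eval_C, eval_prod]
    simp only [eval_sub, eval_X, eval_C]
    rw [mul_assoc, IsUnit.val_inv_mul, mul_one]
  · intro i _ hil
    rw [eval_mul, eval_prod]
    have : ∏ k ∈ Finset.univ.erase i, eval (θ l) (X - C (θ k)) = 0 :=
      Finset.prod_eq_zero (Finset.mem_erase.2 ⟨hil.symm, Finset.mem_univ l⟩) (by simp)
    rw [this, mul_zero]
  · intro h; exact absurd (Finset.mem_univ l) h

end Poly

section Main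

variable {d r : ℕ} (θ : Fin r → R) (Θ : R[X])

/-- componentwise algebraMap -/
noncomputable def iota (v : Fin d → R[X]) : Fin d → Localization.Away Θ :=
  fun j => algebraMap R[X] (Localization.Away Θ) (v j)

theorem iota_add (v w : Fin d → R[X]) : iota Θ (v + w) = iota Θ v + iota Θ w := by
  funext j; simp [iota]

theorem iota_sub (v w : Fin d → R[X]) : iota Θ (v - w) = iota Θ v - iota Θ w := by
  funext j; simp [iota]

theorem iota_smul (p : R[X]) (v : Fin d → R[X]) : iota Θ (p • v) = p • iota Θ v := by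
  funext j; simp [iota, Algebra.smul_def]

theorem iota_injective (hΘ : Θ.Monic) : Function.Injective (iota (d := d) Θ) := by
  intro v w h
  funext j
  have hinj : Function.Injective (algebraMap R[X] (Localization.Away Θ)) := by
    apply IsLocalization.injective (M := Submonoid.powers Θ)
    exact Submonoid.powers_le.2 hΘ.mem_nonZeroDivisors
  exact hinj (congrFun h j)

theorem isUnit_algebraMap : IsUnit (algebraMap R[X] (Localization.Away Θ) Θ) :=
  IsLocalization.map_units (Localization.Away Θ)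
    (⟨Θ, Submonoid.mem_powers Θ⟩ : Submonoid.powers Θ)

theorem smul_cancel {a b : Fin d → Localization.Away Θ} (h : Θ • a = Θ • b) : a = b := by
  funext j
  have h' := congrFun h j
  simp only [Pi.smul_apply, Algebra.smul_def] at h'
  exact (isUnit_algebraMap Θ).mul_left_cancel h'

theorem exists_pole (w : Fin d → Localization.Away Θ) :
    ∃ (n : ℕ) (v : Fin d → R[X]), Θ ^ n • w = iota Θ v := by
  obtain ⟨⟨b, hb⟩, hbw⟩ := IsLocalization.exist_integer_multiples (Submonoid.powers Θ)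
    (Finset.univ : Finset (Fin d)) w
  obtain ⟨n, rfl⟩ := (Submonoid.mem_powers_iff _ _).1 hb
  choose v hv using fun j => hbw j (Finset.mem_univ j)
  refine ⟨n, v, ?_⟩
  funext j
  rw [Pi.smul_apply]
  exact (hv j).symm

variable (D₀ : (Fin d → R[X]) →+ (Fin d → R[X]))
  (D : (Fin d → Localization.Away Θ) →+ (Fin d → Localization.Away Θ))

theorem D_pole
    (hD : ∀ (p : R[X]) (w : Fin d → Localization.Away Θ),
      D (p • w) = (Θ * derivative p) • w + p • D w)
    (hDD₀ : ∀ v : Fin d → R[X], D (iota Θ v) = iota Θ (D₀ v))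
    (n : ℕ) (w : Fin d → Localization.Away Θ) (v : Fin d → R[X])
    (hv : Θ ^ (n + 1) • w = iota Θ v) :
    Θ ^ (n + 1) • D w = iota Θ (D₀ v - (C ((n + 1 : ℕ) : R) * derivative Θ) • v) := by
  have h1 := hD (Θ ^ (n + 1)) w
  rw [hv, hDD₀] at h1
  have h2 : (Θ * derivative (Θ ^ (n + 1))) • w
      = iota Θ ((C ((n + 1 : ℕ) : R) * derivative Θ) • v) := by
    rw [iota_smul, ← hv, smul_smul, derivative_pow_succ]
    congr 1
    push_cast
    ring
  rw [h2] at h1
  rw [iota_sub, h1]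
  abel

theorem eval_D₀ (hΘ : Θ = ∏ i, (X - C (θ i)))
    (hD₀ : ∀ (p : R[X]) (v : Fin d → R[X]), D₀ (p • v) = (Θ * derivative p) • v + p • D₀ v)
    (Res : Fin r → ((Fin d → R) →ₗ[R] (Fin d → R)))
    (hRes : ∀ (i : Fin r) (m : Fin d → R) (j : Fin d),
      (D₀ (fun j => C (m j)) j).eval (θ i) =
        (∏ k ∈ Finset.univ.erase i, (θ i - θ k)) * Res i m j)
    (v : Fin d → R[X]) (i : Fin r) (j : Fin d) :
    (D₀ v j).eval (θ i) =
      (∏ k ∈ Finset.univ.erase i, (θ i - θ k)) * Res i (fun j => (v j).eval (θ i)) j := by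
  have hdec : v = (fun j => C ((v j).eval (θ i)))
      + (X - C (θ i)) • (fun j => v j /ₘ (X - C (θ i))) := by
    funext j
    simp only [Pi.add_apply, Pi.smul_apply, smul_eq_mul]
    rw [← modByMonic_X_sub_C_eq_C_eval, modByMonic_add_div]
  have hΘ0 : Θ.eval (θ i) = 0 := by
    rw [hΘ]; exact eval_prod_zero θ i
  have e : D₀ v = D₀ (fun j => C ((v j).eval (θ i)))
      + ((Θ * derivative (X - C (θ i))) • (fun j => v j /ₘ (X - C (θ i)))
        + (X - C (θ i)) • D₀ (fun j => v j /ₘ (X - C (θ i)))) := by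
    conv_lhs => rw [hdec]
    rw [map_add, hD₀]
  rw [e]
  simp only [Pi.add_apply, Pi.smul_apply, smul_eq_mul, eval_add, eval_mul, hΘ0, hRes, eval_sub,
    eval_X, eval_C, sub_self, zero_mul, add_zero]

variable (hΘ : Θ = ∏ i, (X - C (θ i))) (hθ : ∀ i k, i ≠ k → IsUnit (θ i - θ k))
  (hD₀ : ∀ (p : R[X]) (v : Fin d → R[X]), D₀ (p • v) = (Θ * derivative p) • v + p • D₀ v)
  (hD : ∀ (p : R[X]) (w : Fin d → Localization.Away Θ),
      D (p • w) = (Θ * derivative p) • w + p • D w)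
  (hDD₀ : ∀ v : Fin d → R[X], D (iota Θ v) = iota Θ (D₀ v))
  (Res : Fin r → ((Fin d → R) →ₗ[R] (Fin d → R)))
  (hRes : ∀ (i : Fin r) (m : Fin d → R) (j : Fin d),
      (D₀ (fun j => C (m j)) j).eval (θ i) =
        (∏ k ∈ Finset.univ.erase i, (θ i - θ k)) * Res i m j)
  (hunit : ∀ (i : Fin r) (n : ℕ), IsUnit ((Res i).charpoly.eval ((n + 1 : ℕ) : R)))

include hΘ in
theorem monic_Θ : Θ.Monic := by
  rw [hΘ]; exact monic_prod_of_monic _ _ (fun i _ => monic_X_sub_C _)

include hΘ in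
theorem hder (i : Fin r) :
    (derivative Θ).eval (θ i) = ∏ k ∈ Finset.univ.erase i, (θ i - θ k) := by
  rw [hΘ]; exact eval_derivative_prod θ i

include hΘ hθ in
theorem exists_div (q : Fin d → R[X]) (h : ∀ j i, (q j).eval (θ i) = 0) :
    ∃ q₁ : Fin d → R[X], q = Θ • q₁ := by
  have hdvd : ∀ j, Θ ∣ q j := fun j => by
    rw [hΘ]; exact prod_dvd_of_eval θ hθ (q j) (h j)
  choose q₁ hq₁ using hdvd
  exact ⟨q₁, funext fun j => by rw [Pi.smul_apply, smul_eq_mul]; exact hq₁ j⟩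

include hΘ hθ hD₀ hD hDD₀ hRes hunit in
theorem step_in (n : ℕ) (f : Fin d → Localization.Away Θ) (v : Fin d → R[X])
    (hv : Θ ^ (n + 1) • f = iota Θ v) (g : Fin d → R[X]) (hg : D f = iota Θ g) :
    ∃ v₁ : Fin d → R[X], Θ ^ n • f = iota Θ v₁ := by
  have h1 := D_pole Θ D₀ D hD hDD₀ n f v hv
  rw [hg, ← iota_smul] at h1
  have h2 := iota_injective Θ (monic_Θ θ Θ hΘ) h1
  have hzero : ∀ j i, (v j).eval (θ i) = 0 := by
    intro j i
    have hΘ0 : Θ.eval (θ i) = 0 := by rw [hΘ]; exact eval_prod_zero θ i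
    have heig : Res i (fun j => (v j).eval (θ i))
        = (((n + 1 : ℕ) : R)) • (fun j => (v j).eval (θ i)) := by
      funext j
      have h3 := congrFun h2 j
      simp only [Pi.smul_apply, Pi.sub_apply, smul_eq_mul] at h3
      have h4 := congrArg (eval (θ i)) h3
      simp only [eval_mul, eval_pow, eval_sub, eval_C, hΘ0] at h4
      rw [zero_pow (Nat.succ_ne_zero n), zero_mul,
        eval_D₀ θ Θ D₀ hΘ hD₀ Res hRes v i j, hder θ Θ hΘ i] at h4
      show Res i (fun j => (v j).eval (θ i)) j = ((n + 1 : ℕ) : R) * (v j).eval (θ i)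
      apply (isUnit_pi θ hθ i).mul_left_cancel
      linear_combination -h4
    have h5 := eigen_zero (Res i) _ (hunit i n) _ heig
    exact congrFun h5 j
  obtain ⟨v₁, hv₁⟩ := exists_div θ Θ hΘ hθ v hzero
  refine ⟨v₁, ?_⟩
  apply smul_cancel Θ
  rw [smul_smul, ← pow_succ', hv, hv₁, iota_smul]

include hΘ hθ hD₀ hD hDD₀ hRes hunit in
theorem main_in (f : Fin d → Localization.Away Θ) (hf : ∃ g : Fin d → R[X], D f = iota Θ g) :
    ∃ v : Fin d → R[X], f = iota Θ v := by
  obtain ⟨g, hg⟩ := hf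
  obtain ⟨N, v, hv⟩ := exists_pole Θ f
  have key : ∀ n : ℕ, (∃ v : Fin d → R[X], Θ ^ n • f = iota Θ v) →
      ∃ v : Fin d → R[X], f = iota Θ v := by
    intro n
    induction n with
    | zero =>
      rintro ⟨v, hv⟩
      exact ⟨v, by rw [pow_zero, one_smul] at hv; exact hv⟩
    | succ n ih =>
      rintro ⟨v, hv⟩
      exact ih (step_in θ Θ D₀ D hΘ hθ hD₀ hD hDD₀ Res hRes hunit n f v hv g hg)
  exact key N ⟨v, hv⟩

include hΘ hθ hD₀ hD hDD₀ hRes hunit in
theorem step_out (n : ℕ) (w : Fin d → Localization.Away Θ) (v : Fin d → R[X])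
    (hv : Θ ^ (n + 1) • w = iota Θ v) :
    ∃ (w' : Fin d → Localization.Away Θ) (v₁ : Fin d → R[X]),
      Θ ^ n • (w - D w') = iota Θ v₁ := by
  have hc : ∀ i, ∃ c : Fin d → R, Res i c - (((n + 1 : ℕ) : R)) • c
      = (↑(isUnit_pi θ hθ i).unit⁻¹ : R) • (fun j => (v j).eval (θ i)) :=
    fun i => sub_smul_surjective (Res i) _ (hunit i n) _
  choose c hc using hc
  have hu : ∀ j, ∃ u : R[X], ∀ i, u.eval (θ i) = c i j :=
    fun j => exists_interp θ hθ (fun i => c i j)
  choose u hu using hu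
  obtain ⟨w', hw'⟩ : ∃ w' : Fin d → Localization.Away Θ, Θ ^ (n + 1) • w' = iota Θ u := by
    obtain ⟨U, hU⟩ := (isUnit_algebraMap Θ).pow (n + 1)
    refine ⟨fun j => ↑U⁻¹ * algebraMap _ _ (u j), ?_⟩
    funext j
    simp only [Pi.smul_apply, Algebra.smul_def, map_pow, iota]
    rw [← hU, ← mul_assoc, Units.mul_inv, one_mul]
  have h1 := D_pole Θ D₀ D hD hDD₀ n w' u hw'
  have h2 : Θ ^ (n + 1) • (w - D w')
      = iota Θ (v - (D₀ u - (C ((n + 1 : ℕ) : R) * derivative Θ) • u)) := by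
    rw [smul_sub, hv, h1, ← iota_sub]
  have hzero : ∀ j i, ((v - (D₀ u - (C ((n + 1 : ℕ) : R) * derivative Θ) • u)) j).eval (θ i) = 0 := by
    intro j i
    simp only [Pi.sub_apply, Pi.smul_apply, smul_eq_mul, eval_sub, eval_mul, eval_C]
    rw [eval_D₀ θ Θ D₀ hΘ hD₀ Res hRes u i j, hder θ Θ hΘ i]
    have hfun : (fun j => (u j).eval (θ i)) = c i := funext (fun j => hu j i)
    rw [hfun, hu j i]
    have h3 := congrFun (hc i) j
    simp only [Pi.sub_apply, Pi.smul_apply, smul_eq_mul] at h3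
    have hπ' := IsUnit.mul_val_inv (isUnit_pi θ hθ i)
    linear_combination (-(∏ k ∈ Finset.univ.erase i, (θ i - θ k))) * h3
      - (eval (θ i) (v j)) * hπ'
  obtain ⟨v₁, hv₁⟩ := exists_div θ Θ hΘ hθ _ hzero
  refine ⟨w', v₁, ?_⟩
  apply smul_cancel Θ
  rw [smul_smul, ← pow_succ', h2, hv₁, iota_smul]

include hΘ hθ hD₀ hD hDD₀ hRes hunit in
theorem main_out (w : Fin d → Localization.Away Θ) :
    ∃ (w' : Fin d → Localization.Away Θ) (v : Fin d → R[X]), w = D w' + iota Θ v := by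
  have key : ∀ (n : ℕ) (w : Fin d → Localization.Away Θ),
      (∃ v : Fin d → R[X], Θ ^ n • w = iota Θ v) →
      ∃ (w' : Fin d → Localization.Away Θ) (v' : Fin d → R[X]), w = D w' + iota Θ v' := by
    intro n
    induction n with
    | zero =>
      rintro w ⟨v, hv⟩
      rw [pow_zero, one_smul] at hv
      exact ⟨0, v, by rw [map_zero, zero_add]; exact hv⟩
    | succ n ih =>
      rintro w ⟨v, hv⟩
      obtain ⟨w', v₁, h1⟩ := step_out θ Θ D₀ D hΘ hθ hD₀ hD hDD₀ Res hRes hunit n w v hv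
      obtain ⟨w'', v', h2⟩ := ih (w - D w') ⟨v₁, h1⟩
      refine ⟨w' + w'', v', ?_⟩
      rw [map_add, add_assoc, ← h2]
      abel
  obtain ⟨N, v, hv⟩ := exists_pole Θ w
  exact key N w ⟨v, hv⟩

end Main

theorem hunit_of_hχ {R : Type u} [CommRing R] [Algebra ℂ R] {d r : ℕ}
    (Res : Fin r → ((Fin d → R) →ₗ[R] (Fin d → R)))
    (hχ : ∀ i : Fin r, ∃ χ : ℂ[X], (Res i).charpoly = χ.map (algebraMap ℂ R) ∧
      ∀ n : ℤ, n ≠ 0 → χ.eval (n : ℂ) ≠ 0) (i : Fin r) (n : ℕ) :
    IsUnit ((Res i).charpoly.eval ((n + 1 : ℕ) : R)) := by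
  obtain ⟨χ, h1, h2⟩ := hχ i
  have h3 := h2 ((n + 1 : ℕ) : ℤ) (by exact_mod_cast Nat.succ_ne_zero n)
  rw [Int.cast_natCast] at h3
  rw [h1, ← map_natCast (algebraMap ℂ R), eval_map_apply]
  exact (isUnit_iff_ne_zero.2 h3).map (algebraMap ℂ R)

end Helper29.LogConn
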