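import Mathlib

set_option autoImplicit false
set_option maxHeartbeats 1600000

universe u

namespace Groth.Agent.Lib.Helper29.LogUnits

open Finset

theorem exists_factor {R : Type*} [CommRing R] [IsDomain R] {ι : Type*} [DecidableEq ι]
    (p : ι → R) (hp : ∀ i, Prime (p i)) (e : ι → ℕ) (s : Finset ι) :
    ∀ (x y a : R), x * y = a * ∏ i ∈ s, p i ^ e i →
      ∃ (c : ι → ℕ) (b : R), b ∣ a ∧ x = b * ∏ i ∈ s, p i ^ c i := by
  induction s using Finset.induction with
  | empty =>
    intro x y a h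
    refine ⟨fun _ => 0, x, ?_, by simp⟩
    simp only [Finset.prod_empty, mul_one] at h
    exact ⟨y, h.symm⟩
  | insert i s his ih =>
    intro x y a h
    rw [Finset.prod_insert his] at h
    have h' : x * y = (a * ∏ j ∈ s, p j ^ e j) * p i ^ e i := by rw [h]; ring
    obtain ⟨m, n, b, c, -, hbc, hx, -⟩ := mul_eq_mul_prime_pow (hp i) h'
    obtain ⟨c', b₁, hb₁, hb⟩ := ih b c a hbc.symm
    refine ⟨Function.update c' i m, b₁, hb₁, ?_⟩
    rw [Finset.prod_insert his, Function.update_self, hx, hb]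
    have : ∏ j ∈ s, p j ^ Function.update c' i m j = ∏ j ∈ s, p j ^ c' j :=
      Finset.prod_congr rfl (fun j hj => by
        rw [Function.update_of_ne (ne_of_mem_of_not_mem hj his)])
    rw [this]; ring

theorem exponents_unique {R : Type*} [CommRing R] [IsDomain R] {ι : Type*} [DecidableEq ι]
    (f : ι → R) (hf : ∀ i, Prime (f i)) (hfa : ∀ i j, Associated (f i) (f j) → i = j)
    (u u' : R) (hu : IsUnit u) (hu' : IsUnit u') (m m' : ι → ℕ) (s : Finset ι)
    (h : u * ∏ i ∈ s, f i ^ m i = u' * ∏ i ∈ s, f i ^ m' i) :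
    ∀ j ∈ s, m j = m' j := by
  have key : ∀ (u : R) (_ : IsUnit u) (m : ι → ℕ) (j : ι), j ∈ s →
      emultiplicity (f j) (u * ∏ i ∈ s, f i ^ m i) = (m j : ℕ∞) := by
    intro u hu m j hj
    rw [emultiplicity_mul (hf j), emultiplicity_of_isUnit_right (hf j).not_unit hu, zero_add,
      Finset.emultiplicity_prod (hf j), Finset.sum_eq_single j]
    · exact emultiplicity_pow_self_of_prime (hf j) (m j)
    · intro i _ hij
      rw [emultiplicity_pow (hf j)]
      have : emultiplicity (f j) (f i) = 0 :=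
        emultiplicity_eq_zero.2 (fun hdvd =>
          hij ((hfa j i ((hf j).associated_of_dvd (hf i) hdvd)).symm))
      rw [this, mul_zero]
    · intro hj'; exact absurd hj hj'
  intro j hj
  have h1 := key u hu m j hj
  have h2 := key u' hu' m' j hj
  rw [h] at h1
  have : (m j : ℕ∞) = (m' j : ℕ∞) := h1.symm.trans h2
  exact_mod_cast this

theorem main18579
    {k B R K : Type u} [Field k] [CommRing B] [Algebra k B] [Algebra.Smooth k B]
    (p : Ideal B) [p.IsPrime] [CommRing R] [Algebra B R] [IsLocalization.AtPrime R p]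
    [Field K] [Algebra R K] [IsFractionRing R K]
    {r : ℕ} (f : Fin r → R) (hf : ∀ i, Prime (f i)) (hfa : ∀ i j, Associated (f i) (f j) → i = j)
    (w : Kˣ)
    (hw : ∃ (a : R) (n : ℕ), (w : K) * algebraMap R K ((∏ i, f i) ^ n) = algebraMap R K a)
    (hw' : ∃ (a : R) (n : ℕ), (w⁻¹ : Kˣ) * algebraMap R K ((∏ i, f i) ^ n) = algebraMap R K a) :
    ∃! vb : Rˣ × (Fin r → ℤ),
      (w : K) = algebraMap R K (vb.1 : R) * ∏ i, (algebraMap R K (f i)) ^ (vb.2 i) := by
  classical
  have hinj : Function.Injective (algebraMap R K) := IsFractionRing.injective R K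
  haveI : IsDomain R := hinj.isDomain (algebraMap R K)
  have hg0 : ∀ i, algebraMap R K (f i) ≠ 0 := fun i =>
    (map_ne_zero_iff _ hinj).2 (hf i).ne_zero
  -- uniqueness lemma
  have huniq : ∀ (v v' : Rˣ) (β β' : Fin r → ℤ),
      algebraMap R K (v : R) * ∏ i, (algebraMap R K (f i)) ^ (β i) =
        algebraMap R K (v' : R) * ∏ i, (algebraMap R K (f i)) ^ (β' i) → v = v' ∧ β = β' := by
    intro v v' β β' h
    obtain ⟨N, hN, hN'⟩ : ∃ N : Fin r → ℕ, (∀ i, 0 ≤ β i + N i) ∧ (∀ i, 0 ≤ β' i + N i) :=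
      ⟨fun i => (β i).natAbs + (β' i).natAbs, fun i => by dsimp only; omega,
        fun i => by dsimp only; omega⟩
    obtain ⟨m, hm⟩ : ∃ m : Fin r → ℕ, ∀ i, (m i : ℤ) = β i + N i :=
      ⟨fun i => (β i + N i).toNat, fun i => Int.toNat_of_nonneg (hN i)⟩
    obtain ⟨m', hm'⟩ : ∃ m : Fin r → ℕ, ∀ i, (m i : ℤ) = β' i + N i :=
      ⟨fun i => (β' i + N i).toNat, fun i => Int.toNat_of_nonneg (hN' i)⟩
    have key : ∀ (v : Rˣ) (β : Fin r → ℤ) (m : Fin r → ℕ), (∀ i, (m i : ℤ) = β i + N i) →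
        (algebraMap R K (v : R) * ∏ i, (algebraMap R K (f i)) ^ (β i)) *
          ∏ i, (algebraMap R K (f i)) ^ (N i) = algebraMap R K ((v : R) * ∏ i, f i ^ m i) := by
      intro v β m hm
      rw [mul_assoc, ← Finset.prod_mul_distrib, map_mul, map_prod]
      congr 1
      refine Finset.prod_congr rfl (fun i _ => ?_)
      rw [map_pow, ← zpow_natCast (algebraMap R K (f i)) (N i), ← zpow_add₀ (hg0 i), ← hm i,
        zpow_natCast]
    have h2 : (v : R) * ∏ i, f i ^ m i = (v' : R) * ∏ i, f i ^ m' i :=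
      hinj (by rw [← key v β m hm, ← key v' β' m' hm', h])
    have hmm := exponents_unique f hf hfa _ _ v.isUnit v'.isUnit m m' Finset.univ h2
    have hβ : β = β' := funext fun i => by
      have h3 := hmm i (Finset.mem_univ i)
      have h4 := hm i
      have h5 := hm' i
      omega
    subst hβ
    have hP : ∏ i, (algebraMap R K (f i)) ^ (β i) ≠ 0 :=
      Finset.prod_ne_zero_iff.2 (fun i _ => zpow_ne_zero _ (hg0 i))
    have h6 := mul_right_cancel₀ hP h
    exact ⟨Units.ext (hinj h6), rfl⟩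
  -- existence
  obtain ⟨a, n, ha⟩ := hw
  obtain ⟨a', n', ha'⟩ := hw'
  have haa : a * a' = 1 * ∏ i ∈ Finset.univ, f i ^ (n + n') := by
    apply hinj
    rw [map_mul, ← ha, ← ha', one_mul, Finset.prod_pow, pow_add, map_mul]
    have hww : (w : K) * ((w⁻¹ : Kˣ) : K) = 1 := by simp
    calc (w : K) * algebraMap R K ((∏ i, f i) ^ n) *
          (((w⁻¹ : Kˣ) : K) * algebraMap R K ((∏ i, f i) ^ n'))
        = ((w : K) * ((w⁻¹ : Kˣ) : K)) *
            (algebraMap R K ((∏ i, f i) ^ n) * algebraMap R K ((∏ i, f i) ^ n')) := by ring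
      _ = _ := by rw [hww, one_mul]
  obtain ⟨c, b, hb1, hab⟩ := exists_factor f hf (fun _ => n + n') Finset.univ a a' 1 haa
  have hbu : IsUnit b := isUnit_of_dvd_one hb1
  have hex : (w : K) = algebraMap R K (hbu.unit : R) *
      ∏ i, (algebraMap R K (f i)) ^ ((c i : ℤ) - n) := by
    have hP : (∏ i, algebraMap R K (f i)) ^ n ≠ 0 :=
      pow_ne_zero _ (Finset.prod_ne_zero_iff.2 (fun i _ => hg0 i))
    apply mul_right_cancel₀ hP
    have e1 : (w : K) * (∏ i, algebraMap R K (f i)) ^ n = algebraMap R K a := by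
      rw [← ha, map_pow, map_prod]
    rw [e1, hab, map_mul, map_prod, mul_assoc, IsUnit.unit_spec]
    congr 1
    rw [← Finset.prod_pow, ← Finset.prod_mul_distrib]
    refine Finset.prod_congr rfl (fun i _ => ?_)
    rw [map_pow, ← zpow_natCast (algebraMap R K (f i)) n, ← zpow_add₀ (hg0 i), sub_add_cancel,
      zpow_natCast]
  refine ⟨(hbu.unit, fun i => (c i : ℤ) - n), hex, ?_⟩
  rintro ⟨v', β'⟩ h'
  have h'' : algebraMap R K (v' : R) * ∏ i, (algebraMap R K (f i)) ^ (β' i) =
      algebraMap R K (hbu.unit : R) * ∏ i, (algebraMap R K (f i)) ^ ((c i : ℤ) - n) :=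
    h'.symm.trans hex
  obtain ⟨h7, h8⟩ := huniq _ _ _ _ h''
  exact Prod.ext h7 h8

end Groth.Agent.Lib.Helper29.LogUnits
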