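import Mathlib

/-!
# Coordinates on a pushout of commutative rings along a split injection with free complement
(helper29)

`CompData a a' j` records a decomposition `A' = j(A) ⊕ ⨁ₘ R eₘ` of `R`-modules, through coefficient
functionals.  For pushouts `D = A ⊗_R C`, `D' = A' ⊗_R C` it gives coefficient maps `D' → C` that
detect the image of `D → D'`.
-/
set_option autoImplicit false
set_option maxHeartbeats 1600000
universe u w
open CategoryTheory CategoryTheory.Limits TensorProduct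

noncomputable section

namespace Groth.Agent.Lib.Helper29.MagnetCoordRing

section Basic

variable {R A' C D' : CommRingCat.{u}} {a' : R ⟶ A'} {c : R ⟶ C} {u' : A' ⟶ D'} {v' : C ⟶ D'}

/-- every element of a pushout of commutative rings is a sum of products -/
theorem pushout_induction (H' : IsPushout a' c u' v') {P : D' → Prop} (h0 : P 0)
    (hmul : ∀ x y, P (u'.hom x * v'.hom y)) (hadd : ∀ z w, P z → P w → P (z + w)) (z : D') :
    P z := by
  algebraize [a'.hom, c.hom]
  let e' : D' ≅ CommRingCat.of (A' ⊗[R] C) :=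
    IsColimit.coconePointUniqueUpToIso H'.isColimit (CommRingCat.pushoutCoconeIsColimit R A' C)
  have hue' : u' ≫ e'.hom = CommRingCat.ofHom (Algebra.TensorProduct.includeLeftRingHom) :=
    IsColimit.comp_coconePointUniqueUpToIso_hom H'.isColimit _ WalkingSpan.left
  have hve' : v' ≫ e'.hom = CommRingCat.ofHom (Algebra.TensorProduct.includeRight.toRingHom) :=
    IsColimit.comp_coconePointUniqueUpToIso_hom H'.isColimit _ WalkingSpan.right
  have hinv : ∀ t : A' ⊗[R] C, P (e'.inv.hom t) := by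
    intro t
    induction t using TensorProduct.induction_on with
    | zero => rw [map_zero]; exact h0
    | tmul x y =>
      have hx : u'.hom x = e'.inv.hom (x ⊗ₜ[R] (1 : C)) :=
        congrArg (fun ψ => ψ.hom x) ((Iso.eq_comp_inv e').2 hue')
      have hy : v'.hom y = e'.inv.hom ((1 : A') ⊗ₜ[R] y) :=
        congrArg (fun ψ => ψ.hom y) ((Iso.eq_comp_inv e').2 hve')
      have h1 : e'.inv.hom (x ⊗ₜ[R] y) = u'.hom x * v'.hom y := by
        rw [hx, hy, ← map_mul, Algebra.TensorProduct.tmul_mul_tmul, mul_one, one_mul]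
      rw [h1]
      exact hmul x y
    | add t₁ t₂ h₁ h₂ =>
      rw [map_add]
      exact hadd _ _ h₁ h₂
  have hz : e'.inv.hom (e'.hom.hom z) = z := congrArg (fun ψ => ψ.hom z) e'.hom_inv_id
  rw [← hz]
  exact hinv _

/-- additive maps out of a pushout, from `R`-linear maps on the first factor -/
theorem exists_addHom {B DB : CommRingCat.{u}} {b : R ⟶ B} {uB : B ⟶ DB} {vB : C ⟶ DB}
    (H' : IsPushout a' c u' v') (HB : IsPushout b c uB vB)
    (f : A' →+ B) (hf : ∀ r x, f (a'.hom r * x) = b.hom r * f x) :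
    ∃ L : D' →+ DB, ∀ x y, L (u'.hom x * v'.hom y) = uB.hom (f x) * vB.hom y := by
  algebraize [a'.hom, b.hom, c.hom]
  let e' : D' ≅ CommRingCat.of (A' ⊗[R] C) :=
    IsColimit.coconePointUniqueUpToIso H'.isColimit (CommRingCat.pushoutCoconeIsColimit R A' C)
  let eB : DB ≅ CommRingCat.of (B ⊗[R] C) :=
    IsColimit.coconePointUniqueUpToIso HB.isColimit (CommRingCat.pushoutCoconeIsColimit R B C)
  have hue' : u' ≫ e'.hom = CommRingCat.ofHom (Algebra.TensorProduct.includeLeftRingHom) :=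
    IsColimit.comp_coconePointUniqueUpToIso_hom H'.isColimit _ WalkingSpan.left
  have hve' : v' ≫ e'.hom = CommRingCat.ofHom (Algebra.TensorProduct.includeRight.toRingHom) :=
    IsColimit.comp_coconePointUniqueUpToIso_hom H'.isColimit _ WalkingSpan.right
  have hueB : uB ≫ eB.hom = CommRingCat.ofHom (Algebra.TensorProduct.includeLeftRingHom) :=
    IsColimit.comp_coconePointUniqueUpToIso_hom HB.isColimit _ WalkingSpan.left
  have hveB : vB ≫ eB.hom = CommRingCat.ofHom (Algebra.TensorProduct.includeRight.toRingHom) :=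
    IsColimit.comp_coconePointUniqueUpToIso_hom HB.isColimit _ WalkingSpan.right
  let fL : A' →ₗ[R] B :=
    { toFun := f
      map_add' := f.map_add
      map_smul' := fun r y => by
        simp only [RingHom.id_apply]
        rw [Algebra.smul_def, Algebra.smul_def]
        exact hf r y }
  let T : A' ⊗[R] C →ₗ[R] B ⊗[R] C := LinearMap.rTensor C fL
  let L : D' →+ DB := (eB.inv.hom : _ →+* _).toAddMonoidHom.comp
    (T.toAddMonoidHom.comp (e'.hom.hom : _ →+* _).toAddMonoidHom)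
  refine ⟨L, fun x y => ?_⟩
  have h1 : e'.hom.hom (u'.hom x * v'.hom y) = x ⊗ₜ[R] y := by
    have hx : e'.hom.hom (u'.hom x) = x ⊗ₜ[R] (1 : C) := congrArg (fun ψ => ψ.hom x) hue'
    have hy : e'.hom.hom (v'.hom y) = (1 : A') ⊗ₜ[R] y := congrArg (fun ψ => ψ.hom y) hve'
    rw [map_mul, hx, hy, Algebra.TensorProduct.tmul_mul_tmul, mul_one, one_mul]
  have h2 : eB.inv.hom (f x ⊗ₜ[R] y) = uB.hom (f x) * vB.hom y := by
    have hx : uB.hom (f x) = eB.inv.hom (f x ⊗ₜ[R] (1 : C)) :=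
      congrArg (fun ψ => ψ.hom (f x)) ((Iso.eq_comp_inv eB).2 hueB)
    have hy : vB.hom y = eB.inv.hom ((1 : B) ⊗ₜ[R] y) :=
      congrArg (fun ψ => ψ.hom y) ((Iso.eq_comp_inv eB).2 hveB)
    rw [hx, hy, ← map_mul, Algebra.TensorProduct.tmul_mul_tmul, mul_one, one_mul]
  change eB.inv.hom (T (e'.hom.hom (u'.hom x * v'.hom y))) = _
  rw [h1]
  exact h2

end Basic

/-- a ring map through which another factors pointwise, with injective target map -/
theorem exists_ringHom_comp_eq {B D D' : Type*} [CommRing B] [CommRing D] [CommRing D']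
    (ρ : D →+* D') (hρ : Function.Injective ρ) (θ : B →+* D') (h : ∀ b, ∃ d, ρ d = θ b) :
    ∃ κ : B →+* D, ρ.comp κ = θ := by
  choose κ hκ using h
  refine ⟨{ toFun := κ
            map_one' := hρ (by rw [hκ, map_one, map_one])
            map_mul' := fun x y => hρ (by rw [hκ, map_mul, map_mul, hκ, hκ])
            map_zero' := hρ (by rw [hκ, map_zero, map_zero])
            map_add' := fun x y => hρ (by rw [hκ, map_add, map_add, hκ, hκ]) }, ?_⟩
  ext b
  exact hκ b

/-- A decomposition `A' = j(A) ⊕ ⨁ₘ R eₘ` as `R`-modules. -/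
structure CompData {R A A' : CommRingCat.{u}} (a : R ⟶ A) (a' : R ⟶ A') (j : A ⟶ A') where
  /-- index set of the free complement -/
  K : Type w
  /-- coefficient functionals -/
  ℓ : K → (A' →+ R)
  ℓ_smul : ∀ m r x, ℓ m (a'.hom r * x) = r * ℓ m x
  /-- the retraction -/
  r₀ : A' →+ A
  r₀_smul : ∀ r x, r₀ (a'.hom r * x) = a.hom r * r₀ x
  /-- basis of the complement -/
  e : K → A'
  r₀_j : ∀ x, r₀ (j.hom x) = x
  ℓ_j : ∀ m x, ℓ m (j.hom x) = 0
  decomp : ∀ x, ∃ F : Finset K, (∀ m, m ∉ F → ℓ m x = 0) ∧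
    x = j.hom (r₀ x) + ∑ m ∈ F, a'.hom (ℓ m x) * e m

section Derived

variable {R A A' C D D' : CommRingCat.{u}} {a : R ⟶ A} {a' : R ⟶ A'} {j : A ⟶ A'}
  {c : R ⟶ C} {u₀ : A ⟶ D} {v₀ : C ⟶ D} {u' : A' ⟶ D'} {v' : C ⟶ D'}

theorem exists_coeff (cd : CompData.{u, w} a a' j) (H' : IsPushout a' c u' v') (m : cd.K) :
    ∃ L : D' →+ C, ∀ x y, L (u'.hom x * v'.hom y) = c.hom (cd.ℓ m x) * y := by
  obtain ⟨L, hL⟩ := exists_addHom H' (IsPushout.id_horiz c) (cd.ℓ m)
    (fun r x => by simpa using cd.ℓ_smul m r x)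
  exact ⟨L, fun x y => by simpa using hL x y⟩

/-- the coefficient maps -/
def coeff (cd : CompData.{u, w} a a' j) (H' : IsPushout a' c u' v') (m : cd.K) : D' →+ C :=
  Classical.choose (exists_coeff cd H' m)

theorem coeff_mul (cd : CompData.{u, w} a a' j) (H' : IsPushout a' c u' v') (m : cd.K)
    (x : A') (y : C) : coeff cd H' m (u'.hom x * v'.hom y) = c.hom (cd.ℓ m x) * y :=
  Classical.choose_spec (exists_coeff cd H' m) x y

theorem coeff_nat (cd : CompData.{u, w} a a' j) (H' : IsPushout a' c u' v')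
    {C₁ D'₁ : CommRingCat.{u}} {c₁ : R ⟶ C₁} {u'₁ : A' ⟶ D'₁} {v'₁ : C₁ ⟶ D'₁}
    (H'₁ : IsPushout a' c₁ u'₁ v'₁) (g₁ : C ⟶ C₁) (σ : D' ⟶ D'₁)
    (hc : c ≫ g₁ = c₁) (hu : u' ≫ σ = u'₁) (hv : v' ≫ σ = g₁ ≫ v'₁) (m : cd.K) (z : D') :
    coeff cd H'₁ m (σ.hom z) = g₁.hom (coeff cd H' m z) := by
  apply pushout_induction H' (P := fun z => coeff cd H'₁ m (σ.hom z) = g₁.hom (coeff cd H' m z))
  · show coeff cd H'₁ m (σ.hom 0) = g₁.hom (coeff cd H' m 0)
    rw [map_zero, map_zero, map_zero, map_zero]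
  · intro x y
    show coeff cd H'₁ m (σ.hom (u'.hom x * v'.hom y)) =
      g₁.hom (coeff cd H' m (u'.hom x * v'.hom y))
    have hx : σ.hom (u'.hom x) = u'₁.hom x := congrArg (fun ψ => ψ.hom x) hu
    have hy : σ.hom (v'.hom y) = v'₁.hom (g₁.hom y) := congrArg (fun ψ => ψ.hom y) hv
    have hcc : g₁.hom (c.hom (cd.ℓ m x)) = c₁.hom (cd.ℓ m x) :=
      congrArg (fun ψ => ψ.hom (cd.ℓ m x)) hc
    rw [map_mul, hx, hy, coeff_mul, coeff_mul, map_mul, hcc]
  · intro z w hz hw
    have hz' : coeff cd H'₁ m (σ.hom z) = g₁.hom (coeff cd H' m z) := hz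
    have hw' : coeff cd H'₁ m (σ.hom w) = g₁.hom (coeff cd H' m w) := hw
    show coeff cd H'₁ m (σ.hom (z + w)) = g₁.hom (coeff cd H' m (z + w))
    rw [map_add, map_add, map_add, map_add, hz', hw']

theorem rho_mul (ρ : D ⟶ D') (hu : u₀ ≫ ρ = j ≫ u') (hv : v₀ ≫ ρ = v') (x : A) (y : C) :
    ρ.hom (u₀.hom x * v₀.hom y) = u'.hom (j.hom x) * v'.hom y := by
  have hx : ρ.hom (u₀.hom x) = u'.hom (j.hom x) := congrArg (fun ψ => ψ.hom x) hu
  have hy : ρ.hom (v₀.hom y) = v'.hom y := congrArg (fun ψ => ψ.hom y) hv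
  rw [map_mul, hx, hy]

theorem coeff_rho (cd : CompData.{u, w} a a' j) (H : IsPushout a c u₀ v₀)
    (H' : IsPushout a' c u' v') (ρ : D ⟶ D') (hu : u₀ ≫ ρ = j ≫ u') (hv : v₀ ≫ ρ = v')
    (m : cd.K) (d : D) : coeff cd H' m (ρ.hom d) = 0 := by
  apply pushout_induction H (P := fun d => coeff cd H' m (ρ.hom d) = 0)
  · show coeff cd H' m (ρ.hom 0) = 0
    rw [map_zero, map_zero]
  · intro x y
    show coeff cd H' m (ρ.hom (u₀.hom x * v₀.hom y)) = 0
    rw [rho_mul ρ hu hv, coeff_mul, cd.ℓ_j, map_zero, zero_mul]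
  · intro z w hz hw
    have hz' : coeff cd H' m (ρ.hom z) = 0 := hz
    have hw' : coeff cd H' m (ρ.hom w) = 0 := hw
    show coeff cd H' m (ρ.hom (z + w)) = 0
    rw [map_add, map_add, hz', hw', add_zero]

theorem exists_retr (cd : CompData.{u, w} a a' j) (H : IsPushout a c u₀ v₀)
    (H' : IsPushout a' c u' v') :
    ∃ r : D' →+ D, ∀ x y, r (u'.hom x * v'.hom y) = u₀.hom (cd.r₀ x) * v₀.hom y :=
  exists_addHom H' H cd.r₀ cd.r₀_smul

theorem rho_injective (cd : CompData.{u, w} a a' j) (H : IsPushout a c u₀ v₀)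
    (H' : IsPushout a' c u' v') (ρ : D ⟶ D') (hu : u₀ ≫ ρ = j ≫ u') (hv : v₀ ≫ ρ = v') :
    Function.Injective ρ.hom := by
  obtain ⟨r, hr⟩ := exists_retr cd H H'
  have hleft : ∀ d : D, r (ρ.hom d) = d := by
    intro d
    apply pushout_induction H (P := fun d => r (ρ.hom d) = d)
    · show r (ρ.hom 0) = 0
      rw [map_zero, map_zero]
    · intro x y
      show r (ρ.hom (u₀.hom x * v₀.hom y)) = u₀.hom x * v₀.hom y
      rw [rho_mul ρ hu hv, hr, cd.r₀_j]
    · intro z w hz hw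
      have hz' : r (ρ.hom z) = z := hz
      have hw' : r (ρ.hom w) = w := hw
      show r (ρ.hom (z + w)) = z + w
      rw [map_add, map_add, hz', hw']
  intro d₁ d₂ h
  rw [← hleft d₁, ← hleft d₂, h]

theorem mem_range (cd : CompData.{u, w} a a' j) (H : IsPushout a c u₀ v₀)
    (H' : IsPushout a' c u' v') (ρ : D ⟶ D') (hu : u₀ ≫ ρ = j ≫ u') (hv : v₀ ≫ ρ = v')
    (z : D') (hz : ∀ m, coeff cd H' m z = 0) : ∃ d : D, ρ.hom d = z := by
  classical
  obtain ⟨r, hr⟩ := exists_retr cd H H'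
  have hw : ∀ r' : R, v'.hom (c.hom r') = u'.hom (a'.hom r') := fun r' =>
    (congrArg (fun ψ => ψ.hom r') H'.w).symm
  have claim : ∀ z : D', ∃ F : Finset cd.K, (∀ m, m ∉ F → coeff cd H' m z = 0) ∧
      z = ρ.hom (r z) + ∑ m ∈ F, u'.hom (cd.e m) * v'.hom (coeff cd H' m z) := by
    intro z
    apply pushout_induction H' (P := fun z => ∃ F : Finset cd.K,
      (∀ m, m ∉ F → coeff cd H' m z = 0) ∧
      z = ρ.hom (r z) + ∑ m ∈ F, u'.hom (cd.e m) * v'.hom (coeff cd H' m z))
    · refine ⟨∅, fun m _ => map_zero _, ?_⟩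
      rw [Finset.sum_empty, add_zero, map_zero, map_zero]
    · intro x y
      obtain ⟨F, hF, hx⟩ := cd.decomp x
      refine ⟨F, fun m hm => ?_, ?_⟩
      · rw [coeff_mul, hF m hm, map_zero, zero_mul]
      · have hsum : ∑ m ∈ F, u'.hom (cd.e m) * v'.hom (coeff cd H' m (u'.hom x * v'.hom y)) =
            ∑ m ∈ F, (u'.hom (a'.hom (cd.ℓ m x)) * u'.hom (cd.e m)) * v'.hom y := by
          apply Finset.sum_congr rfl
          intro m _
          rw [coeff_mul, map_mul, hw]
          ring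
        have hx' : u'.hom x = u'.hom (j.hom (cd.r₀ x)) +
            ∑ m ∈ F, u'.hom (a'.hom (cd.ℓ m x)) * u'.hom (cd.e m) := by
          conv_lhs => rw [hx]
          rw [map_add, map_sum]
          congr 1
          exact Finset.sum_congr rfl (fun m _ => map_mul _ _ _)
        rw [hsum, hr, rho_mul ρ hu hv]
        conv_lhs => rw [hx']
        rw [add_mul, Finset.sum_mul]
    · rintro z w ⟨F₁, hF₁, hz⟩ ⟨F₂, hF₂, hw'⟩
      refine ⟨F₁ ∪ F₂, fun m hm => ?_, ?_⟩
      · have h1 : m ∉ F₁ := fun h => hm (Finset.mem_union_left _ h)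
        have h2 : m ∉ F₂ := fun h => hm (Finset.mem_union_right _ h)
        rw [map_add, hF₁ m h1, hF₂ m h2, add_zero]
      · have e1 : ∑ m ∈ F₁ ∪ F₂, u'.hom (cd.e m) * v'.hom (coeff cd H' m z) =
            ∑ m ∈ F₁, u'.hom (cd.e m) * v'.hom (coeff cd H' m z) := by
          symm
          apply Finset.sum_subset Finset.subset_union_left
          intro m _ hm
          rw [hF₁ m hm, map_zero, mul_zero]
        have e2 : ∑ m ∈ F₁ ∪ F₂, u'.hom (cd.e m) * v'.hom (coeff cd H' m w) =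
            ∑ m ∈ F₂, u'.hom (cd.e m) * v'.hom (coeff cd H' m w) := by
          symm
          apply Finset.sum_subset Finset.subset_union_right
          intro m _ hm
          rw [hF₂ m hm, map_zero, mul_zero]
        have e3 : ∑ m ∈ F₁ ∪ F₂, u'.hom (cd.e m) * v'.hom (coeff cd H' m (z + w)) =
            (∑ m ∈ F₁ ∪ F₂, u'.hom (cd.e m) * v'.hom (coeff cd H' m z)) +
              ∑ m ∈ F₁ ∪ F₂, u'.hom (cd.e m) * v'.hom (coeff cd H' m w) := by
          rw [← Finset.sum_add_distrib]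
          apply Finset.sum_congr rfl
          intro m _
          rw [map_add, map_add, mul_add]
        rw [e3, e1, e2, map_add, map_add]
        conv_lhs => rw [hz, hw']
        abel
  obtain ⟨F, hF, hzF⟩ := claim z
  refine ⟨r z, ?_⟩
  have h0 : ∑ m ∈ F, u'.hom (cd.e m) * v'.hom (coeff cd H' m z) = 0 :=
    Finset.sum_eq_zero (fun m _ => by rw [hz m, map_zero, mul_zero])
  rw [h0, add_zero] at hzF
  exact hzF.symm

end Derived

end Groth.Agent.Lib.Helper29.MagnetCoordRing
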