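import Mathlib
import Groth.Prelude.Def_Magnet2
import Groth.Agent.Lib.Helper29.MagnetCoordRing
import Groth.Agent.Lib.Helper29.SchDomEpi
import Groth.Agent.Lib.Helper29.MagnetAttr
import Groth.Agent.Lib.Helper26.MagnetFactor

/-!
# Equivariant maps out of a monoid in coordinates: the closed subscheme of extendable points
(helper29)

`G → Mo` a monoid morphism, `G` acting on an affine `X`.  When `G ⊗ T`, `Mo ⊗ T` are base changes of
affine schemes `G'`, `M'` over an affine `Λ` and `Γ(G')` is `Γ(M')` plus a free complement, the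
points `x : T → X` whose orbit map `G ⊗ T → X` extends to `Mo ⊗ T` form a closed subscheme.
-/
set_option autoImplicit false
set_option maxHeartbeats 1600000
set_option linter.style.haveILetI false
universe u w
open CategoryTheory CategoryTheory.Limits MonoidalCategory CartesianMonoidalCategory MonObj
  AlgebraicGeometry Opposite

noncomputable section

namespace Groth.Agent.Lib.Helper29.MagnetCoord

open Magnet Scheme.IdealSheafData Groth.Agent.Lib.Helper29.MagnetCoordRing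

theorem exists_hom_appTop_eq {Y X' : Scheme.{u}} [IsAffine X'] (κ : Γ(X', ⊤) ⟶ Γ(Y, ⊤)) :
    ∃ f : Y ⟶ X', f.appTop = κ := by
  obtain ⟨f, hf⟩ : ∃ f : Y ⟶ X', f = Y.toSpecΓ ≫ Spec.map κ ≫ X'.isoSpec.inv := ⟨_, rfl⟩
  refine ⟨f, ?_⟩
  have h : f ≫ X'.toSpecΓ = Y.toSpecΓ ≫ Spec.map κ := by
    rw [hf, Category.assoc, Category.assoc, Scheme.isoSpec_inv_toSpecΓ, Category.comp_id]
  have h2 := congrArg Scheme.Hom.appTop h
  rw [Scheme.Hom.comp_appTop, Scheme.Hom.comp_appTop, Scheme.toSpecΓ_appTop,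
    Scheme.toSpecΓ_appTop, Scheme.ΓSpecIso_naturality] at h2
  exact (cancel_epi _).1 h2

theorem eq_of_comp_eq_of_injective_appTop {Y' Y V : Scheme.{u}} [IsAffine V] (d : Y' ⟶ Y)
    (hd : Function.Injective d.appTop.hom) (f g : Y ⟶ V) (h : d ≫ f = d ≫ g) : f = g := by
  apply AlgebraicGeometry.ext_of_isAffine
  have h1 : f.appTop ≫ d.appTop = g.appTop ≫ d.appTop := by
    rw [← Scheme.Hom.comp_appTop, ← Scheme.Hom.comp_appTop, h]
  ext y
  apply hd
  exact congrArg (fun ψ => ψ.hom y) h1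

theorem ofIdealTop_le_ker_iff {Y X' : Scheme.{u}} [IsAffine X'] (I : Ideal Γ(X', ⊤))
    (f : Y ⟶ X') : ofIdealTop I ≤ f.ker ↔ I ≤ RingHom.ker f.appTop.hom := by
  rw [Scheme.ker_of_isAffine]
  exact map_le_map_iff (equivOfIsAffine (X := X')).symm

theorem injective_appTop_of_ker_eq_bot {Y X' : Scheme.{u}} [IsAffine X'] (f : Y ⟶ X')
    (hf : f.ker = ⊥) : Function.Injective f.appTop.hom := by
  rw [RingHom.injective_iff_ker_eq_bot, eq_bot_iff]
  have h : ofIdealTop (RingHom.ker f.appTop.hom) ≤ f.ker := (Scheme.ker_of_isAffine f).ge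
  rw [hf] at h
  have h2 : ofIdealTop (RingHom.ker f.appTop.hom) ≤ ofIdealTop (⊥ : Ideal Γ(X', ⊤)) := by
    refine h.trans ?_
    exact bot_le
  exact (map_le_map_iff (equivOfIsAffine (X := X')).symm).1 h2

theorem exists_factor_iff_le_ker {S : Scheme.{u}} {X : Over S} (J : X.left.IdealSheafData)
    {T : Over S} (x : T ⟶ X) :
    (∃ w : T ⟶ Over.mk (J.subschemeι ≫ X.hom),
      w ≫ (Over.homMk J.subschemeι rfl : Over.mk (J.subschemeι ≫ X.hom) ⟶ X) = x) ↔
      J ≤ x.left.ker := by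
  constructor
  · rintro ⟨w, rfl⟩
    show J ≤ (w.left ≫ J.subschemeι).ker
    conv_lhs => rw [← J.ker_subschemeι]
    exact Scheme.Hom.le_ker_comp _ _
  · intro h
    have h' : J.subschemeι.ker ≤ x.left.ker := by rw [J.ker_subschemeι]; exact h
    refine ⟨Over.homMk (IsClosedImmersion.lift J.subschemeι x.left h') ?_, ?_⟩
    · show IsClosedImmersion.lift J.subschemeι x.left h' ≫ J.subschemeι ≫ X.hom = T.hom
      rw [IsClosedImmersion.lift_fac_assoc, Over.w x]
    · ext1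
      exact IsClosedImmersion.lift_fac _ _ _

section Equivariant

variable {S : Scheme.{u}} {G Mo X : Over S} [MonObj G] [MonObj Mo]

lemma ev_map {T T' : Over S} (t : T' ⟶ T) (φ : Mo ⊗ T ⟶ X) :
    lift (toUnit T' ≫ η[Mo]) (𝟙 T') ≫ (Mo ◁ t) ≫ φ =
      t ≫ lift (toUnit T ≫ η[Mo]) (𝟙 T) ≫ φ := by
  rw [lift_whiskerLeft_assoc, Category.id_comp, comp_lift_assoc, Category.comp_id,
    ← Category.assoc t, toUnit_unique (t ≫ toUnit T) (toUnit T')]

/-- an extension of the orbit map of `x` to `Mo ⊗ T` is equivariant with unit value `x` -/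
lemma isEquivariant_of_whisker {T : Over S} (i : G ⟶ Mo) [IsMonHom i] (a : MonAct G X)
    [IsSeparated X.hom] (x : T ⟶ X) (φ : Mo ⊗ T ⟶ X)
    (h : (i ▷ T) ≫ φ = (G ◁ x) ≫ a.act) (hdom : (i ▷ (G ⊗ T)).left.ker = ⊥) :
    MonAct.IsEquivariant (((MonAct.regular Mo).restrict i).prod (MonAct.trivial G T)) a φ ∧
      lift (toUnit T ≫ η[Mo]) (𝟙 T) ≫ φ = x := by
  constructor
  · rw [MonAct.mem_eqvHom_iff]
    intro T' g m t
    rw [MonAct.lift_restrict_act, MonAct.lift_regular_act]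
    obtain ⟨F₁, hF₁⟩ : ∃ F : Mo ⊗ (G ⊗ T) ⟶ X, F =
        lift ((snd Mo (G ⊗ T) ≫ fst G T ≫ i) * fst Mo (G ⊗ T)) (snd Mo (G ⊗ T) ≫ snd G T) ≫ φ :=
      ⟨_, rfl⟩
    obtain ⟨F₂, hF₂⟩ : ∃ F : Mo ⊗ (G ⊗ T) ⟶ X, F =
        lift (snd Mo (G ⊗ T) ≫ fst G T)
          (lift (fst Mo (G ⊗ T)) (snd Mo (G ⊗ T) ≫ snd G T) ≫ φ) ≫ a.act := ⟨_, rfl⟩
    have hF : F₁ = F₂ := by
      apply SchDomEpi.eq_of_comp_eq_of_ker_eq_bot (i ▷ (G ⊗ T)) hdom
      apply hom_ext_lift₂
      intro T'' h' q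
      have p1 : lift (h' ≫ i) q ≫ F₁ =
          lift ((q ≫ fst G T ≫ i) * (h' ≫ i)) (q ≫ snd G T) ≫ φ := by
        simp only [hF₁, comp_lift_assoc, MonObj.comp_mul, lift_snd_assoc, lift_fst]
      have p2 : lift (h' ≫ i) q ≫ F₂ =
          lift (q ≫ fst G T) (lift (h' ≫ i) (q ≫ snd G T) ≫ φ) ≫ a.act := by
        simp only [hF₂, comp_lift_assoc, lift_snd_assoc, lift_fst]
      have p3 : ∀ (g₀ : T'' ⟶ G) (t₀ : T'' ⟶ T),
          lift (g₀ ≫ i) t₀ ≫ φ = lift g₀ (t₀ ≫ x) ≫ a.act := by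
        intro g₀ t₀
        rw [← lift_whiskerRight_assoc, h, lift_whiskerLeft_assoc]
      rw [lift_whiskerRight_assoc, lift_whiskerRight_assoc, p1, p2,
        ← Category.assoc q (fst G T) i, ← MonObj.mul_comp, p3, p3]
      exact a.lift_mul_act _ _ _
    have q1 : lift m (lift g t) ≫ F₁ = lift ((g ≫ i) * m) t ≫ φ := by
      simp only [hF₁, comp_lift_assoc, MonObj.comp_mul, lift_snd_assoc, lift_fst_assoc, lift_fst,
        lift_snd]
    have q2 : lift m (lift g t) ≫ F₂ = lift g (lift m t ≫ φ) ≫ a.act := by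
      simp only [hF₂, comp_lift_assoc, lift_snd_assoc, lift_fst, lift_snd]
    rw [← q1, ← q2, hF]
  · have e : lift (1 : T ⟶ Mo) (𝟙 T) = lift (1 : T ⟶ G) (𝟙 T) ≫ (i ▷ T) := by
      rw [lift_whiskerRight, MonObj.one_comp]
    show lift (1 : T ⟶ Mo) (𝟙 T) ≫ φ = x
    rw [e, Category.assoc, h, lift_whiskerLeft_assoc, Category.id_comp, a.lift_one_act]

theorem evalAt_injective (i : G ⟶ Mo) [IsMonHom i] (a : MonAct G X) [IsSeparated X.hom]
    (hdom : ∀ T : Over S, (i ▷ T).left.ker = ⊥) (T : Over S) :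
    Function.Injective (fun φ =>
      (MonAct.eqvHom.evalAt ((MonAct.regular Mo).restrict i) a η[Mo]).app (op T) φ) := by
  intro φ ψ hφψ
  apply Subtype.ext
  have h0 : lift (toUnit T ≫ η[Mo]) (𝟙 T) ≫ φ.1 = lift (toUnit T ≫ η[Mo]) (𝟙 T) ≫ ψ.1 := hφψ
  have hφ := MagnetAttr.whiskerRight_comp_eq i a φ.1 φ.2
  have hψ := MagnetAttr.whiskerRight_comp_eq i a ψ.1 ψ.2
  have h1 : (i ▷ T) ≫ φ.1 = (i ▷ T) ≫ ψ.1 := by rw [hφ, hψ, h0]
  exact SchDomEpi.eq_of_comp_eq_of_ker_eq_bot _ (hdom T) _ _ h1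

/-- packaging a closed subscheme of extendable points as a representing object -/
theorem representableBy_of_closed (i : G ⟶ Mo) [IsMonHom i] (a : MonAct G X) (Z : Over S)
    (j : Z ⟶ X) [IsClosedImmersion j.left]
    (hinj : ∀ T : Over S, Function.Injective (fun φ =>
      (MonAct.eqvHom.evalAt ((MonAct.regular Mo).restrict i) a η[Mo]).app (op T) φ))
    (hZ : ∀ {T : Over S} (x : T ⟶ X),
      (∃ φ : Mo ⊗ T ⟶ X, MonAct.IsEquivariant
          (((MonAct.regular Mo).restrict i).prod (MonAct.trivial G T)) a φ ∧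
          lift (toUnit T ≫ η[Mo]) (𝟙 T) ≫ φ = x) ↔ ∃ w : T ⟶ Z, w ≫ j = x) :
    ∃ (e : (MonAct.eqvHom ((MonAct.regular Mo).restrict i) a).RepresentableBy Z),
      ∀ (T : Over S) (z : T ⟶ Z),
        (MonAct.eqvHom.evalAt ((MonAct.regular Mo).restrict i) a η[Mo]).app (op T)
          (e.homEquiv z) = z ≫ j := by
  haveI : Mono j := Groth.Agent.Lib.Helper26.MagnetFactor.mono_of_isClosedImmersion_left j
  have h1 : ∀ {T : Over S} (w : T ⟶ Z),
      ∃ φ : (MonAct.eqvHom ((MonAct.regular Mo).restrict i) a).obj (op T),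
        (MonAct.eqvHom.evalAt ((MonAct.regular Mo).restrict i) a η[Mo]).app (op T) φ = w ≫ j := by
    intro T w
    obtain ⟨φ, hφ, he⟩ := (hZ (w ≫ j)).2 ⟨w, rfl⟩
    exact ⟨⟨φ, hφ⟩, he⟩
  have h2 : ∀ {T : Over S} (φ : (MonAct.eqvHom ((MonAct.regular Mo).restrict i) a).obj (op T)),
      ∃ w : T ⟶ Z, w ≫ j =
        (MonAct.eqvHom.evalAt ((MonAct.regular Mo).restrict i) a η[Mo]).app (op T) φ := by
    intro T φ
    exact (hZ _).1 ⟨φ.1, φ.2, rfl⟩
  let E : ∀ T : Over S, (T ⟶ Z) ≃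
      (MonAct.eqvHom ((MonAct.regular Mo).restrict i) a).obj (op T) := fun T =>
    { toFun := fun w => Classical.choose (h1 w)
      invFun := fun φ => Classical.choose (h2 φ)
      left_inv := fun w => by
        rw [← cancel_mono j]
        exact (Classical.choose_spec (h2 _)).trans (Classical.choose_spec (h1 w))
      right_inv := fun φ =>
        hinj T ((Classical.choose_spec (h1 _)).trans (Classical.choose_spec (h2 φ))) }
  refine ⟨⟨fun {T} => E T, ?_⟩, ?_⟩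
  · intro T' T t w
    apply hinj T'
    have e1 : (MonAct.eqvHom.evalAt ((MonAct.regular Mo).restrict i) a η[Mo]).app (op T')
        (E T' (t ≫ w)) = (t ≫ w) ≫ j := Classical.choose_spec (h1 (t ≫ w))
    have e2 : (MonAct.eqvHom.evalAt ((MonAct.regular Mo).restrict i) a η[Mo]).app (op T')
        ((MonAct.eqvHom ((MonAct.regular Mo).restrict i) a).map t.op (E T w)) =
        t ≫ (MonAct.eqvHom.evalAt ((MonAct.regular Mo).restrict i) a η[Mo]).app (op T)
          (E T w) := ev_map t (E T w).1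
    have e3 : (MonAct.eqvHom.evalAt ((MonAct.regular Mo).restrict i) a η[Mo]).app (op T)
        (E T w) = w ≫ j := Classical.choose_spec (h1 w)
    show (MonAct.eqvHom.evalAt ((MonAct.regular Mo).restrict i) a η[Mo]).app (op T')
        (E T' (t ≫ w)) = (MonAct.eqvHom.evalAt ((MonAct.regular Mo).restrict i) a η[Mo]).app (op T')
        ((MonAct.eqvHom ((MonAct.regular Mo).restrict i) a).map t.op (E T w))
    rw [e1, e2, e3, Category.assoc]
  · intro T z
    exact Classical.choose_spec (h1 z)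

end Equivariant

/-- the closed subscheme of points whose orbit map extends -/
theorem core {S : Scheme.{u}} {G Mo X : Over S} [MonObj G] [MonObj Mo] (i : G ⟶ Mo) [IsMonHom i]
    (a : MonAct G X) [IsAffine X.left]
    {Λ G' M' : Scheme.{u}} [IsAffine Λ] [IsAffine G'] [IsAffine M'] (s : S ⟶ Λ)
    (g' : G' ⟶ Λ) (m' : M' ⟶ Λ) (ι' : G' ⟶ M')
    (pG : ∀ T : Over S, (G ⊗ T).left ⟶ G') (pM : ∀ T : Over S, (Mo ⊗ T).left ⟶ M')
    (hG : ∀ T : Over S, IsPullback (pG T) (snd G T).left g' (T.hom ≫ s))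
    (hM : ∀ T : Over S, IsPullback (pM T) (snd Mo T).left m' (T.hom ≫ s))
    (hpG : ∀ {T T' : Over S} (t : T' ⟶ T), (G ◁ t).left ≫ pG T = pG T')
    (hi : ∀ T : Over S, (i ▷ T).left ≫ pM T = pG T ≫ ι')
    (cd : CompData.{u, w} m'.appTop g'.appTop ι'.appTop)
    {V : Scheme.{u}} [IsAffine V] (v : V ⟶ S) [Mono v] (k : X.left ⟶ V) (hk : X.hom = k ≫ v)
    (hdom : ∀ T : Over S, (i ▷ T).left.ker = ⊥) :
    ∃ (Z : Over S) (j : Z ⟶ X), IsClosedImmersion j.left ∧ ∀ {T : Over S} (x : T ⟶ X),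
      (∃ φ : Mo ⊗ T ⟶ X, MonAct.IsEquivariant
          (((MonAct.regular Mo).restrict i).prod (MonAct.trivial G T)) a φ ∧
          lift (toUnit T ≫ η[Mo]) (𝟙 T) ≫ φ = x) ↔ ∃ w : T ⟶ Z, w ≫ j = x := by
  classical
  have HG : ∀ (T : Over S) [IsAffine T.left], IsPushout g'.appTop (T.hom ≫ s).appTop
      (pG T).appTop (snd G T).left.appTop := fun T _ => isPushout_appTop_of_isPullback (hG T)
  have HM : ∀ (T : Over S) [IsAffine T.left], IsPushout m'.appTop (T.hom ≫ s).appTop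
      (pM T).appTop (snd Mo T).left.appTop := fun T _ => isPushout_appTop_of_isPullback (hM T)
  obtain ⟨I, hI⟩ : ∃ I : Ideal Γ(X.left, ⊤), I = Ideal.span {y | ∃ (m : cd.K) (b : Γ(X.left, ⊤)),
      y = coeff cd (HG X) m (a.act.left.appTop.hom b)} := ⟨_, rfl⟩
  have hnat : ∀ (T : Over S) [IsAffine T.left] (x : T ⟶ X) (m : cd.K)
      (y : Γ((G ⊗ X).left, ⊤)),
      coeff cd (HG T) m ((G ◁ x).left.appTop.hom y) =
        x.left.appTop.hom (coeff cd (HG X) m y) := by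
    intro T _ x m y
    refine coeff_nat cd (HG X) (HG T) x.left.appTop (G ◁ x).left.appTop ?_ ?_ ?_ m y
    · rw [← Scheme.Hom.comp_appTop, ← Category.assoc, Over.w x]
    · rw [← Scheme.Hom.comp_appTop, hpG x]
    · rw [← Scheme.Hom.comp_appTop, ← Scheme.Hom.comp_appTop, ← Over.comp_left,
        ← Over.comp_left, whiskerLeft_snd]
  have hu' : ∀ (T : Over S), (pM T).appTop ≫ (i ▷ T).left.appTop =
      ι'.appTop ≫ (pG T).appTop := by
    intro T
    rw [← Scheme.Hom.comp_appTop, ← Scheme.Hom.comp_appTop, hi T]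
  have hv' : ∀ (T : Over S), (snd Mo T).left.appTop ≫ (i ▷ T).left.appTop =
      (snd G T).left.appTop := by
    intro T
    rw [← Scheme.Hom.comp_appTop, ← Over.comp_left, whiskerRight_snd]
  -- affine test schemes
  have hB : ∀ (T : Over S) [IsAffine T.left] (x : T ⟶ X) (φ : Mo ⊗ T ⟶ X),
      (i ▷ T) ≫ φ = (G ◁ x) ≫ a.act → I ≤ RingHom.ker x.left.appTop.hom := by
    intro T _ x φ hφ
    rw [hI, Ideal.span_le]
    rintro _ ⟨m, b, rfl⟩
    rw [SetLike.mem_coe, RingHom.mem_ker, ← hnat T x m]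
    have e1 : (G ◁ x).left.appTop.hom (a.act.left.appTop.hom b) =
        (i ▷ T).left.appTop.hom (φ.left.appTop.hom b) := by
      have h := congrArg (fun ψ => ψ.left.appTop.hom b) hφ
      simpa only [Over.comp_left, Scheme.Hom.comp_appTop, CommRingCat.hom_comp,
        RingHom.comp_apply] using h.symm
    rw [e1]
    exact coeff_rho cd (HM T) (HG T) (i ▷ T).left.appTop (hu' T) (hv' T) m _
  -- general test schemes
  have hB' : ∀ (T : Over S) (x : T ⟶ X) (φ : Mo ⊗ T ⟶ X),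
      (i ▷ T) ≫ φ = (G ◁ x) ≫ a.act → I ≤ RingHom.ker x.left.appTop.hom := by
    intro T x φ hφ b hb
    rw [RingHom.mem_ker]
    apply Scheme.zero_of_zero_cover _ T.left.affineCover
    intro ii
    let Ti : Over S := Over.mk (T.left.affineCover.f ii ≫ T.hom)
    let ti : Ti ⟶ T := Over.homMk (T.left.affineCover.f ii) rfl
    haveI : IsAffine Ti.left := Scheme.isAffine_affineCover T.left ii
    have hφi : (i ▷ Ti) ≫ (Mo ◁ ti) ≫ φ = (G ◁ (ti ≫ x)) ≫ a.act := by
      rw [← whisker_exchange_assoc, hφ, MonoidalCategory.whiskerLeft_comp, Category.assoc]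
    have h := hB Ti (ti ≫ x) ((Mo ◁ ti) ≫ φ) hφi hb
    rw [RingHom.mem_ker, Over.comp_left, Scheme.Hom.comp_appTop, CommRingCat.hom_comp,
      RingHom.comp_apply] at h
    exact h
  -- the closed subscheme
  obtain ⟨J, hJ⟩ : ∃ J : X.left.IdealSheafData, J = ofIdealTop I := ⟨_, rfl⟩
  let Z : Over S := Over.mk (J.subschemeι ≫ X.hom)
  let j : Z ⟶ X := Over.homMk J.subschemeι rfl
  haveI hci : IsClosedImmersion j.left := inferInstanceAs (IsClosedImmersion J.subschemeι)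
  haveI hZaff : IsAffine Z.left := isAffine_of_isAffineHom J.subschemeι
  have hfac : ∀ {T : Over S} (x : T ⟶ X),
      (∃ w : T ⟶ Z, w ≫ j = x) ↔ I ≤ RingHom.ker x.left.appTop.hom := by
    intro T x
    exact (exists_factor_iff_le_ker J x).trans
      (by rw [hJ]; exact ofIdealTop_le_ker_iff I x.left)
  have hjI : I ≤ RingHom.ker j.left.appTop.hom := (hfac j).1 ⟨𝟙 Z, Category.id_comp j⟩
  -- the universal point extends
  have hrange : ∀ b : Γ(X.left, ⊤), ∃ d, (i ▷ Z).left.appTop.hom d =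
      ((G ◁ j) ≫ a.act).left.appTop.hom b := by
    intro b
    apply mem_range cd (HM Z) (HG Z) (i ▷ Z).left.appTop (hu' Z) (hv' Z)
    intro m
    have e1 : ((G ◁ j) ≫ a.act).left.appTop.hom b =
        (G ◁ j).left.appTop.hom (a.act.left.appTop.hom b) := by
      rw [Over.comp_left, Scheme.Hom.comp_appTop, CommRingCat.hom_comp, RingHom.comp_apply]
    rw [e1, hnat Z j m]
    have hmem : coeff cd (HG X) m (a.act.left.appTop.hom b) ∈ I := by
      rw [hI]
      exact Ideal.subset_span ⟨m, b, rfl⟩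
    exact RingHom.mem_ker.1 (hjI hmem)
  have hinj : Function.Injective (i ▷ Z).left.appTop.hom :=
    rho_injective cd (HM Z) (HG Z) _ (hu' Z) (hv' Z)
  obtain ⟨κ, hκ⟩ := exists_ringHom_comp_eq _ hinj ((G ◁ j) ≫ a.act).left.appTop.hom hrange
  obtain ⟨φl, hφl⟩ := exists_hom_appTop_eq (Y := (Mo ⊗ Z).left) (X' := X.left)
    (CommRingCat.ofHom κ)
  have h1 : (i ▷ Z).left ≫ φl = ((G ◁ j) ≫ a.act).left := by
    apply AlgebraicGeometry.ext_of_isAffine
    rw [Scheme.Hom.comp_appTop, hφl]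
    ext b
    exact congrArg (fun ψ => ψ b) hκ
  have h3 : φl ≫ k = (snd Mo Z).left ≫ j.left ≫ k := by
    apply eq_of_comp_eq_of_injective_appTop (i ▷ Z).left hinj
    rw [← Category.assoc, h1, ← cancel_mono v]
    simp only [Category.assoc]
    rw [← hk, Over.w, Over.w, Over.w, Over.w]
  have h2 : φl ≫ X.hom = (Mo ⊗ Z).hom := by
    rw [hk, ← Category.assoc, h3]
    simp only [Category.assoc]
    rw [← hk, Over.w, Over.w]
  let φ : Mo ⊗ Z ⟶ X := Over.homMk φl h2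
  have hφ : (i ▷ Z) ≫ φ = (G ◁ j) ≫ a.act := by
    ext1
    exact h1
  obtain ⟨heq, hev⟩ := isEquivariant_of_whisker i a j φ hφ (hdom (G ⊗ Z))
  refine ⟨Z, j, hci, ?_⟩
  intro T x
  constructor
  · rintro ⟨ψ, hψ, rfl⟩
    rw [hfac]
    exact hB' T _ ψ (MagnetAttr.whiskerRight_comp_eq i a ψ hψ)
  · rintro ⟨w, rfl⟩
    refine ⟨(Mo ◁ w) ≫ φ, ?_, ?_⟩
    · exact ((MonAct.eqvHom ((MonAct.regular Mo).restrict i) a).map w.op ⟨φ, heq⟩).2
    · rw [ev_map, hev]

end Groth.Agent.Lib.Helper29.MagnetCoord
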