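import Mathlib
import Groth.Prelude.Def_Magnet2
import Groth.Agent.Lib.Helper29.MagnetCoord
import Groth.Agent.Lib.Helper29.MagnetDom

/-!
# Coordinates for `ℤ[N] ⊆ ℤ[M]` and the local attractor of an affine scheme (helper29)
-/
set_option autoImplicit false
set_option maxHeartbeats 1600000
set_option linter.style.haveILetI false
universe u w
open CategoryTheory CategoryTheory.Limits MonoidalCategory CartesianMonoidalCategory MonObj
  AlgebraicGeometry Opposite

noncomputable section

namespace Groth.Agent.Lib.Helper29.MagnetCoordMonAlg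

open Magnet Groth.Agent.Lib.Helper29.MagnetCoordRing Groth.Agent.Lib.Helper29.MagnetCoord

/-- transport of a decomposition along isomorphisms -/
def transport {R A A' R₁ A₁ A'₁ : CommRingCat.{u}} {a : R ⟶ A} {a' : R ⟶ A'} {j : A ⟶ A'}
    (cd : CompData.{u, w} a a' j) (eR : R₁ ≅ R) (eA : A₁ ≅ A) (eA' : A'₁ ≅ A')
    {a₁ : R₁ ⟶ A₁} {a'₁ : R₁ ⟶ A'₁} {j₁ : A₁ ⟶ A'₁}
    (ha : a₁ ≫ eA.hom = eR.hom ≫ a) (ha' : a'₁ ≫ eA'.hom = eR.hom ≫ a')
    (hj : j₁ ≫ eA'.hom = eA.hom ≫ j) : CompData.{u, w} a₁ a'₁ j₁ where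
  K := cd.K
  ℓ m := (eR.inv.hom : R →+* R₁).toAddMonoidHom.comp
    ((cd.ℓ m).comp (eA'.hom.hom : A'₁ →+* A').toAddMonoidHom)
  ℓ_smul m r x := by
    show eR.inv.hom (cd.ℓ m (eA'.hom.hom (a'₁.hom r * x))) =
      r * eR.inv.hom (cd.ℓ m (eA'.hom.hom x))
    have h1 : eA'.hom.hom (a'₁.hom r) = a'.hom (eR.hom.hom r) := congrArg (fun ψ => ψ.hom r) ha'
    have h2 : eR.inv.hom (eR.hom.hom r) = r := congrArg (fun ψ => ψ.hom r) eR.hom_inv_id
    rw [map_mul, h1, cd.ℓ_smul, map_mul, h2]
  r₀ := (eA.inv.hom : A →+* A₁).toAddMonoidHom.comp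
    (cd.r₀.comp (eA'.hom.hom : A'₁ →+* A').toAddMonoidHom)
  r₀_smul r x := by
    show eA.inv.hom (cd.r₀ (eA'.hom.hom (a'₁.hom r * x))) =
      a₁.hom r * eA.inv.hom (cd.r₀ (eA'.hom.hom x))
    have h1 : eA'.hom.hom (a'₁.hom r) = a'.hom (eR.hom.hom r) := congrArg (fun ψ => ψ.hom r) ha'
    have h3 : a₁.hom r = eA.inv.hom (a.hom (eR.hom.hom r)) :=
      congrArg (fun ψ => ψ.hom r) ((Iso.eq_comp_inv eA).2 ha)
    rw [map_mul, h1, cd.r₀_smul, map_mul, h3]
  e m := eA'.inv.hom (cd.e m)
  r₀_j x := by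
    show eA.inv.hom (cd.r₀ (eA'.hom.hom (j₁.hom x))) = x
    have h2 : eA'.hom.hom (j₁.hom x) = j.hom (eA.hom.hom x) := congrArg (fun ψ => ψ.hom x) hj
    rw [h2, cd.r₀_j]
    exact congrArg (fun ψ => ψ.hom x) eA.hom_inv_id
  ℓ_j m x := by
    show eR.inv.hom (cd.ℓ m (eA'.hom.hom (j₁.hom x))) = 0
    have h2 : eA'.hom.hom (j₁.hom x) = j.hom (eA.hom.hom x) := congrArg (fun ψ => ψ.hom x) hj
    rw [h2, cd.ℓ_j, map_zero]
  decomp x := by
    obtain ⟨F, hF, hx⟩ := cd.decomp (eA'.hom.hom x)
    refine ⟨F, fun m hm => ?_, ?_⟩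
    · show eR.inv.hom (cd.ℓ m (eA'.hom.hom x)) = 0
      rw [hF m hm, map_zero]
    · apply (ConcreteCategory.bijective_of_isIso eA'.hom).1
      show eA'.hom.hom x = eA'.hom.hom (j₁.hom (eA.inv.hom (cd.r₀ (eA'.hom.hom x))) +
        ∑ m ∈ F, a'₁.hom (eR.inv.hom (cd.ℓ m (eA'.hom.hom x))) * eA'.inv.hom (cd.e m))
      have e1 : ∀ z, eA'.hom.hom (j₁.hom (eA.inv.hom z)) = j.hom z := by
        intro z
        have h2 : eA'.hom.hom (j₁.hom (eA.inv.hom z)) = j.hom (eA.hom.hom (eA.inv.hom z)) :=
          congrArg (fun ψ => ψ.hom (eA.inv.hom z)) hj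
        have h3 : eA.hom.hom (eA.inv.hom z) = z := congrArg (fun ψ => ψ.hom z) eA.inv_hom_id
        rw [h2, h3]
      have e2 : ∀ s, eA'.hom.hom (a'₁.hom (eR.inv.hom s)) = a'.hom s := by
        intro s
        have h2 : eA'.hom.hom (a'₁.hom (eR.inv.hom s)) = a'.hom (eR.hom.hom (eR.inv.hom s)) :=
          congrArg (fun ψ => ψ.hom (eR.inv.hom s)) ha'
        have h3 : eR.hom.hom (eR.inv.hom s) = s := congrArg (fun ψ => ψ.hom s) eR.inv_hom_id
        rw [h2, h3]
      have e3 : ∀ y, eA'.hom.hom (eA'.inv.hom y) = y := fun y =>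
        congrArg (fun ψ => ψ.hom y) eA'.inv_hom_id
      rw [map_add, map_sum, e1]
      conv_lhs => rw [hx]
      congr 1
      apply Finset.sum_congr rfl
      intro m _
      rw [map_mul, e2, e3]

section MonAlg

variable {M : Type} [AddCommMonoid M] (N : AddSubmonoid M)

theorem toMul_injective :
    Function.Injective (AddMonoidHom.toMultiplicative N.subtype :
      Multiplicative N → Multiplicative M) :=
  fun _ _ h => Subtype.val_injective h

/-- the decomposition `ℤ[M] = ℤ[N] ⊕ ⨁_{m ∉ N} ℤ Xᵐ` -/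
def monAlgCompData : CompData.{u, 0}
    (CommRingCat.ofHom (algebraMap (ULift.{u} ℤ) (MonoidAlgebra (ULift.{u} ℤ) (Multiplicative N))))
    (CommRingCat.ofHom (algebraMap (ULift.{u} ℤ) (MonoidAlgebra (ULift.{u} ℤ) (Multiplicative M))))
    (CommRingCat.ofHom ((MonoidAlgebra.mapDomainBialgHom (ULift.{u} ℤ)
      (AddMonoidHom.toMultiplicative N.subtype)).toAlgHom.toRingHom)) where
  K := {g : Multiplicative M // Multiplicative.toAdd g ∉ N}
  ℓ m := (Finsupp.applyAddHom m.1).comp MonoidAlgebra.coeffAddEquiv.toAddMonoidHom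
  ℓ_smul m r x := by
    show (algebraMap (ULift.{u} ℤ) (MonoidAlgebra (ULift.{u} ℤ) (Multiplicative M)) r * x).coeff
      m.1 = r * x.coeff m.1
    rw [← Algebra.smul_def, MonoidAlgebra.coeff_smul, Finsupp.smul_apply, smul_eq_mul]
  r₀ := MagnetDom.retr.{u} N.subtype Subtype.val_injective
  r₀_smul r x := by
    show MagnetDom.retr.{u} N.subtype Subtype.val_injective
      (algebraMap (ULift.{u} ℤ) (MonoidAlgebra (ULift.{u} ℤ) (Multiplicative M)) r * x) =
      algebraMap (ULift.{u} ℤ) (MonoidAlgebra (ULift.{u} ℤ) (Multiplicative N)) r *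
        MagnetDom.retr.{u} N.subtype Subtype.val_injective x
    rw [← Algebra.smul_def, ← Algebra.smul_def]
    apply MonoidAlgebra.coeff_injective
    ext n
    rfl
  e m := MonoidAlgebra.single m.1 1
  r₀_j x := MagnetDom.retr_map.{u} N.subtype Subtype.val_injective x
  ℓ_j m x := by
    show (Finsupp.mapDomain (AddMonoidHom.toMultiplicative N.subtype :
      Multiplicative N → Multiplicative M) x.coeff) m.1 = 0
    apply Finsupp.mapDomain_notin_range
    rintro ⟨n, hn⟩
    exact m.2 (by rw [← hn]; exact (Multiplicative.toAdd n).2)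
  decomp x := by
    classical
    have hjc : ∀ y : MonoidAlgebra (ULift.{u} ℤ) (Multiplicative N),
        ((MonoidAlgebra.mapDomainBialgHom (ULift.{u} ℤ)
          (AddMonoidHom.toMultiplicative N.subtype)).toAlgHom.toRingHom y).coeff =
        Finsupp.mapDomain (AddMonoidHom.toMultiplicative N.subtype :
          Multiplicative N → Multiplicative M) y.coeff := fun y => rfl
    have hrc : ∀ z : MonoidAlgebra (ULift.{u} ℤ) (Multiplicative M),
        (MagnetDom.retr.{u} N.subtype Subtype.val_injective z).coeff =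
        Finsupp.comapDomain (AddMonoidHom.toMultiplicative N.subtype :
          Multiplicative N → Multiplicative M) z.coeff (toMul_injective N).injOn := fun z => rfl
    refine ⟨x.coeff.support.subtype (fun g => Multiplicative.toAdd g ∉ N), fun m hm => ?_, ?_⟩
    · show x.coeff m.1 = 0
      rw [Finset.mem_subtype] at hm
      exact Finsupp.notMem_support_iff.1 hm
    · show x = (MonoidAlgebra.mapDomainBialgHom (ULift.{u} ℤ)
          (AddMonoidHom.toMultiplicative N.subtype)).toAlgHom.toRingHom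
          (MagnetDom.retr.{u} N.subtype Subtype.val_injective x) +
        ∑ m ∈ x.coeff.support.subtype (fun g => Multiplicative.toAdd g ∉ N),
          algebraMap (ULift.{u} ℤ) (MonoidAlgebra (ULift.{u} ℤ) (Multiplicative M))
            (x.coeff m.1) * MonoidAlgebra.single m.1 1
      apply MonoidAlgebra.coeff_injective
      ext g
      rw [MonoidAlgebra.coeff_add, Finsupp.add_apply, MonoidAlgebra.coeff_sum,
        Finsupp.finset_sum_apply, hjc, hrc]
      have hterm : ∀ m : {g : Multiplicative M // Multiplicative.toAdd g ∉ N},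
          (algebraMap (ULift.{u} ℤ) (MonoidAlgebra (ULift.{u} ℤ) (Multiplicative M))
            (x.coeff m.1) * MonoidAlgebra.single m.1 1).coeff g =
          if m.1 = g then x.coeff m.1 else 0 := by
        intro m
        rw [← Algebra.smul_def, MonoidAlgebra.coeff_smul, Finsupp.smul_apply,
          MonoidAlgebra.coeff_single_apply, smul_eq_mul]
        split_ifs <;> simp
      simp only [hterm]
      by_cases hg : Multiplicative.toAdd g ∈ N
      · have hz : ∑ m ∈ x.coeff.support.subtype (fun g => Multiplicative.toAdd g ∉ N),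
            (if m.1 = g then x.coeff m.1 else 0) = 0 := by
          apply Finset.sum_eq_zero
          intro m _
          rw [if_neg]
          intro h
          exact m.2 (h ▸ hg)
        rw [hz, add_zero]
        have hgι : g = (AddMonoidHom.toMultiplicative N.subtype)
            (Multiplicative.ofAdd (⟨Multiplicative.toAdd g, hg⟩ : N)) := rfl
        conv_rhs => rw [hgι]
        rw [Finsupp.mapDomain_apply (toMul_injective N), Finsupp.comapDomain_apply]
        rfl
      · have h0 : Finsupp.mapDomain (AddMonoidHom.toMultiplicative N.subtype :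
            Multiplicative N → Multiplicative M)
            (Finsupp.comapDomain (AddMonoidHom.toMultiplicative N.subtype :
              Multiplicative N → Multiplicative M) x.coeff (toMul_injective N).injOn) g = 0 := by
          apply Finsupp.mapDomain_notin_range
          rintro ⟨n, hn⟩
          exact hg (by rw [← hn]; exact (Multiplicative.toAdd n).2)
        rw [h0, zero_add, Finset.sum_eq_single (⟨g, hg⟩ :
          {g : Multiplicative M // Multiplicative.toAdd g ∉ N})]
        · rw [if_pos rfl]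
        · intro b _ hb
          rw [if_neg]
          intro h
          exact hb (Subtype.ext h)
        · intro hnot
          rw [if_pos rfl]
          rw [Finset.mem_subtype] at hnot
          exact Finsupp.notMem_support_iff.1 hnot

/-- the decomposition on global sections of `Spec` -/
def specCompData : CompData.{u, 0} (AMon (ULift.{u} ℤ) N).hom.appTop
    (AMon (ULift.{u} ℤ) M).hom.appTop (AMon.map (ULift.{u} ℤ) N.subtype).left.appTop :=
  transport (monAlgCompData.{u} N) (Scheme.ΓSpecIso _) (Scheme.ΓSpecIso _) (Scheme.ΓSpecIso _)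
    (Scheme.ΓSpecIso_naturality _) (Scheme.ΓSpecIso_naturality _) (Scheme.ΓSpecIso_naturality _)

end MonAlg

/-- the local step: affine `X` lying over an affine open of `S` -/
theorem local_step (S : Scheme.{u}) (M : Type) [AddCommMonoid M] (N : AddSubmonoid M)
    (X : Over S) [IsAffine X.left] (a : MonAct (AMonS S M) X)
    {V : Scheme.{u}} [IsAffine V] (v : V ⟶ S) [Mono v] (k : X.left ⟶ V) (hk : X.hom = k ≫ v) :
    ∃ (Z : Over S) (j : Z ⟶ X), IsClosedImmersion j.left ∧ ∀ {T : Over S} (x : T ⟶ X),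
      (∃ φ : AMonS S N ⊗ T ⟶ X, MonAct.IsEquivariant
          (((MonAct.regular (AMonS S N)).restrict (AMonS.map S N.subtype)).prod
            (MonAct.trivial (AMonS S M) T)) a φ ∧
          lift (toUnit T ≫ η[AMonS S N]) (𝟙 T) ≫ φ = x) ↔ ∃ w : T ⟶ Z, w ≫ j = x := by
  haveI := MagnetDom.isAffine_AMon_left.{u} M
  haveI := MagnetDom.isAffine_AMon_left.{u} (↥N)
  have hpG : ∀ {T T' : Over S} (t : T' ⟶ T),
      (AMonS S M ◁ t).left ≫ MagnetDom.pN S T M = MagnetDom.pN S T' M := by
    intro T T' t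
    unfold MagnetDom.pN
    rw [← Category.assoc, ← Over.comp_left, whiskerLeft_fst]
  exact core (AMonS.map S N.subtype) a (Limits.IsTerminal.from specULiftZIsTerminal S)
    (AMon (ULift.{u} ℤ) M).hom (AMon (ULift.{u} ℤ) N).hom (AMon.map (ULift.{u} ℤ) N.subtype).left
    (fun T => MagnetDom.pN S T M) (fun T => MagnetDom.pN S T N)
    (fun T => MagnetDom.isPullback_pN_qN S T M) (fun T => MagnetDom.isPullback_pN_qN S T N)
    hpG (fun T => MagnetDom.whisker_pN S T N.subtype) (specCompData.{u} N) v k hk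
    (fun T => MagnetDom.ker_whiskerRight_eq_bot S T N.subtype Subtype.val_injective)

end Groth.Agent.Lib.Helper29.MagnetCoordMonAlg
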