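import Mathlib
import Groth.Prelude.Def_Magnet2
import Groth.Agent.Lib.Helper29.MagnetCoord
import Groth.Agent.Lib.Helper29.DescFF
import Groth.Agent.Lib.Helper29.IdealDesc

/-!
# Gluing the closed subscheme of extendable points along a cover of the base (helper29)
-/
set_option autoImplicit false
set_option maxHeartbeats 1600000
set_option linter.style.haveILetI false
universe u
open CategoryTheory CategoryTheory.Limits MonoidalCategory CartesianMonoidalCategory MonObj
  AlgebraicGeometry Opposite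

noncomputable section

namespace Groth.Agent.Lib.Helper29.MagnetCoordGlob

open Magnet Scheme.IdealSheafData Groth.Agent.Lib.Helper29.MagnetCoord

section
variable {S : Scheme.{u}}

lemma isPullback_whiskerLeft_left (B : Over S) {T T' : Over S} (t : T' ⟶ T) :
    IsPullback (B ◁ t).left (snd B T').left (snd B T).left t.left := by
  have hright : IsPullback (fst B T).left (snd B T).left B.hom T.hom :=
    IsPullback.of_hasPullback B.hom T.hom
  have houter : IsPullback ((B ◁ t).left ≫ (fst B T).left) (snd B T').left B.hom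
      (t.left ≫ T.hom) := by
    have h1 : (B ◁ t).left ≫ (fst B T).left = (fst B T').left := by
      rw [← Over.comp_left, whiskerLeft_fst]
    rw [h1, Over.w t]
    exact IsPullback.of_hasPullback B.hom T'.hom
  refine IsPullback.of_right houter ?_ hright
  rw [← Over.comp_left, ← Over.comp_left, whiskerLeft_snd]

theorem cover_whiskerLeft (B : Over S) {T : Over S} {Idx : Type u} (Ti : Idx → Over S)
    (t : ∀ i, Ti i ⟶ T)
    (hcov : Presieve.ofArrows (fun i => (Ti i).left) (fun i => (t i).left) ∈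
      Scheme.fpqcPrecoverage T.left) :
    Presieve.ofArrows (fun i => (B ⊗ Ti i).left) (fun i => (B ◁ t i).left) ∈
      Scheme.fpqcPrecoverage (B ⊗ T).left :=
  Precoverage.mem_coverings_of_isPullback (fun i => (t i).left) hcov (snd B T).left
    (fun i => (B ◁ t i).left) (fun i => (snd B (Ti i)).left)
    (fun i => isPullback_whiskerLeft_left B (t i))

theorem exists_factor_of_local {Z X T : Over S} (j : Z ⟶ X) [Mono j.left] (x : T ⟶ X)
    {Idx : Type u} (Ti : Idx → Scheme.{u}) (t : ∀ i, Ti i ⟶ T.left)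
    (hcov : Presieve.ofArrows Ti t ∈ Scheme.fpqcPrecoverage T.left)
    (h : ∀ i, ∃ w : Ti i ⟶ Z.left, w ≫ j.left = t i ≫ x.left) : ∃ w : T ⟶ Z, w ≫ j = x := by
  choose w hw using h
  obtain ⟨wl, hwl⟩ := DescFF.fpqc_glue Z.left t hcov w (fun i i' P p q hpq => by
    rw [← cancel_mono j.left, Category.assoc, Category.assoc, hw i, hw i', ← Category.assoc,
      ← Category.assoc, hpq])
  have hfac : wl ≫ j.left = x.left := by
    apply DescFF.fpqc_sep X.left t hcov
    intro i
    rw [← Category.assoc, hwl i, hw i]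
  refine ⟨Over.homMk wl ?_, ?_⟩
  · rw [← Over.w j, ← Category.assoc, hfac, Over.w x]
  · ext1
    exact hfac

variable {G Mo X : Over S} [MonObj G] [MonObj Mo] (i₀ : G ⟶ Mo) [IsMonHom i₀] (a : MonAct G X)

/-- the orbit map of `x` extends to `Mo ⊗ T` -/
def Ext {T : Over S} (x : T ⟶ X) : Prop :=
  ∃ φ : Mo ⊗ T ⟶ X, (i₀ ▷ T) ≫ φ = (G ◁ x) ≫ a.act

variable {i₀ a}

theorem Ext.comp {T T' : Over S} {x : T ⟶ X} (h : Ext i₀ a x) (t : T' ⟶ T) :
    Ext i₀ a (t ≫ x) := by
  obtain ⟨φ, hφ⟩ := h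
  refine ⟨(Mo ◁ t) ≫ φ, ?_⟩
  rw [← whisker_exchange_assoc, hφ, MonoidalCategory.whiskerLeft_comp, Category.assoc]

variable (i₀ a)

theorem ext_iff_exists_equivariant [IsSeparated X.hom]
    (hdom : ∀ T : Over S, (i₀ ▷ T).left.ker = ⊥) {T : Over S} (x : T ⟶ X) :
    Ext i₀ a x ↔ ∃ φ : Mo ⊗ T ⟶ X, MonAct.IsEquivariant
      (((MonAct.regular Mo).restrict i₀).prod (MonAct.trivial G T)) a φ ∧
      lift (toUnit T ≫ η[Mo]) (𝟙 T) ≫ φ = x := by
  constructor
  · rintro ⟨φ, hφ⟩
    exact ⟨φ, isEquivariant_of_whisker i₀ a x φ hφ (hdom _)⟩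
  · rintro ⟨φ, hφ, rfl⟩
    exact ⟨φ, MagnetAttr.whiskerRight_comp_eq i₀ a φ hφ⟩

/-- extendability is local on the test scheme -/
theorem Ext.of_local [IsSeparated X.hom] (hdom : ∀ T : Over S, (i₀ ▷ T).left.ker = ⊥)
    {T : Over S} (x : T ⟶ X) {Idx : Type u} (Ti : Idx → Over S) (t : ∀ i, Ti i ⟶ T)
    (hcov : Presieve.ofArrows (fun i => (Ti i).left) (fun i => (t i).left) ∈
      Scheme.fpqcPrecoverage T.left)
    (h : ∀ i, Ext i₀ a (t i ≫ x)) : Ext i₀ a x := by
  choose φ hφ using h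
  have hcovM := cover_whiskerLeft Mo Ti t hcov
  have hcovG := cover_whiskerLeft G Ti t hcov
  have hcompat : ∀ (i j : Idx) (P : Scheme.{u}) (p : P ⟶ (Mo ⊗ Ti i).left)
      (q : P ⟶ (Mo ⊗ Ti j).left),
      p ≫ (Mo ◁ t i).left = q ≫ (Mo ◁ t j).left → p ≫ (φ i).left = q ≫ (φ j).left := by
    intro i j P p q hpq
    let P' : Over S := Over.mk (p ≫ (Mo ⊗ Ti i).hom)
    let p' : P' ⟶ Mo ⊗ Ti i := Over.homMk p rfl
    have hq : q ≫ (Mo ⊗ Ti j).hom = P'.hom := by
      show q ≫ (Mo ⊗ Ti j).hom = p ≫ (Mo ⊗ Ti i).hom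
      rw [← Over.w (Mo ◁ t i), ← Over.w (Mo ◁ t j), ← Category.assoc, ← Category.assoc, hpq]
    let q' : P' ⟶ Mo ⊗ Ti j := Over.homMk q hq
    have hpq' : p' ≫ (Mo ◁ t i) = q' ≫ (Mo ◁ t j) := by
      apply Over.OverMorphism.ext
      exact hpq
    have hm : p' ≫ fst Mo (Ti i) = q' ≫ fst Mo (Ti j) := by
      have := congrArg (fun f => f ≫ fst Mo T) hpq'
      simpa only [Category.assoc, whiskerLeft_fst] using this
    have ht : (p' ≫ snd Mo (Ti i)) ≫ t i = (q' ≫ snd Mo (Ti j)) ≫ t j := by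
      have := congrArg (fun f => f ≫ snd Mo T) hpq'
      simpa only [Category.assoc, whiskerLeft_snd] using this
    have hx : (p' ≫ snd Mo (Ti i)) ≫ t i ≫ x = (q' ≫ snd Mo (Ti j)) ≫ t j ≫ x := by
      rw [← Category.assoc, ht, Category.assoc]
    have key : (Mo ◁ (p' ≫ snd Mo (Ti i))) ≫ φ i = (Mo ◁ (q' ≫ snd Mo (Ti j))) ≫ φ j := by
      apply SchDomEpi.eq_of_comp_eq_of_ker_eq_bot (i₀ ▷ P') (hdom P')
      rw [← whisker_exchange_assoc, hφ i, ← whisker_exchange_assoc, hφ j,
        ← MonoidalCategory.whiskerLeft_comp_assoc, ← MonoidalCategory.whiskerLeft_comp_assoc, hx]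
    have e1 : p' ≫ φ i =
        lift (p' ≫ fst Mo (Ti i)) (𝟙 P') ≫ (Mo ◁ (p' ≫ snd Mo (Ti i))) ≫ φ i := by
      rw [lift_whiskerLeft_assoc, Category.id_comp, lift_comp_fst_snd]
    have e2 : q' ≫ φ j =
        lift (q' ≫ fst Mo (Ti j)) (𝟙 P') ≫ (Mo ◁ (q' ≫ snd Mo (Ti j))) ≫ φ j := by
      rw [lift_whiskerLeft_assoc, Category.id_comp, lift_comp_fst_snd]
    have e3 : p' ≫ φ i = q' ≫ φ j := by rw [e1, e2, key, hm]
    exact congrArg (fun f => f.left) e3
  obtain ⟨φl, hφl⟩ := DescFF.fpqc_glue X.left (fun i => (Mo ◁ t i).left) hcovM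
    (fun i => (φ i).left) hcompat
  have hover : φl ≫ X.hom = (Mo ⊗ T).hom := by
    apply DescFF.fpqc_sep S (fun i => (Mo ◁ t i).left) hcovM
    intro i
    rw [← Category.assoc, hφl i, Over.w (φ i), Over.w (Mo ◁ t i)]
  let Φ : Mo ⊗ T ⟶ X := Over.homMk φl hover
  have hΦ : ∀ i, (Mo ◁ t i) ≫ Φ = φ i := fun i => by
    ext1
    exact hφl i
  refine ⟨Φ, ?_⟩
  apply Over.OverMorphism.ext
  apply DescFF.fpqc_sep X.left (fun i => (G ◁ t i).left) hcovG
  intro i
  have e : (G ◁ t i) ≫ (i₀ ▷ T) ≫ Φ = (G ◁ t i) ≫ (G ◁ x) ≫ a.act := by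
    rw [whisker_exchange_assoc, hΦ i, hφ i, MonoidalCategory.whiskerLeft_comp, Category.assoc]
  exact congrArg (fun f => f.left) e

/-- gluing the closed subschemes of extendable points over a cover of the base -/
theorem glob [IsSeparated X.hom] (hdom : ∀ T : Over S, (i₀ ▷ T).left.ker = ⊥)
    {Idx : Type u} (V : Idx → Scheme.{u}) (v : ∀ i, V i ⟶ S)
    (hv : Presieve.ofArrows V v ∈ Scheme.fpqcPrecoverage S)
    (hloc : ∀ i, ∃ (Zi : Over S) (ji' : Zi ⟶ Over.mk (pullback.snd (v i) X.hom ≫ X.hom)),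
      IsClosedImmersion ji'.left ∧
      ∀ {T : Over S} (u : T ⟶ Over.mk (pullback.snd (v i) X.hom ≫ X.hom)),
        Ext i₀ a (u ≫ (Over.homMk (pullback.snd (v i) X.hom) rfl :
          Over.mk (pullback.snd (v i) X.hom ≫ X.hom) ⟶ X)) ↔ ∃ w : T ⟶ Zi, w ≫ ji' = u) :
    ∃ (Z : Over S) (j : Z ⟶ X), IsClosedImmersion j.left ∧
      ∀ {T : Over S} (x : T ⟶ X), Ext i₀ a x ↔ ∃ w : T ⟶ Z, w ≫ j = x := by
  let Xi : Idx → Over S := fun i => Over.mk (pullback.snd (v i) X.hom ≫ X.hom)
  let ji : ∀ i, Xi i ⟶ X := fun i => Over.homMk (pullback.snd (v i) X.hom) rfl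
  choose Zi ji' hcl hZi using hloc
  haveI := hcl
  have hcovX : Presieve.ofArrows (fun i => (Xi i).left) (fun i => (ji i).left) ∈
      Scheme.fpqcPrecoverage X.left := DescFF.cover_bc v hv X
  have hle : ∀ (i i' : Idx) (P : Scheme.{u}) (p₁ : P ⟶ (Xi i).left) (p₂ : P ⟶ (Xi i').left),
      p₁ ≫ (ji i).left = p₂ ≫ (ji i').left →
      (ji' i').left.ker.comap p₂ ≤ (ji' i).left.ker.comap p₁ := by
    intro i i' P p₁ p₂ h12
    rw [← ker_fst_of_isClosedImmersion (ji' i).left p₁,
      ← ker_fst_of_isClosedImmersion (ji' i').left p₂]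
    obtain ⟨c₁, hc₁⟩ : ∃ c₁ : pullback p₁ (ji' i).left ⟶ P,
      c₁ = pullback.fst p₁ (ji' i).left := ⟨_, rfl⟩
    rw [← hc₁]
    have h12X : p₁ ≫ (ji i).left ≫ X.hom = p₂ ≫ (ji i').left ≫ X.hom := by
      rw [← Category.assoc, h12, Category.assoc]
    let T : Over S := Over.mk (c₁ ≫ p₁ ≫ (Xi i).hom)
    let u₁ : T ⟶ Xi i := Over.homMk (c₁ ≫ p₁) (Category.assoc _ _ _)
    have hp2 : (c₁ ≫ p₂) ≫ (Xi i').hom = T.hom := by
      show (c₁ ≫ p₂) ≫ (Xi i').hom = c₁ ≫ p₁ ≫ (Xi i).hom
      rw [← Over.w (ji i), ← Over.w (ji i'), Category.assoc, h12X]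
    let u₂ : T ⟶ Xi i' := Over.homMk (c₁ ≫ p₂) hp2
    have h12' : u₁ ≫ ji i = u₂ ≫ ji i' := by
      ext1
      show (c₁ ≫ p₁) ≫ (ji i).left = (c₁ ≫ p₂) ≫ (ji i').left
      rw [Category.assoc, Category.assoc, h12]
    have hw1 : ∃ w : T ⟶ Zi i, w ≫ ji' i = u₁ := by
      refine ⟨Over.homMk (pullback.snd p₁ (ji' i).left) ?_, ?_⟩
      · have hcond : pullback.snd p₁ (ji' i).left ≫ (ji' i).left = c₁ ≫ p₁ := by
          rw [hc₁]
          exact pullback.condition.symm
        exact (by rw [← Over.w (ji' i), ← Category.assoc, hcond, Category.assoc] :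
          pullback.snd p₁ (ji' i).left ≫ (Zi i).hom =
            c₁ ≫ p₁ ≫ (Over.mk (pullback.snd (v i) X.hom ≫ X.hom)).hom)
      · ext1
        show pullback.snd p₁ (ji' i).left ≫ (ji' i).left = c₁ ≫ p₁
        rw [hc₁]
        exact pullback.condition.symm
    have hE1 : Ext i₀ a (u₁ ≫ ji i) := (hZi i u₁).2 hw1
    rw [h12'] at hE1
    obtain ⟨w₂, hw₂⟩ := (hZi i' u₂).1 hE1
    have hw₂' : w₂.left ≫ (ji' i').left = c₁ ≫ p₂ := congrArg (fun k => k.left) hw₂
    have e : pullback.lift c₁ w₂.left hw₂'.symm ≫ pullback.fst p₂ (ji' i').left = c₁ :=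
      pullback.lift_fst _ _ _
    calc (pullback.fst p₂ (ji' i').left).ker
        ≤ (pullback.lift c₁ w₂.left hw₂'.symm ≫ pullback.fst p₂ (ji' i').left).ker :=
          Scheme.Hom.le_ker_comp _ _
      _ = c₁.ker := by rw [e]
  obtain ⟨J, hJ, -⟩ := IdealDesc.main11731 (fun i => (ji i).left) hcovX
    (fun i => (ji' i).left.ker)
    (fun i i' => le_antisymm (hle i' i _ _ _ pullback.condition.symm)
      (hle i i' _ _ _ pullback.condition))
  have hJ' : ∀ i, J.comap (ji i).left = (ji' i).left.ker := hJ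
  let Z : Over S := Over.mk (J.subschemeι ≫ X.hom)
  let j : Z ⟶ X := Over.homMk J.subschemeι rfl
  haveI hci : IsClosedImmersion j.left := inferInstanceAs (IsClosedImmersion J.subschemeι)
  have hlam : ∀ i, ∃ lam : (Zi i).left ⟶ J.subscheme,
      lam ≫ J.subschemeι = (ji' i).left ≫ (ji i).left := by
    intro i
    have hJle : J.subschemeι.ker ≤ ((ji' i).left ≫ (ji i).left).ker := by
      rw [ker_subschemeι, ← Scheme.IdealSheafData.map_ker (ji' i).left (ji i).left,
        le_map_iff_comap_le]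
      exact (hJ' i).le
    exact ⟨IsClosedImmersion.lift J.subschemeι _ hJle, IsClosedImmersion.lift_fac _ _ _⟩
  have hkap : ∀ i, ∃ κ : pullback (ji i).left J.subschemeι ⟶ (Zi i).left,
      κ ≫ (ji' i).left = pullback.fst (ji i).left J.subschemeι := by
    intro i
    have hc : (pullback.fst (ji i).left J.subschemeι).ker = (ji' i).left.ker := by
      rw [ker_fst_of_isClosedImmersion, ker_subschemeι, hJ' i]
    exact ⟨IsClosedImmersion.lift (ji' i).left _ hc.ge, IsClosedImmersion.lift_fac _ _ _⟩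
  refine ⟨Z, j, hci, ?_⟩
  intro T x
  constructor
  · intro hx
    haveI : Mono j.left := inferInstance
    apply exists_factor_of_local j x (fun i => pullback (ji i).left x.left)
      (fun i => pullback.snd (ji i).left x.left)
      (Precoverage.mem_coverings_of_isPullback (fun i => (ji i).left) hcovX x.left
        (fun i => pullback.snd (ji i).left x.left) (fun i => pullback.fst (ji i).left x.left)
        (fun i => (IsPullback.of_hasPullback (ji i).left x.left).flip))
    intro i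
    let Ti : Over S := Over.mk (pullback.snd (ji i).left x.left ≫ T.hom)
    let ti : Ti ⟶ T := Over.homMk (pullback.snd (ji i).left x.left) rfl
    have hu : pullback.fst (ji i).left x.left ≫ (Xi i).hom = Ti.hom := by
      show pullback.fst (ji i).left x.left ≫ (Xi i).hom =
        pullback.snd (ji i).left x.left ≫ T.hom
      rw [← Over.w (ji i), ← Category.assoc, pullback.condition, Category.assoc, Over.w x]
    let ui : Ti ⟶ Xi i := Over.homMk (pullback.fst (ji i).left x.left) hu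
    have hut : ui ≫ ji i = ti ≫ x := by
      ext1
      exact pullback.condition
    have hE : Ext i₀ a (ui ≫ ji i) := by
      rw [hut]
      exact hx.comp ti
    obtain ⟨w, hw⟩ := (hZi i ui).1 hE
    obtain ⟨lam, hlam⟩ := hlam i
    refine ⟨w.left ≫ lam, ?_⟩
    show (w.left ≫ lam) ≫ J.subschemeι = pullback.snd (ji i).left x.left ≫ x.left
    rw [Category.assoc, hlam, ← Category.assoc, ← Over.comp_left, hw]
    exact pullback.condition
  · rintro ⟨w, rfl⟩
    suffices hj : Ext i₀ a j from hj.comp w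
    let Zc : Idx → Over S := fun i => Over.mk (pullback.snd (ji i).left j.left ≫ Z.hom)
    let tc : ∀ i, Zc i ⟶ Z := fun i => Over.homMk (pullback.snd (ji i).left j.left) rfl
    have hcovZ : Presieve.ofArrows (fun i => (Zc i).left) (fun i => (tc i).left) ∈
        Scheme.fpqcPrecoverage Z.left :=
      Precoverage.mem_coverings_of_isPullback (fun i => (ji i).left) hcovX j.left
        (fun i => pullback.snd (ji i).left j.left) (fun i => pullback.fst (ji i).left j.left)
        (fun i => (IsPullback.of_hasPullback (ji i).left j.left).flip)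
    apply Ext.of_local i₀ a hdom j Zc tc hcovZ
    intro i
    have hu : pullback.fst (ji i).left j.left ≫ (Xi i).hom = (Zc i).hom := by
      show pullback.fst (ji i).left j.left ≫ (Xi i).hom =
        pullback.snd (ji i).left j.left ≫ Z.hom
      rw [← Over.w (ji i), ← Category.assoc, pullback.condition, Category.assoc, Over.w j]
    let ui : Zc i ⟶ Xi i := Over.homMk (pullback.fst (ji i).left j.left) hu
    have hut : ui ≫ ji i = tc i ≫ j := by
      ext1
      exact pullback.condition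
    rw [← hut]
    apply (hZi i ui).2
    obtain ⟨κ, hκ⟩ := hkap i
    refine ⟨Over.homMk κ ?_, ?_⟩
    · rw [← Over.w (ji' i), ← Category.assoc]
      exact (congrArg (fun f => f ≫ (Xi i).hom) hκ).trans hu
    · ext1
      exact hκ

end

end Groth.Agent.Lib.Helper29.MagnetCoordGlob
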