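import Mathlib
import Groth.Prelude.Def_Magnet2
import Groth.Agent.Lib.Helper29.MagnetCoordMonAlg
import Groth.Agent.Lib.Helper29.MagnetCoordGlob

/-!
# The attractor of a scheme affine over the base is a closed subscheme (S18295) (helper29)
-/
set_option autoImplicit false
set_option maxHeartbeats 1600000
set_option linter.style.haveILetI false
universe u
open CategoryTheory CategoryTheory.Limits MonoidalCategory CartesianMonoidalCategory MonObj
  AlgebraicGeometry Opposite

noncomputable section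

namespace Groth.Agent.Lib.Helper29.MagnetCoordAttr

open Magnet Groth.Agent.Lib.Helper29.MagnetCoord Groth.Agent.Lib.Helper29.MagnetCoordGlob
  Groth.Agent.Lib.Helper29.MagnetCoordMonAlg

/-- the piece of the attractor over an affine open of the base -/
theorem local_piece (S : Scheme.{u}) (M : Type) [AddCommMonoid M] (N : AddSubmonoid M)
    (X : Over S) [IsAffineHom X.hom] (a : MonAct (AMonS S M) X)
    {V : Scheme.{u}} [IsAffine V] (v : V ⟶ S) [IsOpenImmersion v] :
    ∃ (Zi : Over S) (ji' : Zi ⟶ Over.mk (pullback.snd v X.hom ≫ X.hom)),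
      IsClosedImmersion ji'.left ∧
      ∀ {T : Over S} (u : T ⟶ Over.mk (pullback.snd v X.hom ≫ X.hom)),
        Ext (AMonS.map S N.subtype) a (u ≫ (Over.homMk (pullback.snd v X.hom) rfl :
          Over.mk (pullback.snd v X.hom ≫ X.hom) ⟶ X)) ↔ ∃ w : T ⟶ Zi, w ≫ ji' = u := by
  obtain ⟨Xi, hXi⟩ : ∃ Xi : Over S, Xi = Over.mk (pullback.snd v X.hom ≫ X.hom) := ⟨_, rfl⟩
  subst hXi
  obtain ⟨ji, hji⟩ : ∃ ji : Over.mk (pullback.snd v X.hom ≫ X.hom) ⟶ X,
      ji = Over.homMk (pullback.snd v X.hom) rfl := ⟨_, rfl⟩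
  rw [← hji]
  have hjil : ji.left = pullback.snd v X.hom := by rw [hji]; rfl
  haveI : IsAffine (Over.mk (pullback.snd v X.hom ≫ X.hom)).left :=
    (inferInstance : IsAffine (pullback v X.hom))
  haveI : Mono ji.left := by rw [hjil]; infer_instance
  haveI : Mono ji := Over.mono_of_mono_left ji
  have hdom : ∀ T : Over S, ((AMonS.map S N.subtype) ▷ T).left.ker = ⊥ := fun T =>
    MagnetDom.ker_whiskerRight_eq_bot S T N.subtype Subtype.val_injective
  -- lifting through the open piece
  have hlift : ∀ {Y : Over S} (f : Y ⟶ X) (h : Y.left ⟶ V), h ≫ v = Y.hom →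
      ∃ f' : Y ⟶ Over.mk (pullback.snd v X.hom ≫ X.hom), f' ≫ ji = f := by
    intro Y f h hh
    have hc : h ≫ v = f.left ≫ X.hom := hh.trans (Over.w f).symm
    refine ⟨Over.homMk (pullback.lift h f.left hc) ?_, ?_⟩
    · show pullback.lift h f.left hc ≫ pullback.snd v X.hom ≫ X.hom = Y.hom
      rw [pullback.lift_snd_assoc, Over.w f]
    · apply Over.OverMorphism.ext
      show pullback.lift h f.left hc ≫ ji.left = f.left
      rw [hjil, pullback.lift_snd]
  have hXihom : (Over.mk (pullback.snd v X.hom ≫ X.hom)).hom = pullback.fst v X.hom ≫ v :=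
    pullback.condition.symm
  -- the restricted action
  obtain ⟨cact, hcact⟩ := hlift ((AMonS S M ◁ ji) ≫ a.act)
    ((snd (AMonS S M) (Over.mk (pullback.snd v X.hom ≫ X.hom))).left ≫ pullback.fst v X.hom)
    (by rw [Category.assoc, ← hXihom, Over.w])
  obtain ⟨ai, -, hai⟩ := Groth.Agent.Lib.Helper26.MagnetFactor.exists_monAct_of_mono a ji cact hcact
  have hai' : ai.act ≫ ji = (AMonS S M ◁ ji) ≫ a.act := hai
  obtain ⟨Zi, ji', hcl, hP⟩ := local_step S M N (Over.mk (pullback.snd v X.hom ≫ X.hom)) ai v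
    (pullback.fst v X.hom) hXihom
  refine ⟨Zi, ji', hcl, ?_⟩
  intro T u
  have h1 : Ext (AMonS.map S N.subtype) a (u ≫ ji) ↔ Ext (AMonS.map S N.subtype) ai u := by
    constructor
    · rintro ⟨φ, hφ⟩
      obtain ⟨φ', hφ'⟩ := hlift φ ((snd (AMonS S N) T).left ≫ u.left ≫ pullback.fst v X.hom)
        (by rw [Category.assoc, Category.assoc, ← hXihom, Over.w u, Over.w])
      refine ⟨φ', ?_⟩
      rw [← cancel_mono ji, Category.assoc, hφ', hφ, Category.assoc, hai',
        MonoidalCategory.whiskerLeft_comp, Category.assoc]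
    · rintro ⟨φ, hφ⟩
      refine ⟨φ ≫ ji, ?_⟩
      rw [← Category.assoc, hφ, Category.assoc, hai', MonoidalCategory.whiskerLeft_comp,
        Category.assoc]
  exact h1.trans ((ext_iff_exists_equivariant (AMonS.map S N.subtype) ai hdom u).trans (hP u))

theorem main18295 (S : Scheme.{u}) (M : Type)
    [AddCommMonoid M] (N : AddSubmonoid M) (X : Over S) [IsAffineHom X.hom]
    (a : Magnet.MonAct (Magnet.AMonS S M) X) :
    ∃ (Z : Over S) (i : Z ⟶ X) (e : (Magnet.attr a N).RepresentableBy Z),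
      IsClosedImmersion i.left ∧
      ∀ (T : Over S) (z : T ⟶ Z), (Magnet.attrToX a N).app (op T) (e.homEquiv z) = z ≫ i := by
  have hdom : ∀ T : Over S, ((AMonS.map S N.subtype) ▷ T).left.ker = ⊥ := fun T =>
    MagnetDom.ker_whiskerRight_eq_bot S T N.subtype Subtype.val_injective
  have hv : Presieve.ofArrows S.affineCover.X S.affineCover.f ∈ Scheme.fpqcPrecoverage S :=
    Scheme.zariskiPrecoverage_le_fpqcPrecoverage _ S.affineCover.mem₀
  obtain ⟨Z, j, hcl, hZ⟩ := glob (AMonS.map S N.subtype) a hdom S.affineCover.X S.affineCover.f hv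
    (fun i => local_piece S M N X a (S.affineCover.f i))
  haveI := hcl
  have hZ' : ∀ {T : Over S} (x : T ⟶ X),
      (∃ φ : AMonS S N ⊗ T ⟶ X, MonAct.IsEquivariant
          (((MonAct.regular (AMonS S N)).restrict (AMonS.map S N.subtype)).prod
            (MonAct.trivial (AMonS S M) T)) a φ ∧
          lift (toUnit T ≫ η[AMonS S N]) (𝟙 T) ≫ φ = x) ↔ ∃ w : T ⟶ Z, w ≫ j = x := by
    intro T x
    exact (ext_iff_exists_equivariant (AMonS.map S N.subtype) a hdom x).symm.trans (hZ x)
  obtain ⟨e, he⟩ := representableBy_of_closed (AMonS.map S N.subtype) a Z j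
    (evalAt_injective (AMonS.map S N.subtype) a hdom) hZ'
  exact ⟨Z, j, e, hcl, he⟩

end Groth.Agent.Lib.Helper29.MagnetCoordAttr
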