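import Mathlib
import Groth.Prelude.Def_Magnet2
import Groth.Agent.Lib.Helper29.MagnetCoord

/-!
# The ideal of bad coefficients (variant of `MagnetCoord.core` exposing the ideal) (helper29)
-/
set_option autoImplicit false
set_option maxHeartbeats 1600000
set_option linter.style.haveILetI false
universe u w
open CategoryTheory CategoryTheory.Limits MonoidalCategory CartesianMonoidalCategory MonObj
  AlgebraicGeometry Opposite

noncomputable section

namespace Groth.Agent.Lib.Helper29.MagnetCoordIdeal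

open Magnet Scheme.IdealSheafData Groth.Agent.Lib.Helper29.MagnetCoordRing
  Groth.Agent.Lib.Helper29.MagnetCoord

/-- the points whose orbit map extends are those killing the ideal of the bad coefficients -/
theorem core' {S : Scheme.{u}} {G Mo X : Over S} [MonObj G] [MonObj Mo] (i : G ⟶ Mo) [IsMonHom i]
    (a : MonAct G X) [IsAffine X.left]
    {Λ G' M' : Scheme.{u}} [IsAffine Λ] [IsAffine G'] [IsAffine M'] (s : S ⟶ Λ)
    (g' : G' ⟶ Λ) (m' : M' ⟶ Λ) (ι' : G' ⟶ M')
    (pG : ∀ T : Over S, (G ⊗ T).left ⟶ G') (pM : ∀ T : Over S, (Mo ⊗ T).left ⟶ M')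
    (hG : ∀ T : Over S, IsPullback (pG T) (snd G T).left g' (T.hom ≫ s))
    (hM : ∀ T : Over S, IsPullback (pM T) (snd Mo T).left m' (T.hom ≫ s))
    (hpG : ∀ {T T' : Over S} (t : T' ⟶ T), (G ◁ t).left ≫ pG T = pG T')
    (hi : ∀ T : Over S, (i ▷ T).left ≫ pM T = pG T ≫ ι')
    (cd : CompData.{u, w} m'.appTop g'.appTop ι'.appTop)
    {V : Scheme.{u}} [IsAffine V] (v : V ⟶ S) [Mono v] (k : X.left ⟶ V) (hk : X.hom = k ≫ v)
    (hdom : ∀ T : Over S, (i ▷ T).left.ker = ⊥) :
    ∀ {T : Over S} (x : T ⟶ X),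
      (∃ φ : Mo ⊗ T ⟶ X, MonAct.IsEquivariant
          (((MonAct.regular Mo).restrict i).prod (MonAct.trivial G T)) a φ ∧
          lift (toUnit T ≫ η[Mo]) (𝟙 T) ≫ φ = x) ↔
      Ideal.span {y | ∃ (m : cd.K) (b : Γ(X.left, ⊤)),
        y = coeff cd (isPushout_appTop_of_isPullback (hG X)) m (a.act.left.appTop.hom b)} ≤
        RingHom.ker x.left.appTop.hom := by
  classical
  have HG : ∀ (T : Over S) [IsAffine T.left], IsPushout g'.appTop (T.hom ≫ s).appTop
      (pG T).appTop (snd G T).left.appTop := fun T _ => isPushout_appTop_of_isPullback (hG T)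
  have HM : ∀ (T : Over S) [IsAffine T.left], IsPushout m'.appTop (T.hom ≫ s).appTop
      (pM T).appTop (snd Mo T).left.appTop := fun T _ => isPushout_appTop_of_isPullback (hM T)
  obtain ⟨I, hI⟩ : ∃ I : Ideal Γ(X.left, ⊤), I = Ideal.span {y | ∃ (m : cd.K) (b : Γ(X.left, ⊤)),
      y = coeff cd (HG X) m (a.act.left.appTop.hom b)} := ⟨_, rfl⟩
  have hnat : ∀ (T : Over S) [IsAffine T.left] (x : T ⟶ X) (m : cd.K)
      (y : Γ((G ⊗ X).left, ⊤)),
      coeff cd (HG T) m ((G ◁ x).left.appTop.hom y) =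
        x.left.appTop.hom (coeff cd (HG X) m y) := by
    intro T _ x m y
    refine coeff_nat cd (HG X) (HG T) x.left.appTop (G ◁ x).left.appTop ?_ ?_ ?_ m y
    · rw [← Scheme.Hom.comp_appTop, ← Category.assoc, Over.w x]
    · rw [← Scheme.Hom.comp_appTop, hpG x]
    · rw [← Scheme.Hom.comp_appTop, ← Scheme.Hom.comp_appTop, ← Over.comp_left,
        ← Over.comp_left, whiskerLeft_snd]
  have hu' : ∀ (T : Over S), (pM T).appTop ≫ (i ▷ T).left.appTop =
      ι'.appTop ≫ (pG T).appTop := by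
    intro T
    rw [← Scheme.Hom.comp_appTop, ← Scheme.Hom.comp_appTop, hi T]
  have hv' : ∀ (T : Over S), (snd Mo T).left.appTop ≫ (i ▷ T).left.appTop =
      (snd G T).left.appTop := by
    intro T
    rw [← Scheme.Hom.comp_appTop, ← Over.comp_left, whiskerRight_snd]
  -- affine test schemes
  have hB : ∀ (T : Over S) [IsAffine T.left] (x : T ⟶ X) (φ : Mo ⊗ T ⟶ X),
      (i ▷ T) ≫ φ = (G ◁ x) ≫ a.act → I ≤ RingHom.ker x.left.appTop.hom := by
    intro T _ x φ hφ
    rw [hI, Ideal.span_le]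
    rintro _ ⟨m, b, rfl⟩
    rw [SetLike.mem_coe, RingHom.mem_ker, ← hnat T x m]
    have e1 : (G ◁ x).left.appTop.hom (a.act.left.appTop.hom b) =
        (i ▷ T).left.appTop.hom (φ.left.appTop.hom b) := by
      have h := congrArg (fun ψ => ψ.left.appTop.hom b) hφ
      simpa only [Over.comp_left, Scheme.Hom.comp_appTop, CommRingCat.hom_comp,
        RingHom.comp_apply] using h.symm
    rw [e1]
    exact coeff_rho cd (HM T) (HG T) (i ▷ T).left.appTop (hu' T) (hv' T) m _
  -- general test schemes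
  have hB' : ∀ (T : Over S) (x : T ⟶ X) (φ : Mo ⊗ T ⟶ X),
      (i ▷ T) ≫ φ = (G ◁ x) ≫ a.act → I ≤ RingHom.ker x.left.appTop.hom := by
    intro T x φ hφ b hb
    rw [RingHom.mem_ker]
    apply Scheme.zero_of_zero_cover _ T.left.affineCover
    intro ii
    let Ti : Over S := Over.mk (T.left.affineCover.f ii ≫ T.hom)
    let ti : Ti ⟶ T := Over.homMk (T.left.affineCover.f ii) rfl
    haveI : IsAffine Ti.left := Scheme.isAffine_affineCover T.left ii
    have hφi : (i ▷ Ti) ≫ (Mo ◁ ti) ≫ φ = (G ◁ (ti ≫ x)) ≫ a.act := by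
      rw [← whisker_exchange_assoc, hφ, MonoidalCategory.whiskerLeft_comp, Category.assoc]
    have h := hB Ti (ti ≫ x) ((Mo ◁ ti) ≫ φ) hφi hb
    rw [RingHom.mem_ker, Over.comp_left, Scheme.Hom.comp_appTop, CommRingCat.hom_comp,
      RingHom.comp_apply] at h
    exact h
  -- the closed subscheme
  obtain ⟨J, hJ⟩ : ∃ J : X.left.IdealSheafData, J = ofIdealTop I := ⟨_, rfl⟩
  let Z : Over S := Over.mk (J.subschemeι ≫ X.hom)
  let j : Z ⟶ X := Over.homMk J.subschemeι rfl
  haveI hci : IsClosedImmersion j.left := inferInstanceAs (IsClosedImmersion J.subschemeι)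
  haveI hZaff : IsAffine Z.left := isAffine_of_isAffineHom J.subschemeι
  have hfac : ∀ {T : Over S} (x : T ⟶ X),
      (∃ w : T ⟶ Z, w ≫ j = x) ↔ I ≤ RingHom.ker x.left.appTop.hom := by
    intro T x
    exact (exists_factor_iff_le_ker J x).trans
      (by rw [hJ]; exact ofIdealTop_le_ker_iff I x.left)
  have hjI : I ≤ RingHom.ker j.left.appTop.hom := (hfac j).1 ⟨𝟙 Z, Category.id_comp j⟩
  -- the universal point extends
  have hrange : ∀ b : Γ(X.left, ⊤), ∃ d, (i ▷ Z).left.appTop.hom d =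
      ((G ◁ j) ≫ a.act).left.appTop.hom b := by
    intro b
    apply mem_range cd (HM Z) (HG Z) (i ▷ Z).left.appTop (hu' Z) (hv' Z)
    intro m
    have e1 : ((G ◁ j) ≫ a.act).left.appTop.hom b =
        (G ◁ j).left.appTop.hom (a.act.left.appTop.hom b) := by
      rw [Over.comp_left, Scheme.Hom.comp_appTop, CommRingCat.hom_comp, RingHom.comp_apply]
    rw [e1, hnat Z j m]
    have hmem : coeff cd (HG X) m (a.act.left.appTop.hom b) ∈ I := by
      rw [hI]
      exact Ideal.subset_span ⟨m, b, rfl⟩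
    exact RingHom.mem_ker.1 (hjI hmem)
  have hinj : Function.Injective (i ▷ Z).left.appTop.hom :=
    rho_injective cd (HM Z) (HG Z) _ (hu' Z) (hv' Z)
  obtain ⟨κ, hκ⟩ := exists_ringHom_comp_eq _ hinj ((G ◁ j) ≫ a.act).left.appTop.hom hrange
  obtain ⟨φl, hφl⟩ := exists_hom_appTop_eq (Y := (Mo ⊗ Z).left) (X' := X.left)
    (CommRingCat.ofHom κ)
  have h1 : (i ▷ Z).left ≫ φl = ((G ◁ j) ≫ a.act).left := by
    apply AlgebraicGeometry.ext_of_isAffine
    rw [Scheme.Hom.comp_appTop, hφl]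
    ext b
    exact congrArg (fun ψ => ψ b) hκ
  have h3 : φl ≫ k = (snd Mo Z).left ≫ j.left ≫ k := by
    apply eq_of_comp_eq_of_injective_appTop (i ▷ Z).left hinj
    rw [← Category.assoc, h1, ← cancel_mono v]
    simp only [Category.assoc]
    rw [← hk, Over.w, Over.w, Over.w, Over.w]
  have h2 : φl ≫ X.hom = (Mo ⊗ Z).hom := by
    rw [hk, ← Category.assoc, h3]
    simp only [Category.assoc]
    rw [← hk, Over.w, Over.w]
  let φ : Mo ⊗ Z ⟶ X := Over.homMk φl h2
  have hφ : (i ▷ Z) ≫ φ = (G ◁ j) ≫ a.act := by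
    ext1
    exact h1
  obtain ⟨heq, hev⟩ := isEquivariant_of_whisker i a j φ hφ (hdom (G ⊗ Z))
  intro T x
  constructor
  · rintro ⟨ψ, hψ, rfl⟩
    exact le_trans (le_of_eq hI.symm) (hB' T _ ψ (MagnetAttr.whiskerRight_comp_eq i a ψ hψ))
  · intro hle
    obtain ⟨w, rfl⟩ := (hfac x).2 (le_trans (le_of_eq hI) hle)
    refine ⟨(Mo ◁ w) ≫ φ, ?_, ?_⟩
    · exact ((MonAct.eqvHom ((MonAct.regular Mo).restrict i) a).map w.op ⟨φ, heq⟩).2
    · rw [ev_map, hev]

end Groth.Agent.Lib.Helper29.MagnetCoordIdeal
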