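import Mathlib
import Groth.Prelude.Def_Magnet4
import Groth.Agent.Lib.Helper29.MagnetChar
import Groth.Agent.Lib.Helper29.MagnetCoordMonAlg

/-!
# Homogeneity of the coefficients of a coaction (helper29)

For an action of `A(M)_S` on an affine `X`, the `m`-th coefficient `b_m` of `ρ(b)` is homogeneous of
degree `m`: `ρ(b_m) = Xᵐ ⊗ b_m`.
-/
set_option autoImplicit false
set_option maxHeartbeats 1600000
set_option linter.style.haveILetI false
universe u
open CategoryTheory CategoryTheory.Limits MonoidalCategory CartesianMonoidalCategory MonObj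
  AlgebraicGeometry Opposite

noncomputable section

namespace Groth.Agent.Lib.Helper29.MagnetHomog

open Magnet Groth.Agent.Lib.Helper29.MagnetCoordRing Groth.Agent.Lib.Helper29.MagnetCoord
  Groth.Agent.Lib.Helper29.MagnetCoordMonAlg

section
variable {M : Type} [AddCommMonoid M]

/-- the monomial functions on `Spec ℤ[M]` -/
def mon (m : Multiplicative M) : Γ((AMon (ULift.{u} ℤ) M).left, ⊤) :=
  (Scheme.ΓSpecIso (CommRingCat.of (MonoidAlgebra (ULift.{u} ℤ) (Multiplicative M)))).inv.hom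
    (MonoidAlgebra.single m 1)

/-- `ℤ[M] → Γ(Spec ℤ[M])` -/
def monHom : MonoidAlgebra (ULift.{u} ℤ) (Multiplicative M) →+*
    Γ((AMon (ULift.{u} ℤ) M).left, ⊤) :=
  (Scheme.ΓSpecIso (CommRingCat.of (MonoidAlgebra (ULift.{u} ℤ) (Multiplicative M)))).inv.hom

theorem mon_eq (m : Multiplicative M) : mon.{u} m = monHom.{u} (MonoidAlgebra.single m 1) := rfl

theorem monHom_surjective : Function.Surjective (monHom.{u} (M := M)) := fun x =>
  ⟨(Scheme.ΓSpecIso (CommRingCat.of
    (MonoidAlgebra (ULift.{u} ℤ) (Multiplicative M)))).hom.hom x,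
    congrArg (fun ψ => ψ.hom x) (Scheme.ΓSpecIso (CommRingCat.of
      (MonoidAlgebra (ULift.{u} ℤ) (Multiplicative M)))).hom_inv_id⟩

theorem e_eq_mon (N : AddSubmonoid M) (m : (specCompData.{u} N).K) :
    (specCompData.{u} N).e m = mon.{u} m.1 := rfl

theorem ell_mon_eq (N : AddSubmonoid M) (m : (specCompData.{u} N).K) (m' : Multiplicative M) :
    (specCompData.{u} N).ℓ m (mon.{u} m') =
      (Scheme.ΓSpecIso (CommRingCat.of (ULift.{u} ℤ))).inv.hom
        ((MonoidAlgebra.single m' (1 : ULift.{u} ℤ)).coeff m.1) := by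
  have h3 : (Scheme.ΓSpecIso (CommRingCat.of
      (MonoidAlgebra (ULift.{u} ℤ) (Multiplicative M)))).hom.hom
      ((Scheme.ΓSpecIso (CommRingCat.of
        (MonoidAlgebra (ULift.{u} ℤ) (Multiplicative M)))).inv.hom
        (MonoidAlgebra.single m' (1 : ULift.{u} ℤ))) = MonoidAlgebra.single m' 1 :=
    congrArg (fun ψ => ψ.hom (MonoidAlgebra.single m' (1 : ULift.{u} ℤ)))
      (Scheme.ΓSpecIso (CommRingCat.of
        (MonoidAlgebra (ULift.{u} ℤ) (Multiplicative M)))).inv_hom_id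
  show (Scheme.ΓSpecIso (CommRingCat.of (ULift.{u} ℤ))).inv.hom
    (((Scheme.ΓSpecIso (CommRingCat.of
      (MonoidAlgebra (ULift.{u} ℤ) (Multiplicative M)))).hom.hom (mon.{u} m')).coeff m.1) = _
  unfold mon
  rw [h3]

theorem ell_mon_self (N : AddSubmonoid M) (m : (specCompData.{u} N).K) :
    (specCompData.{u} N).ℓ m (mon.{u} m.1) = 1 := by
  classical
  rw [ell_mon_eq, MonoidAlgebra.coeff_single_apply, if_pos rfl, map_one]

theorem ell_mon_ne (N : AddSubmonoid M) (m : (specCompData.{u} N).K) (m' : Multiplicative M)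
    (h : m' ≠ m.1) : (specCompData.{u} N).ℓ m (mon.{u} m') = 0 := by
  classical
  rw [ell_mon_eq, MonoidAlgebra.coeff_single_apply, if_neg h, map_zero]

/-- additive maps out of `Γ(A(M)_S ×_S T)` are determined on `Xᵐ ⊗ c` -/
theorem addHom_ext_mon (S : Scheme.{u}) (T : Over S) [IsAffine T.left] {B : Type*}
    [AddCommGroup B] (L₁ L₂ : Γ((AMonS S M ⊗ T).left, ⊤) →+ B)
    (h : ∀ (m' : Multiplicative M) (c : Γ(T.left, ⊤)),
      L₁ ((MagnetDom.pN S T M).appTop.hom (mon.{u} m') * (MagnetDom.qN S T M).appTop.hom c) =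
      L₂ ((MagnetDom.pN S T M).appTop.hom (mon.{u} m') * (MagnetDom.qN S T M).appTop.hom c)) :
    L₁ = L₂ := by
  haveI := MagnetDom.isAffine_AMon_left.{u} M
  have H := isPushout_appTop_of_isPullback (MagnetDom.isPullback_pN_qN S T M)
  apply AddMonoidHom.ext
  intro y
  apply pushout_induction H (P := fun y => L₁ y = L₂ y)
  · show L₁ 0 = L₂ 0
    rw [map_zero, map_zero]
  · intro x c
    show L₁ ((MagnetDom.pN S T M).appTop.hom x * (MagnetDom.qN S T M).appTop.hom c) =
      L₂ ((MagnetDom.pN S T M).appTop.hom x * (MagnetDom.qN S T M).appTop.hom c)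
    obtain ⟨x', rfl⟩ := monHom_surjective.{u} x
    induction x' using MonoidAlgebra.induction_linear with
    | zero => rw [map_zero, map_zero, zero_mul, map_zero, map_zero]
    | add p q hp hq => rw [map_add, map_add, add_mul, map_add, map_add, hp, hq]
    | single m' r =>
      obtain ⟨F, hF⟩ : ∃ F : (Γ((AMonS S M ⊗ T).left, ⊤) →+ B) → (ULift.{u} ℤ →+ B),
          ∀ L r, F L r = L ((MagnetDom.pN S T M).appTop.hom
            (monHom.{u} (MonoidAlgebra.single m' r)) * (MagnetDom.qN S T M).appTop.hom c) :=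
        ⟨fun L => L.comp ((AddMonoidHom.mulRight ((MagnetDom.qN S T M).appTop.hom c)).comp
          (((MagnetDom.pN S T M).appTop.hom : _ →+* _).toAddMonoidHom.comp
            ((monHom.{u} (M := M)).toAddMonoidHom.comp (MonoidAlgebra.singleAddHom m')))),
          fun L r => rfl⟩
      have hr : r = r.down • (1 : ULift.{u} ℤ) := by
        rw [zsmul_one]; apply ULift.ext; simp
      rw [← hF L₁ r, ← hF L₂ r, hr, map_zsmul, map_zsmul, hF, hF]
      congr 1
      exact h m' c
  · intro z w hz hw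
    have hz' : L₁ z = L₂ z := hz
    have hw' : L₁ w = L₂ w := hw
    show L₁ (z + w) = L₂ (z + w)
    rw [map_add, map_add, hz', hw']

/-- the coefficients of the pull-back along `(g₁, g₂, x) ↦ (g₁ g₂, x)` -/
theorem coeff_nu (S : Scheme.{u}) (N : AddSubmonoid M) (X : Over S) [IsAffine X.left]
    [IsAffine (AMonS S M ⊗ X).left]
    (HX : IsPushout (AMon (ULift.{u} ℤ) M).hom.appTop
      (X.hom ≫ Limits.IsTerminal.from specULiftZIsTerminal S).appTop
      (MagnetDom.pN S X M).appTop (MagnetDom.qN S X M).appTop)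
    (H₂ : IsPushout (AMon (ULift.{u} ℤ) M).hom.appTop
      ((AMonS S M ⊗ X).hom ≫ Limits.IsTerminal.from specULiftZIsTerminal S).appTop
      (MagnetDom.pN S (AMonS S M ⊗ X) M).appTop (MagnetDom.qN S (AMonS S M ⊗ X) M).appTop)
    (ν : AMonS S M ⊗ (AMonS S M ⊗ X) ⟶ AMonS S M ⊗ X)
    (hν1 : ν ≫ fst (AMonS S M) X = fst (AMonS S M) (AMonS S M ⊗ X) *
      (snd (AMonS S M) (AMonS S M ⊗ X) ≫ fst (AMonS S M) X))
    (hν2 : ν ≫ snd (AMonS S M) X = snd (AMonS S M) (AMonS S M ⊗ X) ≫ snd (AMonS S M) X)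
    (m : (specCompData.{u} N).K) (y : Γ((AMonS S M ⊗ X).left, ⊤)) :
    coeff (specCompData.{u} N) H₂ m (ν.left.appTop.hom y) =
      (MagnetDom.pN S X M).appTop.hom (mon.{u} m.1) *
        (MagnetDom.qN S X M).appTop.hom (coeff (specCompData.{u} N) HX m y) := by
  classical
  obtain ⟨L₁, hL₁⟩ : ∃ L : Γ((AMonS S M ⊗ X).left, ⊤) →+ Γ((AMonS S M ⊗ X).left, ⊤),
      ∀ y, L y = coeff (specCompData.{u} N) H₂ m (ν.left.appTop.hom y) :=
    ⟨(coeff (specCompData.{u} N) H₂ m).comp (ν.left.appTop.hom : _ →+* _).toAddMonoidHom,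
      fun _ => rfl⟩
  obtain ⟨L₂, hL₂⟩ : ∃ L : Γ((AMonS S M ⊗ X).left, ⊤) →+ Γ((AMonS S M ⊗ X).left, ⊤),
      ∀ y, L y = (MagnetDom.pN S X M).appTop.hom (mon.{u} m.1) *
        (MagnetDom.qN S X M).appTop.hom (coeff (specCompData.{u} N) HX m y) :=
    ⟨(AddMonoidHom.mulLeft ((MagnetDom.pN S X M).appTop.hom (mon.{u} m.1))).comp
      (((MagnetDom.qN S X M).appTop.hom : _ →+* _).toAddMonoidHom.comp
        (coeff (specCompData.{u} N) HX m)), fun _ => rfl⟩
  have hL : L₁ = L₂ := by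
    apply addHom_ext_mon S X L₁ L₂
    intro m' c
    rw [hL₁, hL₂]
    have hA : ν.left.appTop.hom ((MagnetDom.pN S X M).appTop.hom (mon.{u} m')) =
        (MagnetDom.pN S (AMonS S M ⊗ X) M).appTop.hom (mon.{u} m') *
          (MagnetDom.qN S (AMonS S M ⊗ X) M).appTop.hom
            ((MagnetDom.pN S X M).appTop.hom (mon.{u} m')) := by
      have h := MagnetChar.chi_mul S (fst (AMonS S M) (AMonS S M ⊗ X))
        (snd (AMonS S M) (AMonS S M ⊗ X) ≫ fst (AMonS S M) X) m'
      rw [← hν1] at h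
      have e0 : (ν ≫ fst (AMonS S M) X).left ≫ pullback.fst (AMon (ULift.{u} ℤ) M).hom
          (Limits.IsTerminal.from specULiftZIsTerminal S) = ν.left ≫ MagnetDom.pN S X M := by
        rw [Over.comp_left, Category.assoc]; rfl
      have e2 : (snd (AMonS S M) (AMonS S M ⊗ X) ≫ fst (AMonS S M) X).left ≫
          pullback.fst (AMon (ULift.{u} ℤ) M).hom
            (Limits.IsTerminal.from specULiftZIsTerminal S) =
          MagnetDom.qN S (AMonS S M ⊗ X) M ≫ MagnetDom.pN S X M := by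
        rw [Over.comp_left, Category.assoc]; rfl
      rw [e0, e2, Scheme.Hom.comp_appTop, Scheme.Hom.comp_appTop] at h
      exact h
    have hB : ν.left.appTop.hom ((MagnetDom.qN S X M).appTop.hom c) =
        (MagnetDom.qN S (AMonS S M ⊗ X) M).appTop.hom ((MagnetDom.qN S X M).appTop.hom c) := by
      have e : ν.left ≫ MagnetDom.qN S X M =
          MagnetDom.qN S (AMonS S M ⊗ X) M ≫ MagnetDom.qN S X M :=
        congrArg (fun k => k.left) hν2
      have h : (ν.left ≫ MagnetDom.qN S X M).appTop.hom c =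
          (MagnetDom.qN S (AMonS S M ⊗ X) M ≫ MagnetDom.qN S X M).appTop.hom c := by rw [e]
      rw [Scheme.Hom.comp_appTop, Scheme.Hom.comp_appTop] at h
      exact h
    have hre : (MagnetDom.pN S (AMonS S M ⊗ X) M).appTop.hom (mon.{u} m') *
          (MagnetDom.qN S (AMonS S M ⊗ X) M).appTop.hom
            ((MagnetDom.pN S X M).appTop.hom (mon.{u} m')) *
          (MagnetDom.qN S (AMonS S M ⊗ X) M).appTop.hom ((MagnetDom.qN S X M).appTop.hom c) =
        (MagnetDom.pN S (AMonS S M ⊗ X) M).appTop.hom (mon.{u} m') *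
          (MagnetDom.qN S (AMonS S M ⊗ X) M).appTop.hom
            ((MagnetDom.pN S X M).appTop.hom (mon.{u} m') * (MagnetDom.qN S X M).appTop.hom c) := by
      rw [map_mul, _root_.mul_assoc]
    rw [map_mul, hA, hB, hre, coeff_mul, coeff_mul]
    by_cases hm : m' = m.1
    · subst hm
      simp only [ell_mon_self, map_one, _root_.one_mul]
    · simp only [ell_mon_ne N m m' hm, map_zero, zero_mul, mul_zero]
  rw [← hL₁, ← hL₂, hL]

/-- homogeneity: `ρ(b_m) = Xᵐ ⊗ b_m` -/
theorem act_coeff (S : Scheme.{u}) (N : AddSubmonoid M) (X : Over S) [IsAffine X.left]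
    (a : MonAct (AMonS S M) X)
    (HX : IsPushout (AMon (ULift.{u} ℤ) M).hom.appTop
      (X.hom ≫ Limits.IsTerminal.from specULiftZIsTerminal S).appTop
      (MagnetDom.pN S X M).appTop (MagnetDom.qN S X M).appTop)
    (m : (specCompData.{u} N).K) (b : Γ(X.left, ⊤)) :
    a.act.left.appTop.hom (coeff (specCompData.{u} N) HX m (a.act.left.appTop.hom b)) =
      (MagnetDom.pN S X M).appTop.hom (mon.{u} m.1) *
        (MagnetDom.qN S X M).appTop.hom
          (coeff (specCompData.{u} N) HX m (a.act.left.appTop.hom b)) := by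
  haveI := MagnetDom.isAffine_AMon_left.{u} M
  haveI hq := MagnetDom.isAffineHom_qN S X M
  haveI : IsAffine (AMonS S M ⊗ X).left := isAffine_of_isAffineHom (MagnetDom.qN S X M)
  have H₂ := isPushout_appTop_of_isPullback (MagnetDom.isPullback_pN_qN S (AMonS S M ⊗ X) M)
  obtain ⟨ν, hν⟩ : ∃ ν : AMonS S M ⊗ (AMonS S M ⊗ X) ⟶ AMonS S M ⊗ X,
      ν = lift (fst (AMonS S M) (AMonS S M ⊗ X) *
        (snd (AMonS S M) (AMonS S M ⊗ X) ≫ fst (AMonS S M) X))
        (snd (AMonS S M) (AMonS S M ⊗ X) ≫ snd (AMonS S M) X) := ⟨_, rfl⟩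
  have hν1 : ν ≫ fst (AMonS S M) X = fst (AMonS S M) (AMonS S M ⊗ X) *
      (snd (AMonS S M) (AMonS S M ⊗ X) ≫ fst (AMonS S M) X) := by rw [hν, lift_fst]
  have hν2 : ν ≫ snd (AMonS S M) X =
      snd (AMonS S M) (AMonS S M ⊗ X) ≫ snd (AMonS S M) X := by rw [hν, lift_snd]
  have hwl : (AMonS S M ◁ a.act) = lift (fst (AMonS S M) (AMonS S M ⊗ X))
      (snd (AMonS S M) (AMonS S M ⊗ X) ≫ a.act) := by
    apply CartesianMonoidalCategory.hom_ext
    · rw [whiskerLeft_fst, lift_fst]
    · rw [whiskerLeft_snd, lift_snd]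
  have hassoc : (AMonS S M ◁ a.act) ≫ a.act = ν ≫ a.act := by
    rw [hν, a.lift_mul_act, ← comp_lift, lift_fst_snd, Category.comp_id, hwl]
  have hpG : (AMonS S M ◁ a.act).left ≫ MagnetDom.pN S X M =
      MagnetDom.pN S (AMonS S M ⊗ X) M := by
    unfold MagnetDom.pN
    rw [← Category.assoc, ← Over.comp_left, whiskerLeft_fst]
  have hqG : (AMonS S M ◁ a.act).left ≫ MagnetDom.qN S X M =
      MagnetDom.qN S (AMonS S M ⊗ X) M ≫ a.act.left := by
    unfold MagnetDom.qN
    rw [← Over.comp_left, whiskerLeft_snd, Over.comp_left]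
  have hnat : ∀ y : Γ((AMonS S M ⊗ X).left, ⊤),
      coeff (specCompData.{u} N) H₂ m ((AMonS S M ◁ a.act).left.appTop.hom y) =
        a.act.left.appTop.hom (coeff (specCompData.{u} N) HX m y) := by
    intro y
    refine coeff_nat (specCompData.{u} N) HX H₂ a.act.left.appTop
      (AMonS S M ◁ a.act).left.appTop ?_ ?_ ?_ m y
    · rw [← Scheme.Hom.comp_appTop, ← Category.assoc, Over.w a.act]
    · rw [← Scheme.Hom.comp_appTop, hpG]
    · rw [← Scheme.Hom.comp_appTop, ← Scheme.Hom.comp_appTop, hqG]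
  have e1 : (AMonS S M ◁ a.act).left.appTop.hom (a.act.left.appTop.hom b) =
      ν.left.appTop.hom (a.act.left.appTop.hom b) := by
    have h := congrArg (fun ψ => ψ.left.appTop.hom b) hassoc
    simpa only [Over.comp_left, Scheme.Hom.comp_appTop, CommRingCat.hom_comp,
      RingHom.comp_apply] using h
  rw [← hnat, e1]
  exact coeff_nu S N X HX H₂ ν hν1 hν2 m _

end

end Groth.Agent.Lib.Helper29.MagnetHomog
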