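import Mathlib
import Groth.Prelude.Def_Magnet4
import Groth.Agent.Lib.Helper29.MagnetHomog
import Groth.Agent.Lib.Helper29.MagnetCoordIdeal
import Groth.Agent.Lib.Helper29.MagnetCoordAttr

/-!
# Change of monoid for attractors of schemes affine over the base (S18287) (helper29)
-/
set_option autoImplicit false
set_option maxHeartbeats 1600000
set_option linter.style.haveILetI false
universe u
open CategoryTheory CategoryTheory.Limits MonoidalCategory CartesianMonoidalCategory MonObj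
  AlgebraicGeometry Opposite

noncomputable section

namespace Groth.Agent.Lib.Helper29.MagnetComapAff

open Magnet Groth.Agent.Lib.Helper29.MagnetCoordRing Groth.Agent.Lib.Helper29.MagnetCoord
  Groth.Agent.Lib.Helper29.MagnetCoordMonAlg Groth.Agent.Lib.Helper29.MagnetCoordGlob
  Groth.Agent.Lib.Helper29.MagnetHomog

/-- the local step with the ideal exposed -/
theorem local_step' (S : Scheme.{u}) (M : Type) [AddCommMonoid M] (N : AddSubmonoid M)
    (X : Over S) [IsAffine X.left] (a : MonAct (AMonS S M) X)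
    {V : Scheme.{u}} [IsAffine V] (v : V ⟶ S) [Mono v] (k : X.left ⟶ V) (hk : X.hom = k ≫ v)
    (HX : IsPushout (AMon (ULift.{u} ℤ) M).hom.appTop
      (X.hom ≫ Limits.IsTerminal.from specULiftZIsTerminal S).appTop
      (MagnetDom.pN S X M).appTop (MagnetDom.qN S X M).appTop)
    {T : Over S} (x : T ⟶ X) :
    (∃ φ : AMonS S N ⊗ T ⟶ X, MonAct.IsEquivariant
        (((MonAct.regular (AMonS S N)).restrict (AMonS.map S N.subtype)).prod
          (MonAct.trivial (AMonS S M) T)) a φ ∧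
        lift (toUnit T ≫ η[AMonS S N]) (𝟙 T) ≫ φ = x) ↔
      Ideal.span {y | ∃ (m : (specCompData.{u} N).K) (b : Γ(X.left, ⊤)),
        y = coeff (specCompData.{u} N) HX m (a.act.left.appTop.hom b)} ≤
        RingHom.ker x.left.appTop.hom := by
  haveI := MagnetDom.isAffine_AMon_left.{u} M
  haveI := MagnetDom.isAffine_AMon_left.{u} (↥N)
  have hpG : ∀ {T T' : Over S} (t : T' ⟶ T),
      (AMonS S M ◁ t).left ≫ MagnetDom.pN S T M = MagnetDom.pN S T' M := by
    intro T T' t
    unfold MagnetDom.pN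
    rw [← Category.assoc, ← Over.comp_left, whiskerLeft_fst]
  exact MagnetCoordIdeal.core' (AMonS.map S N.subtype) a
    (Limits.IsTerminal.from specULiftZIsTerminal S)
    (AMon (ULift.{u} ℤ) M).hom (AMon (ULift.{u} ℤ) N).hom (AMon.map (ULift.{u} ℤ) N.subtype).left
    (fun T => MagnetDom.pN S T M) (fun T => MagnetDom.pN S T N)
    (fun T => MagnetDom.isPullback_pN_qN S T M) (fun T => MagnetDom.isPullback_pN_qN S T N)
    hpG (fun T => MagnetDom.whisker_pN S T N.subtype) (specCompData.{u} N) v k hk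
    (fun T => MagnetDom.ker_whiskerRight_eq_bot S T N.subtype Subtype.val_injective) x

theorem mon_map {M Z : Type} [AddCommMonoid M] [AddCommMonoid Z] (f : M →+ Z)
    (m : Multiplicative M) :
    (AMon.map (ULift.{u} ℤ) f).left.appTop.hom (mon.{u} m) =
      mon.{u} (AddMonoidHom.toMultiplicative f m) := by
  have h := Scheme.ΓSpecIso_inv_naturality (CommRingCat.ofHom
    (MonoidAlgebra.mapDomainBialgHom (ULift.{u} ℤ)
      (AddMonoidHom.toMultiplicative f)).toAlgHom.toRingHom)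
  have h2 := congrArg (fun ψ => ψ.hom (MonoidAlgebra.single m (1 : ULift.{u} ℤ))) h
  have h3 : (MonoidAlgebra.mapDomainBialgHom (ULift.{u} ℤ)
      (AddMonoidHom.toMultiplicative f)).toAlgHom.toRingHom
      (MonoidAlgebra.single m (1 : ULift.{u} ℤ)) =
      MonoidAlgebra.single (AddMonoidHom.toMultiplicative f m) 1 := by
    simp
  have h4 : (AMon.map (ULift.{u} ℤ) f).left.appTop.hom (mon.{u} m) =
      monHom.{u} (M := Z) ((MonoidAlgebra.mapDomainBialgHom (ULift.{u} ℤ)
        (AddMonoidHom.toMultiplicative f)).toAlgHom.toRingHom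
        (MonoidAlgebra.single m (1 : ULift.{u} ℤ))) := h2.symm
  rw [h4, h3]
  rfl

/-- the local comparison: extension for `(Z, Y)` gives extension for `(M, f⁻¹ Y)` -/
theorem comap_local (S : Scheme.{u}) (M Z : Type) [AddCommMonoid M] [AddCommMonoid Z]
    (f : M →+ Z) (Y : AddSubmonoid Z) (X : Over S) [IsAffine X.left]
    (a : MonAct (AMonS S M) X)
    {V : Scheme.{u}} [IsAffine V] (v : V ⟶ S) [Mono v] (k : X.left ⟶ V) (hk : X.hom = k ≫ v)
    {T : Over S} (x : T ⟶ X)
    (h : ∃ ψ : AMonS S Y ⊗ T ⟶ X, MonAct.IsEquivariant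
        (((MonAct.regular (AMonS S Y)).restrict (AMonS.map S Y.subtype)).prod
          (MonAct.trivial (AMonS S Z) T)) (a.restrict (AMonS.map S f)) ψ ∧
        lift (toUnit T ≫ η[AMonS S Y]) (𝟙 T) ≫ ψ = x) :
    ∃ φ : AMonS S (Y.comap f) ⊗ T ⟶ X, MonAct.IsEquivariant
        (((MonAct.regular (AMonS S (Y.comap f))).restrict
          (AMonS.map S (Y.comap f).subtype)).prod (MonAct.trivial (AMonS S M) T)) a φ ∧
        lift (toUnit T ≫ η[AMonS S (Y.comap f)]) (𝟙 T) ≫ φ = x := by
  haveI := MagnetDom.isAffine_AMon_left.{u} M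
  haveI := MagnetDom.isAffine_AMon_left.{u} Z
  have HM := isPushout_appTop_of_isPullback (MagnetDom.isPullback_pN_qN S X M)
  have HZ := isPushout_appTop_of_isPullback (MagnetDom.isPullback_pN_qN S X Z)
  refine (local_step' S M (Y.comap f) X a v k hk HM x).2 ?_
  have h' := (local_step' S Z Y X (a.restrict (AMonS.map S f)) v k hk HZ x).1 h
  refine le_trans ?_ h'
  rw [Ideal.span_le]
  rintro _ ⟨m, b, rfl⟩
  apply Ideal.subset_span
  obtain ⟨y, hy⟩ : ∃ y : Γ(X.left, ⊤),
      y = coeff (specCompData.{u} (Y.comap f)) HM m (a.act.left.appTop.hom b) := ⟨_, rfl⟩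
  rw [← hy]
  have hz : Multiplicative.toAdd (AddMonoidHom.toMultiplicative f m.1) ∉ Y := m.2
  obtain ⟨z, hz1⟩ : ∃ z : (specCompData.{u} Y).K, z.1 = AddMonoidHom.toMultiplicative f m.1 :=
    ⟨(⟨_, hz⟩ : {g : Multiplicative Z // Multiplicative.toAdd g ∉ Y}), rfl⟩
  show ∃ (m' : (specCompData.{u} Y).K) (b' : Γ(X.left, ⊤)),
    y = coeff (specCompData.{u} Y) HZ m'
      ((a.restrict (AMonS.map S f)).act.left.appTop.hom b')
  refine ⟨z, y, ?_⟩
  have hhom : a.act.left.appTop.hom y = (MagnetDom.pN S X M).appTop.hom (mon.{u} m.1) *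
      (MagnetDom.qN S X M).appTop.hom y := by
    rw [hy]; exact act_coeff S (Y.comap f) X a HM m b
  have e1 : (a.restrict (AMonS.map S f)).act.left.appTop.hom y =
      (AMonS.map S f ▷ X).left.appTop.hom (a.act.left.appTop.hom y) := by
    rw [MonAct.restrict_act, Over.comp_left, Scheme.Hom.comp_appTop]; rfl
  have hu : (AMonS.map S f ▷ X).left.appTop.hom
      ((MagnetDom.pN S X M).appTop.hom (mon.{u} m.1)) =
      (MagnetDom.pN S X Z).appTop.hom (mon.{u} z.1) := by
    have h1 : ((AMonS.map S f ▷ X).left ≫ MagnetDom.pN S X M).appTop.hom (mon.{u} m.1) =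
        (MagnetDom.pN S X Z ≫ (AMon.map (ULift.{u} ℤ) f).left).appTop.hom (mon.{u} m.1) := by
      rw [MagnetDom.whisker_pN S X f]
    rw [Scheme.Hom.comp_appTop, Scheme.Hom.comp_appTop] at h1
    refine h1.trans ?_
    show (MagnetDom.pN S X Z).appTop.hom
      ((AMon.map (ULift.{u} ℤ) f).left.appTop.hom (mon.{u} m.1)) = _
    rw [mon_map, hz1]
  have hv : (AMonS.map S f ▷ X).left.appTop.hom ((MagnetDom.qN S X M).appTop.hom y) =
      (MagnetDom.qN S X Z).appTop.hom y := by
    have h1 : ((AMonS.map S f ▷ X).left ≫ MagnetDom.qN S X M).appTop.hom y =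
        (MagnetDom.qN S X Z).appTop.hom y := by rw [MagnetDom.whisker_qN S X f]
    rw [Scheme.Hom.comp_appTop] at h1
    exact h1
  rw [e1, hhom, map_mul, hu, hv, coeff_mul, ell_mon_self, map_one, _root_.one_mul]

theorem ext_restrict_iff {S : Scheme.{u}} {G Mo X Xi : Over S} [MonObj G] [MonObj Mo]
    (i₀ : G ⟶ Mo) [IsMonHom i₀] (a : MonAct G X) (ai : MonAct G Xi) (ji : Xi ⟶ X) [Mono ji]
    (hai : ai.act ≫ ji = (G ◁ ji) ≫ a.act) {T : Over S} (u : T ⟶ Xi)
    (hlift : ∀ φ : Mo ⊗ T ⟶ X, ∃ φ' : Mo ⊗ T ⟶ Xi, φ' ≫ ji = φ) :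
    Ext i₀ a (u ≫ ji) ↔ Ext i₀ ai u := by
  constructor
  · rintro ⟨φ, hφ⟩
    obtain ⟨φ', hφ'⟩ := hlift φ
    refine ⟨φ', ?_⟩
    rw [← cancel_mono ji, Category.assoc, hφ', hφ, Category.assoc, hai,
      MonoidalCategory.whiskerLeft_comp, Category.assoc]
  · rintro ⟨φ, hφ⟩
    refine ⟨φ ≫ ji, ?_⟩
    rw [← Category.assoc, hφ, Category.assoc, hai, MonoidalCategory.whiskerLeft_comp,
      Category.assoc]

/-- the comparison over an affine open of the base -/
theorem ext_comap_piece (S : Scheme.{u}) (M Z : Type) [AddCommMonoid M] [AddCommMonoid Z]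
    (f : M →+ Z) (Y : AddSubmonoid Z) (X : Over S) [IsAffineHom X.hom]
    (a : MonAct (AMonS S M) X)
    {V : Scheme.{u}} [IsAffine V] (v : V ⟶ S) [IsOpenImmersion v]
    {T : Over S} (x : T ⟶ X) (hT : T.left ⟶ V) (hTv : hT ≫ v = T.hom)
    (h : Ext (AMonS.map S Y.subtype) (a.restrict (AMonS.map S f)) x) :
    Ext (AMonS.map S (Y.comap f).subtype) a x := by
  obtain ⟨ji, hji⟩ : ∃ ji : Over.mk (pullback.snd v X.hom ≫ X.hom) ⟶ X,
      ji = Over.homMk (pullback.snd v X.hom) rfl := ⟨_, rfl⟩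
  have hjil : ji.left = pullback.snd v X.hom := by rw [hji]; rfl
  haveI : IsAffine (Over.mk (pullback.snd v X.hom ≫ X.hom)).left :=
    (inferInstance : IsAffine (pullback v X.hom))
  haveI : Mono ji.left := by rw [hjil]; infer_instance
  haveI : Mono ji := Over.mono_of_mono_left ji
  have hdomN : ∀ T : Over S, ((AMonS.map S (Y.comap f).subtype) ▷ T).left.ker = ⊥ := fun T =>
    MagnetDom.ker_whiskerRight_eq_bot S T (Y.comap f).subtype Subtype.val_injective
  have hdomY : ∀ T : Over S, ((AMonS.map S Y.subtype) ▷ T).left.ker = ⊥ := fun T =>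
    MagnetDom.ker_whiskerRight_eq_bot S T Y.subtype Subtype.val_injective
  have hlift : ∀ {W : Over S} (g : W ⟶ X) (h : W.left ⟶ V), h ≫ v = W.hom →
      ∃ g' : W ⟶ Over.mk (pullback.snd v X.hom ≫ X.hom), g' ≫ ji = g := by
    intro W g h hh
    have hc : h ≫ v = g.left ≫ X.hom := hh.trans (Over.w g).symm
    refine ⟨Over.homMk (pullback.lift h g.left hc) ?_, ?_⟩
    · show pullback.lift h g.left hc ≫ pullback.snd v X.hom ≫ X.hom = W.hom
      rw [pullback.lift_snd_assoc, Over.w g]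
    · apply Over.OverMorphism.ext
      show pullback.lift h g.left hc ≫ ji.left = g.left
      rw [hjil, pullback.lift_snd]
  have hXihom : (Over.mk (pullback.snd v X.hom ≫ X.hom)).hom = pullback.fst v X.hom ≫ v :=
    pullback.condition.symm
  obtain ⟨cact, hcact⟩ := hlift ((AMonS S M ◁ ji) ≫ a.act)
    ((snd (AMonS S M) (Over.mk (pullback.snd v X.hom ≫ X.hom))).left ≫ pullback.fst v X.hom)
    (by rw [Category.assoc, ← hXihom, Over.w])
  obtain ⟨ai, -, hai⟩ :=
    Groth.Agent.Lib.Helper26.MagnetFactor.exists_monAct_of_mono a ji cact hcact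
  have hai' : ai.act ≫ ji = (AMonS S M ◁ ji) ≫ a.act := hai
  have haiZ : (ai.restrict (AMonS.map S f)).act ≫ ji =
      (AMonS S Z ◁ ji) ≫ (a.restrict (AMonS.map S f)).act := by
    rw [MonAct.restrict_act, MonAct.restrict_act, Category.assoc, hai', whisker_exchange_assoc]
  obtain ⟨u, hu⟩ := hlift x hT hTv
  have hl : ∀ {B : Over S} (φ : B ⊗ T ⟶ X),
      ∃ φ' : B ⊗ T ⟶ Over.mk (pullback.snd v X.hom ≫ X.hom), φ' ≫ ji = φ := by
    intro B φ
    exact hlift φ ((snd B T).left ≫ hT) (by rw [Category.assoc, hTv, Over.w])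
  subst hu
  have h1 := (ext_restrict_iff (AMonS.map S Y.subtype) (a.restrict (AMonS.map S f))
    (ai.restrict (AMonS.map S f)) ji haiZ u hl).1 h
  refine (ext_restrict_iff (AMonS.map S (Y.comap f).subtype) a ai ji hai' u hl).2 ?_
  have h2 := (ext_iff_exists_equivariant (AMonS.map S Y.subtype) (ai.restrict (AMonS.map S f))
    hdomY u).1 h1
  refine (ext_iff_exists_equivariant (AMonS.map S (Y.comap f).subtype) ai hdomN u).2 ?_
  exact comap_local S M Z f Y _ ai v (pullback.fst v X.hom) hXihom u h2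

/-- the comparison for a scheme affine over the base -/
theorem ext_comap (S : Scheme.{u}) (M Z : Type) [AddCommMonoid M] [AddCommMonoid Z]
    (f : M →+ Z) (Y : AddSubmonoid Z) (X : Over S) [IsAffineHom X.hom]
    (a : MonAct (AMonS S M) X) {T : Over S} (x : T ⟶ X)
    (h : Ext (AMonS.map S Y.subtype) (a.restrict (AMonS.map S f)) x) :
    Ext (AMonS.map S (Y.comap f).subtype) a x := by
  have hdomN : ∀ T : Over S, ((AMonS.map S (Y.comap f).subtype) ▷ T).left.ker = ⊥ := fun T =>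
    MagnetDom.ker_whiskerRight_eq_bot S T (Y.comap f).subtype Subtype.val_injective
  have hv : Presieve.ofArrows S.affineCover.X S.affineCover.f ∈ Scheme.fpqcPrecoverage S :=
    Scheme.zariskiPrecoverage_le_fpqcPrecoverage _ S.affineCover.mem₀
  have hcov := DescFF.cover_bc S.affineCover.f hv T
  refine Ext.of_local (AMonS.map S (Y.comap f).subtype) a hdomN x
    (fun i => Over.mk (pullback.snd (S.affineCover.f i) T.hom ≫ T.hom))
    (fun i => Over.homMk (pullback.snd (S.affineCover.f i) T.hom) rfl) hcov ?_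
  intro i
  exact ext_comap_piece S M Z f Y X a (S.affineCover.f i) _
    (pullback.fst (S.affineCover.f i) T.hom) pullback.condition (h.comp _)

theorem main18287 (S : Scheme.{u}) (M Z : Type) [AddCommMonoid M] [AddCommMonoid Z]
    (f : M →+ Z) (Y : AddSubmonoid Z) (X : Over S) [IsAffineHom X.hom]
    (a : Magnet.MonAct (Magnet.AMonS S M) X) :
    IsIso (Magnet.attrComap a f Y) := by
  have hdomN : ∀ T : Over S, ((AMonS.map S (Y.comap f).subtype) ▷ T).left.ker = ⊥ := fun T =>
    MagnetDom.ker_whiskerRight_eq_bot S T (Y.comap f).subtype Subtype.val_injective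
  have hdomY : ∀ T : Over S, ((AMonS.map S Y.subtype) ▷ T).left.ker = ⊥ := fun T =>
    MagnetDom.ker_whiskerRight_eq_bot S T Y.subtype Subtype.val_injective
  have key : ∀ {T : Over S} (φ : AMonS S ↥(Y.comap f) ⊗ T ⟶ X),
      lift (toUnit T ≫ η[AMonS S ↥Y]) (𝟙 T) ≫
        (AMonS.map S ((f.comp (Y.comap f).subtype).codRestrict Y (fun x => x.2)) ▷ T) ≫ φ =
      lift (toUnit T ≫ η[AMonS S ↥(Y.comap f)]) (𝟙 T) ≫ φ := by
    intro T φ
    rw [lift_whiskerRight_assoc, Category.assoc, IsMonHom.one_hom]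
  haveI : ∀ T, IsIso ((attrComap a f Y).app T) := fun T => by
    rw [isIso_iff_bijective]
    refine ⟨?_, ?_⟩
    · intro φ₁ φ₂ h
      apply evalAt_injective (AMonS.map S (Y.comap f).subtype) a hdomN (unop T)
      have h1 := congrArg Subtype.val h
      rw [attrComap_app_coe, attrComap_app_coe] at h1
      show lift (toUnit (unop T) ≫ η[AMonS S ↥(Y.comap f)]) (𝟙 (unop T)) ≫ φ₁.1 =
        lift (toUnit (unop T) ≫ η[AMonS S ↥(Y.comap f)]) (𝟙 (unop T)) ≫ φ₂.1
      rw [← key φ₁.1, ← key φ₂.1, h1]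
    · intro ψ
      have hExtY : Ext (AMonS.map S Y.subtype) (a.restrict (AMonS.map S f))
          (lift (toUnit (unop T) ≫ η[AMonS S ↥Y]) (𝟙 (unop T)) ≫ ψ.1) :=
        (ext_iff_exists_equivariant (AMonS.map S Y.subtype) (a.restrict (AMonS.map S f))
          hdomY _).2 ⟨ψ.1, ψ.2, rfl⟩
      have hExtN := ext_comap S M Z f Y X a _ hExtY
      obtain ⟨φ, hφ, hφx⟩ :=
        (ext_iff_exists_equivariant (AMonS.map S (Y.comap f).subtype) a hdomN _).1 hExtN
      refine ⟨⟨φ, hφ⟩, ?_⟩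
      apply evalAt_injective (AMonS.map S Y.subtype) (a.restrict (AMonS.map S f)) hdomY (unop T)
      show lift (toUnit (unop T) ≫ η[AMonS S ↥Y]) (𝟙 (unop T)) ≫
          ((attrComap a f Y).app T ⟨φ, hφ⟩).1 =
        lift (toUnit (unop T) ≫ η[AMonS S ↥Y]) (𝟙 (unop T)) ≫ ψ.1
      rw [attrComap_app_coe, key φ, hφx]
  exact NatIso.isIso_of_isIso_app _

end Groth.Agent.Lib.Helper29.MagnetComapAff
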