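import Mathlib
import Groth.Prelude.Def_Magnet4
import Groth.Agent.Lib.Helper29.MagnetComapAff

/-!
# Finite expansions of functions on `A(M)_S ×_S T` and extension of orbit maps by ranges (helper29)
-/
set_option autoImplicit false
set_option maxHeartbeats 1600000
set_option linter.style.haveILetI false
universe u
open CategoryTheory CategoryTheory.Limits MonoidalCategory CartesianMonoidalCategory MonObj
  AlgebraicGeometry Opposite

noncomputable section

namespace Groth.Agent.Lib.Helper29.MagnetExpand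

open Magnet Groth.Agent.Lib.Helper29.MagnetCoordRing Groth.Agent.Lib.Helper29.MagnetCoord
  Groth.Agent.Lib.Helper29.MagnetCoordMonAlg Groth.Agent.Lib.Helper29.MagnetCoordGlob
  Groth.Agent.Lib.Helper29.MagnetHomog

section
variable {M : Type} [AddCommMonoid M]

/-- induction on functions on `A(M)_S ×_S T`: sums of `Xᵈ ⊗ c` -/
theorem mon_induction (S : Scheme.{u}) (T : Over S) [IsAffine T.left]
    {P : Γ((AMonS S M ⊗ T).left, ⊤) → Prop} (h0 : P 0) (hadd : ∀ z w, P z → P w → P (z + w))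
    (hgen : ∀ (d : Multiplicative M) (c : Γ(T.left, ⊤)),
      P ((MagnetDom.pN S T M).appTop.hom (mon.{u} d) * (MagnetDom.qN S T M).appTop.hom c))
    (y : Γ((AMonS S M ⊗ T).left, ⊤)) : P y := by
  haveI := MagnetDom.isAffine_AMon_left.{u} M
  have H := isPushout_appTop_of_isPullback (MagnetDom.isPullback_pN_qN S T M)
  apply pushout_induction H (P := P) h0 ?_ hadd
  intro x c
  show P ((MagnetDom.pN S T M).appTop.hom x * (MagnetDom.qN S T M).appTop.hom c)
  obtain ⟨x', rfl⟩ := monHom_surjective.{u} x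
  induction x' using MonoidAlgebra.induction_linear with
  | zero =>
    rw [map_zero, map_zero, zero_mul]
    exact h0
  | add p q hp hq =>
    rw [map_add, map_add, add_mul]
    exact hadd _ _ hp hq
  | single d r =>
    obtain ⟨F, hF⟩ : ∃ F : ULift.{u} ℤ →+ Γ((AMonS S M ⊗ T).left, ⊤),
        ∀ r, F r = (MagnetDom.pN S T M).appTop.hom (monHom.{u} (MonoidAlgebra.single d r)) *
          (MagnetDom.qN S T M).appTop.hom c :=
      ⟨(AddMonoidHom.mulRight ((MagnetDom.qN S T M).appTop.hom c)).comp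
        (((MagnetDom.pN S T M).appTop.hom : _ →+* _).toAddMonoidHom.comp
          ((monHom.{u} (M := M)).toAddMonoidHom.comp (MonoidAlgebra.singleAddHom d))),
        fun r => rfl⟩
    have hr : r = r.down • (1 : ULift.{u} ℤ) := by
      rw [zsmul_one]; apply ULift.ext; simp
    have h1 : F r = (MagnetDom.pN S T M).appTop.hom (mon.{u} d) *
        (MagnetDom.qN S T M).appTop.hom (r.down • c) := by
      conv_lhs => rw [hr]
      rw [map_zsmul, hF, map_zsmul, mul_smul_comm]
      rfl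
    rw [← hF, h1]
    exact hgen d _

/-- every function on `A(M)_S ×_S T` is a finite sum of `Xᵈ ⊗ c_d` -/
theorem exists_expansion (S : Scheme.{u}) (T : Over S) [IsAffine T.left]
    (y : Γ((AMonS S M ⊗ T).left, ⊤)) :
    ∃ (F : Finset (Multiplicative M)) (c : Multiplicative M → Γ(T.left, ⊤)),
      y = ∑ d ∈ F, (MagnetDom.pN S T M).appTop.hom (mon.{u} d) *
        (MagnetDom.qN S T M).appTop.hom (c d) := by
  classical
  obtain ⟨E, hE⟩ : ∃ E : (Multiplicative M →₀ Γ(T.left, ⊤)) →+ Γ((AMonS S M ⊗ T).left, ⊤),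
      ∀ d c, E (Finsupp.single d c) = (MagnetDom.pN S T M).appTop.hom (mon.{u} d) *
        (MagnetDom.qN S T M).appTop.hom c :=
    ⟨Finsupp.liftAddHom (fun d =>
      (AddMonoidHom.mulLeft ((MagnetDom.pN S T M).appTop.hom (mon.{u} d))).comp
        ((MagnetDom.qN S T M).appTop.hom : _ →+* _).toAddMonoidHom), fun d c => by
      rw [Finsupp.liftAddHom_apply_single]; rfl⟩
  have hsum : ∀ c : Multiplicative M →₀ Γ(T.left, ⊤), E c = ∑ d ∈ c.support,
      (MagnetDom.pN S T M).appTop.hom (mon.{u} d) * (MagnetDom.qN S T M).appTop.hom (c d) := by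
    intro c
    conv_lhs => rw [← Finsupp.sum_single c]
    rw [Finsupp.sum, map_sum]
    exact Finset.sum_congr rfl (fun d _ => hE d (c d))
  suffices h : ∃ c, E c = y by
    obtain ⟨c, rfl⟩ := h
    exact ⟨c.support, c, hsum c⟩
  apply mon_induction S T (P := fun y => ∃ c, E c = y)
  · exact ⟨0, map_zero E⟩
  · rintro z w ⟨c₁, rfl⟩ ⟨c₂, rfl⟩
    exact ⟨c₁ + c₂, map_add E c₁ c₂⟩
  · intro d c
    exact ⟨Finsupp.single d c, hE d c⟩

/-- extracting a coefficient of a finite expansion -/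
theorem coeff_sum_mon (S : Scheme.{u}) (T : Over S) [IsAffine T.left] (N : AddSubmonoid M)
    (H : IsPushout (AMon (ULift.{u} ℤ) M).hom.appTop
      (T.hom ≫ Limits.IsTerminal.from specULiftZIsTerminal S).appTop
      (MagnetDom.pN S T M).appTop (MagnetDom.qN S T M).appTop)
    (m : (specCompData.{u} N).K) (F : Finset (Multiplicative M))
    (c : Multiplicative M → Γ(T.left, ⊤)) (hm : m.1 ∈ F) :
    coeff (specCompData.{u} N) H m (∑ d ∈ F, (MagnetDom.pN S T M).appTop.hom (mon.{u} d) *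
      (MagnetDom.qN S T M).appTop.hom (c d)) = c m.1 := by
  classical
  rw [map_sum, Finset.sum_eq_single m.1]
  · rw [coeff_mul, ell_mon_self, map_one, _root_.one_mul]
  · intro d _ hd
    rw [coeff_mul, ell_mon_ne N m d hd, map_zero, zero_mul]
  · intro h
    exact absurd hm h

end

section Range

variable {S : Scheme.{u}} {G Mo X : Over S} [MonObj G] [MonObj Mo]

theorem range_of_ext (i : G ⟶ Mo) [IsMonHom i] (a : MonAct G X) {T : Over S} (x : T ⟶ X)
    (h : Ext i a x) (b : Γ(X.left, ⊤)) :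
    ∃ d, (i ▷ T).left.appTop.hom d = ((G ◁ x) ≫ a.act).left.appTop.hom b := by
  obtain ⟨φ, hφ⟩ := h
  refine ⟨φ.left.appTop.hom b, ?_⟩
  have h1 := congrArg (fun ψ => ψ.left.appTop.hom b) hφ
  simpa only [Over.comp_left, Scheme.Hom.comp_appTop, CommRingCat.hom_comp,
    RingHom.comp_apply] using h1

/-- the orbit map extends as soon as its functions lie in the image of `Γ(Mo ⊗ T)` -/
theorem ext_of_range (i : G ⟶ Mo) [IsMonHom i] (a : MonAct G X) [IsAffine X.left]
    {V : Scheme.{u}} [IsAffine V] (v : V ⟶ S) [Mono v] (k : X.left ⟶ V) (hk : X.hom = k ≫ v)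
    {T : Over S} (x : T ⟶ X) (hinj : Function.Injective (i ▷ T).left.appTop.hom)
    (hr : ∀ b : Γ(X.left, ⊤),
      ∃ d, (i ▷ T).left.appTop.hom d = ((G ◁ x) ≫ a.act).left.appTop.hom b) :
    Ext i a x := by
  obtain ⟨κ, hκ⟩ := exists_ringHom_comp_eq _ hinj ((G ◁ x) ≫ a.act).left.appTop.hom hr
  obtain ⟨φl, hφl⟩ := exists_hom_appTop_eq (Y := (Mo ⊗ T).left) (X' := X.left)
    (CommRingCat.ofHom κ)
  have h1 : (i ▷ T).left ≫ φl = ((G ◁ x) ≫ a.act).left := by
    apply AlgebraicGeometry.ext_of_isAffine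
    rw [Scheme.Hom.comp_appTop, hφl]
    ext b
    exact congrArg (fun ψ => ψ b) hκ
  have h3 : φl ≫ k = (snd Mo T).left ≫ x.left ≫ k := by
    apply eq_of_comp_eq_of_injective_appTop (i ▷ T).left hinj
    rw [← Category.assoc, h1, ← cancel_mono v]
    simp only [Category.assoc]
    rw [← hk, Over.w, Over.w, Over.w, Over.w]
  have h2 : φl ≫ X.hom = (Mo ⊗ T).hom := by
    rw [hk, ← Category.assoc, h3]
    simp only [Category.assoc]
    rw [← hk, Over.w, Over.w]
  refine ⟨Over.homMk φl h2, ?_⟩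
  apply Over.OverMorphism.ext
  exact h1

end Range

/-- generators of the functions of a scheme of finite type over an affine base -/
theorem exists_gens {X V : Scheme.{u}} [IsAffine X] [IsAffine V] (k : X ⟶ V)
    [LocallyOfFiniteType k] :
    ∃ s : Finset Γ(X, ⊤), ∀ B' : Subring Γ(X, ⊤), (∀ r, k.appTop.hom r ∈ B') →
      (↑s : Set Γ(X, ⊤)) ⊆ B' → B' = ⊤ := by
  have hft : k.appTop.hom.FiniteType :=
    (HasRingHomProperty.iff_of_isAffine (P := @LocallyOfFiniteType)).mp inferInstance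
  letI := k.appTop.hom.toAlgebra
  have hft' : Algebra.FiniteType Γ(V, ⊤) Γ(X, ⊤) := hft
  obtain ⟨s, hs⟩ := hft'.out
  refine ⟨s, fun B' hr hsB => ?_⟩
  rw [eq_top_iff]
  intro b _
  have hle : Algebra.adjoin Γ(V, ⊤) (↑s : Set Γ(X, ⊤)) ≤
      ({ B'.toSubsemiring with algebraMap_mem' := hr } : Subalgebra Γ(V, ⊤) Γ(X, ⊤)) :=
    Algebra.adjoin_le hsB
  have hb : b ∈ Algebra.adjoin Γ(V, ⊤) (↑s : Set Γ(X, ⊤)) := by rw [hs]; trivial
  exact hle hb

end Groth.Agent.Lib.Helper29.MagnetExpand
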