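import Mathlib
import Groth.Prelude.Def_Magnet4
import Groth.Agent.Lib.Helper29.MagnetExpand
import Groth.Agent.Lib.Helper29.MagnetComap

/-!
# Attractors for a directed union of magnets (S18290) (helper29)

`A(⋃ Nᵢ)_S ×_S T` is the limit of the `A(Nᵢ)_S ×_S T` for `T` affine; a morphism to a scheme locally
of finite presentation factors through a finite stage.
-/
set_option autoImplicit false
set_option maxHeartbeats 1600000
set_option linter.style.haveILetI false
universe u
open CategoryTheory CategoryTheory.Limits MonoidalCategory CartesianMonoidalCategory MonObj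
  AlgebraicGeometry Opposite

noncomputable section

namespace Groth.Agent.Lib.Helper29.MagnetDirected

open Magnet Groth.Agent.Lib.Helper29.MagnetCoordRing Groth.Agent.Lib.Helper29.MagnetCoord
  Groth.Agent.Lib.Helper29.MagnetCoordMonAlg Groth.Agent.Lib.Helper29.MagnetCoordGlob
  Groth.Agent.Lib.Helper29.MagnetHomog Groth.Agent.Lib.Helper29.MagnetExpand
  Groth.Agent.Lib.Helper29.MagnetComapAff

/-- maps out of a directed union of rings -/
theorem ring_desc {Idx : Type*} [Preorder Idx] [IsDirected Idx (· ≤ ·)] [Nonempty Idx]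
    {A : Idx → Type*} [∀ i, CommRing (A i)] {B R : Type*} [CommRing B] [CommRing R]
    (τ : ∀ i j, i ≤ j → (A i →+* A j)) (inc : ∀ i, A i →+* B)
    (hτ : ∀ i j (h : i ≤ j) y, inc j (τ i j h y) = inc i y)
    (hinj : ∀ i, Function.Injective (inc i))
    (hsurj : ∀ y : B, ∃ i yi, inc i yi = y)
    (g : ∀ i, A i →+* R) (hg : ∀ i j (h : i ≤ j) y, g j (τ i j h y) = g i y) :
    ∃ G : B →+* R, ∀ i y, G (inc i y) = g i y := by
  have key : ∀ i (yi : A i) j (yj : A j), inc i yi = inc j yj → g i yi = g j yj := by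
    intro i yi j yj h
    obtain ⟨k, hik, hjk⟩ := directed_of (· ≤ ·) i j
    have e : τ i k hik yi = τ j k hjk yj := hinj k (by rw [hτ, hτ, h])
    rw [← hg i k hik, ← hg j k hjk, e]
  choose idx pre hpre using hsurj
  have hG : ∀ i y, g (idx (inc i y)) (pre (inc i y)) = g i y :=
    fun i y => key _ _ _ _ (hpre (inc i y))
  have pair : ∀ y y' : B, ∃ k, ∃ a b : A k, inc k a = y ∧ inc k b = y' := by
    intro y y'
    obtain ⟨k, h1, h2⟩ := directed_of (· ≤ ·) (idx y) (idx y')
    exact ⟨k, τ _ k h1 (pre y), τ _ k h2 (pre y'), by rw [hτ, hpre], by rw [hτ, hpre]⟩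
  refine ⟨{ toFun := fun y => g (idx y) (pre y)
            map_one' := ?_
            map_mul' := ?_
            map_zero' := ?_
            map_add' := ?_ }, fun i y => hG i y⟩
  · obtain ⟨i⟩ := ‹Nonempty Idx›
    calc g (idx 1) (pre 1) = g i 1 := by
          have h := hG i 1
          rw [map_one (inc i)] at h
          exact h
      _ = 1 := map_one _
  · intro y y'
    obtain ⟨k, a, b, rfl, rfl⟩ := pair y y'
    calc g (idx (inc k a * inc k b)) (pre (inc k a * inc k b)) = g k (a * b) := by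
          rw [← map_mul (inc k)]; exact hG k (a * b)
      _ = g k a * g k b := map_mul _ _ _
      _ = _ := by rw [hG k a, hG k b]
  · obtain ⟨i⟩ := ‹Nonempty Idx›
    calc g (idx 0) (pre 0) = g i 0 := by
          have h := hG i 0
          rw [map_zero (inc i)] at h
          exact h
      _ = 0 := map_zero _
  · intro y y'
    obtain ⟨k, a, b, rfl, rfl⟩ := pair y y'
    calc g (idx (inc k a + inc k b)) (pre (inc k a + inc k b)) = g k (a + b) := by
          rw [← map_add (inc k)]; exact hG k (a + b)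
      _ = g k a + g k b := map_add _ _ _
      _ = _ := by rw [hG k a, hG k b]

section
variable (S : Scheme.{u}) {M : Type} [AddCommMonoid M]

theorem AMonS_map_inclusion_refl (L : AddSubmonoid M) (h : L ≤ L) :
    AMonS.map S (AddSubmonoid.inclusion h) = 𝟙 _ := by
  have e : AddSubmonoid.inclusion h = AddMonoidHom.id ↥L := by
    ext x; rfl
  rw [e, MagnetComap.AMonS_map_id]

theorem AMonS_map_inclusion_comp {L₁ L₂ L₃ : AddSubmonoid M} (h12 : L₁ ≤ L₂) (h23 : L₂ ≤ L₃)
    (h13 : L₁ ≤ L₃) :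
    AMonS.map S (AddSubmonoid.inclusion h13) =
      AMonS.map S (AddSubmonoid.inclusion h23) ≫ AMonS.map S (AddSubmonoid.inclusion h12) := by
  rw [← AMonS.map_comp]
  rfl

theorem AMonS_map_subtype_comp {L₁ L₂ : AddSubmonoid M} (h12 : L₁ ≤ L₂) :
    AMonS.map S L₁.subtype =
      AMonS.map S L₂.subtype ≫ AMonS.map S (AddSubmonoid.inclusion h12) := by
  rw [← AMonS.map_comp]
  rfl

theorem down_le_of_hom {J : Type} [Preorder J] {i j : (ULift.{u} J)ᵒᵖ} (f : i ⟶ j) :
    j.unop.down ≤ i.unop.down :=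
  (leOfHom f.unop : j.unop ≤ i.unop)

variable {J : Type} [Preorder J] (N : J → AddSubmonoid M) (hN : Monotone N) (T : Over S)

/-- the diagram of the `A(Nᵢ)_S ×_S T` -/
def diag : (ULift.{u} J)ᵒᵖ ⥤ Scheme.{u} where
  obj i := (AMonS S (N i.unop.down) ⊗ T).left
  map {i j} f := (AMonS.map S (AddSubmonoid.inclusion
    (hN (down_le_of_hom f))) ▷ T).left
  map_id i := by
    rw [AMonS_map_inclusion_refl, id_whiskerRight]
    rfl
  map_comp {i j k} f g := by
    rw [AMonS_map_inclusion_comp S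
      (hN (down_le_of_hom g))
      (hN (down_le_of_hom f)), comp_whiskerRight]
    rfl

/-- the structure maps -/
def diagT : diag S N hN T ⟶ (Functor.const _).obj S where
  app i := (AMonS S (N i.unop.down) ⊗ T).hom
  naturality {i j} f := by
    show (AMonS.map S (AddSubmonoid.inclusion
      (hN (down_le_of_hom f))) ▷ T).left ≫
      (AMonS S (N j.unop.down) ⊗ T).hom = (AMonS S (N i.unop.down) ⊗ T).hom ≫ 𝟙 S
    rw [Over.w, Category.comp_id]

/-- the cone with vertex `A(⋃ Nᵢ)_S ×_S T` -/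
def diagCone : Cone (diag S N hN T) where
  pt := (AMonS S ↥(⨆ i, N i) ⊗ T).left
  π :=
    { app := fun i => (AMonS.map S (AddSubmonoid.inclusion (le_iSup N i.unop.down)) ▷ T).left
      naturality := fun {i j} f => by
        show 𝟙 _ ≫ (AMonS.map S (AddSubmonoid.inclusion (le_iSup N j.unop.down)) ▷ T).left =
          (AMonS.map S (AddSubmonoid.inclusion (le_iSup N i.unop.down)) ▷ T).left ≫
            (AMonS.map S (AddSubmonoid.inclusion
              (hN (down_le_of_hom f))) ▷ T).left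
        rw [Category.id_comp, ← Over.comp_left, ← comp_whiskerRight,
          ← AMonS_map_inclusion_comp] }

end

section Limit
variable (S : Scheme.{u}) {M : Type} [AddCommMonoid M] (T : Over S)

theorem isAffine_tensor [IsAffine T.left] (L : Type) [AddCommMonoid L] :
    IsAffine (AMonS S L ⊗ T).left := by
  haveI := MagnetDom.isAffineHom_qN S T L
  exact isAffine_of_isAffineHom (MagnetDom.qN S T L)

/-- the transition maps on functions -/
def tr {L₁ L₂ : AddSubmonoid M} (h : L₁ ≤ L₂) :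
    Γ((AMonS S ↥L₁ ⊗ T).left, ⊤) →+* Γ((AMonS S ↥L₂ ⊗ T).left, ⊤) :=
  (AMonS.map S (AddSubmonoid.inclusion h) ▷ T).left.appTop.hom

theorem tr_tr {L₁ L₂ L₃ : AddSubmonoid M} (h12 : L₁ ≤ L₂) (h23 : L₂ ≤ L₃)
    (z : Γ((AMonS S ↥L₁ ⊗ T).left, ⊤)) :
    tr S T h23 (tr S T h12 z) = tr S T (h12.trans h23) z := by
  have e : (AMonS.map S (AddSubmonoid.inclusion (h12.trans h23)) ▷ T).left =
      (AMonS.map S (AddSubmonoid.inclusion h23) ▷ T).left ≫
        (AMonS.map S (AddSubmonoid.inclusion h12) ▷ T).left := by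
    rw [← Over.comp_left, ← comp_whiskerRight, ← AMonS_map_inclusion_comp]
  have h : (AMonS.map S (AddSubmonoid.inclusion (h12.trans h23)) ▷ T).left.appTop.hom z =
      ((AMonS.map S (AddSubmonoid.inclusion h23) ▷ T).left ≫
        (AMonS.map S (AddSubmonoid.inclusion h12) ▷ T).left).appTop.hom z := by rw [e]
  rw [Scheme.Hom.comp_appTop] at h
  exact h.symm

theorem tr_injective [IsAffine T.left] {L₁ L₂ : AddSubmonoid M} (h : L₁ ≤ L₂) :
    Function.Injective (tr S T h) := by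
  haveI := isAffine_tensor S T ↥L₁
  exact injective_appTop_of_ker_eq_bot _
    (MagnetDom.ker_whiskerRight_eq_bot S T (AddSubmonoid.inclusion h)
      (AddSubmonoid.inclusion_injective h))

theorem tr_gen {L₁ L₂ : AddSubmonoid M} (h : L₁ ≤ L₂) (d : Multiplicative ↥L₁)
    (c : Γ(T.left, ⊤)) :
    tr S T h ((MagnetDom.pN S T ↥L₁).appTop.hom (mon.{u} d) *
        (MagnetDom.qN S T ↥L₁).appTop.hom c) =
      (MagnetDom.pN S T ↥L₂).appTop.hom
        (mon.{u} (AddMonoidHom.toMultiplicative (AddSubmonoid.inclusion h) d)) *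
        (MagnetDom.qN S T ↥L₂).appTop.hom c := by
  have h1 : ((AMonS.map S (AddSubmonoid.inclusion h) ▷ T).left ≫
      MagnetDom.pN S T ↥L₁).appTop.hom (mon.{u} d) =
      (MagnetDom.pN S T ↥L₂ ≫ (AMon.map (ULift.{u} ℤ)
        (AddSubmonoid.inclusion h)).left).appTop.hom (mon.{u} d) := by
    rw [MagnetDom.whisker_pN S T (AddSubmonoid.inclusion h)]
  rw [Scheme.Hom.comp_appTop, Scheme.Hom.comp_appTop] at h1
  have h1' : tr S T h ((MagnetDom.pN S T ↥L₁).appTop.hom (mon.{u} d)) =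
      (MagnetDom.pN S T ↥L₂).appTop.hom
        (mon.{u} (AddMonoidHom.toMultiplicative (AddSubmonoid.inclusion h) d)) := by
    refine h1.trans ?_
    show (MagnetDom.pN S T ↥L₂).appTop.hom ((AMon.map (ULift.{u} ℤ)
      (AddSubmonoid.inclusion h)).left.appTop.hom (mon.{u} d)) = _
    rw [mon_map]
  have h2 : ((AMonS.map S (AddSubmonoid.inclusion h) ▷ T).left ≫
      MagnetDom.qN S T ↥L₁).appTop.hom c = (MagnetDom.qN S T ↥L₂).appTop.hom c := by
    rw [MagnetDom.whisker_qN S T (AddSubmonoid.inclusion h)]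
  rw [Scheme.Hom.comp_appTop] at h2
  have h2' : tr S T h ((MagnetDom.qN S T ↥L₁).appTop.hom c) =
      (MagnetDom.qN S T ↥L₂).appTop.hom c := h2
  rw [map_mul, h1', h2']

variable {J : Type} [Preorder J] [IsDirected J (· ≤ ·)] [Nonempty J]
  (N : J → AddSubmonoid M) (hN : Monotone N) [IsAffine T.left]

include hN in
/-- every function on `A(⋃ Nᵢ) × T` comes from a finite stage -/
theorem exists_stage (y : Γ((AMonS S ↥(⨆ i, N i) ⊗ T).left, ⊤)) :
    ∃ (i : J) (yi : Γ((AMonS S ↥(N i) ⊗ T).left, ⊤)), tr S T (le_iSup N i) yi = y := by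
  apply mon_induction S T (M := ↥(⨆ i, N i))
    (P := fun y => ∃ (i : J) (yi : Γ((AMonS S ↥(N i) ⊗ T).left, ⊤)),
      tr S T (le_iSup N i) yi = y)
  · obtain ⟨i⟩ := ‹Nonempty J›
    exact ⟨i, 0, map_zero _⟩
  · rintro z w ⟨i, zi, rfl⟩ ⟨j, wj, rfl⟩
    obtain ⟨k, hik, hjk⟩ := directed_of (· ≤ ·) i j
    refine ⟨k, tr S T (hN hik) zi + tr S T (hN hjk) wj, ?_⟩
    rw [map_add, tr_tr, tr_tr]
  · intro d c
    obtain ⟨i, hi⟩ := (AddSubmonoid.mem_iSup_of_directed hN.directed_le).1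
      (Multiplicative.toAdd d).2
    refine ⟨i, (MagnetDom.pN S T ↥(N i)).appTop.hom
      (mon.{u} (Multiplicative.ofAdd (⟨(Multiplicative.toAdd d).1, hi⟩ : ↥(N i)))) *
      (MagnetDom.qN S T ↥(N i)).appTop.hom c, ?_⟩
    rw [tr_gen]
    rfl

/-- `A(⋃ Nᵢ)_S ×_S T` is the limit of the `A(Nᵢ)_S ×_S T` -/
def isLimitDiagCone : IsLimit (diagCone.{u} S N hN T) := by
  haveI : ∀ i : J, IsAffine (AMonS S ↥(N i) ⊗ T).left := fun i => isAffine_tensor S T _
  haveI : IsAffine (AMonS S ↥(⨆ i, N i) ⊗ T).left := isAffine_tensor S T _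
  have huniq : ∀ {W : Scheme.{u}} (l l' : W ⟶ (AMonS S ↥(⨆ i, N i) ⊗ T).left),
      (∀ i : J, l ≫ (AMonS.map S (AddSubmonoid.inclusion (le_iSup N i)) ▷ T).left =
        l' ≫ (AMonS.map S (AddSubmonoid.inclusion (le_iSup N i)) ▷ T).left) → l = l' := by
    intro W l l' h
    apply AlgebraicGeometry.ext_of_isAffine
    ext y
    obtain ⟨i, yi, rfl⟩ := exists_stage S T N hN y
    have h1 := congrArg (fun k => k.appTop.hom yi) (h i)
    simp only [Scheme.Hom.comp_appTop, CommRingCat.hom_comp, RingHom.comp_apply] at h1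
    exact h1
  have hex : ∀ s : Cone (diag.{u} S N hN T),
      ∃ l : s.pt ⟶ (AMonS S ↥(⨆ i, N i) ⊗ T).left,
      ∀ i : J, l ≫ (AMonS.map S (AddSubmonoid.inclusion (le_iSup N i)) ▷ T).left =
        s.π.app (op ⟨i⟩) := by
    intro s
    obtain ⟨G, hG⟩ := ring_desc (Idx := J)
      (A := fun i => Γ((AMonS S ↥(N i) ⊗ T).left, ⊤))
      (fun i j h => tr S T (hN h)) (fun i => tr S T (le_iSup N i))
      (fun i j h y => tr_tr S T (hN h) (le_iSup N j) y)
      (fun i => tr_injective S T (le_iSup N i))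
      (fun y => exists_stage S T N hN y)
      (R := Γ(s.pt, ⊤))
      (fun i => ((s.π.app (op ⟨i⟩)).appTop.hom :
        Γ((AMonS S ↥(N i) ⊗ T).left, ⊤) →+* Γ(s.pt, ⊤)))
      (fun i j h y => by
        have e := s.w (homOfLE (ULift.up_le.2 h : (ULift.up i : ULift.{u} J) ≤ ULift.up j)).op
        have e2 : (s.π.app (op ⟨j⟩) ≫ (diag.{u} S N hN T).map
            (homOfLE (ULift.up_le.2 h : (ULift.up i : ULift.{u} J) ≤ ULift.up j)).op).appTop.hom y =
            (s.π.app (op ⟨i⟩)).appTop.hom y := by rw [e]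
        rw [Scheme.Hom.comp_appTop] at e2
        exact e2)
    obtain ⟨l, hl⟩ := exists_hom_appTop_eq (Y := s.pt)
      (X' := (AMonS S ↥(⨆ i, N i) ⊗ T).left) (CommRingCat.ofHom G)
    refine ⟨l, fun i => ?_⟩
    apply AlgebraicGeometry.ext_of_isAffine
    rw [Scheme.Hom.comp_appTop, hl]
    ext y
    exact hG i y
  exact
    { lift := fun s => Classical.choose (hex s)
      fac := fun s i => by
        obtain ⟨i⟩ := i
        obtain ⟨i⟩ := i
        exact Classical.choose_spec (hex s) i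
      uniq := fun s m hm => huniq _ _ (fun i =>
        (hm (op ⟨i⟩)).trans (Classical.choose_spec (hex s) i).symm) }

end Limit

theorem main18290 (S : Scheme.{u}) (M : Type) [AddCommMonoid M]
    (X : Over S) [IsSeparated X.hom] [LocallyOfFinitePresentation X.hom]
    (a : Magnet.MonAct (Magnet.AMonS S M) X) {J : Type} [Preorder J] [IsDirected J (· ≤ ·)]
    [Nonempty J]
    (N : J → AddSubmonoid M) (hN : Monotone N) (T : Over S) [IsAffine T.left]
    (φ : (Magnet.attr a (⨆ i, N i)).obj (op T)) :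
    ∃ (i : J) (ψ : (Magnet.attr a (N i)).obj (op T)),
      (Magnet.attrMap a (le_iSup N i)).app (op T) ψ = φ := by
  haveI : IsDirected (ULift.{u} J) (· ≤ ·) := ⟨fun x y => by
    obtain ⟨k, h1, h2⟩ := directed_of (· ≤ ·) x.down y.down
    exact ⟨⟨k⟩, h1, h2⟩⟩
  haveI : Nonempty (ULift.{u} J) := ⟨⟨Classical.arbitrary J⟩⟩
  haveI : IsCofiltered (ULift.{u} J)ᵒᵖ := inferInstance
  haveI haff : ∀ i, IsAffine ((diag.{u} S N hN T).obj i) := fun i => isAffine_tensor S T _
  haveI : ∀ {i j} (f : i ⟶ j), IsAffineHom ((diag.{u} S N hN T).map f) := fun f => inferInstance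
  haveI : ∀ i, CompactSpace ((diag.{u} S N hN T).obj i) := fun i => inferInstance
  haveI : ∀ i, QuasiSeparatedSpace ((diag.{u} S N hN T).obj i) := fun i => inferInstance
  have ha : (diagCone.{u} S N hN T).π ≫ diagT.{u} S N hN T =
      (Functor.const _).map (φ.1.left ≫ X.hom) := by
    ext i
    show (AMonS.map S (AddSubmonoid.inclusion (le_iSup N i.unop.down)) ▷ T).left ≫
      (AMonS S ↥(N i.unop.down) ⊗ T).hom = φ.1.left ≫ X.hom
    rw [Over.w, Over.w]
  obtain ⟨i, g, hg1, hg2⟩ := Scheme.exists_π_app_comp_eq_of_locallyOfFinitePresentation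
    (diag.{u} S N hN T) (diagT.{u} S N hN T) X.hom (diagCone.{u} S N hN T)
    (isLimitDiagCone.{u} S T N hN) φ.1.left ha
  obtain ⟨i⟩ := i
  obtain ⟨i⟩ := i
  obtain ⟨ψ₀, hψ₀⟩ : ∃ ψ₀ : AMonS S ↥(N i) ⊗ T ⟶ X, ψ₀.left = g := ⟨Over.homMk g hg2, rfl⟩
  have h3 : (AMonS.map S (AddSubmonoid.inclusion (le_iSup N i)) ▷ T) ≫ ψ₀ = φ.1 := by
    apply Over.OverMorphism.ext
    rw [Over.comp_left, hψ₀]
    exact hg1
  obtain ⟨x, hx⟩ : ∃ x : T ⟶ X,
      x = lift (toUnit T ≫ η[AMonS S ↥(⨆ i, N i)]) (𝟙 T) ≫ φ.1 := ⟨_, rfl⟩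
  have hφ := MagnetAttr.whiskerRight_comp_eq (AMonS.map S (⨆ i, N i).subtype) a φ.1 φ.2
  have hE : (AMonS.map S (N i).subtype ▷ T) ≫ ψ₀ = (AMonS S M ◁ x) ≫ a.act := by
    rw [AMonS_map_subtype_comp S (le_iSup N i), comp_whiskerRight, Category.assoc, h3, hx]
    exact hφ
  have hdom : ∀ T' : Over S, ((AMonS.map S (N i).subtype) ▷ T').left.ker = ⊥ := fun T' =>
    MagnetDom.ker_whiskerRight_eq_bot S T' (N i).subtype Subtype.val_injective
  obtain ⟨heq, -⟩ := isEquivariant_of_whisker (AMonS.map S (N i).subtype) a x ψ₀ hE (hdom _)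
  refine ⟨i, ⟨ψ₀, heq⟩, ?_⟩
  apply Subtype.ext
  exact h3

end Groth.Agent.Lib.Helper29.MagnetDirected
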