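import Mathlib
import Groth.Prelude.Def_Magnet4
import Groth.Agent.Lib.Helper29.MagnetDom
import Groth.Agent.Lib.Helper29.MagnetHomog
import Groth.Agent.Lib.Helper29.MagnetExpand
import Groth.Agent.Lib.Helper29.MagnetCoordRing
import Groth.Agent.Lib.Helper29.MagnetCoord

/-!
# Ring-level toolkit for the étale base change of attractors (helper29, for S18302)

* `kappa` : coefficient functionals `Γ(A(L)_S ×_S Y) → Γ(Y)` for every `d ∈ L`, with expansion and naturality;
* `clIncl`, `Pk`, `jk`, `trk` : the closed subscheme `Spec (A/J)` of an affine `P` over `S`;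
* `exists_ringHom_of_compatible` : algebraization of a compatible system of ring maps.
-/
set_option autoImplicit false
set_option maxHeartbeats 1600000
set_option linter.style.haveILetI false
universe u
open CategoryTheory CategoryTheory.Limits MonoidalCategory CartesianMonoidalCategory MonObj
  AlgebraicGeometry Opposite

noncomputable section

namespace Groth.Agent.Lib.Helper29.MagnetEtRing

open Magnet MagnetDom MagnetHomog MagnetExpand MagnetCoordRing MagnetCoord

section Kappa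
variable {L : Type} [AddCommMonoid L]

/-- transport of a linear functional along isomorphisms -/
def transportEll {R A' R₁ A'₁ : CommRingCat.{u}} (eR : R₁ ≅ R) (eA' : A'₁ ≅ A') (ℓ : A' →+ R) :
    A'₁ →+ R₁ :=
  (eR.inv.hom : R →+* R₁).toAddMonoidHom.comp (ℓ.comp (eA'.hom.hom : A'₁ →+* A').toAddMonoidHom)

theorem transportEll_smul {R A' R₁ A'₁ : CommRingCat.{u}} (eR : R₁ ≅ R) (eA' : A'₁ ≅ A')
    {a' : R ⟶ A'} {a'₁ : R₁ ⟶ A'₁} (ha' : a'₁ ≫ eA'.hom = eR.hom ≫ a') (ℓ : A' →+ R)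
    (hℓ : ∀ r x, ℓ (a'.hom r * x) = r * ℓ x) (r : R₁) (x : A'₁) :
    transportEll eR eA' ℓ (a'₁.hom r * x) = r * transportEll eR eA' ℓ x := by
  show eR.inv.hom (ℓ (eA'.hom.hom (a'₁.hom r * x))) = r * eR.inv.hom (ℓ (eA'.hom.hom x))
  have h1 : eA'.hom.hom (a'₁.hom r) = a'.hom (eR.hom.hom r) := congrArg (fun ψ => ψ.hom r) ha'
  have h2 : eR.inv.hom (eR.hom.hom r) = r := congrArg (fun ψ => ψ.hom r) eR.hom_inv_id
  rw [map_mul, h1, hℓ, map_mul, h2]

/-- the `d`-th coefficient functional on `ℤ[L]` -/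
def cf (d : Multiplicative L) :
    (CommRingCat.of (MonoidAlgebra (ULift.{u} ℤ) (Multiplicative L))) →+
      (CommRingCat.of (ULift.{u} ℤ)) :=
  (Finsupp.applyAddHom d).comp MonoidAlgebra.coeffAddEquiv.toAddMonoidHom

theorem cf_smul (d : Multiplicative L) (r : ULift.{u} ℤ)
    (x : MonoidAlgebra (ULift.{u} ℤ) (Multiplicative L)) :
    cf.{u} d (algebraMap (ULift.{u} ℤ) (MonoidAlgebra (ULift.{u} ℤ) (Multiplicative L)) r * x) =
      r * cf.{u} d x := by
  show (algebraMap (ULift.{u} ℤ) (MonoidAlgebra (ULift.{u} ℤ) (Multiplicative L)) r * x).coeff d =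
    r * x.coeff d
  rw [← Algebra.smul_def, MonoidAlgebra.coeff_smul, Finsupp.smul_apply, smul_eq_mul]

/-- the `d`-th coefficient functional on `Γ(Spec ℤ[L])` -/
def ell0 (d : Multiplicative L) : Γ((AMon (ULift.{u} ℤ) L).left, ⊤) →+
    Γ(Spec (CommRingCat.of (ULift.{u} ℤ)), ⊤) :=
  transportEll (Scheme.ΓSpecIso (CommRingCat.of (ULift.{u} ℤ)))
    (Scheme.ΓSpecIso (CommRingCat.of (MonoidAlgebra (ULift.{u} ℤ) (Multiplicative L))))
    (cf.{u} d)

theorem ell0_smul (d : Multiplicative L) (r : Γ(Spec (CommRingCat.of (ULift.{u} ℤ)), ⊤))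
    (x : Γ((AMon (ULift.{u} ℤ) L).left, ⊤)) :
    ell0.{u} d ((AMon (ULift.{u} ℤ) L).hom.appTop.hom r * x) = r * ell0.{u} d x :=
  transportEll_smul (Scheme.ΓSpecIso (CommRingCat.of (ULift.{u} ℤ)))
    (Scheme.ΓSpecIso (CommRingCat.of (MonoidAlgebra (ULift.{u} ℤ) (Multiplicative L))))
    (a' := CommRingCat.ofHom (algebraMap (ULift.{u} ℤ)
      (MonoidAlgebra (ULift.{u} ℤ) (Multiplicative L))))
    (a'₁ := (AMon (ULift.{u} ℤ) L).hom.appTop) (Scheme.ΓSpecIso_naturality _) (cf.{u} d)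
    (fun r x => cf_smul.{u} d r x) r x

theorem ell0_mon_eq (d d' : Multiplicative L) :
    ell0.{u} d (mon.{u} d') = (Scheme.ΓSpecIso (CommRingCat.of (ULift.{u} ℤ))).inv.hom
      ((MonoidAlgebra.single d' (1 : ULift.{u} ℤ)).coeff d) := by
  have h3 : (Scheme.ΓSpecIso (CommRingCat.of
      (MonoidAlgebra (ULift.{u} ℤ) (Multiplicative L)))).hom.hom
      ((Scheme.ΓSpecIso (CommRingCat.of
        (MonoidAlgebra (ULift.{u} ℤ) (Multiplicative L)))).inv.hom
        (MonoidAlgebra.single d' (1 : ULift.{u} ℤ))) = MonoidAlgebra.single d' 1 :=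
    congrArg (fun ψ => ψ.hom (MonoidAlgebra.single d' (1 : ULift.{u} ℤ)))
      (Scheme.ΓSpecIso (CommRingCat.of
        (MonoidAlgebra (ULift.{u} ℤ) (Multiplicative L)))).inv_hom_id
  show (Scheme.ΓSpecIso (CommRingCat.of (ULift.{u} ℤ))).inv.hom
    (((Scheme.ΓSpecIso (CommRingCat.of
      (MonoidAlgebra (ULift.{u} ℤ) (Multiplicative L)))).hom.hom (mon.{u} d')).coeff d) = _
  unfold mon
  rw [h3]

theorem ell0_mon_self (d : Multiplicative L) : ell0.{u} d (mon.{u} d) = 1 := by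
  classical
  rw [ell0_mon_eq, MonoidAlgebra.coeff_single_apply, if_pos rfl, map_one]

theorem ell0_mon_ne (d d' : Multiplicative L) (h : d' ≠ d) : ell0.{u} d (mon.{u} d') = 0 := by
  classical
  rw [ell0_mon_eq, MonoidAlgebra.coeff_single_apply, if_neg h, map_zero]

theorem mon_mul (d d' : Multiplicative L) : mon.{u} (d * d') = mon.{u} d * mon.{u} d' := by
  rw [mon_eq, mon_eq, mon_eq, ← map_mul, MonoidAlgebra.single_mul_single, _root_.mul_one]

theorem mon_pow (d : Multiplicative L) (k : ℕ) : mon.{u} (d ^ k) = mon.{u} d ^ k := by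
  rw [mon_eq, mon_eq, ← map_pow, MonoidAlgebra.single_pow, one_pow]

end Kappa

section Kappa2
variable (S : Scheme.{u}) (Y : Over S)

theorem whiskerLeft_pN (L : Type) [AddCommMonoid L] {Y' : Over S} (h : Y' ⟶ Y) :
    (AMonS S L ◁ h).left ≫ pN S Y L = pN S Y' L := by
  unfold pN
  rw [← Category.assoc, ← Over.comp_left, whiskerLeft_fst]

theorem whiskerLeft_qN (L : Type) [AddCommMonoid L] {Y' : Over S} (h : Y' ⟶ Y) :
    (AMonS S L ◁ h).left ≫ qN S Y L = qN S Y' L ≫ h.left := by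
  unfold qN
  rw [← Over.comp_left, whiskerLeft_snd, Over.comp_left]

theorem whiskerLeft_pN_app (L : Type) [AddCommMonoid L] {Y' : Over S} (h : Y' ⟶ Y)
    (x : Γ((AMon (ULift.{u} ℤ) L).left, ⊤)) :
    (AMonS S L ◁ h).left.appTop.hom ((pN S Y L).appTop.hom x) = (pN S Y' L).appTop.hom x := by
  have h1 : ((AMonS S L ◁ h).left ≫ pN S Y L).appTop.hom x = (pN S Y' L).appTop.hom x := by
    rw [whiskerLeft_pN]
  rw [Scheme.Hom.comp_appTop] at h1
  exact h1

theorem whiskerLeft_qN_app (L : Type) [AddCommMonoid L] {Y' : Over S} (h : Y' ⟶ Y)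
    (c : Γ(Y.left, ⊤)) :
    (AMonS S L ◁ h).left.appTop.hom ((qN S Y L).appTop.hom c) =
      (qN S Y' L).appTop.hom (h.left.appTop.hom c) := by
  have h1 : ((AMonS S L ◁ h).left ≫ qN S Y L).appTop.hom c =
      (qN S Y' L ≫ h.left).appTop.hom c := by
    rw [whiskerLeft_qN]
  rw [Scheme.Hom.comp_appTop, Scheme.Hom.comp_appTop] at h1
  exact h1

variable [IsAffine Y.left] (L : Type) [AddCommMonoid L]

theorem exists_kappa (d : Multiplicative L) :
    ∃ κ : Γ((AMonS S L ⊗ Y).left, ⊤) →+ Γ(Y.left, ⊤),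
      ∀ (x : Γ((AMon (ULift.{u} ℤ) L).left, ⊤)) (y : Γ(Y.left, ⊤)),
        κ ((pN S Y L).appTop.hom x * (qN S Y L).appTop.hom y) =
          (Y.hom ≫ Limits.IsTerminal.from specULiftZIsTerminal S).appTop.hom (ell0.{u} d x) * y := by
  haveI := isAffine_AMon_left.{u} L
  have H := isPushout_appTop_of_isPullback (isPullback_pN_qN S Y L)
  obtain ⟨κ, hκ⟩ := exists_addHom H (IsPushout.id_horiz _) (ell0.{u} d)
    (fun r x => by simpa using ell0_smul.{u} d r x)
  exact ⟨κ, fun x y => by simpa using hκ x y⟩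

/-- the `d`-th coefficient of a function on `A(L)_S ×_S Y` -/
def kappa (d : Multiplicative L) : Γ((AMonS S L ⊗ Y).left, ⊤) →+ Γ(Y.left, ⊤) :=
  Classical.choose (exists_kappa S Y L d)

theorem kappa_spec (d : Multiplicative L) (x : Γ((AMon (ULift.{u} ℤ) L).left, ⊤))
    (y : Γ(Y.left, ⊤)) :
    kappa S Y L d ((pN S Y L).appTop.hom x * (qN S Y L).appTop.hom y) =
      (Y.hom ≫ Limits.IsTerminal.from specULiftZIsTerminal S).appTop.hom (ell0.{u} d x) * y :=
  Classical.choose_spec (exists_kappa S Y L d) x y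

theorem kappa_gen_self (d : Multiplicative L) (c : Γ(Y.left, ⊤)) :
    kappa S Y L d ((pN S Y L).appTop.hom (mon.{u} d) * (qN S Y L).appTop.hom c) = c := by
  rw [kappa_spec, ell0_mon_self, map_one, _root_.one_mul]

theorem kappa_gen_ne (d d' : Multiplicative L) (h : d' ≠ d) (c : Γ(Y.left, ⊤)) :
    kappa S Y L d ((pN S Y L).appTop.hom (mon.{u} d') * (qN S Y L).appTop.hom c) = 0 := by
  rw [kappa_spec, ell0_mon_ne d d' h, map_zero, zero_mul]

theorem kappa_sum_mem (F : Finset (Multiplicative L)) (c : Multiplicative L → Γ(Y.left, ⊤))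
    (d : Multiplicative L) (hd : d ∈ F) :
    kappa S Y L d (∑ d' ∈ F, (pN S Y L).appTop.hom (mon.{u} d') *
      (qN S Y L).appTop.hom (c d')) = c d := by
  rw [map_sum, Finset.sum_eq_single d]
  · exact kappa_gen_self S Y L d (c d)
  · intro d' _ hne
    exact kappa_gen_ne S Y L d d' hne _
  · intro h
    exact absurd hd h

theorem kappa_sum_not_mem (F : Finset (Multiplicative L)) (c : Multiplicative L → Γ(Y.left, ⊤))
    (d : Multiplicative L) (hd : d ∉ F) :
    kappa S Y L d (∑ d' ∈ F, (pN S Y L).appTop.hom (mon.{u} d') *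
      (qN S Y L).appTop.hom (c d')) = 0 := by
  rw [map_sum]
  apply Finset.sum_eq_zero
  intro d' hd'
  apply kappa_gen_ne
  rintro rfl
  exact hd hd'

theorem exists_kappa_expansion (z : Γ((AMonS S L ⊗ Y).left, ⊤)) :
    ∃ F : Finset (Multiplicative L), (∀ d, d ∉ F → kappa S Y L d z = 0) ∧
      z = ∑ d ∈ F, (pN S Y L).appTop.hom (mon.{u} d) *
        (qN S Y L).appTop.hom (kappa S Y L d z) := by
  obtain ⟨F, c, hz⟩ := exists_expansion S Y z
  have hk : ∀ d ∈ F, kappa S Y L d z = c d := fun d hd => by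
    rw [hz]; exact kappa_sum_mem S Y L F c d hd
  refine ⟨F, fun d hd => by rw [hz]; exact kappa_sum_not_mem S Y L F c d hd, ?_⟩
  conv_lhs => rw [hz]
  exact Finset.sum_congr rfl (fun d hd => by rw [hk d hd])

theorem eq_zero_of_kappa (z : Γ((AMonS S L ⊗ Y).left, ⊤)) (h : ∀ d, kappa S Y L d z = 0) :
    z = 0 := by
  obtain ⟨F, -, hz⟩ := exists_kappa_expansion S Y L z
  rw [hz]
  apply Finset.sum_eq_zero
  intro d _
  rw [h, map_zero, mul_zero]

theorem kappa_nat {Y' : Over S} [IsAffine Y'.left] (h : Y' ⟶ Y) (d : Multiplicative L)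
    (z : Γ((AMonS S L ⊗ Y).left, ⊤)) :
    kappa S Y' L d ((AMonS S L ◁ h).left.appTop.hom z) = h.left.appTop.hom (kappa S Y L d z) := by
  have key : (kappa S Y' L d).comp
      ((AMonS S L ◁ h).left.appTop.hom : _ →+* _).toAddMonoidHom =
      ((h.left.appTop.hom : _ →+* _).toAddMonoidHom).comp (kappa S Y L d) := by
    apply addHom_ext_mon S Y
    intro d' c
    show kappa S Y' L d ((AMonS S L ◁ h).left.appTop.hom
        ((pN S Y L).appTop.hom (mon.{u} d') * (qN S Y L).appTop.hom c)) =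
      h.left.appTop.hom (kappa S Y L d
        ((pN S Y L).appTop.hom (mon.{u} d') * (qN S Y L).appTop.hom c))
    rw [map_mul, whiskerLeft_pN_app, whiskerLeft_qN_app]
    by_cases hd : d' = d
    · subst hd
      rw [kappa_gen_self, kappa_gen_self]
    · rw [kappa_gen_ne S Y' L d d' hd, kappa_gen_ne S Y L d d' hd, map_zero]
  exact DFunLike.congr_fun key z

end Kappa2

section Closed
variable {S : Scheme.{u}}

theorem isoSpec_inv_appTop' (Pl : Scheme.{u}) [IsAffine Pl] :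
    Pl.isoSpec.inv.appTop = (Scheme.ΓSpecIso Γ(Pl, ⊤)).inv := by
  have h := congrArg (fun ψ => Scheme.Hom.appTop ψ) (Scheme.isoSpec_inv_toSpecΓ Pl)
  simp only [Scheme.Hom.comp_appTop, Scheme.toSpecΓ_appTop, Scheme.Hom.id_appTop] at h
  rw [← cancel_epi (Scheme.ΓSpecIso Γ(Pl, ⊤)).hom, h, Iso.hom_inv_id]

variable (P : Over S) [IsAffine P.left]

/-- the quotient map as a morphism of `CommRingCat` -/
def qmk (J : Ideal Γ(P.left, ⊤)) : Γ(P.left, ⊤) ⟶ CommRingCat.of (Γ(P.left, ⊤) ⧸ J) :=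
  CommRingCat.ofHom (Ideal.Quotient.mk J)

/-- the closed subscheme `Spec (A/J)` of the affine scheme `P.left` -/
def clIncl (J : Ideal Γ(P.left, ⊤)) : Spec (CommRingCat.of (Γ(P.left, ⊤) ⧸ J)) ⟶ P.left :=
  Spec.map (qmk P J) ≫ P.left.isoSpec.inv

instance isClosedImmersion_clIncl (J : Ideal Γ(P.left, ⊤)) : IsClosedImmersion (clIncl P J) := by
  haveI : IsClosedImmersion (Spec.map (qmk P J)) :=
    IsClosedImmersion.spec_of_surjective _ Ideal.Quotient.mk_surjective
  unfold clIncl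
  infer_instance

theorem clIncl_appTop (J : Ideal Γ(P.left, ⊤)) :
    (clIncl P J).appTop = qmk P J ≫ (Scheme.ΓSpecIso (CommRingCat.of (Γ(P.left, ⊤) ⧸ J))).inv := by
  have h := Scheme.ΓSpecIso_inv_naturality (qmk P J)
  unfold clIncl
  rw [Scheme.Hom.comp_appTop, isoSpec_inv_appTop']
  exact h.symm

theorem clIncl_app (J : Ideal Γ(P.left, ⊤)) (a : Γ(P.left, ⊤)) :
    (clIncl P J).appTop.hom a =
      (Scheme.ΓSpecIso (CommRingCat.of (Γ(P.left, ⊤) ⧸ J))).inv.hom (Ideal.Quotient.mk J a) := by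
  rw [clIncl_appTop]
  rfl

theorem clIncl_app_eq_zero_iff (J : Ideal Γ(P.left, ⊤)) (a : Γ(P.left, ⊤)) :
    (clIncl P J).appTop.hom a = 0 ↔ a ∈ J := by
  rw [clIncl_app, ← Ideal.Quotient.eq_zero_iff_mem]
  constructor
  · intro h
    have e : (Scheme.ΓSpecIso (CommRingCat.of (Γ(P.left, ⊤) ⧸ J))).hom.hom
        ((Scheme.ΓSpecIso (CommRingCat.of (Γ(P.left, ⊤) ⧸ J))).inv.hom
          (Ideal.Quotient.mk J a)) = Ideal.Quotient.mk J a :=
      congrArg (fun ψ => ψ.hom (Ideal.Quotient.mk J a))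
        (Scheme.ΓSpecIso (CommRingCat.of (Γ(P.left, ⊤) ⧸ J))).inv_hom_id
    rw [h, map_zero] at e
    exact e.symm
  · intro h
    rw [h, map_zero]

theorem clIncl_app_surjective (J : Ideal Γ(P.left, ⊤)) :
    Function.Surjective (clIncl P J).appTop.hom := by
  intro y
  obtain ⟨a, ha⟩ := Ideal.Quotient.mk_surjective
    ((Scheme.ΓSpecIso (CommRingCat.of (Γ(P.left, ⊤) ⧸ J))).hom.hom y)
  refine ⟨a, ?_⟩
  rw [clIncl_app, ha]
  exact congrArg (fun ψ => ψ.hom y)
    (Scheme.ΓSpecIso (CommRingCat.of (Γ(P.left, ⊤) ⧸ J))).hom_inv_id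

theorem exists_fac_left (J : Ideal Γ(P.left, ⊤)) {Y : Scheme.{u}} (z : Y ⟶ P.left)
    (hz : ∀ a ∈ J, z.appTop.hom a = 0) :
    ∃ w : Y ⟶ Spec (CommRingCat.of (Γ(P.left, ⊤) ⧸ J)), w ≫ clIncl P J = z := by
  obtain ⟨w, hw⟩ := exists_hom_appTop_eq (Y := Y)
    (X' := Spec (CommRingCat.of (Γ(P.left, ⊤) ⧸ J)))
    ((Scheme.ΓSpecIso (CommRingCat.of (Γ(P.left, ⊤) ⧸ J))).hom ≫
      CommRingCat.ofHom (Ideal.Quotient.lift J z.appTop.hom hz))
  have e : qmk P J ≫ CommRingCat.ofHom (Ideal.Quotient.lift J z.appTop.hom hz) = z.appTop := by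
    apply CommRingCat.hom_ext
    apply RingHom.ext
    intro a
    exact Ideal.Quotient.lift_mk J z.appTop.hom hz
  refine ⟨w, ext_of_isAffine ?_⟩
  rw [Scheme.Hom.comp_appTop, clIncl_appTop, hw, Category.assoc, Iso.inv_hom_id_assoc, e]

/-- `Spec (A/J)` as a scheme over `S` -/
def Pk (J : Ideal Γ(P.left, ⊤)) : Over S := Over.mk (clIncl P J ≫ P.hom)

/-- the closed immersion `Spec (A/J) ⟶ P` over `S` -/
def jk (J : Ideal Γ(P.left, ⊤)) : Pk P J ⟶ P := Over.homMk (clIncl P J) rfl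

theorem jk_left (J : Ideal Γ(P.left, ⊤)) : (jk P J).left = clIncl P J := rfl

instance isAffine_Pk (J : Ideal Γ(P.left, ⊤)) : IsAffine (Pk P J).left := by
  show IsAffine (Spec (CommRingCat.of (Γ(P.left, ⊤) ⧸ J)))
  infer_instance

instance isClosedImmersion_jk (J : Ideal Γ(P.left, ⊤)) : IsClosedImmersion (jk P J).left := by
  rw [jk_left]
  exact isClosedImmersion_clIncl P J

instance mono_jk (J : Ideal Γ(P.left, ⊤)) : Mono (jk P J) := by
  haveI : Mono (jk P J).left := inferInstance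
  exact Over.mono_of_mono_left _

theorem jk_app_eq_zero_iff (J : Ideal Γ(P.left, ⊤)) (a : Γ(P.left, ⊤)) :
    (jk P J).left.appTop.hom a = 0 ↔ a ∈ J := clIncl_app_eq_zero_iff P J a

theorem jk_app_surjective (J : Ideal Γ(P.left, ⊤)) :
    Function.Surjective (jk P J).left.appTop.hom := clIncl_app_surjective P J

theorem exists_fac (J : Ideal Γ(P.left, ⊤)) {Y : Over S} (z : Y ⟶ P)
    (hz : ∀ a ∈ J, z.left.appTop.hom a = 0) : ∃ w : Y ⟶ Pk P J, w ≫ jk P J = z := by
  obtain ⟨w, hw⟩ := exists_fac_left P J z.left hz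
  refine ⟨Over.homMk w ?_, ?_⟩
  · show w ≫ clIncl P J ≫ P.hom = Y.hom
    rw [← Category.assoc, hw, Over.w z]
  · apply Over.OverMorphism.ext
    exact hw

/-- the transition `Spec (A/J) ⟶ Spec (A/J')` for `J' ≤ J` -/
def trk {J J' : Ideal Γ(P.left, ⊤)} (h : J' ≤ J) : Pk P J ⟶ Pk P J' :=
  Over.homMk (Spec.map (CommRingCat.ofHom (Ideal.Quotient.factor h))) (by
    show Spec.map (CommRingCat.ofHom (Ideal.Quotient.factor h)) ≫ clIncl P J' ≫ P.hom =
      clIncl P J ≫ P.hom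
    rw [← Category.assoc]
    congr 1
    unfold clIncl qmk
    rw [← Category.assoc, ← Spec.map_comp, ← CommRingCat.ofHom_comp,
      Ideal.Quotient.factor_comp_mk])

theorem trk_left {J J' : Ideal Γ(P.left, ⊤)} (h : J' ≤ J) :
    (trk P h).left = Spec.map (CommRingCat.ofHom (Ideal.Quotient.factor h)) := rfl

theorem trk_jk {J J' : Ideal Γ(P.left, ⊤)} (h : J' ≤ J) : trk P h ≫ jk P J' = jk P J := by
  apply Over.OverMorphism.ext
  show Spec.map (CommRingCat.ofHom (Ideal.Quotient.factor h)) ≫ clIncl P J' = clIncl P J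
  unfold clIncl qmk
  rw [← Category.assoc, ← Spec.map_comp, ← CommRingCat.ofHom_comp,
    Ideal.Quotient.factor_comp_mk]

theorem trk_props {J J' : Ideal Γ(P.left, ⊤)} (h : J' ≤ J)
    (hrad : ∀ x ∈ J, ∃ n : ℕ, x ^ n ∈ J') :
    IsClosedImmersion (trk P h).left ∧ Surjective (trk P h).left := by
  obtain ⟨q, hq0⟩ : ∃ q : CommRingCat.of (Γ(P.left, ⊤) ⧸ J') ⟶ CommRingCat.of (Γ(P.left, ⊤) ⧸ J),
      q = CommRingCat.ofHom (Ideal.Quotient.factor h) := ⟨_, rfl⟩
  have hq : Function.Surjective q.hom := by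
    rw [hq0]; exact Ideal.Quotient.factor_surjective h
  have hl : (trk P h).left = Spec.map q := by rw [hq0]; rfl
  rw [hl]
  refine ⟨IsClosedImmersion.spec_of_surjective q hq, ⟨fun x => ?_⟩⟩
  have hr : Set.range (Spec.map q) = Set.univ := by
    have := _root_.range_comap_of_surjective _ q.hom hq
    change Set.range (PrimeSpectrum.comap q.hom) = _
    rw [this]
    ext y
    rw [PrimeSpectrum.mem_zeroLocus]
    refine ⟨fun _ => Set.mem_univ _, fun _ => ?_⟩
    intro z hz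
    obtain ⟨a, rfl⟩ := Ideal.Quotient.mk_surjective z
    have ha : a ∈ J := by
      have hz' : q.hom (Ideal.Quotient.mk J' a) = 0 := hz
      rw [hq0] at hz'
      have hz'' : Ideal.Quotient.factor h (Ideal.Quotient.mk J' a) = 0 := hz'
      rwa [Ideal.Quotient.factor_mk, Ideal.Quotient.eq_zero_iff_mem] at hz''
    obtain ⟨n, hn⟩ := hrad a ha
    have h0 : (Ideal.Quotient.mk J' a) ^ n = 0 := by
      rw [← map_pow, Ideal.Quotient.eq_zero_iff_mem]
      exact hn
    exact y.isPrime.mem_of_pow_mem n (h0 ▸ y.asIdeal.zero_mem)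
  have hx : (x : ↥(Spec (CommRingCat.of (Γ(P.left, ⊤) ⧸ J')))) ∈ Set.range (Spec.map q) := by
    rw [hr]; exact Set.mem_univ _
  exact hx

end Closed

section Alg

/-- algebraization of a compatible system of ring maps -/
theorem exists_ringHom_of_compatible {A B : Type*} [CommRing A] [CommRing B] {R : ℕ → Type*}
    [∀ k, CommRing (R k)] (π : ∀ k, A →+* R k) (hsep : ∀ a : A, (∀ k, π k a = 0) → a = 0)
    (ϑ : ∀ k, B →+* R k) (h : ∀ b, ∃ a, ∀ k, ϑ k b = π k a) :
    ∃ Θ : B →+* A, ∀ k b, π k (Θ b) = ϑ k b := by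
  choose Θ hΘ using h
  have huniq : ∀ a a' : A, (∀ k, π k a = π k a') → a = a' := by
    intro a a' haa
    have : a - a' = 0 := hsep _ (fun k => by rw [map_sub, haa k, sub_self])
    exact sub_eq_zero.1 this
  refine ⟨{ toFun := Θ, map_one' := ?_, map_mul' := ?_, map_zero' := ?_, map_add' := ?_ },
    fun k b => (hΘ b k).symm⟩
  · exact huniq _ _ (fun k => by rw [← hΘ, map_one, map_one])
  · intro x y
    exact huniq _ _ (fun k => by rw [← hΘ, map_mul, map_mul, hΘ x k, hΘ y k])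
  · exact huniq _ _ (fun k => by rw [← hΘ, map_zero, map_zero])
  · intro x y
    exact huniq _ _ (fun k => by rw [← hΘ, map_add, map_add, hΘ x k, hΘ y k])

end Alg

end Groth.Agent.Lib.Helper29.MagnetEtRing
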