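import Mathlib
import Groth.Prelude.Def_Magnet4
import Groth.Agent.Lib.Helper29.MagnetEtRing
import Groth.Agent.Lib.Helper29.MagnetPt
import Groth.Agent.Lib.Helper29.MagnetBB
import Groth.Agent.Lib.Helper29.MagnetDirected
import Groth.Agent.Lib.Helper29.MagnetCoordMonAlg

/-!
# The `ℓ`-adic filtration on `Γ(A(N)_S ×_S T)` (helper29, for S18302)
-/
set_option autoImplicit false
set_option maxHeartbeats 1600000
set_option linter.style.haveILetI false
universe u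
open CategoryTheory CategoryTheory.Limits MonoidalCategory CartesianMonoidalCategory MonObj
  AlgebraicGeometry Opposite

noncomputable section

namespace Groth.Agent.Lib.Helper29.MagnetEtIdeal

open Magnet MagnetDom MagnetHomog MagnetExpand MagnetEtRing MagnetFixAlg MagnetFix MagnetComapIso
  MagnetBBPts MagnetPt

instance isAffine_tensor_inst {S : Scheme.{u}} (L : Type) [AddCommMonoid L] (T : Over S)
    [IsAffine T.left] : IsAffine (AMonS S L ⊗ T).left :=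
  MagnetDirected.isAffine_tensor S T L

section Lv
variable {M : Type} [AddCommGroup M] (N : AddSubmonoid M) (ℓ : M →+ ℤ) (hℓ : ∀ n ∈ N, 0 ≤ ℓ n)

/-- the level of a monomial -/
def lv (d : Multiplicative ↥N) : ℤ := ℓ ((Multiplicative.toAdd d : ↥N) : M)

theorem lv_mul (d d' : Multiplicative ↥N) : lv N ℓ (d * d') = lv N ℓ d + lv N ℓ d' := by
  unfold lv
  rw [toAdd_mul, AddSubmonoid.coe_add, map_add]

theorem lv_pow (d : Multiplicative ↥N) (k : ℕ) : lv N ℓ (d ^ k) = k * lv N ℓ d := by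
  unfold lv
  rw [toAdd_pow]
  show ℓ (N.subtype (k • Multiplicative.toAdd d)) = k * ℓ (N.subtype (Multiplicative.toAdd d))
  rw [map_nsmul, map_nsmul, nsmul_eq_mul]

include hℓ in
theorem lv_nonneg (d : Multiplicative ↥N) : 0 ≤ lv N ℓ d := hℓ _ (Multiplicative.toAdd d).2

end Lv

section Ideal
variable (S : Scheme.{u}) {M : Type} [AddCommGroup M] (N : AddSubmonoid M) (ℓ : M →+ ℤ)
  (hℓ : ∀ n ∈ N, 0 ≤ ℓ n) (T : Over S) [IsAffine T.left]

include hℓ in
theorem kappa_mul_eq_zero (k : ℕ) (a x : Γ((AMonS S ↥N ⊗ T).left, ⊤))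
    (hx : ∀ d : Multiplicative ↥N, lv N ℓ d < (k : ℤ) → kappa S T ↥N d x = 0)
    (d : Multiplicative ↥N) (hd : lv N ℓ d < (k : ℤ)) : kappa S T ↥N d (a * x) = 0 := by
  refine mon_induction S T (P := fun a => kappa S T ↥N d (a * x) = 0) ?_ ?_ ?_ a
  · show kappa S T ↥N d (0 * x) = 0
    rw [zero_mul, map_zero]
  · intro z w hz hw
    have hz' : kappa S T ↥N d (z * x) = 0 := hz
    have hw' : kappa S T ↥N d (w * x) = 0 := hw
    show kappa S T ↥N d ((z + w) * x) = 0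
    rw [add_mul, map_add, hz', hw', add_zero]
  · intro n c
    show kappa S T ↥N d (((pN S T ↥N).appTop.hom (mon.{u} n) * (qN S T ↥N).appTop.hom c) * x) = 0
    obtain ⟨F, -, hxe⟩ := exists_kappa_expansion S T ↥N x
    have e : ((pN S T ↥N).appTop.hom (mon.{u} n) * (qN S T ↥N).appTop.hom c) * x =
        ∑ d' ∈ F, (pN S T ↥N).appTop.hom (mon.{u} (n * d')) *
          (qN S T ↥N).appTop.hom (c * kappa S T ↥N d' x) := by
      conv_lhs => rw [hxe]
      rw [Finset.mul_sum]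
      apply Finset.sum_congr rfl
      intro d' _
      rw [mon_mul, map_mul, map_mul]
      ring
    rw [e, map_sum]
    apply Finset.sum_eq_zero
    intro d' _
    by_cases hnd : n * d' = d
    · have hlt : lv N ℓ d' < (k : ℤ) := by
        have h1 := lv_mul N ℓ n d'
        rw [hnd] at h1
        have h2 := lv_nonneg N ℓ hℓ n
        omega
      rw [hx d' hlt, mul_zero, map_zero, mul_zero, map_zero]
    · exact kappa_gen_ne S T ↥N d (n * d') hnd _

/-- the ideal of functions all of whose monomials have level `≥ k` -/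
def Jd (k : ℕ) : Ideal Γ((AMonS S ↥N ⊗ T).left, ⊤) where
  carrier := {x | ∀ d : Multiplicative ↥N, lv N ℓ d < (k : ℤ) → kappa S T ↥N d x = 0}
  add_mem' := by
    intro x y hx hy d hd
    rw [map_add, hx d hd, hy d hd, add_zero]
  zero_mem' := fun d _ => map_zero _
  smul_mem' := by
    intro a x hx d hd
    rw [smul_eq_mul]
    exact kappa_mul_eq_zero S N ℓ hℓ T k a x hx d hd

theorem mem_Jd_iff (k : ℕ) (x : Γ((AMonS S ↥N ⊗ T).left, ⊤)) :
    x ∈ Jd S N ℓ hℓ T k ↔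
      ∀ d : Multiplicative ↥N, lv N ℓ d < (k : ℤ) → kappa S T ↥N d x = 0 := Iff.rfl

theorem gen_mem_Jd (k : ℕ) (d : Multiplicative ↥N) (c : Γ(T.left, ⊤))
    (h : (k : ℤ) ≤ lv N ℓ d) :
    (pN S T ↥N).appTop.hom (mon.{u} d) * (qN S T ↥N).appTop.hom c ∈ Jd S N ℓ hℓ T k := by
  intro d' hd'
  apply kappa_gen_ne
  rintro rfl
  omega

theorem Jd_anti {k k' : ℕ} (h : k ≤ k') : Jd S N ℓ hℓ T k' ≤ Jd S N ℓ hℓ T k := by
  intro x hx d hd
  exact hx d (lt_of_lt_of_le hd (by exact_mod_cast h))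

theorem Jd_sep (x : Γ((AMonS S ↥N ⊗ T).left, ⊤)) (h : ∀ k, x ∈ Jd S N ℓ hℓ T k) : x = 0 := by
  apply eq_zero_of_kappa S T ↥N
  intro d
  refine h ((lv N ℓ d).toNat + 1) d ?_
  have := Int.self_le_toNat (lv N ℓ d)
  push_cast
  omega

theorem exists_expansion_Jd (k : ℕ) (x : Γ((AMonS S ↥N ⊗ T).left, ⊤))
    (hx : x ∈ Jd S N ℓ hℓ T k) :
    ∃ (F : Finset (Multiplicative ↥N)) (c : Multiplicative ↥N → Γ(T.left, ⊤)),
      (∀ d ∈ F, (k : ℤ) ≤ lv N ℓ d) ∧
      x = ∑ d ∈ F, (pN S T ↥N).appTop.hom (mon.{u} d) * (qN S T ↥N).appTop.hom (c d) := by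
  classical
  obtain ⟨F, -, hxe⟩ := exists_kappa_expansion S T ↥N x
  refine ⟨F.filter (fun d => (k : ℤ) ≤ lv N ℓ d), fun d => kappa S T ↥N d x,
    fun d hd => (Finset.mem_filter.1 hd).2, ?_⟩
  rw [Finset.sum_filter]
  conv_lhs => rw [hxe]
  apply Finset.sum_congr rfl
  intro d _
  split_ifs with h
  · rfl
  · rw [hx d (not_le.1 h), map_zero, mul_zero]

theorem Jd_rad (k : ℕ) (x : Γ((AMonS S ↥N ⊗ T).left, ⊤)) (hx : x ∈ Jd S N ℓ hℓ T 1) :
    ∃ n : ℕ, x ^ n ∈ Jd S N ℓ hℓ T k := by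
  obtain ⟨F, c, hF, hxe⟩ := exists_expansion_Jd S N ℓ hℓ T 1 x hx
  have hmem : x ∈ (Jd S N ℓ hℓ T k).radical := by
    rw [hxe]
    apply Ideal.sum_mem
    intro d hd
    rw [Ideal.mem_radical_iff]
    refine ⟨k, ?_⟩
    rw [mul_pow, ← map_pow, ← map_pow, ← mon_pow]
    apply gen_mem_Jd
    rw [lv_pow]
    have h1 : (1 : ℤ) ≤ lv N ℓ d := by exact_mod_cast hF d hd
    have h2 : (k : ℤ) * 1 ≤ (k : ℤ) * lv N ℓ d :=
      mul_le_mul_of_nonneg_left h1 (Int.natCast_nonneg k)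
    linarith
  exact hmem

end Ideal

section Act
variable (S : Scheme.{u}) (M : Type) [AddCommGroup M] (N : AddSubmonoid M) (T : Over S)

theorem actP_fst :
    ((subAct S M N).prod (MonAct.trivial (AMonS S M) T)).act ≫ fst (AMonS S ↥N) T =
      (fst (AMonS S M) (AMonS S ↥N ⊗ T) ≫ AMonS.map S N.subtype) *
        (snd (AMonS S M) (AMonS S ↥N ⊗ T) ≫ fst (AMonS S ↥N) T) := by
  have h := MonAct.lift_prod_act (subAct S M N) (MonAct.trivial (AMonS S M) T)
    (fst (AMonS S M) (AMonS S ↥N ⊗ T))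
    (snd (AMonS S M) (AMonS S ↥N ⊗ T) ≫ fst (AMonS S ↥N) T)
    (snd (AMonS S M) (AMonS S ↥N ⊗ T) ≫ snd (AMonS S ↥N) T)
  have e : lift (fst (AMonS S M) (AMonS S ↥N ⊗ T))
      (lift (snd (AMonS S M) (AMonS S ↥N ⊗ T) ≫ fst (AMonS S ↥N) T)
        (snd (AMonS S M) (AMonS S ↥N ⊗ T) ≫ snd (AMonS S ↥N) T)) = 𝟙 _ := by
    rw [← comp_lift, lift_fst_snd, Category.comp_id, lift_fst_snd]
  rw [e, Category.id_comp] at h
  rw [h, lift_fst, MagnetBB.lift_subAct_act]

theorem actP_snd :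
    ((subAct S M N).prod (MonAct.trivial (AMonS S M) T)).act ≫ snd (AMonS S ↥N) T =
      snd (AMonS S M) (AMonS S ↥N ⊗ T) ≫ snd (AMonS S ↥N) T := by
  have h := MonAct.lift_prod_act (subAct S M N) (MonAct.trivial (AMonS S M) T)
    (fst (AMonS S M) (AMonS S ↥N ⊗ T))
    (snd (AMonS S M) (AMonS S ↥N ⊗ T) ≫ fst (AMonS S ↥N) T)
    (snd (AMonS S M) (AMonS S ↥N ⊗ T) ≫ snd (AMonS S ↥N) T)
  have e : lift (fst (AMonS S M) (AMonS S ↥N ⊗ T))
      (lift (snd (AMonS S M) (AMonS S ↥N ⊗ T) ≫ fst (AMonS S ↥N) T)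
        (snd (AMonS S M) (AMonS S ↥N ⊗ T) ≫ snd (AMonS S ↥N) T)) = 𝟙 _ := by
    rw [← comp_lift, lift_fst_snd, Category.comp_id, lift_fst_snd]
  rw [e, Category.id_comp] at h
  rw [h, lift_snd, MonAct.lift_trivial_act]

theorem pN_mon_eq_chi {L : Type} [AddCommMonoid L] (n : L) :
    (pN S T L).appTop.hom (mon.{u} (Multiplicative.ofAdd n)) =
      chi (fst (AMonS S L) T) (eN n) := rfl

theorem act_app_pN' (n : ↥N) :
    ((subAct S M N).prod (MonAct.trivial (AMonS S M) T)).act.left.appTop.hom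
        ((pN S T ↥N).appTop.hom (mon.{u} (Multiplicative.ofAdd n))) =
      (pN S (AMonS S ↥N ⊗ T) M).appTop.hom
          (mon.{u} (Multiplicative.ofAdd ((n : ↥N) : M))) *
        (qN S (AMonS S ↥N ⊗ T) M).appTop.hom
          ((pN S T ↥N).appTop.hom (mon.{u} (Multiplicative.ofAdd n))) := by
  have h0 : chi (((subAct S M N).prod (MonAct.trivial (AMonS S M) T)).act ≫
        fst (AMonS S ↥N) T) (eN n) =
      chi (fst (AMonS S M) (AMonS S ↥N ⊗ T)) (eN ((n : ↥N) : M)) *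
        (snd (AMonS S M) (AMonS S ↥N ⊗ T)).left.appTop.hom
          (chi (fst (AMonS S ↥N) T) (eN n)) := by
    rw [actP_fst, MagnetPt.chi_mul, chi_map, chi_comp, RingHom.comp_apply, RingHom.comp_apply,
      rh_eN]
    rfl
  rw [chi_comp, RingHom.comp_apply] at h0
  exact h0

theorem act_app_pN (d : Multiplicative ↥N) :
    ((subAct S M N).prod (MonAct.trivial (AMonS S M) T)).act.left.appTop.hom
        ((pN S T ↥N).appTop.hom (mon.{u} d)) =
      (pN S (AMonS S ↥N ⊗ T) M).appTop.hom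
          (mon.{u} (AddMonoidHom.toMultiplicative N.subtype d)) *
        (qN S (AMonS S ↥N ⊗ T) M).appTop.hom ((pN S T ↥N).appTop.hom (mon.{u} d)) :=
  act_app_pN' S M N T (Multiplicative.toAdd d)

theorem act_app_qN (c : Γ(T.left, ⊤)) :
    ((subAct S M N).prod (MonAct.trivial (AMonS S M) T)).act.left.appTop.hom
        ((qN S T ↥N).appTop.hom c) =
      (qN S (AMonS S ↥N ⊗ T) M).appTop.hom ((qN S T ↥N).appTop.hom c) := by
  have h : (((subAct S M N).prod (MonAct.trivial (AMonS S M) T)).act ≫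
        snd (AMonS S ↥N) T).left.appTop.hom c =
      (snd (AMonS S M) (AMonS S ↥N ⊗ T) ≫ snd (AMonS S ↥N) T).left.appTop.hom c := by
    rw [actP_snd]
  rw [Over.comp_left, Over.comp_left, Scheme.Hom.comp_appTop, Scheme.Hom.comp_appTop] at h
  exact h

theorem act_app_gen (d : Multiplicative ↥N) (c : Γ(T.left, ⊤)) :
    ((subAct S M N).prod (MonAct.trivial (AMonS S M) T)).act.left.appTop.hom
        ((pN S T ↥N).appTop.hom (mon.{u} d) * (qN S T ↥N).appTop.hom c) =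
      (pN S (AMonS S ↥N ⊗ T) M).appTop.hom
          (mon.{u} (AddMonoidHom.toMultiplicative N.subtype d)) *
        (qN S (AMonS S ↥N ⊗ T) M).appTop.hom
          ((pN S T ↥N).appTop.hom (mon.{u} d) * (qN S T ↥N).appTop.hom c) := by
  rw [map_mul, act_app_pN, act_app_qN, map_mul, _root_.mul_assoc]

variable [IsAffine T.left]

theorem kappa_act (d : Multiplicative ↥N) (a : Γ((AMonS S ↥N ⊗ T).left, ⊤)) :
    kappa S (AMonS S ↥N ⊗ T) M (AddMonoidHom.toMultiplicative N.subtype d)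
        (((subAct S M N).prod (MonAct.trivial (AMonS S M) T)).act.left.appTop.hom a) =
      (pN S T ↥N).appTop.hom (mon.{u} d) * (qN S T ↥N).appTop.hom (kappa S T ↥N d a) := by
  have key : (kappa S (AMonS S ↥N ⊗ T) M (AddMonoidHom.toMultiplicative N.subtype d)).comp
      (((subAct S M N).prod (MonAct.trivial (AMonS S M) T)).act.left.appTop.hom :
        _ →+* _).toAddMonoidHom =
      (AddMonoidHom.mulLeft ((pN S T ↥N).appTop.hom (mon.{u} d))).comp
        (((qN S T ↥N).appTop.hom : _ →+* _).toAddMonoidHom.comp (kappa S T ↥N d)) := by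
    apply addHom_ext_mon S T
    intro n c
    show kappa S (AMonS S ↥N ⊗ T) M (AddMonoidHom.toMultiplicative N.subtype d)
        (((subAct S M N).prod (MonAct.trivial (AMonS S M) T)).act.left.appTop.hom
          ((pN S T ↥N).appTop.hom (mon.{u} n) * (qN S T ↥N).appTop.hom c)) =
      (pN S T ↥N).appTop.hom (mon.{u} d) * (qN S T ↥N).appTop.hom
        (kappa S T ↥N d ((pN S T ↥N).appTop.hom (mon.{u} n) * (qN S T ↥N).appTop.hom c))
    rw [act_app_gen]
    by_cases hnd : n = d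
    · subst hnd
      rw [kappa_gen_self, kappa_gen_self]
    · have hne : AddMonoidHom.toMultiplicative N.subtype n ≠
          AddMonoidHom.toMultiplicative N.subtype d :=
        fun h => hnd (MagnetCoordMonAlg.toMul_injective N h)
      rw [kappa_gen_ne S (AMonS S ↥N ⊗ T) M _ _ hne, kappa_gen_ne S T ↥N d n hnd, map_zero,
        mul_zero]
  exact DFunLike.congr_fun key a

variable (ℓ : M →+ ℤ) (hℓ : ∀ n ∈ N, 0 ≤ ℓ n)

theorem act_kills (k : ℕ) {Y : Over S} (j : Y ⟶ AMonS S ↥N ⊗ T)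
    (hj : ∀ a ∈ Jd S N ℓ hℓ T k, j.left.appTop.hom a = 0) :
    ∀ a ∈ Jd S N ℓ hℓ T k, ((AMonS S M ◁ j) ≫
      ((subAct S M N).prod (MonAct.trivial (AMonS S M) T)).act).left.appTop.hom a = 0 := by
  intro a ha
  obtain ⟨F, c, hF, hae⟩ := exists_expansion_Jd S N ℓ hℓ T k a ha
  rw [hae, map_sum]
  apply Finset.sum_eq_zero
  intro d hd
  have hgen : (pN S T ↥N).appTop.hom (mon.{u} d) * (qN S T ↥N).appTop.hom (c d) ∈
      Jd S N ℓ hℓ T k := gen_mem_Jd S N ℓ hℓ T k d (c d) (hF d hd)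
  rw [Over.comp_left, Scheme.Hom.comp_appTop]
  show (AMonS S M ◁ j).left.appTop.hom
    (((subAct S M N).prod (MonAct.trivial (AMonS S M) T)).act.left.appTop.hom
      ((pN S T ↥N).appTop.hom (mon.{u} d) * (qN S T ↥N).appTop.hom (c d))) = 0
  rw [act_app_gen, map_mul, whiskerLeft_pN_app, whiskerLeft_qN_app, hj _ hgen, map_zero, mul_zero]

end Act

section Face
variable (S : Scheme.{u}) {M : Type} [AddCommGroup M] (N : AddSubmonoid M) (ℓ : M →+ ℤ)
  (hℓ : ∀ n ∈ N, 0 ≤ ℓ n) (T : Over S) [IsAffine T.left] {Q : AddSubmonoid M} (hQ : IsFace N Q)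
  (hℓQ : ∀ n ∈ N, ℓ n = 0 ↔ n ∈ Q)

include hℓQ in
theorem not_mem_of_lv_pos (d : Multiplicative ↥N) (h : (1 : ℤ) ≤ lv N ℓ d) :
    ((Multiplicative.toAdd d : ↥N) : M) ∉ Q := by
  intro hq
  have h0 : lv N ℓ d = 0 := (hℓQ _ (Multiplicative.toAdd d).2).2 hq
  omega

include hℓ hℓQ in
theorem lv_pos_of_not_mem (d : Multiplicative ↥N)
    (h : ((Multiplicative.toAdd d : ↥N) : M) ∉ Q) : (1 : ℤ) ≤ lv N ℓ d := by
  have h0 := lv_nonneg N ℓ hℓ d
  have h1 : lv N ℓ d ≠ 0 := fun e => h ((hℓQ _ (Multiplicative.toAdd d).2).1 e)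
  omega

theorem face_app_pN_of_not_mem (n : ↥N) (h : (n : M) ∉ Q) :
    (AMonS.faceMap S hQ ▷ T).left.appTop.hom
      ((pN S T ↥N).appTop.hom (mon.{u} (Multiplicative.ofAdd n))) = 0 := by
  have h0 : chi ((AMonS.faceMap S hQ ▷ T) ≫ fst (AMonS S ↥N) T) (eN n) = 0 := by
    rw [whiskerRight_fst, chi_faceMap, RingHom.comp_apply]
    have e3 : (faceAlgHom (ULift.{u} ℤ) hQ).toRingHom (eN n) = 0 :=
      faceAlgHom_single_of_not_mem (ULift.{u} ℤ) hQ n h 1
    rw [e3, map_zero]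
  rw [chi_comp, RingHom.comp_apply] at h0
  exact h0

include hℓQ in
theorem face_kills (a : Γ((AMonS S ↥N ⊗ T).left, ⊤)) (ha : a ∈ Jd S N ℓ hℓ T 1) :
    (AMonS.faceMap S hQ ▷ T).left.appTop.hom a = 0 := by
  obtain ⟨F, c, hF, hae⟩ := exists_expansion_Jd S N ℓ hℓ T 1 a ha
  rw [hae, map_sum]
  apply Finset.sum_eq_zero
  intro d hd
  have h1 : (1 : ℤ) ≤ lv N ℓ d := by exact_mod_cast hF d hd
  have hnq := not_mem_of_lv_pos N ℓ hℓQ d h1
  rw [map_mul]
  have e := face_app_pN_of_not_mem S N T hQ (Multiplicative.toAdd d) hnq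
  have e' : (AMonS.faceMap S hQ ▷ T).left.appTop.hom ((pN S T ↥N).appTop.hom (mon.{u} d)) = 0 := e
  rw [e', zero_mul]

theorem retr_app_pN_of_mem (n : ↥N) (h : (n : M) ∈ Q) :
    ((AMonS.map S (AddSubmonoid.inclusion hQ.le) ▷ T) ≫
        (AMonS.faceMap S hQ ▷ T)).left.appTop.hom
      ((pN S T ↥N).appTop.hom (mon.{u} (Multiplicative.ofAdd n))) =
      (pN S T ↥N).appTop.hom (mon.{u} (Multiplicative.ofAdd n)) := by
  have h0 : chi (((AMonS.map S (AddSubmonoid.inclusion hQ.le) ▷ T) ≫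
        (AMonS.faceMap S hQ ▷ T)) ≫ fst (AMonS S ↥N) T) (eN n) =
      chi (fst (AMonS S ↥N) T) (eN n) := by
    rw [Category.assoc, whiskerRight_fst, ← Category.assoc, whiskerRight_fst, Category.assoc,
      ← Category.assoc, chi_faceMap, RingHom.comp_apply]
    have e1 : (faceAlgHom (ULift.{u} ℤ) hQ).toRingHom (eN n) = eN (⟨(n : M), h⟩ : ↥Q) :=
      faceAlgHom_single_of_mem (ULift.{u} ℤ) hQ n h 1
    rw [e1, chi_map, RingHom.comp_apply, rh_eN]
    rfl
  rw [chi_comp, RingHom.comp_apply] at h0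
  exact h0

theorem retr_app_pN_of_not_mem (n : ↥N) (h : (n : M) ∉ Q) :
    ((AMonS.map S (AddSubmonoid.inclusion hQ.le) ▷ T) ≫
        (AMonS.faceMap S hQ ▷ T)).left.appTop.hom
      ((pN S T ↥N).appTop.hom (mon.{u} (Multiplicative.ofAdd n))) = 0 := by
  rw [Over.comp_left, Scheme.Hom.comp_appTop]
  show (AMonS.map S (AddSubmonoid.inclusion hQ.le) ▷ T).left.appTop.hom
    ((AMonS.faceMap S hQ ▷ T).left.appTop.hom
      ((pN S T ↥N).appTop.hom (mon.{u} (Multiplicative.ofAdd n)))) = 0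
  rw [face_app_pN_of_not_mem S N T hQ n h, map_zero]

theorem retr_app_qN (c : Γ(T.left, ⊤)) :
    ((AMonS.map S (AddSubmonoid.inclusion hQ.le) ▷ T) ≫
        (AMonS.faceMap S hQ ▷ T)).left.appTop.hom ((qN S T ↥N).appTop.hom c) =
      (qN S T ↥N).appTop.hom c := by
  have h : (((AMonS.map S (AddSubmonoid.inclusion hQ.le) ▷ T) ≫
        (AMonS.faceMap S hQ ▷ T)) ≫ snd (AMonS S ↥N) T).left.appTop.hom c =
      (snd (AMonS S ↥N) T).left.appTop.hom c := by
    rw [Category.assoc, whiskerRight_snd, whiskerRight_snd]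
  rw [Over.comp_left, Scheme.Hom.comp_appTop] at h
  exact h

include hℓQ in
theorem retr_face :
    jk (AMonS S ↥N ⊗ T) (Jd S N ℓ hℓ T 1) ≫
        (AMonS.map S (AddSubmonoid.inclusion hQ.le) ▷ T) ≫ (AMonS.faceMap S hQ ▷ T) =
      jk (AMonS S ↥N ⊗ T) (Jd S N ℓ hℓ T 1) := by
  apply Over.OverMorphism.ext
  apply ext_of_isAffine
  apply CommRingCat.hom_ext
  apply RingHom.ext
  intro a
  rw [Over.comp_left, Scheme.Hom.comp_appTop]
  show (jk (AMonS S ↥N ⊗ T) (Jd S N ℓ hℓ T 1)).left.appTop.hom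
      (((AMonS.map S (AddSubmonoid.inclusion hQ.le) ▷ T) ≫
        (AMonS.faceMap S hQ ▷ T)).left.appTop.hom a) =
    (jk (AMonS S ↥N ⊗ T) (Jd S N ℓ hℓ T 1)).left.appTop.hom a
  refine mon_induction S T (P := fun a =>
    (jk (AMonS S ↥N ⊗ T) (Jd S N ℓ hℓ T 1)).left.appTop.hom
      (((AMonS.map S (AddSubmonoid.inclusion hQ.le) ▷ T) ≫
        (AMonS.faceMap S hQ ▷ T)).left.appTop.hom a) =
    (jk (AMonS S ↥N ⊗ T) (Jd S N ℓ hℓ T 1)).left.appTop.hom a) ?_ ?_ ?_ a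
  · show (jk (AMonS S ↥N ⊗ T) (Jd S N ℓ hℓ T 1)).left.appTop.hom
      (((AMonS.map S (AddSubmonoid.inclusion hQ.le) ▷ T) ≫
        (AMonS.faceMap S hQ ▷ T)).left.appTop.hom 0) =
      (jk (AMonS S ↥N ⊗ T) (Jd S N ℓ hℓ T 1)).left.appTop.hom 0
    rw [map_zero]
  · intro z w hz hw
    have hz' : (jk (AMonS S ↥N ⊗ T) (Jd S N ℓ hℓ T 1)).left.appTop.hom
      (((AMonS.map S (AddSubmonoid.inclusion hQ.le) ▷ T) ≫
        (AMonS.faceMap S hQ ▷ T)).left.appTop.hom z) =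
      (jk (AMonS S ↥N ⊗ T) (Jd S N ℓ hℓ T 1)).left.appTop.hom z := hz
    have hw' : (jk (AMonS S ↥N ⊗ T) (Jd S N ℓ hℓ T 1)).left.appTop.hom
      (((AMonS.map S (AddSubmonoid.inclusion hQ.le) ▷ T) ≫
        (AMonS.faceMap S hQ ▷ T)).left.appTop.hom w) =
      (jk (AMonS S ↥N ⊗ T) (Jd S N ℓ hℓ T 1)).left.appTop.hom w := hw
    show (jk (AMonS S ↥N ⊗ T) (Jd S N ℓ hℓ T 1)).left.appTop.hom
      (((AMonS.map S (AddSubmonoid.inclusion hQ.le) ▷ T) ≫
        (AMonS.faceMap S hQ ▷ T)).left.appTop.hom (z + w)) =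
      (jk (AMonS S ↥N ⊗ T) (Jd S N ℓ hℓ T 1)).left.appTop.hom (z + w)
    rw [map_add, map_add, map_add, hz', hw']
  · intro d c
    show (jk (AMonS S ↥N ⊗ T) (Jd S N ℓ hℓ T 1)).left.appTop.hom
      (((AMonS.map S (AddSubmonoid.inclusion hQ.le) ▷ T) ≫
        (AMonS.faceMap S hQ ▷ T)).left.appTop.hom
        ((pN S T ↥N).appTop.hom (mon.{u} d) * (qN S T ↥N).appTop.hom c)) =
      (jk (AMonS S ↥N ⊗ T) (Jd S N ℓ hℓ T 1)).left.appTop.hom
        ((pN S T ↥N).appTop.hom (mon.{u} d) * (qN S T ↥N).appTop.hom c)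
    rw [map_mul, retr_app_qN]
    by_cases hq : ((Multiplicative.toAdd d : ↥N) : M) ∈ Q
    · have e := retr_app_pN_of_mem S N T hQ (Multiplicative.toAdd d) hq
      have e' : ((AMonS.map S (AddSubmonoid.inclusion hQ.le) ▷ T) ≫
          (AMonS.faceMap S hQ ▷ T)).left.appTop.hom ((pN S T ↥N).appTop.hom (mon.{u} d)) =
          (pN S T ↥N).appTop.hom (mon.{u} d) := e
      rw [e']
    · have e := retr_app_pN_of_not_mem S N T hQ (Multiplicative.toAdd d) hq
      have e' : ((AMonS.map S (AddSubmonoid.inclusion hQ.le) ▷ T) ≫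
          (AMonS.faceMap S hQ ▷ T)).left.appTop.hom ((pN S T ↥N).appTop.hom (mon.{u} d)) = 0 := e
      rw [e', zero_mul, map_zero]
      symm
      rw [jk_app_eq_zero_iff]
      apply gen_mem_Jd
      exact_mod_cast lv_pos_of_not_mem N ℓ hℓ hℓQ d hq

end Face

end Groth.Agent.Lib.Helper29.MagnetEtIdeal
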