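import Mathlib
import Groth.Prelude.Def_Magnet4

/-!
# Exposed faces of finitely generated submonoids of abelian groups

For a finitely generated submonoid `N` of a finitely generated abelian group `M` and a face `Q` of
`N` there is a homomorphism `ℓ : M →+ ℤ`, nonnegative on `N`, with `N ∩ ℓ⁻¹(0) = Q`
(`exists_face_fun`).  The proof goes through a version of Gordan's theorem for abelian groups.
-/

set_option autoImplicit false
set_option maxHeartbeats 1600000

namespace Groth.Agent.Lib.Helper29.MagnetFaceFun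

open Magnet

/-- Gordan's theorem for abelian groups: vectors without a nontrivial nonnegative relation are
strictly positive for some `ℚ`-valued functional. -/
theorem gordan : ∀ (s : ℕ) (M : Type) [AddCommGroup M] (g : Fin s → M),
    (∀ a : Fin s → ℕ, ∑ i, a i • g i = 0 → a = 0) → ∃ ℓ : M →+ ℚ, ∀ i, 0 < ℓ (g i) := by
  intro s
  induction s with
  | zero =>
    intro M _ g _
    exact ⟨0, fun i => i.elim0⟩
  | succ s ih =>
    intro M _ g hg
    have hnt : ∀ k : ℕ, k • g 0 = 0 → k = 0 := by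
      intro k hk
      have h := hg (Fin.cons k (fun _ => 0)) (by
        rw [Fin.sum_univ_succ]
        simp [hk])
      have h2 := congrFun h 0
      simpa using h2
    have hntZ : ∀ k : ℤ, k • g 0 = 0 → k = 0 := by
      intro k hk
      obtain ⟨n, rfl | rfl⟩ := Int.eq_nat_or_neg k
      · rw [natCast_zsmul] at hk
        rw [hnt n hk]; rfl
      · rw [neg_smul, natCast_zsmul, neg_eq_zero] at hk
        rw [hnt n hk]; rfl
    obtain ⟨ℓ₁, hℓ₁⟩ : ∃ ℓ₁ : M →+ ℚ, ℓ₁ (g 0) = 1 := by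
      have hinj : Function.Injective (zmultiplesHom M (g 0)) := by
        intro a b hab
        simp only [zmultiplesHom_apply] at hab
        have h3 : (a - b) • g 0 = 0 := by
          rw [sub_smul]; exact sub_eq_zero.mpr hab
        exact sub_eq_zero.mp (hntZ _ h3)
      obtain ⟨h, hh⟩ := (Module.Baer.of_divisible ℚ).extension_property_addMonoidHom
        (zmultiplesHom M (g 0)) hinj (Int.castAddHom ℚ)
      refine ⟨h, ?_⟩
      have h4 := DFunLike.congr_fun hh 1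
      simpa using h4
    obtain ⟨H, hH⟩ : ∃ H : AddSubgroup M, H = AddSubgroup.zmultiples (g 0) := ⟨_, rfl⟩
    by_cases hB : ∀ a : Fin s → ℕ,
        ∑ i, a i • (QuotientAddGroup.mk' H (g i.succ)) = 0 → a = 0
    · obtain ⟨ℓb, hℓb⟩ := ih (M ⧸ H) (fun i => QuotientAddGroup.mk' H (g i.succ)) hB
      obtain ⟨ℓ₀, hℓ₀⟩ : ∃ ℓ₀ : M →+ ℚ, ∀ m, ℓ₀ m = ℓb (QuotientAddGroup.mk' H m) :=
        ⟨ℓb.comp (QuotientAddGroup.mk' H), fun _ => rfl⟩
      have h00 : ℓ₀ (g 0) = 0 := by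
        rw [hℓ₀]
        have h5 : QuotientAddGroup.mk' H (g 0) = 0 := by
          rw [QuotientAddGroup.mk'_apply, QuotientAddGroup.eq_zero_iff, hH]
          exact AddSubgroup.mem_zmultiples _
        rw [h5, map_zero]
      have hpos : ∀ i : Fin s, 0 < ℓ₀ (g i.succ) := fun i => by rw [hℓ₀]; exact hℓb i
      obtain ⟨C, hCdef⟩ : ∃ C : ℚ, C = ∑ i : Fin s, |ℓ₁ (g i.succ)| / ℓ₀ (g i.succ) + 1 :=
        ⟨_, rfl⟩
      have hC : ∀ i : Fin s, |ℓ₁ (g i.succ)| / ℓ₀ (g i.succ) < C := by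
        intro i
        have h1 : |ℓ₁ (g i.succ)| / ℓ₀ (g i.succ) ≤
            ∑ j : Fin s, |ℓ₁ (g j.succ)| / ℓ₀ (g j.succ) :=
          Finset.single_le_sum (f := fun j : Fin s => |ℓ₁ (g j.succ)| / ℓ₀ (g j.succ))
            (fun j _ => div_nonneg (abs_nonneg _) (hpos j).le) (Finset.mem_univ i)
        rw [hCdef]
        linarith
      refine ⟨(AddMonoidHom.mulLeft C).comp ℓ₀ + ℓ₁, ?_⟩
      intro i
      simp only [AddMonoidHom.add_apply, AddMonoidHom.comp_apply, AddMonoidHom.coe_mulLeft]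
      refine Fin.cases ?_ (fun j => ?_) i
      · rw [h00, hℓ₁]; norm_num
      · have h1 := hC j
        rw [div_lt_iff₀ (hpos j)] at h1
        have h2 : -|ℓ₁ (g j.succ)| ≤ ℓ₁ (g j.succ) := neg_abs_le _
        linarith
    · push_neg at hB
      obtain ⟨a, ha, hane⟩ := hB
      have hmem : ∑ i, a i • g i.succ ∈ H := by
        rw [← QuotientAddGroup.eq_zero_iff, ← QuotientAddGroup.mk'_apply, map_sum]
        rw [← ha]
        exact Finset.sum_congr rfl (fun i _ => map_nsmul _ _ _)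
      rw [hH] at hmem
      obtain ⟨c, hc⟩ := AddSubgroup.mem_zmultiples_iff.mp hmem
      have hsub : ∀ a' : Fin s → ℕ, ∑ i, a' i • g i.succ = 0 → a' = 0 := by
        intro a' ha'
        have h6 := hg (Fin.cons 0 a') (by
          rw [Fin.sum_univ_succ]
          simp [ha'])
        funext i
        have h2 := congrFun h6 i.succ
        simpa using h2
      obtain ⟨ℓ, hℓ⟩ := ih M (fun i => g i.succ) hsub
      have hcpos : 0 < c := by
        by_contra hcn
        push_neg at hcn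
        have hrel := hg (Fin.cons (-c).toNat a) (by
          rw [Fin.sum_univ_succ]
          simp only [Fin.cons_zero, Fin.cons_succ]
          rw [← hc, ← natCast_zsmul, Int.toNat_of_nonneg (by omega), neg_smul, neg_add_cancel])
        apply hane
        funext i
        have h2 := congrFun hrel i.succ
        simpa using h2
      refine ⟨ℓ, fun i => ?_⟩
      refine Fin.cases ?_ (fun j => hℓ j) i
      have h1 : (c : ℚ) * ℓ (g 0) = ∑ i, (a i : ℚ) * ℓ (g i.succ) := by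
        have h7 := congrArg ℓ hc
        rw [map_zsmul, map_sum] at h7
        simp only [map_nsmul, zsmul_eq_mul, nsmul_eq_mul] at h7
        exact h7
      have h2 : 0 < ∑ i, (a i : ℚ) * ℓ (g i.succ) := by
        obtain ⟨j, hj⟩ : ∃ j, a j ≠ 0 := by
          by_contra h
          push_neg at h
          exact hane (funext h)
        apply Finset.sum_pos'
        · intro i _
          exact mul_nonneg (Nat.cast_nonneg _) (hℓ i).le
        · exact ⟨j, Finset.mem_univ j,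
            mul_pos (Nat.cast_pos.mpr (Nat.pos_of_ne_zero hj)) (hℓ j)⟩
      have hc' : (0 : ℚ) < c := Int.cast_pos.mpr hcpos
      rw [← h1] at h2
      exact (mul_pos_iff_of_pos_left hc').mp h2

/-- a `ℚ`-valued functional on a finitely generated group has an integral positive multiple -/
theorem exists_int_multiple {M : Type} [AddCommGroup M] [AddGroup.FG M] (ℓ : M →+ ℚ) :
    ∃ (d : ℕ) (ℓZ : M →+ ℤ), 0 < d ∧ ∀ m, (ℓZ m : ℚ) = d * ℓ m := by
  classical
  obtain ⟨G, hG⟩ : (⊤ : AddSubgroup M).FG := (AddGroup.fg_def (H := M)).mp inferInstance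
  obtain ⟨d, hd⟩ : ∃ d : ℕ, d = ∏ x ∈ G, (ℓ x).den := ⟨_, rfl⟩
  have hdpos : 0 < d := by
    rw [hd]
    exact Finset.prod_pos (fun x _ => (ℓ x).den_pos)
  have hint : ∀ m : M, ∃ z : ℤ, (z : ℚ) = d * ℓ m := by
    intro m
    have hm : m ∈ AddSubgroup.closure (G : Set M) := by rw [hG]; trivial
    induction hm using AddSubgroup.closure_induction with
    | mem x hx =>
      obtain ⟨e, he⟩ := Finset.dvd_prod_of_mem (fun y => (ℓ y).den) (Finset.mem_coe.mp hx)
      refine ⟨e * (ℓ x).num, ?_⟩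
      have h1 : ℓ x * ((ℓ x).den : ℚ) = (ℓ x).num := Rat.mul_den_eq_num _
      rw [hd, he]
      push_cast
      rw [← h1]
      ring
    | zero => exact ⟨0, by simp⟩
    | add x y _ _ hx hy =>
      obtain ⟨zx, hzx⟩ := hx
      obtain ⟨zy, hzy⟩ := hy
      exact ⟨zx + zy, by rw [map_add]; push_cast; rw [hzx, hzy]; ring⟩
    | neg x _ hx =>
      obtain ⟨zx, hzx⟩ := hx
      exact ⟨-zx, by rw [map_neg]; push_cast; rw [hzx]; ring⟩
  choose z hz using hint
  refine ⟨d, AddMonoidHom.mk' z (fun a b => ?_), hdpos, hz⟩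
  apply Int.cast_injective (α := ℚ)
  push_cast
  rw [hz, hz, hz, map_add]
  ring

theorem mem_closure_face {M : Type} [AddCommGroup M] (Q : AddSubmonoid M) {x : M}
    (hx : x ∈ AddSubgroup.closure (Q : Set M)) : ∃ q ∈ Q, ∃ q' ∈ Q, x + q' = q := by
  induction hx using AddSubgroup.closure_induction with
  | mem x hx => exact ⟨x, hx, 0, Q.zero_mem, add_zero x⟩
  | zero => exact ⟨0, Q.zero_mem, 0, Q.zero_mem, add_zero 0⟩
  | add x y _ _ hx hy =>
    obtain ⟨q₁, hq₁, q₁', hq₁', h1⟩ := hx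
    obtain ⟨q₂, hq₂, q₂', hq₂', h2⟩ := hy
    exact ⟨q₁ + q₂, Q.add_mem hq₁ hq₂, q₁' + q₂', Q.add_mem hq₁' hq₂', by
      rw [← h1, ← h2]; abel⟩
  | neg x _ hx =>
    obtain ⟨q, hq, q', hq', h1⟩ := hx
    exact ⟨q', hq', q, hq, by rw [← h1]; abel⟩

theorem sum_mem_face {M : Type} [AddCommGroup M] {N Q : AddSubmonoid M} (hQ : IsFace N Q)
    {ι : Type*} (s : Finset ι) (f : ι → M) (hf : ∀ i ∈ s, f i ∈ N) (h : ∑ i ∈ s, f i ∈ Q) :
    ∀ i ∈ s, f i ∈ Q := by
  classical
  induction s using Finset.induction_on with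
  | empty => intro i hi; exact absurd hi (Finset.notMem_empty i)
  | insert a s ha ih =>
    rw [Finset.sum_insert ha] at h
    have hfa : f a ∈ N := hf a (Finset.mem_insert_self a s)
    have hfs : ∑ i ∈ s, f i ∈ N :=
      N.sum_mem (fun i hi => hf i (Finset.mem_insert_of_mem hi))
    obtain ⟨h1, h2⟩ := hQ.mem_of_add_mem _ hfa _ hfs h
    intro i hi
    rcases Finset.mem_insert.mp hi with rfl | hi
    · exact h1
    · exact ih (fun j hj => hf j (Finset.mem_insert_of_mem hj)) h2 i hi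

theorem nsmul_mem_face {M : Type} [AddCommGroup M] {N Q : AddSubmonoid M} (hQ : IsFace N Q)
    {x : M} (hx : x ∈ N) (k : ℕ) (hk : k ≠ 0) (h : k • x ∈ Q) : x ∈ Q := by
  obtain ⟨j, rfl⟩ := Nat.exists_eq_succ_of_ne_zero hk
  rw [succ_nsmul] at h
  exact (hQ.mem_of_add_mem _ (N.nsmul_mem hx j) _ hx h).2

/-- **Exposed faces.** -/
theorem exists_face_fun {M : Type} [AddCommGroup M] [AddGroup.FG M] {N Q : AddSubmonoid M}
    (hN : N.FG) (hQ : IsFace N Q) :
    ∃ ℓ : M →+ ℤ, (∀ n ∈ N, 0 ≤ ℓ n) ∧ (∀ n ∈ N, ℓ n = 0 ↔ n ∈ Q) := by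
  classical
  obtain ⟨G, hG⟩ := hN
  have hGN : ∀ x ∈ G, x ∈ N := fun x hx => by
    rw [← hG]; exact AddSubmonoid.subset_closure (Finset.mem_coe.mpr hx)
  obtain ⟨G', hG'⟩ : ∃ G' : Finset M, G' = G.filter (fun x => x ∉ Q) := ⟨_, rfl⟩
  have hG'mem : ∀ x, x ∈ G' ↔ x ∈ G ∧ x ∉ Q := fun x => by rw [hG', Finset.mem_filter]
  obtain ⟨g, hg⟩ : ∃ g : Fin G'.card → M, ∀ x, x ∈ G' ↔ ∃ i, g i = x := by
    refine ⟨fun i => ((G'.equivFin.symm i : G') : M), fun x => ⟨fun hx => ?_, ?_⟩⟩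
    · exact ⟨G'.equivFin ⟨x, hx⟩, by simp⟩
    · rintro ⟨i, rfl⟩
      exact (G'.equivFin.symm i).2
  have hgG' : ∀ i, g i ∈ G' := fun i => (hg _).mpr ⟨i, rfl⟩
  have hgN : ∀ i, g i ∈ N := fun i => hGN _ ((hG'mem _).mp (hgG' i)).1
  have hgQ : ∀ i, g i ∉ Q := fun i => ((hG'mem _).mp (hgG' i)).2
  obtain ⟨H, hH⟩ : ∃ H : AddSubgroup M, H = AddSubgroup.closure (Q : Set M) := ⟨_, rfl⟩
  have hrel : ∀ a : Fin G'.card → ℕ,
      ∑ i, a i • (QuotientAddGroup.mk' H (g i)) = 0 → a = 0 := by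
    intro a ha
    have hmem : ∑ i, a i • g i ∈ H := by
      rw [← QuotientAddGroup.eq_zero_iff, ← QuotientAddGroup.mk'_apply, map_sum, ← ha]
      exact Finset.sum_congr rfl (fun i _ => map_nsmul _ _ _)
    rw [hH] at hmem
    obtain ⟨q, hq, q', hq', h1⟩ := mem_closure_face Q hmem
    have hyN : ∑ i, a i • g i ∈ N := N.sum_mem (fun i _ => N.nsmul_mem (hgN i) _)
    have hyQ : ∑ i, a i • g i ∈ Q :=
      (hQ.mem_of_add_mem _ hyN _ (hQ.le hq') (by rw [h1]; exact hq)).1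
    have h2 := sum_mem_face hQ Finset.univ (fun i => a i • g i)
      (fun i _ => N.nsmul_mem (hgN i) _) hyQ
    funext i
    by_contra hne
    exact hgQ i (nsmul_mem_face hQ (hgN i) (a i) hne (h2 i (Finset.mem_univ i)))
  obtain ⟨ℓb, hℓb⟩ := gordan G'.card (M ⧸ H) (fun i => QuotientAddGroup.mk' H (g i)) hrel
  obtain ⟨ℓq, hℓq⟩ : ∃ ℓq : M →+ ℚ, ∀ m, ℓq m = ℓb (QuotientAddGroup.mk' H m) :=
    ⟨ℓb.comp (QuotientAddGroup.mk' H), fun _ => rfl⟩
  obtain ⟨d, ℓZ, hd, hℓZ⟩ := exists_int_multiple ℓq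
  have hdq : (0 : ℚ) < d := Nat.cast_pos.mpr hd
  have hQ0 : ∀ n ∈ Q, ℓZ n = 0 := by
    intro n hn
    have h1 : QuotientAddGroup.mk' H n = 0 := by
      rw [QuotientAddGroup.mk'_apply, QuotientAddGroup.eq_zero_iff, hH]
      exact AddSubgroup.subset_closure hn
    apply Int.cast_injective (α := ℚ)
    rw [hℓZ, hℓq, h1, map_zero, mul_zero, Int.cast_zero]
  have hgpos : ∀ i, 0 < ℓZ (g i) := by
    intro i
    have h1 : (0 : ℚ) < (ℓZ (g i) : ℚ) := by
      rw [hℓZ, hℓq]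
      exact mul_pos hdq (hℓb i)
    exact_mod_cast h1
  have key : ∀ n ∈ N, 0 ≤ ℓZ n ∧ (ℓZ n = 0 → n ∈ Q) := by
    intro n hn
    rw [← hG] at hn
    induction hn using AddSubmonoid.closure_induction with
    | mem x hx =>
      by_cases hxQ : x ∈ Q
      · exact ⟨(hQ0 x hxQ).ge, fun _ => hxQ⟩
      · obtain ⟨i, rfl⟩ := (hg x).mp ((hG'mem x).mpr ⟨Finset.mem_coe.mp hx, hxQ⟩)
        exact ⟨(hgpos i).le, fun h => absurd h (hgpos i).ne'⟩
    | zero => exact ⟨by rw [map_zero], fun _ => Q.zero_mem⟩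
    | add x y _ _ hx hy =>
      refine ⟨by rw [map_add]; exact add_nonneg hx.1 hy.1, fun h => ?_⟩
      rw [map_add] at h
      have hx0 : ℓZ x = 0 := by linarith [hx.1, hy.1]
      have hy0 : ℓZ y = 0 := by linarith [hx.1, hy.1]
      exact Q.add_mem (hx.2 hx0) (hy.2 hy0)
  exact ⟨ℓZ, fun n hn => (key n hn).1, fun n hn => ⟨(key n hn).2, hQ0 n⟩⟩

end Groth.Agent.Lib.Helper29.MagnetFaceFun
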