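import Mathlib
import Groth.Prelude.Def_Magnet4
import Groth.Agent.Lib.Helper29.MagnetPt
import Groth.Agent.Lib.Helper29.MagnetFaceFun
import Groth.Agent.Lib.Helper29.MagnetBB

/-!
# The attractor of a face is a strong deformation retract (helper29, for S18244)
-/
set_option autoImplicit false
set_option maxHeartbeats 1600000
set_option linter.style.haveILetI false
universe u
open CategoryTheory CategoryTheory.Limits MonoidalCategory CartesianMonoidalCategory MonObj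
  AlgebraicGeometry Opposite

noncomputable section

namespace Groth.Agent.Lib.Helper29.MagnetHomotopy

open Magnet MagnetFixAlg MagnetFix MagnetComapIso MagnetBBPts MagnetPt

section Alg
variable {M : Type} [AddCommGroup M] (N : AddSubmonoid M) (ℓ : M →+ ℤ) (hℓ : ∀ n ∈ N, 0 ≤ ℓ n)
variable {K : Type u} [CommRing K]

/-- the monoid map `n ↦ c ^ ℓ(n)` -/
def powMon (c : K) : Multiplicative ↥N →* K where
  toFun n := c ^ (ℓ ((Multiplicative.toAdd n : ↥N) : M)).toNat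
  map_one' := by
    show c ^ (ℓ ((0 : ↥N) : M)).toNat = 1
    rw [AddSubmonoid.coe_zero, map_zero, Int.toNat_zero, pow_zero]
  map_mul' x y := by
    show c ^ (ℓ (((Multiplicative.toAdd x + Multiplicative.toAdd y : ↥N)) : M)).toNat =
      c ^ (ℓ ((Multiplicative.toAdd x : ↥N) : M)).toNat *
        c ^ (ℓ ((Multiplicative.toAdd y : ↥N) : M)).toNat
    rw [AddSubmonoid.coe_add, map_add,
      Int.toNat_add (hℓ _ (Multiplicative.toAdd x).2) (hℓ _ (Multiplicative.toAdd y).2), pow_add]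

/-- the character `Xⁿ ↦ c ^ ℓ(n)` -/
def powChar (c : K) : MonoidAlgebra (ULift.{u} ℤ) (Multiplicative ↥N) →+* K :=
  MonoidAlgebra.liftNCRingHom (cK K) (powMon N ℓ hℓ c) (fun _ _ => Commute.all _ _)

theorem powChar_eN (c : K) (n : ↥N) : powChar N ℓ hℓ c (eN n) = c ^ (ℓ (n : M)).toNat := by
  unfold powChar eN
  rw [MonoidAlgebra.liftNCRingHom_single, cK_one, _root_.one_mul]
  rfl

theorem powChar_map {K' : Type u} [CommRing K'] (θ : K →+* K') (c : K) :
    powChar N ℓ hℓ (θ c) = θ.comp (powChar N ℓ hℓ c) := by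
  apply ringHom_ext_eN
  intro n
  rw [powChar_eN, RingHom.comp_apply, powChar_eN, map_pow]

end Alg

section Main
variable (S : Scheme.{u}) (M : Type) [AddCommGroup M] {X : Over S} (a : MonAct (AMonS S M) X)
  {N F : AddSubmonoid M} (hF : IsFace N F) (ℓ : M →+ ℤ) (hℓ : ∀ n ∈ N, 0 ≤ ℓ n)
  (hℓF : ∀ n ∈ N, ℓ n = 0 ↔ n ∈ F)

/-- the contraction `(b, t) ↦ (b · c^ℓ, t)` -/
def Psi (T : Over S) (c : Γ(T.left, ⊤)) : AMonS S ↥N ⊗ T ⟶ AMonS S ↥N ⊗ T :=
  lift (fst (AMonS S ↥N) T * (snd (AMonS S ↥N) T ≫ ptChi T (powChar N ℓ hℓ c)))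
    (snd (AMonS S ↥N) T)

theorem lift_Psi {T T' : Over S} (c : Γ(T.left, ⊤)) (b : T' ⟶ AMonS S ↥N) (t : T' ⟶ T) :
    lift b t ≫ Psi S M ℓ hℓ T c = lift (b * (t ≫ ptChi T (powChar N ℓ hℓ c))) t := by
  rw [Psi, comp_lift, MonObj.comp_mul, lift_fst, lift_snd_assoc, lift_snd]

theorem isEquivariant_Psi_comp {T : Over S} (c : Γ(T.left, ⊤)) (x : AMonS S ↥N ⊗ T ⟶ X)
    (hx : MonAct.IsEquivariant ((subAct S M N).prod (MonAct.trivial (AMonS S M) T)) a x) :
    MonAct.IsEquivariant ((subAct S M N).prod (MonAct.trivial (AMonS S M) T)) a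
      (Psi S M ℓ hℓ T c ≫ x) := by
  have hx' := (MonAct.mem_eqvHom_iff x).mp hx
  apply (MonAct.mem_eqvHom_iff _).mpr
  intro T' g b t
  have e1 : lift (lift g b ≫ (subAct S M N).act) t ≫ Psi S M ℓ hℓ T c ≫ x =
      lift (((g ≫ AMonS.map S N.subtype) * b) * (t ≫ ptChi T (powChar N ℓ hℓ c))) t ≫ x := by
    rw [← Category.assoc, lift_Psi, MagnetBB.lift_subAct_act]
  have e2 : lift b t ≫ Psi S M ℓ hℓ T c ≫ x =
      lift (b * (t ≫ ptChi T (powChar N ℓ hℓ c))) t ≫ x := by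
    rw [← Category.assoc, lift_Psi]
  have h := hx' T' g (b * (t ≫ ptChi T (powChar N ℓ hℓ c))) t
  rw [MagnetBB.lift_subAct_act] at h
  rw [e1, e2, ← h, _root_.mul_assoc]

/-- the homotopy -/
def delta (T : Over S) (x : (attr a N).obj (op T)) (c : Γ(T.left, ⊤)) : (attr a N).obj (op T) :=
  ⟨Psi S M ℓ hℓ T c ≫ x.1, isEquivariant_Psi_comp S M a ℓ hℓ c x.1 x.2⟩

theorem Psi_nat {T T' : Over S} (t : T' ⟶ T) (c : Γ(T.left, ⊤)) :
    Psi S M ℓ hℓ T' (t.left.appTop.hom c) ≫ (AMonS S ↥N ◁ t) =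
      (AMonS S ↥N ◁ t) ≫ Psi S M ℓ hℓ T c := by
  have hp : ptChi T' (powChar N ℓ hℓ (t.left.appTop.hom c)) =
      t ≫ ptChi T (powChar N ℓ hℓ c) := by
    rw [comp_ptChi, powChar_map]
  apply CartesianMonoidalCategory.hom_ext
  · rw [Category.assoc, whiskerLeft_fst, Category.assoc, Psi, Psi, lift_fst, lift_fst,
      MonObj.comp_mul, whiskerLeft_fst, whiskerLeft_snd_assoc, hp]
  · rw [Category.assoc, whiskerLeft_snd, Category.assoc, Psi, Psi, lift_snd, lift_snd_assoc,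
      whiskerLeft_snd]

theorem Psi_one (T : Over S) : Psi S M ℓ hℓ T (1 : Γ(T.left, ⊤)) = 𝟙 _ := by
  have hp : ptChi T (powChar N ℓ hℓ (1 : Γ(T.left, ⊤))) = 1 := by
    apply chi_ext
    intro n
    rw [chi_ptChi, powChar_eN, one_pow, chi_one]
  rw [Psi, hp, MonObj.comp_one, _root_.mul_one, lift_fst_snd]

include hℓF in
theorem Psi_zero (T : Over S) : Psi S M ℓ hℓ T (0 : Γ(T.left, ⊤)) =
    (AMonS.map S (AddSubmonoid.inclusion hF.le) ▷ T) ≫ (AMonS.faceMap S hF ▷ T) := by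
  classical
  apply CartesianMonoidalCategory.hom_ext
  · rw [Psi, lift_fst, Category.assoc, whiskerRight_fst, whiskerRight_fst_assoc]
    apply chi_ext
    intro n
    rw [chi_mul, chi_comp, chi_ptChi, RingHom.comp_apply, powChar_eN, ← Category.assoc,
      chi_faceMap, chi_map, RingHom.comp_apply, RingHom.comp_apply]
    by_cases hn : (n : M) ∈ F
    · have h0 : ℓ (n : M) = 0 := (hℓF _ n.2).mpr hn
      have e1 : (faceAlgHom (ULift.{u} ℤ) hF).toRingHom (eN n) = eN (⟨(n : M), hn⟩ : ↥F) :=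
        faceAlgHom_single_of_mem (ULift.{u} ℤ) hF n hn 1
      rw [h0, Int.toNat_zero, pow_zero, map_one, _root_.mul_one, e1, rh_eN]
      rfl
    · have h0 : ℓ (n : M) ≠ 0 := fun h => hn ((hℓF _ n.2).mp h)
      have h1 : (ℓ (n : M)).toNat ≠ 0 := by
        have := hℓ _ n.2
        omega
      have e1 : (faceAlgHom (ULift.{u} ℤ) hF).toRingHom (eN n) = 0 :=
        faceAlgHom_single_of_not_mem (ULift.{u} ℤ) hF n hn 1
      rw [zero_pow h1, map_zero, mul_zero, e1, map_zero, map_zero]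
  · rw [Psi, lift_snd, Category.assoc, whiskerRight_snd, whiskerRight_snd]

include hℓF in
theorem Psi_comp_map (T : Over S) (c : Γ(T.left, ⊤)) :
    Psi S M ℓ hℓ T c ≫ (AMonS.map S (AddSubmonoid.inclusion hF.le) ▷ T) =
      (AMonS.map S (AddSubmonoid.inclusion hF.le) ▷ T) := by
  have hp : ptChi T (powChar N ℓ hℓ c) ≫ AMonS.map S (AddSubmonoid.inclusion hF.le) = 1 := by
    apply chi_ext
    intro n
    rw [chi_map, chi_ptChi, RingHom.comp_apply, rh_eN, powChar_eN, chi_one]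
    have h0 : ℓ ((AddSubmonoid.inclusion hF.le n : ↥N) : M) = 0 :=
      (hℓF _ (AddSubmonoid.inclusion hF.le n).2).mpr n.2
    rw [h0, Int.toNat_zero, pow_zero]
  apply CartesianMonoidalCategory.hom_ext
  · rw [Category.assoc, whiskerRight_fst, Psi, lift_fst_assoc, MonObj.mul_comp, Category.assoc,
      hp, MonObj.comp_one, _root_.mul_one]
  · rw [Category.assoc, whiskerRight_snd, Psi, lift_snd]

end Main

theorem main18244 (S : Scheme.{u}) (M : Type) [AddCommGroup M] [AddGroup.FG M]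
    {X : Over S} [LocallyOfFinitePresentation X.hom] (a : Magnet.MonAct (Magnet.AMonS S M) X)
    {N F : AddSubmonoid M} (hN : N.FG) (hF : Magnet.IsFace N F) :
    ∃ δ : ∀ T : Over S, (Magnet.attr a N).obj (op T) → Γ(T.left, ⊤) → (Magnet.attr a N).obj (op T),
      (∀ (T T' : Over S) (t : T' ⟶ T) (x : (Magnet.attr a N).obj (op T)) (c : Γ(T.left, ⊤)),
          δ T' ((Magnet.attr a N).map t.op x) (t.left.appTop c) = (Magnet.attr a N).map t.op (δ T x c)) ∧
      (∀ (T : Over S) (x : (Magnet.attr a N).obj (op T)),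
          δ T x 0 = (Magnet.attrMap a hF.le).app (op T) ((Magnet.attrFace a hF).app (op T) x)) ∧
      (∀ (T : Over S) (x : (Magnet.attr a N).obj (op T)), δ T x 1 = x) ∧
      (∀ (T : Over S) (y : (Magnet.attr a F).obj (op T)) (c : Γ(T.left, ⊤)),
          δ T ((Magnet.attrMap a hF.le).app (op T) y) c = (Magnet.attrMap a hF.le).app (op T) y) := by
  obtain ⟨ℓ, hℓ, hℓF⟩ := MagnetFaceFun.exists_face_fun hN hF
  refine ⟨fun T x c => delta S M a ℓ hℓ T x c, ?_, ?_, ?_, ?_⟩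
  · intro T T' t x c
    apply Subtype.ext
    show Psi S M ℓ hℓ T' (t.left.appTop.hom c) ≫ ((AMonS S ↥N ◁ t) ≫ x.1) =
      (AMonS S ↥N ◁ t) ≫ (Psi S M ℓ hℓ T c ≫ x.1)
    rw [← Category.assoc, Psi_nat, Category.assoc]
  · intro T x
    apply Subtype.ext
    show Psi S M ℓ hℓ T 0 ≫ x.1 =
      (AMonS.map S (AddSubmonoid.inclusion hF.le) ▷ T) ≫ ((AMonS.faceMap S hF ▷ T) ≫ x.1)
    rw [Psi_zero S M hF ℓ hℓ hℓF, Category.assoc]
  · intro T x
    apply Subtype.ext
    show Psi S M ℓ hℓ T 1 ≫ x.1 = x.1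
    rw [Psi_one, Category.id_comp]
  · intro T y c
    apply Subtype.ext
    show Psi S M ℓ hℓ T c ≫ ((AMonS.map S (AddSubmonoid.inclusion hF.le) ▷ T) ≫ y.1) =
      (AMonS.map S (AddSubmonoid.inclusion hF.le) ▷ T) ≫ y.1
    rw [← Category.assoc, Psi_comp_map S M hF ℓ hℓ hℓF]

end Groth.Agent.Lib.Helper29.MagnetHomotopy
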