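import Mathlib
import Groth.Prelude.Def_Magnet4
import Groth.Agent.Lib.Helper29.MagnetEtIdeal
import Groth.Agent.Lib.Helper29.MagnetBBAlg
import Groth.Agent.Lib.Helper29.MagnetBBGeom
import Groth.Agent.Lib.Helper29.MagnetBB
import Groth.Agent.Lib.Helper29.MagnetHomotopy

/-!
# Equivariant maps out of `A(N)_S ×_S T` are determined by the `ℓ`-adic thickenings (helper29, for S18302)
-/
set_option autoImplicit false
set_option maxHeartbeats 1600000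
set_option linter.style.haveILetI false
universe u
open CategoryTheory CategoryTheory.Limits MonoidalCategory CartesianMonoidalCategory MonObj
  AlgebraicGeometry Opposite IsLocalRing

noncomputable section

namespace Groth.Agent.Lib.Helper29.MagnetEtAdic

open Magnet MagnetDom MagnetHomog MagnetExpand MagnetEtRing MagnetEtIdeal MagnetFixAlg MagnetFix
  MagnetComapIso MagnetBBPts MagnetPt MagnetBBAlg MagnetBBGeom MagnetHomotopy

section Alg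
variable {M : Type} [AddCommGroup M] (ℓ : M →+ ℤ) {K : Type u} [CommRing K]

/-- the monoid map `m ↦ w ^ ℓ(m)` for a unit `w` -/
def zpowMon (w : Kˣ) : Multiplicative M →* K where
  toFun m := ((w ^ (ℓ (Multiplicative.toAdd m)) : Kˣ) : K)
  map_one' := by
    show ((w ^ (ℓ (0 : M)) : Kˣ) : K) = 1
    rw [map_zero, zpow_zero, Units.val_one]
  map_mul' x y := by
    show ((w ^ (ℓ (Multiplicative.toAdd x + Multiplicative.toAdd y)) : Kˣ) : K) =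
      ((w ^ (ℓ (Multiplicative.toAdd x)) : Kˣ) : K) * ((w ^ (ℓ (Multiplicative.toAdd y)) : Kˣ) : K)
    rw [map_add, zpow_add, Units.val_mul]

/-- the character `Xᵐ ↦ w ^ ℓ(m)` of the group `M` -/
def zchar (w : Kˣ) : MonoidAlgebra (ULift.{u} ℤ) (Multiplicative M) →+* K :=
  MonoidAlgebra.liftNCRingHom (cK K) (zpowMon ℓ w) (fun _ _ => Commute.all _ _)

theorem zchar_eN (w : Kˣ) (m : M) : zchar ℓ w (eN m) = ((w ^ (ℓ m) : Kˣ) : K) := by
  unfold zchar eN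
  rw [MonoidAlgebra.liftNCRingHom_single, cK_one, _root_.one_mul]
  rfl

theorem zchar_comp_rh (N : AddSubmonoid M) (hℓ : ∀ n ∈ N, 0 ≤ ℓ n) (w : Kˣ) :
    (zchar ℓ w).comp (rh (ULift.{u} ℤ) N.subtype) = powChar N ℓ hℓ (w : K) := by
  apply ringHom_ext_eN
  intro n
  rw [RingHom.comp_apply, rh_eN, zchar_eN, powChar_eN]
  have h0 := hℓ _ n.2
  show ((w ^ (ℓ (n : M)) : Kˣ) : K) = (w : K) ^ (ℓ (n : M)).toNat
  conv_lhs => rw [← Int.toNat_of_nonneg h0]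
  rw [zpow_natCast, Units.val_pow_eq_pow_val]

end Alg

section Curve
variable (S : Scheme.{u}) (M : Type) [AddCommGroup M] (N : AddSubmonoid M) (ℓ : M →+ ℤ)
  (hℓ : ∀ n ∈ N, 0 ≤ ℓ n) (T : Over S)

/-- the curve `(b · s^ℓ, t)` -/
def curve {Y : Over S} (b : Y ⟶ AMonS S ↥N) (t : Y ⟶ T) (s : Γ(Y.left, ⊤)) :
    Y ⟶ AMonS S ↥N ⊗ T :=
  lift (b * ptChi Y (powChar N ℓ hℓ s)) t

theorem curve_app_pN {Y : Over S} (b : Y ⟶ AMonS S ↥N) (t : Y ⟶ T) (s : Γ(Y.left, ⊤)) (n : ↥N) :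
    (curve S M N ℓ hℓ T b t s).left.appTop.hom
        ((pN S T ↥N).appTop.hom (mon.{u} (Multiplicative.ofAdd n))) =
      chi b (eN n) * s ^ (ℓ (n : M)).toNat := by
  have h0 : chi (curve S M N ℓ hℓ T b t s ≫ fst (AMonS S ↥N) T) (eN n) =
      chi b (eN n) * s ^ (ℓ (n : M)).toNat := by
    unfold curve
    rw [lift_fst, MagnetPt.chi_mul, chi_ptChi, powChar_eN]
  rw [chi_comp, RingHom.comp_apply] at h0
  exact h0

theorem comp_curve {Y Y' : Over S} (q : Y' ⟶ Y) (b : Y ⟶ AMonS S ↥N) (t : Y ⟶ T)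
    (s : Γ(Y.left, ⊤)) :
    q ≫ curve S M N ℓ hℓ T b t s =
      curve S M N ℓ hℓ T (q ≫ b) (q ≫ t) (q.left.appTop.hom s) := by
  unfold curve
  rw [comp_lift, MonObj.comp_mul, comp_ptChi, ← powChar_map]

variable [IsAffine T.left]

theorem curve_kills {Y : Over S} (b : Y ⟶ AMonS S ↥N) (t : Y ⟶ T) (s : Γ(Y.left, ⊤)) (k : ℕ)
    (hs : s ^ (k + 1) = 0) :
    ∀ a ∈ Jd S N ℓ hℓ T (k + 1), (curve S M N ℓ hℓ T b t s).left.appTop.hom a = 0 := by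
  intro a ha
  obtain ⟨F, c, hF, hae⟩ := exists_expansion_Jd S N ℓ hℓ T (k + 1) a ha
  rw [hae, map_sum]
  apply Finset.sum_eq_zero
  intro d hd
  rw [map_mul]
  have e := curve_app_pN S M N ℓ hℓ T b t s (Multiplicative.toAdd d)
  have e' : (curve S M N ℓ hℓ T b t s).left.appTop.hom ((pN S T ↥N).appTop.hom (mon.{u} d)) =
      chi b (eN (Multiplicative.toAdd d)) * s ^ (lv N ℓ d).toNat := e
  have hk : k + 1 ≤ (lv N ℓ d).toNat := by
    have := hF d hd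
    push_cast at this
    omega
  rw [e', ← pow_mul_pow_sub s hk, hs, zero_mul, mul_zero, zero_mul]

variable {X : Over S} (φ₁ φ₂ : AMonS S ↥N ⊗ T ⟶ X)

theorem curve_eq {Y : Over S} (b : Y ⟶ AMonS S ↥N) (t : Y ⟶ T) (s : Γ(Y.left, ⊤)) (k : ℕ)
    (hs : s ^ (k + 1) = 0)
    (hk : jk (AMonS S ↥N ⊗ T) (Jd S N ℓ hℓ T (k + 1)) ≫ φ₁ =
      jk (AMonS S ↥N ⊗ T) (Jd S N ℓ hℓ T (k + 1)) ≫ φ₂) :
    curve S M N ℓ hℓ T b t s ≫ φ₁ = curve S M N ℓ hℓ T b t s ≫ φ₂ := by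
  obtain ⟨w, hw⟩ := exists_fac (AMonS S ↥N ⊗ T) (Jd S N ℓ hℓ T (k + 1))
    (curve S M N ℓ hℓ T b t s) (curve_kills S M N ℓ hℓ T b t s k hs)
  rw [← hw, Category.assoc, Category.assoc, hk]

variable (h : ∀ k : ℕ, jk (AMonS S ↥N ⊗ T) (Jd S N ℓ hℓ T (k + 1)) ≫ φ₁ =
  jk (AMonS S ↥N ⊗ T) (Jd S N ℓ hℓ T (k + 1)) ≫ φ₂)

include h in
theorem step_adic {R : CommRingCat.{u}} [IsLocalRing R] (fR : Spec R ⟶ S)
    (b : Over.mk fR ⟶ AMonS S ↥N) (t : Over.mk fR ⟶ T) (s : R) (hs : s ∈ maximalIdeal R)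
    (hsep : ∀ z : R, (∀ n : ℕ, s ^ n ∣ z) → z = 0) :
    curve S M N ℓ hℓ T b t ((Scheme.ΓSpecIso R).inv.hom s) ≫ φ₁ =
      curve S M N ℓ hℓ T b t ((Scheme.ΓSpecIso R).inv.hom s) ≫ φ₂ := by
  apply Over.OverMorphism.ext
  apply hom_ext_of_local_adic s hs hsep
  intro n
  let q : R ⟶ CommRingCat.of (R ⧸ Ideal.span {s ^ (n + 1)}) :=
    CommRingCat.ofHom (Ideal.Quotient.mk (Ideal.span {s ^ (n + 1)}))
  let u : Over.mk (Spec.map q ≫ fR) ⟶ Over.mk fR := Over.homMk (Spec.map q) rfl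
  have hq0 : q.hom (s ^ (n + 1)) = 0 :=
    Ideal.Quotient.eq_zero_iff_mem.mpr (Ideal.mem_span_singleton_self _)
  have hnat := Scheme.ΓSpecIso_inv_naturality q
  have h1 : (Spec.map q).appTop.hom ((Scheme.ΓSpecIso R).inv.hom (s ^ (n + 1))) =
      (Scheme.ΓSpecIso _).inv.hom (q.hom (s ^ (n + 1))) :=
    (congrArg (fun ψ => ψ.hom (s ^ (n + 1))) hnat).symm
  have hs0 : (u.left.appTop.hom ((Scheme.ΓSpecIso R).inv.hom s)) ^ (n + 1) = 0 := by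
    rw [← map_pow, ← map_pow]
    show (Spec.map q).appTop.hom ((Scheme.ΓSpecIso R).inv.hom (s ^ (n + 1))) = 0
    rw [h1, hq0, map_zero]
  have hcv := curve_eq S M N ℓ hℓ T φ₁ φ₂ (u ≫ b) (u ≫ t)
    (u.left.appTop.hom ((Scheme.ΓSpecIso R).inv.hom s)) n hs0 (h n)
  rw [← comp_curve, Category.assoc, Category.assoc] at hcv
  exact congrArg (fun ψ => ψ.left) hcv

variable (bX : MonAct (AMonS S M) X)
  (h₁ : MonAct.IsEquivariant ((subAct S M N).prod (MonAct.trivial (AMonS S M) T)) bX φ₁)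
  (h₂ : MonAct.IsEquivariant ((subAct S M N).prod (MonAct.trivial (AMonS S M) T)) bX φ₂)

include h₁ h₂ in
omit [IsAffine T.left] in
theorem step_unit {Y : Over S} (b : Y ⟶ AMonS S ↥N) (t : Y ⟶ T) (w : Γ(Y.left, ⊤)ˣ)
    (hcv : curve S M N ℓ hℓ T b t (w : Γ(Y.left, ⊤)) ≫ φ₁ =
      curve S M N ℓ hℓ T b t (w : Γ(Y.left, ⊤)) ≫ φ₂) :
    lift b t ≫ φ₁ = lift b t ≫ φ₂ := by
  obtain ⟨g, hg⟩ : ∃ g : Y ⟶ AMonS S M, g = ptChi Y (zchar ℓ w) := ⟨_, rfl⟩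
  have hgm : g ≫ AMonS.map S N.subtype = ptChi Y (powChar N ℓ hℓ (w : Γ(Y.left, ⊤))) := by
    rw [hg]
    apply chi_ext
    intro n
    rw [chi_map, chi_ptChi, chi_ptChi, zchar_comp_rh ℓ N hℓ]
  have hcomm : b * (g ≫ AMonS.map S N.subtype) = (g ≫ AMonS.map S N.subtype) * b := by
    apply chi_ext
    intro n
    rw [MagnetPt.chi_mul, MagnetPt.chi_mul, mul_comm]
  have hc : curve S M N ℓ hℓ T b t (w : Γ(Y.left, ⊤)) =
      lift (lift g b ≫ (subAct S M N).act) t := by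
    unfold curve
    rw [MagnetBB.lift_subAct_act, ← hgm, hcomm]
  have e₁ := (MonAct.mem_eqvHom_iff φ₁).mp h₁ Y g b t
  have e₂ := (MonAct.mem_eqvHom_iff φ₂).mp h₂ Y g b t
  rw [hc, e₁, e₂] at hcv
  exact MagnetBB.act_cancel bX g _ _ hcv

include h h₁ h₂ in
theorem eq_on_local {K : CommRingCat.{u}} [IsLocalRing K] (fK : Spec K ⟶ S)
    (b : Over.mk fK ⟶ AMonS S ↥N) (t : Over.mk fK ⟶ T) :
    lift b t ≫ φ₁ = lift b t ≫ φ₂ := by
  let θ : K ⟶ CommRingCat.of (O₁ K) := CommRingCat.ofHom (θ₁ K)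
  let u₁ : Over.mk (Spec.map θ ≫ fK) ⟶ Over.mk fK := Over.homMk (Spec.map θ) rfl
  have hB := step_adic S M N ℓ hℓ T φ₁ φ₂ h (R := CommRingCat.of (O₁ K)) (Spec.map θ ≫ fK)
    (u₁ ≫ b) (u₁ ≫ t) (s₁ K) (s₁_mem K) (eq_zero_of_forall_pow_dvd K)
  let τ' : CommRingCat.of (O₁ K) ⟶ CommRingCat.of (O' K) := CommRingCat.ofHom (τ K)
  let j : K ⟶ CommRingCat.of (O' K) := CommRingCat.ofHom (ι' K)
  have hθτ : θ ≫ τ' = j := by
    ext c
    exact τ_θ₁ K c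
  let u' : Over.mk (Spec.map j ≫ fK) ⟶ Over.mk fK := Over.homMk (Spec.map j) rfl
  have w' : Spec.map τ' ≫ Spec.map θ ≫ fK = Spec.map j ≫ fK := by
    rw [← Category.assoc, ← Spec.map_comp, hθτ]
  let v' : Over.mk (Spec.map j ≫ fK) ⟶ Over.mk (Spec.map θ ≫ fK) := Over.homMk (Spec.map τ') w'
  have hv' : v' ≫ u₁ = u' := by
    apply Over.OverMorphism.ext
    change Spec.map τ' ≫ Spec.map θ = Spec.map j
    rw [← Spec.map_comp, hθτ]
  have hcurve : v' ≫ curve S M N ℓ hℓ T (u₁ ≫ b) (u₁ ≫ t)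
        ((Scheme.ΓSpecIso (CommRingCat.of (O₁ K))).inv.hom (s₁ K)) =
      curve S M N ℓ hℓ T (u' ≫ b) (u' ≫ t)
        (v'.left.appTop.hom ((Scheme.ΓSpecIso (CommRingCat.of (O₁ K))).inv.hom (s₁ K))) := by
    rw [comp_curve, ← Category.assoc, ← Category.assoc, hv']
  have hB' : curve S M N ℓ hℓ T (u' ≫ b) (u' ≫ t)
        (v'.left.appTop.hom ((Scheme.ΓSpecIso (CommRingCat.of (O₁ K))).inv.hom (s₁ K))) ≫ φ₁ =
      curve S M N ℓ hℓ T (u' ≫ b) (u' ≫ t)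
        (v'.left.appTop.hom ((Scheme.ΓSpecIso (CommRingCat.of (O₁ K))).inv.hom (s₁ K))) ≫ φ₂ := by
    rw [← hcurve, Category.assoc, Category.assoc, hB]
  have hnat := Scheme.ΓSpecIso_inv_naturality τ'
  have h1 : (Spec.map τ').appTop.hom
      ((Scheme.ΓSpecIso (CommRingCat.of (O₁ K))).inv.hom (s₁ K)) =
      (Scheme.ΓSpecIso (CommRingCat.of (O' K))).inv.hom (τ'.hom (s₁ K)) :=
    (congrArg (fun ψ => ψ.hom (s₁ K)) hnat).symm
  have hunit : IsUnit (v'.left.appTop.hom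
      ((Scheme.ΓSpecIso (CommRingCat.of (O₁ K))).inv.hom (s₁ K))) := by
    show IsUnit ((Spec.map τ').appTop.hom
      ((Scheme.ΓSpecIso (CommRingCat.of (O₁ K))).inv.hom (s₁ K)))
    rw [h1]
    exact (isUnit_τ_s₁ K).map _
  have hB'' : curve S M N ℓ hℓ T (u' ≫ b) (u' ≫ t)
        ((hunit.unit : (Γ((Over.mk (Spec.map j ≫ fK)).left, ⊤))ˣ) :
          Γ((Over.mk (Spec.map j ≫ fK)).left, ⊤)) ≫ φ₁ =
      curve S M N ℓ hℓ T (u' ≫ b) (u' ≫ t)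
        ((hunit.unit : (Γ((Over.mk (Spec.map j ≫ fK)).left, ⊤))ˣ) :
          Γ((Over.mk (Spec.map j ≫ fK)).left, ⊤)) ≫ φ₂ := by
    rw [hunit.unit_spec]
    exact hB'
  have E := step_unit S M N ℓ hℓ T φ₁ φ₂ bX h₁ h₂ (u' ≫ b) (u' ≫ t) hunit.unit hB''
  rw [← comp_lift, Category.assoc, Category.assoc] at E
  haveI : IsLocalHom j.hom := isLocalHom_ι' K
  apply Over.OverMorphism.ext
  apply hom_ext_of_local_injective j (ι'_injective K)
  exact congrArg (fun ψ => ψ.left) E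

include h h₁ h₂ in
theorem eq_of_adic : φ₁ = φ₂ := by
  apply Over.OverMorphism.ext
  apply hom_ext_of_fromSpecStalk
  intro p
  let P : Scheme.{u} := (AMonS S ↥N ⊗ T).left
  let z : Over.mk (P.fromSpecStalk p ≫ (AMonS S ↥N ⊗ T).hom) ⟶ AMonS S ↥N ⊗ T :=
    Over.homMk (P.fromSpecStalk p) rfl
  have hz : z = lift (z ≫ fst _ _) (z ≫ snd _ _) := by
    rw [← comp_lift, lift_fst_snd, Category.comp_id]
  have h1 := eq_on_local S M N ℓ hℓ T φ₁ φ₂ h bX h₁ h₂ (K := P.presheaf.stalk p)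
    (P.fromSpecStalk p ≫ (AMonS S ↥N ⊗ T).hom) (z ≫ fst _ _) (z ≫ snd _ _)
  rw [← hz] at h1
  exact congrArg (fun ψ => ψ.left) h1

end Curve

end Groth.Agent.Lib.Helper29.MagnetEtAdic
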