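import Mathlib
import Groth.Prelude.Def_Magnet2
import Groth.Agent.Lib.Helper29.MagnetDom

/-!
# Attractors of formally unramified equivariant maps (S18232, S18234) (helper29)
-/
set_option autoImplicit false
set_option maxHeartbeats 1600000
set_option linter.style.haveILetI false
universe u
open CategoryTheory CategoryTheory.Limits MonoidalCategory CartesianMonoidalCategory MonObj
  AlgebraicGeometry Opposite

noncomputable section

namespace Groth.Agent.Lib.Helper29.MagnetUnram

open Magnet

lemma ker_mul_ker_eq_bot_of_isPushout {A A' B B' : CommRingCat.{u}} {q : A ⟶ A'} {s : A ⟶ B}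
    {i : B ⟶ B'} {s' : A' ⟶ B'} (H : IsPushout s q i s') (hq : Function.Surjective q.hom)
    (hK : RingHom.ker q.hom * RingHom.ker q.hom = ⊥) :
    RingHom.ker i.hom * RingHom.ker i.hom = ⊥ := by
  set K := RingHom.ker q.hom with hKdef
  set J : Ideal B := Ideal.map s.hom K with hJ
  let g : A →+* B ⧸ J := (Ideal.Quotient.mk J).comp s.hom
  have hg : K ≤ RingHom.ker g := by
    intro x hx
    rw [RingHom.mem_ker]
    simp only [g, RingHom.comp_apply]
    rw [Ideal.Quotient.eq_zero_iff_mem]
    exact Ideal.mem_map_of_mem _ hx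
  let ψ : A' →+* B ⧸ J := RingHom.liftOfSurjective q.hom hq ⟨g, hg⟩
  have hψ : ψ.comp q.hom = g := RingHom.liftOfRightInverse_comp _ _ _ ⟨g, hg⟩
  have w : s ≫ CommRingCat.ofHom (Ideal.Quotient.mk J) = q ≫ CommRingCat.ofHom ψ := by
    ext x
    simp only [CommRingCat.hom_comp, CommRingCat.hom_ofHom, RingHom.comp_apply]
    have := congrArg (fun φ => φ x) hψ
    simp only [RingHom.comp_apply, g] at this
    exact this.symm
  have hd : i ≫ H.desc _ _ w = CommRingCat.ofHom (Ideal.Quotient.mk J) := H.inl_desc _ _ w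
  have hle : RingHom.ker i.hom ≤ J := by
    intro b hb
    rw [RingHom.mem_ker] at hb
    have := congrArg (fun φ => φ.hom b) hd
    simp only [CommRingCat.hom_comp, CommRingCat.hom_ofHom, RingHom.comp_apply] at this
    rw [hb, map_zero] at this
    exact Ideal.Quotient.eq_zero_iff_mem.mp this.symm
  have hJJ : J * J = ⊥ := by
    rw [hJ, ← Ideal.map_mul, hK, Ideal.map_bot]
  rw [eq_bot_iff, ← hJJ]
  exact Ideal.mul_mono hle hle

lemma spec_map_props {R S : CommRingCat.{u}} (φ : R ⟶ S) (hφ : Function.Surjective φ.hom)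
    (hker : RingHom.ker φ.hom ^ 2 = ⊥) :
    Function.Surjective (Spec.map φ).appTop.hom ∧
      RingHom.ker (Spec.map φ).appTop.hom * RingHom.ker (Spec.map φ).appTop.hom = ⊥ := by
  have nat := Scheme.ΓSpecIso_naturality φ
  have happ : ∀ x, (Scheme.ΓSpecIso S).hom.hom ((Spec.map φ).appTop.hom x) =
      φ.hom ((Scheme.ΓSpecIso R).hom.hom x) := fun x => by
    have := congrArg (fun ψ => ψ.hom x) nat
    simp only [CommRingCat.hom_comp, RingHom.coe_comp, Function.comp_apply] at this
    exact this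
  have hinjS : Function.Injective (Scheme.ΓSpecIso S).hom.hom :=
    (ConcreteCategory.bijective_of_isIso (Scheme.ΓSpecIso S).hom).1
  have hinjR : Function.Injective (Scheme.ΓSpecIso R).hom.hom :=
    (ConcreteCategory.bijective_of_isIso (Scheme.ΓSpecIso R).hom).1
  have hsurjR : Function.Surjective (Scheme.ΓSpecIso R).hom.hom :=
    (ConcreteCategory.bijective_of_isIso (Scheme.ΓSpecIso R).hom).2
  refine ⟨fun y => ?_, ?_⟩
  · obtain ⟨a, ha⟩ := hφ ((Scheme.ΓSpecIso S).hom.hom y)
    obtain ⟨x, rfl⟩ := hsurjR a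
    refine ⟨x, hinjS ?_⟩
    rw [happ, ha]
  · rw [eq_bot_iff, Ideal.mul_le]
    intro x hx y hy
    rw [RingHom.mem_ker] at hx hy
    rw [Ideal.mem_bot]
    apply hinjR
    rw [map_mul, map_zero]
    have hx' : (Scheme.ΓSpecIso R).hom.hom x ∈ RingHom.ker φ.hom := by
      rw [RingHom.mem_ker, ← happ, hx, map_zero]
    have hy' : (Scheme.ΓSpecIso R).hom.hom y ∈ RingHom.ker φ.hom := by
      rw [RingHom.mem_ker, ← happ, hy, map_zero]
    have : (Scheme.ΓSpecIso R).hom.hom x * (Scheme.ΓSpecIso R).hom.hom y ∈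
        RingHom.ker φ.hom ^ 2 := by
      rw [sq]; exact Ideal.mul_mem_mul hx' hy'
    rw [hker] at this
    exact this

lemma isPullback_whiskerLeft_left {S : Scheme.{u}} {G T T' : Over S} (t : T ⟶ T') :
    IsPullback (G ◁ t).left (snd G T).left (snd G T').left t.left := by
  have hright : IsPullback (fst G T').left (snd G T').left G.hom T'.hom :=
    IsPullback.of_hasPullback G.hom T'.hom
  have houter : IsPullback ((G ◁ t).left ≫ (fst G T').left) (snd G T).left G.hom
      (t.left ≫ T'.hom) := by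
    have h1 : (G ◁ t).left ≫ (fst G T').left = (fst G T).left := by
      rw [← Over.comp_left, whiskerLeft_fst]
    rw [h1, Over.w t]
    exact IsPullback.of_hasPullback G.hom T.hom
  have hcomm : (G ◁ t).left ≫ (snd G T').left = (snd G T).left ≫ t.left := by
    rw [← Over.comp_left, ← Over.comp_left, whiskerLeft_snd]
  exact IsPullback.of_right houter hcomm hright

theorem isNilpotent_ker_whiskerLeft {S : Scheme.{u}} (G : Over S) [IsAffineHom G.hom]
    {T T' : Over S} [IsAffine T.left] [IsAffine T'.left]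
    (t : T ⟶ T') [IsClosedImmersion t.left] (hq : Function.Surjective t.left.appTop.hom)
    (hK : RingHom.ker t.left.appTop.hom * RingHom.ker t.left.appTop.hom = ⊥) :
    IsClosedImmersion (G ◁ t).left ∧ IsNilpotent (G ◁ t).left.ker := by
  have H := isPullback_whiskerLeft_left (G := G) t
  haveI : IsClosedImmersion (G ◁ t).left :=
    MorphismProperty.of_isPullback (P := @IsClosedImmersion) H.flip inferInstance
  refine ⟨inferInstance, 2, ?_⟩
  haveI : IsAffineHom (snd G T').left := by
    change IsAffineHom (pullback.snd G.hom T'.hom)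
    exact MorphismProperty.pullback_snd (P := @IsAffineHom) _ _ inferInstance
  haveI : IsAffine (G ⊗ T').left := isAffine_of_isAffineHom (snd G T').left
  have HP := isPushout_appTop_of_isPullback H
  have hker := ker_mul_ker_eq_bot_of_isPushout HP hq hK
  refine Scheme.IdealSheafData.ext_of_iSup_eq_top
    (fun _ : Unit => ⟨⊤, isAffineOpen_top _⟩) (by simp) ?_
  intro _
  rw [Scheme.IdealSheafData.ideal_pow, Pi.pow_apply, Scheme.Hom.ker_apply,
    Scheme.IdealSheafData.zero_eq_bot, Scheme.IdealSheafData.ideal_bot, Pi.bot_apply, sq]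
  exact hker

/-- the core uniqueness statement -/
theorem attr_lift_unique (S : Scheme.{u}) (M : Type) [AddCommMonoid M] (N : AddSubmonoid M)
    {X Y : Over S} (aX : Magnet.MonAct (Magnet.AMonS S M) X)
    (aY : Magnet.MonAct (Magnet.AMonS S M) Y) (f : X ⟶ Y)
    (hf : Magnet.MonAct.IsEquivariant aX aY f) [FormallyUnramified f.left]
    {T T' : Over S} [IsAffine T.left] [IsAffine T'.left]
    (t : T ⟶ T') [IsClosedImmersion t.left] (hq : Function.Surjective t.left.appTop.hom)
    (hK : RingHom.ker t.left.appTop.hom * RingHom.ker t.left.appTop.hom = ⊥)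
    (l₁ l₂ : (Magnet.attr aX N).obj (op T'))
    (htop : (Magnet.attr aX N).map t.op l₁ = (Magnet.attr aX N).map t.op l₂)
    (hbot : (Magnet.MonAct.eqvHom.postcomp (Magnet.subAct S M N) f hf).app _ l₁ =
      (Magnet.MonAct.eqvHom.postcomp (Magnet.subAct S M N) f hf).app _ l₂) :
    l₁ = l₂ := by
  apply Subtype.ext
  have h1 : (AMonS S ↥N ◁ t) ≫ l₁.1 = (AMonS S ↥N ◁ t) ≫ l₂.1 := congrArg Subtype.val htop
  have h2 : l₁.1 ≫ f = l₂.1 ≫ f := congrArg Subtype.val hbot
  haveI : IsAffineHom (AMonS S ↥N).hom := MagnetDom.isAffineHom_AMonS_hom S ↥N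
  obtain ⟨hci, hnil⟩ := isNilpotent_ker_whiskerLeft (AMonS S ↥N) t hq hK
  apply Over.OverMorphism.ext
  exact FormallyUnramified.hom_ext (AMonS S ↥N ◁ t).left hnil f.left
    (by rw [← Over.comp_left, ← Over.comp_left, h1])
    (by rw [← Over.comp_left, ← Over.comp_left, h2])

theorem main18232 (S : Scheme.{u}) (M : Type) [AddCommGroup M]
    [AddGroup.FG M] (N : AddSubmonoid M) {X Y : Over S} (aX : Magnet.MonAct (Magnet.AMonS S M) X)
    (aY : Magnet.MonAct (Magnet.AMonS S M) Y) (f : X ⟶ Y) (hf : Magnet.MonAct.IsEquivariant aX aY f)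
    [FormallyUnramified f.left] (A : Type u) [CommRing A] (I : Ideal A) (hI : I ^ 2 = ⊥)
    (str : Spec (CommRingCat.of A) ⟶ S) (l₁ l₂ : (Magnet.attr aX N).obj (op (Over.mk str)))
    (htop : (Magnet.attr aX N).map (Over.homMk (Spec.map (CommRingCat.ofHom (Ideal.Quotient.mk I))) rfl :
        Over.mk (Spec.map (CommRingCat.ofHom (Ideal.Quotient.mk I)) ≫ str) ⟶ Over.mk str).op l₁ =
      (Magnet.attr aX N).map (Over.homMk (Spec.map (CommRingCat.ofHom (Ideal.Quotient.mk I))) rfl :
        Over.mk (Spec.map (CommRingCat.ofHom (Ideal.Quotient.mk I)) ≫ str) ⟶ Over.mk str).op l₂)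
    (hbot : (Magnet.MonAct.eqvHom.postcomp (Magnet.subAct S M N) f hf).app _ l₁ =
      (Magnet.MonAct.eqvHom.postcomp (Magnet.subAct S M N) f hf).app _ l₂) :
    l₁ = l₂ := by
  have hsurj : Function.Surjective (CommRingCat.ofHom (Ideal.Quotient.mk I)).hom :=
    Ideal.Quotient.mk_surjective
  have hker : RingHom.ker (CommRingCat.ofHom (Ideal.Quotient.mk I)).hom ^ 2 = ⊥ := by
    rw [CommRingCat.hom_ofHom, Ideal.mk_ker, hI]
  obtain ⟨hq, hK⟩ := spec_map_props _ hsurj hker
  haveI : IsAffine (Over.mk str).left := by change IsAffine (Spec _); infer_instance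
  haveI : IsAffine (Over.mk (Spec.map (CommRingCat.ofHom (Ideal.Quotient.mk I)) ≫ str)).left := by
    change IsAffine (Spec _); infer_instance
  haveI : IsClosedImmersion (Over.homMk (Spec.map (CommRingCat.ofHom (Ideal.Quotient.mk I))) rfl :
        Over.mk (Spec.map (CommRingCat.ofHom (Ideal.Quotient.mk I)) ≫ str) ⟶ Over.mk str).left := by
    change IsClosedImmersion (Spec.map (CommRingCat.ofHom (Ideal.Quotient.mk I)))
    exact IsClosedImmersion.spec_of_surjective _ Ideal.Quotient.mk_surjective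
  exact attr_lift_unique S M N aX aY f hf _ hq hK l₁ l₂ htop hbot

theorem main18234 (S : Scheme.{u}) (M : Type) [AddCommGroup M]
    [AddGroup.FG M] (N : AddSubmonoid M) {X Y : Over S} (aX : Magnet.MonAct (Magnet.AMonS S M) X)
    (aY : Magnet.MonAct (Magnet.AMonS S M) Y) (f : X ⟶ Y) (hf : Magnet.MonAct.IsEquivariant aX aY f)
    [FormallyUnramified f.left] {ZX ZY : Over S} (eX : (Magnet.attr aX N).RepresentableBy ZX)
    (eY : (Magnet.attr aY N).RepresentableBy ZY)
    (j : ZX ⟶ ZY) (hj : ∀ (T : Over S) (z : T ⟶ ZX),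
      eY.homEquiv (z ≫ j) = (Magnet.MonAct.eqvHom.postcomp (Magnet.subAct S M N) f hf).app (op T) (eX.homEquiv z)) :
    FormallyUnramified j.left := by
  apply FormallyUnramified.of_hom_ext
  intro R S' φ hφ hker g₁ g₂ hg hgj
  have hw : g₂ ≫ ZX.hom = g₁ ≫ ZX.hom := by
    rw [← Over.w j, ← Category.assoc, ← Category.assoc, hgj]
  let T' : Over S := Over.mk (g₁ ≫ ZX.hom)
  let T : Over S := Over.mk (Spec.map φ ≫ g₁ ≫ ZX.hom)
  let t : T ⟶ T' := Over.homMk (Spec.map φ) rfl
  let z₁ : T' ⟶ ZX := Over.homMk g₁ rfl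
  let z₂ : T' ⟶ ZX := Over.homMk g₂ hw
  obtain ⟨hq, hK⟩ := spec_map_props φ hφ hker
  haveI : IsAffine T'.left := by change IsAffine (Spec _); infer_instance
  haveI : IsAffine T.left := by change IsAffine (Spec _); infer_instance
  haveI : IsClosedImmersion t.left := by
    change IsClosedImmersion (Spec.map φ)
    exact IsClosedImmersion.spec_of_surjective _ hφ
  have htz : t ≫ z₁ = t ≫ z₂ := by
    apply Over.OverMorphism.ext
    exact hg
  have hzj : z₁ ≫ j = z₂ ≫ j := by
    apply Over.OverMorphism.ext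
    exact hgj
  have key : eX.homEquiv z₁ = eX.homEquiv z₂ := by
    refine attr_lift_unique S M N aX aY f hf t hq hK _ _ ?_ ?_
    · rw [← eX.homEquiv_comp, ← eX.homEquiv_comp, htz]
    · rw [← hj, ← hj, hzj]
  have hz : z₁ = z₂ := eX.homEquiv.injective key
  exact congrArg (fun z => z.left) hz

end Groth.Agent.Lib.Helper29.MagnetUnram
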