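import Mathlib
import Groth.Prelude.Def_Magnet4
import Groth.Agent.Lib.Helper29.MagnetEtIdeal
import Groth.Agent.Lib.Helper29.MagnetEtAdic
import Groth.Agent.Lib.Helper29.MagnetUnram
import Groth.Agent.Lib.Helper15.ThickLift

/-!
# Étale base change of attractors: the affine core (helper29, for S18302)
-/
set_option autoImplicit false
set_option maxHeartbeats 1600000
set_option linter.style.haveILetI false
universe u
open CategoryTheory CategoryTheory.Limits MonoidalCategory CartesianMonoidalCategory MonObj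
  AlgebraicGeometry Opposite

noncomputable section

namespace Groth.Agent.Lib.Helper29.MagnetEtCore

open Magnet MagnetDom MagnetHomog MagnetExpand MagnetEtRing MagnetEtIdeal MagnetEtAdic MagnetCoord
  Groth.Agent.Lib.Helper15

section Gen
variable {S : Scheme.{u}}

theorem comp_left_app {A B C : Over S} (p : A ⟶ B) (q : B ⟶ C) (x : Γ(C.left, ⊤)) :
    (p ≫ q).left.appTop.hom x = p.left.appTop.hom (q.left.appTop.hom x) := by
  rw [Over.comp_left, Scheme.Hom.comp_appTop]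
  rfl

theorem scheme_comp_app {A B C : Scheme.{u}} (p : A ⟶ B) (q : B ⟶ C) (x : Γ(C, ⊤)) :
    (p ≫ q).appTop.hom x = p.appTop.hom (q.appTop.hom x) := by
  rw [Scheme.Hom.comp_appTop]
  rfl

variable {X U : Over S} (f : U ⟶ X) [Etale f.left]

theorem lift_unique {Y Y' : Over S} (i : Y' ⟶ Y) [IsClosedImmersion i.left] [Surjective i.left]
    (a b : Y ⟶ U) (hab : a ≫ f = b ≫ f) (hi : i ≫ a = i ≫ b) : a = b := by
  apply Over.OverMorphism.ext
  exact ThickLift.unique_lift f.left (a.left ≫ f.left) i.left a.left b.left rfl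
    (congrArg (fun ψ => ψ.left) hab).symm (congrArg (fun ψ => ψ.left) hi)

theorem lift_exists {Y Y' : Over S} (i : Y' ⟶ Y) [IsClosedImmersion i.left] [Surjective i.left]
    (g : Y ⟶ X) (a₀ : Y' ⟶ U) (h₀ : a₀ ≫ f = i ≫ g) :
    ∃ a : Y ⟶ U, a ≫ f = g ∧ i ≫ a = a₀ := by
  obtain ⟨al, h1, h2⟩ := ThickLift.exists_lift f.left g.left i.left a₀.left
    (congrArg (fun ψ => ψ.left) h₀)
  refine ⟨Over.homMk al ?_, ?_, ?_⟩
  · rw [← Over.w f, ← Category.assoc, h1, Over.w g]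
  · apply Over.OverMorphism.ext
    exact h1
  · apply Over.OverMorphism.ext
    exact h2

theorem whiskerLeft_props (G : Over S) {Y Y' : Over S} (i : Y' ⟶ Y) [IsClosedImmersion i.left]
    [Surjective i.left] : IsClosedImmersion (G ◁ i).left ∧ Surjective (G ◁ i).left := by
  have hpb := MagnetUnram.isPullback_whiskerLeft_left (G := G) i
  exact ⟨MorphismProperty.of_isPullback (P := @IsClosedImmersion) hpb.flip inferInstance,
    MorphismProperty.of_isPullback (P := @Surjective) hpb.flip inferInstance⟩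

end Gen

section Core
variable (S : Scheme.{u}) (M : Type) [AddCommGroup M] (N : AddSubmonoid M) (ℓ : M →+ ℤ)
  (hℓ : ∀ n ∈ N, 0 ≤ ℓ n) (T : Over S) [IsAffine T.left]

theorem exists_actk (k : ℕ) :
    ∃ ak : AMonS S M ⊗ Pk (AMonS S ↥N ⊗ T) (Jd S N ℓ hℓ T k) ⟶
        Pk (AMonS S ↥N ⊗ T) (Jd S N ℓ hℓ T k),
      ak ≫ jk (AMonS S ↥N ⊗ T) (Jd S N ℓ hℓ T k) =
        (AMonS S M ◁ jk (AMonS S ↥N ⊗ T) (Jd S N ℓ hℓ T k)) ≫
          ((subAct S M N).prod (MonAct.trivial (AMonS S M) T)).act :=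
  exists_fac (AMonS S ↥N ⊗ T) (Jd S N ℓ hℓ T k) _
    (act_kills S M N T ℓ hℓ k (jk (AMonS S ↥N ⊗ T) (Jd S N ℓ hℓ T k))
      (fun a ha => (jk_app_eq_zero_iff (AMonS S ↥N ⊗ T) _ a).2 ha))

variable {X U : Over S} (bX : MonAct (AMonS S M) X) (bU : MonAct (AMonS S M) U)
  (f : U ⟶ X) [Etale f.left] (hf : MonAct.IsEquivariant bU bX f)


include hf in
theorem core {V : Scheme.{u}} [IsAffine V] (v : V ⟶ S) [Mono v] [IsAffine U.left]
    (kU : U.left ⟶ V) (hkU : U.hom = kU ≫ v) (hT : T.left ⟶ V) (hhT : T.hom = hT ≫ v)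
    (φ : AMonS S ↥N ⊗ T ⟶ X)
    (hφ : MonAct.IsEquivariant ((subAct S M N).prod (MonAct.trivial (AMonS S M) T)) bX φ)
    (ψ' : AMonS S ↥N ⊗ T ⟶ U)
    (hψ : MonAct.IsEquivariant ((subAct S M N).prod (MonAct.trivial (AMonS S M) T)) bU ψ')
    (h0 : jk (AMonS S ↥N ⊗ T) (Jd S N ℓ hℓ T 1) ≫ ψ' ≫ f =
      jk (AMonS S ↥N ⊗ T) (Jd S N ℓ hℓ T 1) ≫ φ) :
    ∃ φt : AMonS S ↥N ⊗ T ⟶ U,
      MonAct.IsEquivariant ((subAct S M N).prod (MonAct.trivial (AMonS S M) T)) bU φt ∧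
      φt ≫ f = φ ∧
      jk (AMonS S ↥N ⊗ T) (Jd S N ℓ hℓ T 1) ≫ φt =
        jk (AMonS S ↥N ⊗ T) (Jd S N ℓ hℓ T 1) ≫ ψ' := by
  classical
  have hφ' : ((subAct S M N).prod (MonAct.trivial (AMonS S M) T)).act ≫ φ = ((AMonS S M) ◁ φ) ≫ bX.act := hφ
  have hψ' : ((subAct S M N).prod (MonAct.trivial (AMonS S M) T)).act ≫ ψ' = ((AMonS S M) ◁ ψ') ≫ bU.act := hψ
  have hf' : bU.act ≫ f = ((AMonS S M) ◁ f) ≫ bX.act := hf
  have hle : ∀ k : ℕ, (Jd S N ℓ hℓ T) (k + 1) ≤ (Jd S N ℓ hℓ T) 1 := fun k => Jd_anti S N ℓ hℓ T (Nat.le_add_left 1 k)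
  have hιp : ∀ k, IsClosedImmersion (trk (AMonS S ↥N ⊗ T) (hle k)).left ∧ Surjective (trk (AMonS S ↥N ⊗ T) (hle k)).left :=
    fun k => trk_props (AMonS S ↥N ⊗ T) (hle k) (fun x hx => Jd_rad S N ℓ hℓ T (k + 1) x hx)
  -- the lifts
  have hex : ∀ k, ∃ θ : Pk (AMonS S ↥N ⊗ T) ((Jd S N ℓ hℓ T) (k + 1)) ⟶ U, θ ≫ f = jk (AMonS S ↥N ⊗ T) ((Jd S N ℓ hℓ T) (k + 1)) ≫ φ ∧
      trk (AMonS S ↥N ⊗ T) (hle k) ≫ θ = jk (AMonS S ↥N ⊗ T) ((Jd S N ℓ hℓ T) 1) ≫ ψ' := by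
    intro k
    haveI := (hιp k).1
    haveI := (hιp k).2
    refine lift_exists f (trk (AMonS S ↥N ⊗ T) (hle k)) (jk (AMonS S ↥N ⊗ T) ((Jd S N ℓ hℓ T) (k + 1)) ≫ φ) (jk (AMonS S ↥N ⊗ T) ((Jd S N ℓ hℓ T) 1) ≫ ψ') ?_
    rw [Category.assoc, h0, ← Category.assoc, trk_jk]
  choose θ hθf hθι using hex
  -- compatibility
  have hcompat : ∀ (k k' : ℕ) (hkk : k ≤ k'),
      trk (AMonS S ↥N ⊗ T) (Jd_anti S N ℓ hℓ T (Nat.add_le_add_right hkk 1)) ≫ θ k' = θ k := by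
    intro k k' hkk
    haveI := (hιp k).1
    haveI := (hιp k).2
    apply lift_unique f (trk (AMonS S ↥N ⊗ T) (hle k))
    · rw [Category.assoc, hθf, hθf, ← Category.assoc, trk_jk]
    · have e : trk (AMonS S ↥N ⊗ T) (hle k) ≫ trk (AMonS S ↥N ⊗ T) (Jd_anti S N ℓ hℓ T (Nat.add_le_add_right hkk 1)) =
          trk (AMonS S ↥N ⊗ T) (hle k') := by
        rw [← cancel_mono (jk (AMonS S ↥N ⊗ T) ((Jd S N ℓ hℓ T) (k' + 1))), Category.assoc, trk_jk, trk_jk, trk_jk]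
      rw [← Category.assoc, e, hθι, hθι]
  -- the actions on the thickenings
  have hact : ∀ k, ∃ ak : (AMonS S M) ⊗ Pk (AMonS S ↥N ⊗ T) ((Jd S N ℓ hℓ T) (k + 1)) ⟶ Pk (AMonS S ↥N ⊗ T) ((Jd S N ℓ hℓ T) (k + 1)),
      ak ≫ jk (AMonS S ↥N ⊗ T) ((Jd S N ℓ hℓ T) (k + 1)) = ((AMonS S M) ◁ jk (AMonS S ↥N ⊗ T) ((Jd S N ℓ hℓ T) (k + 1))) ≫ ((subAct S M N).prod (MonAct.trivial (AMonS S M) T)).act :=
    fun k => exists_actk S M N ℓ hℓ T (k + 1)
  choose ak hak using hact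
  obtain ⟨a0, ha0⟩ := exists_actk S M N ℓ hℓ T 1
  -- equivariance of the lifts
  have heqv : ∀ k, ak k ≫ θ k = ((AMonS S M) ◁ θ k) ≫ bU.act := by
    intro k
    haveI := (hιp k).1
    haveI := (hιp k).2
    obtain ⟨hci, hsu⟩ := whiskerLeft_props (AMonS S M) (trk (AMonS S ↥N ⊗ T) (hle k))
    haveI := hci
    haveI := hsu
    apply lift_unique f ((AMonS S M) ◁ trk (AMonS S ↥N ⊗ T) (hle k))
    · calc (ak k ≫ θ k) ≫ f = ak k ≫ jk (AMonS S ↥N ⊗ T) ((Jd S N ℓ hℓ T) (k + 1)) ≫ φ := by rw [Category.assoc, hθf]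
        _ = ((AMonS S M) ◁ jk (AMonS S ↥N ⊗ T) ((Jd S N ℓ hℓ T) (k + 1))) ≫ ((subAct S M N).prod (MonAct.trivial (AMonS S M) T)).act ≫ φ := by
          rw [← Category.assoc, hak, Category.assoc]
        _ = ((AMonS S M) ◁ jk (AMonS S ↥N ⊗ T) ((Jd S N ℓ hℓ T) (k + 1))) ≫ ((AMonS S M) ◁ φ) ≫ bX.act := by rw [hφ']
        _ = ((AMonS S M) ◁ (θ k ≫ f)) ≫ bX.act := by
          rw [hθf, MonoidalCategory.whiskerLeft_comp, Category.assoc]
        _ = (((AMonS S M) ◁ θ k) ≫ bU.act) ≫ f := by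
          rw [MonoidalCategory.whiskerLeft_comp, Category.assoc, Category.assoc, hf']
    · have e1 : ((AMonS S M) ◁ trk (AMonS S ↥N ⊗ T) (hle k)) ≫ ak k = a0 ≫ trk (AMonS S ↥N ⊗ T) (hle k) := by
        rw [← cancel_mono (jk (AMonS S ↥N ⊗ T) ((Jd S N ℓ hℓ T) (k + 1))), Category.assoc, hak, ← Category.assoc,
          ← MonoidalCategory.whiskerLeft_comp, trk_jk, Category.assoc, trk_jk, ha0]
      calc ((AMonS S M) ◁ trk (AMonS S ↥N ⊗ T) (hle k)) ≫ ak k ≫ θ k = (a0 ≫ trk (AMonS S ↥N ⊗ T) (hle k)) ≫ θ k := by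
            rw [← Category.assoc, e1]
        _ = a0 ≫ jk (AMonS S ↥N ⊗ T) ((Jd S N ℓ hℓ T) 1) ≫ ψ' := by rw [Category.assoc, hθι]
        _ = ((AMonS S M) ◁ jk (AMonS S ↥N ⊗ T) ((Jd S N ℓ hℓ T) 1)) ≫ ((subAct S M N).prod (MonAct.trivial (AMonS S M) T)).act ≫ ψ' := by
          rw [← Category.assoc, ha0, Category.assoc]
        _ = ((AMonS S M) ◁ jk (AMonS S ↥N ⊗ T) ((Jd S N ℓ hℓ T) 1)) ≫ ((AMonS S M) ◁ ψ') ≫ bU.act := by rw [hψ']
        _ = ((AMonS S M) ◁ (trk (AMonS S ↥N ⊗ T) (hle k) ≫ θ k)) ≫ bU.act := by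
          rw [hθι, MonoidalCategory.whiskerLeft_comp, Category.assoc]
        _ = ((AMonS S M) ◁ trk (AMonS S ↥N ⊗ T) (hle k)) ≫ ((AMonS S M) ◁ θ k) ≫ bU.act := by
          rw [MonoidalCategory.whiskerLeft_comp, Category.assoc]
  -- ring level
  have hsep : ∀ a : Γ((AMonS S ↥N ⊗ T).left, ⊤),
      (∀ k, (jk (AMonS S ↥N ⊗ T) ((Jd S N ℓ hℓ T) (k + 1))).left.appTop.hom a = 0) → a = 0 := by
    intro a ha
    apply Jd_sep S N ℓ hℓ T a
    intro k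
    exact Jd_anti S N ℓ hℓ T (Nat.le_succ k) ((jk_app_eq_zero_iff (AMonS S ↥N ⊗ T) _ a).1 (ha k))
  have hF2 : ∀ (k k' : ℕ) (hkk : k ≤ k') (a : Γ((AMonS S ↥N ⊗ T).left, ⊤)) (b : Γ(U.left, ⊤)),
      (jk (AMonS S ↥N ⊗ T) ((Jd S N ℓ hℓ T) (k' + 1))).left.appTop.hom a = (θ k').left.appTop.hom b →
      (jk (AMonS S ↥N ⊗ T) ((Jd S N ℓ hℓ T) (k + 1))).left.appTop.hom a = (θ k).left.appTop.hom b := by
    intro k k' hkk a b hab
    rw [← trk_jk (AMonS S ↥N ⊗ T) (Jd_anti S N ℓ hℓ T (Nat.add_le_add_right hkk 1)), ← hcompat k k' hkk,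
      comp_left_app, comp_left_app, hab]
  have hstar : ∀ (k : ℕ) (b : Γ(U.left, ⊤)) (a : Γ((AMonS S ↥N ⊗ T).left, ⊤)),
      (jk (AMonS S ↥N ⊗ T) ((Jd S N ℓ hℓ T) (k + 1))).left.appTop.hom a = (θ k).left.appTop.hom b →
      ∀ d : Multiplicative ↥N,
        (θ k).left.appTop.hom (kappa S U M (AddMonoidHom.toMultiplicative N.subtype d)
          (bU.act.left.appTop.hom b)) =
        (jk (AMonS S ↥N ⊗ T) ((Jd S N ℓ hℓ T) (k + 1))).left.appTop.hom ((pN S T ↥N).appTop.hom (mon.{u} d) *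
          (qN S T ↥N).appTop.hom (kappa S T ↥N d a)) := by
    intro k b a hab d
    have h1 : (ak k ≫ θ k).left.appTop.hom b = (((AMonS S M) ◁ θ k) ≫ bU.act).left.appTop.hom b := by
      rw [heqv k]
    have hL : (ak k ≫ θ k).left.appTop.hom b =
        ((AMonS S M) ◁ jk (AMonS S ↥N ⊗ T) ((Jd S N ℓ hℓ T) (k + 1))).left.appTop.hom (((subAct S M N).prod (MonAct.trivial (AMonS S M) T)).act.left.appTop.hom a) := by
      rw [comp_left_app, ← hab, ← comp_left_app, hak k, comp_left_app]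
    rw [hL, comp_left_app] at h1
    have h2 := congrArg (kappa S (Pk (AMonS S ↥N ⊗ T) ((Jd S N ℓ hℓ T) (k + 1))) M
      (AddMonoidHom.toMultiplicative N.subtype d)) h1
    rw [kappa_nat, kappa_nat, kappa_act] at h2
    exact h2.symm
  have hd : ∀ b : Γ(U.left, ⊤), ∃ a : Γ((AMonS S ↥N ⊗ T).left, ⊤),
      ∀ k, (θ k).left.appTop.hom b = (jk (AMonS S ↥N ⊗ T) ((Jd S N ℓ hℓ T) (k + 1))).left.appTop.hom a := by
    intro b
    obtain ⟨F, hF0, -⟩ := exists_kappa_expansion S U M (bU.act.left.appTop.hom b)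
    choose ac hac using fun k => jk_app_surjective (AMonS S ↥N ⊗ T) ((Jd S N ℓ hℓ T) (k + 1)) ((θ k).left.appTop.hom b)
    have hdia : ∀ (k : ℕ) (d : Multiplicative ↥N),
        AddMonoidHom.toMultiplicative N.subtype d ∉ F → lv N ℓ d < ((k + 1 : ℕ) : ℤ) →
        kappa S T ↥N d (ac k) = 0 := by
      intro k d hdF hlt
      have h1 := hstar k b (ac k) (hac k) d
      rw [hF0 _ hdF, map_zero] at h1
      have h2 : (pN S T ↥N).appTop.hom (mon.{u} d) *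
          (qN S T ↥N).appTop.hom (kappa S T ↥N d (ac k)) ∈ (Jd S N ℓ hℓ T) (k + 1) :=
        (jk_app_eq_zero_iff (AMonS S ↥N ⊗ T) _ _).1 h1.symm
      have h3 := h2 d hlt
      rwa [kappa_gen_self] at h3
    have hheart : ∀ (k k' : ℕ) (hkk : k ≤ k') (d : Multiplicative ↥N),
        lv N ℓ d < ((k + 1 : ℕ) : ℤ) → kappa S T ↥N d (ac k) = kappa S T ↥N d (ac k') := by
      intro k k' hkk d hlt
      have h1 : (jk (AMonS S ↥N ⊗ T) ((Jd S N ℓ hℓ T) (k + 1))).left.appTop.hom (ac k') = (θ k).left.appTop.hom b :=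
        hF2 k k' hkk (ac k') b (hac k')
      have h2 : ac k - ac k' ∈ (Jd S N ℓ hℓ T) (k + 1) := by
        rw [← jk_app_eq_zero_iff (AMonS S ↥N ⊗ T), map_sub, hac k, h1, sub_self]
      have h3 := h2 d hlt
      rw [map_sub, sub_eq_zero] at h3
      exact h3
    obtain ⟨FN, hFN⟩ : ∃ FN : Finset (Multiplicative ↥N),
        ∀ d, d ∈ FN ↔ AddMonoidHom.toMultiplicative N.subtype d ∈ F :=
      ⟨F.preimage (AddMonoidHom.toMultiplicative N.subtype)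
        (MagnetCoordMonAlg.toMul_injective N).injOn, fun d => Finset.mem_preimage⟩
    obtain ⟨c, hc⟩ : ∃ c : Multiplicative ↥N → Γ(T.left, ⊤),
        ∀ d, c d = kappa S T ↥N d (ac (lv N ℓ d).toNat) := ⟨_, fun d => rfl⟩
    refine ⟨∑ d ∈ FN, (pN S T ↥N).appTop.hom (mon.{u} d) * (qN S T ↥N).appTop.hom (c d),
      fun k => ?_⟩
    rw [← hac k]
    have hmem : ac k - ∑ d ∈ FN, (pN S T ↥N).appTop.hom (mon.{u} d) *
        (qN S T ↥N).appTop.hom (c d) ∈ (Jd S N ℓ hℓ T) (k + 1) := by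
      intro d hlt
      rw [map_sub, sub_eq_zero]
      by_cases hdF : d ∈ FN
      · rw [kappa_sum_mem S T ↥N FN c d hdF, hc]
        have hle' : (lv N ℓ d).toNat ≤ k := by
          apply Int.toNat_le.2
          push_cast at hlt
          omega
        have hlt' : lv N ℓ d < (((lv N ℓ d).toNat + 1 : ℕ) : ℤ) := by
          have := Int.self_le_toNat (lv N ℓ d)
          push_cast
          omega
        exact (hheart _ k hle' d hlt').symm
      · rw [kappa_sum_not_mem S T ↥N FN c d hdF]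
        exact hdia k d (fun hh => hdF ((hFN d).2 hh)) hlt
    have h5 := (jk_app_eq_zero_iff (AMonS S ↥N ⊗ T) _ _).2 hmem
    rw [map_sub, sub_eq_zero] at h5
    exact h5
  obtain ⟨Θ, hΘ⟩ := exists_ringHom_of_compatible
    (fun k => (jk (AMonS S ↥N ⊗ T) ((Jd S N ℓ hℓ T) (k + 1))).left.appTop.hom) hsep
    (fun k => (θ k).left.appTop.hom) hd
  obtain ⟨φl, hφl⟩ := exists_hom_appTop_eq (Y := (AMonS S ↥N ⊗ T).left) (X' := U.left) (CommRingCat.ofHom Θ)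
  have hjφ : ∀ k, (jk (AMonS S ↥N ⊗ T) ((Jd S N ℓ hℓ T) (k + 1))).left ≫ φl = (θ k).left := by
    intro k
    apply ext_of_isAffine
    rw [Scheme.Hom.comp_appTop, hφl]
    apply CommRingCat.hom_ext
    apply RingHom.ext
    intro b
    exact hΘ k b
  have hmor : ∀ k, (θ k).left ≫ kU =
      (jk (AMonS S ↥N ⊗ T) ((Jd S N ℓ hℓ T) (k + 1))).left ≫ (snd (AMonS S ↥N) T).left ≫ hT := by
    intro k
    rw [← cancel_mono v, Category.assoc, ← hkU, Over.w (θ k), Category.assoc, Category.assoc,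
      ← hhT, Over.w (snd (AMonS S ↥N) T), Over.w (jk (AMonS S ↥N ⊗ T) ((Jd S N ℓ hℓ T) (k + 1)))]
  have hover : φl ≫ U.hom = (AMonS S ↥N ⊗ T).hom := by
    have e : φl ≫ kU = (snd (AMonS S ↥N) T).left ≫ hT := by
      apply ext_of_isAffine
      apply CommRingCat.hom_ext
      apply RingHom.ext
      intro r
      have hsub : (φl ≫ kU).appTop.hom r - ((snd (AMonS S ↥N) T).left ≫ hT).appTop.hom r = 0 := by
        apply hsep
        intro k
        rw [map_sub, sub_eq_zero, ← scheme_comp_app, ← scheme_comp_app, ← Category.assoc, hjφ k,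
          hmor k]
      exact sub_eq_zero.1 hsub
    rw [hkU, ← Category.assoc, e, Category.assoc, ← hhT, Over.w]
  obtain ⟨φt, hφt⟩ : ∃ φt : (AMonS S ↥N ⊗ T) ⟶ U, φt.left = φl := ⟨Over.homMk φl hover, rfl⟩
  have hjφ' : ∀ k, jk (AMonS S ↥N ⊗ T) ((Jd S N ℓ hℓ T) (k + 1)) ≫ φt = θ k := by
    intro k
    apply Over.OverMorphism.ext
    rw [Over.comp_left, hφt]
    exact hjφ k
  have hmor2 : ∀ k, ((AMonS S M) ◁ jk (AMonS S ↥N ⊗ T) ((Jd S N ℓ hℓ T) (k + 1))) ≫ ((subAct S M N).prod (MonAct.trivial (AMonS S M) T)).act ≫ φt =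
      ((AMonS S M) ◁ jk (AMonS S ↥N ⊗ T) ((Jd S N ℓ hℓ T) (k + 1))) ≫ ((AMonS S M) ◁ φt) ≫ bU.act := by
    intro k
    calc ((AMonS S M) ◁ jk (AMonS S ↥N ⊗ T) ((Jd S N ℓ hℓ T) (k + 1))) ≫ ((subAct S M N).prod (MonAct.trivial (AMonS S M) T)).act ≫ φt
        = ak k ≫ jk (AMonS S ↥N ⊗ T) ((Jd S N ℓ hℓ T) (k + 1)) ≫ φt := by rw [← Category.assoc, ← hak k, Category.assoc]
      _ = ak k ≫ θ k := by rw [hjφ' k]
      _ = ((AMonS S M) ◁ θ k) ≫ bU.act := heqv k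
      _ = ((AMonS S M) ◁ jk (AMonS S ↥N ⊗ T) ((Jd S N ℓ hℓ T) (k + 1))) ≫ ((AMonS S M) ◁ φt) ≫ bU.act := by
        rw [← hjφ' k, MonoidalCategory.whiskerLeft_comp, Category.assoc]
  have hφteq : MonAct.IsEquivariant ((subAct S M N).prod (MonAct.trivial (AMonS S M) T)) bU φt := by
    show ((subAct S M N).prod (MonAct.trivial (AMonS S M) T)).act ≫ φt = ((AMonS S M) ◁ φt) ≫ bU.act
    apply Over.OverMorphism.ext
    apply ext_of_isAffine
    apply CommRingCat.hom_ext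
    apply RingHom.ext
    intro b
    have hsub : (((subAct S M N).prod (MonAct.trivial (AMonS S M) T)).act ≫ φt).left.appTop.hom b -
        (((AMonS S M) ◁ φt) ≫ bU.act).left.appTop.hom b = 0 := by
      apply eq_zero_of_kappa S (AMonS S ↥N ⊗ T) M
      intro m
      apply hsep
      intro k
      rw [← kappa_nat S (AMonS S ↥N ⊗ T) M (jk (AMonS S ↥N ⊗ T) ((Jd S N ℓ hℓ T) (k + 1))) m, map_sub, ← comp_left_app, ← comp_left_app,
        hmor2 k, sub_self, map_zero]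
    exact sub_eq_zero.1 hsub
  refine ⟨φt, hφteq, ?_, ?_⟩
  · exact eq_of_adic S M N ℓ hℓ T (φt ≫ f) φ
      (fun k => by rw [← Category.assoc, hjφ' k, hθf k]) bX (hφteq.comp hf) hφ
  · rw [← hθι 0, ← hjφ' 0, ← Category.assoc, trk_jk]

end Core

end Groth.Agent.Lib.Helper29.MagnetEtCore
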