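import Mathlib
import Groth.Prelude.Def_Magnet4
import Groth.Agent.Lib.Helper29.MagnetBB
import Groth.Agent.Lib.Helper29.MagnetDom
import Groth.Agent.Lib.Helper29.MagnetCoord
import Groth.Agent.Lib.Helper29.MagnetDirected

/-!
# Attractors of equivariant open immersions (helper29, for S18235)

For an equivariant open immersion `f : X ⟶ Y` the square `X^N → Y^N`, `X^N → X`, `Y^N → Y`
(evaluation at the face point `e` of `A(N)`: `Xⁿ ↦ [n ∈ N*]`) is cartesian: an equivariant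
`φ : A(N)_T → Y` whose value at the face point lies in `X` factors through `X`
(`range_subset`).  The proof is on field-valued points: for a `K`-point `(χ, t)` of `A(N)_T` the
map `Ψ : A(N)_K → A(N)_T`, `a ↦ (a χ, t)`, sends the `K`-point `c = [n ∈ N*] χ(n)⁻¹` to the face
point; `(Ψ ≫ φ)⁻¹(X)` is an open neighbourhood of `c`, hence (as `ℤ[N] → ℤ[M]` is injective) it
contains a point `g` of the group `D(M)_K`, and `φ(g χ, t) = g • φ(χ, t)` lies in `X`.
-/
set_option autoImplicit false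
set_option maxHeartbeats 1600000
set_option linter.style.haveILetI false
universe u
open CategoryTheory CategoryTheory.Limits MonoidalCategory CartesianMonoidalCategory MonObj
  AlgebraicGeometry Opposite

noncomputable section

namespace Groth.Agent.Lib.Helper29.MagnetOpenImm

open Magnet MagnetFixAlg MagnetFix MagnetComapIso MagnetBBPts

/-! ### General lemmas -/

theorem exists_factor_of_range {S : Scheme.{u}} {X Y T : Over S} (f : X ⟶ Y)
    [IsOpenImmersion f.left] (q : T ⟶ Y) (h : Set.range q.left ⊆ Set.range f.left) :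
    ∃ x : T ⟶ X, x ≫ f = q := by
  refine ⟨Over.homMk (IsOpenImmersion.lift f.left q.left h) ?_, ?_⟩
  · rw [← Over.w f, ← Category.assoc, IsOpenImmersion.lift_fac, Over.w q]
  · apply Over.OverMorphism.ext
    show IsOpenImmersion.lift f.left q.left h ≫ f.left = q.left
    exact IsOpenImmersion.lift_fac _ _ _

theorem exists_mem_of_injective {P Q : Scheme.{u}} [IsAffine Q] [CompactSpace P] (i : P ⟶ Q)
    (hi : Function.Injective i.appTop.hom) (W : Q.Opens) (p : Q) (hp : p ∈ W) :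
    ∃ y : P, i y ∈ W := by
  obtain ⟨h, hle, hmem⟩ := (isAffineOpen_top Q).exists_basicOpen_le (V := W) ⟨p, hp⟩ trivial
  have hnn : ¬ IsNilpotent h := by
    intro hn
    have hb := (Scheme.isNilpotent_iff_basicOpen_eq_bot h).mp hn
    rw [hb] at hmem
    exact hmem
  have hnn' : ¬ IsNilpotent (i.appTop.hom h) := fun hn => hnn ((IsNilpotent.map_iff hi).mp hn)
  have hne : P.basicOpen (i.appTop.hom h) ≠ ⊥ := fun hb =>
    hnn' ((Scheme.isNilpotent_iff_basicOpen_eq_bot _).mpr hb)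
  obtain ⟨y, hy⟩ := (TopologicalSpace.Opens.ne_bot_iff_nonempty _).mp hne
  refine ⟨y, hle ?_⟩
  have h2 : y ∈ i ⁻¹ᵁ Q.basicOpen h := by
    rw [Scheme.preimage_basicOpen_top]
    exact hy
  exact h2

theorem factor_of_act {C : Type*} [Category C] [CartesianMonoidalCategory C] {G X Y T : C}
    [GrpObj G] (aX : MonAct G X) (aY : MonAct G Y) (f : X ⟶ Y)
    (hf : MonAct.IsEquivariant aX aY f) (g : T ⟶ G) (y : T ⟶ Y) (x' : T ⟶ X)
    (h : x' ≫ f = lift g y ≫ aY.act) : ∃ x : T ⟶ X, x ≫ f = y := by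
  refine ⟨lift g⁻¹ x' ≫ aX.act, ?_⟩
  apply MagnetBB.act_cancel aY g
  rw [← h]
  have hf' : aX.act ≫ f = (G ◁ f) ≫ aY.act := hf
  rw [Category.assoc, hf', lift_whiskerLeft_assoc, ← MonAct.lift_mul_act, mul_inv_cancel,
    MonAct.lift_one_act]

theorem lift_comp_Psi {S : Scheme.{u}} {A T TK T' : Over S} [MonObj A] (χ : TK ⟶ A) (t : TK ⟶ T)
    (b : T' ⟶ A) (s : T' ⟶ TK) :
    lift b s ≫ lift (fst A TK * (snd A TK ≫ χ)) (snd A TK ≫ t) = lift (b * (s ≫ χ)) (s ≫ t) := by
  rw [comp_lift, MonObj.comp_mul, lift_fst, lift_snd_assoc, lift_snd_assoc]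

/-! ### Points: face map and the inverse character -/

section Pts

variable {S : Scheme.{u}} {K : CommRingCat.{u}} (fz : Spec K ⟶ S)

theorem ptK_comp_faceMap {M : Type} [AddCommMonoid M] {N F : AddSubmonoid M} (hF : IsFace N F)
    (χ : MonoidAlgebra (ULift.{u} ℤ) (Multiplicative ↥F) →+* K) :
    ptK fz χ ≫ AMonS.faceMap S hF =
      ptK fz (χ.comp (faceAlgHom (ULift.{u} ℤ) hF).toRingHom) := by
  have e : (Over.homMk (Spec.map (CommRingCat.ofHom χ)) (specULiftZIsTerminal.hom_ext _ _) :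
      (Over.map (Limits.IsTerminal.from specULiftZIsTerminal S)).obj (Over.mk fz) ⟶
        AMon (ULift.{u} ℤ) ↥F) ≫ AMon.faceMap (ULift.{u} ℤ) hF =
      Over.homMk (Spec.map (CommRingCat.ofHom
        (χ.comp (faceAlgHom (ULift.{u} ℤ) hF).toRingHom)))
        (specULiftZIsTerminal.hom_ext _ _) := by
    apply Over.OverMorphism.ext
    change Spec.map (CommRingCat.ofHom χ) ≫
      Spec.map (CommRingCat.ofHom (faceAlgHom (ULift.{u} ℤ) hF).toRingHom) = Spec.map _
    rw [← Spec.map_comp, ← CommRingCat.ofHom_comp]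
  unfold ptK
  rw [← e]
  exact ((Over.mapPullbackAdj (Limits.IsTerminal.from specULiftZIsTerminal S)).homEquiv_naturality_right
    _ (AMon.faceMap (ULift.{u} ℤ) hF)).symm

end Pts

section Char

variable {M : Type} [AddCommGroup M] (N : AddSubmonoid M)

open Classical in
/-- the character `n ↦ χ(-n)` for `n ∈ N*`, `0` otherwise -/
def cmon {K : Type u} [CommRing K]
    (χ : MonoidAlgebra (ULift.{u} ℤ) (Multiplicative ↥N) →+* K) : Multiplicative ↥N →* K where
  toFun n := if h : -((Multiplicative.toAdd n : ↥N) : M) ∈ N then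
      χ (eN (⟨-((Multiplicative.toAdd n : ↥N) : M), h⟩ : ↥N)) else 0
  map_one' := by
    have h0 : -((Multiplicative.toAdd (1 : Multiplicative ↥N) : ↥N) : M) ∈ N := by
      change -((0 : ↥N) : M) ∈ N
      rw [AddSubmonoid.coe_zero, neg_zero]
      exact N.zero_mem
    rw [dif_pos h0]
    have h1 : (⟨-((Multiplicative.toAdd (1 : Multiplicative ↥N) : ↥N) : M), h0⟩ : ↥N) = 0 := by
      apply Subtype.ext
      change -((0 : ↥N) : M) = ((0 : ↥N) : M)
      rw [AddSubmonoid.coe_zero, neg_zero]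
    rw [h1, eN_zero, map_one]
  map_mul' a b := by
    have hsum : ((Multiplicative.toAdd (a * b) : ↥N) : M) =
        ((Multiplicative.toAdd a : ↥N) : M) + ((Multiplicative.toAdd b : ↥N) : M) := rfl
    by_cases ha : -((Multiplicative.toAdd a : ↥N) : M) ∈ N
    · by_cases hb : -((Multiplicative.toAdd b : ↥N) : M) ∈ N
      · have hab : -((Multiplicative.toAdd (a * b) : ↥N) : M) ∈ N := by
          rw [hsum, neg_add]
          exact N.add_mem ha hb
        rw [dif_pos hab, dif_pos ha, dif_pos hb, ← map_mul, ← eN_add]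
        congr 2
        apply Subtype.ext
        change -((Multiplicative.toAdd (a * b) : ↥N) : M) =
          -((Multiplicative.toAdd a : ↥N) : M) + -((Multiplicative.toAdd b : ↥N) : M)
        rw [hsum, neg_add]
      · have hab : ¬ -((Multiplicative.toAdd (a * b) : ↥N) : M) ∈ N := fun h => hb (by
          have e : -((Multiplicative.toAdd b : ↥N) : M) =
              -((Multiplicative.toAdd (a * b) : ↥N) : M) + ((Multiplicative.toAdd a : ↥N) : M) := by
            rw [hsum]; abel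
          rw [e]
          exact N.add_mem h (Multiplicative.toAdd a).2)
        rw [dif_neg hab, dif_neg hb, mul_zero]
    · have hab : ¬ -((Multiplicative.toAdd (a * b) : ↥N) : M) ∈ N := fun h => ha (by
        have e : -((Multiplicative.toAdd a : ↥N) : M) =
            -((Multiplicative.toAdd (a * b) : ↥N) : M) + ((Multiplicative.toAdd b : ↥N) : M) := by
          rw [hsum]; abel
        rw [e]
        exact N.add_mem h (Multiplicative.toAdd b).2)
      rw [dif_neg hab, dif_neg ha, zero_mul]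

theorem cmon_apply_of_mem {K : Type u} [CommRing K]
    (χ : MonoidAlgebra (ULift.{u} ℤ) (Multiplicative ↥N) →+* K) (n : ↥N) (h : -(n : M) ∈ N) :
    cmon N χ (Multiplicative.ofAdd n) = χ (eN (⟨-(n : M), h⟩ : ↥N)) :=
  dif_pos h

theorem cmon_apply_of_not_mem {K : Type u} [CommRing K]
    (χ : MonoidAlgebra (ULift.{u} ℤ) (Multiplicative ↥N) →+* K) (n : ↥N) (h : ¬ -(n : M) ∈ N) :
    cmon N χ (Multiplicative.ofAdd n) = 0 :=
  dif_neg h

/-- the ring map `ℤ[N] → K` of `cmon` -/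
def cchar {K : Type u} [CommRing K]
    (χ : MonoidAlgebra (ULift.{u} ℤ) (Multiplicative ↥N) →+* K) :
    MonoidAlgebra (ULift.{u} ℤ) (Multiplicative ↥N) →+* K :=
  MonoidAlgebra.liftNCRingHom (cK K) (cmon N χ) (fun _ _ => Commute.all _ _)

theorem cchar_eN {K : Type u} [CommRing K]
    (χ : MonoidAlgebra (ULift.{u} ℤ) (Multiplicative ↥N) →+* K) (n : ↥N) :
    cchar N χ (eN n) = cmon N χ (Multiplicative.ofAdd n) := by
  unfold cchar eN
  rw [MonoidAlgebra.liftNCRingHom_single, cK_one, _root_.one_mul]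

variable (S : Scheme.{u})

/-- the face point of `A(N)_S`: `Xⁿ ↦ [n ∈ N*]` -/
def ept : 𝟙_ (Over S) ⟶ AMonS S ↥N :=
  η[AMonS S ↥(unitFace N)] ≫ AMonS.faceMap S (isFace_unitFace N)

open Classical in
theorem toUnit_ept {K : CommRingCat.{u}} (fz : Spec K ⟶ S) :
    ∃ e₀ : MonoidAlgebra (ULift.{u} ℤ) (Multiplicative ↥N) →+* K,
      toUnit (Over.mk fz) ≫ ept N S = ptK fz e₀ ∧
      ∀ n : ↥N, e₀ (eN n) = if (n : M) ∈ unitFace N then 1 else 0 := by
  classical
  obtain ⟨χ', -⟩ := exists_eq_ptK fz (1 : Over.mk fz ⟶ AMonS S ↥(unitFace N))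
  refine ⟨(χ'.comp (rh (ULift.{u} ℤ) (0 : ↥(unitFace N) →+ ↥(unitFace N)))).comp
      (faceAlgHom (ULift.{u} ℤ) (isFace_unitFace N)).toRingHom, ?_, ?_⟩
  · unfold ept
    rw [← Category.assoc, ← ptK_comp_faceMap, ptK_comp_zero]
    rfl
  · intro n
    by_cases h : (n : M) ∈ unitFace N
    · rw [if_pos h, RingHom.comp_apply]
      have e1 : (faceAlgHom (ULift.{u} ℤ) (isFace_unitFace N)).toRingHom (eN n) =
          eN (⟨n, h⟩ : ↥(unitFace N)) := faceAlgHom_single_of_mem _ _ n h 1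
      rw [e1, RingHom.comp_apply, rh_eN]
      change χ' (eN (0 : ↥(unitFace N))) = 1
      rw [eN_zero, map_one]
    · rw [if_neg h, RingHom.comp_apply]
      have e1 : (faceAlgHom (ULift.{u} ℤ) (isFace_unitFace N)).toRingHom (eN n) = 0 :=
        faceAlgHom_single_of_not_mem _ _ n h 1
      rw [e1, map_zero]

theorem exists_inv_char {K : CommRingCat.{u}} (fz : Spec K ⟶ S)
    (χ : MonoidAlgebra (ULift.{u} ℤ) (Multiplicative ↥N) →+* K) :
    ∃ c₀ : MonoidAlgebra (ULift.{u} ℤ) (Multiplicative ↥N) →+* K,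
      ptK fz c₀ * ptK fz χ = toUnit (Over.mk fz) ≫ ept N S := by
  classical
  obtain ⟨e₀, he₀, he₀'⟩ := toUnit_ept N S fz
  refine ⟨cchar N χ, ?_⟩
  rw [ptK_mul, he₀]
  congr 1
  apply ringHom_ext_eN
  intro n
  rw [conv_eN, cchar_eN, he₀']
  by_cases h : -(n : M) ∈ N
  · have hu : (n : M) ∈ unitFace N := ⟨n.2, -(n : M), h, add_neg_cancel _⟩
    rw [if_pos hu, cmon_apply_of_mem N χ n h, ← map_mul, ← eN_add]
    have e1 : (⟨-(n : M), h⟩ : ↥N) + n = 0 := Subtype.ext (neg_add_cancel _)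
    rw [e1, eN_zero, map_one]
  · have hu : (n : M) ∉ unitFace N := by
      rintro ⟨_, y, hy, hxy⟩
      apply h
      have e1 : -(n : M) = y := neg_eq_of_add_eq_zero_right hxy
      rw [e1]
      exact hy
    rw [if_neg hu, cmon_apply_of_not_mem N χ n h, zero_mul]

end Char

/-! ### The orbit-closure argument -/

section Main

variable (S : Scheme.{u}) (M : Type) [AddCommGroup M] (N : AddSubmonoid M) {X Y : Over S}
  (aX : MonAct (AMonS S M) X) (aY : MonAct (AMonS S M) Y) (f : X ⟶ Y)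
  (hf : MonAct.IsEquivariant aX aY f) [IsOpenImmersion f.left] {T : Over S}
  (φ : AMonS S ↥N ⊗ T ⟶ Y)
  (hφ : MonAct.IsEquivariant ((subAct S M N).prod (MonAct.trivial (AMonS S M) T)) aY φ)
  (v : T ⟶ X) (hv : lift (toUnit T ≫ ept N S) (𝟙 T) ≫ φ = v ≫ f)

include hf hφ hv in
theorem step_K {K : CommRingCat.{u}} (fz : Spec K ⟶ S)
    (χ : MonoidAlgebra (ULift.{u} ℤ) (Multiplicative ↥N) →+* K)
    (t : Over.mk fz ⟶ T) (pt₀ : Spec K) :
    ∃ pt : Spec K, φ.left ((lift (ptK fz χ) t).left pt) ∈ Set.range f.left := by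
  haveI : IsAffine (Over.mk fz).left := by
    change IsAffine (Spec K); infer_instance
  haveI hA : IsAffine (AMonS S ↥N ⊗ Over.mk fz).left :=
    MagnetDirected.isAffine_tensor S (Over.mk fz) ↥N
  haveI hG : IsAffine (AMonS S M ⊗ Over.mk fz).left :=
    MagnetDirected.isAffine_tensor S (Over.mk fz) M
  obtain ⟨Ψ, hΨdef⟩ : ∃ Ψ : AMonS S ↥N ⊗ Over.mk fz ⟶ AMonS S ↥N ⊗ T,
      Ψ = lift (fst (AMonS S ↥N) (Over.mk fz) * (snd (AMonS S ↥N) (Over.mk fz) ≫ ptK fz χ))
        (snd (AMonS S ↥N) (Over.mk fz) ≫ t) := ⟨_, rfl⟩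
  have hΨ : ∀ {T' : Over S} (b : T' ⟶ AMonS S ↥N) (s : T' ⟶ Over.mk fz),
      lift b s ≫ Ψ = lift (b * (s ≫ ptK fz χ)) (s ≫ t) := by
    intro T' b s
    rw [hΨdef]
    exact lift_comp_Psi (ptK fz χ) t b s
  obtain ⟨c₀, hc₀⟩ := exists_inv_char N S fz χ
  have h2 : lift (toUnit (Over.mk fz) ≫ ept N S) t =
      t ≫ lift (toUnit T ≫ ept N S) (𝟙 T) := by
    rw [comp_lift, Category.comp_id, comp_toUnit_assoc]
  have h1 : lift (ptK fz c₀) (𝟙 (Over.mk fz)) ≫ Ψ ≫ φ = (t ≫ v) ≫ f := by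
    rw [← Category.assoc, hΨ, Category.id_comp, Category.id_comp, hc₀, h2, Category.assoc, hv,
      Category.assoc]
  obtain ⟨W', hW'⟩ : ∃ W' : (AMonS S ↥N ⊗ Over.mk fz).left.Opens,
      W' = (Ψ ≫ φ).left ⁻¹ᵁ f.left.opensRange := ⟨_, rfl⟩
  have hp : (lift (ptK fz c₀) (𝟙 (Over.mk fz))).left pt₀ ∈ W' := by
    rw [hW']
    show (Ψ ≫ φ).left ((lift (ptK fz c₀) (𝟙 (Over.mk fz))).left pt₀) ∈ Set.range f.left
    rw [← Scheme.Hom.comp_apply, ← Over.comp_left, h1, Over.comp_left, Scheme.Hom.comp_apply]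
    exact ⟨_, rfl⟩
  have hi : Function.Injective
      ((AMonS.map S N.subtype ▷ Over.mk fz).left).appTop.hom :=
    MagnetCoord.injective_appTop_of_ker_eq_bot _
      (MagnetDom.ker_whiskerRight_eq_bot S (Over.mk fz) N.subtype Subtype.val_injective)
  obtain ⟨y, hy⟩ := exists_mem_of_injective _ hi W' _ hp
  rw [hW'] at hy
  have hy' : (Ψ ≫ φ).left ((AMonS.map S N.subtype ▷ Over.mk fz).left y) ∈ Set.range f.left := hy
  -- the residue field point of `y`
  obtain ⟨s, -⟩ : ∃ s, (AMonS S M ⊗ Over.mk fz).left.fromSpecResidueField y s = y := by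
    have h3 := Scheme.range_fromSpecResidueField (X := (AMonS S M ⊗ Over.mk fz).left) y
    have h4 : y ∈ Set.range ((AMonS S M ⊗ Over.mk fz).left.fromSpecResidueField y) := by
      rw [h3]; exact rfl
    exact h4
  obtain ⟨fy, hfy⟩ : ∃ fy : Spec ((AMonS S M ⊗ Over.mk fz).left.residueField y) ⟶ S,
      fy = (AMonS S M ⊗ Over.mk fz).left.fromSpecResidueField y ≫
        (AMonS S M ⊗ Over.mk fz).hom := ⟨_, rfl⟩
  obtain ⟨py, hpyl⟩ : ∃ py : Over.mk fy ⟶ AMonS S M ⊗ Over.mk fz,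
      py.left = (AMonS S M ⊗ Over.mk fz).left.fromSpecResidueField y :=
    ⟨Over.homMk ((AMonS S M ⊗ Over.mk fz).left.fromSpecResidueField y) hfy.symm, rfl⟩
  obtain ⟨g, hg⟩ : ∃ g, g = py ≫ fst (AMonS S M) (Over.mk fz) := ⟨_, rfl⟩
  obtain ⟨π, hπ⟩ : ∃ π, π = py ≫ snd (AMonS S M) (Over.mk fz) := ⟨_, rfl⟩
  have hpy : py = lift g π := by
    rw [hg, hπ]; exact (lift_comp_fst_snd py).symm
  have hq : Set.range (py ≫ (AMonS.map S N.subtype ▷ Over.mk fz) ≫ Ψ ≫ φ).left ⊆
      Set.range f.left := by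
    rintro _ ⟨s', rfl⟩
    have e1 : py.left s' = y := by
      rw [hpyl]; exact Scheme.fromSpecResidueField_apply y s'
    have e2 : (py ≫ (AMonS.map S N.subtype ▷ Over.mk fz) ≫ Ψ ≫ φ).left s' =
        (Ψ ≫ φ).left ((AMonS.map S N.subtype ▷ Over.mk fz).left (py.left s')) := by
      rw [Over.comp_left, Over.comp_left, Scheme.Hom.comp_apply, Scheme.Hom.comp_apply]
    rw [e2, e1]
    exact hy'
  obtain ⟨x', hx'⟩ := exists_factor_of_range f _ hq
  have hcomp : py ≫ (AMonS.map S N.subtype ▷ Over.mk fz) ≫ Ψ ≫ φ =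
      lift g (π ≫ lift (ptK fz χ) t ≫ φ) ≫ aY.act := by
    have e1 := ((MonAct.mem_eqvHom_iff φ).mp hφ) (Over.mk fy) g (π ≫ ptK fz χ) (π ≫ t)
    rw [MagnetBB.lift_subAct_act] at e1
    rw [hpy, lift_whiskerRight_assoc, ← Category.assoc, hΨ, e1, ← comp_lift, Category.assoc]
  obtain ⟨x, hx⟩ := factor_of_act aX aY f hf g (π ≫ lift (ptK fz χ) t ≫ φ) x' (hx'.trans hcomp)
  refine ⟨π.left s, ?_⟩
  have e3 : φ.left ((lift (ptK fz χ) t).left (π.left s)) = f.left (x.left s) := by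
    have e4 := congrArg (fun m => m.left s) hx
    simp only [Over.comp_left, Scheme.Hom.comp_apply] at e4
    exact e4.symm
  rw [e3]
  exact ⟨_, rfl⟩

include hf hφ hv in
theorem range_subset : Set.range φ.left ⊆ Set.range f.left := by
  rintro _ ⟨z, rfl⟩
  obtain ⟨pt₀, -⟩ : ∃ s, (AMonS S ↥N ⊗ T).left.fromSpecResidueField z s = z := by
    have h3 := Scheme.range_fromSpecResidueField (X := (AMonS S ↥N ⊗ T).left) z
    have h4 : z ∈ Set.range ((AMonS S ↥N ⊗ T).left.fromSpecResidueField z) := by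
      rw [h3]; exact rfl
    exact h4
  obtain ⟨fz, hfz⟩ : ∃ fz : Spec ((AMonS S ↥N ⊗ T).left.residueField z) ⟶ S,
      fz = (AMonS S ↥N ⊗ T).left.fromSpecResidueField z ≫ (AMonS S ↥N ⊗ T).hom := ⟨_, rfl⟩
  obtain ⟨pz, hpzl⟩ : ∃ pz : Over.mk fz ⟶ AMonS S ↥N ⊗ T,
      pz.left = (AMonS S ↥N ⊗ T).left.fromSpecResidueField z :=
    ⟨Over.homMk ((AMonS S ↥N ⊗ T).left.fromSpecResidueField z) hfz.symm, rfl⟩
  obtain ⟨χ, hχ⟩ := exists_eq_ptK fz (pz ≫ fst (AMonS S ↥N) T)
  have hpz : pz = lift (ptK fz χ) (pz ≫ snd (AMonS S ↥N) T) := by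
    rw [← hχ]; exact (lift_comp_fst_snd pz).symm
  obtain ⟨pt, hpt⟩ := step_K S M N aX aY f hf φ hφ v hv fz χ (pz ≫ snd (AMonS S ↥N) T) pt₀
  rw [← hpz] at hpt
  have e1 : pz.left pt = z := by
    rw [hpzl]; exact Scheme.fromSpecResidueField_apply z pt
  rw [e1] at hpt
  exact hpt

include hf hφ hv in
theorem exists_factor : ∃ φ' : AMonS S ↥N ⊗ T ⟶ X, φ' ≫ f = φ ∧
    MonAct.IsEquivariant ((subAct S M N).prod (MonAct.trivial (AMonS S M) T)) aX φ' := by
  obtain ⟨φ', hφ'⟩ := exists_factor_of_range f φ (range_subset S M N aX aY f hf φ hφ v hv)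
  refine ⟨φ', hφ', ?_⟩
  haveI : Mono f := Over.mono_of_mono_left f
  have hf' : aX.act ≫ f = (AMonS S M ◁ f) ≫ aY.act := hf
  have hφ2 : ((subAct S M N).prod (MonAct.trivial (AMonS S M) T)).act ≫ φ =
      (AMonS S M ◁ φ) ≫ aY.act := hφ
  show ((subAct S M N).prod (MonAct.trivial (AMonS S M) T)).act ≫ φ' =
    (AMonS S M ◁ φ') ≫ aX.act
  rw [← cancel_mono f, Category.assoc, Category.assoc, hφ', hφ2, hf', ← hφ',
    MonoidalCategory.whiskerLeft_comp, Category.assoc]

end Main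

/-! ### The main theorem -/

theorem main18235 (S : Scheme.{u}) (M : Type) [AddCommGroup M]
    [AddGroup.FG M] (N : AddSubmonoid M) {X Y : Over S} [LocallyOfFinitePresentation X.hom]
    [LocallyOfFinitePresentation Y.hom] (aX : Magnet.MonAct (Magnet.AMonS S M) X)
    (aY : Magnet.MonAct (Magnet.AMonS S M) Y) (f : X ⟶ Y)
    (hf : Magnet.MonAct.IsEquivariant aX aY f)
    [IsOpenImmersion f.left] {ZX ZY : Over S} (eX : (Magnet.attr aX N).RepresentableBy ZX)
    (eY : (Magnet.attr aY N).RepresentableBy ZY)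
    (j : ZX ⟶ ZY) (hj : ∀ (T : Over S) (z : T ⟶ ZX),
      eY.homEquiv (z ≫ j) =
        (Magnet.MonAct.eqvHom.postcomp (Magnet.subAct S M N) f hf).app (op T) (eX.homEquiv z)) :
    IsOpenImmersion j.left := by
  haveI : Mono f := Over.mono_of_mono_left f
  obtain ⟨ξX, hξX⟩ : ∃ ξ, ξ = eX.homEquiv (𝟙 ZX) := ⟨_, rfl⟩
  obtain ⟨ξY, hξY⟩ : ∃ ξ, ξ = eY.homEquiv (𝟙 ZY) := ⟨_, rfl⟩
  have hXnat : ∀ {T : Over S} (u : T ⟶ ZX),
      (eX.homEquiv u).1 = (AMonS S ↥N ◁ u) ≫ ξX.1 := by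
    intro T u
    have h := eX.homEquiv_comp u (𝟙 ZX)
    rw [Category.comp_id] at h
    rw [h, hξX]
    rfl
  have hYnat : ∀ {T : Over S} (u : T ⟶ ZY),
      (eY.homEquiv u).1 = (AMonS S ↥N ◁ u) ≫ ξY.1 := by
    intro T u
    have h := eY.homEquiv_comp u (𝟙 ZY)
    rw [Category.comp_id] at h
    rw [h, hξY]
    rfl
  have hpost : ∀ {T : Over S} (z : T ⟶ ZX), (eY.homEquiv (z ≫ j)).1 = (eX.homEquiv z).1 ≫ f := by
    intro T z
    rw [hj T z]
    rfl
  obtain ⟨lX, hlX⟩ : ∃ l : ZX ⟶ X, l = lift (toUnit ZX ≫ ept N S) (𝟙 ZX) ≫ ξX.1 := ⟨_, rfl⟩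
  obtain ⟨lY, hlY⟩ : ∃ l : ZY ⟶ Y, l = lift (toUnit ZY ≫ ept N S) (𝟙 ZY) ≫ ξY.1 := ⟨_, rfl⟩
  have hsec : ∀ {T : Over S} (u : T ⟶ ZY),
      lift (toUnit T ≫ ept N S) (𝟙 T) ≫ (eY.homEquiv u).1 = u ≫ lY := by
    intro T u
    rw [hYnat, hlY, lift_whiskerLeft_assoc, Category.id_comp, ← Category.assoc, comp_lift,
      Category.comp_id, comp_toUnit_assoc]
  have hsecX : ∀ {T : Over S} (u : T ⟶ ZX),
      lift (toUnit T ≫ ept N S) (𝟙 T) ≫ (eX.homEquiv u).1 = u ≫ lX := by
    intro T u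
    rw [hXnat, hlX, lift_whiskerLeft_assoc, Category.id_comp, ← Category.assoc, comp_lift,
      Category.comp_id, comp_toUnit_assoc]
  have hsq : j ≫ lY = lX ≫ f := by
    have h1 := hsec j
    have h2 := hsecX (𝟙 ZX)
    rw [Category.id_comp] at h2
    have h3 := hpost (𝟙 ZX)
    rw [Category.id_comp] at h3
    rw [← h1, h3, ← h2, Category.assoc]
  haveI hmonoj : Mono j := by
    constructor
    intro T w₁ w₂ hw
    apply eX.homEquiv.injective
    apply Subtype.ext
    rw [← cancel_mono f, ← hpost, ← hpost, hw]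
  have hpb : IsPullback j lX lY f := by
    refine ⟨⟨hsq⟩, ⟨PullbackCone.IsLimit.mk _ ?_ ?_ ?_ ?_⟩⟩
    · intro s
      exact eX.homEquiv.symm ⟨(exists_factor S M N aX aY f hf (eY.homEquiv s.fst).1
        (eY.homEquiv s.fst).2 s.snd ((hsec s.fst).trans s.condition)).choose,
        (exists_factor S M N aX aY f hf (eY.homEquiv s.fst).1
        (eY.homEquiv s.fst).2 s.snd ((hsec s.fst).trans s.condition)).choose_spec.2⟩
    · intro s
      apply eY.homEquiv.injective
      apply Subtype.ext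
      rw [hpost, Equiv.apply_symm_apply]
      exact (exists_factor S M N aX aY f hf (eY.homEquiv s.fst).1
        (eY.homEquiv s.fst).2 s.snd ((hsec s.fst).trans s.condition)).choose_spec.1
    · intro s
      have hfst : eX.homEquiv.symm ⟨(exists_factor S M N aX aY f hf (eY.homEquiv s.fst).1
        (eY.homEquiv s.fst).2 s.snd ((hsec s.fst).trans s.condition)).choose,
        (exists_factor S M N aX aY f hf (eY.homEquiv s.fst).1
        (eY.homEquiv s.fst).2 s.snd ((hsec s.fst).trans s.condition)).choose_spec.2⟩ ≫ j =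
          s.fst := by
        apply eY.homEquiv.injective
        apply Subtype.ext
        rw [hpost, Equiv.apply_symm_apply]
        exact (exists_factor S M N aX aY f hf (eY.homEquiv s.fst).1
          (eY.homEquiv s.fst).2 s.snd ((hsec s.fst).trans s.condition)).choose_spec.1
      rw [← cancel_mono f, Category.assoc, ← hsq, ← Category.assoc, hfst]
      exact s.condition
    · intro s m hm₁ _
      rw [← cancel_mono j, hm₁]
      symm
      apply eY.homEquiv.injective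
      apply Subtype.ext
      rw [hpost, Equiv.apply_symm_apply]
      exact (exists_factor S M N aX aY f hf (eY.homEquiv s.fst).1
        (eY.homEquiv s.fst).2 s.snd ((hsec s.fst).trans s.condition)).choose_spec.1
  have hpb' := (Over.forget S).map_isPullback hpb
  exact MorphismProperty.of_isPullback (P := @IsOpenImmersion) hpb'.flip
    (inferInstanceAs (IsOpenImmersion f.left))

end Groth.Agent.Lib.Helper29.MagnetOpenImm
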