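import Mathlib
import Groth.Prelude.Def_Magnet4
import Groth.Agent.Lib.Helper29.MagnetOpenImm
import Groth.Agent.Lib.Helper29.MagnetPt
import Groth.Agent.S18293

/-!
# Étale base change of attractors along faces: uniqueness (helper29, for S18302)
-/
set_option autoImplicit false
set_option maxHeartbeats 1600000
set_option linter.style.haveILetI false
universe u
open CategoryTheory CategoryTheory.Limits MonoidalCategory CartesianMonoidalCategory MonObj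
  AlgebraicGeometry Opposite

noncomputable section

namespace Groth.Agent.Lib.Helper29.MagnetEtU

open Magnet MagnetFixAlg MagnetFix MagnetComapIso MagnetBBPts MagnetPt MagnetOpenImm

section Face
variable {S : Scheme.{u}} {M : Type} [AddCommMonoid M]

theorem faceMap_comp {N Q F : AddSubmonoid M} (hQ : IsFace N Q) (hF : IsFace Q F)
    (hNF : IsFace N F) :
    AMonS.faceMap S hF ≫ AMonS.faceMap S hQ = AMonS.faceMap S hNF := by
  classical
  have key : ∀ {T : Over S} (P : T ⟶ AMonS S ↥F),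
      (P ≫ AMonS.faceMap S hF) ≫ AMonS.faceMap S hQ = P ≫ AMonS.faceMap S hNF := by
    intro T P
    apply chi_ext
    intro n
    rw [chi_faceMap, chi_faceMap, chi_faceMap, RingHom.comp_apply, RingHom.comp_apply,
      RingHom.comp_apply]
    congr 1
    by_cases h : (n : M) ∈ F
    · have hq : (n : M) ∈ Q := hF.le h
      have e1 : (faceAlgHom (ULift.{u} ℤ) hQ).toRingHom (eN n) = eN (⟨(n : M), hq⟩ : ↥Q) :=
        faceAlgHom_single_of_mem (ULift.{u} ℤ) hQ n hq 1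
      have e2 : (faceAlgHom (ULift.{u} ℤ) hF).toRingHom (eN (⟨(n : M), hq⟩ : ↥Q)) =
          eN (⟨(n : M), h⟩ : ↥F) :=
        faceAlgHom_single_of_mem (ULift.{u} ℤ) hF (⟨(n : M), hq⟩ : ↥Q) h 1
      have e3 : (faceAlgHom (ULift.{u} ℤ) hNF).toRingHom (eN n) = eN (⟨(n : M), h⟩ : ↥F) :=
        faceAlgHom_single_of_mem (ULift.{u} ℤ) hNF n h 1
      rw [e1, e2, e3]
    · have e3 : (faceAlgHom (ULift.{u} ℤ) hNF).toRingHom (eN n) = 0 :=
        faceAlgHom_single_of_not_mem (ULift.{u} ℤ) hNF n h 1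
      by_cases hq : (n : M) ∈ Q
      · have e1 : (faceAlgHom (ULift.{u} ℤ) hQ).toRingHom (eN n) = eN (⟨(n : M), hq⟩ : ↥Q) :=
          faceAlgHom_single_of_mem (ULift.{u} ℤ) hQ n hq 1
        have e2 : (faceAlgHom (ULift.{u} ℤ) hF).toRingHom (eN (⟨(n : M), hq⟩ : ↥Q)) = 0 :=
          faceAlgHom_single_of_not_mem (ULift.{u} ℤ) hF (⟨(n : M), hq⟩ : ↥Q) h 1
        rw [e1, e2, e3]
      · have e1 : (faceAlgHom (ULift.{u} ℤ) hQ).toRingHom (eN n) = 0 :=
          faceAlgHom_single_of_not_mem (ULift.{u} ℤ) hQ n hq 1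
        rw [e1, map_zero, e3]
  have h := key (𝟙 (AMonS S ↥F))
  rwa [Category.id_comp, Category.id_comp] at h

theorem isFace_unitFace_of_isFace {N Q : AddSubmonoid M} (hQ : IsFace N Q) :
    IsFace Q (unitFace N) where
  le := by
    rintro x ⟨hx, y, hy, hxy⟩
    exact (hQ.mem_of_add_mem x hx y hy (by rw [hxy]; exact Q.zero_mem)).1
  mem_of_add_mem x hx y hy h :=
    (isFace_unitFace N).mem_of_add_mem x (hQ.le hx) y (hQ.le hy) h

end Face

section Uniq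
variable (S : Scheme.{u}) (M : Type) [AddCommGroup M] {X U : Over S}
  (bX : MonAct (AMonS S M) X) (bU : MonAct (AMonS S M) U) (f : U ⟶ X) [Etale f.left]
  (hf : MonAct.IsEquivariant bU bX f) {N Q : AddSubmonoid M} (hQ : IsFace N Q)

theorem exists_ept_factor :
    ∃ e' : 𝟙_ (Over S) ⟶ AMonS S ↥Q, e' ≫ AMonS.faceMap S hQ = ept N S := by
  refine ⟨η[AMonS S ↥(unitFace N)] ≫ AMonS.faceMap S (isFace_unitFace_of_isFace hQ), ?_⟩
  rw [Category.assoc, faceMap_comp hQ _ (isFace_unitFace N)]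
  rfl

include hf in
theorem uniq {T : Over S} (φ₁ φ₂ : AMonS S ↥N ⊗ T ⟶ U)
    (h₁ : MonAct.IsEquivariant ((subAct S M N).prod (MonAct.trivial (AMonS S M) T)) bU φ₁)
    (h₂ : MonAct.IsEquivariant ((subAct S M N).prod (MonAct.trivial (AMonS S M) T)) bU φ₂)
    (hff : φ₁ ≫ f = φ₂ ≫ f)
    (hface : (AMonS.faceMap S hQ ▷ T) ≫ φ₁ = (AMonS.faceMap S hQ ▷ T) ≫ φ₂) : φ₁ = φ₂ := by
  obtain ⟨P, p₁, p₃, hsq⟩ : ∃ (P : Over S) (p₁ p₃ : P ⟶ U), IsPullback p₁ p₃ f f :=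
    ⟨pullback f f, pullback.fst f f, pullback.snd f f, IsPullback.of_hasPullback f f⟩
  obtain ⟨aP, ⟨hp₁, hp₃⟩, -⟩ := Groth.Agent.S18293.result bU bX bU f f p₁ p₃ hsq hf hf
  have hp₁' : aP.act ≫ p₁ = (AMonS S M ◁ p₁) ≫ bU.act := hp₁
  have hp₃' : aP.act ≫ p₃ = (AMonS S M ◁ p₃) ≫ bU.act := hp₃
  obtain ⟨Δ, hΔ₁, hΔ₃⟩ : ∃ Δ : U ⟶ P, Δ ≫ p₁ = 𝟙 U ∧ Δ ≫ p₃ = 𝟙 U :=
    ⟨hsq.lift (𝟙 U) (𝟙 U) rfl, hsq.lift_fst _ _ _, hsq.lift_snd _ _ _⟩
  have hΔeq : MonAct.IsEquivariant bU aP Δ := by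
    show bU.act ≫ Δ = (AMonS S M ◁ Δ) ≫ aP.act
    apply hsq.hom_ext
    · rw [Category.assoc, Category.assoc, hΔ₁, Category.comp_id, hp₁', ← Category.assoc,
        ← MonoidalCategory.whiskerLeft_comp, hΔ₁, MonoidalCategory.whiskerLeft_id,
        Category.id_comp]
    · rw [Category.assoc, Category.assoc, hΔ₃, Category.comp_id, hp₃', ← Category.assoc,
        ← MonoidalCategory.whiskerLeft_comp, hΔ₃, MonoidalCategory.whiskerLeft_id,
        Category.id_comp]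
  haveI : IsOpenImmersion Δ.left := by
    have hs : IsPullback p₁.left p₃.left f.left f.left := (Over.forget S).map_isPullback hsq
    have e1 : Δ.left ≫ hs.isoPullback.hom = pullback.diagonal f.left := by
      apply pullback.hom_ext
      · rw [Category.assoc, hs.isoPullback_hom_fst, ← Over.comp_left, hΔ₁,
          pullback.diagonal_fst, Over.id_left]
      · rw [Category.assoc, hs.isoPullback_hom_snd, ← Over.comp_left, hΔ₃,
          pullback.diagonal_snd, Over.id_left]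
    have e2 : Δ.left = pullback.diagonal f.left ≫ hs.isoPullback.inv := by
      rw [← e1, Category.assoc, Iso.hom_inv_id, Category.comp_id]
    rw [e2]
    infer_instance
  obtain ⟨Φ, hΦ₁, hΦ₃⟩ : ∃ Φ : AMonS S ↥N ⊗ T ⟶ P, Φ ≫ p₁ = φ₁ ∧ Φ ≫ p₃ = φ₂ :=
    ⟨hsq.lift φ₁ φ₂ hff, hsq.lift_fst _ _ _, hsq.lift_snd _ _ _⟩
  have h₁' : ((subAct S M N).prod (MonAct.trivial (AMonS S M) T)).act ≫ φ₁ =
      (AMonS S M ◁ φ₁) ≫ bU.act := h₁
  have h₂' : ((subAct S M N).prod (MonAct.trivial (AMonS S M) T)).act ≫ φ₂ =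
      (AMonS S M ◁ φ₂) ≫ bU.act := h₂
  have hΦeq : MonAct.IsEquivariant ((subAct S M N).prod (MonAct.trivial (AMonS S M) T)) aP Φ := by
    show ((subAct S M N).prod (MonAct.trivial (AMonS S M) T)).act ≫ Φ =
      (AMonS S M ◁ Φ) ≫ aP.act
    apply hsq.hom_ext
    · rw [Category.assoc, Category.assoc, hΦ₁, h₁', hp₁', ← Category.assoc,
        ← MonoidalCategory.whiskerLeft_comp, hΦ₁]
    · rw [Category.assoc, Category.assoc, hΦ₃, h₂', hp₃', ← Category.assoc,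
        ← MonoidalCategory.whiskerLeft_comp, hΦ₃]
  obtain ⟨e', he'⟩ := exists_ept_factor (N := N) S M hQ
  obtain ⟨v, hv⟩ : ∃ v : T ⟶ U, v = lift (toUnit T ≫ ept N S) (𝟙 T) ≫ φ₁ := ⟨_, rfl⟩
  have hl : lift (toUnit T ≫ ept N S) (𝟙 T) =
      lift (toUnit T ≫ e') (𝟙 T) ≫ (AMonS.faceMap S hQ ▷ T) := by
    rw [lift_whiskerRight, Category.assoc, he']
  have hv₂ : lift (toUnit T ≫ ept N S) (𝟙 T) ≫ φ₂ = v := by
    rw [hv, hl, Category.assoc, Category.assoc, hface]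
  have hvΔ : lift (toUnit T ≫ ept N S) (𝟙 T) ≫ Φ = v ≫ Δ := by
    apply hsq.hom_ext
    · rw [Category.assoc, hΦ₁, Category.assoc, hΔ₁, Category.comp_id, hv]
    · rw [Category.assoc, hΦ₃, Category.assoc, hΔ₃, Category.comp_id, hv₂]
  obtain ⟨φ', hφ', -⟩ := MagnetOpenImm.exists_factor S M N bU aP Δ hΔeq Φ hΦeq v hvΔ
  calc φ₁ = Φ ≫ p₁ := hΦ₁.symm
    _ = φ' ≫ Δ ≫ p₁ := by rw [← hφ', Category.assoc]
    _ = φ' ≫ Δ ≫ p₃ := by rw [hΔ₁, hΔ₃]
    _ = Φ ≫ p₃ := by rw [← Category.assoc, hφ']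
    _ = φ₂ := hΦ₃

end Uniq

end Groth.Agent.Lib.Helper29.MagnetEtU
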