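import Mathlib
import Groth.Prelude.Def_Magnet4
import Groth.Agent.Lib.Helper29.MagnetBBPts
import Groth.Agent.Lib.Helper29.MagnetDom
import Groth.Agent.Lib.Helper6.FibSquareSpec
import Groth.Agent.Lib.Helper28.Pinch.OverBC

/-!
# Push-outs of diagonalizable monoid schemes along faces (helper29, for S18305)

`ℤ[N'] = ℤ[L'] ×_{ℤ[L]} ℤ[N]` for `N' = L' ∖ (L ∖ N)` (`isFibSq`), hence (helper6's
`IsFibSq.isPushout`) the square of spectra is a push-out of schemes, hence a push-out over `Spec ℤ`,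
and (helper28's `Pinch.isPushout_overPullback`, as `ℤ[L]` is flat over `ℤ`) it stays a push-out
after base change to any scheme `S`.
-/
set_option autoImplicit false
set_option maxHeartbeats 1600000
set_option linter.style.haveILetI false
universe u
open CategoryTheory CategoryTheory.Limits MonoidalCategory CartesianMonoidalCategory MonObj
  AlgebraicGeometry Opposite

noncomputable section

namespace Groth.Agent.Lib.Helper29.MagnetPushout

open Magnet MagnetFixAlg MagnetBBPts Groth.Agent.Lib.Helper6.FibSquare Groth.Agent.Lib.Helper28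

section Alg

variable {M : Type} [AddCommMonoid M] {N N' L L' : AddSubmonoid M} (hNL : N ≤ L)
  (hN'L' : N' ≤ L') (hL : IsFace L' L) (hN : IsFace N' N)
  (hdiff : (N' : Set M) = (L' : Set M) \ ((L : Set M) \ (N : Set M)))

include hdiff in
theorem mem_iff (m : M) : m ∈ N' ↔ m ∈ L' ∧ (m ∈ L → m ∈ N) := by
  have h := Set.ext_iff.mp hdiff m
  rw [Set.mem_diff, Set.mem_diff] at h
  constructor
  · intro hm
    obtain ⟨h1, h2⟩ := h.mp hm
    exact ⟨h1, fun hl => by_contra fun hn => h2 ⟨hl, hn⟩⟩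
  · rintro ⟨h1, h2⟩
    exact h.mpr ⟨h1, fun ⟨hl, hn⟩ => hn (h2 hl)⟩

theorem p_s (x : MonoidAlgebra (ULift.{u} ℤ) (Multiplicative ↥L)) :
    faceAlgHom (ULift.{u} ℤ) hL (rh (ULift.{u} ℤ) (AddSubmonoid.inclusion hL.le) x) = x := by
  have h := congrArg (fun f : MonoidAlgebra (ULift.{u} ℤ) (Multiplicative ↥L) →ₐ[ULift.{u} ℤ]
    MonoidAlgebra (ULift.{u} ℤ) (Multiplicative ↥L) => f x) (faceAlgHom_comp_mapDomain (ULift.{u} ℤ) hL)
  exact h

include hdiff in
theorem comm (x : MonoidAlgebra (ULift.{u} ℤ) (Multiplicative ↥N')) :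
    rh (ULift.{u} ℤ) (AddSubmonoid.inclusion hNL) (faceAlgHom (ULift.{u} ℤ) hN x) =
      faceAlgHom (ULift.{u} ℤ) hL (rh (ULift.{u} ℤ) (AddSubmonoid.inclusion hN'L') x) := by
  induction x using MonoidAlgebra.induction_linear with
  | zero => rw [map_zero, map_zero, map_zero, map_zero]
  | add x y hx hy => rw [map_add, map_add, map_add, map_add, hx, hy]
  | single m r =>
    obtain ⟨n', rfl⟩ := Multiplicative.ofAdd.surjective m
    by_cases h : (n' : M) ∈ N
    · have h' : ((AddSubmonoid.inclusion hN'L' n' : ↥L') : M) ∈ L := hNL h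
      rw [faceAlgHom_single_of_mem (ULift.{u} ℤ) hN n' h r, rh_single, rh_single,
        faceAlgHom_single_of_mem (ULift.{u} ℤ) hL (AddSubmonoid.inclusion hN'L' n') h' r]
      rfl
    · have h' : ((AddSubmonoid.inclusion hN'L' n' : ↥L') : M) ∉ L := fun hl =>
        h (((mem_iff hdiff (n' : M)).mp n'.2).2 hl)
      rw [faceAlgHom_single_of_not_mem (ULift.{u} ℤ) hN n' h r, map_zero, rh_single,
        faceAlgHom_single_of_not_mem (ULift.{u} ℤ) hL (AddSubmonoid.inclusion hN'L' n') h' r]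

theorem pi1_iota (b : MonoidAlgebra (ULift.{u} ℤ) (Multiplicative ↥N)) :
    faceAlgHom (ULift.{u} ℤ) hN (rh (ULift.{u} ℤ) (AddSubmonoid.inclusion hN.le) b) = b :=
  p_s hN b

theorem pi2_iota (b : MonoidAlgebra (ULift.{u} ℤ) (Multiplicative ↥N)) :
    rh (ULift.{u} ℤ) (AddSubmonoid.inclusion hN'L')
        (rh (ULift.{u} ℤ) (AddSubmonoid.inclusion hN.le) b) =
      rh (ULift.{u} ℤ) (AddSubmonoid.inclusion hL.le)
        (rh (ULift.{u} ℤ) (AddSubmonoid.inclusion hNL) b) := by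
  induction b using MonoidAlgebra.induction_linear with
  | zero => rw [map_zero, map_zero, map_zero, map_zero]
  | add x y hx hy => rw [map_add, map_add, map_add, map_add, hx, hy]
  | single m r =>
    obtain ⟨n, rfl⟩ := Multiplicative.ofAdd.surjective m
    rw [rh_single, rh_single, rh_single, rh_single]
    rfl

include hdiff hNL in
theorem ker_part (x : MonoidAlgebra (ULift.{u} ℤ) (Multiplicative ↥L')) :
    ∃ r₁ : MonoidAlgebra (ULift.{u} ℤ) (Multiplicative ↥N'),
      rh (ULift.{u} ℤ) (AddSubmonoid.inclusion hN'L') r₁ =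
        x - rh (ULift.{u} ℤ) (AddSubmonoid.inclusion hL.le) (faceAlgHom (ULift.{u} ℤ) hL x) ∧
      faceAlgHom (ULift.{u} ℤ) hN r₁ = 0 := by
  induction x using MonoidAlgebra.induction_linear with
  | zero =>
    refine ⟨0, ?_, map_zero _⟩
    rw [map_zero, map_zero, map_zero, sub_zero]
  | add x y hx hy =>
    obtain ⟨r₁, h1, h1'⟩ := hx
    obtain ⟨r₂, h2, h2'⟩ := hy
    refine ⟨r₁ + r₂, ?_, ?_⟩
    · rw [map_add, h1, h2, map_add, map_add]
      abel
    · rw [map_add, h1', h2', add_zero]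
  | single m r =>
    obtain ⟨l, rfl⟩ := Multiplicative.ofAdd.surjective m
    by_cases h : (l : M) ∈ L
    · refine ⟨0, ?_, map_zero _⟩
      rw [map_zero, faceAlgHom_single_of_mem (ULift.{u} ℤ) hL l h r, rh_single]
      have e : AddSubmonoid.inclusion hL.le (⟨(l : M), h⟩ : ↥L) = l := rfl
      rw [e, sub_self]
    · have hl : (l : M) ∈ N' := (mem_iff hdiff (l : M)).mpr ⟨l.2, fun hl' => absurd hl' h⟩
      refine ⟨MonoidAlgebra.single (Multiplicative.ofAdd (⟨(l : M), hl⟩ : ↥N')) r, ?_, ?_⟩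
      · rw [rh_single, faceAlgHom_single_of_not_mem (ULift.{u} ℤ) hL l h r, map_zero, sub_zero]
        rfl
      · exact faceAlgHom_single_of_not_mem (ULift.{u} ℤ) hN (⟨(l : M), hl⟩ : ↥N')
          (fun hn => h (hNL hn)) r

include hdiff in
theorem isFibSq :
    IsFibSq (faceAlgHom (ULift.{u} ℤ) hN).toRingHom
      (rh (ULift.{u} ℤ) (AddSubmonoid.inclusion hN'L'))
      (rh (ULift.{u} ℤ) (AddSubmonoid.inclusion hNL))
      (faceAlgHom (ULift.{u} ℤ) hL).toRingHom := by
  refine ⟨fun r => comm hNL hN'L' hL hN hdiff r, fun b a' hba => ?_, fun r r' _ h2 => ?_,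
    fun x => ⟨rh (ULift.{u} ℤ) (AddSubmonoid.inclusion hL.le) x, p_s hL x⟩⟩
  · obtain ⟨r₁, h1, h1'⟩ := ker_part hNL hN'L' hL hN hdiff a'
    refine ⟨rh (ULift.{u} ℤ) (AddSubmonoid.inclusion hN.le) b + r₁, ?_, ?_⟩
    · change faceAlgHom (ULift.{u} ℤ) hN (_ + _) = b
      rw [map_add, pi1_iota hN b, h1', add_zero]
    · have hba' : rh (ULift.{u} ℤ) (AddSubmonoid.inclusion hNL) b =
          faceAlgHom (ULift.{u} ℤ) hL a' := hba
      rw [map_add, pi2_iota hNL hN'L' hL hN b, h1, hba']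
      abel
  · have hinj : Function.Injective (AddSubmonoid.inclusion hN'L') := fun a b h =>
      Subtype.ext (congrArg (fun x : ↥L' => (x : M)) h)
    have e1 := MagnetDom.retr_map.{u} (AddSubmonoid.inclusion hN'L') hinj r
    have e2 := MagnetDom.retr_map.{u} (AddSubmonoid.inclusion hN'L') hinj r'
    have h2' : rh (ULift.{u} ℤ) (AddSubmonoid.inclusion hN'L') r =
        rh (ULift.{u} ℤ) (AddSubmonoid.inclusion hN'L') r' := h2
    rw [← e1, ← e2]
    exact congrArg _ h2'

end Alg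

section Geo

variable (S : Scheme.{u}) (M : Type) [AddCommMonoid M] (N N' L L' : AddSubmonoid M) (hNL : N ≤ L)
  (hN'L' : N' ≤ L') (hL : IsFace L' L) (hN : IsFace N' N)
  (hdiff : (N' : Set M) = (L' : Set M) \ ((L : Set M) \ (N : Set M)))

include hdiff in
theorem isPushout_left :
    IsPushout (AMon.faceMap (ULift.{u} ℤ) hL).left
      (AMon.map (ULift.{u} ℤ) (AddSubmonoid.inclusion hNL)).left
      (AMon.map (ULift.{u} ℤ) (AddSubmonoid.inclusion hN'L')).left
      (AMon.faceMap (ULift.{u} ℤ) hN).left :=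
  (isFibSq hNL hN'L' hL hN hdiff).isPushout

include hdiff in
theorem isPushout_base :
    IsPushout (AMon.faceMap (ULift.{u} ℤ) hL)
      (AMon.map (ULift.{u} ℤ) (AddSubmonoid.inclusion hNL))
      (AMon.map (ULift.{u} ℤ) (AddSubmonoid.inclusion hN'L'))
      (AMon.faceMap (ULift.{u} ℤ) hN) := by
  have hP := isPushout_left M N N' L L' hNL hN'L' hL hN hdiff
  have hcomm : AMon.faceMap (ULift.{u} ℤ) hL ≫
      AMon.map (ULift.{u} ℤ) (AddSubmonoid.inclusion hN'L') =
      AMon.map (ULift.{u} ℤ) (AddSubmonoid.inclusion hNL) ≫ AMon.faceMap (ULift.{u} ℤ) hN :=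
    Over.OverMorphism.ext hP.w
  exact IsPushout.of_map (Over.forget _) hcomm hP

include hdiff in
theorem main18305 :
    IsPushout (Magnet.AMonS.faceMap S hL) (Magnet.AMonS.map S (AddSubmonoid.inclusion hNL))
      (Magnet.AMonS.map S (AddSubmonoid.inclusion hN'L')) (Magnet.AMonS.faceMap S hN) := by
  haveI : IsClosedImmersion (AMon.faceMap (ULift.{u} ℤ) hL).left := by
    rw [AMon.faceMap_left]
    exact IsClosedImmersion.spec_of_surjective _
      (fun x => ⟨rh (ULift.{u} ℤ) (AddSubmonoid.inclusion hL.le) x, p_s hL x⟩)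
  haveI := MagnetDom.isAffine_AMon_left.{u} ↥L'
  haveI := MagnetDom.isAffine_AMon_left.{u} ↥N
  have hY : ∀ y : (AMon (ULift.{u} ℤ) ↥N).left,
      ∃ β : Pinch.APair (AMon.faceMap (ULift.{u} ℤ) hL).left
        (AMon.map (ULift.{u} ℤ) (AddSubmonoid.inclusion hNL)).left, y ∈ β.V := fun y =>
    ⟨⟨⊤, ⊤, isAffineOpen_top _, isAffineOpen_top _, rfl⟩, trivial⟩
  have hflat : Flat (AMon (ULift.{u} ℤ) ↥L).hom := by
    have hfl : (CommRingCat.ofHom (algebraMap (ULift.{u} ℤ)
        (MonoidAlgebra (ULift.{u} ℤ) (Multiplicative ↥L)))).hom.Flat := by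
      rw [CommRingCat.hom_ofHom, RingHom.flat_algebraMap_iff]
      infer_instance
    exact (HasRingHomProperty.Spec_iff (P := @Flat)).2 hfl
  exact Pinch.isPushout_overPullback (Limits.IsTerminal.from specULiftZIsTerminal S)
    (AMon.faceMap (ULift.{u} ℤ) hL) (AMon.map (ULift.{u} ℤ) (AddSubmonoid.inclusion hNL)) hY
    (AMon.map (ULift.{u} ℤ) (AddSubmonoid.inclusion hN'L')) (AMon.faceMap (ULift.{u} ℤ) hN)
    (isPushout_base M N N' L L' hNL hN'L' hL hN hdiff) (Or.inr hflat)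

end Geo

end Groth.Agent.Lib.Helper29.MagnetPushout
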