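import Mathlib
import Groth.Prelude.Def_Magnet4
import Groth.Agent.Lib.Helper29.MagnetPushout

/-!
# The cartesian square of attractors attached to a push-out of magnets (helper29, for S18303)

The push-out square `A(L)_S → A(L')_S`, `A(L)_S → A(N)_S`, `A(L')_S → A(N')_S`, `A(N)_S → A(N')_S`
of `MagnetPushout` stays a push-out after `- ×_S T` for every `S`-scheme `T`
(`isPushout_whisker`, by helper28's `Pinch.isPushout_baseChange`), and after `G ×_S -` it stays
jointly epimorphic (`joint_epi`); hence equivariant maps out of `A(N')_S ×_S T` are the same as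
compatible pairs of equivariant maps out of `A(L')_S ×_S T` and `A(N)_S ×_S T`.
-/
set_option autoImplicit false
set_option maxHeartbeats 1600000
set_option linter.style.haveILetI false
universe u
open CategoryTheory CategoryTheory.Limits MonoidalCategory CartesianMonoidalCategory MonObj
  AlgebraicGeometry Opposite

noncomputable section

namespace Groth.Agent.Lib.Helper29.MagnetPushoutAttr

open Magnet MagnetFixAlg MagnetBBPts Groth.Agent.Lib.Helper28

/-! ### Cartesian-monoidal generalities -/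

section Cart

variable {C : Type*} [Category C] [CartesianMonoidalCategory C]

/-- `A × (G × T) → G × (A × T)` -/
def sig (G A T : C) : A ⊗ (G ⊗ T) ⟶ G ⊗ (A ⊗ T) :=
  lift (snd A (G ⊗ T) ≫ fst G T) (lift (fst A (G ⊗ T)) (snd A (G ⊗ T) ≫ snd G T))

/-- `G × (A × T) → A × (G × T)` -/
def tau (G A T : C) : G ⊗ (A ⊗ T) ⟶ A ⊗ (G ⊗ T) :=
  lift (snd G (A ⊗ T) ≫ fst A T) (lift (fst G (A ⊗ T)) (snd G (A ⊗ T) ≫ snd A T))

theorem tau_sig (G A T : C) : tau G A T ≫ sig G A T = 𝟙 _ := by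
  unfold tau sig
  apply CartesianMonoidalCategory.hom_ext
  · simp
  · apply CartesianMonoidalCategory.hom_ext
    · simp
    · simp

theorem sig_nat (G T : C) {A B : C} (f : A ⟶ B) :
    (f ▷ (G ⊗ T)) ≫ sig G B T = sig G A T ≫ (G ◁ (f ▷ T)) := by
  unfold sig
  apply CartesianMonoidalCategory.hom_ext
  · simp
  · apply CartesianMonoidalCategory.hom_ext
    · simp
    · simp

theorem joint_epi {G T X A₁ A₂ A₃ : C} (m : A₁ ⟶ A₃) (f : A₂ ⟶ A₃)
    (hjoint : ∀ (k l : A₃ ⊗ (G ⊗ T) ⟶ X), (m ▷ (G ⊗ T)) ≫ k = (m ▷ (G ⊗ T)) ≫ l →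
      (f ▷ (G ⊗ T)) ≫ k = (f ▷ (G ⊗ T)) ≫ l → k = l)
    (u v : G ⊗ (A₃ ⊗ T) ⟶ X) (h1 : (G ◁ (m ▷ T)) ≫ u = (G ◁ (m ▷ T)) ≫ v)
    (h2 : (G ◁ (f ▷ T)) ≫ u = (G ◁ (f ▷ T)) ≫ v) : u = v := by
  have e : sig G A₃ T ≫ u = sig G A₃ T ≫ v := by
    apply hjoint
    · rw [← Category.assoc, sig_nat, Category.assoc, h1, ← Category.assoc, ← sig_nat,
        Category.assoc]
    · rw [← Category.assoc, sig_nat, Category.assoc, h2, ← Category.assoc, ← sig_nat,
        Category.assoc]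
  calc u = (tau G A₃ T ≫ sig G A₃ T) ≫ u := by rw [tau_sig, Category.id_comp]
    _ = tau G A₃ T ≫ sig G A₃ T ≫ v := by rw [Category.assoc, e]
    _ = v := by rw [← Category.assoc, tau_sig, Category.id_comp]

theorem isEquivariant_whiskerRight {G B' B : C} (T : C) [MonObj G] (ρ' : MonAct G B')
    (ρ : MonAct G B) (f : B' ⟶ B) (hf : MonAct.IsEquivariant ρ' ρ f) :
    MonAct.IsEquivariant (ρ'.prod (MonAct.trivial G T)) (ρ.prod (MonAct.trivial G T)) (f ▷ T) := by
  rw [MonAct.isEquivariant_iff] at hf ⊢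
  intro T' g x
  obtain ⟨x₁, x₂, rfl⟩ : ∃ x₁ x₂, x = lift x₁ x₂ :=
    ⟨x ≫ fst _ _, x ≫ snd _ _, (lift_comp_fst_snd x).symm⟩
  rw [MonAct.lift_prod_act_assoc, MonAct.lift_trivial_act, lift_whiskerRight, lift_whiskerRight,
    MonAct.lift_prod_act, MonAct.lift_trivial_act, Category.assoc, hf]

end Cart

/-! ### Base change of the push-out to `- ×_S T` -/

section PartA

variable (S : Scheme.{u}) (T : Over S) {N₁ N₂ : Type} [AddCommMonoid N₁] [AddCommMonoid N₂]
  (θ : AMon (ULift.{u} ℤ) N₁ ⟶ AMon (ULift.{u} ℤ) N₂)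

/-- base change of `θ` to `S` -/
abbrev bcS : AMonS S N₁ ⟶ AMonS S N₂ :=
  (Over.pullback (Limits.IsTerminal.from specULiftZIsTerminal S)).map θ

theorem whisker_q_gen :
    ((bcS S θ) ▷ T).left ≫ MagnetDom.qN S T N₂ = MagnetDom.qN S T N₁ := by
  unfold MagnetDom.qN
  rw [← Over.comp_left, whiskerRight_snd]

theorem whisker_p_gen :
    ((bcS S θ) ▷ T).left ≫ MagnetDom.pN S T N₂ = MagnetDom.pN S T N₁ ≫ θ.left := by
  unfold MagnetDom.pN
  rw [← Category.assoc, ← Over.comp_left, whiskerRight_fst, Over.comp_left, Category.assoc,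
    Category.assoc]
  congr 1
  exact pullback.lift_fst _ _ _

theorem sq_gen :
    IsPullback (MagnetDom.pN S T N₁) ((bcS S θ) ▷ T).left θ.left (MagnetDom.pN S T N₂) := by
  have e2 : θ.left ≫ (AMon (ULift.{u} ℤ) N₂).hom = (AMon (ULift.{u} ℤ) N₁).hom := Over.w θ
  have s : IsPullback (MagnetDom.pN S T N₁) (((bcS S θ) ▷ T).left ≫ MagnetDom.qN S T N₂)
      (θ.left ≫ (AMon (ULift.{u} ℤ) N₂).hom)
      (T.hom ≫ Limits.IsTerminal.from specULiftZIsTerminal S) := by
    rw [whisker_q_gen, e2]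
    exact MagnetDom.isPullback_pN_qN S T N₁
  exact IsPullback.of_bot s (whisker_p_gen S T θ).symm (MagnetDom.isPullback_pN_qN S T N₂)

end PartA

section PartA'

variable (S : Scheme.{u}) (M : Type) [AddCommMonoid M] (N N' L L' : AddSubmonoid M) (hNL : N ≤ L)
  (hN'L' : N' ≤ L') (hL : IsFace L' L) (hN : IsFace N' N)
  (hdiff : (N' : Set M) = (L' : Set M) \ ((L : Set M) \ (N : Set M)))

include hdiff in
theorem isPushout_whisker (T : Over S) :
    IsPushout (AMonS.faceMap S hL ▷ T) (AMonS.map S (AddSubmonoid.inclusion hNL) ▷ T)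
      (AMonS.map S (AddSubmonoid.inclusion hN'L') ▷ T) (AMonS.faceMap S hN ▷ T) := by
  have hP := MagnetPushout.isPushout_left M N N' L L' hNL hN'L' hL hN hdiff
  have hS := MagnetPushout.main18305 S M N N' L L' hNL hN'L' hL hN hdiff
  haveI : IsClosedImmersion (AMon.faceMap (ULift.{u} ℤ) hL).left := by
    rw [AMon.faceMap_left]
    exact IsClosedImmersion.spec_of_surjective _
      (fun x => ⟨rh (ULift.{u} ℤ) (AddSubmonoid.inclusion hL.le) x, MagnetPushout.p_s hL x⟩)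
  haveI := MagnetDom.isAffine_AMon_left.{u} ↥L'
  haveI := MagnetDom.isAffine_AMon_left.{u} ↥N
  have hY : ∀ y : (AMon (ULift.{u} ℤ) ↥N).left,
      ∃ β : Pinch.APair (AMon.faceMap (ULift.{u} ℤ) hL).left
        (AMon.map (ULift.{u} ℤ) (AddSubmonoid.inclusion hNL)).left, y ∈ β.V := fun y =>
    ⟨⟨⊤, ⊤, isAffineOpen_top _, isAffineOpen_top _, rfl⟩, trivial⟩
  have hflatL : Flat (AMon (ULift.{u} ℤ) ↥L).hom := by
    have hfl : (CommRingCat.ofHom (algebraMap (ULift.{u} ℤ)
        (MonoidAlgebra (ULift.{u} ℤ) (Multiplicative ↥L)))).hom.Flat := by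
      rw [CommRingCat.hom_ofHom, RingHom.flat_algebraMap_iff]
      infer_instance
    exact (HasRingHomProperty.Spec_iff (P := @Flat)).2 hfl
  have hflat : Flat (((AMon.faceMap (ULift.{u} ℤ) hL).left ≫
      (AMon.map (ULift.{u} ℤ) (AddSubmonoid.inclusion hN'L')).left) ≫
      (AMon (ULift.{u} ℤ) ↥N').hom) := by
    have e : ((AMon.faceMap (ULift.{u} ℤ) hL).left ≫
        (AMon.map (ULift.{u} ℤ) (AddSubmonoid.inclusion hN'L')).left) ≫
        (AMon (ULift.{u} ℤ) ↥N').hom = (AMon (ULift.{u} ℤ) ↥L).hom := by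
      rw [Category.assoc, Over.w, Over.w]
    rw [e]
    exact hflatL
  have hcomm : (AMonS.faceMap S hL ▷ T) ≫ (AMonS.map S (AddSubmonoid.inclusion hN'L') ▷ T) =
      (AMonS.map S (AddSubmonoid.inclusion hNL) ▷ T) ≫ (AMonS.faceMap S hN ▷ T) := by
    rw [← comp_whiskerRight, ← comp_whiskerRight, hS.w]
  refine IsPushout.of_map (Over.forget S) hcomm ?_
  change IsPushout (AMonS.faceMap S hL ▷ T).left
    (AMonS.map S (AddSubmonoid.inclusion hNL) ▷ T).left
    (AMonS.map S (AddSubmonoid.inclusion hN'L') ▷ T).left (AMonS.faceMap S hN ▷ T).left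
  have hX' : IsPullback (MagnetDom.pN S T ↥L')
      (AMonS.map S (AddSubmonoid.inclusion hN'L') ▷ T).left
      (AMon.map (ULift.{u} ℤ) (AddSubmonoid.inclusion hN'L')).left (MagnetDom.pN S T ↥N') :=
    sq_gen S T (AMon.map (ULift.{u} ℤ) (AddSubmonoid.inclusion hN'L'))
  have hY' : IsPullback (MagnetDom.pN S T ↥N) (AMonS.faceMap S hN ▷ T).left
      (AMon.faceMap (ULift.{u} ℤ) hN).left (MagnetDom.pN S T ↥N') :=
    sq_gen S T (AMon.faceMap (ULift.{u} ℤ) hN)
  have hZ1 : IsPullback (MagnetDom.pN S T ↥L) (AMonS.faceMap S hL ▷ T).left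
      (AMon.faceMap (ULift.{u} ℤ) hL).left (MagnetDom.pN S T ↥L') :=
    sq_gen S T (AMon.faceMap (ULift.{u} ℤ) hL)
  have hZ' := hZ1.paste_vert hX'
  have hj₁ : (AMonS.map S (AddSubmonoid.inclusion hNL) ▷ T).left ≫ MagnetDom.pN S T ↥N =
      MagnetDom.pN S T ↥L ≫ (AMon.map (ULift.{u} ℤ) (AddSubmonoid.inclusion hNL)).left :=
    whisker_p_gen S T (AMon.map (ULift.{u} ℤ) (AddSubmonoid.inclusion hNL))
  have hj₂ : (AMonS.map S (AddSubmonoid.inclusion hNL) ▷ T).left ≫
      (AMonS.faceMap S hN ▷ T).left = (AMonS.faceMap S hL ▷ T).left ≫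
      (AMonS.map S (AddSubmonoid.inclusion hN'L') ▷ T).left :=
    (congrArg (fun m => m.left) hcomm).symm
  exact Pinch.isPushout_baseChange (AMon (ULift.{u} ℤ) ↥N').hom
    (T.hom ≫ Limits.IsTerminal.from specULiftZIsTerminal S)
    (MagnetDom.isPullback_pN_qN S T ↥N') hX' hY' hZ' hZ1.w.symm rfl hj₁ hj₂ hY hP (Or.inr hflat)

end PartA'

/-! ### The cartesian square of attractors -/

section PartB

variable (S : Scheme.{u}) (M : Type) [AddCommMonoid M] {X : Over S}
  (act : MonAct (AMonS S M) X) (N N' L L' : AddSubmonoid M) (hNL : N ≤ L)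
  (hN'L' : N' ≤ L') (hL : IsFace L' L) (hN : IsFace N' N)
  (hdiff : (N' : Set M) = (L' : Set M) \ ((L : Set M) \ (N : Set M)))

include hdiff in
theorem isPullback_attr :
    IsPullback (attrMap act hN'L') (attrFace act hN) (attrFace act hL) (attrMap act hNL) := by
  apply IsPullback.of_forall_isPullback_app
  intro T
  have hPO := isPushout_whisker S M N N' L L' hNL hN'L' hL hN hdiff (unop T)
  have hPOG := isPushout_whisker S M N N' L L' hNL hN'L' hL hN hdiff (AMonS S M ⊗ unop T)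
  have hm_eqv : MonAct.IsEquivariant (subAct S M L') (subAct S M N')
      (AMonS.map S (AddSubmonoid.inclusion hN'L')) :=
    MonAct.isEquivariant_restrict_regular _ _ _ (by rw [← AMonS.map_comp]; rfl)
  have hf_eqv := isEquivariant_faceMapS S hN
  have hmT := isEquivariant_whiskerRight (unop T) _ _ _ hm_eqv
  have hfT := isEquivariant_whiskerRight (unop T) _ _ _ hf_eqv
  refine (Types.isPullback_iff _ _ _ _).2 ⟨?_, ?_, ?_⟩
  · refine ConcreteCategory.hom_ext _ _ fun φ => Subtype.ext ?_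
    change (AMonS.faceMap S hL ▷ unop T) ≫ (AMonS.map S (AddSubmonoid.inclusion hN'L') ▷ unop T) ≫
      φ.1 = (AMonS.map S (AddSubmonoid.inclusion hNL) ▷ unop T) ≫
      (AMonS.faceMap S hN ▷ unop T) ≫ φ.1
    rw [← Category.assoc, ← Category.assoc, hPO.w]
  · rintro φ₁ φ₂ ⟨h1, h2⟩
    apply Subtype.ext
    have h1' : (AMonS.map S (AddSubmonoid.inclusion hN'L') ▷ unop T) ≫ φ₁.1 =
        (AMonS.map S (AddSubmonoid.inclusion hN'L') ▷ unop T) ≫ φ₂.1 := congrArg Subtype.val h1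
    have h2' : (AMonS.faceMap S hN ▷ unop T) ≫ φ₁.1 = (AMonS.faceMap S hN ▷ unop T) ≫ φ₂.1 :=
      congrArg Subtype.val h2
    exact hPO.hom_ext h1' h2'
  · intro ψ χ hψχ
    have hc : (AMonS.faceMap S hL ▷ unop T) ≫ ψ.1 =
        (AMonS.map S (AddSubmonoid.inclusion hNL) ▷ unop T) ≫ χ.1 := congrArg Subtype.val hψχ
    obtain ⟨φ, hφ⟩ : ∃ φ, φ = hPO.desc ψ.1 χ.1 hc := ⟨_, rfl⟩
    have hφ1 : (AMonS.map S (AddSubmonoid.inclusion hN'L') ▷ unop T) ≫ φ = ψ.1 := by
      rw [hφ]; exact hPO.inl_desc _ _ _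
    have hφ2 : (AMonS.faceMap S hN ▷ unop T) ≫ φ = χ.1 := by
      rw [hφ]; exact hPO.inr_desc _ _ _
    have hψe : ((subAct S M L').prod (MonAct.trivial (AMonS S M) (unop T))).act ≫ ψ.1 =
        (AMonS S M ◁ ψ.1) ≫ act.act := ψ.2
    have hχe : ((subAct S M N).prod (MonAct.trivial (AMonS S M) (unop T))).act ≫ χ.1 =
        (AMonS S M ◁ χ.1) ≫ act.act := χ.2
    have hmT' : ((subAct S M L').prod (MonAct.trivial (AMonS S M) (unop T))).act ≫
        (AMonS.map S (AddSubmonoid.inclusion hN'L') ▷ unop T) =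
        (AMonS S M ◁ (AMonS.map S (AddSubmonoid.inclusion hN'L') ▷ unop T)) ≫
        ((subAct S M N').prod (MonAct.trivial (AMonS S M) (unop T))).act := hmT
    have hfT' : ((subAct S M N).prod (MonAct.trivial (AMonS S M) (unop T))).act ≫
        (AMonS.faceMap S hN ▷ unop T) =
        (AMonS S M ◁ (AMonS.faceMap S hN ▷ unop T)) ≫
        ((subAct S M N').prod (MonAct.trivial (AMonS S M) (unop T))).act := hfT
    have heq : MonAct.IsEquivariant ((subAct S M N').prod (MonAct.trivial (AMonS S M) (unop T)))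
        act φ := by
      show ((subAct S M N').prod (MonAct.trivial (AMonS S M) (unop T))).act ≫ φ =
        (AMonS S M ◁ φ) ≫ act.act
      refine joint_epi (AMonS.map S (AddSubmonoid.inclusion hN'L')) (AMonS.faceMap S hN)
        (fun k l hk hl => hPOG.hom_ext hk hl) _ _ ?_ ?_
      · rw [← Category.assoc, ← hmT', Category.assoc, hφ1, hψe, ← Category.assoc,
          ← MonoidalCategory.whiskerLeft_comp, hφ1]
      · rw [← Category.assoc, ← hfT', Category.assoc, hφ2, hχe, ← Category.assoc,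
          ← MonoidalCategory.whiskerLeft_comp, hφ2]
    exact ⟨⟨φ, heq⟩, Subtype.ext hφ1, Subtype.ext hφ2⟩

end PartB

theorem main18303 (S : Scheme.{u}) (M : Type) [AddCommGroup M] (X : Over S)
    (a : AlgGrp.Action (Red.DS S M) X) (N N' L L' : AddSubmonoid M) (hNL : N ≤ L)
    (hN'L' : N' ≤ L')
    (hL : Magnet.IsFace L' L) (hN : Magnet.IsFace N' N) (hmeet : N = L ⊓ N')
    (hjoin : L' = L ⊔ N')
    (hdiff : (N' : Set M) = (L' : Set M) \ ((L : Set M) \ (N : Set M))) :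
    IsPullback (Magnet.attrMap (Magnet.MonAct.ofAction a) hN'L')
      (Magnet.attrFace (Magnet.MonAct.ofAction a) hN)
      (Magnet.attrFace (Magnet.MonAct.ofAction a) hL)
      (Magnet.attrMap (Magnet.MonAct.ofAction a) hNL) :=
  isPullback_attr S M (Magnet.MonAct.ofAction a) N N' L L' hNL hN'L' hL hN hdiff

end Groth.Agent.Lib.Helper29.MagnetPushoutAttr
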