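import Mathlib
import Groth.Prelude.Def_Magnet4
import Groth.Agent.Lib.Helper29.MagnetEtCore
import Groth.Agent.Lib.Helper29.MagnetEtU
import Groth.Agent.Lib.Helper29.MagnetFaceFun
import Groth.Agent.Lib.Helper29.BigSheaf
import Groth.Agent.Lib.Helper29.DescFF
import Groth.Agent.Lib.Helper29.MagnetPushoutAttr
import Groth.Agent.Lib.Helper29.MagnetAttr
import Groth.Agent.Lib.Helper26.MagnetFactor

/-!
# Étale base change of attractors along faces (helper29, S18302)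
-/
set_option autoImplicit false
set_option maxHeartbeats 1600000
set_option linter.style.haveILetI false
universe u
open CategoryTheory CategoryTheory.Limits MonoidalCategory CartesianMonoidalCategory MonObj
  AlgebraicGeometry Opposite

noncomputable section

namespace Groth.Agent.Lib.Helper29.MagnetEtMain

open Magnet MagnetDom MagnetEtRing MagnetEtIdeal MagnetEtCore MagnetFixAlg MagnetFix MagnetComapIso
  MagnetBBPts MagnetPt

section Gen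
variable (S : Scheme.{u}) {M : Type} [AddCommMonoid M]

theorem map_comp_faceMap {N N₁ Q Q₁ : AddSubmonoid M} (hQ : IsFace N Q) (hQ₁ : IsFace N₁ Q₁)
    (hN : N₁ ≤ N) (hQQ : Q₁ ≤ Q) (hiff : ∀ n ∈ N₁, n ∈ Q₁ ↔ n ∈ Q) :
    AMonS.map S (AddSubmonoid.inclusion hQQ) ≫ AMonS.faceMap S hQ₁ =
      AMonS.faceMap S hQ ≫ AMonS.map S (AddSubmonoid.inclusion hN) := by
  classical
  have key : ∀ {T : Over S} (P : T ⟶ AMonS S ↥Q),
      (P ≫ AMonS.map S (AddSubmonoid.inclusion hQQ)) ≫ AMonS.faceMap S hQ₁ =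
        (P ≫ AMonS.faceMap S hQ) ≫ AMonS.map S (AddSubmonoid.inclusion hN) := by
    intro T P
    apply chi_ext
    intro n
    rw [chi_faceMap, chi_map, chi_map, chi_faceMap]
    simp only [RingHom.comp_apply]
    rw [rh_eN]
    by_cases h : (n : M) ∈ Q₁
    · have hq : (n : M) ∈ Q := hQQ h
      have e1 : (faceAlgHom (ULift.{u} ℤ) hQ₁).toRingHom (eN n) = eN (⟨(n : M), h⟩ : ↥Q₁) :=
        faceAlgHom_single_of_mem (ULift.{u} ℤ) hQ₁ n h 1
      have e2 : (faceAlgHom (ULift.{u} ℤ) hQ).toRingHom (eN (AddSubmonoid.inclusion hN n)) =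
          eN (⟨(n : M), hq⟩ : ↥Q) :=
        faceAlgHom_single_of_mem (ULift.{u} ℤ) hQ (AddSubmonoid.inclusion hN n) hq 1
      rw [e1, e2, rh_eN]
      rfl
    · have hq : (n : M) ∉ Q := fun hq => h ((hiff _ n.2).2 hq)
      have e1 : (faceAlgHom (ULift.{u} ℤ) hQ₁).toRingHom (eN n) = 0 :=
        faceAlgHom_single_of_not_mem (ULift.{u} ℤ) hQ₁ n h 1
      have e2 : (faceAlgHom (ULift.{u} ℤ) hQ).toRingHom (eN (AddSubmonoid.inclusion hN n)) = 0 :=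
        faceAlgHom_single_of_not_mem (ULift.{u} ℤ) hQ (AddSubmonoid.inclusion hN n) hq 1
      rw [e1, e2, map_zero, map_zero]
  have h := key (𝟙 (AMonS S ↥Q))
  rwa [Category.id_comp, Category.id_comp] at h

theorem eqv_restrict {B Y : Over S} (ρ : MonAct (AMonS S M) B) (a : MonAct (AMonS S M) Y)
    {T T' : Over S} (t : T' ⟶ T) (φ : B ⊗ T ⟶ Y)
    (hφ : MonAct.IsEquivariant (ρ.prod (MonAct.trivial (AMonS S M) T)) a φ) :
    MonAct.IsEquivariant (ρ.prod (MonAct.trivial (AMonS S M) T')) a ((B ◁ t) ≫ φ) :=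
  ((MonAct.eqvHom ρ a).map t.op ⟨φ, hφ⟩).2

theorem whisker_map_comp (T : Over S) {L₁ L₂ L₃ : AddSubmonoid M} (h12 : L₁ ≤ L₂) (h23 : L₂ ≤ L₃) :
    (AMonS.map S (AddSubmonoid.inclusion h23) ▷ T) ≫ (AMonS.map S (AddSubmonoid.inclusion h12) ▷ T) =
      (AMonS.map S (AddSubmonoid.inclusion (h12.trans h23)) ▷ T) := by
  rw [← comp_whiskerRight, ← MagnetDirected.AMonS_map_inclusion_comp S h12 h23 (h12.trans h23)]

theorem attrMap_attrMap {Y : Over S} (a : MonAct (AMonS S M) Y) {L₁ L₂ L₃ : AddSubmonoid M}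
    (h12 : L₁ ≤ L₂) (h23 : L₂ ≤ L₃) (T : Over S) (x : (attr a L₁).obj (op T)) :
    (attrMap a h23).app (op T) ((attrMap a h12).app (op T) x) =
      (attrMap a (h12.trans h23)).app (op T) x := by
  apply Subtype.ext
  show (AMonS.map S (AddSubmonoid.inclusion h23) ▷ T) ≫
      (AMonS.map S (AddSubmonoid.inclusion h12) ▷ T) ≫ x.1 =
    (AMonS.map S (AddSubmonoid.inclusion (h12.trans h23)) ▷ T) ≫ x.1
  rw [← Category.assoc, whisker_map_comp]

theorem attrMap_refl {Y : Over S} (a : MonAct (AMonS S M) Y) {L : AddSubmonoid M} (h : L ≤ L)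
    (T : Over S) (x : (attr a L).obj (op T)) : (attrMap a h).app (op T) x = x := by
  apply Subtype.ext
  show (AMonS.map S (AddSubmonoid.inclusion h) ▷ T) ≫ x.1 = x.1
  rw [MagnetDirected.AMonS_map_inclusion_refl S L h, id_whiskerRight, Category.id_comp]

theorem exists_fg_stage {Y : Over S} [IsSeparated Y.hom] [LocallyOfFinitePresentation Y.hom]
    (a : MonAct (AMonS S M) Y) (L : AddSubmonoid M) (T : Over S) [IsAffine T.left]
    (x : (attr a L).obj (op T)) :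
    ∃ (L₀ : AddSubmonoid M) (_ : L₀.FG) (h : L₀ ≤ L) (x₀ : (attr a L₀).obj (op T)),
      (attrMap a h).app (op T) x₀ = x := by
  classical
  obtain ⟨Nf, hNf⟩ : ∃ Nf : {L' : AddSubmonoid M // L'.FG ∧ L' ≤ L} → AddSubmonoid M,
      Nf = fun i => i.1 := ⟨_, rfl⟩
  haveI : Nonempty {L' : AddSubmonoid M // L'.FG ∧ L' ≤ L} :=
    ⟨⟨⊥, ⟨∅, by simp⟩, bot_le⟩⟩
  haveI : IsDirected {L' : AddSubmonoid M // L'.FG ∧ L' ≤ L} (· ≤ ·) :=
    ⟨fun a b => ⟨⟨a.1 ⊔ b.1, a.2.1.sup b.2.1, sup_le a.2.2 b.2.2⟩,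
      (le_sup_left : a.1 ≤ a.1 ⊔ b.1), (le_sup_right : b.1 ≤ a.1 ⊔ b.1)⟩⟩
  have hmono : Monotone Nf := by
    rw [hNf]
    intro a b h
    exact h
  have hsup : L ≤ ⨆ i, Nf i := by
    intro n hn
    have hcl : AddSubmonoid.closure ({n} : Set M) ≤ L :=
      (AddSubmonoid.closure_le).2 (by simpa using hn)
    have hfg : (AddSubmonoid.closure ({n} : Set M)).FG := ⟨{n}, by simp⟩
    have h1 : AddSubmonoid.closure ({n} : Set M) ≤ ⨆ i, Nf i := by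
      rw [hNf]
      exact le_iSup (fun i : {L' : AddSubmonoid M // L'.FG ∧ L' ≤ L} => i.1)
        ⟨AddSubmonoid.closure ({n} : Set M), hfg, hcl⟩
    exact h1 (AddSubmonoid.subset_closure (Set.mem_singleton n))
  have hle : (⨆ i, Nf i) ≤ L := by
    rw [hNf]
    exact iSup_le (fun i => i.2.2)
  obtain ⟨i, y, hy⟩ := MagnetDirected.main18290 S M Y a Nf hmono T ((attrMap a hsup).app (op T) x)
  have hiL : Nf i ≤ L := (le_iSup Nf i).trans hle
  refine ⟨Nf i, by rw [hNf]; exact i.2.1, hiL, y, ?_⟩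
  have h1 := congrArg (fun z => (attrMap a hle).app (op T) z) hy
  simp only [] at h1
  rw [attrMap_attrMap, attrMap_attrMap, attrMap_refl] at h1
  exact h1

end Gen

section Main
variable (S : Scheme.{u}) (M : Type) [AddCommGroup M] {X U : Over S}
  (bX : MonAct (AMonS S M) X) (bU : MonAct (AMonS S M) U) (f : U ⟶ X)
  (hf : MonAct.IsEquivariant bU bX f) {N Q : AddSubmonoid M} (hQ : IsFace N Q)

/-- the lifting problem -/
def Sol (T : Over S) (φ : AMonS S ↥N ⊗ T ⟶ X) (ψ : AMonS S ↥Q ⊗ T ⟶ U) : Prop :=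
  ∃ φt : AMonS S ↥N ⊗ T ⟶ U,
    MonAct.IsEquivariant ((subAct S M N).prod (MonAct.trivial (AMonS S M) T)) bU φt ∧
    φt ≫ f = φ ∧ (AMonS.faceMap S hQ ▷ T) ≫ φt = ψ

omit [AddCommGroup M] in
theorem compat_restrict' {M' : Type} [AddCommGroup M'] {N' Q' : AddSubmonoid M'}
    (hQ' : IsFace N' Q') {X' U' : Over S} (f' : U' ⟶ X') {T T' : Over S} (t : T' ⟶ T)
    (φ : AMonS S ↥N' ⊗ T ⟶ X') (ψ : AMonS S ↥Q' ⊗ T ⟶ U')
    (hc : (AMonS.faceMap S hQ' ▷ T) ≫ φ = ψ ≫ f') :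
    (AMonS.faceMap S hQ' ▷ T') ≫ (AMonS S ↥N' ◁ t) ≫ φ = ((AMonS S ↥Q' ◁ t) ≫ ψ) ≫ f' := by
  rw [← Category.assoc, ← whisker_exchange, Category.assoc, hc, Category.assoc]

include hf in
theorem glue [Etale f.left] (T : Over S) {I : Type*} (Z : I → Over S) (g : ∀ i, Z i ⟶ T)
    (hcov : Presieve.ofArrows (fun i => (Z i).left) (fun i => (g i).left) ∈
      Scheme.fpqcPrecoverage T.left)
    (φ : AMonS S ↥N ⊗ T ⟶ X)
    (hφ : MonAct.IsEquivariant ((subAct S M N).prod (MonAct.trivial (AMonS S M) T)) bX φ)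
    (ψ : AMonS S ↥Q ⊗ T ⟶ U)
    (hψ : MonAct.IsEquivariant ((subAct S M Q).prod (MonAct.trivial (AMonS S M) T)) bU ψ)
    (hloc : ∀ i, Sol S M bU f hQ (Z i) ((AMonS S ↥N ◁ g i) ≫ φ) ((AMonS S ↥Q ◁ g i) ≫ ψ)) :
    Sol S M bU f hQ T φ ψ := by
  have hR : (Presieve.ofArrows Z g).map (Over.forget S) ∈ Scheme.fpqcPrecoverage T.left := by
    rw [Presieve.map_ofArrows]
    exact hcov
  choose x hxe hxf hxq using hloc
  have hS := BigSheaf.eqvHom_isSheafFor S (AMonS S M) (AMonS S ↥N) U (subAct S M N) bU T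
    (Presieve.ofArrows Z g) hR
  have hS' := (Presieve.isSheafFor_arrows_iff _ _).1 hS
  obtain ⟨t, ht, -⟩ := hS' (fun i => ⟨x i, hxe i⟩) (by
    intro i j W p q hpq
    apply Subtype.ext
    show (AMonS S ↥N ◁ p) ≫ x i = (AMonS S ↥N ◁ q) ≫ x j
    refine MagnetEtU.uniq S M bX bU f hf hQ _ _
      (eqv_restrict S (subAct S M N) bU p (x i) (hxe i))
      (eqv_restrict S (subAct S M N) bU q (x j) (hxe j)) ?_ ?_
    · rw [Category.assoc, Category.assoc, hxf i, hxf j, ← Category.assoc, ← Category.assoc,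
        ← MonoidalCategory.whiskerLeft_comp, ← MonoidalCategory.whiskerLeft_comp, hpq]
    · rw [← Category.assoc, ← Category.assoc, ← whisker_exchange, ← whisker_exchange,
        Category.assoc, Category.assoc, hxq i, hxq j, ← Category.assoc, ← Category.assoc,
        ← MonoidalCategory.whiskerLeft_comp, ← MonoidalCategory.whiskerLeft_comp, hpq])
  have hti : ∀ i, (AMonS S ↥N ◁ g i) ≫ t.1 = x i := fun i => congrArg Subtype.val (ht i)
  refine ⟨t.1, t.2, ?_, ?_⟩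
  · have sepX := (BigSheaf.eqvHom_isSheafFor S (AMonS S M) (AMonS S ↥N) X (subAct S M N) bX T
      (Presieve.ofArrows Z g) hR).isSeparatedFor
    have e : (⟨t.1 ≫ f, t.2.comp hf⟩ : (MonAct.eqvHom (subAct S M N) bX).obj (op T)) =
        ⟨φ, hφ⟩ := by
      apply sepX.ext
      rintro W p ⟨i⟩
      apply Subtype.ext
      show (AMonS S ↥N ◁ g i) ≫ t.1 ≫ f = (AMonS S ↥N ◁ g i) ≫ φ
      rw [← Category.assoc, hti i, hxf i]
    exact congrArg Subtype.val e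
  · have sepU := (BigSheaf.eqvHom_isSheafFor S (AMonS S M) (AMonS S ↥Q) U (subAct S M Q) bU T
      (Presieve.ofArrows Z g) hR).isSeparatedFor
    have e : ((attrFace bU hQ).app (op T) t) = ⟨ψ, hψ⟩ := by
      apply sepU.ext
      rintro W p ⟨i⟩
      apply Subtype.ext
      show (AMonS S ↥Q ◁ g i) ≫ (AMonS.faceMap S hQ ▷ T) ≫ t.1 = (AMonS S ↥Q ◁ g i) ≫ ψ
      rw [← Category.assoc, whisker_exchange, Category.assoc, hti i, hxq i]
    exact congrArg Subtype.val e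

include hf in
theorem sol_small [AddGroup.FG M] [Etale f.left] (hN : N.FG) (T : Over S) [IsAffine T.left]
    [IsAffine U.left] {V : Scheme.{u}} [IsAffine V] (v : V ⟶ S) [Mono v] (kU : U.left ⟶ V)
    (hkU : U.hom = kU ≫ v) (hT : T.left ⟶ V) (hhT : T.hom = hT ≫ v)
    (φ : AMonS S ↥N ⊗ T ⟶ X)
    (hφ : MonAct.IsEquivariant ((subAct S M N).prod (MonAct.trivial (AMonS S M) T)) bX φ)
    (ψ : AMonS S ↥Q ⊗ T ⟶ U)
    (hψ : MonAct.IsEquivariant ((subAct S M Q).prod (MonAct.trivial (AMonS S M) T)) bU ψ)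
    (hc : (AMonS.faceMap S hQ ▷ T) ≫ φ = ψ ≫ f) : Sol S M bU f hQ T φ ψ := by
  obtain ⟨ℓ, hℓ, hℓQ⟩ := MagnetFaceFun.exists_face_fun hN hQ
  have hρeq : MonAct.IsEquivariant ((subAct S M N).prod (MonAct.trivial (AMonS S M) T))
      ((subAct S M Q).prod (MonAct.trivial (AMonS S M) T))
      (AMonS.map S (AddSubmonoid.inclusion hQ.le) ▷ T) :=
    MagnetPushoutAttr.isEquivariant_whiskerRight T _ _ _
      (MonAct.isEquivariant_restrict_regular _ _ _ (by rw [← AMonS.map_comp]; rfl))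
  have hr := retr_face S N ℓ hℓ T hQ hℓQ
  have h0 : jk (AMonS S ↥N ⊗ T) (Jd S N ℓ hℓ T 1) ≫
      ((AMonS.map S (AddSubmonoid.inclusion hQ.le) ▷ T) ≫ ψ) ≫ f =
      jk (AMonS S ↥N ⊗ T) (Jd S N ℓ hℓ T 1) ≫ φ := by
    calc jk (AMonS S ↥N ⊗ T) (Jd S N ℓ hℓ T 1) ≫
          ((AMonS.map S (AddSubmonoid.inclusion hQ.le) ▷ T) ≫ ψ) ≫ f
        = jk (AMonS S ↥N ⊗ T) (Jd S N ℓ hℓ T 1) ≫
          (AMonS.map S (AddSubmonoid.inclusion hQ.le) ▷ T) ≫ (AMonS.faceMap S hQ ▷ T) ≫ φ := by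
          rw [Category.assoc, hc]
      _ = (jk (AMonS S ↥N ⊗ T) (Jd S N ℓ hℓ T 1) ≫
          (AMonS.map S (AddSubmonoid.inclusion hQ.le) ▷ T) ≫ (AMonS.faceMap S hQ ▷ T)) ≫ φ := by
          rw [Category.assoc, Category.assoc]
      _ = jk (AMonS S ↥N ⊗ T) (Jd S N ℓ hℓ T 1) ≫ φ := by rw [hr]
  obtain ⟨φt, hφt, hφtf, hφt0⟩ := core S M N ℓ hℓ T bX bU f hf v kU hkU hT hhT φ hφ
    ((AMonS.map S (AddSubmonoid.inclusion hQ.le) ▷ T) ≫ ψ) (hρeq.comp hψ) h0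
  refine ⟨φt, hφt, hφtf, ?_⟩
  obtain ⟨w0, hw0⟩ := exists_fac (AMonS S ↥N ⊗ T) (Jd S N ℓ hℓ T 1) (AMonS.faceMap S hQ ▷ T)
    (face_kills S N ℓ hℓ T hQ hℓQ)
  rw [← hw0, Category.assoc, hφt0, ← Category.assoc, hw0, ← Category.assoc, ← comp_whiskerRight,
    AMonS.faceMap_comp_map, id_whiskerRight, Category.id_comp]

include hf in
theorem sol_of_small_T [AddGroup.FG M] [Etale f.left] [IsAffineHom U.hom] (hN : N.FG)
    (T : Over S) [IsAffine T.left] {V : Scheme.{u}} [IsAffine V] (v : V ⟶ S) [IsOpenImmersion v]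
    (hT : T.left ⟶ V) (hhT : T.hom = hT ≫ v)
    (φ : AMonS S ↥N ⊗ T ⟶ X)
    (hφ : MonAct.IsEquivariant ((subAct S M N).prod (MonAct.trivial (AMonS S M) T)) bX φ)
    (ψ : AMonS S ↥Q ⊗ T ⟶ U)
    (hψ : MonAct.IsEquivariant ((subAct S M Q).prod (MonAct.trivial (AMonS S M) T)) bU ψ)
    (hc : (AMonS.faceMap S hQ ▷ T) ≫ φ = ψ ≫ f) : Sol S M bU f hQ T φ ψ := by
  obtain ⟨ji, hji⟩ : ∃ ji : Over.mk (pullback.snd v U.hom ≫ U.hom) ⟶ U,
      ji = Over.homMk (pullback.snd v U.hom) rfl := ⟨_, rfl⟩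
  have hjil : ji.left = pullback.snd v U.hom := by rw [hji]; rfl
  haveI : IsAffine (Over.mk (pullback.snd v U.hom ≫ U.hom)).left :=
    (inferInstance : IsAffine (pullback v U.hom))
  haveI : IsOpenImmersion ji.left := by rw [hjil]; infer_instance
  haveI : Mono ji.left := inferInstance
  haveI : Mono ji := Over.mono_of_mono_left ji
  have hlift : ∀ {W : Over S} (g : W ⟶ U) (h : W.left ⟶ V), h ≫ v = W.hom →
      ∃ g' : W ⟶ Over.mk (pullback.snd v U.hom ≫ U.hom), g' ≫ ji = g := by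
    intro W g h hh
    have hc' : h ≫ v = g.left ≫ U.hom := hh.trans (Over.w g).symm
    refine ⟨Over.homMk (pullback.lift h g.left hc') ?_, ?_⟩
    · show pullback.lift h g.left hc' ≫ pullback.snd v U.hom ≫ U.hom = W.hom
      rw [pullback.lift_snd_assoc, Over.w g]
    · apply Over.OverMorphism.ext
      show pullback.lift h g.left hc' ≫ ji.left = g.left
      rw [hjil, pullback.lift_snd]
  have hUVhom : (Over.mk (pullback.snd v U.hom ≫ U.hom)).hom = pullback.fst v U.hom ≫ v :=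
    pullback.condition.symm
  obtain ⟨cact, hcact⟩ := hlift ((AMonS S M ◁ ji) ≫ bU.act)
    ((snd (AMonS S M) (Over.mk (pullback.snd v U.hom ≫ U.hom))).left ≫ pullback.fst v U.hom)
    (by rw [Category.assoc, ← hUVhom, Over.w])
  obtain ⟨ai, -, hai⟩ :=
    Groth.Agent.Lib.Helper26.MagnetFactor.exists_monAct_of_mono bU ji cact hcact
  have hai' : ai.act ≫ ji = (AMonS S M ◁ ji) ≫ bU.act := hai
  haveI : Etale (ji ≫ f).left := by
    rw [Over.comp_left]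
    infer_instance
  have hfV : MonAct.IsEquivariant ai bX (ji ≫ f) := hai.comp hf
  obtain ⟨ψV, hψV⟩ := hlift ψ ((snd (AMonS S ↥Q) T).left ≫ hT)
    (by rw [Category.assoc, ← hhT, Over.w])
  have hψ' : ((subAct S M Q).prod (MonAct.trivial (AMonS S M) T)).act ≫ ψ =
      (AMonS S M ◁ ψ) ≫ bU.act := hψ
  have hψVeq : MonAct.IsEquivariant ((subAct S M Q).prod (MonAct.trivial (AMonS S M) T)) ai ψV := by
    show ((subAct S M Q).prod (MonAct.trivial (AMonS S M) T)).act ≫ ψV =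
      (AMonS S M ◁ ψV) ≫ ai.act
    rw [← cancel_mono ji, Category.assoc, hψV, Category.assoc, hai', ← Category.assoc,
      ← MonoidalCategory.whiskerLeft_comp, hψV, hψ']
  obtain ⟨φV, hφVeq, hφVf, hφVq⟩ := sol_small S M bX ai (ji ≫ f) hfV hQ hN T v
    (pullback.fst v U.hom) hUVhom hT hhT φ hφ ψV hψVeq (by rw [← Category.assoc, hψV]; exact hc)
  refine ⟨φV ≫ ji, hφVeq.comp hai, ?_, ?_⟩
  · rw [Category.assoc]
    exact hφVf
  · rw [← Category.assoc, hφVq, hψV]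

include hf in
theorem sol_over_affine [AddGroup.FG M] [Etale f.left] [IsAffineHom U.hom] (hN : N.FG)
    {V : Scheme.{u}} [IsAffine V] (v : V ⟶ S) [IsOpenImmersion v] (T : Over S)
    (hT : T.left ⟶ V) (hhT : hT ≫ v = T.hom)
    (φ : AMonS S ↥N ⊗ T ⟶ X)
    (hφ : MonAct.IsEquivariant ((subAct S M N).prod (MonAct.trivial (AMonS S M) T)) bX φ)
    (ψ : AMonS S ↥Q ⊗ T ⟶ U)
    (hψ : MonAct.IsEquivariant ((subAct S M Q).prod (MonAct.trivial (AMonS S M) T)) bU ψ)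
    (hc : (AMonS.faceMap S hQ ▷ T) ≫ φ = ψ ≫ f) : Sol S M bU f hQ T φ ψ := by
  have hcovT : Presieve.ofArrows T.left.affineCover.X T.left.affineCover.f ∈
      Scheme.fpqcPrecoverage T.left :=
    Scheme.zariskiPrecoverage_le_fpqcPrecoverage _ T.left.affineCover.mem₀
  refine glue S M bX bU f hf hQ T (fun j => Over.mk (T.left.affineCover.f j ≫ T.hom))
    (fun j => Over.homMk (T.left.affineCover.f j) rfl) hcovT φ hφ ψ hψ ?_
  intro j
  haveI : IsAffine (Over.mk (T.left.affineCover.f j ≫ T.hom)).left :=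
    Scheme.isAffine_affineCover T.left j
  exact sol_of_small_T S M bX bU f hf hQ hN _ v (T.left.affineCover.f j ≫ hT)
    (by
      show T.left.affineCover.f j ≫ T.hom = (T.left.affineCover.f j ≫ hT) ≫ v
      rw [Category.assoc, hhT]) _
    (eqv_restrict S (subAct S M N) bX _ φ hφ) _ (eqv_restrict S (subAct S M Q) bU _ ψ hψ)
    (compat_restrict' S hQ f _ φ ψ hc)

include hf in
theorem sol_fg [AddGroup.FG M] [Etale f.left] [IsAffineHom U.hom] (hN : N.FG) (T : Over S)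
    (φ : AMonS S ↥N ⊗ T ⟶ X)
    (hφ : MonAct.IsEquivariant ((subAct S M N).prod (MonAct.trivial (AMonS S M) T)) bX φ)
    (ψ : AMonS S ↥Q ⊗ T ⟶ U)
    (hψ : MonAct.IsEquivariant ((subAct S M Q).prod (MonAct.trivial (AMonS S M) T)) bU ψ)
    (hc : (AMonS.faceMap S hQ ▷ T) ≫ φ = ψ ≫ f) : Sol S M bU f hQ T φ ψ := by
  obtain ⟨𝒰, h𝒰⟩ : ∃ 𝒰 : S.OpenCover, 𝒰 = S.affineCover := ⟨_, rfl⟩
  haveI : ∀ i, IsAffine (𝒰.X i) := by rw [h𝒰]; infer_instance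
  have hv : Presieve.ofArrows 𝒰.X 𝒰.f ∈ Scheme.fpqcPrecoverage S :=
    Scheme.zariskiPrecoverage_le_fpqcPrecoverage _ 𝒰.mem₀
  have hcov := DescFF.cover_bc 𝒰.f hv T
  refine glue S M bX bU f hf hQ T (fun i => Over.mk (pullback.snd (𝒰.f i) T.hom ≫ T.hom))
    (fun i => Over.homMk (pullback.snd (𝒰.f i) T.hom) rfl) hcov φ hφ ψ hψ ?_
  intro i
  exact sol_over_affine S M bX bU f hf hQ hN (𝒰.f i) _ (pullback.fst (𝒰.f i) T.hom)
    pullback.condition _ (eqv_restrict S (subAct S M N) bX _ φ hφ) _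
    (eqv_restrict S (subAct S M Q) bU _ ψ hψ) (compat_restrict' S hQ f _ φ ψ hc)

include hf in
theorem sol_sep_affine [AddGroup.FG M] [Etale f.left] [IsAffineHom U.hom] [IsSeparated X.hom]
    [LocallyOfFinitePresentation X.hom] (T : Over S) [IsAffine T.left]
    (φ : AMonS S ↥N ⊗ T ⟶ X)
    (hφ : MonAct.IsEquivariant ((subAct S M N).prod (MonAct.trivial (AMonS S M) T)) bX φ)
    (ψ : AMonS S ↥Q ⊗ T ⟶ U)
    (hψ : MonAct.IsEquivariant ((subAct S M Q).prod (MonAct.trivial (AMonS S M) T)) bU ψ)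
    (hc : (AMonS.faceMap S hQ ▷ T) ≫ φ = ψ ≫ f) : Sol S M bU f hQ T φ ψ := by
  haveI : IsSeparated U.hom := inferInstance
  haveI : LocallyOfFinitePresentation U.hom := by
    rw [← Over.w f]
    infer_instance
  obtain ⟨N₀, hN₀fg, hN₀le, φ₀, hφ₀⟩ := exists_fg_stage S bX N T ⟨φ, hφ⟩
  obtain ⟨Q₀, hQ₀fg, hQ₀le, ψ₀, hψ₀⟩ := exists_fg_stage S bU Q T ⟨ψ, hψ⟩
  have hφ₀' : (AMonS.map S (AddSubmonoid.inclusion hN₀le) ▷ T) ≫ φ₀.1 = φ :=
    congrArg Subtype.val hφ₀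
  have hψ₀' : (AMonS.map S (AddSubmonoid.inclusion hQ₀le) ▷ T) ≫ ψ₀.1 = ψ :=
    congrArg Subtype.val hψ₀
  obtain ⟨N₁, hN₁⟩ : ∃ N₁ : AddSubmonoid M, N₁ = N₀ ⊔ Q₀ := ⟨_, rfl⟩
  have hN₁fg : N₁.FG := by rw [hN₁]; exact hN₀fg.sup hQ₀fg
  have hN₀N₁ : N₀ ≤ N₁ := by rw [hN₁]; exact le_sup_left
  have hQ₀N₁ : Q₀ ≤ N₁ := by rw [hN₁]; exact le_sup_right
  have hN₁le : N₁ ≤ N := by rw [hN₁]; exact sup_le hN₀le (hQ₀le.trans hQ.le)
  obtain ⟨Q₁, hQ₁def⟩ : ∃ Q₁ : AddSubmonoid M, Q₁ = Q ⊓ N₁ := ⟨_, rfl⟩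
  have hQ₁Q : Q₁ ≤ Q := by rw [hQ₁def]; exact inf_le_left
  have hQ₁N₁ : Q₁ ≤ N₁ := by rw [hQ₁def]; exact inf_le_right
  have hQ₀Q₁ : Q₀ ≤ Q₁ := by rw [hQ₁def]; exact le_inf hQ₀le hQ₀N₁
  have hQ₁ : IsFace N₁ Q₁ :=
    { le := hQ₁N₁
      mem_of_add_mem := fun x hx y hy hxy => by
        rw [hQ₁def] at hxy ⊢
        have h := hQ.mem_of_add_mem x (hN₁le hx) y (hN₁le hy) hxy.1
        exact ⟨⟨h.1, hx⟩, ⟨h.2, hy⟩⟩ }
  have hiff : ∀ n ∈ N₁, n ∈ Q₁ ↔ n ∈ Q := fun n hn => by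
    rw [hQ₁def]
    exact ⟨fun h => h.1, fun h => ⟨h, hn⟩⟩
  have hK := map_comp_faceMap S hQ hQ₁ hN₁le hQ₁Q hiff
  have hK' : (AMonS.map S (AddSubmonoid.inclusion hQ₁Q) ▷ T) ≫ (AMonS.faceMap S hQ₁ ▷ T) =
      (AMonS.faceMap S hQ ▷ T) ≫ (AMonS.map S (AddSubmonoid.inclusion hN₁le) ▷ T) := by
    rw [← comp_whiskerRight, ← comp_whiskerRight, hK]
  obtain ⟨φ₁, hφ₁⟩ : ∃ φ₁ : AMonS S ↥N₁ ⊗ T ⟶ X,
      φ₁ = (AMonS.map S (AddSubmonoid.inclusion hN₀N₁) ▷ T) ≫ φ₀.1 := ⟨_, rfl⟩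
  have hφ₁eq : MonAct.IsEquivariant ((subAct S M N₁).prod (MonAct.trivial (AMonS S M) T)) bX φ₁ := by
    rw [hφ₁]
    exact ((attrMap bX hN₀N₁).app (op T) φ₀).2
  obtain ⟨ψ₁, hψ₁⟩ : ∃ ψ₁ : AMonS S ↥Q₁ ⊗ T ⟶ U,
      ψ₁ = (AMonS.map S (AddSubmonoid.inclusion hQ₀Q₁) ▷ T) ≫ ψ₀.1 := ⟨_, rfl⟩
  have hψ₁eq : MonAct.IsEquivariant ((subAct S M Q₁).prod (MonAct.trivial (AMonS S M) T)) bU ψ₁ := by
    rw [hψ₁]
    exact ((attrMap bU hQ₀Q₁).app (op T) ψ₀).2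
  have hφ₁up : (AMonS.map S (AddSubmonoid.inclusion hN₁le) ▷ T) ≫ φ₁ = φ := by
    rw [hφ₁, ← Category.assoc, whisker_map_comp S T hN₀N₁ hN₁le]
    exact hφ₀'
  have hψ₁up : (AMonS.map S (AddSubmonoid.inclusion hQ₁Q) ▷ T) ≫ ψ₁ = ψ := by
    rw [hψ₁, ← Category.assoc, whisker_map_comp S T hQ₀Q₁ hQ₁Q]
    exact hψ₀'
  have hc₁ : (AMonS.faceMap S hQ₁ ▷ T) ≫ φ₁ = ψ₁ ≫ f := by
    apply SchDomEpi.eq_of_comp_eq_of_ker_eq_bot (AMonS.map S (AddSubmonoid.inclusion hQ₁Q) ▷ T)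
      (MagnetDom.ker_whiskerRight_eq_bot S T (AddSubmonoid.inclusion hQ₁Q)
        (AddSubmonoid.inclusion_injective hQ₁Q))
    rw [← Category.assoc, hK', Category.assoc, hφ₁up, ← Category.assoc, hψ₁up]
    exact hc
  obtain ⟨φt₁, hφt₁eq, hφt₁f, hφt₁q⟩ :=
    sol_fg S M bX bU f hf hQ₁ hN₁fg T φ₁ hφ₁eq ψ₁ hψ₁eq hc₁
  refine ⟨(AMonS.map S (AddSubmonoid.inclusion hN₁le) ▷ T) ≫ φt₁,
    ((attrMap bU hN₁le).app (op T) ⟨φt₁, hφt₁eq⟩).2, ?_, ?_⟩
  · rw [Category.assoc, hφt₁f, hφ₁up]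
  · rw [← Category.assoc, ← hK', Category.assoc, hφt₁q, hψ₁up]

include hf in
theorem sol_sep [AddGroup.FG M] [Etale f.left] [IsAffineHom U.hom] [IsSeparated X.hom]
    [LocallyOfFinitePresentation X.hom] (T : Over S)
    (φ : AMonS S ↥N ⊗ T ⟶ X)
    (hφ : MonAct.IsEquivariant ((subAct S M N).prod (MonAct.trivial (AMonS S M) T)) bX φ)
    (ψ : AMonS S ↥Q ⊗ T ⟶ U)
    (hψ : MonAct.IsEquivariant ((subAct S M Q).prod (MonAct.trivial (AMonS S M) T)) bU ψ)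
    (hc : (AMonS.faceMap S hQ ▷ T) ≫ φ = ψ ≫ f) : Sol S M bU f hQ T φ ψ := by
  have hcovT : Presieve.ofArrows T.left.affineCover.X T.left.affineCover.f ∈
      Scheme.fpqcPrecoverage T.left :=
    Scheme.zariskiPrecoverage_le_fpqcPrecoverage _ T.left.affineCover.mem₀
  refine glue S M bX bU f hf hQ T (fun j => Over.mk (T.left.affineCover.f j ≫ T.hom))
    (fun j => Over.homMk (T.left.affineCover.f j) rfl) hcovT φ hφ ψ hψ ?_
  intro j
  haveI : IsAffine (Over.mk (T.left.affineCover.f j ≫ T.hom)).left :=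
    Scheme.isAffine_affineCover T.left j
  exact sol_sep_affine S M bX bU f hf hQ _ _ (eqv_restrict S (subAct S M N) bX _ φ hφ) _
    (eqv_restrict S (subAct S M Q) bU _ ψ hψ) (compat_restrict' S hQ f _ φ ψ hc)

end Main

theorem main18302 (S : Scheme.{u}) (M : Type) [AddCommGroup M]
    [AddGroup.FG M] (X U : Over S) (aX : AlgGrp.Action (Red.DS S M) X) (aU : AlgGrp.Action (Red.DS S M) U)
    [IsAffineHom U.hom] (f : U ⟶ X) [Etale f.left]
    (hf : Magnet.MonAct.IsEquivariant (Magnet.MonAct.ofAction aU) (Magnet.MonAct.ofAction aX) f)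
    (N Q : AddSubmonoid M) (hQ : Magnet.IsFace N Q)
    (h : N.FG ∨ (IsSeparated X.hom ∧ LocallyOfFinitePresentation X.hom)) :
    IsPullback (Magnet.MonAct.eqvHom.postcomp (Magnet.subAct S M N) f hf)
      (Magnet.attrFace (Magnet.MonAct.ofAction aU) hQ) (Magnet.attrFace (Magnet.MonAct.ofAction aX) hQ)
      (Magnet.MonAct.eqvHom.postcomp (Magnet.subAct S M Q) f hf) := by
  have hsol : ∀ (T : Over S) (φ : AMonS S ↥N ⊗ T ⟶ X)
      (_ : MonAct.IsEquivariant ((subAct S M N).prod (MonAct.trivial (AMonS S M) T))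
        (MonAct.ofAction aX) φ) (ψ : AMonS S ↥Q ⊗ T ⟶ U)
      (_ : MonAct.IsEquivariant ((subAct S M Q).prod (MonAct.trivial (AMonS S M) T))
        (MonAct.ofAction aU) ψ),
      (AMonS.faceMap S hQ ▷ T) ≫ φ = ψ ≫ f →
      MagnetEtMain.Sol S M (MonAct.ofAction aU) f hQ T φ ψ := by
    rcases h with hN | ⟨hsep, hlfp⟩
    · intro T φ hφ ψ hψ hc
      exact MagnetEtMain.sol_fg S M (MonAct.ofAction aX) (MonAct.ofAction aU) f hf hQ hN T φ hφ ψ hψ hc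
    · haveI := hsep
      haveI := hlfp
      intro T φ hφ ψ hψ hc
      exact MagnetEtMain.sol_sep S M (MonAct.ofAction aX) (MonAct.ofAction aU) f hf hQ T φ hφ ψ hψ hc
  apply IsPullback.of_forall_isPullback_app
  intro T
  refine (Types.isPullback_iff _ _ _ _).2 ⟨?_, ?_, ?_⟩
  · refine ConcreteCategory.hom_ext _ _ fun φ => Subtype.ext ?_
    change (AMonS.faceMap S hQ ▷ unop T) ≫ φ.1 ≫ f = ((AMonS.faceMap S hQ ▷ unop T) ≫ φ.1) ≫ f
    rw [Category.assoc]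
  · rintro φ₁ φ₂ ⟨h1, h2⟩
    apply Subtype.ext
    exact MagnetEtU.uniq S M (MonAct.ofAction aX) (MonAct.ofAction aU) f hf hQ φ₁.1 φ₂.1 φ₁.2 φ₂.2
      (congrArg Subtype.val h1) (congrArg Subtype.val h2)
  · intro φ ψ hφψ
    have hc : (AMonS.faceMap S hQ ▷ unop T) ≫ φ.1 = ψ.1 ≫ f := congrArg Subtype.val hφψ
    obtain ⟨φt, hφt, h1, h2⟩ := hsol (unop T) φ.1 φ.2 ψ.1 ψ.2 hc
    exact ⟨⟨φt, hφt⟩, Subtype.ext h1, Subtype.ext h2⟩

end Groth.Agent.Lib.Helper29.MagnetEtMain
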