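import Mathlib
import Groth.Prelude.Def_Magnet4
import Groth.Agent.Lib.Helper29.MagnetEtMain
import Groth.Agent.Lib.Helper29.MagnetFix
import Groth.Agent.Lib.Helper29.MagnetAttr
import Groth.Agent.Lib.Helper29.BigSheaf

/-!
# Images of attractors along strongly-FPR atlases (helper29, S19645)
-/
set_option autoImplicit false
set_option maxHeartbeats 1600000
set_option linter.style.haveILetI false
universe u
open CategoryTheory CategoryTheory.Limits MonoidalCategory CartesianMonoidalCategory MonObj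
  AlgebraicGeometry Opposite

noncomputable section

namespace Groth.Agent.Lib.Helper29.MagnetAtlasRange

open Magnet

section Gen

theorem app_of_comp_eq {C : Type*} [Category C] {F G H : Cᵒᵖ ⥤ Type u} (α : F ⟶ G) (β : G ⟶ H)
    (δ : F ⟶ H) (h : α ≫ β = δ) (T : Cᵒᵖ) (x : F.obj T) :
    β.app T (α.app T x) = δ.app T x := by
  subst h; rfl

theorem app_inv_of_comp_eq {C : Type*} [Category C] {F G H : Cᵒᵖ ⥤ Type u} (e : F ≅ G)
    (β : G ⟶ H) (δ : F ⟶ H) (h : e.hom ≫ β = δ) (T : Cᵒᵖ) (x : G.obj T) :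
    δ.app T (e.inv.app T x) = β.app T x := by
  subst h
  show β.app T (e.hom.app T (e.inv.app T x)) = β.app T x
  have h2 : e.hom.app T (e.inv.app T x) = x := by
    have h := congrArg (fun α => α.app T) e.inv_hom_id
    exact ConcreteCategory.congr_hom h x
  rw [h2]

end Gen

section Unit

variable {M : Type} [AddCommGroup M]

/-- The unit face of a submonoid of a group, as a subgroup. -/
def unitGrp (N : AddSubmonoid M) : AddSubgroup M where
  toAddSubmonoid := unitFace N
  neg_mem' := by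
    rintro x ⟨hx, y, hy, hxy⟩
    have hy' : y = -x := eq_neg_of_add_eq_zero_right hxy
    subst hy'
    exact ⟨hy, x, hx, by rw [neg_add_cancel]⟩

theorem unitGrp_toAddSubmonoid (N : AddSubmonoid M) : (unitGrp N).toAddSubmonoid = unitFace N := rfl

end Unit

section Nat

variable {S : Scheme.{u}} {M : Type} [AddCommGroup M] {X U : Over S}

def toAct (a : MonAct (AMonS S M) X) : AlgGrp.Action (Red.DS S M) X :=
  MonAct.toAction (G := Red.DS S M) (show MonAct (Red.DS S M) X from a)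

theorem fixIso [AddGroup.FG M] (Z : AddSubgroup M) (a : MonAct (AMonS S M) X) :
    ∃ e : attr a Z.toAddSubmonoid ≅
        MonAct.fixedPsh (a.restrict (AMonS.map S (QuotientAddGroup.mk' Z))),
      e.hom ≫ MonAct.fixedPshι _ = attrToX a Z.toAddSubmonoid :=
  MagnetFix.main18289 S M Z X (toAct a)

theorem attrToX_map (b : MonAct (AMonS S M) X) (K : AddSubmonoid M) {T T' : Over S} (t : T' ⟶ T)
    (x : (attr b K).obj (op T)) :
    (attrToX b K).app (op T') ((attr b K).map t.op x) = t ≫ (attrToX b K).app (op T) x :=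
  ConcreteCategory.congr_hom ((attrToX b K).naturality t.op) x

theorem attrFace_map (b : MonAct (AMonS S M) X) {N Q : AddSubmonoid M} (hQ : IsFace N Q)
    {T T' : Over S} (t : T' ⟶ T) (x : (attr b N).obj (op T)) :
    (attrFace b hQ).app (op T') ((attr b N).map t.op x) =
      (attr b Q).map t.op ((attrFace b hQ).app (op T) x) :=
  ConcreteCategory.congr_hom ((attrFace b hQ).naturality t.op) x

theorem attrToX_postcomp (a : MonAct (AMonS S M) X) (aU : MonAct (AMonS S M) U) (g : U ⟶ X)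
    (hg : MonAct.IsEquivariant aU a g) (K : AddSubmonoid M) (T : Over S)
    (ψ : (attr aU K).obj (op T)) :
    (attrToX a K).app (op T) ((MonAct.eqvHom.postcomp (subAct S M K) g hg).app (op T) ψ) =
      (attrToX aU K).app (op T) ψ ≫ g := by
  show lift (toUnit T ≫ η[AMonS S K]) (𝟙 T) ≫ ψ.1 ≫ g =
    (lift (toUnit T ≫ η[AMonS S K]) (𝟙 T) ≫ ψ.1) ≫ g
  rw [Category.assoc]

end Nat

theorem range_sub (S : Scheme.{u}) (M : Type) [AddCommGroup M]
    [AddGroup.FG M] {X : Over S} [IsSeparated X.hom] [LocallyOfFinitePresentation X.hom]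
    (a : MonAct (AMonS S M) X) (U : Over S) [IsAffineHom U.hom]
    (aU : MonAct (AMonS S M) U) (g : U ⟶ X) (hg : MonAct.IsEquivariant aU a g)
    [Etale g.left] [Surjective g.left]
    (hgZ : ∀ Z : AddSubgroup M, MonAct.IsEquivariant
      (aU.restrict (AMonS.map S (QuotientAddGroup.mk' Z)))
      (a.restrict (AMonS.map S (QuotientAddGroup.mk' Z))) g)
    (hfpr : ∀ Z : AddSubgroup M, IsPullback (MonAct.fixedPsh.map g (hgZ Z))
      (MonAct.fixedPshι (aU.restrict (AMonS.map S (QuotientAddGroup.mk' Z))))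
      (MonAct.fixedPshι (a.restrict (AMonS.map S (QuotientAddGroup.mk' Z)))) (yoneda.map g))
    (N L : AddSubmonoid M)
    (hU : ∀ T : Over S, Set.range (fun φ => (attrToX aU N).app (op T) φ) ⊆
      Set.range (fun φ => (attrToX aU L).app (op T) φ)) (T : Over S) :
    Set.range (fun φ => (attrToX a N).app (op T) φ) ⊆
      Set.range (fun φ => (attrToX a L).app (op T) φ) := by
  rintro _ ⟨φ, rfl⟩
  have hQ : IsFace N (unitGrp N).toAddSubmonoid := isFace_unitFace N
  obtain ⟨eX, heX⟩ := fixIso (S := S) (unitGrp N) a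
  obtain ⟨eU, heU⟩ := fixIso (S := S) (unitGrp N) aU
  obtain ⟨φQ, hφQ⟩ : ∃ φQ, φQ = (attrFace a hQ).app (op T) φ := ⟨_, rfl⟩
  obtain ⟨yfix, hyfix⟩ : ∃ yfix, yfix = eX.hom.app (op T) φQ := ⟨_, rfl⟩
  have hy : yfix.1 = (attrToX a (unitGrp N).toAddSubmonoid).app (op T) φQ := by
    rw [hyfix]
    exact app_of_comp_eq _ _ _ heX (op T) φQ
  obtain ⟨T', p₁, p₂, hpb⟩ : ∃ (T' : Over S) (p₁ : T' ⟶ T) (p₂ : T' ⟶ U),
      IsPullback p₁ p₂ yfix.1 g := ⟨_, _, _, IsPullback.of_hasPullback yfix.1 g⟩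
  have hpbL : IsPullback p₁.left p₂.left yfix.1.left g.left :=
    (Over.forget S).map_isPullback hpb
  haveI : Etale p₁.left := MorphismProperty.of_isPullback (P := @Etale) hpbL.flip inferInstance
  haveI : Surjective p₁.left :=
    MorphismProperty.of_isPullback (P := @Surjective) hpbL.flip inferInstance
  -- p₂ is a fixed point of U
  have hfix := (hfpr (unitGrp N)).app (op T')
  obtain ⟨x₁, -, hx₁⟩ := Types.exists_of_isPullback hfix
    ((MonAct.fixedPsh (a.restrict (AMonS.map S (QuotientAddGroup.mk' (unitGrp N))))).map p₁.op yfix)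
    p₂ (by show p₁ ≫ yfix.1 = p₂ ≫ g; exact hpb.w)
  have hx₁' : x₁.1 = p₂ := hx₁
  obtain ⟨ψ, hψ⟩ : ∃ ψ, ψ = eU.inv.app (op T') x₁ := ⟨_, rfl⟩
  have hψX : (attrToX aU (unitGrp N).toAddSubmonoid).app (op T') ψ = p₂ := by
    rw [hψ, ← hx₁']
    exact app_inv_of_comp_eq eU _ _ heU (op T') x₁
  have hℓ : (attrFace a hQ).app (op T') ((attr a N).map p₁.op φ) =
      (MonAct.eqvHom.postcomp (subAct S M (unitGrp N).toAddSubmonoid) g hg).app (op T') ψ := by
    apply MagnetAttr.main18285 S M X a (unitGrp N).toAddSubmonoid T'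
    show (attrToX a (unitGrp N).toAddSubmonoid).app (op T')
        ((attrFace a hQ).app (op T') ((attr a N).map p₁.op φ)) =
      (attrToX a (unitGrp N).toAddSubmonoid).app (op T')
        ((MonAct.eqvHom.postcomp (subAct S M (unitGrp N).toAddSubmonoid) g hg).app (op T') ψ)
    rw [attrFace_map, attrToX_map, attrToX_postcomp, hψX, ← hφQ, ← hy]
    exact hpb.w
  obtain ⟨φt, hφt, h1, -⟩ := MagnetEtMain.sol_sep S M a aU g hg hQ T'
    ((attr a N).map p₁.op φ).1 ((attr a N).map p₁.op φ).2 ψ.1 ψ.2 (congrArg Subtype.val hℓ)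
  obtain ⟨χ, hχ⟩ := hU T' ⟨⟨φt, hφt⟩, rfl⟩
  replace hχ : (attrToX aU L).app (op T') χ = (attrToX aU N).app (op T') ⟨φt, hφt⟩ := hχ
  obtain ⟨χ', hχ'⟩ : ∃ χ', χ' = (MonAct.eqvHom.postcomp (subAct S M L) g hg).app (op T') χ :=
    ⟨_, rfl⟩
  have hχ'X : (attrToX a L).app (op T') χ' = p₁ ≫ (attrToX a N).app (op T) φ := by
    rw [hχ', attrToX_postcomp, hχ, ← attrToX_map]
    show (lift (toUnit T' ≫ η[AMonS S N]) (𝟙 T') ≫ φt) ≫ g =
      lift (toUnit T' ≫ η[AMonS S N]) (𝟙 T') ≫ ((attr a N).map p₁.op φ).1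
    rw [Category.assoc, h1]
  -- descent along p₁
  have hR : (Presieve.singleton p₁).map (Over.forget S) ∈ Scheme.fpqcPrecoverage T.left := by
    rw [Presieve.map_singleton]
    exact Scheme.fppfPrecoverage_le_fpqcPrecoverage _
      (Scheme.Hom.singleton_mem_fppfPrecoverage p₁.left)
  have hS := BigSheaf.eqvHom_isSheafFor S (AMonS S M) (AMonS S L) X (subAct S M L) a T
    (Presieve.singleton p₁) hR
  obtain ⟨χ₀, hχ₀, -⟩ := Presieve.isSheafFor_singleton.1 hS χ' (by
    intro W q₁ q₂ hq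
    apply MagnetAttr.main18285 S M X a L W
    show (attrToX a L).app (op W) ((attr a L).map q₁.op χ') =
      (attrToX a L).app (op W) ((attr a L).map q₂.op χ')
    rw [attrToX_map, attrToX_map, hχ'X, ← Category.assoc, ← Category.assoc, hq])
  refine ⟨χ₀, ?_⟩
  show (attrToX a L).app (op T) χ₀ = (attrToX a N).app (op T) φ
  haveI : Epi p₁ := MagnetFix.epi_of_effectiveEpi_left p₁
  rw [← cancel_epi p₁, ← attrToX_map, hχ₀, hχ'X]

theorem main19645 (S : Scheme.{u}) (M : Type) [AddCommGroup M]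
    [AddGroup.FG M] {X : Over S} [IsSeparated X.hom] [LocallyOfFinitePresentation X.hom]
    (a : Magnet.MonAct (Magnet.AMonS S M) X) (U : Over S) [IsAffineHom U.hom]
    (aU : Magnet.MonAct (Magnet.AMonS S M) U) (g : U ⟶ X) (hg : Magnet.MonAct.IsEquivariant aU a g)
    [Etale g.left] [Surjective g.left]
    (hgZ : ∀ Z : AddSubgroup M, Magnet.MonAct.IsEquivariant
      (aU.restrict (Magnet.AMonS.map S (QuotientAddGroup.mk' Z)))
      (a.restrict (Magnet.AMonS.map S (QuotientAddGroup.mk' Z))) g)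
    (hfpr : ∀ Z : AddSubgroup M, IsPullback (Magnet.MonAct.fixedPsh.map g (hgZ Z))
      (Magnet.MonAct.fixedPshι (aU.restrict (Magnet.AMonS.map S (QuotientAddGroup.mk' Z))))
      (Magnet.MonAct.fixedPshι (a.restrict (Magnet.AMonS.map S (QuotientAddGroup.mk' Z)))) (yoneda.map g))
    (N L : AddSubmonoid M)
    (hU : ∀ T : Over S, Set.range (fun φ => (Magnet.attrToX aU N).app (op T) φ) =
      Set.range (fun φ => (Magnet.attrToX aU L).app (op T) φ)) (T : Over S) :
    Set.range (fun φ => (Magnet.attrToX a N).app (op T) φ) =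
      Set.range (fun φ => (Magnet.attrToX a L).app (op T) φ) :=
  Set.Subset.antisymm
    (range_sub S M a U aU g hg hgZ hfpr N L (fun T' => (hU T').le) T)
    (range_sub S M a U aU g hg hgZ hfpr L N (fun T' => (hU T').ge) T)

end Groth.Agent.Lib.Helper29.MagnetAtlasRange
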