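import Mathlib
import Groth.Prelude.Def_Magnet4
import Groth.Agent.Lib.Helper29.MagnetExpand

/-!
# Finiteness of the set of pure magnets for a scheme affine of finite type over a quasi-compact
base (S19647) (helper29)
-/
set_option autoImplicit false
set_option maxHeartbeats 1600000
set_option linter.style.haveILetI false
universe u
open CategoryTheory CategoryTheory.Limits MonoidalCategory CartesianMonoidalCategory MonObj
  AlgebraicGeometry Opposite

noncomputable section

namespace Groth.Agent.Lib.Helper29.MagnetPure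

open Magnet Groth.Agent.Lib.Helper29.MagnetCoordRing Groth.Agent.Lib.Helper29.MagnetCoord
  Groth.Agent.Lib.Helper29.MagnetCoordMonAlg Groth.Agent.Lib.Helper29.MagnetCoordGlob
  Groth.Agent.Lib.Helper29.MagnetHomog Groth.Agent.Lib.Helper29.MagnetExpand
  Groth.Agent.Lib.Helper29.MagnetComapAff

variable {M : Type} [AddCommMonoid M]

/-- affine test schemes over an affine piece: the extension property only depends on the
degrees of the generators lying in the magnet -/
theorem local_affine (S : Scheme.{u}) (X : Over S) [IsAffine X.left]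
    (a : MonAct (AMonS S M) X)
    {V : Scheme.{u}} [IsAffine V] (v : V ⟶ S) [Mono v] (k : X.left ⟶ V) (hk : X.hom = k ≫ v)
    (s : Set Γ(X.left, ⊤))
    (hs : ∀ B' : Subring Γ(X.left, ⊤), (∀ r, k.appTop.hom r ∈ B') → s ⊆ B' → B' = ⊤)
    (F : Γ(X.left, ⊤) → Finset (Multiplicative M))
    (c : Γ(X.left, ⊤) → Multiplicative M → Γ(X.left, ⊤))
    (hexp : ∀ b ∈ s, a.act.left.appTop.hom b = ∑ d ∈ F b,
      (MagnetDom.pN S X M).appTop.hom (mon.{u} d) * (MagnetDom.qN S X M).appTop.hom (c b d))
    (N L : AddSubmonoid M)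
    (hD : ∀ b ∈ s, ∀ d ∈ F b, Multiplicative.toAdd d ∈ N → Multiplicative.toAdd d ∈ L)
    {T : Over S} [IsAffine T.left] (x : T ⟶ X)
    (h : Ext (AMonS.map S N.subtype) a x) : Ext (AMonS.map S L.subtype) a x := by
  classical
  haveI affM := MagnetDom.isAffine_AMon_left.{u} M
  haveI := MagnetDom.isAffine_AMon_left.{u} (↥N)
  haveI := MagnetDom.isAffine_AMon_left.{u} (↥L)
  haveI hq := MagnetDom.isAffineHom_qN S T M
  haveI : IsAffine (AMonS S M ⊗ T).left := isAffine_of_isAffineHom (MagnetDom.qN S T M)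
  haveI hqL := MagnetDom.isAffineHom_qN S T (↥L)
  haveI : IsAffine (AMonS S (↥L) ⊗ T).left := isAffine_of_isAffineHom (MagnetDom.qN S T (↥L))
  have HT := isPushout_appTop_of_isPullback (MagnetDom.isPullback_pN_qN S T M)
  have HN := isPushout_appTop_of_isPullback (MagnetDom.isPullback_pN_qN S T (↥N))
  obtain ⟨θ, hθ⟩ : ∃ θ : Γ(X.left, ⊤) →+* Γ((AMonS S M ⊗ T).left, ⊤),
      θ = ((AMonS S M ◁ x) ≫ a.act).left.appTop.hom := ⟨_, rfl⟩
  obtain ⟨rL, hrL⟩ : ∃ rL : Γ((AMonS S L ⊗ T).left, ⊤) →+* Γ((AMonS S M ⊗ T).left, ⊤),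
      rL = (AMonS.map S L.subtype ▷ T).left.appTop.hom := ⟨_, rfl⟩
  have hinj : Function.Injective (AMonS.map S L.subtype ▷ T).left.appTop.hom :=
    injective_appTop_of_ker_eq_bot _
      (MagnetDom.ker_whiskerRight_eq_bot S T L.subtype Subtype.val_injective)
  have hrN : ∀ b, ∃ d, (AMonS.map S N.subtype ▷ T).left.appTop.hom d = θ b := by
    rw [hθ]; exact range_of_ext _ a x h
  -- naturality of the two coordinate maps
  have hpG : (AMonS S M ◁ x).left ≫ MagnetDom.pN S X M = MagnetDom.pN S T M := by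
    unfold MagnetDom.pN
    rw [← Category.assoc, ← Over.comp_left, whiskerLeft_fst]
  have hqG : (AMonS S M ◁ x).left ≫ MagnetDom.qN S X M = MagnetDom.qN S T M ≫ x.left := by
    unfold MagnetDom.qN
    rw [← Over.comp_left, whiskerLeft_snd, Over.comp_left]
  have hu : ∀ z, (AMonS S M ◁ x).left.appTop.hom ((MagnetDom.pN S X M).appTop.hom z) =
      (MagnetDom.pN S T M).appTop.hom z := by
    intro z
    have h1 : ((AMonS S M ◁ x).left ≫ MagnetDom.pN S X M).appTop.hom z =
        (MagnetDom.pN S T M).appTop.hom z := by rw [hpG]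
    rw [Scheme.Hom.comp_appTop] at h1
    exact h1
  have hv : ∀ z, (AMonS S M ◁ x).left.appTop.hom ((MagnetDom.qN S X M).appTop.hom z) =
      (MagnetDom.qN S T M).appTop.hom (x.left.appTop.hom z) := by
    intro z
    have h1 : ((AMonS S M ◁ x).left ≫ MagnetDom.qN S X M).appTop.hom z =
        (MagnetDom.qN S T M ≫ x.left).appTop.hom z := by rw [hqG]
    rw [Scheme.Hom.comp_appTop, Scheme.Hom.comp_appTop] at h1
    exact h1
  have huN : (MagnetDom.pN S T (↥N)).appTop ≫ (AMonS.map S N.subtype ▷ T).left.appTop =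
      (AMon.map (ULift.{u} ℤ) N.subtype).left.appTop ≫ (MagnetDom.pN S T M).appTop := by
    rw [← Scheme.Hom.comp_appTop, ← Scheme.Hom.comp_appTop, MagnetDom.whisker_pN S T N.subtype]
  have hvN : (MagnetDom.qN S T (↥N)).appTop ≫ (AMonS.map S N.subtype ▷ T).left.appTop =
      (MagnetDom.qN S T M).appTop := by
    rw [← Scheme.Hom.comp_appTop, MagnetDom.whisker_qN S T N.subtype]
  -- the subring of functions whose orbit lies over `A(L)`
  have key : rL.range.comap θ = ⊤ := by
    apply hs
    · intro r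
      have hak : ((AMonS S M ◁ x) ≫ a.act).left ≫ k =
          (AMonS.map S L.subtype ▷ T).left ≫ (snd (AMonS S L) T).left ≫ x.left ≫ k := by
        have h_l : ((AMonS S M ◁ x) ≫ a.act).left ≫ X.hom = (AMonS S M ⊗ T).hom := Over.w _
        have h_r : (AMonS.map S L.subtype ▷ T).left ≫ (snd (AMonS S L) T).left ≫ x.left ≫
            X.hom = (AMonS S M ⊗ T).hom := by
          rw [Over.w x, Over.w (snd (AMonS S L) T), Over.w (AMonS.map S L.subtype ▷ T)]
        rw [← cancel_mono v]
        simp only [Category.assoc]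
        rw [← hk, h_l, h_r]
      rw [Subring.mem_comap, RingHom.mem_range]
      refine ⟨((snd (AMonS S L) T).left ≫ x.left ≫ k).appTop.hom r, ?_⟩
      have h1 := congrArg (fun g => g.appTop.hom r) hak
      rw [hrL, hθ]
      simp only [Scheme.Hom.comp_appTop, CommRingCat.hom_comp, RingHom.comp_apply] at h1 ⊢
      exact h1.symm
    · intro b hb
      rw [SetLike.mem_coe, Subring.mem_comap]
      have hθb : θ b = ∑ d ∈ F b, (MagnetDom.pN S T M).appTop.hom (mon.{u} d) *
          (MagnetDom.qN S T M).appTop.hom (x.left.appTop.hom (c b d)) := by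
        rw [hθ]
        have h0 : ((AMonS S M ◁ x) ≫ a.act).left.appTop.hom b =
            (AMonS S M ◁ x).left.appTop.hom (a.act.left.appTop.hom b) := by
          rw [Over.comp_left, Scheme.Hom.comp_appTop]; rfl
        rw [h0, hexp b hb, map_sum]
        apply Finset.sum_congr rfl
        intro d _
        rw [map_mul, hu, hv]
      have hvan : ∀ d ∈ F b, Multiplicative.toAdd d ∉ N → x.left.appTop.hom (c b d) = 0 := by
        intro d hd hdN
        obtain ⟨e, he⟩ := hrN b
        obtain ⟨m, hm1⟩ : ∃ m : (specCompData.{u} N).K, m.1 = d :=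
          ⟨(⟨d, hdN⟩ : {g : Multiplicative M // Multiplicative.toAdd g ∉ N}), rfl⟩
        have h1 := coeff_rho (specCompData.{u} N) HN HT (AMonS.map S N.subtype ▷ T).left.appTop
          huN hvN m e
        rw [he, hθb, coeff_sum_mon S T N HT m (F b) _ (hm1 ▸ hd), hm1] at h1
        exact h1
      rw [hθb]
      apply Subring.sum_mem
      intro d hd
      by_cases hdN : Multiplicative.toAdd d ∈ N
      · have hdL := hD b hb d hd hdN
        apply Subring.mul_mem
        · rw [RingHom.mem_range]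
          refine ⟨(MagnetDom.pN S T (↥L)).appTop.hom
            (mon.{u} (Multiplicative.ofAdd (⟨Multiplicative.toAdd d, hdL⟩ : ↥L))), ?_⟩
          rw [hrL]
          have h1 : ((AMonS.map S L.subtype ▷ T).left ≫ MagnetDom.pN S T (↥L)).appTop.hom
              (mon.{u} (Multiplicative.ofAdd (⟨Multiplicative.toAdd d, hdL⟩ : ↥L))) =
              (MagnetDom.pN S T M ≫ (AMon.map (ULift.{u} ℤ) L.subtype).left).appTop.hom
              (mon.{u} (Multiplicative.ofAdd (⟨Multiplicative.toAdd d, hdL⟩ : ↥L))) := by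
            rw [MagnetDom.whisker_pN S T L.subtype]
          rw [Scheme.Hom.comp_appTop, Scheme.Hom.comp_appTop] at h1
          refine h1.trans ?_
          show (MagnetDom.pN S T M).appTop.hom ((AMon.map (ULift.{u} ℤ) L.subtype).left.appTop.hom
            (mon.{u} (Multiplicative.ofAdd (⟨Multiplicative.toAdd d, hdL⟩ : ↥L)))) = _
          rw [mon_map]
          rfl
        · rw [RingHom.mem_range]
          refine ⟨(MagnetDom.qN S T (↥L)).appTop.hom (x.left.appTop.hom (c b d)), ?_⟩
          rw [hrL]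
          have h1 : ((AMonS.map S L.subtype ▷ T).left ≫ MagnetDom.qN S T (↥L)).appTop.hom
              (x.left.appTop.hom (c b d)) =
              (MagnetDom.qN S T M).appTop.hom (x.left.appTop.hom (c b d)) := by
            rw [MagnetDom.whisker_qN S T L.subtype]
          rw [Scheme.Hom.comp_appTop] at h1
          exact h1
      · rw [hvan d hd hdN, map_zero, mul_zero]
        exact Subring.zero_mem _
  apply ext_of_range (AMonS.map S L.subtype) a v k hk x hinj
  intro b
  have hb : b ∈ rL.range.comap θ := by rw [key]; trivial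
  obtain ⟨d, hd⟩ := RingHom.mem_range.1 (Subring.mem_comap.1 hb)
  rw [hrL, hθ] at hd
  exact ⟨d, hd⟩

/-- the comparison over an affine open of the base -/
theorem exists_finset_piece (S : Scheme.{u}) (X : Over S) [IsAffineHom X.hom]
    [LocallyOfFiniteType X.hom] (a : MonAct (AMonS S M) X)
    {V : Scheme.{u}} [IsAffine V] (v : V ⟶ S) [IsOpenImmersion v] :
    ∃ D : Finset M, ∀ (N L : AddSubmonoid M), (∀ d ∈ D, d ∈ N → d ∈ L) →
      ∀ {T : Over S} (x : T ⟶ X) (hT : T.left ⟶ V), hT ≫ v = T.hom →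
      Ext (AMonS.map S N.subtype) a x → Ext (AMonS.map S L.subtype) a x := by
  classical
  obtain ⟨ji, hji⟩ : ∃ ji : Over.mk (pullback.snd v X.hom ≫ X.hom) ⟶ X,
      ji = Over.homMk (pullback.snd v X.hom) rfl := ⟨_, rfl⟩
  have hjil : ji.left = pullback.snd v X.hom := by rw [hji]; rfl
  haveI : IsAffine (Over.mk (pullback.snd v X.hom ≫ X.hom)).left :=
    (inferInstance : IsAffine (pullback v X.hom))
  haveI : Mono ji.left := by rw [hjil]; infer_instance
  haveI : Mono ji := Over.mono_of_mono_left ji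
  have hdom : ∀ (L : AddSubmonoid M) (T : Over S),
      ((AMonS.map S L.subtype) ▷ T).left.ker = ⊥ := fun L T =>
    MagnetDom.ker_whiskerRight_eq_bot S T L.subtype Subtype.val_injective
  have hlift : ∀ {W : Over S} (g : W ⟶ X) (h : W.left ⟶ V), h ≫ v = W.hom →
      ∃ g' : W ⟶ Over.mk (pullback.snd v X.hom ≫ X.hom), g' ≫ ji = g := by
    intro W g h hh
    have hc : h ≫ v = g.left ≫ X.hom := hh.trans (Over.w g).symm
    refine ⟨Over.homMk (pullback.lift h g.left hc) ?_, ?_⟩
    · show pullback.lift h g.left hc ≫ pullback.snd v X.hom ≫ X.hom = W.hom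
      rw [pullback.lift_snd_assoc, Over.w g]
    · apply Over.OverMorphism.ext
      show pullback.lift h g.left hc ≫ ji.left = g.left
      rw [hjil, pullback.lift_snd]
  have hXihom : (Over.mk (pullback.snd v X.hom ≫ X.hom)).hom = pullback.fst v X.hom ≫ v :=
    pullback.condition.symm
  obtain ⟨cact, hcact⟩ := hlift ((AMonS S M ◁ ji) ≫ a.act)
    ((snd (AMonS S M) (Over.mk (pullback.snd v X.hom ≫ X.hom))).left ≫ pullback.fst v X.hom)
    (by rw [Category.assoc, ← hXihom, Over.w])
  obtain ⟨ai, -, hai⟩ :=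
    Groth.Agent.Lib.Helper26.MagnetFactor.exists_monAct_of_mono a ji cact hcact
  have hai' : ai.act ≫ ji = (AMonS S M ◁ ji) ≫ a.act := hai
  haveI : LocallyOfFiniteType (pullback.fst v X.hom) :=
    MorphismProperty.pullback_fst (P := @LocallyOfFiniteType) _ _ inferInstance
  obtain ⟨s, hs⟩ := exists_gens (X := (Over.mk (pullback.snd v X.hom ≫ X.hom)).left)
    (pullback.fst v X.hom)
  choose F c hFc using fun b : Γ((Over.mk (pullback.snd v X.hom ≫ X.hom)).left, ⊤) =>
    exists_expansion S (Over.mk (pullback.snd v X.hom ≫ X.hom)) (ai.act.left.appTop.hom b)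
  refine ⟨s.biUnion (fun b => (F b).image Multiplicative.toAdd), ?_⟩
  intro N L hDL T x hT hTv hx
  obtain ⟨u, hu⟩ := hlift x hT hTv
  have hl : ∀ {B : Over S} (φ : B ⊗ T ⟶ X),
      ∃ φ' : B ⊗ T ⟶ Over.mk (pullback.snd v X.hom ≫ X.hom), φ' ≫ ji = φ := by
    intro B φ
    exact hlift φ ((snd B T).left ≫ hT) (by rw [Category.assoc, hTv, Over.w])
  subst hu
  have h1 := (ext_restrict_iff (AMonS.map S N.subtype) a ai ji hai' u hl).1 hx
  refine (ext_restrict_iff (AMonS.map S L.subtype) a ai ji hai' u hl).2 ?_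
  -- localize on `T`
  have hcovT : Presieve.ofArrows T.left.affineCover.X T.left.affineCover.f ∈
      Scheme.fpqcPrecoverage T.left :=
    Scheme.zariskiPrecoverage_le_fpqcPrecoverage _ T.left.affineCover.mem₀
  refine Ext.of_local (AMonS.map S L.subtype) ai (hdom L) u
    (fun j => Over.mk (T.left.affineCover.f j ≫ T.hom))
    (fun j => Over.homMk (T.left.affineCover.f j) rfl) hcovT ?_
  intro j
  haveI : IsAffine (Over.mk (T.left.affineCover.f j ≫ T.hom)).left :=
    Scheme.isAffine_affineCover T.left j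
  refine local_affine S (Over.mk (pullback.snd v X.hom ≫ X.hom)) ai v (pullback.fst v X.hom)
    hXihom (↑s) hs F c (fun b _ => hFc b) N L ?_ _ (h1.comp _)
  intro b hb d hd hdN
  apply hDL _ _ hdN
  rw [Finset.mem_biUnion]
  exact ⟨b, hb, Finset.mem_image_of_mem _ hd⟩

/-- the comparison for a scheme affine of finite type over a quasi-compact base -/
theorem exists_finset (S : Scheme.{u}) [CompactSpace S] (X : Over S) [IsAffineHom X.hom]
    [LocallyOfFiniteType X.hom] (a : MonAct (AMonS S M) X) :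
    ∃ D : Finset M, ∀ (N L : AddSubmonoid M), (∀ d ∈ D, d ∈ N → d ∈ L) →
      ∀ {T : Over S} (x : T ⟶ X),
      Ext (AMonS.map S N.subtype) a x → Ext (AMonS.map S L.subtype) a x := by
  classical
  haveI : IsSeparated X.hom := inferInstance
  obtain ⟨𝒰, h𝒰⟩ : ∃ 𝒰 : S.OpenCover, 𝒰 = S.affineCover.finiteSubcover := ⟨_, rfl⟩
  haveI : Fintype 𝒰.I₀ := by rw [h𝒰]; infer_instance
  haveI : ∀ i, IsAffine (𝒰.X i) := by rw [h𝒰]; infer_instance
  choose Di hDi using fun i => exists_finset_piece S X a (𝒰.f i)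
  refine ⟨Finset.univ.biUnion Di, ?_⟩
  intro N L hDL T x hx
  have hdom : ∀ T : Over S, ((AMonS.map S L.subtype) ▷ T).left.ker = ⊥ := fun T =>
    MagnetDom.ker_whiskerRight_eq_bot S T L.subtype Subtype.val_injective
  have hv : Presieve.ofArrows 𝒰.X 𝒰.f ∈ Scheme.fpqcPrecoverage S :=
    Scheme.zariskiPrecoverage_le_fpqcPrecoverage _ 𝒰.mem₀
  have hcov := DescFF.cover_bc 𝒰.f hv T
  refine Ext.of_local (AMonS.map S L.subtype) a hdom x
    (fun i => Over.mk (pullback.snd (𝒰.f i) T.hom ≫ T.hom))
    (fun i => Over.homMk (pullback.snd (𝒰.f i) T.hom) rfl) hcov ?_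
  intro i
  refine hDi i N L (fun d hd => hDL d ?_) _ (pullback.fst (𝒰.f i) T.hom) pullback.condition
    (hx.comp _)
  rw [Finset.mem_biUnion]
  exact ⟨i, Finset.mem_univ i, hd⟩

theorem main19647 (S : Scheme.{u}) [CompactSpace S] (M : Type) [AddCommMonoid M]
    {X : Over S} [IsAffineHom X.hom] [LocallyOfFinitePresentation X.hom]
    (a : Magnet.MonAct (Magnet.AMonS S M) X) :
    Set.Finite {N : AddSubmonoid M | ∀ L : AddSubmonoid M,
      (∀ T : Over S, Set.range (fun φ => (Magnet.attrToX a N).app (op T) φ) =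
        Set.range (fun φ => (Magnet.attrToX a L).app (op T) φ)) → N ≤ L} := by
  classical
  haveI : LocallyOfFiniteType X.hom := inferInstance
  haveI : IsSeparated X.hom := inferInstance
  obtain ⟨D, hD⟩ := exists_finset S X a
  have hdom : ∀ (L : AddSubmonoid M) (T : Over S),
      ((AMonS.map S L.subtype) ▷ T).left.ker = ⊥ := fun L T =>
    MagnetDom.ker_whiskerRight_eq_bot S T L.subtype Subtype.val_injective
  have hrange : ∀ (N : AddSubmonoid M) (T : Over S),
      Set.range (fun φ => (Magnet.attrToX a N).app (op T) φ) =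
        {x | Ext (AMonS.map S N.subtype) a x} := by
    intro N T
    ext x
    rw [Set.mem_range, Set.mem_ofPred_eq,
      ext_iff_exists_equivariant (AMonS.map S N.subtype) a (hdom N) x]
    constructor
    · rintro ⟨φ, rfl⟩
      exact ⟨φ.1, φ.2, rfl⟩
    · rintro ⟨φ, hφ, rfl⟩
      exact ⟨⟨φ, hφ⟩, rfl⟩
  apply Set.Finite.subset ((Finset.finite_toSet D.powerset).image
    (fun D' : Finset M => AddSubmonoid.closure (D' : Set M)))
  intro N hN
  have hcl : AddSubmonoid.closure ((D.filter (fun d => d ∈ N) : Finset M) : Set M) ≤ N := by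
    rw [AddSubmonoid.closure_le]
    intro d hd
    exact (Finset.mem_filter.1 (Finset.mem_coe.1 hd)).2
  have hL : N ≤ AddSubmonoid.closure ((D.filter (fun d => d ∈ N) : Finset M) : Set M) := by
    apply hN
    intro T
    rw [hrange, hrange]
    ext x
    constructor
    · exact hD N _ (fun d hd hdN => AddSubmonoid.subset_closure
        (Finset.mem_coe.2 (Finset.mem_filter.2 ⟨hd, hdN⟩))) x
    · exact hD _ N (fun d _ hdL => hcl hdL) x
  exact ⟨D.filter (fun d => d ∈ N),
    Finset.mem_coe.2 (Finset.mem_powerset.2 (Finset.filter_subset _ _)), le_antisymm hcl hL⟩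

end Groth.Agent.Lib.Helper29.MagnetPure
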