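import Mathlib
import Groth.Prelude.Def_Magnet4
import Groth.Agent.Lib.Helper29.MagnetAtlasRange
import Groth.Agent.Lib.Helper29.MagnetPure

/-!
# Finitely generated stage of an attractor along an N*-FPR atlas (helper29, S18237)
-/
set_option autoImplicit false
set_option maxHeartbeats 1600000
set_option linter.style.haveILetI false
universe u
open CategoryTheory CategoryTheory.Limits MonoidalCategory CartesianMonoidalCategory MonObj
  AlgebraicGeometry Opposite

noncomputable section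

namespace Groth.Agent.Lib.Helper29.MagnetAtlasFG

open Magnet Groth.Agent.Lib.Helper29.MagnetCoordRing Groth.Agent.Lib.Helper29.MagnetCoord
  Groth.Agent.Lib.Helper29.MagnetCoordMonAlg Groth.Agent.Lib.Helper29.MagnetCoordGlob
  Groth.Agent.Lib.Helper29.MagnetHomog Groth.Agent.Lib.Helper29.MagnetExpand
  Groth.Agent.Lib.Helper29.MagnetComapAff Groth.Agent.Lib.Helper29.MagnetAtlasRange

section Nat

variable {S : Scheme.{u}} {M : Type} [AddCommGroup M] {X U : Over S}

theorem attrMap_map (b : MonAct (AMonS S M) X) {K L : AddSubmonoid M} (h : K ≤ L)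
    {T T' : Over S} (t : T' ⟶ T) (x : (attr b K).obj (op T)) :
    (attrMap b h).app (op T') ((attr b K).map t.op x) =
      (attr b L).map t.op ((attrMap b h).app (op T) x) :=
  ConcreteCategory.congr_hom ((attrMap b h).naturality t.op) x

theorem attr_map_map (b : MonAct (AMonS S M) X) (K : AddSubmonoid M) {T T' T'' : Over S}
    (t : T' ⟶ T) (t' : T'' ⟶ T') (x : (attr b K).obj (op T)) :
    (attr b K).map t'.op ((attr b K).map t.op x) = (attr b K).map (t' ≫ t).op x := by
  apply Subtype.ext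
  show (AMonS S K ◁ t') ≫ (AMonS S K ◁ t) ≫ x.1 = (AMonS S K ◁ (t' ≫ t)) ≫ x.1
  rw [MonoidalCategory.whiskerLeft_comp, Category.assoc]

theorem attrToX_attrMap (b : MonAct (AMonS S M) X) {K L : AddSubmonoid M} (h : K ≤ L)
    (T : Over S) (x : (attr b K).obj (op T)) :
    (attrToX b L).app (op T) ((attrMap b h).app (op T) x) = (attrToX b K).app (op T) x := by
  show lift (toUnit T ≫ η[AMonS S L]) (𝟙 T) ≫ (AMonS.map S (AddSubmonoid.inclusion h) ▷ T) ≫ x.1 =
    lift (toUnit T ≫ η[AMonS S K]) (𝟙 T) ≫ x.1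
  rw [lift_whiskerRight_assoc, Category.assoc, IsMonHom.one_hom]

theorem attrMap_postcomp (a : MonAct (AMonS S M) X) (aU : MonAct (AMonS S M) U) (g : U ⟶ X)
    (hg : MonAct.IsEquivariant aU a g) {K L : AddSubmonoid M} (h : K ≤ L) (T : Over S)
    (ψ : (attr aU K).obj (op T)) :
    (attrMap a h).app (op T) ((MonAct.eqvHom.postcomp (subAct S M K) g hg).app (op T) ψ) =
      (MonAct.eqvHom.postcomp (subAct S M L) g hg).app (op T) ((attrMap aU h).app (op T) ψ) := by
  apply Subtype.ext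
  show (AMonS.map S (AddSubmonoid.inclusion h) ▷ T) ≫ ψ.1 ≫ g =
    ((AMonS.map S (AddSubmonoid.inclusion h) ▷ T) ≫ ψ.1) ≫ g
  rw [Category.assoc]

end Nat

theorem fg_toAddSubmonoid {M : Type} [AddCommGroup M] [AddGroup.FG M] (Z : AddSubgroup M) :
    Z.toAddSubmonoid.FG := by
  haveI : Module.Finite ℤ M := Module.Finite.iff_addGroup_fg.2 inferInstance
  haveI : IsNoetherian ℤ M := inferInstance
  have h1 : (AddSubgroup.toIntSubmodule Z).FG := IsNoetherian.noetherian _
  have h2 : Z.FG := by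
    have h3 := (Submodule.fg_iff_addSubgroup_fg _).1 h1
    rwa [AddSubgroup.toIntSubmodule_toAddSubgroup] at h3
  exact (AddSubgroup.fg_iff_addSubmonoid_fg Z).1 h2

/-- lifting a point of the attractor to the atlas, étale locally -/
theorem exists_lift_atlas (S : Scheme.{u}) (M : Type) [AddCommGroup M]
    [AddGroup.FG M] {X : Over S} [IsSeparated X.hom] [LocallyOfFinitePresentation X.hom]
    (a : MonAct (AMonS S M) X) (U : Over S) [IsAffineHom U.hom]
    (aU : MonAct (AMonS S M) U) (g : U ⟶ X) (hg : MonAct.IsEquivariant aU a g)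
    [Etale g.left] [Surjective g.left] (N : AddSubmonoid M)
    (hgZ : MonAct.IsEquivariant
      (aU.restrict (AMonS.map S (QuotientAddGroup.mk' (unitGrp N))))
      (a.restrict (AMonS.map S (QuotientAddGroup.mk' (unitGrp N)))) g)
    (hfpr : IsPullback (MonAct.fixedPsh.map g hgZ)
      (MonAct.fixedPshι (aU.restrict (AMonS.map S (QuotientAddGroup.mk' (unitGrp N)))))
      (MonAct.fixedPshι (a.restrict (AMonS.map S (QuotientAddGroup.mk' (unitGrp N)))))
      (yoneda.map g))
    (T : Over S) (φ : (attr a N).obj (op T)) :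
    ∃ (T' : Over S) (p₁ : T' ⟶ T) (_ : Etale p₁.left) (_ : Surjective p₁.left)
      (φt : (attr aU N).obj (op T')),
      (MonAct.eqvHom.postcomp (subAct S M N) g hg).app (op T') φt = (attr a N).map p₁.op φ := by
  have hQ : IsFace N (unitGrp N).toAddSubmonoid := isFace_unitFace N
  obtain ⟨eX, heX⟩ := fixIso (S := S) (unitGrp N) a
  obtain ⟨eU, heU⟩ := fixIso (S := S) (unitGrp N) aU
  obtain ⟨φQ, hφQ⟩ : ∃ φQ, φQ = (attrFace a hQ).app (op T) φ := ⟨_, rfl⟩
  obtain ⟨yfix, hyfix⟩ : ∃ yfix, yfix = eX.hom.app (op T) φQ := ⟨_, rfl⟩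
  have hy : yfix.1 = (attrToX a (unitGrp N).toAddSubmonoid).app (op T) φQ := by
    rw [hyfix]
    exact app_of_comp_eq _ _ _ heX (op T) φQ
  obtain ⟨T', p₁, p₂, hpb⟩ : ∃ (T' : Over S) (p₁ : T' ⟶ T) (p₂ : T' ⟶ U),
      IsPullback p₁ p₂ yfix.1 g := ⟨_, _, _, IsPullback.of_hasPullback yfix.1 g⟩
  have hpbL : IsPullback p₁.left p₂.left yfix.1.left g.left :=
    (Over.forget S).map_isPullback hpb
  have et : Etale p₁.left := MorphismProperty.of_isPullback (P := @Etale) hpbL.flip inferInstance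
  have su : Surjective p₁.left :=
    MorphismProperty.of_isPullback (P := @Surjective) hpbL.flip inferInstance
  have hfix := hfpr.app (op T')
  obtain ⟨x₁, -, hx₁⟩ := Types.exists_of_isPullback hfix
    ((MonAct.fixedPsh (a.restrict (AMonS.map S (QuotientAddGroup.mk' (unitGrp N))))).map p₁.op yfix)
    p₂ (by show p₁ ≫ yfix.1 = p₂ ≫ g; exact hpb.w)
  have hx₁' : x₁.1 = p₂ := hx₁
  obtain ⟨ψ, hψ⟩ : ∃ ψ, ψ = eU.inv.app (op T') x₁ := ⟨_, rfl⟩
  have hψX : (attrToX aU (unitGrp N).toAddSubmonoid).app (op T') ψ = p₂ := by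
    rw [hψ, ← hx₁']
    exact app_inv_of_comp_eq eU _ _ heU (op T') x₁
  have hℓ : (attrFace a hQ).app (op T') ((attr a N).map p₁.op φ) =
      (MonAct.eqvHom.postcomp (subAct S M (unitGrp N).toAddSubmonoid) g hg).app (op T') ψ := by
    apply MagnetAttr.main18285 S M X a (unitGrp N).toAddSubmonoid T'
    show (attrToX a (unitGrp N).toAddSubmonoid).app (op T')
        ((attrFace a hQ).app (op T') ((attr a N).map p₁.op φ)) =
      (attrToX a (unitGrp N).toAddSubmonoid).app (op T')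
        ((MonAct.eqvHom.postcomp (subAct S M (unitGrp N).toAddSubmonoid) g hg).app (op T') ψ)
    rw [attrFace_map, attrToX_map, attrToX_postcomp, hψX, ← hφQ, ← hy]
    exact hpb.w
  obtain ⟨φt, hφt, h1, -⟩ := MagnetEtMain.sol_sep S M a aU g hg hQ T'
    ((attr a N).map p₁.op φ).1 ((attr a N).map p₁.op φ).2 ψ.1 ψ.2 (congrArg Subtype.val hℓ)
  exact ⟨T', p₁, et, su, ⟨φt, hφt⟩, Subtype.ext h1⟩

/-- the affine case: finitely many degrees control the attractors -/
theorem exists_finset_attrMap_surj (S : Scheme.{u}) [CompactSpace S] (M : Type) [AddCommGroup M]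
    (U : Over S) [IsAffineHom U.hom] [LocallyOfFiniteType U.hom]
    (aU : MonAct (AMonS S M) U) :
    ∃ D : Finset M, ∀ (N Nc : AddSubmonoid M) (h : Nc ≤ N), (∀ d ∈ D, d ∈ N → d ∈ Nc) →
      ∀ (T : Over S) (φ : (attr aU N).obj (op T)),
        ∃ φc : (attr aU Nc).obj (op T), (attrMap aU h).app (op T) φc = φ := by
  haveI : IsSeparated U.hom := inferInstance
  obtain ⟨D, hD⟩ := MagnetPure.exists_finset S U aU
  refine ⟨D, fun N Nc h hDN T φ => ?_⟩
  have hdom : ∀ (L : AddSubmonoid M) (T : Over S),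
      ((AMonS.map S L.subtype) ▷ T).left.ker = ⊥ := fun L T =>
    MagnetDom.ker_whiskerRight_eq_bot S T L.subtype Subtype.val_injective
  have hextN : Ext (AMonS.map S N.subtype) aU ((attrToX aU N).app (op T) φ) := by
    rw [ext_iff_exists_equivariant (AMonS.map S N.subtype) aU (hdom N)]
    exact ⟨φ.1, φ.2, rfl⟩
  have hextC := hD N Nc hDN _ hextN
  rw [ext_iff_exists_equivariant (AMonS.map S Nc.subtype) aU (hdom Nc)] at hextC
  obtain ⟨φc, hφc, hφcx⟩ := hextC
  refine ⟨⟨φc, hφc⟩, ?_⟩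
  apply MagnetAttr.main18285 S M U aU N T
  show (attrToX aU N).app (op T) ((attrMap aU h).app (op T) ⟨φc, hφc⟩) =
    (attrToX aU N).app (op T) φ
  rw [attrToX_attrMap]
  exact hφcx

theorem main18237 (S : Scheme.{u}) [CompactSpace S] (M : Type)
    [AddCommGroup M] [AddGroup.FG M] {X : Over S} [QuasiCompact X.hom] [IsSeparated X.hom]
    [LocallyOfFinitePresentation X.hom] (a : Magnet.MonAct (Magnet.AMonS S M) X) (N : AddSubmonoid M)
    (Z : AddSubgroup M) (hZ : ∀ m : M, m ∈ Z ↔ (m ∈ N ∧ -m ∈ N)) (U : Over S) [IsAffineHom U.hom]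
    (aU : Magnet.MonAct (Magnet.AMonS S M) U) (g : U ⟶ X) (hg : Magnet.MonAct.IsEquivariant aU a g)
    [Etale g.left] [Surjective g.left]
    (hgZ : Magnet.MonAct.IsEquivariant (aU.restrict (Magnet.AMonS.map S (QuotientAddGroup.mk' Z))) (a.restrict (Magnet.AMonS.map S (QuotientAddGroup.mk' Z))) g)
    (hfpr : IsPullback (Magnet.MonAct.fixedPsh.map g hgZ)
      (Magnet.MonAct.fixedPshι (aU.restrict (Magnet.AMonS.map S (QuotientAddGroup.mk' Z))))
      (Magnet.MonAct.fixedPshι (a.restrict (Magnet.AMonS.map S (QuotientAddGroup.mk' Z)))) (yoneda.map g)) :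
    ∃ (Nc : AddSubmonoid M) (h : Nc ≤ N), Nc.FG ∧ (∀ m : M, (m ∈ Nc ∧ -m ∈ Nc) ↔ (m ∈ N ∧ -m ∈ N)) ∧
      IsIso (Magnet.attrMap a h) := by
  classical
  obtain rfl : Z = unitGrp N := by
    ext m
    rw [hZ]
    constructor
    · rintro ⟨h1, h2⟩
      exact ⟨h1, -m, h2, add_neg_cancel m⟩
    · rintro ⟨h1, y, hy, hxy⟩
      have hy' : y = -m := eq_neg_of_add_eq_zero_right hxy
      subst hy'
      exact ⟨h1, hy⟩
  haveI : LocallyOfFinitePresentation U.hom := by
    rw [← Over.w g]; infer_instance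
  haveI : LocallyOfFiniteType U.hom := inferInstance
  obtain ⟨D, hD⟩ := exists_finset_attrMap_surj S M U aU
  have H : ∀ (Nc : AddSubmonoid M) (hNc : Nc ≤ N), (∀ d ∈ D, d ∈ N → d ∈ Nc) →
      IsIso (Magnet.attrMap a hNc) := by
    intro Nc hNc hDN
    rw [NatTrans.isIso_iff_isIso_app]
    intro T
    rw [isIso_iff_bijective]
    refine ⟨MagnetAttr.main18284 S M X a hNc (unop T), fun φ => ?_⟩
    obtain ⟨T', p₁, et, su, φt, hφt⟩ := exists_lift_atlas S M a U aU g hg N hgZ hfpr (unop T) φ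
    haveI := et
    haveI := su
    obtain ⟨φtc, hφtc⟩ := hD N Nc hNc hDN T' φt
    obtain ⟨χ', hχ'⟩ : ∃ χ', χ' = (MonAct.eqvHom.postcomp (subAct S M Nc) g hg).app (op T') φtc :=
      ⟨_, rfl⟩
    have hχ'N : (attrMap a hNc).app (op T') χ' = (attr a N).map p₁.op φ := by
      rw [hχ', attrMap_postcomp, hφtc, hφt]
    have hR : (Presieve.singleton p₁).map (Over.forget S) ∈
        Scheme.fpqcPrecoverage (unop T).left := by
      rw [Presieve.map_singleton]
      exact Scheme.fppfPrecoverage_le_fpqcPrecoverage _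
        (Scheme.Hom.singleton_mem_fppfPrecoverage p₁.left)
    have hS := BigSheaf.eqvHom_isSheafFor S (AMonS S M) (AMonS S Nc) X (subAct S M Nc) a (unop T)
      (Presieve.singleton p₁) hR
    obtain ⟨χ₀, hχ₀, -⟩ := Presieve.isSheafFor_singleton.1 hS χ' (by
      intro W q₁ q₂ hq
      apply MagnetAttr.main18284 S M X a hNc W
      show (attrMap a hNc).app (op W) ((attr a Nc).map q₁.op χ') =
        (attrMap a hNc).app (op W) ((attr a Nc).map q₂.op χ')
      rw [attrMap_map, attrMap_map, hχ'N, attr_map_map, attr_map_map, hq])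
    refine ⟨χ₀, ?_⟩
    have hSN := BigSheaf.eqvHom_isSheafFor S (AMonS S M) (AMonS S N) X (subAct S M N) a (unop T)
      (Presieve.singleton p₁) hR
    apply hSN.isSeparatedFor.ext
    rintro W q ⟨⟩
    show (attr a N).map p₁.op ((attrMap a hNc).app (op (unop T)) χ₀) = (attr a N).map p₁.op φ
    rw [← attrMap_map, hχ₀, hχ'N]
  have hZN : (unitGrp N).toAddSubmonoid ≤ N := unitFace_le N
  have hcl : AddSubmonoid.closure ((D.filter (fun d => d ∈ N) : Finset M) : Set M) ≤ N := by
    rw [AddSubmonoid.closure_le]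
    intro d hd
    exact (Finset.mem_filter.1 (Finset.mem_coe.1 hd)).2
  have hNc : AddSubmonoid.closure ((D.filter (fun d => d ∈ N) : Finset M) : Set M) ⊔
      (unitGrp N).toAddSubmonoid ≤ N := sup_le hcl hZN
  refine ⟨_, hNc, AddSubmonoid.FG.sup ⟨D.filter (fun d => d ∈ N), rfl⟩
    (fg_toAddSubmonoid (unitGrp N)), ?_, ?_⟩
  · intro m
    constructor
    · rintro ⟨h1, h2⟩
      exact ⟨hNc h1, hNc h2⟩
    · intro hm
      have hmZ : m ∈ unitGrp N := (hZ m).2 hm
      exact ⟨le_sup_right (a := AddSubmonoid.closure _) hmZ,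
        le_sup_right (a := AddSubmonoid.closure _) ((unitGrp N).neg_mem hmZ)⟩
  · exact H _ hNc (fun d hd hdN => le_sup_left (b := (unitGrp N).toAddSubmonoid)
      (AddSubmonoid.subset_closure (Finset.mem_coe.2 (Finset.mem_filter.2 ⟨hd, hdN⟩))))

end Groth.Agent.Lib.Helper29.MagnetAtlasFG
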