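import Mathlib
import Groth.Prelude.Def_Magnet4
import Groth.Agent.Lib.Helper29.MagnetAtlasRange
import Groth.Agent.Lib.Helper29.MagnetPure

/-!
# Finiteness of the set of pure magnets along a strongly-FPR atlas (helper29, S19646)
-/
set_option autoImplicit false
set_option maxHeartbeats 1600000
set_option linter.style.haveILetI false
universe u
open CategoryTheory CategoryTheory.Limits MonoidalCategory CartesianMonoidalCategory MonObj
  AlgebraicGeometry Opposite

noncomputable section

namespace Groth.Agent.Lib.Helper29.MagnetAtlasPure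

open Magnet Groth.Agent.Lib.Helper29.MagnetCoordRing Groth.Agent.Lib.Helper29.MagnetCoord
  Groth.Agent.Lib.Helper29.MagnetCoordMonAlg Groth.Agent.Lib.Helper29.MagnetCoordGlob
  Groth.Agent.Lib.Helper29.MagnetHomog Groth.Agent.Lib.Helper29.MagnetExpand
  Groth.Agent.Lib.Helper29.MagnetComapAff

theorem main19646 (S : Scheme.{u}) [CompactSpace S] (M : Type)
    [AddCommGroup M] [AddGroup.FG M] {X : Over S} [IsSeparated X.hom] [LocallyOfFinitePresentation X.hom]
    (a : Magnet.MonAct (Magnet.AMonS S M) X) (U : Over S) [IsAffineHom U.hom]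
    (aU : Magnet.MonAct (Magnet.AMonS S M) U) (g : U ⟶ X) (hg : Magnet.MonAct.IsEquivariant aU a g)
    [Etale g.left] [Surjective g.left]
    (hgZ : ∀ Z : AddSubgroup M, Magnet.MonAct.IsEquivariant
      (aU.restrict (Magnet.AMonS.map S (QuotientAddGroup.mk' Z)))
      (a.restrict (Magnet.AMonS.map S (QuotientAddGroup.mk' Z))) g)
    (hfpr : ∀ Z : AddSubgroup M, IsPullback (Magnet.MonAct.fixedPsh.map g (hgZ Z))
      (Magnet.MonAct.fixedPshι (aU.restrict (Magnet.AMonS.map S (QuotientAddGroup.mk' Z))))
      (Magnet.MonAct.fixedPshι (a.restrict (Magnet.AMonS.map S (QuotientAddGroup.mk' Z)))) (yoneda.map g)) :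
    Set.Finite {N : AddSubmonoid M | ∀ L : AddSubmonoid M,
      (∀ T : Over S, Set.range (fun φ => (Magnet.attrToX a N).app (op T) φ) =
        Set.range (fun φ => (Magnet.attrToX a L).app (op T) φ)) → N ≤ L} := by
  classical
  haveI : LocallyOfFinitePresentation U.hom := by
    rw [← Over.w g]; infer_instance
  haveI : LocallyOfFiniteType U.hom := inferInstance
  haveI : IsSeparated U.hom := inferInstance
  obtain ⟨D, hD⟩ := MagnetPure.exists_finset S U aU
  have hdom : ∀ (L : AddSubmonoid M) (T : Over S),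
      ((AMonS.map S L.subtype) ▷ T).left.ker = ⊥ := fun L T =>
    MagnetDom.ker_whiskerRight_eq_bot S T L.subtype Subtype.val_injective
  have hrange : ∀ (N : AddSubmonoid M) (T : Over S),
      Set.range (fun φ => (Magnet.attrToX aU N).app (op T) φ) =
        {x | Ext (AMonS.map S N.subtype) aU x} := by
    intro N T
    ext x
    rw [Set.mem_range, Set.mem_ofPred_eq,
      ext_iff_exists_equivariant (AMonS.map S N.subtype) aU (hdom N) x]
    constructor
    · rintro ⟨φ, rfl⟩
      exact ⟨φ.1, φ.2, rfl⟩
    · rintro ⟨φ, hφ, rfl⟩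
      exact ⟨⟨φ, hφ⟩, rfl⟩
  apply Set.Finite.subset ((Finset.finite_toSet D.powerset).image
    (fun D' : Finset M => AddSubmonoid.closure (D' : Set M)))
  intro N hN
  have hcl : AddSubmonoid.closure ((D.filter (fun d => d ∈ N) : Finset M) : Set M) ≤ N := by
    rw [AddSubmonoid.closure_le]
    intro d hd
    exact (Finset.mem_filter.1 (Finset.mem_coe.1 hd)).2
  have hL : N ≤ AddSubmonoid.closure ((D.filter (fun d => d ∈ N) : Finset M) : Set M) := by
    apply hN
    intro T
    refine MagnetAtlasRange.main19645 S M a U aU g hg hgZ hfpr N _ (fun T' => ?_) T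
    rw [hrange, hrange]
    ext x
    constructor
    · exact hD N _ (fun d hd hdN => AddSubmonoid.subset_closure
        (Finset.mem_coe.2 (Finset.mem_filter.2 ⟨hd, hdN⟩))) x
    · exact hD _ N (fun d _ hdL => hcl hdL) x
  exact ⟨D.filter (fun d => d ∈ N),
    Finset.mem_coe.2 (Finset.mem_powerset.2 (Finset.filter_subset _ _)), le_antisymm hcl hL⟩

end Groth.Agent.Lib.Helper29.MagnetAtlasPure
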