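import Mathlib
import Groth.Agent.Lib.Helper28.EffDesc.SheafDesc
import Groth.Agent.Lib.Helper28.EffDesc.FppfAff
import Groth.Agent.S0082

/-!
# Representability of an fppf sheaf from an affine atlas (helper29; uses helper28's effective
descent for affine morphisms)

`repr_of_atlas`: an fppf sheaf `F` on `Over S` with a map to `h_{T₀}`, whose base change along an
fppf cover `π : U₀ ⟶ T₀` is represented by a scheme `V₀` affine over `U₀`, is representable by a
scheme affine over `T₀`.
-/

set_option autoImplicit false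
set_option maxHeartbeats 1600000
set_option backward.isDefEq.respectTransparency false
set_option backward.isDefEq.respectTransparency.types false
universe u
open CategoryTheory CategoryTheory.Limits AlgebraicGeometry Opposite

namespace Groth.Agent.Lib.Helper29.MagnetAtlasRep

open AlgSp Desc Groth.Agent.Lib.Helper28.SheafDesc Groth.Agent.Lib.Helper28.EffDesc

variable {S : Scheme.{u}}

section Defs
variable (F : (Over S)ᵒᵖ ⥤ Type u) (hF : Presheaf.IsSheaf (AlgSp.J S) F)

/-- the sheaf in `Sp S` attached to a `Type u`-valued sheaf -/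
noncomputable def toSp : Sp S :=
  ⟨F ⋙ uliftFunctor.{u + 1, u}, GrothendieckTopology.HasSheafCompose.isSheaf _ hF⟩

variable {F} {T₀ V₀ : Over S}

noncomputable def pTs (pT : F ⟶ yoneda.obj T₀) : toSp F hF ⟶ (yon S).obj T₀ :=
  ObjectProperty.homMk (Functor.whiskerRight pT uliftFunctor.{u + 1, u})

noncomputable def fPs (ξ : F.obj (op V₀)) : (yon S).obj V₀ ⟶ toSp F hF :=
  ObjectProperty.homMk (Functor.whiskerRight (yonedaEquiv.symm ξ) uliftFunctor.{u + 1, u})

theorem pTs_app (pT : F ⟶ yoneda.obj T₀) (T : (Over S)ᵒᵖ) (x : ULift.{u + 1} (F.obj T)) :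
    (pTs hF pT).hom.app T x = ULift.up (pT.app T x.down) := rfl

theorem fPs_app (ξ : F.obj (op V₀)) (T : (Over S)ᵒᵖ) (z : ULift.{u + 1} (unop T ⟶ V₀)) :
    (fPs hF ξ).hom.app T z = ULift.up (F.map z.down.op ξ) := rfl

theorem yon_map_app {A B : Over S} (g : A ⟶ B) (T : (Over S)ᵒᵖ) (z : ULift.{u + 1} (unop T ⟶ A)) :
    ((yon S).map g).hom.app T z = ULift.up (z.down ≫ g) := rfl

end Defs

section Main
variable (F : (Over S)ᵒᵖ ⥤ Type u) (hF : Presheaf.IsSheaf (AlgSp.J S) F)
  {T₀ U₀ V₀ : Over S} (π : U₀ ⟶ T₀) (av : V₀ ⟶ U₀) (pT : F ⟶ yoneda.obj T₀) (ξ : F.obj (op V₀))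

theorem pT_map (T : (Over S)ᵒᵖ) (z : unop T ⟶ V₀) :
    pT.app T (F.map z.op ξ) = z ≫ pT.app (op V₀) ξ :=
  ConcreteCategory.congr_hom (pT.naturality z.op) ξ

theorem isPullback_sp
    (hcomm : pT.app (op V₀) ξ = av ≫ π)
    (huniv : ∀ (T : Over S) (x : F.obj (op T)) (u : T ⟶ U₀), pT.app (op T) x = u ≫ π →
      ∃! v : T ⟶ V₀, F.map v.op ξ = x ∧ v ≫ av = u) :
    IsPullback (fPs hF ξ) ((yon S).map av) (pTs hF pT) ((yon S).map π) := by
  have hmap : IsPullback ((sheafToPresheaf _ _).map (fPs hF ξ))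
      ((sheafToPresheaf _ _).map ((yon S).map av))
      ((sheafToPresheaf _ _).map (pTs hF pT)) ((sheafToPresheaf _ _).map ((yon S).map π)) := by
    apply IsPullback.of_forall_isPullback_app
    intro T
    refine (Types.isPullback_iff _ _ _ _).2 ⟨?_, ?_, ?_⟩
    · refine ConcreteCategory.hom_ext _ _ fun z => ?_
      show ULift.up (pT.app T (F.map z.down.op ξ)) = ULift.up ((z.down ≫ av) ≫ π)
      rw [pT_map, hcomm, Category.assoc]
    · rintro z₁ z₂ ⟨h1, h2⟩
      have h1' : F.map z₁.down.op ξ = F.map z₂.down.op ξ := congrArg ULift.down h1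
      have h2' : z₁.down ≫ av = z₂.down ≫ av := congrArg ULift.down h2
      have hx : pT.app T (F.map z₁.down.op ξ) = (z₁.down ≫ av) ≫ π := by
        rw [pT_map, hcomm, Category.assoc]
      obtain ⟨v, -, hv⟩ := huniv (unop T) (F.map z₁.down.op ξ) (z₁.down ≫ av) hx
      have e1 := hv z₁.down ⟨rfl, rfl⟩
      have e2 := hv z₂.down ⟨h1'.symm, h2'.symm⟩
      exact ULift.ext _ _ (e1.trans e2.symm)
    · intro x u hxu
      have hxu' : pT.app T x.down = u.down ≫ π := congrArg ULift.down hxu
      obtain ⟨v, ⟨hv1, hv2⟩, -⟩ := huniv (unop T) x.down u.down hxu'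
      exact ⟨ULift.up v, ULift.ext _ _ hv1, ULift.ext _ _ hv2⟩
  exact IsPullback.of_map (sheafToPresheaf _ _)
    ((sheafToPresheaf _ _).map_injective (by simpa using hmap.w)) hmap

include hF in
theorem repr_of_atlas [Flat π.left] [Surjective π.left] [LocallyOfFinitePresentation π.left]
    [IsAffineHom av.left]
    (hcomm : pT.app (op V₀) ξ = av ≫ π)
    (huniv : ∀ (T : Over S) (x : F.obj (op T)) (u : T ⟶ U₀), pT.app (op T) x = u ≫ π →
      ∃! v : T ⟶ V₀, F.map v.op ξ = x ∧ v ≫ av = u) :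
    ∃ (W : Over S) (w : W ⟶ T₀) (e : F.RepresentableBy W), IsAffineHom w.left ∧
      ∀ (T : Over S) (z : T ⟶ W), pT.app (op T) (e.homEquiv z) = z ≫ w := by
  have sq := isPullback_sp F hF π av pT ξ hcomm huniv
  haveI : IsAffineHom (sheafDD π av (pTs hF pT) (fPs hF ξ) sq).obj.hom := by
    show IsAffineHom av.left
    infer_instance
  obtain ⟨W₀, ⟨e⟩⟩ := schDD_effective_of_affineHom_fppf (sheafDD π av (pTs hF pT) (fPs hF ξ) sq)
  obtain ⟨W, w, q, κ, hκT, hκq, pbO⟩ :=
    exists_rep_of_effective π av (pTs hF pT) (fPs hF ξ) sq W₀ e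
  have haff : IsAffineHom w.left := by
    haveI : MorphismProperty.DescendsAlong @IsAffineHom
        (@Surjective ⊓ @Flat ⊓ @QuasiCompact : MorphismProperty Scheme.{u}) :=
      Groth.Agent.S0082.result
    have pbL : IsPullback av.left q.left π.left w.left := (Over.forget S).map_isPullback pbO
    exact MorphismProperty.of_isPullback_of_descendsAlong (P := @IsAffineHom)
      (Q := (@Surjective ⊓ @Flat ⊓ @LocallyOfFinitePresentation : MorphismProperty Scheme.{u}))
      pbL ⟨⟨inferInstance, inferInstance⟩, inferInstance⟩ inferInstance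
  have hinv1 : ∀ (T : (Over S)ᵒᵖ) (z : ULift.{u + 1} (unop T ⟶ W)),
      κ.inv.hom.app T (κ.hom.hom.app T z) = z := by
    intro T z
    have h := congrArg (fun α => α.hom.app T) κ.hom_inv_id
    exact ConcreteCategory.congr_hom h z
  have hinv2 : ∀ (T : (Over S)ᵒᵖ) (x : ULift.{u + 1} (F.obj T)),
      κ.hom.hom.app T (κ.inv.hom.app T x) = x := by
    intro T x
    have h := congrArg (fun α => α.hom.app T) κ.inv_hom_id
    exact ConcreteCategory.congr_hom h x
  have hnat : ∀ (T T' : Over S) (t : T' ⟶ T) (z : ULift.{u + 1} (T ⟶ W)),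
      κ.hom.hom.app (op T') (ULift.up (t ≫ z.down) : ULift.{u + 1} (T' ⟶ W)) =
        (ULift.up (F.map t.op (κ.hom.hom.app (op T) z).down) : ULift.{u + 1} (F.obj (op T'))) := by
    intro T T' t z
    exact ConcreteCategory.congr_hom (κ.hom.hom.naturality t.op) z
  refine ⟨W, w,
    { homEquiv := fun {T} =>
        { toFun := fun z => (κ.hom.hom.app (op T) (ULift.up z : ULift.{u + 1} (T ⟶ W))).down
          invFun := fun x => (κ.inv.hom.app (op T) (ULift.up x : ULift.{u + 1} (F.obj (op T)))).down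
          left_inv := fun z => congrArg ULift.down
            (hinv1 (op T) (ULift.up z : ULift.{u + 1} (T ⟶ W)))
          right_inv := fun x => congrArg ULift.down
            (hinv2 (op T) (ULift.up x : ULift.{u + 1} (F.obj (op T)))) }
      homEquiv_comp := fun {T T'} t z => congrArg ULift.down
        (hnat T' T t (ULift.up z : ULift.{u + 1} (T' ⟶ W))) }, haff, ?_⟩
  intro T z
  have h := congrArg (fun α => α.hom.app (op T)) hκT
  have h2 := ConcreteCategory.congr_hom h (ULift.up z : ULift.{u + 1} (T ⟶ W))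
  exact congrArg ULift.down h2

end Main

end Groth.Agent.Lib.Helper29.MagnetAtlasRep
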