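import Mathlib
import Groth.Prelude.Def_Magnet4
import Groth.Agent.Lib.Helper29.IdealDesc
import Groth.Agent.Lib.Helper29.MagnetFix
import Groth.Agent.Lib.Helper26.MagnetFactor

/-!
# Fixed points of an action are a closed subscheme as soon as they are so on a flat lfp
fixed-point-reflecting atlas (S18299) (helper29)

Descent of the closed subscheme along the atlas, by the fpqc sheaf property of quasi-coherent
ideal sheaves (`IdealDesc.main11731`).
-/
set_option autoImplicit false
set_option maxHeartbeats 1600000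
set_option linter.style.haveILetI false
universe u
open CategoryTheory CategoryTheory.Limits MonoidalCategory CartesianMonoidalCategory MonObj
  AlgebraicGeometry Opposite

noncomputable section

namespace Groth.Agent.Lib.Helper29.MagnetFixDesc

open Magnet Scheme.IdealSheafData

variable {S : Scheme.{u}} {A X U : Over S} [MonObj A]

/-- fixedness of a point -/
def IsFixed (a : MonAct A X) {T : Over S} (x : T ⟶ X) : Prop :=
  ∀ (T' : Over S) (t : T' ⟶ T) (g : T' ⟶ A), lift g (t ≫ x) ≫ a.act = t ≫ x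

theorem IsFixed.comp {a : MonAct A X} {T T₁ : Over S} {x : T ⟶ X} (h : IsFixed a x) (t : T₁ ⟶ T) :
    IsFixed a (t ≫ x) := by
  intro T' t' g
  rw [← Category.assoc]
  exact h T' (t' ≫ t) g

theorem IsFixed.map {aU : MonAct A U} {aX : MonAct A X} {f : U ⟶ X}
    (hf : MonAct.IsEquivariant aU aX f) {T : Over S} {u : T ⟶ U} (h : IsFixed aU u) :
    IsFixed aX (u ≫ f) := by
  intro T' t g
  rw [MonAct.isEquivariant_iff] at hf
  rw [← Category.assoc t u f, ← hf T' g (t ≫ u), ← Category.assoc, h T' t g]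

theorem isFixed_of_fpr {aU : MonAct A U} {aX : MonAct A X} {f : U ⟶ X}
    (hf : MonAct.IsEquivariant aU aX f)
    (hfpr : IsPullback (MonAct.fixedPsh.map f hf) (MonAct.fixedPshι aU) (MonAct.fixedPshι aX)
      (yoneda.map f)) {T : Over S} (u : T ⟶ U) (h : IsFixed aX (u ≫ f)) : IsFixed aU u := by
  have hT := hfpr.map ((evaluation (Over S)ᵒᵖ (Type u)).obj (op T))
  rw [Limits.Types.isPullback_iff] at hT
  obtain ⟨-, -, h3⟩ := hT
  obtain ⟨u', -, hu2⟩ := h3 (⟨u ≫ f, h⟩ : (MonAct.fixedPsh aX).obj (op T)) u rfl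
  have e : u'.1 = u := hu2
  rw [← e]
  exact u'.2

theorem exists_factor_iff_isFixed {aU : MonAct A U} {W' : Over S} (i' : W' ⟶ U)
    (e' : (MonAct.fixedPsh aU).RepresentableBy W')
    (he : ∀ (T : Over S) (w : T ⟶ W'),
      (MonAct.fixedPshι aU).app (op T) (e'.homEquiv w) = w ≫ i')
    {T : Over S} (u : T ⟶ U) : IsFixed aU u ↔ ∃ w : T ⟶ W', w ≫ i' = u := by
  constructor
  · intro h
    refine ⟨e'.homEquiv.symm ⟨u, h⟩, ?_⟩
    rw [← he, Equiv.apply_symm_apply]
    rfl
  · rintro ⟨w, rfl⟩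
    have h1 := (e'.homEquiv w).2
    have h2 : (e'.homEquiv w).1 = w ≫ i' := he T w
    rw [← h2]
    exact h1

theorem exists_cover (f : U ⟶ X) [Flat f.left] [Surjective f.left]
    [LocallyOfFinitePresentation f.left] {T : Over S} (x : T ⟶ X) :
    ∃ (T' : Over S) (t' : T' ⟶ T) (u : T' ⟶ U), t' ≫ x = u ≫ f ∧ Epi t' ∧ Flat t'.left ∧
      Surjective t'.left := by
  let pT := pullback.fst x.left f.left
  let pU := pullback.snd x.left f.left
  let T' : Over S := Over.mk (pT ≫ T.hom)
  let t' : T' ⟶ T := Over.homMk pT rfl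
  have hpU : pU ≫ U.hom = T'.hom := by
    change pU ≫ U.hom = pT ≫ T.hom
    rw [← Over.w f, ← Category.assoc, ← pullback.condition, Category.assoc, Over.w x]
  let u : T' ⟶ U := Over.homMk pU hpU
  haveI hF : Flat t'.left := inferInstanceAs (Flat (pullback.fst x.left f.left))
  haveI hS : Surjective t'.left := inferInstanceAs (Surjective (pullback.fst x.left f.left))
  haveI hL : LocallyOfFinitePresentation t'.left :=
    inferInstanceAs (LocallyOfFinitePresentation (pullback.fst x.left f.left))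
  haveI : EffectiveEpi t'.left := inferInstance
  refine ⟨T', t', u, ?_, MagnetFix.epi_of_effectiveEpi_left t', hF, hS⟩
  apply Over.OverMorphism.ext
  exact pullback.condition

theorem exists_closed_fixed
    (aX : MonAct A X) (aU : MonAct A U) (f : U ⟶ X) [Flat f.left] [Surjective f.left]
    [LocallyOfFinitePresentation f.left]
    (hf : MonAct.IsEquivariant aU aX f)
    (hfpr : IsPullback (MonAct.fixedPsh.map f hf) (MonAct.fixedPshι aU) (MonAct.fixedPshι aX)
      (yoneda.map f))
    (W' : Over S) (i' : W' ⟶ U) [IsClosedImmersion i'.left]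
    (hW' : ∀ {T : Over S} (u : T ⟶ U), IsFixed aU u ↔ ∃ w : T ⟶ W', w ≫ i' = u) :
    ∃ (W : Over S) (i : W ⟶ X), IsClosedImmersion i.left ∧
      ∀ {T : Over S} (x : T ⟶ X), IsFixed aX x ↔ ∃ w : T ⟶ W, w ≫ i = x := by
  -- points with the same image are fixed together
  have key : ∀ {T : Over S} (u₁ u₂ : T ⟶ U), u₁ ≫ f = u₂ ≫ f →
      (∃ w : T ⟶ W', w ≫ i' = u₁) → ∃ w : T ⟶ W', w ≫ i' = u₂ := by
    intro T u₁ u₂ h12 h1
    rw [← hW'] at h1 ⊢
    apply isFixed_of_fpr hf hfpr
    rw [← h12]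
    exact h1.map hf
  -- compatibility of the ideal
  have hle : ∀ (P : Scheme.{u}) (p₁ p₂ : P ⟶ U.left), p₁ ≫ f.left = p₂ ≫ f.left →
      i'.left.ker.comap p₂ ≤ i'.left.ker.comap p₁ := by
    intro P p₁ p₂ h12
    rw [← ker_fst_of_isClosedImmersion i'.left p₁, ← ker_fst_of_isClosedImmersion i'.left p₂]
    obtain ⟨c₁, hc₁⟩ : ∃ c₁ : pullback p₁ i'.left ⟶ P, c₁ = pullback.fst p₁ i'.left := ⟨_, rfl⟩
    rw [← hc₁]
    let T : Over S := Over.mk (c₁ ≫ p₁ ≫ U.hom)
    let u₁ : T ⟶ U := Over.homMk (c₁ ≫ p₁) (by simp [T])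
    have hp2 : (c₁ ≫ p₂) ≫ U.hom = T.hom := by
      change (c₁ ≫ p₂) ≫ U.hom = c₁ ≫ p₁ ≫ U.hom
      rw [Category.assoc]
      congr 1
      rw [← Over.w f, ← Category.assoc, ← Category.assoc, h12]
    let u₂ : T ⟶ U := Over.homMk (c₁ ≫ p₂) hp2
    have h12' : u₁ ≫ f = u₂ ≫ f := by
      apply Over.OverMorphism.ext
      change (c₁ ≫ p₁) ≫ f.left = (c₁ ≫ p₂) ≫ f.left
      rw [Category.assoc, Category.assoc, h12]
    have hw1 : ∃ w : T ⟶ W', w ≫ i' = u₁ := by
      refine ⟨Over.homMk (pullback.snd p₁ i'.left) ?_, ?_⟩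
      · change pullback.snd p₁ i'.left ≫ W'.hom = c₁ ≫ p₁ ≫ U.hom
        rw [← Over.w i', ← Category.assoc, ← pullback.condition, Category.assoc, hc₁]
      · apply Over.OverMorphism.ext
        change pullback.snd p₁ i'.left ≫ i'.left = c₁ ≫ p₁
        rw [hc₁]
        exact pullback.condition.symm
    obtain ⟨w₂, hw₂⟩ := key u₁ u₂ h12' hw1
    have hw₂' : w₂.left ≫ i'.left = c₁ ≫ p₂ := congrArg (fun k => k.left) hw₂
    have e : pullback.lift c₁ w₂.left hw₂'.symm ≫ pullback.fst p₂ i'.left = c₁ :=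
      pullback.lift_fst _ _ _
    calc (pullback.fst p₂ i'.left).ker
        ≤ (pullback.lift c₁ w₂.left hw₂'.symm ≫ pullback.fst p₂ i'.left).ker :=
          Scheme.Hom.le_ker_comp _ _
      _ = c₁.ker := by rw [e]
  have hg : Presieve.ofArrows (fun _ : PUnit.{u + 1} => U.left) (fun _ => f.left) ∈
      Scheme.fpqcPrecoverage X.left := by
    rw [Presieve.ofArrows_pUnit]
    exact Scheme.fppfPrecoverage_le_fpqcPrecoverage _
      (Scheme.Hom.singleton_mem_fppfPrecoverage f.left)
  obtain ⟨J, hJ, -⟩ := IdealDesc.main11731 (fun _ : PUnit.{u + 1} => f.left) hg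
    (fun _ => i'.left.ker)
    (fun _ _ => le_antisymm (hle _ _ _ pullback.condition.symm) (hle _ _ _ pullback.condition))
  have hJ' : J.comap f.left = i'.left.ker := hJ PUnit.unit
  let W : Over S := Over.mk (J.subschemeι ≫ X.hom)
  let i : W ⟶ X := Over.homMk J.subschemeι rfl
  haveI hci : IsClosedImmersion i.left := inferInstanceAs (IsClosedImmersion J.subschemeι)
  have hJle : J.subschemeι.ker ≤ (i'.left ≫ f.left).ker := by
    rw [ker_subschemeι, ← Scheme.IdealSheafData.map_ker i'.left f.left, le_map_iff_comap_le]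
    exact hJ'.le
  obtain ⟨lam, hlam⟩ : ∃ lam : W'.left ⟶ J.subscheme, lam ≫ J.subschemeι = i'.left ≫ f.left :=
    ⟨IsClosedImmersion.lift J.subschemeι (i'.left ≫ f.left) hJle,
      IsClosedImmersion.lift_fac _ _ _⟩
  have hc : (pullback.fst f.left J.subschemeι).ker = i'.left.ker := by
    rw [ker_fst_of_isClosedImmersion, ker_subschemeι, hJ']
  obtain ⟨κ, hκ⟩ : ∃ κ : pullback f.left J.subschemeι ⟶ W'.left,
      κ ≫ i'.left = pullback.fst f.left J.subschemeι :=
    ⟨IsClosedImmersion.lift i'.left (pullback.fst f.left J.subschemeι) hc.ge,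
      IsClosedImmersion.lift_fac _ _ _⟩
  -- points of `W` are fixed
  have h0 : ∀ {T : Over S} (w : T ⟶ W) (g : T ⟶ A), lift g (w ≫ i) ≫ aX.act = w ≫ i := by
    intro T w g
    obtain ⟨T', t', u, htu, hepi, -, -⟩ := exists_cover f (w ≫ i)
    have hul : u.left ≫ f.left = (t'.left ≫ w.left) ≫ J.subschemeι := by
      have h := congrArg (fun k => k.left) htu
      simp only [Over.comp_left] at h
      rw [Category.assoc]
      exact h.symm
    obtain ⟨v, hv⟩ : ∃ v : T'.left ⟶ W'.left, v ≫ i'.left = u.left :=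
      ⟨pullback.lift u.left (t'.left ≫ w.left) hul ≫ κ, by
        rw [Category.assoc, hκ, pullback.lift_fst]⟩
    have hufix : IsFixed aU u := by
      rw [hW']
      refine ⟨Over.homMk v ?_, ?_⟩
      · rw [← Over.w i', ← Category.assoc, hv, Over.w u]
      · apply Over.OverMorphism.ext
        exact hv
    have hxfix : IsFixed aX (t' ≫ w ≫ i) := by
      rw [htu]
      exact hufix.map hf
    have h1 := hxfix T' (𝟙 T') (t' ≫ g)
    rw [Category.id_comp] at h1
    rw [← cancel_epi t', comp_lift_assoc]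
    exact h1
  refine ⟨W, i, hci, ?_⟩
  intro T x
  constructor
  · intro hx
    obtain ⟨T', t', u, htu, -, hF, hS⟩ := exists_cover f x
    have hu : IsFixed aU u := by
      apply isFixed_of_fpr hf hfpr
      rw [← htu]
      exact hx.comp t'
    obtain ⟨w', hw'⟩ := (hW' u).1 hu
    have hw'l : w'.left ≫ i'.left = u.left := congrArg (fun k => k.left) hw'
    haveI : IsSchemeTheoreticallyDominant t'.left :=
      ⟨ClosedDesc.ker_eq_bot_of_flat_of_surjective t'.left⟩
    have hfac : t'.left ≫ x.left = (w'.left ≫ lam) ≫ J.subschemeι := by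
      rw [Category.assoc, hlam, ← Category.assoc, hw'l]
      have h := congrArg (fun k => k.left) htu
      simpa only [Over.comp_left] using h
    obtain ⟨g, hg⟩ := Groth.Agent.Lib.Helper26.MagnetFactor.exists_factor_of_isSchemeTheoreticallyDominant
      x.left J.subschemeι t'.left (w'.left ≫ lam) hfac
    refine ⟨Over.homMk g ?_, ?_⟩
    · change g ≫ J.subschemeι ≫ X.hom = T.hom
      rw [← Category.assoc, hg, Over.w x]
    · apply Over.OverMorphism.ext
      exact hg
  · rintro ⟨w, rfl⟩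
    intro T₁ t g
    rw [← Category.assoc]
    exact h0 (t ≫ w) g

theorem main18299 (S : Scheme.{u}) (Q : Type)
    [AddCommGroup Q] (X U : Over S) (aX : AlgGrp.Action (Red.DS S Q) X)
    (aU : AlgGrp.Action (Red.DS S Q) U)
    (f : U ⟶ X) [Etale f.left] [Surjective f.left]
    (hf : Magnet.MonAct.IsEquivariant (Magnet.MonAct.ofAction aU) (Magnet.MonAct.ofAction aX) f)
    (hfpr : IsPullback (Magnet.MonAct.fixedPsh.map f hf)
      (Magnet.MonAct.fixedPshι (Magnet.MonAct.ofAction aU))
      (Magnet.MonAct.fixedPshι (Magnet.MonAct.ofAction aX)) (yoneda.map f))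
    (hU : ∃ (W' : Over S) (i' : W' ⟶ U)
      (e' : (Magnet.MonAct.fixedPsh (Magnet.MonAct.ofAction aU)).RepresentableBy W'),
      IsClosedImmersion i'.left ∧ ∀ (T : Over S) (w : T ⟶ W'),
        (Magnet.MonAct.fixedPshι (Magnet.MonAct.ofAction aU)).app (op T) (e'.homEquiv w) =
          w ≫ i') :
    ∃ (W : Over S) (i : W ⟶ X)
      (e : (Magnet.MonAct.fixedPsh (Magnet.MonAct.ofAction aX)).RepresentableBy W),
      IsClosedImmersion i.left ∧ ∀ (T : Over S) (w : T ⟶ W),
        (Magnet.MonAct.fixedPshι (Magnet.MonAct.ofAction aX)).app (op T) (e.homEquiv w) =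
          w ≫ i := by
  obtain ⟨W', i', e', hcl, he'⟩ := hU
  haveI := hcl
  obtain ⟨W, i, hi, hW⟩ := exists_closed_fixed (MonAct.ofAction aX) (MonAct.ofAction aU) f hf hfpr
    W' i' (fun u => exists_factor_iff_isFixed i' e' he' u)
  haveI := hi
  haveI : Mono i := Groth.Agent.Lib.Helper26.MagnetFactor.mono_of_isClosedImmersion_left i
  let E : ∀ T : Over S, (T ⟶ W) ≃ (MonAct.fixedPsh (MonAct.ofAction aX)).obj (op T) := fun T =>
    { toFun := fun w => ⟨w ≫ i, (hW (w ≫ i)).2 ⟨w, rfl⟩⟩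
      invFun := fun x => Classical.choose ((hW x.1).1 x.2)
      left_inv := fun w => by
        rw [← cancel_mono i]
        exact Classical.choose_spec ((hW (w ≫ i)).1 ((hW (w ≫ i)).2 ⟨w, rfl⟩))
      right_inv := fun x => Subtype.ext (Classical.choose_spec ((hW x.1).1 x.2)) }
  refine ⟨W, i, ⟨fun {T} => E T, ?_⟩, hi, ?_⟩
  · intro T T₁ t w
    apply Subtype.ext
    exact Category.assoc _ _ _
  · intro T w
    rfl

end Groth.Agent.Lib.Helper29.MagnetFixDesc
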