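import Mathlib
import Groth.Prelude.Def_Magnet4
import Groth.Agent.Lib.Helper29.MagnetAtlasRep
import Groth.Agent.Lib.Helper29.MagnetAtlasRange
import Groth.Agent.Lib.Helper29.MagnetEtMain
import Groth.Agent.Lib.Helper29.MagnetFixDesc
import Groth.Agent.Lib.Helper29.MagnetCoordAttr
import Groth.Agent.Lib.Helper29.BigSheaf
import Groth.Agent.Lib.Helper26.MagnetFactor

/-!
# Representability of attractors along an S-affine N*-FPR atlas (helper29, S18304)
-/
set_option autoImplicit false
set_option maxHeartbeats 1600000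
set_option linter.style.haveILetI false
universe u
open CategoryTheory CategoryTheory.Limits MonoidalCategory CartesianMonoidalCategory MonObj
  AlgebraicGeometry Opposite

noncomputable section

namespace Groth.Agent.Lib.Helper29.MagnetAtlasRepMain

open Magnet Groth.Agent.Lib.Helper29.MagnetAtlasRange Groth.Agent.Lib.Helper29.MagnetFixDesc

section Gen

theorem iso_hom_inv_app {C : Type*} [Category C] {F G : Cᵒᵖ ⥤ Type u} (e : F ≅ G) (T : Cᵒᵖ)
    (x : F.obj T) : e.inv.app T (e.hom.app T x) = x := by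
  have h := congrArg (fun α => α.app T) e.hom_inv_id
  exact ConcreteCategory.congr_hom h x

end Gen

section Fix

variable {S : Scheme.{u}} {M : Type} [AddCommGroup M] [AddGroup.FG M] {X U : Over S}

/-- `attrToX` on the attractor of a subgroup is injective (no separatedness needed) -/
theorem attrToX_grp_injective (Z : AddSubgroup M) (a : MonAct (AMonS S M) X) (T : Over S) :
    Function.Injective (fun φ => (attrToX a Z.toAddSubmonoid).app (op T) φ) := by
  obtain ⟨e, he⟩ := fixIso (S := S) Z a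
  intro φ₁ φ₂ h
  have h1 : (e.hom.app (op T) φ₁).1 = (attrToX a Z.toAddSubmonoid).app (op T) φ₁ :=
    app_of_comp_eq _ _ _ he (op T) φ₁
  have h2 : (e.hom.app (op T) φ₂).1 = (attrToX a Z.toAddSubmonoid).app (op T) φ₂ :=
    app_of_comp_eq _ _ _ he (op T) φ₂
  have h3 : e.hom.app (op T) φ₁ = e.hom.app (op T) φ₂ := Subtype.ext (h1.trans (h.trans h2.symm))
  rw [← iso_hom_inv_app e (op T) φ₁, ← iso_hom_inv_app e (op T) φ₂, h3]

theorem isFixed_iff_range (Z : AddSubgroup M) (a : MonAct (AMonS S M) X) {T : Over S}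
    (x : T ⟶ X) :
    IsFixed (a.restrict (AMonS.map S (QuotientAddGroup.mk' Z))) x ↔
      ∃ φ : (attr a Z.toAddSubmonoid).obj (op T), (attrToX a Z.toAddSubmonoid).app (op T) φ = x := by
  obtain ⟨e, he⟩ := fixIso (S := S) Z a
  constructor
  · intro h
    exact ⟨e.inv.app (op T) ⟨x, h⟩, app_inv_of_comp_eq e _ _ he (op T) ⟨x, h⟩⟩
  · rintro ⟨φ, rfl⟩
    have h1 : (e.hom.app (op T) φ).1 = (attrToX a Z.toAddSubmonoid).app (op T) φ :=
      app_of_comp_eq _ _ _ he (op T) φ
    rw [← h1]
    exact (e.hom.app (op T) φ).2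

theorem exists_repr_grp (Z : AddSubgroup M) (a : MonAct (AMonS S M) X) (W : Over S) (i : W ⟶ X)
    [Mono i]
    (hW : ∀ {T : Over S} (x : T ⟶ X),
      IsFixed (a.restrict (AMonS.map S (QuotientAddGroup.mk' Z))) x ↔ ∃ w : T ⟶ W, w ≫ i = x) :
    ∃ e : (attr a Z.toAddSubmonoid).RepresentableBy W, ∀ (T : Over S) (z : T ⟶ W),
      (attrToX a Z.toAddSubmonoid).app (op T) (e.homEquiv z) = z ≫ i := by
  have hinj := attrToX_grp_injective Z a
  have hex : ∀ (T : Over S) (z : T ⟶ W), ∃ φ : (attr a Z.toAddSubmonoid).obj (op T),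
      (attrToX a Z.toAddSubmonoid).app (op T) φ = z ≫ i := fun T z =>
    (isFixed_iff_range Z a (z ≫ i)).1 ((hW _).2 ⟨z, rfl⟩)
  choose Φ hΦ using hex
  refine ⟨{ homEquiv := fun {T} => Equiv.ofBijective (Φ T) ⟨?_, ?_⟩, homEquiv_comp := ?_ }, ?_⟩
  · intro z₁ z₂ h
    have h' : z₁ ≫ i = z₂ ≫ i := by rw [← hΦ, ← hΦ, h]
    exact (cancel_mono i).1 h'
  · intro φ
    obtain ⟨w, hw⟩ := (hW _).1 ((isFixed_iff_range Z a _).2 ⟨φ, rfl⟩)
    refine ⟨w, hinj T ?_⟩
    show (attrToX a Z.toAddSubmonoid).app (op T) (Φ T w) =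
      (attrToX a Z.toAddSubmonoid).app (op T) φ
    rw [hΦ, hw]
  · intro T T' t z
    apply hinj T
    show (attrToX a Z.toAddSubmonoid).app (op T) (Φ T (t ≫ z)) =
      (attrToX a Z.toAddSubmonoid).app (op T) ((attr a Z.toAddSubmonoid).map t.op (Φ T' z))
    rw [hΦ, attrToX_map, hΦ, Category.assoc]
  · intro T z
    exact hΦ T z

theorem attrToX_unit_injective (N : AddSubmonoid M) (a : MonAct (AMonS S M) X) (T : Over S) :
    Function.Injective (fun φ => (attrToX a (unitFace N)).app (op T) φ) :=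
  attrToX_grp_injective (unitGrp N) a T

theorem isFixed_iff_range_unit (N : AddSubmonoid M) (a : MonAct (AMonS S M) X) {T : Over S}
    (x : T ⟶ X) :
    IsFixed (a.restrict (AMonS.map S (QuotientAddGroup.mk' (unitGrp N)))) x ↔
      ∃ φ : (attr a (unitFace N)).obj (op T), (attrToX a (unitFace N)).app (op T) φ = x :=
  isFixed_iff_range (unitGrp N) a x

theorem exists_repr_unit (N : AddSubmonoid M) (a : MonAct (AMonS S M) X) (W : Over S) (i : W ⟶ X)
    [Mono i]
    (hW : ∀ {T : Over S} (x : T ⟶ X),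
      IsFixed (a.restrict (AMonS.map S (QuotientAddGroup.mk' (unitGrp N)))) x ↔
        ∃ w : T ⟶ W, w ≫ i = x) :
    ∃ e : (attr a (unitFace N)).RepresentableBy W, ∀ (T : Over S) (z : T ⟶ W),
      (attrToX a (unitFace N)).app (op T) (e.homEquiv z) = z ≫ i :=
  exists_repr_grp (unitGrp N) a W i hW

theorem postcomp_map (a : MonAct (AMonS S M) X) (b : MonAct (AMonS S M) U) (f : U ⟶ X)
    (hf : MonAct.IsEquivariant b a f) (K : AddSubmonoid M) {T T' : Over S} (t : T' ⟶ T)
    (ψ : (attr b K).obj (op T)) :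
    (MonAct.eqvHom.postcomp (subAct S M K) f hf).app (op T') ((attr b K).map t.op ψ) =
      (attr a K).map t.op ((MonAct.eqvHom.postcomp (subAct S M K) f hf).app (op T) ψ) :=
  ConcreteCategory.congr_hom ((MonAct.eqvHom.postcomp (subAct S M K) f hf).naturality t.op) ψ

theorem attrFace_postcomp (a : MonAct (AMonS S M) X) (b : MonAct (AMonS S M) U) (f : U ⟶ X)
    (hf : MonAct.IsEquivariant b a f) {N Q : AddSubmonoid M} (hQ : IsFace N Q) (T : Over S)
    (ψ : (attr b N).obj (op T)) :
    (attrFace a hQ).app (op T) ((MonAct.eqvHom.postcomp (subAct S M N) f hf).app (op T) ψ) =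
      (MonAct.eqvHom.postcomp (subAct S M Q) f hf).app (op T) ((attrFace b hQ).app (op T) ψ) := by
  apply Subtype.ext
  show (AMonS.faceMap S hQ ▷ T) ≫ ψ.1 ≫ f = ((AMonS.faceMap S hQ ▷ T) ≫ ψ.1) ≫ f
  rw [Category.assoc]

end Fix

theorem main_gen (S : Scheme.{u}) (M : Type) [AddCommGroup M] [AddGroup.FG M] {X U : Over S}
    (a : MonAct (AMonS S M) X) (b : MonAct (AMonS S M) U) [IsAffineHom U.hom]
    (f : U ⟶ X) [Etale f.left] [Surjective f.left] (hf : MonAct.IsEquivariant b a f)
    (N : AddSubmonoid M)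
    (hfZ : MonAct.IsEquivariant (b.restrict (AMonS.map S (QuotientAddGroup.mk' (unitGrp N))))
      (a.restrict (AMonS.map S (QuotientAddGroup.mk' (unitGrp N)))) f)
    (hfpr : IsPullback (MonAct.fixedPsh.map f hfZ)
      (MonAct.fixedPshι (b.restrict (AMonS.map S (QuotientAddGroup.mk' (unitGrp N)))))
      (MonAct.fixedPshι (a.restrict (AMonS.map S (QuotientAddGroup.mk' (unitGrp N)))))
      (yoneda.map f))
    (hpb : IsPullback (MonAct.eqvHom.postcomp (subAct S M N) f hf)
      (attrFace b (isFace_unitFace N)) (attrFace a (isFace_unitFace N))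
      (MonAct.eqvHom.postcomp (subAct S M (unitFace N)) f hf)) :
    ∃ (ZN Zs : Over S) (eN : (attr a N).RepresentableBy ZN)
      (es : (attr a (unitFace N)).RepresentableBy Zs) (j : ZN ⟶ Zs),
      IsAffineHom j.left ∧ ∀ (T : Over S) (z : T ⟶ ZN),
        es.homEquiv (z ≫ j) = (attrFace a (isFace_unitFace N)).app (op T) (eN.homEquiv z) := by
  have hQ : IsFace N (unitFace N) := isFace_unitFace N
  -- the atlas side
  obtain ⟨W', i', e', hi'cl, he'⟩ := MagnetCoordAttr.main18295 S M (unitFace N) U b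
  obtain ⟨V', iV, eV, hiVcl, heV⟩ := MagnetCoordAttr.main18295 S M N U b
  haveI := hi'cl
  haveI := hiVcl
  haveI : Mono i' := Groth.Agent.Lib.Helper26.MagnetFactor.mono_of_isClosedImmersion_left i'
  have hW' : ∀ {T : Over S} (u : T ⟶ U),
      IsFixed (b.restrict (AMonS.map S (QuotientAddGroup.mk' (unitGrp N)))) u ↔
        ∃ w : T ⟶ W', w ≫ i' = u := by
    intro T u
    rw [isFixed_iff_range_unit N b u]
    constructor
    · rintro ⟨φ, hφ⟩
      refine ⟨e'.homEquiv.symm φ, ?_⟩
      rw [← he', Equiv.apply_symm_apply]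
      exact hφ
    · rintro ⟨w, hw⟩
      exact ⟨e'.homEquiv w, (he' T w).trans hw⟩
  -- the fixed points of X
  obtain ⟨Zs, i, hicl, hZs⟩ := MagnetFixDesc.exists_closed_fixed
    (a.restrict (AMonS.map S (QuotientAddGroup.mk' (unitGrp N))))
    (b.restrict (AMonS.map S (QuotientAddGroup.mk' (unitGrp N)))) f hfZ hfpr W' i' hW'
  haveI := hicl
  haveI : Mono i := Groth.Agent.Lib.Helper26.MagnetFactor.mono_of_isClosedImmersion_left i
  obtain ⟨es, hes⟩ := exists_repr_unit N a Zs i hZs
  -- the map on fixed points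
  have hi'fix : IsFixed (b.restrict (AMonS.map S (QuotientAddGroup.mk' (unitGrp N)))) i' :=
    (hW' i').2 ⟨𝟙 W', Category.id_comp _⟩
  obtain ⟨π, hπ⟩ := (hZs (i' ≫ f)).1 (IsFixed.map hfZ hi'fix)
  have key : ∀ s : PullbackCone i f, ∃ w : s.pt ⟶ W', w ≫ i' = s.snd := fun s =>
    (hW' s.snd).1 (isFixed_of_fpr hfZ hfpr s.snd ((hZs (s.snd ≫ f)).2 ⟨s.fst, s.condition⟩))
  choose L hL using key
  have hpbπ : IsPullback π i' i f := by
    refine IsPullback.of_isLimit (c := PullbackCone.mk π i' hπ)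
      (PullbackCone.IsLimit.mk hπ L (fun s => ?_) (fun s => hL s) (fun s m _ h2 => ?_))
    · rw [← cancel_mono i, Category.assoc, hπ, ← Category.assoc, hL s]
      exact s.condition.symm
    · rw [← cancel_mono i', h2, hL s]
  have hpbL : IsPullback π.left i'.left i.left f.left := (Over.forget S).map_isPullback hpbπ
  haveI : Etale π.left := MorphismProperty.of_isPullback (P := @Etale) hpbL.flip inferInstance
  haveI : Surjective π.left :=
    MorphismProperty.of_isPullback (P := @Surjective) hpbL.flip inferInstance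
  -- the face projection on the atlas
  obtain ⟨av, hav⟩ : ∃ av : V' ⟶ W', e'.homEquiv av =
      (attrFace b hQ).app (op V') (eV.homEquiv (𝟙 V')) :=
    ⟨e'.homEquiv.symm _, Equiv.apply_symm_apply _ _⟩
  haveI : IsAffineHom av.left := by
    haveI : IsAffineHom (av.left ≫ W'.hom) := by
      rw [Over.w av, ← Over.w iV]
      infer_instance
    haveI : IsSeparated W'.hom := by
      rw [← Over.w i']
      infer_instance
    exact IsAffineHom.of_comp av.left W'.hom
  have hL0 : ∀ (T : Over S) (t : T ⟶ V'),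
      e'.homEquiv (t ≫ av) = (attrFace b hQ).app (op T) (eV.homEquiv t) := by
    intro T t
    rw [e'.homEquiv_comp, hav, ← attrFace_map, ← eV.homEquiv_comp, Category.comp_id]
  have hL1 : ∀ (T : Over S) (w : T ⟶ W'),
      (MonAct.eqvHom.postcomp (subAct S M (unitFace N)) f hf).app (op T) (e'.homEquiv w) =
        es.homEquiv (w ≫ π) := by
    intro T w
    apply attrToX_unit_injective N a T
    show (attrToX a (unitFace N)).app (op T)
        ((MonAct.eqvHom.postcomp (subAct S M (unitFace N)) f hf).app (op T) (e'.homEquiv w)) =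
      (attrToX a (unitFace N)).app (op T) (es.homEquiv (w ≫ π))
    rw [attrToX_postcomp, he']
    rw [hes, Category.assoc, Category.assoc, hπ]
  -- the sheaf and its map to the fixed points
  have hF : Presheaf.IsSheaf (AlgSp.J S) (attr a N) :=
    BigSheaf.main18294 S (AMonS S M) (AMonS S N) X (subAct S M N) a
  obtain ⟨pT, hpT⟩ : ∃ pT : attr a N ⟶ yoneda.obj Zs, ∀ (T : Over S)
      (φ : (attr a N).obj (op T)), es.homEquiv (pT.app (op T) φ) = (attrFace a hQ).app (op T) φ := by
    refine ⟨{ app := fun T => TypeCat.ofHom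
                (fun φ => es.homEquiv.symm ((attrFace a hQ).app T φ))
              naturality := fun T T' t => ConcreteCategory.hom_ext _ _ fun φ => ?_ },
      fun T φ => Equiv.apply_symm_apply _ _⟩
    show es.homEquiv.symm ((attrFace a hQ).app T' ((attr a N).map t φ)) =
      t.unop ≫ es.homEquiv.symm ((attrFace a hQ).app T φ)
    rw [es.comp_homEquiv_symm]
    congr 1
    exact ConcreteCategory.congr_hom ((attrFace a hQ).naturality t) φ
  obtain ⟨ξ, hξ⟩ : ∃ ξ : (attr a N).obj (op V'), ξ =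
      (MonAct.eqvHom.postcomp (subAct S M N) f hf).app (op V') (eV.homEquiv (𝟙 V')) := ⟨_, rfl⟩
  have hξmap : ∀ (T : Over S) (v : T ⟶ V'), (attr a N).map v.op ξ =
      (MonAct.eqvHom.postcomp (subAct S M N) f hf).app (op T) (eV.homEquiv v) := by
    intro T v
    rw [hξ, ← postcomp_map, ← eV.homEquiv_comp, Category.comp_id]
  have hcomm : pT.app (op V') ξ = av ≫ π := by
    apply es.homEquiv.injective
    rw [hpT, ← hL1, hav, hξ, attrFace_postcomp]
  have huniv : ∀ (T : Over S) (x : (attr a N).obj (op T)) (u : T ⟶ W'),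
      pT.app (op T) x = u ≫ π → ∃! v : T ⟶ V', (attr a N).map v.op ξ = x ∧ v ≫ av = u := by
    intro T x u hxu
    have hxu' : (attrFace a hQ).app (op T) x =
        (MonAct.eqvHom.postcomp (subAct S M (unitFace N)) f hf).app (op T) (e'.homEquiv u) := by
      rw [← hpT, hxu, hL1]
    have hpbT := hpb.app (op T)
    obtain ⟨φt, h1, h2⟩ := Types.exists_of_isPullback hpbT x (e'.homEquiv u) hxu'
    refine ⟨eV.homEquiv.symm φt, ⟨?_, ?_⟩, ?_⟩
    · rw [hξmap, Equiv.apply_symm_apply]
      exact h1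
    · apply e'.homEquiv.injective
      rw [hL0, Equiv.apply_symm_apply]
      exact h2
    · rintro v' ⟨hv1, hv2⟩
      have e1 : (MonAct.eqvHom.postcomp (subAct S M N) f hf).app (op T) (eV.homEquiv v') = x := by
        rw [← hξmap, hv1]
      have e2 : (attrFace b hQ).app (op T) (eV.homEquiv v') = e'.homEquiv u := by
        rw [← hL0, hv2]
      have e3 : eV.homEquiv v' = φt :=
        Types.ext_of_isPullback hpbT (e1.trans h1.symm) (e2.trans h2.symm)
      rw [← e3, Equiv.symm_apply_apply]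
  obtain ⟨ZN, j, eN, hjaff, hj⟩ :=
    MagnetAtlasRep.repr_of_atlas (attr a N) hF π av pT ξ hcomm huniv
  refine ⟨ZN, Zs, eN, es, j, hjaff, fun T z => ?_⟩
  rw [← hj, hpT]

theorem main18304 (S : Scheme.{u}) (M : Type) [AddCommGroup M]
    [AddGroup.FG M] (X U : Over S) (aX : AlgGrp.Action (Red.DS S M) X) (aU : AlgGrp.Action (Red.DS S M) U)
    [IsAffineHom U.hom] (f : U ⟶ X) [Etale f.left] [Surjective f.left]
    (hf : Magnet.MonAct.IsEquivariant (Magnet.MonAct.ofAction aU) (Magnet.MonAct.ofAction aX) f)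
    (N : AddSubmonoid M) (Z : AddSubgroup M) (hZ : Z.toAddSubmonoid = Magnet.unitFace N)
    (hfZ : Magnet.MonAct.IsEquivariant
      ((Magnet.MonAct.ofAction aU).restrict (Magnet.AMonS.map S (QuotientAddGroup.mk' Z)))
      ((Magnet.MonAct.ofAction aX).restrict (Magnet.AMonS.map S (QuotientAddGroup.mk' Z))) f)
    (hfpr : IsPullback (Magnet.MonAct.fixedPsh.map f hfZ)
      (Magnet.MonAct.fixedPshι ((Magnet.MonAct.ofAction aU).restrict (Magnet.AMonS.map S (QuotientAddGroup.mk' Z))))
      (Magnet.MonAct.fixedPshι ((Magnet.MonAct.ofAction aX).restrict (Magnet.AMonS.map S (QuotientAddGroup.mk' Z))))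
      (yoneda.map f))
    (h : N.FG ∨ (IsSeparated X.hom ∧ LocallyOfFinitePresentation X.hom)) :
    ∃ (ZN Zs : Over S) (eN : (Magnet.attr (Magnet.MonAct.ofAction aX) N).RepresentableBy ZN)
      (es : (Magnet.attr (Magnet.MonAct.ofAction aX) (Magnet.unitFace N)).RepresentableBy Zs) (j : ZN ⟶ Zs),
      IsAffineHom j.left ∧ ∀ (T : Over S) (z : T ⟶ ZN),
        es.homEquiv (z ≫ j) = (Magnet.attrFace (Magnet.MonAct.ofAction aX) (Magnet.isFace_unitFace N)).app (op T)
          (eN.homEquiv z) := by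
  obtain rfl : Z = unitGrp N := by
    ext m
    have h1 : m ∈ Z.toAddSubmonoid ↔ m ∈ unitFace N := by rw [hZ]
    exact h1
  exact main_gen S M (MonAct.ofAction aX) (MonAct.ofAction aU) f hf N hfZ hfpr
    (MagnetEtMain.main18302 S M X U aX aU f hf N (unitFace N) (isFace_unitFace N) h)

end Groth.Agent.Lib.Helper29.MagnetAtlasRepMain
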