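import Mathlib
import Groth.Prelude.Def_Magnet2
import Groth.Agent.Lib.Helper29.MagnetDom
import Groth.Agent.Lib.Helper29.SchDomEpi
import Groth.Agent.Lib.Helper29.MagnetAttr
import Groth.Agent.Lib.Helper26.MagnetFactor

/-!
# Attractors: the closed-immersion square without affineness (S18236) (helper29)

For an equivariant closed immersion `f : Z → Y` of `S`-schemes with `A(M)_S`-action the square
`Z^N → Y^N`, `Z → Y` is cartesian; the argument only uses that `A(M)_T → A(N)_T` is
scheme-theoretically dominant, so no hypothesis on `Y` is needed.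
-/
set_option autoImplicit false
set_option maxHeartbeats 1600000
set_option linter.style.haveILetI false
universe u
open CategoryTheory CategoryTheory.Limits MonoidalCategory CartesianMonoidalCategory MonObj
  AlgebraicGeometry Opposite

noncomputable section

namespace Groth.Agent.Lib.Helper29.MagnetAttrClosed

open Magnet Groth.Agent.Lib.Helper29.MagnetAttr

theorem isPullback_postcomp (S : Scheme.{u}) (M : Type) [AddCommMonoid M]
    (N : AddSubmonoid M) (Y Z : Over S) (aY : Magnet.MonAct (Magnet.AMonS S M) Y)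
    (aZ : Magnet.MonAct (Magnet.AMonS S M) Z) (f : Z ⟶ Y) [IsClosedImmersion f.left]
    (hf : Magnet.MonAct.IsEquivariant aZ aY f) :
    IsPullback (Magnet.MonAct.eqvHom.postcomp (Magnet.subAct S M N) f hf) (Magnet.attrToX aZ N)
      (Magnet.attrToX aY N) (yoneda.map f) := by
  haveI : Mono f := Groth.Agent.Lib.Helper26.MagnetFactor.mono_of_isClosedImmersion_left f
  apply IsPullback.of_forall_isPullback_app
  intro T
  rw [Limits.Types.isPullback_iff]
  refine ⟨?_, ?_, ?_⟩
  · refine ConcreteCategory.hom_ext _ _ fun ψ => ?_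
    change lift (toUnit (unop T) ≫ η[AMonS S N]) (𝟙 (unop T)) ≫ (ψ.1 ≫ f) =
      (lift (toUnit (unop T) ≫ η[AMonS S N]) (𝟙 (unop T)) ≫ ψ.1) ≫ f
    rw [Category.assoc]
  · rintro ψ₁ ψ₂ ⟨h1, -⟩
    apply Subtype.ext
    have := congrArg Subtype.val h1
    simp only [Magnet.MonAct.eqvHom.postcomp_app_coe] at this
    exact (cancel_mono f).1 this
  · intro φ z hz
    simp only [Magnet.MonAct.eqvHom.evalAt_app] at hz
    have hz' : lift (toUnit (unop T) ≫ η[AMonS S N]) (𝟙 (unop T)) ≫ φ.1 = z ≫ f := hz
    have hres := whiskerRight_comp_eq (AMonS.map S N.subtype) aY φ.1 φ.2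
    rw [hz'] at hres
    have hjz : (AMonS S M ◁ (z ≫ f)) ≫ aY.act = ((AMonS S M ◁ z) ≫ aZ.act) ≫ f := by
      have : aZ.act ≫ f = (AMonS S M ◁ f) ≫ aY.act := hf
      rw [Category.assoc, this, MonoidalCategory.whiskerLeft_comp, Category.assoc]
    rw [hjz] at hres
    haveI := MagnetDom.isSchemeTheoreticallyDominant_whiskerRight S (unop T) N.subtype
      Subtype.val_injective
    obtain ⟨ψ, hψ⟩ := exists_over_factor (AMonS.map S N.subtype) (unop T) f φ.1
      ((AMonS S M ◁ z) ≫ aZ.act) hres
    have hψeq : Magnet.MonAct.IsEquivariant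
        ((Magnet.subAct S M N).prod (Magnet.MonAct.trivial (AMonS S M) (unop T))) aZ ψ := by
      have h2 := φ.2
      unfold Magnet.MonAct.IsEquivariant at h2 ⊢
      rw [← cancel_mono f, Category.assoc, hψ, h2, Category.assoc]
      have : aZ.act ≫ f = (AMonS S M ◁ f) ≫ aY.act := hf
      rw [this, ← MonoidalCategory.whiskerLeft_comp_assoc, hψ]
    refine ⟨⟨ψ, hψeq⟩, ?_, ?_⟩
    · apply Subtype.ext
      exact hψ
    · simp only [Magnet.MonAct.eqvHom.evalAt_app]
      rw [← cancel_mono f, Category.assoc, hψ]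
      exact hz'

end Groth.Agent.Lib.Helper29.MagnetAttrClosed
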