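import Mathlib
import Groth.Prelude.Def_Magnet4
import Groth.Prelude.Def_MoreMor
import Groth.Agent.Lib.Helper29.MagnetPushoutAttr
import Groth.Agent.Lib.Helper29.MagnetUnram
import Groth.Agent.Lib.Helper29.MagnetDirected
import Groth.Agent.Lib.Helper28.Pinch.AffinePushout

/-!
# Equivariant push-outs along closed immersions (helper29, for S18243)

`exists_action`: in a cartesian monoidal category, a push-out `P` of `G`-objects along equivariant
maps carries a unique compatible `G`-action as soon as `G × -` and `(G × G) × -` keep the square a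
push-out (jointly epimorphic), and then `P` is a push-out for equivariant maps as well.
`isPushout_whiskerLeft_of_flat`: for schemes over `T`, a pinching (push-out along a closed
immersion, helper28's `Pinch`) is preserved by `H ×_T -` for `H` flat over `T`.
-/
set_option autoImplicit false
set_option maxHeartbeats 1600000
set_option linter.style.haveILetI false
universe u
open CategoryTheory CategoryTheory.Limits MonoidalCategory CartesianMonoidalCategory MonObj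
  AlgebraicGeometry Opposite

noncomputable section

namespace Groth.Agent.Lib.Helper29.MagnetPushoutAct

open Magnet MagnetFixAlg MagnetBBPts Groth.Agent.Lib.Helper28 MagnetPushoutAttr

section Cart

variable {C : Type*} [Category C] [CartesianMonoidalCategory C]

theorem isEquivariant_fst {G B : C} [MonObj G] (ρ : MonAct G B) (T : C) :
    MonAct.IsEquivariant (ρ.prod (MonAct.trivial G T)) ρ (fst B T) := by
  rw [MonAct.isEquivariant_iff]
  intro T' g x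
  obtain ⟨x₁, x₂, rfl⟩ : ∃ x₁ x₂, x = lift x₁ x₂ :=
    ⟨x ≫ fst _ _, x ≫ snd _ _, (lift_comp_fst_snd x).symm⟩
  rw [MonAct.lift_prod_act_assoc, lift_fst, lift_fst]

theorem exists_action {G Z A₁ A₂ P : C} [MonObj G]
    {i : Z ⟶ A₁} {j : Z ⟶ A₂} {ν₁ : A₁ ⟶ P} {ν₂ : A₂ ⟶ P} (hP : IsPushout i j ν₁ ν₂)
    (hPG : IsPushout (G ◁ i) (G ◁ j) (G ◁ ν₁) (G ◁ ν₂))
    (hPGG : ∀ (k l : (G ⊗ G) ⊗ P ⟶ P), ((G ⊗ G) ◁ ν₁) ≫ k = ((G ⊗ G) ◁ ν₁) ≫ l →
      ((G ⊗ G) ◁ ν₂) ≫ k = ((G ⊗ G) ◁ ν₂) ≫ l → k = l)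
    (ρZ : MonAct G Z) (ρ₁ : MonAct G A₁) (ρ₂ : MonAct G A₂)
    (hi : MonAct.IsEquivariant ρZ ρ₁ i) (hj : MonAct.IsEquivariant ρZ ρ₂ j) :
    ∃ aP : MonAct G P, MonAct.IsEquivariant ρ₁ aP ν₁ ∧ MonAct.IsEquivariant ρ₂ aP ν₂ ∧
      ∀ (X : C) (aX : MonAct G X) (f₁ : A₁ ⟶ X) (f₂ : A₂ ⟶ X) (w : i ≫ f₁ = j ≫ f₂),
        MonAct.IsEquivariant ρ₁ aX f₁ → MonAct.IsEquivariant ρ₂ aX f₂ →
        MonAct.IsEquivariant aP aX (hP.desc f₁ f₂ w) := by
  have hi' : ρZ.act ≫ i = (G ◁ i) ≫ ρ₁.act := hi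
  have hj' : ρZ.act ≫ j = (G ◁ j) ≫ ρ₂.act := hj
  have hcompat : (G ◁ i) ≫ ρ₁.act ≫ ν₁ = (G ◁ j) ≫ ρ₂.act ≫ ν₂ := by
    rw [← Category.assoc, ← hi', ← Category.assoc, ← hj', Category.assoc, Category.assoc, hP.w]
  obtain ⟨act, hact⟩ : ∃ act, act = hPG.desc (ρ₁.act ≫ ν₁) (ρ₂.act ≫ ν₂) hcompat := ⟨_, rfl⟩
  have h1 : (G ◁ ν₁) ≫ act = ρ₁.act ≫ ν₁ := by rw [hact]; exact hPG.inl_desc _ _ _
  have h2 : (G ◁ ν₂) ≫ act = ρ₂.act ≫ ν₂ := by rw [hact]; exact hPG.inr_desc _ _ _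
  have hone : (η[G] ▷ P) ≫ act = (λ_ P).hom := by
    have h0 : (λ_ P).inv ≫ (η[G] ▷ P) ≫ act = 𝟙 P := by
      apply hP.hom_ext
      · rw [Category.comp_id, leftUnitor_inv_naturality_assoc, whisker_exchange_assoc, h1,
          ← Category.assoc (η[G] ▷ A₁), ρ₁.one_act, Iso.inv_hom_id_assoc]
      · rw [Category.comp_id, leftUnitor_inv_naturality_assoc, whisker_exchange_assoc, h2,
          ← Category.assoc (η[G] ▷ A₂), ρ₂.one_act, Iso.inv_hom_id_assoc]
    have h3 := (Iso.inv_comp_eq _).mp h0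
    rw [Category.comp_id] at h3
    exact h3
  have hmul : (μ[G] ▷ P) ≫ act = (α_ G G P).hom ≫ (G ◁ act) ≫ act := by
    apply hPGG
    · rw [whisker_exchange_assoc, h1, ← Category.assoc (μ[G] ▷ A₁), ρ₁.mul_act,
        associator_naturality_right_assoc, ← MonoidalCategory.whiskerLeft_comp_assoc, h1,
        MonoidalCategory.whiskerLeft_comp_assoc, h1]
      simp only [Category.assoc]
    · rw [whisker_exchange_assoc, h2, ← Category.assoc (μ[G] ▷ A₂), ρ₂.mul_act,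
        associator_naturality_right_assoc, ← MonoidalCategory.whiskerLeft_comp_assoc, h2,
        MonoidalCategory.whiskerLeft_comp_assoc, h2]
      simp only [Category.assoc]
  refine ⟨⟨act, hone, hmul⟩, h1.symm, h2.symm, ?_⟩
  intro X aX f₁ f₂ w hf₁ hf₂
  have hf₁' : ρ₁.act ≫ f₁ = (G ◁ f₁) ≫ aX.act := hf₁
  have hf₂' : ρ₂.act ≫ f₂ = (G ◁ f₂) ≫ aX.act := hf₂
  show act ≫ hP.desc f₁ f₂ w = (G ◁ hP.desc f₁ f₂ w) ≫ aX.act
  apply hPG.hom_ext
  · rw [← Category.assoc, h1, Category.assoc, hP.inl_desc, hf₁',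
      ← MonoidalCategory.whiskerLeft_comp_assoc, hP.inl_desc]
  · rw [← Category.assoc, h2, Category.assoc, hP.inr_desc, hf₂',
      ← MonoidalCategory.whiskerLeft_comp_assoc, hP.inr_desc]

end Cart

section Geo

theorem isPushout_whiskerLeft_of_flat {T : Scheme.{u}} {Z A₁ A₂ P : Over T} {i : Z ⟶ A₁}
    {j : Z ⟶ A₂} {ν₁ : A₁ ⟶ P} {ν₂ : A₂ ⟶ P} [IsClosedImmersion i.left]
    (hY : ∀ y : A₂.left, ∃ β : Pinch.APair i.left j.left, y ∈ β.V)
    (hP : IsPushout i.left j.left ν₁.left ν₂.left) (H : Over T) [Flat H.hom] :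
    IsPushout (H ◁ i) (H ◁ j) (H ◁ ν₁) (H ◁ ν₂) := by
  have hw : i ≫ ν₁ = j ≫ ν₂ := Over.OverMorphism.ext hP.w
  have hcomm : (H ◁ i) ≫ (H ◁ ν₁) = (H ◁ j) ≫ (H ◁ ν₂) := by
    rw [← MonoidalCategory.whiskerLeft_comp, ← MonoidalCategory.whiskerLeft_comp, hw]
  refine IsPushout.of_map (Over.forget T) hcomm ?_
  change IsPushout (H ◁ i).left (H ◁ j).left (H ◁ ν₁).left (H ◁ ν₂).left
  have hP' : IsPullback (snd H P).left (fst H P).left P.hom H.hom :=
    (IsPullback.of_hasPullback H.hom P.hom).flip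
  have hX' : IsPullback (snd H A₁).left (H ◁ ν₁).left ν₁.left (snd H P).left :=
    (MagnetUnram.isPullback_whiskerLeft_left (G := H) ν₁).flip
  have hY' : IsPullback (snd H A₂).left (H ◁ ν₂).left ν₂.left (snd H P).left :=
    (MagnetUnram.isPullback_whiskerLeft_left (G := H) ν₂).flip
  have hZ' : IsPullback (snd H Z).left (H ◁ (i ≫ ν₁)).left (i.left ≫ ν₁.left) (snd H P).left :=
    (MagnetUnram.isPullback_whiskerLeft_left (G := H) (i ≫ ν₁)).flip
  refine Pinch.isPushout_baseChange P.hom H.hom hP' hX' hY' hZ' ?_ ?_ ?_ ?_ hY hP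
    (Or.inl inferInstance)
  · rw [← Over.comp_left, ← Over.comp_left, whiskerLeft_snd]
  · rw [← Over.comp_left, ← MonoidalCategory.whiskerLeft_comp]
  · rw [← Over.comp_left, ← Over.comp_left, whiskerLeft_snd]
  · rw [← Over.comp_left, ← MonoidalCategory.whiskerLeft_comp, ← hw]

theorem flat_AMonS_hom (T : Scheme.{u}) (M : Type) [AddCommMonoid M] : Flat (AMonS T M).hom := by
  have hfl : Flat (AMon (ULift.{u} ℤ) M).hom := by
    have h : (CommRingCat.ofHom (algebraMap (ULift.{u} ℤ)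
        (MonoidAlgebra (ULift.{u} ℤ) (Multiplicative M)))).hom.Flat := by
      rw [CommRingCat.hom_ofHom, RingHom.flat_algebraMap_iff]
      infer_instance
    exact (HasRingHomProperty.Spec_iff (P := @Flat)).2 h
  change Flat (pullback.snd (AMon (ULift.{u} ℤ) M).hom
    (Limits.IsTerminal.from specULiftZIsTerminal T))
  exact MorphismProperty.pullback_snd (P := @Flat) _ _ hfl

theorem main18243 (T : Scheme.{u}) [IsAffine T] (M : Type) [AddCommGroup M]
    [AddGroup.FG M] {N F : AddSubmonoid M} (hF : Magnet.IsFace N F) (Tb : Over T)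
    (hTb : MoreMor.IsFirstOrderThickening Tb.hom) :
    ∃ (P : Over T) (ν₁ : Magnet.AMonS T F ⟶ P) (ν₂ : Magnet.AMonS T N ⊗ Tb ⟶ P)
      (hP : IsPushout (CartesianMonoidalCategory.fst (Magnet.AMonS T F) Tb)
        (Magnet.AMonS.faceMap T hF ▷ Tb) ν₁ ν₂)
      (aP : Magnet.MonAct (Magnet.AMonS T M) P),
      IsAffine P.left ∧ Magnet.MonAct.IsEquivariant (Magnet.subAct T M F) aP ν₁ ∧
      Magnet.MonAct.IsEquivariant ((Magnet.subAct T M N).prod
        (Magnet.MonAct.trivial (Magnet.AMonS T M) Tb)) aP ν₂ ∧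
      ∀ (X : Over T) (aX : Magnet.MonAct (Magnet.AMonS T M) X) (f₁ : Magnet.AMonS T F ⟶ X)
        (f₂ : Magnet.AMonS T N ⊗ Tb ⟶ X)
        (w : CartesianMonoidalCategory.fst (Magnet.AMonS T F) Tb ≫ f₁ =
          (Magnet.AMonS.faceMap T hF ▷ Tb) ≫ f₂),
        Magnet.MonAct.IsEquivariant (Magnet.subAct T M F) aX f₁ →
        Magnet.MonAct.IsEquivariant ((Magnet.subAct T M N).prod
          (Magnet.MonAct.trivial (Magnet.AMonS T M) Tb)) aX f₂ →
        Magnet.MonAct.IsEquivariant aP aX (hP.desc f₁ f₂ w) := by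
  haveI hci : IsClosedImmersion Tb.hom := hTb.1.1
  haveI : IsAffine Tb.left := isAffine_of_isAffineHom Tb.hom
  haveI hAF : IsAffine (AMonS T ↥F).left := by
    haveI := MagnetDom.isAffineHom_AMonS_hom T ↥F
    exact isAffine_of_isAffineHom (AMonS T ↥F).hom
  haveI hAN : IsAffine (AMonS T ↥N ⊗ Tb).left := MagnetDirected.isAffine_tensor T Tb ↥N
  haveI : IsClosedImmersion (fst (AMonS T ↥F) Tb).left := by
    change IsClosedImmersion (pullback.fst (AMonS T ↥F).hom Tb.hom)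
    exact MorphismProperty.pullback_fst (P := @IsClosedImmersion) _ _ hci
  have hY : ∀ y : (AMonS T ↥N ⊗ Tb).left,
      ∃ β : Pinch.APair (fst (AMonS T ↥F) Tb).left (AMonS.faceMap T hF ▷ Tb).left, y ∈ β.V :=
    fun y => ⟨⟨⊤, ⊤, isAffineOpen_top _, isAffineOpen_top _, rfl⟩, trivial⟩
  have hP₀ := Pinch.Glue.isPushout hY
  obtain ⟨r, hr⟩ : ∃ r : Pinch.Glue.P (fst (AMonS T ↥F) Tb).left
      (AMonS.faceMap T hF ▷ Tb).left ⟶ T,
      r = hP₀.desc (AMonS T ↥F).hom (AMonS T ↥N ⊗ Tb).hom (by rw [Over.w, Over.w]) := ⟨_, rfl⟩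
  have hr1 : Pinch.Glue.a hY ≫ r = (AMonS T ↥F).hom := by rw [hr]; exact hP₀.inl_desc _ _ _
  have hr2 : Pinch.Glue.b hY ≫ r = (AMonS T ↥N ⊗ Tb).hom := by
    rw [hr]; exact hP₀.inr_desc _ _ _
  obtain ⟨P, hPdef⟩ : ∃ P : Over T, P = Over.mk r := ⟨_, rfl⟩
  subst hPdef
  obtain ⟨ν₁, hν₁⟩ : ∃ ν₁ : AMonS T ↥F ⟶ Over.mk r, ν₁.left = Pinch.Glue.a hY :=
    ⟨Over.homMk (Pinch.Glue.a hY) hr1, rfl⟩
  obtain ⟨ν₂, hν₂⟩ : ∃ ν₂ : AMonS T ↥N ⊗ Tb ⟶ Over.mk r, ν₂.left = Pinch.Glue.b hY :=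
    ⟨Over.homMk (Pinch.Glue.b hY) hr2, rfl⟩
  have hPl : IsPushout (fst (AMonS T ↥F) Tb).left (AMonS.faceMap T hF ▷ Tb).left ν₁.left
      ν₂.left := by
    rw [hν₁, hν₂]; exact hP₀
  have hP : IsPushout (fst (AMonS T ↥F) Tb) (AMonS.faceMap T hF ▷ Tb) ν₁ ν₂ :=
    IsPushout.of_map (Over.forget T) (Over.OverMorphism.ext hPl.w) hPl
  haveI hGflat : Flat (AMonS T M).hom := flat_AMonS_hom T M
  haveI hGGflat : Flat (AMonS T M ⊗ AMonS T M).hom := by
    have e : (fst (AMonS T M) (AMonS T M)).left ≫ (AMonS T M).hom =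
        (AMonS T M ⊗ AMonS T M).hom := Over.w (fst (AMonS T M) (AMonS T M))
    rw [← e]
    haveI : Flat (fst (AMonS T M) (AMonS T M)).left := by
      change Flat (pullback.fst (AMonS T M).hom (AMonS T M).hom)
      exact MorphismProperty.pullback_fst (P := @Flat) _ _ hGflat
    infer_instance
  have hPG := isPushout_whiskerLeft_of_flat hY hPl (AMonS T M)
  have hPGG := isPushout_whiskerLeft_of_flat hY hPl (AMonS T M ⊗ AMonS T M)
  have hi := isEquivariant_fst (subAct T M F) Tb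
  have hj := isEquivariant_whiskerRight Tb _ _ _ (isEquivariant_faceMapS T hF)
  obtain ⟨aP, h1, h2, h3⟩ := exists_action hP hPG (fun k l hk hl => hPGG.hom_ext hk hl)
    ((subAct T M F).prod (MonAct.trivial (AMonS T M) Tb)) (subAct T M F)
    ((subAct T M N).prod (MonAct.trivial (AMonS T M) Tb)) hi hj
  have haff : IsAffine (Over.mk r).left := Pinch.isAffine_of_isPushout hP₀
  exact ⟨Over.mk r, ν₁, ν₂, hP, aP, haff, h1, h2, h3⟩

end Geo

end Groth.Agent.Lib.Helper29.MagnetPushoutAct
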