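import Mathlib
import Groth.Prelude.Def_Magnet4
import Groth.Agent.Lib.Helper29.MagnetLine
import Groth.Agent.Lib.Helper29.MagnetUnram
import Groth.Agent.Lib.Helper29.MagnetPushoutAct

/-!
# An isomorphism criterion for equivariant maps of `A¹`-spaces (S18959) (helper29)

`A¹ = A(ℕ)_S` acts on `X`, `Y` over `S`, `f : X ⟶ Y` is equivariant, bijective on fixed points, and étale on an open `V`
containing all fixed points.  Then `f` is an isomorphism.

Proof.  (A) `f` is injective on points with values in local rings `K`: for `x₁, x₂` with the same image, the orbit maps over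
`O₁ = K[s]_{(𝔪,s)}` land in `V` (their closed points are the limit points `0 • xᵢ`, which are fixed and equal), and agree there
because the diagonal of `V → Y` is an open immersion; over `O' = K[s]_{𝔪[s]}` the coordinate `s` is a unit, so `x₁ = x₂` over
`O'`, hence over `K`.  (B) hence `V → Y` is a monomorphism and (C) `f⁻¹(f(V)) = V`.  (D) `G_m × V → Y`, `(u, v) ↦ u • f(v)` is
surjective (every point is `s⁻¹ •` of its generic orbit point, which lies in the open `f(V)` since the limit point does), flat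
and locally of finite presentation, and (F) the base change of `f` along it is the identity of `G_m × V`.  By fppf descent `f` is an
isomorphism.
-/
set_option autoImplicit false
set_option maxHeartbeats 1600000
set_option linter.style.haveILetI false
universe u
open CategoryTheory CategoryTheory.Limits MonoidalCategory CartesianMonoidalCategory MonObj
  AlgebraicGeometry Opposite

noncomputable section

namespace Groth.Agent.Lib.Helper29.MagnetBBIso

open Magnet MagnetLine MagnetBBAlg MagnetBBGeom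

/-! ### group actions: the shear isomorphism -/

section Shear
variable {C : Type*} [Category C] [CartesianMonoidalCategory C] {G X : C} [GrpObj G] (a : MonAct G X)

theorem inv_act_act {T : C} (g : T ⟶ G) (x : T ⟶ X) :
    lift g⁻¹ (lift g x ≫ a.act) ≫ a.act = x := by
  rw [← MonAct.lift_mul_act, inv_mul_cancel, MonAct.lift_one_act]

theorem act_inv_act {T : C} (g : T ⟶ G) (x : T ⟶ X) :
    lift g (lift g⁻¹ x ≫ a.act) ≫ a.act = x := by
  rw [← MonAct.lift_mul_act, mul_inv_cancel, MonAct.lift_one_act]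

/-- `(g, x) ↦ (g, g • x)` -/
def shear : G ⊗ X ⟶ G ⊗ X := lift (fst G X) a.act

/-- `(g, x) ↦ (g, g⁻¹ • x)` -/
def shearInv : G ⊗ X ⟶ G ⊗ X := lift (fst G X) (lift (fst G X)⁻¹ (snd G X) ≫ a.act)

theorem shear_fst : shear a ≫ fst G X = fst G X := lift_fst _ _
theorem shear_snd : shear a ≫ snd G X = a.act := lift_snd _ _
theorem shearInv_fst : shearInv a ≫ fst G X = fst G X := lift_fst _ _

theorem shear_shearInv : shear a ≫ shearInv a = 𝟙 _ := by
  apply CartesianMonoidalCategory.hom_ext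
  · rw [Category.assoc, shearInv_fst, shear_fst, Category.id_comp]
  · have h1 : shearInv a ≫ snd G X = lift (fst G X)⁻¹ (snd G X) ≫ a.act := lift_snd _ _
    rw [Category.assoc, h1, ← Category.assoc, comp_lift, Hom.inv_def, ← Category.assoc, shear_fst,
      ← Hom.inv_def, shear_snd, Category.id_comp]
    have h2 := inv_act_act a (fst G X) (snd G X)
    rw [lift_fst_snd, Category.id_comp] at h2
    exact h2

theorem shearInv_shear : shearInv a ≫ shear a = 𝟙 _ := by
  apply CartesianMonoidalCategory.hom_ext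
  · rw [Category.assoc, shear_fst, shearInv_fst, Category.id_comp]
  · rw [Category.assoc, shear_snd, Category.id_comp]
    unfold shearInv
    exact act_inv_act a (fst G X) (snd G X)

theorem isIso_shear : IsIso (shear a) := ⟨shearInv a, shear_shearInv a, shearInv_shear a⟩

end Shear

/-! ### `G_m` and the restricted action -/

section Gm
variable {S : Scheme.{u}}

/-- `G_m` -/
abbrev Gm (S : Scheme.{u}) : Over S := Red.DS S ℤ

/-- `G_m → A¹` -/
def iG (S : Scheme.{u}) : Gm S ⟶ AMonS S ℕ := AMonS.map S (Nat.castAddMonoidHom ℤ)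

instance (S : Scheme.{u}) : IsMonHom (iG S) := AMonS.map_isMonHom S _

/-- the restricted `G_m`-action -/
def rG {Z : Over S} (c : MonAct (AMonS S ℕ) Z) : MonAct (Gm S) Z := c.restrict (iG S)

theorem lift_rG_act {Z : Over S} (c : MonAct (AMonS S ℕ) Z) {T : Over S} (g : T ⟶ Gm S)
    (x : T ⟶ Z) : lift g x ≫ (rG c).act = lift (g ≫ iG S) x ≫ c.act :=
  MonAct.lift_restrict_act _ _ _ _

theorem rG_equivariant {X Y : Over S} (a : MonAct (AMonS S ℕ) X) (b : MonAct (AMonS S ℕ) Y)
    (f : X ⟶ Y) (hf : MonAct.IsEquivariant a b f) : MonAct.IsEquivariant (rG a) (rG b) f := by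
  rw [MonAct.isEquivariant_iff] at hf ⊢
  intro T g x
  rw [← Category.assoc, lift_rG_act, lift_rG_act, Category.assoc, hf]

theorem lfp_Gm_hom (S : Scheme.{u}) : LocallyOfFinitePresentation (Gm S).hom := by
  have h0 : LocallyOfFinitePresentation (AMon (ULift.{u} ℤ) ℤ).hom := by
    have h : (CommRingCat.ofHom (algebraMap (ULift.{u} ℤ)
        (MonoidAlgebra (ULift.{u} ℤ) (Multiplicative ℤ)))).hom.FinitePresentation := by
      rw [CommRingCat.hom_ofHom, RingHom.finitePresentation_algebraMap]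
      haveI : IsNoetherianRing (ULift.{u} ℤ) := isNoetherianRing_of_ringEquiv ℤ ULift.ringEquiv.symm
      haveI : Algebra.FiniteType (ULift.{u} ℤ) (MonoidAlgebra (ULift.{u} ℤ) (Multiplicative ℤ)) :=
        MonoidAlgebra.finiteType_iff_group_fg.2 inferInstance
      exact Algebra.FinitePresentation.of_finiteType.mp inferInstance
    exact (HasRingHomProperty.Spec_iff (P := @LocallyOfFinitePresentation)).2 h
  change LocallyOfFinitePresentation (pullback.snd (AMon (ULift.{u} ℤ) ℤ).hom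
    (Limits.IsTerminal.from specULiftZIsTerminal S))
  exact MorphismProperty.pullback_snd (P := @LocallyOfFinitePresentation) _ _ h0

theorem act_left_flat {G Z : Over S} [GrpObj G] (c : MonAct G Z) (hG : Flat G.hom) :
    Flat c.act.left := by
  have e : c.act = shear c ≫ snd G Z := (shear_snd c).symm
  haveI : IsIso (shear c) := isIso_shear c
  haveI : IsIso (shear c).left := (Over.forget S).map_isIso (shear c)
  haveI hs : Flat (snd G Z).left := by
    change Flat (pullback.snd G.hom Z.hom)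
    exact MorphismProperty.pullback_snd (P := @Flat) _ _ hG
  rw [e, Over.comp_left]
  infer_instance

theorem act_left_lfp {G Z : Over S} [GrpObj G] (c : MonAct G Z)
    (hG : LocallyOfFinitePresentation G.hom) : LocallyOfFinitePresentation c.act.left := by
  have e : c.act = shear c ≫ snd G Z := (shear_snd c).symm
  haveI : IsIso (shear c) := isIso_shear c
  haveI : IsIso (shear c).left := (Over.forget S).map_isIso (shear c)
  haveI hs : LocallyOfFinitePresentation (snd G Z).left := by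
    change LocallyOfFinitePresentation (pullback.snd G.hom Z.hom)
    exact MorphismProperty.pullback_snd (P := @LocallyOfFinitePresentation) _ _ hG
  rw [e, Over.comp_left]
  infer_instance

end Gm

/-! ### diagonal helpers -/

theorem eq_of_range_subset_diagonal {W V' Y' : Scheme.{u}} (g : V' ⟶ Y')
    [IsOpenImmersion (pullback.diagonal g)] (w₁ w₂ : W ⟶ V') (hw : w₁ ≫ g = w₂ ≫ g)
    (h : Set.range (pullback.lift w₁ w₂ hw) ⊆ Set.range (pullback.diagonal g)) : w₁ = w₂ := by
  have hfac := IsOpenImmersion.lift_fac (pullback.diagonal g) (pullback.lift w₁ w₂ hw) h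
  calc w₁ = pullback.lift w₁ w₂ hw ≫ pullback.fst g g := (pullback.lift_fst _ _ _).symm
    _ = (IsOpenImmersion.lift (pullback.diagonal g) (pullback.lift w₁ w₂ hw) h ≫
          pullback.diagonal g) ≫ pullback.fst g g := by rw [hfac]
    _ = (IsOpenImmersion.lift (pullback.diagonal g) (pullback.lift w₁ w₂ hw) h ≫
          pullback.diagonal g) ≫ pullback.snd g g := by
        rw [Category.assoc, Category.assoc, pullback.diagonal_fst, pullback.diagonal_snd]
    _ = pullback.lift w₁ w₂ hw ≫ pullback.snd g g := by rw [hfac]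
    _ = w₂ := pullback.lift_snd _ _ _

theorem comp_lift_eq_diag {W W' V' Y' : Scheme.{u}} (g : V' ⟶ Y') (w₁ w₂ : W ⟶ V')
    (hw : w₁ ≫ g = w₂ ≫ g) (x : W' ⟶ W) (hx : x ≫ w₁ = x ≫ w₂) :
    x ≫ pullback.lift w₁ w₂ hw = (x ≫ w₁) ≫ pullback.diagonal g := by
  apply pullback.hom_ext
  · rw [Category.assoc, pullback.lift_fst, Category.assoc, pullback.diagonal_fst, Category.comp_id]
  · rw [Category.assoc, pullback.lift_snd, Category.assoc, pullback.diagonal_snd, Category.comp_id,
      hx]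

/-! ### the main argument -/

section Main
variable {S : Scheme.{u}} {X Y : Over S} (a : MonAct (AMonS S ℕ) X) (b : MonAct (AMonS S ℕ) Y)
  (f : X ⟶ Y) (hf : MonAct.IsEquivariant a b f) (V : X.left.Opens)

/-- fixed points -/
def IsFix {Z : Over S} (c : MonAct (AMonS S ℕ) Z) {T : Over S} (x : T ⟶ Z) : Prop :=
  ∀ (T' : Over S) (t : T' ⟶ T) (g : T' ⟶ AMonS S ℕ), lift g (t ≫ x) ≫ c.act = t ≫ x

variable (hinj : ∀ (T : Over S) (p q : T ⟶ X), IsFix a p → IsFix a q → p ≫ f = q ≫ f → p = q)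
  (hsurj : ∀ (T : Over S) (q : T ⟶ Y), IsFix b q → ∃ p : T ⟶ X, IsFix a p ∧ p ≫ f = q)
  (hV : ∀ (T : Over S) (p : T ⟶ X), IsFix a p → Set.range p.left ⊆ V)

include hf hinj hV in
/-- (A) injectivity on points with values in local rings -/
theorem inj_local [Etale (V.ι ≫ f.left)] {K : CommRingCat.{u}} [IsLocalRing K] (s : Spec K ⟶ S)
    (x₁ x₂ : Over.mk s ⟶ X) (h : x₁ ≫ f = x₂ ≫ f) : x₁ = x₂ := by
  have hl : lim a s x₁ = lim a s x₂ := by
    apply hinj _ _ _ (lim_fixed a s x₁) (lim_fixed a s x₂)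
    rw [lim_comp a s x₁ b f hf, lim_comp a s x₂ b f hf, h]
  have hr : ∀ x : Over.mk s ⟶ X, Set.range (orb a s x).left ⊆ V := fun x =>
    range_orb_subset a s x V (hV _ _ (lim_fixed a s x) ⟨_, rfl⟩)
  obtain ⟨ω₁, hω₁⟩ : ∃ ω : Spec (CommRingCat.of (O₁ K)) ⟶ V.toScheme,
      ω ≫ V.ι = (orb a s x₁).left :=
    ⟨IsOpenImmersion.lift V.ι (orb a s x₁).left (by rw [Scheme.Opens.range_ι]; exact hr x₁),
      IsOpenImmersion.lift_fac _ _ _⟩
  obtain ⟨ω₂, hω₂⟩ : ∃ ω : Spec (CommRingCat.of (O₁ K)) ⟶ V.toScheme,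
      ω ≫ V.ι = (orb a s x₂).left :=
    ⟨IsOpenImmersion.lift V.ι (orb a s x₂).left (by rw [Scheme.Opens.range_ι]; exact hr x₂),
      IsOpenImmersion.lift_fac _ _ _⟩
  have hg : ω₁ ≫ (V.ι ≫ f.left) = ω₂ ≫ (V.ι ≫ f.left) := by
    rw [← Category.assoc, ← Category.assoc, hω₁, hω₂, ← Over.comp_left, ← Over.comp_left,
      orb_comp a s x₁ b f hf, orb_comp a s x₂ b f hf, h]
  have hc : Spec.map (σc K) ≫ ω₁ = Spec.map (σc K) ≫ ω₂ := by
    rw [← cancel_mono V.ι, Category.assoc, Category.assoc, hω₁, hω₂]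
    have e1 : Spec.map (σc K) ≫ (orb a s x₁).left = (lim a s x₁).left := by
      rw [← ε₀_orb]; rfl
    have e2 : Spec.map (σc K) ≫ (orb a s x₂).left = (lim a s x₂).left := by
      rw [← ε₀_orb]; rfl
    rw [e1, e2, hl]
  have h12 : ω₁ = ω₂ := by
    apply eq_of_range_subset_diagonal (V.ι ≫ f.left) ω₁ ω₂ hg
    have h0 := range_subset_of_closedPoint (R := CommRingCat.of (O₁ K))
      (pullback.lift ω₁ ω₂ hg) (pullback.diagonal (V.ι ≫ f.left)).opensRange ?_
    · exact h0
    · rw [← closedPoint_O₁, ← Scheme.Hom.comp_apply,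
        comp_lift_eq_diag (V.ι ≫ f.left) ω₁ ω₂ hg (Spec.map (σc K)) hc, Scheme.Hom.comp_apply]
      exact ⟨_, rfl⟩
  have horb : orb a s x₁ = orb a s x₂ := by
    apply Over.OverMorphism.ext
    rw [← hω₁, ← hω₂, h12]
  have hgen : gen a s x₁ = gen a s x₂ := by rw [← jL_orb, ← jL_orb, horb]
  have hπ : πL s ≫ x₁ = πL s ≫ x₂ := by rw [← inv_gen a s x₁, ← inv_gen a s x₂, hgen]
  haveI : IsLocalHom (ιc K).hom := isLocalHom_ι' K
  apply Over.OverMorphism.ext
  apply hom_ext_of_local_injective (ιc K) (ι'_injective K)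
  exact congrArg (fun ψ => ψ.left) hπ

include hf hinj hV in
/-- (B) `V → Y` is a monomorphism -/
theorem mono_g [Etale (V.ι ≫ f.left)] : Mono (V.ι ≫ f.left) := by
  constructor
  intro W w₁ w₂ hw
  apply eq_of_range_subset_diagonal (V.ι ≫ f.left) w₁ w₂ hw
  rintro _ ⟨p, rfl⟩
  have hx : W.fromSpecResidueField p ≫ w₁ = W.fromSpecResidueField p ≫ w₂ := by
    rw [← cancel_mono V.ι]
    have hs2 : (W.fromSpecResidueField p ≫ w₂ ≫ V.ι) ≫ X.hom =
        (W.fromSpecResidueField p ≫ w₁ ≫ V.ι) ≫ X.hom := by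
      rw [← Over.w f]
      simp only [Category.assoc]
      rw [← reassoc_of% hw]
    have h12 := inj_local a b f hf V hinj hV
      ((W.fromSpecResidueField p ≫ w₁ ≫ V.ι) ≫ X.hom)
      (Over.homMk (W.fromSpecResidueField p ≫ w₁ ≫ V.ι) rfl)
      (Over.homMk (W.fromSpecResidueField p ≫ w₂ ≫ V.ι) hs2) (by
        apply Over.OverMorphism.ext
        change (W.fromSpecResidueField p ≫ w₁ ≫ V.ι) ≫ f.left =
          (W.fromSpecResidueField p ≫ w₂ ≫ V.ι) ≫ f.left
        simp only [Category.assoc]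
        rw [hw])
    have h3 : W.fromSpecResidueField p ≫ w₁ ≫ V.ι = W.fromSpecResidueField p ≫ w₂ ≫ V.ι :=
      congrArg (fun ψ => ψ.left) h12
    rw [Category.assoc, Category.assoc]
    exact h3
  have hp : p = (W.fromSpecResidueField p) (IsLocalRing.closedPoint (W.residueField p)) :=
    (Scheme.fromSpecResidueField_apply p _).symm
  rw [hp, ← Scheme.Hom.comp_apply, comp_lift_eq_diag (V.ι ≫ f.left) w₁ w₂ hw _ hx,
    Scheme.Hom.comp_apply]
  exact ⟨_, rfl⟩

include hf hinj hV in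
/-- (C) `f⁻¹(f(V)) = V` -/
theorem mem_of_map_mem [Etale (V.ι ≫ f.left)] (x : X.left) (v : V.toScheme)
    (h : f.left x = (V.ι ≫ f.left) v) : x ∈ V := by
  obtain ⟨z, hz1, hz2⟩ := Scheme.Pullback.exists_preimage_pullback (f := f.left)
    (g := V.ι ≫ f.left) x v h
  obtain ⟨ζ, hζ⟩ : ∃ ζ : Spec ((pullback f.left (V.ι ≫ f.left)).residueField z) ⟶
      pullback f.left (V.ι ≫ f.left), ζ = (pullback f.left (V.ι ≫ f.left)).fromSpecResidueField z :=
    ⟨_, rfl⟩
  have hcond : (ζ ≫ pullback.fst f.left (V.ι ≫ f.left)) ≫ f.left =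
      (ζ ≫ pullback.snd f.left (V.ι ≫ f.left) ≫ V.ι) ≫ f.left := by
    simp only [Category.assoc]
    rw [pullback.condition]
  have hs2 : (ζ ≫ pullback.snd f.left (V.ι ≫ f.left) ≫ V.ι) ≫ X.hom =
      (ζ ≫ pullback.fst f.left (V.ι ≫ f.left)) ≫ X.hom := by
    calc (ζ ≫ pullback.snd f.left (V.ι ≫ f.left) ≫ V.ι) ≫ X.hom
        = ((ζ ≫ pullback.snd f.left (V.ι ≫ f.left) ≫ V.ι) ≫ f.left) ≫ Y.hom := by
          rw [Category.assoc _ f.left, Over.w f]
      _ = ((ζ ≫ pullback.fst f.left (V.ι ≫ f.left)) ≫ f.left) ≫ Y.hom := by rw [hcond]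
      _ = (ζ ≫ pullback.fst f.left (V.ι ≫ f.left)) ≫ X.hom := by
          rw [Category.assoc _ f.left, Over.w f]
  have h12 := inj_local a b f hf V hinj hV
    ((ζ ≫ pullback.fst f.left (V.ι ≫ f.left)) ≫ X.hom)
    (Over.homMk (ζ ≫ pullback.fst f.left (V.ι ≫ f.left)) rfl)
    (Over.homMk (ζ ≫ pullback.snd f.left (V.ι ≫ f.left) ≫ V.ι) hs2) (by
      apply Over.OverMorphism.ext
      exact hcond)
  have e : ζ ≫ pullback.fst f.left (V.ι ≫ f.left) =
      ζ ≫ pullback.snd f.left (V.ι ≫ f.left) ≫ V.ι := congrArg (fun ψ => ψ.left) h12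
  have hx : x = (ζ ≫ pullback.fst f.left (V.ι ≫ f.left)) (IsLocalRing.closedPoint _) := by
    rw [Scheme.Hom.comp_apply, hζ, Scheme.fromSpecResidueField_apply, hz1]
  rw [hx, e, ← Category.assoc, Scheme.Hom.comp_apply]
  have hm : V.ι ((ζ ≫ pullback.snd f.left (V.ι ≫ f.left)) (IsLocalRing.closedPoint _)) ∈
      Set.range V.ι := ⟨_, rfl⟩
  rw [Scheme.Opens.range_ι] at hm
  exact hm

/-! ### the cover `G_m × V → Y` -/

/-- `V` as an `S`-scheme -/
abbrev Vo (X : Over S) (V : X.left.Opens) : Over S := Over.mk (V.ι ≫ X.hom)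

/-- `V → X` -/
def ιV (X : Over S) (V : X.left.Opens) : Vo X V ⟶ X := Over.homMk V.ι rfl

/-- `V → Y` -/
def gV : Vo X V ⟶ Y := ιV X V ≫ f

/-- `(u, v) ↦ u • f(v)` -/
def cov : Gm S ⊗ Vo X V ⟶ Y := (Gm S ◁ gV f V) ≫ (rG b).act

/-- `(u, v) ↦ u • v` -/
def eX : Gm S ⊗ Vo X V ⟶ X := (Gm S ◁ ιV X V) ≫ (rG a).act

theorem gV_left : (gV f V).left = V.ι ≫ f.left := rfl

theorem cov_flat [Etale (V.ι ≫ f.left)] : Flat (cov b f V).left := by
  haveI h1 : Flat (Gm S ◁ gV f V).left := by
    have hpb := (MagnetUnram.isPullback_whiskerLeft_left (G := Gm S) (gV f V)).flip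
    have hg : Flat (gV f V).left := by rw [gV_left]; infer_instance
    exact MorphismProperty.of_isPullback (P := @Flat) hpb hg
  haveI h2 : Flat (rG b).act.left :=
    act_left_flat (rG b) (MagnetPushoutAct.flat_AMonS_hom S ℤ)
  change Flat ((Gm S ◁ gV f V).left ≫ (rG b).act.left)
  infer_instance

theorem cov_lfp [Etale (V.ι ≫ f.left)] : LocallyOfFinitePresentation (cov b f V).left := by
  haveI h1 : LocallyOfFinitePresentation (Gm S ◁ gV f V).left := by
    have hpb := (MagnetUnram.isPullback_whiskerLeft_left (G := Gm S) (gV f V)).flip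
    have hg : LocallyOfFinitePresentation (gV f V).left := by rw [gV_left]; infer_instance
    exact MorphismProperty.of_isPullback (P := @LocallyOfFinitePresentation) hpb hg
  haveI h2 : LocallyOfFinitePresentation (rG b).act.left :=
    act_left_lfp (rG b) (lfp_Gm_hom S)
  change LocallyOfFinitePresentation ((Gm S ◁ gV f V).left ≫ (rG b).act.left)
  infer_instance

include hsurj hV in
/-- (D) the cover is surjective -/
theorem cov_surjective [Etale (V.ι ≫ f.left)] : Surjective (cov b f V).left := by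
  constructor
  intro y
  obtain ⟨s, hs⟩ : ∃ s : Spec (Y.left.residueField y) ⟶ S,
      s = Y.left.fromSpecResidueField y ≫ Y.hom := ⟨_, rfl⟩
  obtain ⟨yK, hyK⟩ : ∃ yK : Over.mk s ⟶ Y, yK.left = Y.left.fromSpecResidueField y :=
    ⟨Over.homMk (Y.left.fromSpecResidueField y) hs.symm, rfl⟩
  obtain ⟨p, hp, hpf⟩ := hsurj (Over.mk s) (lim b s yK) (lim_fixed b s yK)
  obtain ⟨N, hN⟩ : ∃ N : Y.left.Opens, (N : Set Y.left) = Set.range (V.ι ≫ f.left) :=
    ⟨⟨_, (V.ι ≫ f.left).isOpenMap.isOpen_range⟩, rfl⟩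
  have hlimN : (lim b s yK).left (IsLocalRing.closedPoint (Y.left.residueField y)) ∈ N := by
    have hpV : p.left (IsLocalRing.closedPoint (Y.left.residueField y)) ∈ Set.range V.ι := by
      rw [Scheme.Opens.range_ι]
      exact hV _ p hp ⟨_, rfl⟩
    obtain ⟨v, hv⟩ := hpV
    change _ ∈ (N : Set Y.left)
    rw [hN, ← hpf]
    refine ⟨v, ?_⟩
    rw [Over.comp_left, Scheme.Hom.comp_apply, Scheme.Hom.comp_apply, hv]
  have hgenN := range_gen_subset b s yK N hlimN
  rw [hN] at hgenN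
  obtain ⟨v, hv⟩ := hgenN ⟨IsLocalRing.closedPoint _, rfl⟩
  obtain ⟨z, hz1, hz2⟩ := Scheme.Pullback.exists_preimage_pullback (f := (gen b s yK).left)
    (g := V.ι ≫ f.left) (IsLocalRing.closedPoint _) v hv.symm
  have hq : pullback.snd (gen b s yK).left (V.ι ≫ f.left) ≫ (V.ι ≫ X.hom) =
      pullback.fst (gen b s yK).left (V.ι ≫ f.left) ≫ fL s := by
    have e1 : V.ι ≫ X.hom = (V.ι ≫ f.left) ≫ Y.hom := by rw [Category.assoc, Over.w f]
    have e2 : (gen b s yK).left ≫ Y.hom = fL s := Over.w (gen b s yK)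
    rw [e1, ← Category.assoc, ← pullback.condition, Category.assoc, e2]
  obtain ⟨T, hT⟩ : ∃ T : Over S,
      T = Over.mk (pullback.fst (gen b s yK).left (V.ι ≫ f.left) ≫ fL s) := ⟨_, rfl⟩
  subst hT
  obtain ⟨pT, hpT⟩ : ∃ pT : Over.mk (pullback.fst (gen b s yK).left (V.ι ≫ f.left) ≫ fL s) ⟶
      Over.mk (fL s), pT.left = pullback.fst (gen b s yK).left (V.ι ≫ f.left) :=
    ⟨Over.homMk (pullback.fst (gen b s yK).left (V.ι ≫ f.left)) rfl, rfl⟩
  obtain ⟨qT, hqT⟩ : ∃ qT : Over.mk (pullback.fst (gen b s yK).left (V.ι ≫ f.left) ≫ fL s) ⟶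
      Vo X V, qT.left = pullback.snd (gen b s yK).left (V.ι ≫ f.left) :=
    ⟨Over.homMk (pullback.snd (gen b s yK).left (V.ι ≫ f.left)) hq, rfl⟩
  have hqg : qT ≫ gV f V = pT ≫ gen b s yK := by
    apply Over.OverMorphism.ext
    rw [Over.comp_left, Over.comp_left, hqT, hpT, gV_left]
    exact pullback.condition.symm
  have hpt : lift (pT ≫ ptZ (fL s) (su (Y.left.residueField y))⁻¹) qT ≫ cov b f V =
      pT ≫ πL s ≫ yK := by
    unfold cov
    rw [lift_whiskerLeft_assoc, hqg, ← comp_lift, Category.assoc]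
    congr 1
    exact inv_gen' b s yK
  refine ⟨(lift (pT ≫ ptZ (fL s) (su (Y.left.residueField y))⁻¹) qT).left z, ?_⟩
  rw [← Scheme.Hom.comp_apply, ← Over.comp_left, hpt, Over.comp_left, Over.comp_left,
    Scheme.Hom.comp_apply, Scheme.Hom.comp_apply, hyK]
  exact Scheme.fromSpecResidueField_apply y _

include hf in
/-- (F) the base change of `f` along the cover is the identity -/
theorem isPullback_cov (hmono : Mono (V.ι ≫ f.left))
    (hpre : ∀ (x : X.left) (v : V.toScheme), f.left x = (V.ι ≫ f.left) v → x ∈ V) :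
    IsPullback (𝟙 (Gm S ⊗ Vo X V)) (eX a V) (cov b f V) f := by
  have hf' := rG_equivariant a b f hf
  have hcomm : 𝟙 (Gm S ⊗ Vo X V) ≫ cov b f V = eX a V ≫ f := by
    rw [Category.id_comp]
    unfold cov eX gV
    rw [MonoidalCategory.whiskerLeft_comp, Category.assoc, Category.assoc]
    congr 1
    exact hf'.symm
  rw [MonAct.isEquivariant_iff] at hf'
  refine IsPullback.of_isLimit (c := PullbackCone.mk _ _ hcomm) ?_
  refine PullbackCone.IsLimit.mk hcomm (fun s => s.fst) (fun s => Category.comp_id _)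
    (fun s => ?_) (fun s m h1 _ => by rw [← h1, Category.comp_id])
  obtain ⟨u, v, hp⟩ : ∃ (u : s.pt ⟶ Gm S) (v : s.pt ⟶ Vo X V), s.fst = lift u v :=
    ⟨_, _, (lift_comp_fst_snd _).symm⟩
  have hc : lift u (v ≫ gV f V) ≫ (rG b).act = s.snd ≫ f := by
    have h0 := s.condition
    rw [hp] at h0
    unfold cov at h0
    rw [lift_whiskerLeft_assoc] at h0
    exact h0
  obtain ⟨x'', hx''⟩ : ∃ x'' : s.pt ⟶ X, x'' = lift u⁻¹ s.snd ≫ (rG a).act := ⟨_, rfl⟩
  have hx''f : x'' ≫ f = v ≫ gV f V := by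
    rw [hx'', Category.assoc, hf', ← hc, inv_act_act]
  have h2 : x''.left ≫ f.left = v.left ≫ (V.ι ≫ f.left) := congrArg (fun ψ => ψ.left) hx''f
  have hrange : Set.range x''.left ⊆ Set.range V.ι := by
    rw [Scheme.Opens.range_ι]
    rintro _ ⟨t, rfl⟩
    apply hpre (x''.left t) (v.left t)
    rw [← Scheme.Hom.comp_apply, h2, Scheme.Hom.comp_apply]
  have hw := IsOpenImmersion.lift_fac V.ι x''.left hrange
  have hwv : IsOpenImmersion.lift V.ι x''.left hrange = v.left := by
    haveI := hmono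
    rw [← cancel_mono (V.ι ≫ f.left), ← Category.assoc, hw]
    exact h2
  have hx''v : x'' = v ≫ ιV X V := by
    apply Over.OverMorphism.ext
    rw [Over.comp_left, ← hw, hwv]
    rfl
  change s.fst ≫ eX a V = s.snd
  rw [hp]
  unfold eX
  rw [lift_whiskerLeft_assoc, ← hx''v, hx'', act_inv_act]

include hf hinj hsurj hV in
/-- (G) `f` is an isomorphism -/
theorem isIso_of_etale_nbhd [Etale (V.ι ≫ f.left)] : IsIso f := by
  have hmono := mono_g a b f hf V hinj hV
  have hpre := mem_of_map_mem a b f hf V hinj hV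
  have hpb := isPullback_cov a b f hf V hmono hpre
  have hpbl : IsPullback (𝟙 (Gm S ⊗ Vo X V).left) (eX a V).left (cov b f V).left f.left :=
    (Over.forget S).map_isPullback hpb
  have hQ : (@Surjective ⊓ @Flat ⊓ @LocallyOfFinitePresentation : MorphismProperty Scheme.{u})
      (cov b f V).left :=
    ⟨⟨cov_surjective a b f V hsurj hV, cov_flat b f V⟩, cov_lfp b f V⟩
  have hiso : (MorphismProperty.isomorphisms Scheme.{u}) f.left :=
    MorphismProperty.of_isPullback_of_descendsAlong (P := MorphismProperty.isomorphisms Scheme.{u})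
      (Q := @Surjective ⊓ @Flat ⊓ @LocallyOfFinitePresentation) hpbl hQ
      (MorphismProperty.isomorphisms.infer_property _)
  haveI : IsIso f.left := hiso
  haveI : IsIso ((Over.forget S).map f) := by
    change IsIso f.left
    infer_instance
  exact isIso_of_reflects_iso f (Over.forget S)

end Main

theorem main18959 (k : Type u) [Field k]
    (X Y : Over (Spec (CommRingCat.of k))) (a : Magnet.MonAct (Magnet.AMonS (Spec (CommRingCat.of k)) ℕ) X) (b : Magnet.MonAct (Magnet.AMonS (Spec (CommRingCat.of k)) ℕ) Y)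
    (hX : ∀ x : X.left, ∃ U : X.left.Opens, x ∈ U ∧ IsAffineOpen U ∧
      (CartesianMonoidalCategory.snd (Magnet.AMonS (Spec (CommRingCat.of k)) ℕ) X).left ⁻¹ᵁ U ≤ a.act.left ⁻¹ᵁ U)
    (hY : ∀ y : Y.left, ∃ U : Y.left.Opens, y ∈ U ∧ IsAffineOpen U ∧
      (CartesianMonoidalCategory.snd (Magnet.AMonS (Spec (CommRingCat.of k)) ℕ) Y).left ⁻¹ᵁ U ≤ b.act.left ⁻¹ᵁ U)
    [IsLocallyNoetherian Y.left] (f : X ⟶ Y) (hf : Magnet.MonAct.IsEquivariant a b f)
    (h1 : IsIso (Magnet.MonAct.fixedPsh.map f hf))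
    (h2 : IsPullback (Magnet.MonAct.fixedPsh.map f hf) (Magnet.MonAct.fixedPshι a)
      (Magnet.MonAct.fixedPshι b) (yoneda.map f))
    (V : X.left.Opens) [Etale (V.ι ≫ f.left)]
    (h3 : ∀ (T : Over (Spec (CommRingCat.of k))) (x : (Magnet.MonAct.fixedPsh a).obj (op T)), x.1.left ⁻¹ᵁ V = ⊤) :
    IsIso f := by
  have hβα : ∀ (T : Over (Spec (CommRingCat.of k))) (P : (MonAct.fixedPsh a).obj (op T)),
      (inv (MonAct.fixedPsh.map f hf)).app (op T) ((MonAct.fixedPsh.map f hf).app (op T) P) = P :=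
    fun T P => by
      have h := congrArg (fun nt => nt.app (op T)) (IsIso.hom_inv_id (MonAct.fixedPsh.map f hf))
      exact ConcreteCategory.congr_hom h P
  have hαβ : ∀ (T : Over (Spec (CommRingCat.of k))) (Q : (MonAct.fixedPsh b).obj (op T)),
      (MonAct.fixedPsh.map f hf).app (op T) ((inv (MonAct.fixedPsh.map f hf)).app (op T) Q) = Q :=
    fun T Q => by
      have h := congrArg (fun nt => nt.app (op T)) (IsIso.inv_hom_id (MonAct.fixedPsh.map f hf))
      exact ConcreteCategory.congr_hom h Q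
  apply isIso_of_etale_nbhd a b f hf V
  · intro T p q hp hq hpq
    have e : (MonAct.fixedPsh.map f hf).app (op T) ⟨p, hp⟩ =
        (MonAct.fixedPsh.map f hf).app (op T) ⟨q, hq⟩ := Subtype.ext hpq
    have e2 := congrArg ((inv (MonAct.fixedPsh.map f hf)).app (op T)) e
    rw [hβα, hβα] at e2
    exact congrArg Subtype.val e2
  · intro T q hq
    refine ⟨((inv (MonAct.fixedPsh.map f hf)).app (op T) ⟨q, hq⟩).1,
      ((inv (MonAct.fixedPsh.map f hf)).app (op T) ⟨q, hq⟩).2, ?_⟩
    exact congrArg Subtype.val (hαβ T ⟨q, hq⟩)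
  · intro T p hp
    rintro _ ⟨t, rfl⟩
    have h := h3 T ⟨p, hp⟩
    have ht : t ∈ p.left ⁻¹ᵁ V := by rw [h]; trivial
    exact ht

end Groth.Agent.Lib.Helper29.MagnetBBIso
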