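import Mathlib
import Groth.Prelude.Def_Magnet2
import Groth.Agent.Lib.Helper29.MagnetCoord

/-!
# Equivariant maps out of an affine monoid with dense open unit group, over a field (S18955)
(helper29)
-/
set_option autoImplicit false
set_option maxHeartbeats 1600000
set_option linter.style.haveILetI false
universe u
open CategoryTheory CategoryTheory.Limits MonoidalCategory CartesianMonoidalCategory MonObj
  AlgebraicGeometry Opposite

noncomputable section

namespace Groth.Agent.Lib.Helper29.MagnetCoordField

open Magnet Groth.Agent.Lib.Helper29.MagnetCoordRing Groth.Agent.Lib.Helper29.MagnetCoord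

/-- over a field every injection of algebras has a free complement -/
theorem nonempty_compData_of_field {k : Type u} [Field k] {R A A' : CommRingCat.{u}} (ψ : k ≃+* R)
    (a : R ⟶ A) (a' : R ⟶ A') (j : A ⟶ A') (haj : a ≫ j = a')
    (hj : Function.Injective j.hom) : Nonempty (CompData.{u, u} a a' j) := by
  classical
  letI : Algebra k A := (a.hom.comp ψ.toRingHom).toAlgebra
  letI : Algebra k A' := (a'.hom.comp ψ.toRingHom).toAlgebra
  have hsA : ∀ (s : k) (x : A), s • x = a.hom (ψ s) * x := fun s x => Algebra.smul_def s x
  have hsA' : ∀ (s : k) (x : A'), s • x = a'.hom (ψ s) * x := fun s x => Algebra.smul_def s x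
  have hja : ∀ r, j.hom (a.hom r) = a'.hom r := fun r => congrArg (fun φ => φ.hom r) haj
  let jL : A →ₗ[k] A' :=
    { toFun := j.hom
      map_add' := map_add _
      map_smul' := fun s x => by
        simp only [RingHom.id_apply]
        rw [hsA, hsA', map_mul, hja] }
  have hker : LinearMap.ker jL = ⊥ := LinearMap.ker_eq_bot.2 hj
  obtain ⟨g, hg⟩ := LinearMap.exists_leftInverse_of_injective jL hker
  have hgj : ∀ x, g (j.hom x) = x := fun x => LinearMap.congr_fun hg x
  let q : A' →ₗ[k] LinearMap.ker g :=
    LinearMap.codRestrict (LinearMap.ker g) (LinearMap.id - jL.comp g) (fun x => by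
      rw [LinearMap.mem_ker]
      show g (x - j.hom (g x)) = 0
      rw [map_sub, hgj, sub_self])
  have hq : ∀ x, ((q x : LinearMap.ker g) : A') = x - j.hom (g x) := fun x => rfl
  let b := Module.Basis.ofVectorSpace k (LinearMap.ker g)
  have hsm : ∀ (r : R) (x : A'), a'.hom r * x = (ψ.symm r) • x := fun r x => by
    rw [hsA', ψ.apply_symm_apply]
  refine ⟨{ K := Module.Basis.ofVectorSpaceIndex k (LinearMap.ker g)
            ℓ := fun m => AddMonoidHom.mk' (fun x => ψ (b.repr (q x) m)) (fun x y => by
              rw [map_add, map_add, Finsupp.add_apply, map_add])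
            ℓ_smul := fun m r x => by
              show ψ (b.repr (q (a'.hom r * x)) m) = r * ψ (b.repr (q x) m)
              rw [hsm, map_smul, map_smul, Finsupp.smul_apply, smul_eq_mul, map_mul,
                ψ.apply_symm_apply]
            r₀ := g.toAddMonoidHom
            r₀_smul := fun r x => by
              show g (a'.hom r * x) = a.hom r * g x
              rw [hsm, map_smul, hsA, ψ.apply_symm_apply]
            e := fun m => ((b m : LinearMap.ker g) : A')
            r₀_j := hgj
            ℓ_j := fun m x => by
              show ψ (b.repr (q (j.hom x)) m) = 0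
              have h0 : q (j.hom x) = 0 := by
                apply Subtype.ext
                rw [hq, hgj, sub_self]
                rfl
              rw [h0, map_zero, Finsupp.zero_apply, map_zero]
            decomp := fun x => by
              refine ⟨(b.repr (q x)).support, fun m hm => ?_, ?_⟩
              · show ψ (b.repr (q x) m) = 0
                rw [Finsupp.notMem_support_iff.1 hm, map_zero]
              · show x = j.hom (g x) + ∑ m ∈ (b.repr (q x)).support,
                  a'.hom (ψ (b.repr (q x) m)) * ((b m : LinearMap.ker g) : A')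
                have h1 : q x = ∑ m ∈ (b.repr (q x)).support, b.repr (q x) m • b m := by
                  conv_lhs => rw [← b.linearCombination_repr (q x)]
                  rw [Finsupp.linearCombination_apply, Finsupp.sum]
                have h2 := congrArg (fun y : LinearMap.ker g => (y : A')) h1
                simp only [Submodule.coe_sum, Submodule.coe_smul] at h2
                have h3 : x - j.hom (g x) = ∑ m ∈ (b.repr (q x)).support,
                    a'.hom (ψ (b.repr (q x) m)) * ((b m : LinearMap.ker g) : A') := by
                  rw [← hq x]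
                  exact h2.trans (Finset.sum_congr rfl (fun m _ => hsA' _ _))
                rw [← h3]
                exact (add_sub_cancel _ _).symm }⟩

theorem main18955 (k : Type u) [Field k]
    (M G X : Over (Spec (CommRingCat.of k))) [MonObj M] [GrpObj G] [IsAffine M.left]
    [IsAffine G.left]
    [IsAffine X.left] (i : G ⟶ M) [IsMonHom i] [IsOpenImmersion i.left]
    [IsSchemeTheoreticallyDominant i.left] (a : AlgGrp.Action G X) :
    ∃ (Z : Over (Spec (CommRingCat.of k))) (j : Z ⟶ X)
      (e : (Magnet.MonAct.eqvHom ((Magnet.MonAct.regular M).restrict i)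
        (Magnet.MonAct.ofAction a)).RepresentableBy Z),
      IsClosedImmersion j.left ∧
      ∀ (T : Over (Spec (CommRingCat.of k))) (z : T ⟶ Z),
        (Magnet.MonAct.eqvHom.evalAt ((Magnet.MonAct.regular M).restrict i)
          (Magnet.MonAct.ofAction a) η[M]).app
          (op T) (e.homEquiv z) = z ≫ j := by
  haveI : QuasiCompact i.left := inferInstance
  have hdom : ∀ T : Over (Spec (CommRingCat.of k)), (i ▷ T).left.ker = ⊥ := fun T => by
    haveI := Groth.Agent.Lib.Helper26.MagnetFactor.isSchemeTheoreticallyDominant_whiskerRight_left i T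
    exact Scheme.Hom.ker_eq_bot _
  have hinj_i : Function.Injective i.left.appTop.hom :=
    injective_appTop_of_ker_eq_bot i.left (Scheme.Hom.ker_eq_bot _)
  obtain ⟨cd⟩ := nonempty_compData_of_field (k := k)
    ((Scheme.ΓSpecIso (CommRingCat.of k)).symm.commRingCatIsoToRingEquiv)
    M.hom.appTop G.hom.appTop i.left.appTop
    (by rw [← Scheme.Hom.comp_appTop, Over.w i]) hinj_i
  have hG : ∀ T : Over (Spec (CommRingCat.of k)),
      IsPullback (fst G T).left (snd G T).left G.hom (T.hom ≫ 𝟙 _) := fun T => by
    rw [Category.comp_id]
    exact IsPullback.of_hasPullback G.hom T.hom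
  have hM : ∀ T : Over (Spec (CommRingCat.of k)),
      IsPullback (fst M T).left (snd M T).left M.hom (T.hom ≫ 𝟙 _) := fun T => by
    rw [Category.comp_id]
    exact IsPullback.of_hasPullback M.hom T.hom
  have hpG : ∀ {T T' : Over (Spec (CommRingCat.of k))} (t : T' ⟶ T),
      (G ◁ t).left ≫ (fst G T).left = (fst G T').left := by
    intro T T' t
    rw [← Over.comp_left, whiskerLeft_fst]
  have hi : ∀ T : Over (Spec (CommRingCat.of k)),
      (i ▷ T).left ≫ (fst M T).left = (fst G T).left ≫ i.left := by
    intro T
    rw [← Over.comp_left, whiskerRight_fst, Over.comp_left]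
  obtain ⟨Z, j, hcl, hZ⟩ := core i (MonAct.ofAction a) (𝟙 _) G.hom M.hom i.left
    (fun T => (fst G T).left) (fun T => (fst M T).left) hG hM hpG hi cd (𝟙 _) X.hom
    (Category.comp_id _).symm hdom
  haveI := hcl
  obtain ⟨e, he⟩ := representableBy_of_closed i (MonAct.ofAction a) Z j
    (evalAt_injective i (MonAct.ofAction a) hdom) hZ
  exact ⟨Z, j, e, hcl, he⟩

end Groth.Agent.Lib.Helper29.MagnetCoordField
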