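import Groth.Agent.S18958
import Groth.Agent.Lib.Helper29.MagnetCoordField
import Groth.Agent.Lib.Helper29.MagnetAtlasRep
import Groth.Agent.Lib.Helper29.MagnetOpenImm
import Groth.Agent.Lib.Helper29.BigSheaf
import Groth.Agent.Lib.Helper16.GlueRep
import Groth.Agent.Lib.Helper16.Charts
import Groth.Agent.Lib.Helper26.MagnetFactor

/-!
# Helper library (helper29): representability of `D_X` when the `G`-stable affine opens cover the fixed points
(S18964), by gluing the representable open subfunctors `D_U` (S18955, S18958) with helper16's `GlueRep`.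
-/

set_option autoImplicit false
set_option maxHeartbeats 1600000
universe u
open CategoryTheory CategoryTheory.Limits MonoidalCategory CartesianMonoidalCategory MonObj
  AlgebraicGeometry Opposite

namespace Groth.Agent.Lib.Helper29.MagnetDRep

open Magnet AlgSp

section Iso
variable {S : Scheme.{u}}

theorem representableBy_of_iso (F : (Over S)ᵒᵖ ⥤ Type u) (hF : Presheaf.IsSheaf (AlgSp.J S) F)
    (W : Over S) (κ : (yon S).obj W ≅ MagnetAtlasRep.toSp F hF) :
    Nonempty (F.RepresentableBy W) := by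
  have hinv1 : ∀ (T : (Over S)ᵒᵖ) (z : ULift.{u + 1} (unop T ⟶ W)),
      κ.inv.hom.app T (κ.hom.hom.app T z) = z := by
    intro T z
    have h := congrArg (fun α => α.hom.app T) κ.hom_inv_id
    exact ConcreteCategory.congr_hom h z
  have hinv2 : ∀ (T : (Over S)ᵒᵖ) (x : ULift.{u + 1} (F.obj T)),
      κ.hom.hom.app T (κ.inv.hom.app T x) = x := by
    intro T x
    have h := congrArg (fun α => α.hom.app T) κ.inv_hom_id
    exact ConcreteCategory.congr_hom h x
  have hnat : ∀ (T T' : Over S) (t : T' ⟶ T) (z : ULift.{u + 1} (T ⟶ W)),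
      κ.hom.hom.app (op T') (ULift.up (t ≫ z.down) : ULift.{u + 1} (T' ⟶ W)) =
        (ULift.up (F.map t.op (κ.hom.hom.app (op T) z).down) : ULift.{u + 1} (F.obj (op T'))) := by
    intro T T' t z
    exact ConcreteCategory.congr_hom (κ.hom.hom.naturality t.op) z
  refine ⟨?_⟩
  exact
    { homEquiv := fun {T} =>
        { toFun := fun z => (κ.hom.hom.app (op T) (ULift.up z : ULift.{u + 1} (T ⟶ W))).down
          invFun := fun x => (κ.inv.hom.app (op T) (ULift.up x : ULift.{u + 1} (F.obj (op T)))).down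
          left_inv := fun z => congrArg ULift.down
            (hinv1 (op T) (ULift.up z : ULift.{u + 1} (T ⟶ W)))
          right_inv := fun x => congrArg ULift.down
            (hinv2 (op T) (ULift.up x : ULift.{u + 1} (F.obj (op T)))) }
      homEquiv_comp := fun {T T'} t z => congrArg ULift.down
        (hnat T' T t (ULift.up z : ULift.{u + 1} (T' ⟶ W))) }

end Iso

section OpenAct
variable {S : Scheme.{u}} {G X : Over S} [GrpObj G]

theorem exists_action_of_openImmersion (aX : AlgGrp.Action G X) (U : X.left.Opens)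
    (hU : (snd G X).left ⁻¹ᵁ U ≤ aX.act.left ⁻¹ᵁ U) (Uo : Over S) (j : Uo ⟶ X)
    [IsOpenImmersion j.left] (hr : Set.range j.left = (U : Set X.left)) :
    ∃ aU : AlgGrp.Action G Uo,
      MonAct.IsEquivariant (MonAct.ofAction aU) (MonAct.ofAction aX) j := by
  have hsub : Set.range ((G ◁ j) ≫ aX.act).left ⊆ Set.range j.left := by
    rintro _ ⟨p, rfl⟩
    rw [hr]
    have h1 : (G ◁ j).left p ∈ (snd G X).left ⁻¹ᵁ U := by
      show (snd G X).left ((G ◁ j).left p) ∈ U
      rw [← Scheme.Hom.comp_apply, ← Over.comp_left, whiskerLeft_snd, Over.comp_left,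
        Scheme.Hom.comp_apply]
      have h2 : j.left ((snd G Uo).left p) ∈ Set.range j.left := ⟨_, rfl⟩
      rw [hr] at h2
      exact h2
    have h3 := hU h1
    rw [Over.comp_left, Scheme.Hom.comp_apply]
    exact h3
  obtain ⟨cact, hc⟩ := MagnetOpenImm.exists_factor_of_range j ((G ◁ j) ≫ aX.act) hsub
  haveI : Mono j := Groth.Agent.S18958.mono_of_isOpenImmersion_left j
  obtain ⟨c, hc1, hc2⟩ := Groth.Agent.Lib.Helper26.MagnetFactor.exists_monAct_of_mono
    (MonAct.ofAction aX) j cact hc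
  exact ⟨c.toAction, hc2⟩

theorem exists_open_action (aX : AlgGrp.Action G X) (U : X.left.Opens)
    (hU : (snd G X).left ⁻¹ᵁ U ≤ aX.act.left ⁻¹ᵁ U) :
    ∃ (Uo : Over S) (j : Uo ⟶ X) (aU : AlgGrp.Action G Uo), IsOpenImmersion j.left ∧
      Set.range j.left = (U : Set X.left) ∧ (IsAffineOpen U → IsAffine Uo.left) ∧
      MonAct.IsEquivariant (MonAct.ofAction aU) (MonAct.ofAction aX) j := by
  have hopen : IsOpenImmersion (Over.homMk U.ι rfl : Over.mk (U.ι ≫ X.hom) ⟶ X).left := by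
    show IsOpenImmersion U.ι
    infer_instance
  have hr : Set.range (Over.homMk U.ι rfl : Over.mk (U.ι ≫ X.hom) ⟶ X).left =
      (U : Set X.left) := by
    show Set.range U.ι = (U : Set X.left)
    exact U.range_ι
  obtain ⟨aU, haU⟩ := exists_action_of_openImmersion aX U hU (Over.mk (U.ι ≫ X.hom))
    (Over.homMk U.ι rfl) hr
  exact ⟨_, _, aU, hopen, hr, fun h => h, haU⟩

end OpenAct

section Chart

variable {S : Scheme.{u}} {M G X Uo Z : Over S} [MonObj M] [GrpObj G] (ρ : MonAct G M)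
  (o : 𝟙_ (Over S) ⟶ M) (aX : AlgGrp.Action G X) (aU : AlgGrp.Action G Uo) (j : Uo ⟶ X)
  (hj : MonAct.IsEquivariant (MonAct.ofAction aU) (MonAct.ofAction aX) j)

theorem chart_of_data (e : (MonAct.eqvHom ρ (MonAct.ofAction aU)).RepresentableBy Z)
    (hpb : IsPullback (MonAct.eqvHom.postcomp ρ j hj)
      (MonAct.eqvHom.evalAt ρ (MonAct.ofAction aU) o)
      (MonAct.eqvHom.evalAt ρ (MonAct.ofAction aX) o) (yoneda.map j)) :
    ∃ (ξ : (MonAct.eqvHom ρ (MonAct.ofAction aX)).obj (op Z)) (av : Z ⟶ Uo),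
      (MonAct.eqvHom.evalAt ρ (MonAct.ofAction aX) o).app (op Z) ξ = av ≫ j ∧
      ∀ (T : Over S) (x : (MonAct.eqvHom ρ (MonAct.ofAction aX)).obj (op T)) (w : T ⟶ Uo),
        (MonAct.eqvHom.evalAt ρ (MonAct.ofAction aX) o).app (op T) x = w ≫ j →
        ∃! v : T ⟶ Z, (MonAct.eqvHom ρ (MonAct.ofAction aX)).map v.op ξ = x ∧ v ≫ av = w := by
  obtain ⟨ξ, hξ⟩ : ∃ ξ : (MonAct.eqvHom ρ (MonAct.ofAction aX)).obj (op Z),
      ξ = (MonAct.eqvHom.postcomp ρ j hj).app (op Z) (e.homEquiv (𝟙 Z)) := ⟨_, rfl⟩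
  obtain ⟨av, hav⟩ : ∃ av : Z ⟶ Uo,
      av = (MonAct.eqvHom.evalAt ρ (MonAct.ofAction aU) o).app (op Z) (e.homEquiv (𝟙 Z)) := ⟨_, rfl⟩
  have hξmap : ∀ (T : Over S) (v : T ⟶ Z),
      (MonAct.eqvHom ρ (MonAct.ofAction aX)).map v.op ξ =
        (MonAct.eqvHom.postcomp ρ j hj).app (op T) (e.homEquiv v) := by
    intro T v
    have h1 := ConcreteCategory.congr_hom ((MonAct.eqvHom.postcomp ρ j hj).naturality v.op)
      (e.homEquiv (𝟙 Z))
    have h2 : e.homEquiv v = (MonAct.eqvHom ρ (MonAct.ofAction aU)).map v.op (e.homEquiv (𝟙 Z)) := by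
      rw [← e.homEquiv_comp, Category.comp_id]
    rw [hξ, h2]
    exact h1.symm
  have havmap : ∀ (T : Over S) (v : T ⟶ Z),
      v ≫ av = (MonAct.eqvHom.evalAt ρ (MonAct.ofAction aU) o).app (op T) (e.homEquiv v) := by
    intro T v
    have h1 := ConcreteCategory.congr_hom
      ((MonAct.eqvHom.evalAt ρ (MonAct.ofAction aU) o).naturality v.op) (e.homEquiv (𝟙 Z))
    have h2 : e.homEquiv v = (MonAct.eqvHom ρ (MonAct.ofAction aU)).map v.op (e.homEquiv (𝟙 Z)) := by
      rw [← e.homEquiv_comp, Category.comp_id]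
    rw [hav, h2]
    exact h1.symm
  refine ⟨ξ, av, ?_, ?_⟩
  · rw [hξ, hav]
    show lift (toUnit Z ≫ o) (𝟙 Z) ≫ ((e.homEquiv (𝟙 Z)).1 ≫ j) =
      (lift (toUnit Z ≫ o) (𝟙 Z) ≫ (e.homEquiv (𝟙 Z)).1) ≫ j
    rw [Category.assoc]
  · intro T x w hxw
    have hpbT := hpb.app (op T)
    obtain ⟨φt, h1, h2⟩ := Types.exists_of_isPullback hpbT x w hxw
    refine ⟨e.homEquiv.symm φt, ⟨?_, ?_⟩, ?_⟩
    · rw [hξmap, Equiv.apply_symm_apply]
      exact h1
    · rw [havmap, Equiv.apply_symm_apply]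
      exact h2
    · rintro v' ⟨hv1, hv2⟩
      have e1 : (MonAct.eqvHom.postcomp ρ j hj).app (op T) (e.homEquiv v') = x := by
        rw [← hξmap, hv1]
      have e2 : (MonAct.eqvHom.evalAt ρ (MonAct.ofAction aU) o).app (op T) (e.homEquiv v') = w := by
        rw [← havmap, hv2]
      have e3 : e.homEquiv v' = φt :=
        Types.ext_of_isPullback hpbT (e1.trans h1.symm) (e2.trans h2.symm)
      rw [← e3, Equiv.symm_apply_apply]

end Chart

section Main

variable (k : Type u) [Field k]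
  (M G X : Over (Spec (CommRingCat.of k))) [MonObj M] [GrpObj G] [IsAffine M.left] [IsAffine G.left]
  (i : G ⟶ M) [IsMonHom i] [IsOpenImmersion i.left] [IsSchemeTheoreticallyDominant i.left]
  (o : 𝟙_ (Over (Spec (CommRingCat.of k))) ⟶ M)

theorem exists_chart (ρ : MonAct G M) (hρ : ρ = (MonAct.regular M).restrict i)
    (ho : ∀ (T : Over (Spec (CommRingCat.of k))) (m : T ⟶ M),
      m * (toUnit T ≫ o) = toUnit T ≫ o ∧ (toUnit T ≫ o) * m = toUnit T ≫ o)
    (hM : ∀ (T : Over (Spec (CommRingCat.of k))) (K : Type u) [Field K]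
      (eT : T.left ≅ Spec (CommRingCat.of K)) (W : (M ⊗ T).left.Opens),
      (CartesianMonoidalCategory.snd G (M ⊗ T)).left ⁻¹ᵁ W ≤
          ((((Magnet.MonAct.regular M).restrict i).prod (Magnet.MonAct.trivial G T)).act).left ⁻¹ᵁ W →
      (CartesianMonoidalCategory.lift (toUnit T ≫ o) (𝟙 T)).left ⁻¹ᵁ W = ⊤ → W = ⊤)
    (aX : AlgGrp.Action G X) (U : X.left.Opens) (hUa : IsAffineOpen U)
    (hUs : (snd G X).left ⁻¹ᵁ U ≤ aX.act.left ⁻¹ᵁ U) :
    ∃ (Z Uo : Over (Spec (CommRingCat.of k)))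
      (ξ : (MonAct.eqvHom ρ (MonAct.ofAction aX)).obj (op Z))
      (j : Uo ⟶ X) (av : Z ⟶ Uo), IsOpenImmersion j.left ∧ Set.range j.left = (U : Set X.left) ∧
      (MonAct.eqvHom.evalAt ρ (MonAct.ofAction aX) o).app (op Z) ξ = av ≫ j ∧
      ∀ (T : Over (Spec (CommRingCat.of k)))
        (x : (MonAct.eqvHom ρ (MonAct.ofAction aX)).obj (op T)) (w : T ⟶ Uo),
        (MonAct.eqvHom.evalAt ρ (MonAct.ofAction aX) o).app (op T) x = w ≫ j →
        ∃! v : T ⟶ Z, (MonAct.eqvHom ρ (MonAct.ofAction aX)).map v.op ξ = x ∧ v ≫ av = w := by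
  subst hρ
  obtain ⟨Uo, j, aU, hopen, hr, haff, hj⟩ := exists_open_action aX U hUs
  haveI := hopen
  haveI : IsAffine Uo.left := haff hUa
  obtain ⟨Z, -, e, -, -⟩ := MagnetCoordField.main18955 k M G Uo i aU
  have hpb := Groth.Agent.S18958.result k M G X Uo i o ho hM aX aU j hj
  obtain ⟨ξ, av, h1, h2⟩ := chart_of_data _ o aX aU j hj e hpb
  exact ⟨Z, Uo, ξ, j, av, hopen, hr, h1, h2⟩

theorem main18964' (ρ : MonAct G M) (hρ : ρ = (MonAct.regular M).restrict i)
    (ho : ∀ (T : Over (Spec (CommRingCat.of k))) (m : T ⟶ M),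
      m * (toUnit T ≫ o) = toUnit T ≫ o ∧ (toUnit T ≫ o) * m = toUnit T ≫ o)
    (hM : ∀ (T : Over (Spec (CommRingCat.of k))) (K : Type u) [Field K]
      (eT : T.left ≅ Spec (CommRingCat.of K)) (W : (M ⊗ T).left.Opens),
      (CartesianMonoidalCategory.snd G (M ⊗ T)).left ⁻¹ᵁ W ≤
          ((((Magnet.MonAct.regular M).restrict i).prod (Magnet.MonAct.trivial G T)).act).left ⁻¹ᵁ W →
      (CartesianMonoidalCategory.lift (toUnit T ≫ o) (𝟙 T)).left ⁻¹ᵁ W = ⊤ → W = ⊤)
    (aX : AlgGrp.Action G X)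
    (hcov : ∀ (T : Over (Spec (CommRingCat.of k)))
      (x : (Magnet.MonAct.fixedPsh (Magnet.MonAct.ofAction aX)).obj (op T)),
      ⨆ (U : X.left.Opens)
        (_ : IsAffineOpen U ∧ (CartesianMonoidalCategory.snd G X).left ⁻¹ᵁ U ≤ aX.act.left ⁻¹ᵁ U),
        x.1.left ⁻¹ᵁ U = ⊤) :
    ∃ Z : Over (Spec (CommRingCat.of k)),
      Nonempty ((MonAct.eqvHom ρ (MonAct.ofAction aX)).RepresentableBy Z) := by
  have hF : Presheaf.IsSheaf (AlgSp.J (Spec (CommRingCat.of k)))
      (MonAct.eqvHom ρ (MonAct.ofAction aX)) :=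
    BigSheaf.main18294 (Spec (CommRingCat.of k)) G M X ρ (MonAct.ofAction aX)
  have hch := fun (U : {U : X.left.Opens // IsAffineOpen U ∧
      (snd G X).left ⁻¹ᵁ U ≤ aX.act.left ⁻¹ᵁ U}) =>
    exists_chart k M G X i o ρ hρ ho hM aX U.1 U.2.1 U.2.2
  choose Z Uo ξ j av hopen hrange hcomm huniv using hch
  have sq := fun U => MagnetAtlasRep.isPullback_sp (MonAct.eqvHom ρ (MonAct.ofAction aX)) hF
    (j U) (av U) (MonAct.eqvHom.evalAt ρ (MonAct.ofAction aX) o) (ξ U) (hcomm U) (huniv U)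
  have hf : ∀ U, RepWith @IsOpenImmersion (MagnetAtlasRep.fPs hF (ξ U)) := fun U =>
    MorphismProperty.of_isPullback (sq U).flip
      ((repWith_yon_map_iff @IsOpenImmersion (j U)).2 (hopen U))
  have hcovP : ∀ x : Points (MagnetAtlasRep.toSp (MonAct.eqvHom ρ (MonAct.ofAction aX)) hF),
      ∃ U, x ∈ Set.range (Points.ofPt (MagnetAtlasRep.fPs hF (ξ U))) := by
    intro x
    induction x using Points.ind with
    | h p =>
      obtain ⟨ψ, hψ⟩ : ∃ ψ : (MonAct.eqvHom ρ (MonAct.ofAction aX)).obj (op p.pt), ψ = p.val.down :=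
        ⟨_, rfl⟩
      obtain ⟨xp, hxp⟩ : ∃ xp : p.pt ⟶ X,
          xp = (MonAct.eqvHom.evalAt ρ (MonAct.ofAction aX) o).app (op p.pt) ψ := ⟨_, rfl⟩
      have hfix : ∀ (T' : Over (Spec (CommRingCat.of k))) (t : T' ⟶ p.pt) (g : T' ⟶ G),
          lift g (t ≫ xp) ≫ (MonAct.ofAction aX).act = t ≫ xp := by
        intro T' t g
        have hψ2 := (MonAct.mem_eqvHom_iff (ρ := ρ) (a := MonAct.ofAction aX) ψ.1).1 ψ.2
        have h1 := hψ2 T' g (toUnit T' ≫ o) t
        have h2 : lift g (toUnit T' ≫ o) ≫ ρ.act = toUnit T' ≫ o := by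
          rw [hρ, MonAct.lift_restrict_act, MonAct.lift_regular_act]
          exact (ho T' (g ≫ i)).1
        have h3 : t ≫ xp = lift (toUnit T' ≫ o) t ≫ ψ.1 := by
          rw [hxp, MonAct.eqvHom.evalAt_app]
          show t ≫ lift (toUnit p.pt ≫ o) (𝟙 p.pt) ≫ ψ.1 = _
          rw [comp_lift_assoc, Category.comp_id, ← Category.assoc t, comp_toUnit]
        rw [h3, ← h1, h2]
      have hc := hcov p.pt ⟨xp, hfix⟩
      obtain ⟨c, hcc⟩ : ∃ c : ↥(p.pt).left, c = IsLocalRing.closedPoint p.K := ⟨_, rfl⟩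
      have hmem : c ∈ (⊤ : (p.pt).left.Opens) := trivial
      rw [← hc] at hmem
      obtain ⟨U, hU'⟩ := TopologicalSpace.Opens.mem_iSup.1 hmem
      obtain ⟨hU, hUmem⟩ := TopologicalSpace.Opens.mem_iSup.1 hU'
      refine ⟨⟨U, hU⟩, ?_⟩
      have hmem2 : xp.left c ∈ Set.range (j ⟨U, hU⟩).left := by
        rw [hrange]
        exact hUmem
      obtain ⟨w, hw⟩ := hmem2
      have key : Points.map (MagnetAtlasRep.pTs hF (MonAct.eqvHom.evalAt ρ (MonAct.ofAction aX) o))
          (Points.mk p) = Points.ofPt ((yon (Spec (CommRingCat.of k))).map (j ⟨U, hU⟩)) w := by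
        have hinj : Function.Injective (Points.toScheme X) := fun a b h => by
          have h' := congrArg (Points.ofScheme X) h
          rwa [Points.ofScheme_toScheme, Points.ofScheme_toScheme] at h'
        apply hinj
        rw [Points.toScheme_ofPt, hw]
        subst hxp
        subst hψ
        subst hcc
        rfl
      obtain ⟨v, hv, -⟩ := Groth.Agent.Lib.Helper16.exists_point_of_isPullback_yon (sq ⟨U, hU⟩)
        (Points.mk p) w key
      exact ⟨v, hv⟩
  obtain ⟨Mg, e, -, -, -, -⟩ := Groth.Agent.Lib.Helper16.GlueRep.exists_iso_yon_of_open_cover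
    (fun U => MagnetAtlasRep.fPs hF (ξ U)) hf hcovP
  exact ⟨Mg, representableBy_of_iso _ hF Mg e⟩

theorem main18964
    (ho : ∀ (T : Over (Spec (CommRingCat.of k))) (m : T ⟶ M),
      m * (toUnit T ≫ o) = toUnit T ≫ o ∧ (toUnit T ≫ o) * m = toUnit T ≫ o)
    (hM : ∀ (T : Over (Spec (CommRingCat.of k))) (K : Type u) [Field K]
      (eT : T.left ≅ Spec (CommRingCat.of K)) (W : (M ⊗ T).left.Opens),
      (CartesianMonoidalCategory.snd G (M ⊗ T)).left ⁻¹ᵁ W ≤
          ((((Magnet.MonAct.regular M).restrict i).prod (Magnet.MonAct.trivial G T)).act).left ⁻¹ᵁ W →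
      (CartesianMonoidalCategory.lift (toUnit T ≫ o) (𝟙 T)).left ⁻¹ᵁ W = ⊤ → W = ⊤)
    (aX : AlgGrp.Action G X)
    (hcov : ∀ (T : Over (Spec (CommRingCat.of k)))
      (x : (Magnet.MonAct.fixedPsh (Magnet.MonAct.ofAction aX)).obj (op T)),
      ⨆ (U : X.left.Opens)
        (_ : IsAffineOpen U ∧ (CartesianMonoidalCategory.snd G X).left ⁻¹ᵁ U ≤ aX.act.left ⁻¹ᵁ U),
        x.1.left ⁻¹ᵁ U = ⊤) :
    ∃ Z : Over (Spec (CommRingCat.of k)),
      Nonempty ((Magnet.MonAct.eqvHom ((Magnet.MonAct.regular M).restrict i)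
        (Magnet.MonAct.ofAction aX)).RepresentableBy Z) :=
  main18964' k M G X i o _ rfl ho hM aX hcov

end Main

end Groth.Agent.Lib.Helper29.MagnetDRep
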