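import Mathlib
import Groth.Prelude.Def_PBC
import Groth.Prelude.Def_ProEtW
import Groth.Agent.Lib.Helper29.IndZarId
import Groth.Agent.Lib.Helper29.Main0694
import Groth.Agent.Lib.Helper29.Main0700

/-!
# S0183: maps identifying local rings become ind-Zariski after a faithfully flat ind-Zariski
cover (helper29)
-/

set_option autoImplicit false
set_option linter.style.haveILetI false
set_option linter.unusedSectionVars false
set_option maxHeartbeats 1600000

universe u

namespace Groth.Agent.Lib.Helper29.Main0183

theorem main0183 (A B : Type u) [CommRing A] [CommRing B] [Algebra A B]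
    (h : EtPBC.IdentifiesLocalRings A B) :
    ∃ (B' : Type u) (_ : CommRing B') (_ : Algebra B B') (_ : Algebra A B')
      (_ : IsScalarTower A B B'),
      Module.FaithfullyFlat B B' ∧ EtPBC.IsIndZariski B B' ∧ EtPBC.IsIndZariski A B' := by
  obtain ⟨B', iB', aBB', hff, hiz, hwl, -⟩ := Groth.Agent.Lib.Helper29.Main0694.main0694 B
  letI aAB' : Algebra A B' := ((algebraMap B B').comp (algebraMap A B)).toAlgebra
  haveI tow : IsScalarTower A B B' := IsScalarTower.of_algebraMap_eq (fun _ => rfl)
  have hid : EtPBC.IdentifiesLocalRings A B' :=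
    Groth.Agent.Lib.Helper29.IndZarId.identifies_comp h
      (Groth.Agent.Lib.Helper29.IndZarId.identifies_of_isIndZariski B B' hiz)
  exact ⟨B', iB', aBB', aAB', tow, hff, hiz,
    Groth.Agent.Lib.Helper29.Main0700.main0700_aux A B' hwl hid⟩

end Groth.Agent.Lib.Helper29.Main0183
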