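import Mathlib
import Groth.Prelude.Def_PBC
import Groth.Prelude.Def_ProEtW
import Groth.Agent.Lib.Helper29.Main0694
import Groth.Agent.Lib.Helper29.Main0700

/-!
# S0695: the universal property of the w-localization (helper29)
-/

set_option autoImplicit false
set_option linter.style.haveILetI false
set_option linter.unusedSectionVars false
set_option maxHeartbeats 1600000

universe u

open Topology CategoryTheory

namespace Groth.Agent.Lib.Helper29.Main0695

open Groth.Agent.Lib.Helper29.LCSpec Groth.Agent.Lib.Helper29.WLocAlg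
  Groth.Agent.Lib.Helper29.WLocSpec Groth.Agent.Lib.Helper29.WLocLoc
  Groth.Agent.Lib.Helper29.ThetaHom Groth.Agent.Lib.Helper29.WLocalIso
  Groth.Agent.Lib.Helper29.Main0694 Groth.Agent.Lib.Helper29.Main0700

section general

variable (A B : Type u) [CommRing A] [CommRing B] [Algebra A B]

lemma psic_fst (φ : Bc A (Tc A) (cc A) →ₐ[A] B) (y : PrimeSpectrum B) :
    (psic (cc A) (PrimeSpectrum.comap φ.toRingHom y)).1 =
      PrimeSpectrum.comap (algebraMap A B) y := by
  rw [← comap_eq]
  apply PrimeSpectrum.ext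
  ext a
  change φ (algebraMap A (Bc A (Tc A) (cc A)) a) ∈ y.asIdeal ↔ algebraMap A B a ∈ y.asIdeal
  rw [φ.commutes a]

end general

section

variable (A B : Type u) [CommRing A] [CommRing B] [Algebra A B]
  (hB : ProEtW.IsWLocal (PrimeSpectrum B))

include hB

lemma cB_clopen_compl_zeroLocus (s : Finset A) :
    IsClopen (cB A B hB ⁻¹' (PrimeSpectrum.zeroLocus (s : Set A))ᶜ) := by
  have h : cB A B hB ⁻¹' (PrimeSpectrum.zeroLocus (s : Set A))ᶜ =
      ⋃ a ∈ s, cB A B hB ⁻¹' (PrimeSpectrum.basicOpen a : Set (PrimeSpectrum A)) := by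
    ext t
    constructor
    · intro ht
      have ht' : ¬ ((s : Set A) ⊆ ((cB A B hB t).asIdeal : Set A)) := ht
      rw [Set.not_subset] at ht'
      obtain ⟨a, ha, hna⟩ := ht'
      exact Set.mem_iUnion₂.mpr ⟨a, Finset.mem_coe.mp ha, hna⟩
    · intro ht
      obtain ⟨a, ha, hna⟩ := Set.mem_iUnion₂.mp ht
      intro hsub
      exact hna (hsub (Finset.mem_coe.mpr ha))
  rw [h]
  exact isClopen_biUnion_finset (fun a _ => cB_clopen A B hB a)

lemma cB_isOpen_of_mem_subbasis (s : Set (PrimeSpectrum A))
    (hs : s ∈ constructibleTopologySubbasis (PrimeSpectrum A)) :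
    IsOpen (cB A B hB ⁻¹' s) := by
  rcases hs with ⟨ho, hcpt⟩ | ⟨hcl, hcpt⟩
  · obtain ⟨t, rfl⟩ := PrimeSpectrum.isCompact_isOpen_iff.mp ⟨hcpt, ho⟩
    exact (cB_clopen_compl_zeroLocus A B hB t).isOpen
  · obtain ⟨t, ht⟩ := PrimeSpectrum.isCompact_isOpen_iff.mp ⟨hcpt, hcl.isOpen_compl⟩
    have h : s = ((PrimeSpectrum.zeroLocus (t : Set A))ᶜ)ᶜ := by rw [ht, compl_compl]
    rw [h, Set.preimage_compl]
    exact (cB_clopen_compl_zeroLocus A B hB t).compl.isOpen

/-- The structure map to the constructible spectrum. -/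
noncomputable def kap (t : TB B) : Tc A := WithTopology.toTopology _ (cB A B hB t)

lemma continuous_kap : Continuous (kap A B hB) := by
  rw [continuous_def]
  intro s hs
  rw [WithTopology.isOpen_iff] at hs
  have h1 : Continuous[inferInstance,
      TopologicalSpace.generateFrom (constructibleTopologySubbasis (PrimeSpectrum A))]
      (cB A B hB) :=
    continuous_generateFrom_iff.mpr (fun u hu => cB_isOpen_of_mem_subbasis A B hB u hu)
  have h2 := continuous_def.mp h1 _ hs
  exact h2

/-- The map on locally constant functions. -/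
noncomputable def phi0 : LocallyConstant (Tc A) A →ₐ[A] B :=
  (thetaHom A B).comp (LocallyConstant.comapₐ A ⟨kap A B hB, continuous_kap A B hB⟩)

lemma phi0_apply (f : LocallyConstant (Tc A) A) :
    phi0 A B hB f = theta A (f.comap ⟨kap A B hB, continuous_kap A B hB⟩) := rfl

lemma isUnit_phi0 (f : Sc A (Tc A) (cc A)) :
    IsUnit (phi0 A B hB (f : LocallyConstant (Tc A) A)) := by
  have hmem : (f : LocallyConstant (Tc A) A).comap ⟨kap A B hB, continuous_kap A B hB⟩ ∈
      Sc A (TB B) (cB A B hB) := fun t => f.2 (kap A B hB t)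
  exact isUnit_theta A B hB ⟨_, hmem⟩

/-- The canonical map from the w-localization. -/
noncomputable def phi : Bc A (Tc A) (cc A) →ₐ[A] B :=
  IsLocalization.liftAlgHom (M := Sc A (Tc A) (cc A)) (f := phi0 A B hB) (isUnit_phi0 A B hB)

lemma phi_apply (f : LocallyConstant (Tc A) A) :
    phi A B hB (algebraMap (LocallyConstant (Tc A) A) (Bc A (Tc A) (cc A)) f) =
      theta A (f.comap ⟨kap A B hB, continuous_kap A B hB⟩) := by
  unfold phi
  rw [IsLocalization.liftAlgHom_apply, IsLocalization.lift_eq]
  rfl

lemma psic_phi (y : PrimeSpectrum B) :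
    psic (cc A) (PrimeSpectrum.comap (phi A B hB).toRingHom y) =
      (PrimeSpectrum.comap (algebraMap A B) y,
        kap A B hB (_root_.ConnectedComponents.mk y)) := by
  apply Prod.ext
  · exact psic_fst A B _ y
  · change tau (PrimeSpectrum.comap (algebraMap (LocallyConstant (Tc A) A)
      (Bc A (Tc A) (cc A))) (PrimeSpectrum.comap (phi A B hB).toRingHom y)) =
      kap A B hB (_root_.ConnectedComponents.mk y)
    by_contra hne
    obtain ⟨U, hU, hmemU, hsub⟩ := compact_exists_isClopen_in_isOpen
      (isOpen_compl_singleton (x := kap A B hB (_root_.ConnectedComponents.mk y))) hne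
    have h2 := tau_spec _ hU hmemU
    apply h2
    change phi A B hB (algebraMap (LocallyConstant (Tc A) A) (Bc A (Tc A) (cc A))
      (LocallyConstant.charFn A hU)) ∈ y.asIdeal
    rw [phi_apply, theta_mem_iff]
    change algebraMap A B (LocallyConstant.charFn A hU
      (kap A B hB (_root_.ConnectedComponents.mk y))) ∈ y.asIdeal
    rw [chi_notMem hU (fun h => hsub h rfl), map_zero]
    exact y.asIdeal.zero_mem

lemma psic_snd_of_wlocal (φ : Bc A (Tc A) (cc A) →ₐ[A] B)
    (hφ : ProEtW.IsWLocalMap (PrimeSpectrum.comap φ.toRingHom)) (y : PrimeSpectrum B) :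
    (psic (cc A) (PrimeSpectrum.comap φ.toRingHom y)).2 =
      kap A B hB (_root_.ConnectedComponents.mk y) := by
  have hc := cc_clopen A
  have hclosed : ∀ y0 : PrimeSpectrum B, IsClosed ({y0} : Set (PrimeSpectrum B)) →
      (psic (cc A) (PrimeSpectrum.comap φ.toRingHom y0)).2 =
        kap A B hB (_root_.ConnectedComponents.mk y0) := by
    intro y0 hy0
    have h1 := (isClosed_singleton_iff (cc A) hc _).mp (hφ.2 y0 hy0)
    apply cc_injective A
    rw [← h1, psic_fst]
    change PrimeSpectrum.comap (algebraMap A B) y0 =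
      PrimeSpectrum.comap (algebraMap A B) (cp B hB (_root_.ConnectedComponents.mk y0))
    rw [cp_mk B hB y0 hy0]
  have hcont : Continuous (fun y : PrimeSpectrum B =>
      (psic (cc A) (PrimeSpectrum.comap φ.toRingHom y)).2) :=
    continuous_snd.comp ((isEmbedding_psic (cc A)).continuous.comp
      (PrimeSpectrum.continuous_comap φ.toRingHom))
  have h2 := hcont.image_eq_of_connectedComponent_eq y
    (cp B hB (_root_.ConnectedComponents.mk y))
    (_root_.ConnectedComponents.coe_eq_coe.mp
      (mk_cp B hB (_root_.ConnectedComponents.mk y)).symm)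
  have h3 := hclosed (cp B hB (_root_.ConnectedComponents.mk y))
    (cp_closed B hB (_root_.ConnectedComponents.mk y))
  rw [mk_cp B hB (_root_.ConnectedComponents.mk y)] at h3
  exact h2.trans h3

theorem existsUnique_phi :
    ∃! φ : Bc A (Tc A) (cc A) →ₐ[A] B,
      ProEtW.IsWLocalMap (PrimeSpectrum.comap φ.toRingHom) := by
  have hc := cc_clopen A
  refine ⟨phi A B hB,
    ⟨Groth.Agent.Lib.Helper29.Main0737.isSpectralMap_comap _, fun y hy => ?_⟩,
    fun φ hφ => ?_⟩
  · rw [isClosed_singleton_iff (cc A) hc, psic_phi]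
    change PrimeSpectrum.comap (algebraMap A B) y =
      PrimeSpectrum.comap (algebraMap A B) (cp B hB (_root_.ConnectedComponents.mk y))
    rw [cp_mk B hB y hy]
  · apply AlgHom.coe_ringHom_injective
    apply IsLocalization.ringHom_ext (Sc A (Tc A) (cc A))
    ext f
    change φ (algebraMap (LocallyConstant (Tc A) A) (Bc A (Tc A) (cc A)) f) =
      phi A B hB (algebraMap (LocallyConstant (Tc A) A) (Bc A (Tc A) (cc A)) f)
    rw [phi_apply]
    symm
    apply theta_eq
    intro y
    have hU : IsClopen (f ⁻¹' {f (kap A B hB (_root_.ConnectedComponents.mk y))}) :=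
      f.isLocallyConstant.isClopen_fiber _
    refine ⟨φ (algebraMap (LocallyConstant (Tc A) A) (Bc A (Tc A) (cc A))
      (LocallyConstant.charFn A hU)), ?_, ?_⟩
    · intro hmem
      have hmem' : LocallyConstant.charFn A hU ∈
          (PrimeSpectrum.comap (algebraMap (LocallyConstant (Tc A) A) (Bc A (Tc A) (cc A)))
            (PrimeSpectrum.comap φ.toRingHom y)).asIdeal := hmem
      refine tau_spec (PrimeSpectrum.comap (algebraMap (LocallyConstant (Tc A) A)
        (Bc A (Tc A) (cc A))) (PrimeSpectrum.comap φ.toRingHom y)) hU ?_ hmem'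
      change (psic (cc A) (PrimeSpectrum.comap φ.toRingHom y)).2 ∈
        f ⁻¹' {f (kap A B hB (_root_.ConnectedComponents.mk y))}
      rw [psic_snd_of_wlocal A B hB φ hφ y]
      exact Set.mem_singleton (f (kap A B hB (_root_.ConnectedComponents.mk y)))
    · change φ (algebraMap (LocallyConstant (Tc A) A) (Bc A (Tc A) (cc A))
        (LocallyConstant.charFn A hU)) *
        (φ (algebraMap (LocallyConstant (Tc A) A) (Bc A (Tc A) (cc A)) f) -
          algebraMap A B (f (kap A B hB (_root_.ConnectedComponents.mk y)))) = 0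
      have e1 : φ (algebraMap (LocallyConstant (Tc A) A) (Bc A (Tc A) (cc A))
          (LocallyConstant.charFn A hU)) *
          (φ (algebraMap (LocallyConstant (Tc A) A) (Bc A (Tc A) (cc A)) f) -
            algebraMap A B (f (kap A B hB (_root_.ConnectedComponents.mk y)))) =
          φ (algebraMap (LocallyConstant (Tc A) A) (Bc A (Tc A) (cc A))
            (LocallyConstant.charFn A hU *
              (f - algebraMap A (LocallyConstant (Tc A) A)
                (f (kap A B hB (_root_.ConnectedComponents.mk y)))))) := by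
        rw [map_mul, map_mul, map_sub, map_sub,
          ← IsScalarTower.algebraMap_apply A (LocallyConstant (Tc A) A) (Bc A (Tc A) (cc A)),
          φ.commutes]
      have hz : LocallyConstant.charFn A hU *
          (f - algebraMap A (LocallyConstant (Tc A) A)
            (f (kap A B hB (_root_.ConnectedComponents.mk y)))) = 0 := by
        ext t
        change LocallyConstant.charFn A hU t *
          (f t - f (kap A B hB (_root_.ConnectedComponents.mk y))) = 0
        by_cases ht : t ∈ f ⁻¹' {f (kap A B hB (_root_.ConnectedComponents.mk y))}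
        · have ht' : f t = f (kap A B hB (_root_.ConnectedComponents.mk y)) := ht
          rw [ht', sub_self, mul_zero]
        · rw [chi_notMem hU ht, zero_mul]
      rw [e1, hz, map_zero, map_zero]

end

theorem main0695 (A : Type u) [CommRing A] :
    ∃ (Aw : Type u) (_ : CommRing Aw) (_ : Algebra A Aw),
      Module.FaithfullyFlat A Aw ∧ EtPBC.IsIndZariski A Aw ∧ ProEtW.IsWLocal (PrimeSpectrum Aw) ∧
      ∀ (B : Type u) [CommRing B] [Algebra A B], ProEtW.IsWLocal (PrimeSpectrum B) →
        ∃! φ : Aw →ₐ[A] B, ProEtW.IsWLocalMap (PrimeSpectrum.comap φ.toRingHom) := by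
  have hc := cc_clopen A
  have hsurj := cc_surjective A
  refine ⟨Bc A (Tc A) (cc A), inferInstance, inferInstance, faithfullyFlat_Bc (cc A) hc hsurj,
    isIndZariski_Bc A (Tc A) (cc A), isWLocal (cc A) hc, ?_⟩
  intro B _ _ hB
  exact existsUnique_phi A B hB

end Groth.Agent.Lib.Helper29.Main0695
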