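import Mathlib
import Groth.Prelude.Def_ProEtS
import Groth.Prelude.Def_PBC
import Groth.Agent.Lib.Helper29.ProEtWC

/-!
# Sheafification on affine weakly contractible objects of the pro-étale site (helper29)
-/

set_option autoImplicit false
set_option linter.style.haveILetI false
set_option linter.unusedSectionVars false
set_option maxHeartbeats 1600000

universe u

open CategoryTheory CategoryTheory.Limits AlgebraicGeometry Opposite TensorProduct

namespace Groth.Agent.Lib.Helper29.ProEtSheafifyWC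

open Groth.Agent.Lib.Helper5.ProEtQcqs Groth.Agent.Lib.Helper29.ProEtClopen
  Groth.Agent.Lib.Helper29.ProEtWC

set_option backward.isDefEq.respectTransparency.types false in
/-- A finite disjoint open cover of `U` exhibits `U` as a coproduct in `X_proet`. -/
lemma clopen_cofan_isColimit {X : Scheme.{u}} (U : X.ProEt) {n : ℕ} (W : Fin n → U.left.Opens)
    (hdisj : Pairwise (fun k l => Disjoint (W k : Set ↥U.left) (W l)))
    (hcover : (⋃ k, (W k : Set ↥U.left)) = Set.univ) :
    Nonempty (IsColimit (Cofan.mk U (fun k =>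
      (MorphismProperty.Over.homMk (W k).ι : Scheme.ProEt.mk ((W k).ι ≫ U.hom) ⟶ U)))) := by
  have hWcover : TopologicalSpace.IsOpenCover W := by
    apply TopologicalSpace.IsOpenCover.mk
    apply TopologicalSpace.Opens.ext
    rw [TopologicalSpace.Opens.coe_iSup, hcover]
    rfl
  let 𝒲 : U.left.OpenCover := U.left.openCoverOfIsOpenCover W hWcover
  let Wob : Fin n → X.ProEt := fun k => Scheme.ProEt.mk ((W k).ι ≫ U.hom)
  let ιk : ∀ k, Wob k ⟶ U := fun k => MorphismProperty.Over.homMk (W k).ι
  have hcompat : ∀ (t : Cofan Wob) (k l : Fin n),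
      pullback.fst (𝒲.f k) (𝒲.f l) ≫ ((t.inj k).left : 𝒲.X k ⟶ t.pt.left) =
      pullback.snd (𝒲.f k) (𝒲.f l) ≫ ((t.inj l).left : 𝒲.X l ⟶ t.pt.left) := by
    intro t k l
    rcases eq_or_ne k l with rfl | hkl
    · have : pullback.fst (𝒲.f k) (𝒲.f k) = pullback.snd (𝒲.f k) (𝒲.f k) := by
        rw [← cancel_mono (𝒲.f k)]
        exact pullback.condition
      rw [this]
    · haveI : IsEmpty ↑(pullback (𝒲.f k) (𝒲.f l)) := by
        refine ⟨fun z => ?_⟩
        have h1 : (pullback.fst (𝒲.f k) (𝒲.f l) ≫ 𝒲.f k) z ∈ (W k : Set ↥U.left) := by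
          rw [Scheme.Hom.comp_apply]
          have h0 : (W k).ι ((pullback.fst (𝒲.f k) (𝒲.f l)) z) ∈ Set.range (W k).ι := ⟨_, rfl⟩
          rw [Scheme.Opens.range_ι] at h0
          exact h0
        have h2 : (pullback.fst (𝒲.f k) (𝒲.f l) ≫ 𝒲.f k) z ∈ (W l : Set ↥U.left) := by
          rw [pullback.condition, Scheme.Hom.comp_apply]
          have h0 : (W l).ι ((pullback.snd (𝒲.f k) (𝒲.f l)) z) ∈ Set.range (W l).ι := ⟨_, rfl⟩
          rw [Scheme.Opens.range_ι] at h0
          exact h0
        exact Set.disjoint_left.mp (hdisj hkl) h1 h2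
      exact (isInitialOfIsEmpty (X := pullback (𝒲.f k) (𝒲.f l))).hom_ext _ _
  let glue : ∀ t : Cofan Wob, U.left ⟶ t.pt.left := fun t =>
    𝒲.glueMorphisms (fun k => ((t.inj k).left : 𝒲.X k ⟶ t.pt.left)) (hcompat t)
  have hglue : ∀ (t : Cofan Wob) (k : Fin n), (W k).ι ≫ glue t = (t.inj k).left := by
    intro t k
    exact Scheme.Cover.ι_glueMorphisms 𝒲 _ (hcompat t) k
  have hglue_hom : ∀ t : Cofan Wob, glue t ≫ t.pt.hom = U.hom := by
    intro t
    refine 𝒲.hom_ext _ _ (fun k => ?_)
    change (W k).ι ≫ glue t ≫ t.pt.hom = (W k).ι ≫ U.hom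
    rw [← Category.assoc, hglue t k]
    exact MorphismProperty.Over.w (t.inj k)
  refine ⟨Cofan.IsColimit.mk _
    (fun t => MorphismProperty.Over.homMk (glue t) (hglue_hom t) trivial) ?_ ?_⟩
  · intro t j
    apply MorphismProperty.Over.Hom.ext
    exact hglue t j
  · intro t m hm
    apply MorphismProperty.Over.Hom.ext
    refine 𝒲.hom_ext _ _ (fun k => ?_)
    change (W k).ι ≫ m.left = (W k).ι ≫ glue t
    rw [hglue t k]
    exact congrArg (fun t => t.left) (hm k)

set_option backward.isDefEq.respectTransparency.types false in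
/-- A finite-product-preserving presheaf turns finite clopen decompositions into products. -/
lemma existsUnique_of_clopen {X : Scheme.{u}} (F : X.ProEtᵒᵖ ⥤ Type (u + 1))
    [PreservesFiniteProducts F] (U : X.ProEt) {n : ℕ} (W : Fin n → U.left.Opens)
    (hdisj : Pairwise (fun k l => Disjoint (W k : Set ↥U.left) (W l)))
    (hcover : (⋃ k, (W k : Set ↥U.left)) = Set.univ)
    (s : ∀ k, F.obj (op (Scheme.ProEt.mk ((W k).ι ≫ U.hom)))) :
    ∃! x : F.obj (op U), ∀ k, F.map (MorphismProperty.Over.homMk (W k).ι :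
      Scheme.ProEt.mk ((W k).ι ≫ U.hom) ⟶ U).op x = s k := by
  obtain ⟨hc⟩ := clopen_cofan_isColimit U W hdisj hcover
  have hl := Cofan.IsColimit.op hc
  haveI : PreservesLimitsOfShape (Discrete (Fin n)) F := PreservesFiniteProducts.preserves n
  have hl' := isLimitOfPreserves F hl
  have hsec : (fun j : Discrete (Fin n) => s j.as) ∈
      (Discrete.functor (fun k => op (Scheme.ProEt.mk ((W k).ι ≫ U.hom))) ⋙ F).sections := by
    intro j j' f
    obtain ⟨j⟩ := j
    obtain ⟨j'⟩ := j'
    have hjj : j = j' := Discrete.eq_of_hom f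
    subst hjj
    have hf : f = 𝟙 _ := Subsingleton.elim _ _
    subst hf
    simp
  obtain ⟨x, hx, hux⟩ := (Types.isLimit_iff _).mp ⟨hl'⟩ _ hsec
  refine ⟨x, fun k => hx ⟨k⟩, fun y hy => hux y (fun j => ?_)⟩
  obtain ⟨k⟩ := j
  exact hy k

set_option backward.isDefEq.respectTransparency.types false in
/-- The inclusions of a finite clopen cover generate a covering sieve. -/
lemma clopen_generate_mem {X : Scheme.{u}} (U : X.ProEt) [IsAffine U.left] {n : ℕ}
    (W : Fin n → U.left.Opens) (hclopen : ∀ k, IsClopen ((W k : Set ↥U.left)))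
    (hcover : (⋃ k, (W k : Set ↥U.left)) = Set.univ) :
    Sieve.generate (Presieve.ofArrows (fun k => Scheme.ProEt.mk ((W k).ι ≫ U.hom))
      (fun k => (MorphismProperty.Over.homMk (W k).ι :
        Scheme.ProEt.mk ((W k).ι ≫ U.hom) ⟶ U))) ∈ Scheme.ProEt.topology X U := by
  let Wob : Fin n → X.ProEt := fun k => Scheme.ProEt.mk ((W k).ι ≫ U.hom)
  let ιk : ∀ k, Wob k ⟶ U := fun k => MorphismProperty.Over.homMk (W k).ι
  have hcompactW : ∀ k, CompactSpace ↥(W k) := fun k =>
    isCompact_iff_compactSpace.mp (hclopen k).1.isCompact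
  have hcovers : ∀ x : U.left, ∃ k, ∃ y : ↥(W k : Scheme.{u}), (W k).ι y = x := by
    intro x
    have hx : x ∈ ⋃ k, (W k : Set ↥U.left) := by rw [hcover]; trivial
    obtain ⟨k, hk⟩ := Set.mem_iUnion.mp hx
    have hk' : x ∈ Set.range (W k).ι := by rw [Scheme.Opens.range_ι]; exact hk
    obtain ⟨y, hy⟩ := hk'
    exact ⟨k, y, hy⟩
  let 𝒞 : Scheme.Cover (Scheme.precoverage weMP.{u}) U.left :=
    Scheme.Cover.mkOfCovers (Fin n) (fun k => ((W k : U.left.Opens) : Scheme.{u}))
      (fun k => (W k).ι) hcovers (fun k => (inferInstance : WeaklyEtale (W k).ι))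
  apply Precoverage.generate_mem_toGrothendieck
  change (Presieve.ofArrows Wob ιk).map (toSch X) ∈ Scheme.proetalePrecoverage U.left
  rw [Presieve.map_ofArrows]
  haveI : ∀ k, QuasiCompact (𝒞.f k) := fun k => by
    haveI : CompactSpace ↥((W k : U.left.Opens) : Scheme.{u}) := hcompactW k
    exact quasiCompact_of_compactSpace (W k).ι
  haveI : Finite 𝒞.I₀ := (inferInstance : Finite (Fin n))
  have hqc : QuasiCompactCover 𝒞.toPreZeroHypercover := QuasiCompactCover.of_finite
  exact ⟨Scheme.presieve₀_mem_qcPrecoverage_iff.2 hqc, 𝒞.mem₀⟩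

set_option backward.isDefEq.respectTransparency.types false in
theorem main0725 {X : Scheme.{u}} (F : X.ProEtᵒᵖ ⥤ Type (u + 1))
    [PreservesFiniteProducts F] (W : X.ProEt) [IsAffine W.left] (hW : ProEtS.IsWC W) :
    Function.Bijective ((toSheafify (Scheme.ProEt.topology X) F).app (op W)) := by
  have hA : EtPBC.IsWContractible ↥(Γ(W.left, ⊤)) := wc_backward W hW
  haveI hinj : Presheaf.IsLocallyInjective (Scheme.ProEt.topology X)
      (toSheafify (Scheme.ProEt.topology X) F) := inferInstance
  haveI hsurj : Presheaf.IsLocallySurjective (Scheme.ProEt.topology X)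
      (toSheafify (Scheme.ProEt.topology X) F) := inferInstance
  constructor
  · intro x y hxy
    have hmem : Presheaf.equalizerSieve (F := F) (X := op W) x y ∈ Scheme.ProEt.topology X W :=
      Presheaf.equalizerSieve_mem (Scheme.ProEt.topology X)
        (toSheafify (Scheme.ProEt.topology X) F) x y hxy
    obtain ⟨n, Wk, hclopen, hdisj, hcover, hR⟩ := forward W hA _ hmem
    obtain ⟨z, hz, huz⟩ := existsUnique_of_clopen F W Wk hdisj hcover
      (fun k => F.map (MorphismProperty.Over.homMk (Wk k).ι :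
        Scheme.ProEt.mk ((Wk k).ι ≫ W.hom) ⟶ W).op x)
    exact (huz x (fun k => rfl)).trans (huz y (fun k => (hR k).symm)).symm
  · intro t
    have hmem : Presheaf.imageSieve (toSheafify (Scheme.ProEt.topology X) F) t ∈
        Scheme.ProEt.topology X W :=
      Presheaf.imageSieve_mem (Scheme.ProEt.topology X)
        (toSheafify (Scheme.ProEt.topology X) F) t
    obtain ⟨n, Wk, hclopen, hdisj, hcover, hR⟩ := forward W hA _ hmem
    let Wob : Fin n → X.ProEt := fun k => Scheme.ProEt.mk ((Wk k).ι ≫ W.hom)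
    let ιk : ∀ k, Wob k ⟶ W := fun k => MorphismProperty.Over.homMk (Wk k).ι
    have hR' : ∀ k, ∃ t' : F.obj (op (Wob k)),
        (toSheafify (Scheme.ProEt.topology X) F).app (op (Wob k)) t' =
          (sheafify (Scheme.ProEt.topology X) F).map (ιk k).op t := fun k => hR k
    choose sk hsk using hR'
    obtain ⟨s, hs, -⟩ := existsUnique_of_clopen F W Wk hdisj hcover sk
    refine ⟨s, ?_⟩
    have hcovW := clopen_generate_mem W Wk hclopen hcover
    have hGsh : Presieve.IsSheaf (Scheme.ProEt.topology X)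
        (sheafify (Scheme.ProEt.topology X) F) :=
      (isSheaf_iff_isSheaf_of_type _ _).1 ((presheafToSheaf (Scheme.ProEt.topology X) _).obj F).2
    have hG : Presieve.IsSheafFor (sheafify (Scheme.ProEt.topology X) F)
        (Presieve.ofArrows Wob ιk) :=
      (Presieve.isSheafFor_iff_generate _).mpr (hGsh _ hcovW)
    refine hG.isSeparatedFor.ext (fun Y f hf => ?_)
    obtain ⟨k⟩ := hf
    have hnat := NatTrans.naturality_apply (toSheafify (Scheme.ProEt.topology X) F) (ιk k).op s
    have hsk' : F.map (ιk k).op s = sk k := hs k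
    rw [← hnat, hsk']
    exact hsk k

end Groth.Agent.Lib.Helper29.ProEtSheafifyWC
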