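import Mathlib
import Groth.Prelude.Def_ProEtS
import Groth.Prelude.Def_PBC
import Groth.Agent.Lib.Helper29.ProEtSheafifyWC
import Groth.Agent.Lib.Helper15.ProEtCont

/-!
# Left Kan extension along base change on affine weakly contractible objects (helper29)
-/

set_option autoImplicit false
set_option linter.style.haveILetI false
set_option linter.unusedSectionVars false
set_option maxHeartbeats 1600000
set_option backward.isDefEq.respectTransparency.types false

universe u

open CategoryTheory CategoryTheory.Limits AlgebraicGeometry Opposite TensorProduct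

namespace Groth.Agent.Lib.Helper29.ProEtLanWC

open Groth.Agent.Lib.Helper5.ProEtQcqs Groth.Agent.Lib.Helper29.ProEtClopen
  Groth.Agent.Lib.Helper29.ProEtWC Groth.Agent.Lib.Helper29.ProEtSheafifyWC

section Sig

variable {Y : Scheme.{u}} {n : ℕ} (Vk : Fin n → Y.ProEt)

lemma weaklyEtale_sigmaDesc :
    WeaklyEtale (Sigma.desc (fun k => (Vk k).hom) : (∐ fun k => (Vk k).left) ⟶ Y) :=
  IsZariskiLocalAtSource.sigmaDesc (P := @WeaklyEtale) (fun k => (Vk k).prop)

/-- Finite disjoint union in the pro-étale site. -/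
noncomputable def sigObj : Y.ProEt :=
  haveI := weaklyEtale_sigmaDesc Vk
  Scheme.ProEt.mk (Sigma.desc (fun k => (Vk k).hom) : (∐ fun k => (Vk k).left) ⟶ Y)

noncomputable def sigInj (k : Fin n) : Vk k ⟶ sigObj Vk :=
  MorphismProperty.Over.homMk (Sigma.ι (fun k => (Vk k).left) k) (Sigma.ι_desc _ _) trivial

noncomputable def sigDesc {T : Y.ProEt} (v : ∀ k, Vk k ⟶ T) : sigObj Vk ⟶ T :=
  MorphismProperty.Over.homMk (Sigma.desc (fun k => (v k).left)) (by
    refine Sigma.hom_ext _ _ (fun k => ?_)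
    have h1 : Sigma.ι (fun k => (Vk k).left) k ≫ Sigma.desc (fun k => (v k).left) = (v k).left :=
      Sigma.ι_desc _ _
    have h2 : Sigma.ι (fun k => (Vk k).left) k ≫
        (Sigma.desc (fun k => (Vk k).hom) : (∐ fun k => (Vk k).left) ⟶ Y) = (Vk k).hom :=
      Sigma.ι_desc _ _
    calc Sigma.ι (fun k => (Vk k).left) k ≫ Sigma.desc (fun k => (v k).left) ≫ T.hom
        = (Sigma.ι (fun k => (Vk k).left) k ≫ Sigma.desc (fun k => (v k).left)) ≫ T.hom :=
          (Category.assoc _ _ _).symm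
      _ = (v k).left ≫ T.hom := by rw [h1]
      _ = (Vk k).hom := MorphismProperty.Over.w (v k)
      _ = _ := h2.symm) trivial

lemma sigInj_sigDesc {T : Y.ProEt} (v : ∀ k, Vk k ⟶ T) (k : Fin n) :
    sigInj Vk k ≫ sigDesc Vk v = v k := by
  apply MorphismProperty.Over.Hom.ext
  exact Sigma.ι_desc _ _

lemma sig_generate_mem :
    Sieve.generate (Presieve.ofArrows Vk (sigInj Vk)) ∈ Scheme.ProEt.topology Y (sigObj Vk) := by
  let g : Fin n → Scheme.{u} := fun k => (Vk k).left
  have hcovers : ∀ x : ↥(∐ g), ∃ k, ∃ y : ↥(g k), Sigma.ι g k y = x := fun x =>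
    (sigmaOpenCover g).exists_eq x
  let 𝒞 : Scheme.Cover (Scheme.precoverage weMP.{u}) (∐ g) :=
    Scheme.Cover.mkOfCovers (Fin n) g (fun k => Sigma.ι g k) hcovers
      (fun k => (inferInstance : WeaklyEtale (Sigma.ι g k)))
  apply Precoverage.generate_mem_toGrothendieck
  change (Presieve.ofArrows Vk (sigInj Vk)).map (toSch Y) ∈
    Scheme.proetalePrecoverage (sigObj Vk).left
  rw [Presieve.map_ofArrows]
  have hqc : QuasiCompactCover 𝒞.toPreZeroHypercover :=
    QuasiCompactCover.of_isOpenMap (fun k => (Sigma.ι g k).isOpenEmbedding.isOpenMap)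
  exact ⟨Scheme.presieve₀_mem_qcPrecoverage_iff.2 hqc, 𝒞.mem₀⟩

lemma sig_existsUnique (P : Y.ProEtᵒᵖ ⥤ Type (u + 1))
    (hP : Presieve.IsSheaf (Scheme.ProEt.topology Y) P) (p : ∀ k, P.obj (op (Vk k))) :
    ∃! x : P.obj (op (sigObj Vk)), ∀ k, P.map (sigInj Vk k).op x = p k := by
  let g : Fin n → Scheme.{u} := fun k => (Vk k).left
  have hcov := sig_generate_mem Vk
  have hPF : Presieve.IsSheafFor P (Presieve.ofArrows Vk (sigInj Vk)) :=
    (Presieve.isSheafFor_iff_generate _).mpr (hP _ hcov)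
  have hcompat : Presieve.Arrows.Compatible P (sigInj Vk) p := by
    intro i j Z gi gj hij
    rcases eq_or_ne i j with rfl | hne
    · have hgg : gi = gj := by
        apply MorphismProperty.Over.Hom.ext
        have h1 : gi.left ≫ Sigma.ι g i = gj.left ≫ Sigma.ι g i :=
          congrArg (fun t => t.left) hij
        exact (cancel_mono (Sigma.ι g i)).mp h1
      rw [hgg]
    · haveI : IsEmpty Z.left := by
        refine ⟨fun z => ?_⟩
        have h1 : gi.left ≫ Sigma.ι g i = gj.left ≫ Sigma.ι g j :=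
          congrArg (fun t => t.left) hij
        have h2 : Sigma.ι g i (gi.left z) = Sigma.ι g j (gj.left z) := by
          rw [← Scheme.Hom.comp_apply, ← Scheme.Hom.comp_apply, h1]
        have := (sigmaι_eq_iff g i j _ _).mp h2
        exact hne (congrArg Sigma.fst this)
      have hbot : (⊥ : Sieve Z) ∈ Scheme.ProEt.topology Y Z := Scheme.ProEt.bot_mem_topology Z
      exact (hP.isSeparated _ hbot).ext (fun Y f hf => False.elim hf)
  exact (Presieve.isSheafFor_arrows_iff _ _).mp hPF p hcompat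

end Sig

section Lan

variable {X Y : Scheme.{u}} (f : X ⟶ Y) (P : Y.ProEtᵒᵖ ⥤ Type (u + 1))

/-- The left Kan extension presheaf. -/
noncomputable abbrev LQ : X.ProEtᵒᵖ ⥤ Type (u + 1) := (ProEtS.bcP f).op.leftKanExtension P

noncomputable abbrev Leps : P ⟶ (ProEtS.bcP f).op ⋙ LQ f P :=
  (ProEtS.bcP f).op.leftKanExtensionUnit P

/-- The class of `(V, a, p)` in the left Kan extension. -/
noncomputable def cls (W : X.ProEt) (V : Y.ProEt) (a : W ⟶ (ProEtS.bcP f).obj V)
    (p : P.obj (op V)) : (LQ f P).obj (op W) :=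
  (LQ f P).map a.op ((Leps f P).app (op V) p)

lemma cls_restrict {W W' : X.ProEt} (h : W' ⟶ W) (V : Y.ProEt) (a : W ⟶ (ProEtS.bcP f).obj V)
    (p : P.obj (op V)) :
    (LQ f P).map h.op (cls f P W V a p) = cls f P W' V (h ≫ a) p := by
  unfold cls
  rw [op_comp, Functor.map_comp_apply]

lemma cls_change {W : X.ProEt} {V V' : Y.ProEt} (v : V' ⟶ V) (a' : W ⟶ (ProEtS.bcP f).obj V')
    (p : P.obj (op V)) :
    cls f P W V (a' ≫ (ProEtS.bcP f).map v) p = cls f P W V' a' (P.map v.op p) := by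
  have hnat := NatTrans.naturality_apply (Leps f P) v.op p
  unfold cls
  rw [hnat, op_comp, Functor.map_comp_apply]
  rfl

lemma cls_surj (W : X.ProEt) (z : (LQ f P).obj (op W)) :
    ∃ (V : Y.ProEt) (a : W ⟶ (ProEtS.bcP f).obj V) (p : P.obj (op V)), cls f P W V a p = z := by
  have hcol : IsColimit ((Functor.LeftExtension.mk _ (Leps f P)).coconeAt (op W)) :=
    Functor.isPointwiseLeftKanExtensionLeftKanExtensionUnit (ProEtS.bcP f).op P (op W)
  obtain ⟨g, p, hp⟩ := Types.jointly_surjective_of_isColimit hcol z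
  exact ⟨g.left.unop, g.hom.unop, p, hp⟩

lemma cls_eq {W : X.ProEt} {V V' : Y.ProEt} (a : W ⟶ (ProEtS.bcP f).obj V)
    (a' : W ⟶ (ProEtS.bcP f).obj V') (p : P.obj (op V)) (p' : P.obj (op V'))
    (h : cls f P W V a p = cls f P W V' a' p') :
    ∃ (V'' : Y.ProEt) (a'' : W ⟶ (ProEtS.bcP f).obj V'') (v : V'' ⟶ V) (v' : V'' ⟶ V'),
      a'' ≫ (ProEtS.bcP f).map v = a ∧ a'' ≫ (ProEtS.bcP f).map v' = a' ∧
        P.map v.op p = P.map v'.op p' := by
  haveI : RepresentablyFlat (ProEtS.bcP f) := flat_of_preservesFiniteLimits _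
  haveI : IsFiltered (CostructuredArrow (ProEtS.bcP f).op (op W)) :=
    IsFiltered.of_equivalence (structuredArrowOpEquivalence (ProEtS.bcP f) W)
  have hcol : IsColimit ((Functor.LeftExtension.mk _ (Leps f P)).coconeAt (op W)) :=
    Functor.isPointwiseLeftKanExtensionLeftKanExtensionUnit (ProEtS.bcP f).op P (op W)
  let gi : CostructuredArrow (ProEtS.bcP f).op (op W) :=
    CostructuredArrow.mk (Y := op V) (S := (ProEtS.bcP f).op) (T := op W) a.op
  let gj : CostructuredArrow (ProEtS.bcP f).op (op W) :=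
    CostructuredArrow.mk (Y := op V') (S := (ProEtS.bcP f).op) (T := op W) a'.op
  have h' : ((Functor.LeftExtension.mk _ (Leps f P)).coconeAt (op W)).ι.app gi p =
      ((Functor.LeftExtension.mk _ (Leps f P)).coconeAt (op W)).ι.app gj p' := h
  obtain ⟨k, φ, ψ, hk⟩ := (Types.FilteredColimit.isColimit_eq_iff _ hcol).mp h'
  refine ⟨k.left.unop, k.hom.unop, φ.left.unop, ψ.left.unop, ?_, ?_, hk⟩
  · exact congrArg Quiver.Hom.unop (CostructuredArrow.w φ)
  · exact congrArg Quiver.Hom.unop (CostructuredArrow.w ψ)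

end Lan

/-- The left Kan extension of a sheaf along base change turns finite clopen decompositions into
products. -/
lemma lan_existsUnique_of_clopen {X Y : Scheme.{u}} (f : X ⟶ Y) (P : Y.ProEtᵒᵖ ⥤ Type (u + 1))
    (hP : Presieve.IsSheaf (Scheme.ProEt.topology Y) P) (W : X.ProEt) {n : ℕ}
    (Wk : Fin n → W.left.Opens)
    (hdisj : Pairwise (fun k l => Disjoint (Wk k : Set ↥W.left) (Wk l)))
    (hcover : (⋃ k, (Wk k : Set ↥W.left)) = Set.univ)
    (s : ∀ k, (LQ f P).obj (op (Scheme.ProEt.mk ((Wk k).ι ≫ W.hom)))) :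
    ∃! x : (LQ f P).obj (op W), ∀ k, (LQ f P).map (MorphismProperty.Over.homMk (Wk k).ι :
      Scheme.ProEt.mk ((Wk k).ι ≫ W.hom) ⟶ W).op x = s k := by
  obtain ⟨hc⟩ := clopen_cofan_isColimit W Wk hdisj hcover
  let Wob : Fin n → X.ProEt := fun k => Scheme.ProEt.mk ((Wk k).ι ≫ W.hom)
  let ιk : ∀ k, Wob k ⟶ W := fun k => MorphismProperty.Over.homMk (Wk k).ι
  have hfac : ∀ {T : X.ProEt} (b : ∀ k, Wob k ⟶ T) (k : Fin n),
      ιk k ≫ Cofan.IsColimit.desc hc b = b k := fun b k => Cofan.IsColimit.fac hc b k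
  have hext : ∀ {T : X.ProEt} (b b' : W ⟶ T), (∀ k, ιk k ≫ b = ιk k ≫ b') → b = b' :=
    fun b b' hbb => Cofan.IsColimit.hom_ext hc b b' hbb
  -- existence
  have hex : ∃ x : (LQ f P).obj (op W), ∀ k, (LQ f P).map (ιk k).op x = s k := by
    have hs : ∀ k, ∃ (V : Y.ProEt) (a : Wob k ⟶ (ProEtS.bcP f).obj V) (p : P.obj (op V)),
        cls f P (Wob k) V a p = s k := fun k => cls_surj f P (Wob k) (s k)
    choose Vk ak pk hk using hs
    obtain ⟨p, hp, -⟩ := sig_existsUnique Vk P hP pk
    let a : W ⟶ (ProEtS.bcP f).obj (sigObj Vk) :=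
      Cofan.IsColimit.desc hc (fun k => ak k ≫ (ProEtS.bcP f).map (sigInj Vk k))
    refine ⟨cls f P W (sigObj Vk) a p, fun k => ?_⟩
    rw [cls_restrict, hfac, cls_change, hp k]
    exact hk k
  obtain ⟨x, hx⟩ := hex
  refine ⟨x, hx, ?_⟩
  -- uniqueness
  intro x' hx'
  obtain ⟨V, a, p, rfl⟩ := cls_surj f P W x
  obtain ⟨V', a', p', rfl⟩ := cls_surj f P W x'
  have hkk : ∀ k, cls f P (Wob k) V' (ιk k ≫ a') p' = cls f P (Wob k) V (ιk k ≫ a) p := by
    intro k
    rw [← cls_restrict, ← cls_restrict]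
    exact (hx' k).trans (hx k).symm
  have hR4 := fun k => cls_eq f P (ιk k ≫ a') (ιk k ≫ a) p' p (hkk k)
  choose Vk ak vk' vk h1 h2 h3 using hR4
  let a'' : W ⟶ (ProEtS.bcP f).obj (sigObj Vk) :=
    Cofan.IsColimit.desc hc (fun k => ak k ≫ (ProEtS.bcP f).map (sigInj Vk k))
  let v : sigObj Vk ⟶ V := sigDesc Vk vk
  let v' : sigObj Vk ⟶ V' := sigDesc Vk vk'
  have ha : a'' ≫ (ProEtS.bcP f).map v = a := by
    refine hext _ _ (fun k => ?_)
    rw [← Category.assoc, hfac, Category.assoc, ← Functor.map_comp, sigInj_sigDesc]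
    exact h2 k
  have ha' : a'' ≫ (ProEtS.bcP f).map v' = a' := by
    refine hext _ _ (fun k => ?_)
    rw [← Category.assoc, hfac, Category.assoc, ← Functor.map_comp, sigInj_sigDesc]
    exact h1 k
  have hpp : P.map v'.op p' = P.map v.op p := by
    obtain ⟨q, -, hq⟩ := sig_existsUnique Vk P hP (fun k => P.map (vk k).op p)
    have e1 : P.map v'.op p' = q := by
      refine hq _ (fun k => ?_)
      rw [← Functor.map_comp_apply, ← op_comp, sigInj_sigDesc]
      exact h3 k
    have e2 : P.map v.op p = q := by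
      refine hq _ (fun k => ?_)
      rw [← Functor.map_comp_apply, ← op_comp, sigInj_sigDesc]
    rw [e1, e2]
  calc cls f P W V' a' p' = cls f P W V' (a'' ≫ (ProEtS.bcP f).map v') p' := by rw [ha']
    _ = cls f P W (sigObj Vk) a'' (P.map v'.op p') := cls_change f P v' a'' p'
    _ = cls f P W (sigObj Vk) a'' (P.map v.op p) := by rw [hpp]
    _ = cls f P W V (a'' ≫ (ProEtS.bcP f).map v) p := (cls_change f P v a'' p).symm
    _ = cls f P W V a p := by rw [ha]

/-- Generalisation of `main0725`: only unique gluing along finite clopen decompositions of `W` is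
needed. -/
theorem bijective_of_clopen_glue {X : Scheme.{u}} (Q : X.ProEtᵒᵖ ⥤ Type (u + 1))
    (W : X.ProEt) [IsAffine W.left] (hW : ProEtS.IsWC W)
    (H : ∀ {n : ℕ} (Wk : Fin n → W.left.Opens),
      Pairwise (fun k l => Disjoint (Wk k : Set ↥W.left) (Wk l)) →
      (⋃ k, (Wk k : Set ↥W.left)) = Set.univ →
      ∀ s : ∀ k, Q.obj (op (Scheme.ProEt.mk ((Wk k).ι ≫ W.hom))),
      ∃! x : Q.obj (op W), ∀ k, Q.map (MorphismProperty.Over.homMk (Wk k).ι :
        Scheme.ProEt.mk ((Wk k).ι ≫ W.hom) ⟶ W).op x = s k) :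
    Function.Bijective ((toSheafify (Scheme.ProEt.topology X) Q).app (op W)) := by
  have hA : EtPBC.IsWContractible ↥(Γ(W.left, ⊤)) := wc_backward W hW
  haveI hinj : Presheaf.IsLocallyInjective (Scheme.ProEt.topology X)
      (toSheafify (Scheme.ProEt.topology X) Q) := inferInstance
  haveI hsurj : Presheaf.IsLocallySurjective (Scheme.ProEt.topology X)
      (toSheafify (Scheme.ProEt.topology X) Q) := inferInstance
  constructor
  · intro x y hxy
    have hmem : Presheaf.equalizerSieve (F := Q) (X := op W) x y ∈ Scheme.ProEt.topology X W :=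
      Presheaf.equalizerSieve_mem (Scheme.ProEt.topology X)
        (toSheafify (Scheme.ProEt.topology X) Q) x y hxy
    obtain ⟨n, Wk, hclopen, hdisj, hcover, hR⟩ := forward W hA _ hmem
    obtain ⟨z, hz, huz⟩ := H Wk hdisj hcover
      (fun k => Q.map (MorphismProperty.Over.homMk (Wk k).ι :
        Scheme.ProEt.mk ((Wk k).ι ≫ W.hom) ⟶ W).op x)
    exact (huz x (fun k => rfl)).trans (huz y (fun k => (hR k).symm)).symm
  · intro t
    have hmem : Presheaf.imageSieve (toSheafify (Scheme.ProEt.topology X) Q) t ∈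
        Scheme.ProEt.topology X W :=
      Presheaf.imageSieve_mem (Scheme.ProEt.topology X)
        (toSheafify (Scheme.ProEt.topology X) Q) t
    obtain ⟨n, Wk, hclopen, hdisj, hcover, hR⟩ := forward W hA _ hmem
    let Wob : Fin n → X.ProEt := fun k => Scheme.ProEt.mk ((Wk k).ι ≫ W.hom)
    let ιk : ∀ k, Wob k ⟶ W := fun k => MorphismProperty.Over.homMk (Wk k).ι
    have hR' : ∀ k, ∃ t' : Q.obj (op (Wob k)),
        (toSheafify (Scheme.ProEt.topology X) Q).app (op (Wob k)) t' =
          (sheafify (Scheme.ProEt.topology X) Q).map (ιk k).op t := fun k => hR k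
    choose sk hsk using hR'
    obtain ⟨s, hs, -⟩ := H Wk hdisj hcover sk
    refine ⟨s, ?_⟩
    have hcovW := clopen_generate_mem W Wk hclopen hcover
    have hGsh : Presieve.IsSheaf (Scheme.ProEt.topology X)
        (sheafify (Scheme.ProEt.topology X) Q) :=
      (isSheaf_iff_isSheaf_of_type _ _).1 ((presheafToSheaf (Scheme.ProEt.topology X) _).obj Q).2
    have hG : Presieve.IsSheafFor (sheafify (Scheme.ProEt.topology X) Q)
        (Presieve.ofArrows Wob ιk) :=
      (Presieve.isSheafFor_iff_generate _).mpr (hGsh _ hcovW)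
    refine hG.isSeparatedFor.ext (fun Y f hf => ?_)
    obtain ⟨k⟩ := hf
    have hnat := NatTrans.naturality_apply (toSheafify (Scheme.ProEt.topology X) Q) (ιk k).op s
    have hsk' : Q.map (ιk k).op s = sk k := hs k
    rw [← hnat, hsk']
    exact hsk k

theorem main7285 {X Y : Scheme.{u}} (f : X ⟶ Y) [ProEtS.PCont f]
    (F : Sheaf (Scheme.ProEt.topology Y) (Type (u + 1))) (W : X.ProEt) [IsAffine W.left]
    (hW : ProEtS.IsWC W) :
    Function.Bijective
      ((toSheafify (Scheme.ProEt.topology X) ((ProEtS.bcP f).op.lan.obj F.obj)).app (op W)) := by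
  have hP : Presieve.IsSheaf (Scheme.ProEt.topology Y) F.obj :=
    (isSheaf_iff_isSheaf_of_type _ _).1 F.2
  exact bijective_of_clopen_glue (LQ f F.obj) W hW
    (fun Wk hdisj hcover s => lan_existsUnique_of_clopen f F.obj hP W Wk hdisj hcover s)

end Groth.Agent.Lib.Helper29.ProEtLanWC
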