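import Mathlib
import Groth.Prelude.Def_ProEtS
import Groth.Prelude.Def_PBC
import Groth.Agent.Lib.Helper29.ProEtWC
import Groth.Agent.Lib.Helper29.ProEtLanWC
import Groth.Agent.Lib.Helper29.Main7286

/-!
# S0713: every object of the pro-étale site has a weakly contractible cover (helper29)
-/

set_option autoImplicit false
set_option linter.style.haveILetI false
set_option linter.unusedSectionVars false
set_option maxHeartbeats 1600000
set_option backward.isDefEq.respectTransparency.types false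

universe u

open CategoryTheory CategoryTheory.Limits AlgebraicGeometry Opposite TensorProduct

namespace Groth.Agent.Lib.Helper29.Main0713

open Groth.Agent.Lib.Helper5.ProEtQcqs Groth.Agent.Lib.Helper29.ProEtClopen
  Groth.Agent.Lib.Helper29.ProEtWC Groth.Agent.Lib.Helper29.ProEtSheafifyWC
  Groth.Agent.Lib.Helper29.Main7286

section SigI

variable {Y : Scheme.{u}} {ι : Type u} (Vk : ι → Y.ProEt)

lemma weaklyEtale_sigmaDescI :
    WeaklyEtale (Sigma.desc (fun k => (Vk k).hom) : (∐ fun k => (Vk k).left) ⟶ Y) :=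
  IsZariskiLocalAtSource.sigmaDesc (P := @WeaklyEtale) (fun k => (Vk k).prop)

/-- Finite disjoint union in the pro-étale site. -/
noncomputable def sigObjI : Y.ProEt :=
  haveI := weaklyEtale_sigmaDescI Vk
  Scheme.ProEt.mk (Sigma.desc (fun k => (Vk k).hom) : (∐ fun k => (Vk k).left) ⟶ Y)

noncomputable def sigInjI (k : ι) : Vk k ⟶ sigObjI Vk :=
  MorphismProperty.Over.homMk (Sigma.ι (fun k => (Vk k).left) k) (Sigma.ι_desc _ _) trivial

noncomputable def sigDescI {T : Y.ProEt} (v : ∀ k, Vk k ⟶ T) : sigObjI Vk ⟶ T :=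
  MorphismProperty.Over.homMk (Sigma.desc (fun k => (v k).left)) (by
    refine Sigma.hom_ext _ _ (fun k => ?_)
    have h1 : Sigma.ι (fun k => (Vk k).left) k ≫ Sigma.desc (fun k => (v k).left) = (v k).left :=
      Sigma.ι_desc _ _
    have h2 : Sigma.ι (fun k => (Vk k).left) k ≫
        (Sigma.desc (fun k => (Vk k).hom) : (∐ fun k => (Vk k).left) ⟶ Y) = (Vk k).hom :=
      Sigma.ι_desc _ _
    calc Sigma.ι (fun k => (Vk k).left) k ≫ Sigma.desc (fun k => (v k).left) ≫ T.hom
        = (Sigma.ι (fun k => (Vk k).left) k ≫ Sigma.desc (fun k => (v k).left)) ≫ T.hom :=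
          (Category.assoc _ _ _).symm
      _ = (v k).left ≫ T.hom := by rw [h1]
      _ = (Vk k).hom := MorphismProperty.Over.w (v k)
      _ = _ := h2.symm) trivial

lemma sigInjI_sigDescI {T : Y.ProEt} (v : ∀ k, Vk k ⟶ T) (k : ι) :
    sigInjI Vk k ≫ sigDescI Vk v = v k := by
  apply MorphismProperty.Over.Hom.ext
  exact Sigma.ι_desc _ _

lemma sigI_generate_mem :
    Sieve.generate (Presieve.ofArrows Vk (sigInjI Vk)) ∈ Scheme.ProEt.topology Y (sigObjI Vk) := by
  let g : ι → Scheme.{u} := fun k => (Vk k).left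
  have hcovers : ∀ x : ↥(∐ g), ∃ k, ∃ y : ↥(g k), Sigma.ι g k y = x := fun x =>
    (sigmaOpenCover g).exists_eq x
  let 𝒞 : Scheme.Cover (Scheme.precoverage weMP.{u}) (∐ g) :=
    Scheme.Cover.mkOfCovers ι g (fun k => Sigma.ι g k) hcovers
      (fun k => (inferInstance : WeaklyEtale (Sigma.ι g k)))
  apply Precoverage.generate_mem_toGrothendieck
  change (Presieve.ofArrows Vk (sigInjI Vk)).map (toSch Y) ∈
    Scheme.proetalePrecoverage (sigObjI Vk).left
  rw [Presieve.map_ofArrows]
  have hqc : QuasiCompactCover 𝒞.toPreZeroHypercover :=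
    QuasiCompactCover.of_isOpenMap (fun k => (Sigma.ι g k).isOpenEmbedding.isOpenMap)
  exact ⟨Scheme.presieve₀_mem_qcPrecoverage_iff.2 hqc, 𝒞.mem₀⟩

lemma sigI_existsUnique (P : Y.ProEtᵒᵖ ⥤ Type (u + 1))
    (hP : Presieve.IsSheaf (Scheme.ProEt.topology Y) P) (p : ∀ k, P.obj (op (Vk k))) :
    ∃! x : P.obj (op (sigObjI Vk)), ∀ k, P.map (sigInjI Vk k).op x = p k := by
  let g : ι → Scheme.{u} := fun k => (Vk k).left
  have hcov := sigI_generate_mem Vk
  have hPF : Presieve.IsSheafFor P (Presieve.ofArrows Vk (sigInjI Vk)) :=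
    (Presieve.isSheafFor_iff_generate _).mpr (hP _ hcov)
  have hcompat : Presieve.Arrows.Compatible P (sigInjI Vk) p := by
    intro i j Z gi gj hij
    rcases eq_or_ne i j with rfl | hne
    · have hgg : gi = gj := by
        apply MorphismProperty.Over.Hom.ext
        have h1 : gi.left ≫ Sigma.ι g i = gj.left ≫ Sigma.ι g i :=
          congrArg (fun t => t.left) hij
        exact (cancel_mono (Sigma.ι g i)).mp h1
      rw [hgg]
    · haveI : IsEmpty Z.left := by
        refine ⟨fun z => ?_⟩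
        have h1 : gi.left ≫ Sigma.ι g i = gj.left ≫ Sigma.ι g j :=
          congrArg (fun t => t.left) hij
        have h2 : Sigma.ι g i (gi.left z) = Sigma.ι g j (gj.left z) := by
          rw [← Scheme.Hom.comp_apply, ← Scheme.Hom.comp_apply, h1]
        have := (sigmaι_eq_iff g i j _ _).mp h2
        exact hne (congrArg Sigma.fst this)
      have hbot : (⊥ : Sieve Z) ∈ Scheme.ProEt.topology Y Z := Scheme.ProEt.bot_mem_topology Z
      exact (hP.isSeparated _ hbot).ext (fun Y f hf => False.elim hf)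
  exact (Presieve.isSheafFor_arrows_iff _ _).mp hPF p hcompat

end SigI

theorem main0713 {X : Scheme.{u}} (U : X.ProEt) :
    ∃ (V : X.ProEt) (g : V ⟶ U),
      Sieve.generate (Presieve.singleton g) ∈ Scheme.ProEt.topology X U ∧ ProEtS.IsWC V := by
  obtain ⟨ι, Vi, gi, hcov, hV⟩ := main7286 U
  refine ⟨sigObjI Vi, sigDescI Vi gi, ?_, ?_⟩
  · refine GrothendieckTopology.superset_covering _ ?_ hcov
    rw [Sieve.generate_le_iff]
    rintro Z _ ⟨i⟩
    exact ⟨sigObjI Vi, sigInjI Vi i, sigDescI Vi gi, Presieve.singleton.mk,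
      sigInjI_sigDescI Vi gi i⟩
  · intro F G φ hepi t
    have hwc : ∀ i, ProEtS.IsWC (Vi i) := fun i => by
      haveI := (hV i).1
      exact wc_forward (Vi i) (hV i).2
    have hs : ∀ i, ∃ s : F.obj.obj (op (Vi i)),
        φ.hom.app (op (Vi i)) s = G.obj.map (sigInjI Vi i).op t :=
      fun i => hwc i F G φ hepi _
    choose s hs using hs
    have hFsh : Presieve.IsSheaf (Scheme.ProEt.topology X) F.obj :=
      (isSheaf_iff_isSheaf_of_type _ _).1 F.2
    have hGsh : Presieve.IsSheaf (Scheme.ProEt.topology X) G.obj :=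
      (isSheaf_iff_isSheaf_of_type _ _).1 G.2
    obtain ⟨x, hx, -⟩ := sigI_existsUnique Vi F.obj hFsh s
    refine ⟨x, ?_⟩
    obtain ⟨y, hy, hyu⟩ := sigI_existsUnique Vi G.obj hGsh
      (fun i => G.obj.map (sigInjI Vi i).op t)
    have h1 : φ.hom.app (op (sigObjI Vi)) x = y := hyu _ (fun i => by
      have hnat := NatTrans.naturality_apply φ.hom (sigInjI Vi i).op x
      rw [← hnat, hx i]
      exact hs i)
    have h2 : t = y := hyu _ (fun i => rfl)
    rw [h1, h2]

end Groth.Agent.Lib.Helper29.Main0713
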