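import Mathlib
import Groth.Prelude.Def_ProEtS
import Groth.Prelude.Def_PBC
import Groth.Agent.Lib.Helper8.Hzl.IndEtaleCat
import Groth.Agent.Lib.Helper29.ProEtWC
import Groth.Agent.Lib.Helper29.ProEtLanWC
import Groth.Agent.Lib.Helper29.WCover
import Groth.Agent.Lib.Helper29.Main7286

/-!
# S0714: quasi-compact objects of the pro-étale site have an affine weakly contractible cover
(helper29)
-/

set_option autoImplicit false
set_option linter.style.haveILetI false
set_option linter.unusedSectionVars false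
set_option maxHeartbeats 1600000
set_option backward.isDefEq.respectTransparency.types false

universe u

open CategoryTheory CategoryTheory.Limits AlgebraicGeometry Opposite TensorProduct

namespace Groth.Agent.Lib.Helper29.Main0714

open Groth.Agent.Lib.Helper5.ProEtQcqs Groth.Agent.Lib.Helper29.ProEtClopen
  Groth.Agent.Lib.Helper29.ProEtWC Groth.Agent.Lib.Helper29.ProEtLanWC
  Groth.Agent.Lib.Helper29.Main7286

/-- A finite affine open cover generates a covering sieve of the pro-étale site. -/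
lemma affine_fin_generate_mem {X : Scheme.{u}} (U : X.ProEt) {n : ℕ}
    (j : Fin n → U.left.affineOpenCover.I₀)
    (hcov : ∀ x : U.left, ∃ k, ∃ y, U.left.affineOpenCover.f (j k) y = x) :
    Sieve.generate (Presieve.ofArrows
      (fun k : Fin n => Scheme.ProEt.mk (U.left.affineOpenCover.f (j k) ≫ U.hom))
      (fun k => (MorphismProperty.Over.homMk (U.left.affineOpenCover.f (j k)) rfl trivial :
        Scheme.ProEt.mk (U.left.affineOpenCover.f (j k) ≫ U.hom) ⟶ U))) ∈
      Scheme.ProEt.topology X U := by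
  haveI : ∀ i, IsOpenImmersion (U.left.affineOpenCover.f i) :=
    fun i => U.left.affineOpenCover.map_prop i
  let 𝒞 : Scheme.Cover (Scheme.precoverage weMP.{u}) U.left :=
    Scheme.Cover.mkOfCovers (Fin n)
      (fun k => Spec (U.left.affineOpenCover.X (j k))) (fun k => U.left.affineOpenCover.f (j k))
      hcov
      (fun k => (inferInstance : WeaklyEtale (U.left.affineOpenCover.f (j k))))
  apply Precoverage.generate_mem_toGrothendieck
  change (Presieve.ofArrows
      (fun k : Fin n => Scheme.ProEt.mk (U.left.affineOpenCover.f (j k) ≫ U.hom))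
      (fun k => (MorphismProperty.Over.homMk (U.left.affineOpenCover.f (j k)) rfl trivial :
        Scheme.ProEt.mk (U.left.affineOpenCover.f (j k) ≫ U.hom) ⟶ U))).map (toSch X) ∈
      Scheme.proetalePrecoverage U.left
  rw [Presieve.map_ofArrows]
  have hqc : QuasiCompactCover 𝒞.toPreZeroHypercover :=
    QuasiCompactCover.of_isOpenMap
      (fun k => (U.left.affineOpenCover.f (j k)).isOpenEmbedding.isOpenMap)
  exact ⟨Scheme.presieve₀_mem_qcPrecoverage_iff.2 hqc, 𝒞.mem₀⟩

theorem main0714 {X : Scheme.{u}} (U : X.ProEt) [CompactSpace ↥U.left] :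
    ∃ (V : X.ProEt) (g : V ⟶ U),
      Sieve.generate (Presieve.singleton g) ∈ Scheme.ProEt.topology X U ∧ IsAffine V.left ∧
        ProEtS.IsWC V := by
  haveI : ∀ i, IsOpenImmersion (U.left.affineOpenCover.f i) :=
    fun i => U.left.affineOpenCover.map_prop i
  obtain ⟨t, ht⟩ := isCompact_univ.elim_finite_subcover
    (fun i : U.left.affineOpenCover.I₀ => Set.range (U.left.affineOpenCover.f i))
    (fun i => (U.left.affineOpenCover.f i).isOpenEmbedding.isOpen_range)
    (fun x _ => Set.mem_iUnion.mpr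
      ⟨U.left.affineOpenCover.idx x, U.left.affineOpenCover.covers x⟩)
  obtain ⟨n, j, hj⟩ : ∃ (n : ℕ) (j : Fin n → U.left.affineOpenCover.I₀),
      ∀ i ∈ t, ∃ k, j k = i := by
    refine ⟨t.card, fun k => (t.equivFin.symm k).1, fun i hi => ⟨t.equivFin ⟨i, hi⟩, ?_⟩⟩
    simp
  have hcov : ∀ x : U.left, ∃ k, ∃ y, U.left.affineOpenCover.f (j k) y = x := by
    intro x
    have hx := ht (Set.mem_univ x)
    simp only [Set.mem_iUnion] at hx
    obtain ⟨i, hi, y, hy⟩ := hx
    obtain ⟨k, rfl⟩ := hj i hi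
    exact ⟨k, y, hy⟩
  have hS := affine_fin_generate_mem U j hcov
  haveI hWkaff : ∀ k, IsAffine
      (Scheme.ProEt.mk (U.left.affineOpenCover.f (j k) ≫ U.hom)).left :=
    fun k => (inferInstance : IsAffine (Spec (U.left.affineOpenCover.X (j k))))
  haveI hWaff : IsAffine (sigObj
      (fun k : Fin n => Scheme.ProEt.mk (U.left.affineOpenCover.f (j k) ≫ U.hom))).left :=
    (inferInstance : IsAffine (∐ fun k : Fin n =>
      (Scheme.ProEt.mk (U.left.affineOpenCover.f (j k) ≫ U.hom)).left))
  obtain ⟨W, hWdef⟩ : ∃ W : X.ProEt, W = sigObj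
      (fun k : Fin n => Scheme.ProEt.mk (U.left.affineOpenCover.f (j k) ≫ U.hom)) := ⟨_, rfl⟩
  obtain ⟨d, hd⟩ : ∃ d : W ⟶ U, Sieve.generate (Presieve.singleton d) ∈
      Scheme.ProEt.topology X U := by
    subst hWdef
    let Wk : Fin n → X.ProEt :=
      fun k => Scheme.ProEt.mk (U.left.affineOpenCover.f (j k) ≫ U.hom)
    let a : ∀ k, Wk k ⟶ U := fun k =>
      MorphismProperty.Over.homMk (U.left.affineOpenCover.f (j k)) rfl trivial
    refine ⟨sigDesc Wk a, ?_⟩
    refine GrothendieckTopology.superset_covering _ ?_ hS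
    rw [Sieve.generate_le_iff]
    rintro Z _ ⟨k⟩
    exact ⟨sigObj Wk, sigInj Wk k, sigDesc Wk a, Presieve.singleton.mk,
      sigInj_sigDesc Wk a k⟩
  haveI hWaff' : IsAffine W.left := by rw [hWdef]; exact hWaff
  obtain ⟨D, iD, aD, hff, hie, hwc⟩ :=
    Groth.Agent.Lib.Helper29.WCover.exists_wContractible ↥Γ(W.left, ⊤)
  haveI hwe : Algebra.WeaklyEtale ↥Γ(W.left, ⊤) D :=
    Groth.Agent.Lib.Helper8.Hzl.weaklyEtale_of_isIndEtale _ _ hie
  haveI := hff
  haveI : WeaklyEtale (Spec.map (CommRingCat.ofHom (algebraMap ↥Γ(W.left, ⊤) D))) :=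
    weaklyEtale_SpecMap ↥Γ(W.left, ⊤) D
  let q : Spec (CommRingCat.of D) ⟶ W.left :=
    Spec.map (CommRingCat.ofHom (algebraMap ↥Γ(W.left, ⊤) D)) ≫ W.left.isoSpec.inv
  haveI : WeaklyEtale q := inferInstance
  have hqsurj : Function.Surjective q := by
    intro x
    obtain ⟨p, hp⟩ := PrimeSpectrum.comap_surjective_of_faithfullyFlat
      (A := ↥Γ(W.left, ⊤)) (B := D) (W.left.isoSpec.hom x)
    refine ⟨p, ?_⟩
    show (Spec.map (CommRingCat.ofHom (algebraMap ↥Γ(W.left, ⊤) D)) ≫ W.left.isoSpec.inv) p = x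
    rw [Scheme.Hom.comp_apply]
    have h1 : (Spec.map (CommRingCat.ofHom (algebraMap ↥Γ(W.left, ⊤) D))) p =
        W.left.isoSpec.hom x := hp
    rw [h1, ← Scheme.Hom.comp_apply, Iso.hom_inv_id]
    rfl
  let V : X.ProEt := Scheme.ProEt.mk (q ≫ W.hom)
  let b : V ⟶ W := MorphismProperty.Over.homMk q rfl trivial
  have hb : Sieve.generate (Presieve.ofArrows (fun _ : Unit => V) (fun _ => b)) ∈
      Scheme.ProEt.topology X W := generate_singleton_mem W (CommRingCat.of D) q hqsurj
  refine ⟨V, b ≫ d, ?_, ?_, ?_⟩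
  · apply GrothendieckTopology.transitive _ hd
    intro Y f hf
    obtain ⟨Z, h, k, hk, rfl⟩ := hf
    obtain ⟨⟩ := hk
    rw [Sieve.pullback_comp]
    apply GrothendieckTopology.pullback_stable
    refine GrothendieckTopology.superset_covering _ ?_ hb
    rw [Sieve.generate_le_iff]
    rintro Z' _ ⟨⟨⟩⟩
    exact ⟨V, 𝟙 _, b ≫ d, Presieve.singleton.mk, Category.id_comp _⟩
  · exact (inferInstance : IsAffine (Spec (CommRingCat.of D)))
  · haveI : IsAffine V.left := (inferInstance : IsAffine (Spec (CommRingCat.of D)))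
    apply wc_forward V
    show EtPBC.IsWContractible ↥Γ(Spec (CommRingCat.of D), ⊤)
    exact isWContractible_of_ringEquiv
      (Scheme.ΓSpecIso (CommRingCat.of D)).commRingCatIsoToRingEquiv.symm hwc

end Groth.Agent.Lib.Helper29.Main0714
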