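import Mathlib
import Groth.Prelude.Def_ProEtS
import Groth.Prelude.Def_PBC

/-!
# Exactness of pro-étale pushforward from weak contractibility of base changes (helper29)
-/

set_option autoImplicit false
set_option linter.style.haveILetI false
set_option linter.unusedSectionVars false
set_option maxHeartbeats 1600000

universe u

open CategoryTheory CategoryTheory.Limits AlgebraicGeometry Opposite

namespace Groth.Agent.Lib.Helper29.PushExact

variable {Z X : Scheme.{u}} (f : Z ⟶ X)

/-- Morphisms factoring through an object whose base change along `f` is weakly contractible. -/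
def goodSieve (W : X.ProEt) : Sieve W where
  arrows Y := {g | ∃ (V' : X.ProEt) (h : Y ⟶ V') (g' : V' ⟶ W), h ≫ g' = g ∧
    ProEtS.IsWC ((ProEtS.bcP f).obj V')}
  downward_closed := by
    rintro Y Y' g ⟨V', h, g', rfl, hwc⟩ k
    exact ⟨V', k ≫ h, g', Category.assoc _ _ _, hwc⟩

lemma goodSieve_of_isWC (W : X.ProEt) (h : ProEtS.IsWC ((ProEtS.bcP f).obj W)) :
    goodSieve f W ∈ Scheme.ProEt.topology X W := by
  refine (Scheme.ProEt.topology X).superset_covering ?_ ((Scheme.ProEt.topology X).top_mem W)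
  intro Y g _
  exact ⟨W, g, 𝟙 W, Category.comp_id g, h⟩

lemma goodSieve_trans (W : X.ProEt) {ι : Type*} (V : ι → X.ProEt) (g : ∀ k, V k ⟶ W)
    (hcov : Sieve.generate (Presieve.ofArrows V g) ∈ Scheme.ProEt.topology X W)
    (h : ∀ k, goodSieve f (V k) ∈ Scheme.ProEt.topology X (V k)) :
    goodSieve f W ∈ Scheme.ProEt.topology X W := by
  refine (Scheme.ProEt.topology X).transitive hcov (goodSieve f W) ?_
  intro Y k hk
  obtain ⟨Y', a, g', hg', rfl⟩ := hk
  obtain ⟨β⟩ := hg'
  rw [Sieve.pullback_comp]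
  apply (Scheme.ProEt.topology X).pullback_stable
  refine (Scheme.ProEt.topology X).superset_covering ?_ (h β)
  rintro Y'' k' ⟨V', h', g'', rfl, hwc⟩
  exact ⟨V', h', g'' ≫ g β, (Category.assoc _ _ _).symm, hwc⟩

set_option backward.isDefEq.respectTransparency.types false in
theorem epi_pushP_map [ProEtS.PCont f]
    (H : ∀ W : X.ProEt, goodSieve f W ∈ Scheme.ProEt.topology X W)
    {F G : ProEtS.AbP Z} (φ : F ⟶ G) [Epi φ] : Epi ((ProEtS.pushP f).map φ) := by
  have hls : Sheaf.IsLocallySurjective φ :=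
    (Sheaf.isLocallySurjective_iff_epi' AddCommGrpCat.{u + 1} φ).mpr inferInstance
  let Ft : Sheaf (Scheme.ProEt.topology Z) (Type (u + 1)) :=
    (sheafCompose _ (forget AddCommGrpCat.{u + 1})).obj F
  let Gt : Sheaf (Scheme.ProEt.topology Z) (Type (u + 1)) :=
    (sheafCompose _ (forget AddCommGrpCat.{u + 1})).obj G
  let φt : Ft ⟶ Gt := (sheafCompose _ (forget AddCommGrpCat.{u + 1})).map φ
  haveI : Sheaf.IsLocallySurjective φt :=
    (Presheaf.isLocallySurjective_iff_whisker_forget (J := Scheme.ProEt.topology Z) φ.hom).mp hls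
  have hepit : Epi φt := inferInstance
  rw [← Sheaf.isLocallySurjective_iff_epi' AddCommGrpCat.{u + 1}]
  refine ⟨fun {W} s => ?_⟩
  refine (Scheme.ProEt.topology X).superset_covering ?_ (H W)
  rintro Y g ⟨V', h, g', rfl, hwc⟩
  obtain ⟨t', ht'⟩ := hwc Ft Gt φt hepit (G.obj.map ((ProEtS.bcP f).map g').op s)
  refine ⟨F.obj.map ((ProEtS.bcP f).map h).op t', ?_⟩
  have hnat := NatTrans.naturality_apply φ.hom ((ProEtS.bcP f).map h).op t'
  have ht'' : φ.hom.app (op ((ProEtS.bcP f).obj V')) t' =
      G.obj.map ((ProEtS.bcP f).map g').op s := ht'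
  change φ.hom.app _ (F.obj.map ((ProEtS.bcP f).map h).op t') =
    G.obj.map ((ProEtS.bcP f).map (h ≫ g')).op s
  rw [hnat, ht'', Functor.map_comp, op_comp, Functor.map_comp]
  rfl

theorem pushP_exact [ProEtS.PCont f]
    (H : ∀ W : X.ProEt, goodSieve f W ∈ Scheme.ProEt.topology X W) :
    PreservesFiniteLimits (ProEtS.pushP f) ∧ PreservesFiniteColimits (ProEtS.pushP f) := by
  haveI hl : PreservesFiniteLimits (ProEtS.pushP f) := by
    haveI : PreservesLimitsOfSize.{0, 0} (ProEtS.pushP f) :=
      (ProEtS.pullPushAdjP f).rightAdjoint_preservesLimits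
    infer_instance
  refine ⟨hl, ?_⟩
  rw [Functor.preservesFiniteColimits_iff_forall_exact_map_and_epi]
  intro S hS
  refine ⟨((Functor.preservesFiniteLimits_iff_forall_exact_map_and_mono
    (ProEtS.pushP f)).mp hl S hS).1, ?_⟩
  haveI := hS.epi_g
  exact epi_pushP_map f H S.g

end Groth.Agent.Lib.Helper29.PushExact
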