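import Mathlib
import Groth.Prelude.Def_ProEtW
import Groth.Agent.S1964

/-!
# Finite finitely presented algebras over w-contractible rings, part 2 (helper29)

The spectrum of an integral algebra over a ring with w-local spectrum and henselian local rings at
maximal ideals is w-local.
-/

set_option autoImplicit false
set_option linter.style.haveILetI false
set_option linter.unusedSectionVars false
set_option maxHeartbeats 1600000

universe u

namespace Groth.Agent.Lib.Helper29.WCFin2

variable {A B : Type u} [CommRing A] [CommRing B] [Algebra A B] [Algebra.IsIntegral A B]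

lemma isClosed_singleton_iff (y : PrimeSpectrum B) :
    IsClosed ({y} : Set (PrimeSpectrum B)) ↔
      IsClosed ({PrimeSpectrum.comap (algebraMap A B) y} : Set (PrimeSpectrum A)) := by
  rw [PrimeSpectrum.isClosed_singleton_iff_isMaximal, PrimeSpectrum.isClosed_singleton_iff_isMaximal]
  constructor
  · intro h
    haveI := h
    exact Ideal.isMaximal_comap_of_isIntegral_of_isMaximal (R := A) y.asIdeal
  · intro h
    exact Ideal.isMaximal_of_isIntegral_of_isMaximal_comap (R := A) y.asIdeal h

/-- Over a maximal ideal with henselian local ring, a prime of an integral algebra is contained in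
at most one maximal ideal lying over it. -/
theorem eq_of_le_of_henselian (m : Ideal A) [hm : m.IsMaximal]
    [HenselianLocalRing (Localization.AtPrime m)]
    (q : Ideal B) [hq : q.IsPrime] (n₁ n₂ : Ideal B) [hn₁ : n₁.IsMaximal] [hn₂ : n₂.IsMaximal]
    (h1 : q ≤ n₁) (h2 : q ≤ n₂)
    (hm1 : n₁.comap (algebraMap A B) = m) (hm2 : n₂.comap (algebraMap A B) = m) : n₁ = n₂ := by
  classical
  haveI : Algebra.IsIntegral A (B ⧸ q) := ⟨fun d => by
    obtain ⟨b, rfl⟩ := Ideal.Quotient.mk_surjective d
    exact (Algebra.IsIntegral.isIntegral (R := A) b).map (Ideal.Quotient.mkₐ A q)⟩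
  have hM0 : Algebra.algebraMapSubmonoid (B ⧸ q) m.primeCompl ≤ nonZeroDivisors (B ⧸ q) := by
    rintro _ ⟨a, ha, rfl⟩
    refine mem_nonZeroDivisors_of_ne_zero ?_
    intro h0
    apply ha
    have h0' : Ideal.Quotient.mk q (algebraMap A B a) = 0 := h0
    have h3 : algebraMap A B a ∈ q := Ideal.Quotient.eq_zero_iff_mem.mp h0'
    have h4 : a ∈ n₁.comap (algebraMap A B) := h1 h3
    rw [hm1] at h4
    exact h4
  haveI : IsDomain (Localization (Algebra.algebraMapSubmonoid (B ⧸ q) m.primeCompl)) :=
    IsLocalization.isDomain_localization hM0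
  haveI : Algebra.IsIntegral (Localization.AtPrime m)
      (Localization (Algebra.algebraMapSubmonoid (B ⧸ q) m.primeCompl)) :=
    ⟨isIntegral_localization⟩
  obtain ⟨hH, -⟩ := Groth.Agent.S1964.result (Localization.AtPrime m)
    (Localization (Algebra.algebraMapSubmonoid (B ⧸ q) m.primeCompl))
  haveI := hH
  let D' := Localization (Algebra.algebraMapSubmonoid (B ⧸ q) m.primeCompl)
  let ρ : B →+* D' := (algebraMap (B ⧸ q) D').comp (Ideal.Quotient.mk q)
  have hle : ∀ (n : Ideal B), n.IsMaximal → q ≤ n → n.comap (algebraMap A B) = m →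
      n = (IsLocalRing.maximalIdeal D').comap ρ := by
    intro n hn hqn hnm
    refine hn.eq_of_le (Ideal.comap_ne_top _ (IsLocalRing.maximalIdeal.isMaximal _).ne_top) ?_
    intro b hb
    show ρ b ∈ IsLocalRing.maximalIdeal D'
    rw [IsLocalRing.mem_maximalIdeal, mem_nonunits_iff]
    intro hu
    obtain ⟨d', hd'⟩ := hu.exists_right_inv
    obtain ⟨d, s, rfl⟩ := IsLocalization.exists_mk'_eq
      (Algebra.algebraMapSubmonoid (B ⧸ q) m.primeCompl) d'
    have h3 : ρ b * algebraMap (B ⧸ q) D' d = algebraMap (B ⧸ q) D' s.1 := by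
      calc ρ b * algebraMap (B ⧸ q) D' d
          = ρ b * (IsLocalization.mk' D' d s * algebraMap (B ⧸ q) D' s.1) := by
            rw [IsLocalization.mk'_spec]
        _ = (ρ b * IsLocalization.mk' D' d s) * algebraMap (B ⧸ q) D' s.1 := by ring
        _ = algebraMap (B ⧸ q) D' s.1 := by rw [hd', one_mul]
    rw [show ρ b = algebraMap (B ⧸ q) D' (Ideal.Quotient.mk q b) from rfl, ← map_mul] at h3
    have h4 := IsLocalization.injective D' hM0 h3
    obtain ⟨a, ha, has⟩ := Submonoid.mem_map.mp s.2
    obtain ⟨d₀, rfl⟩ := Ideal.Quotient.mk_surjective d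
    have h5 : b * d₀ - algebraMap A B a ∈ q := by
      rw [← Ideal.Quotient.eq, map_mul, h4, ← has]
      rfl
    have h6 : algebraMap A B a ∈ n := by
      have h7 := n.sub_mem (n.mul_mem_right d₀ hb) (hqn h5)
      simpa using h7
    apply ha
    have h8 : a ∈ n.comap (algebraMap A B) := h6
    rw [hnm] at h8
    exact h8
  rw [hle n₁ hn₁ h1 hm1, ← hle n₂ hn₂ h2 hm2]

theorem isWLocal_of_integral (hA : ProEtW.IsWLocal (PrimeSpectrum A))
    (hH : ∀ (m : Ideal A) [m.IsMaximal], HenselianLocalRing (Localization.AtPrime m)) :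
    ProEtW.IsWLocal (PrimeSpectrum B) := by
  refine ⟨inferInstance, ?_, ?_⟩
  · have h0 : {y : PrimeSpectrum B | IsClosed ({y} : Set (PrimeSpectrum B))} =
        PrimeSpectrum.comap (algebraMap A B) ⁻¹'
          {x | IsClosed ({x} : Set (PrimeSpectrum A))} := by
      ext y
      exact isClosed_singleton_iff y
    rw [h0]
    exact hA.2.1.preimage (PrimeSpectrum.continuous_comap _)
  · intro y
    obtain ⟨n, hn, hyn⟩ := Ideal.exists_le_maximal y.asIdeal y.2.ne_top
    have hnc : IsClosed ({(⟨n, hn.isPrime⟩ : PrimeSpectrum B)} : Set (PrimeSpectrum B)) :=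
      (PrimeSpectrum.isClosed_singleton_iff_isMaximal _).mpr hn
    have hyn' : y ⤳ (⟨n, hn.isPrime⟩ : PrimeSpectrum B) :=
      (PrimeSpectrum.le_iff_specializes y ⟨n, hn.isPrime⟩).mp hyn
    refine ⟨⟨n, hn.isPrime⟩, ⟨hnc, hyn'⟩, ?_⟩
    rintro z ⟨hzc, hyz⟩
    have hzmax : z.asIdeal.IsMaximal := (PrimeSpectrum.isClosed_singleton_iff_isMaximal z).mp hzc
    have hyz' : y.asIdeal ≤ z.asIdeal := (PrimeSpectrum.le_iff_specializes y z).mpr hyz
    have hcont : Continuous (PrimeSpectrum.comap (algebraMap A B)) :=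
      PrimeSpectrum.continuous_comap _
    have s1 := hyn'.map hcont
    have s2 := hyz.map hcont
    have c1 := (isClosed_singleton_iff (A := A) _).mp hnc
    have c2 := (isClosed_singleton_iff (A := A) _).mp hzc
    have heq : PrimeSpectrum.comap (algebraMap A B) z =
        PrimeSpectrum.comap (algebraMap A B) ⟨n, hn.isPrime⟩ :=
      (hA.2.2 (PrimeSpectrum.comap (algebraMap A B) y)).unique ⟨c2, s2⟩ ⟨c1, s1⟩
    haveI hmmax : (n.comap (algebraMap A B)).IsMaximal :=
      Ideal.isMaximal_comap_of_isIntegral_of_isMaximal (R := A) n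
    haveI := hH (n.comap (algebraMap A B))
    haveI := hzmax
    haveI := hn
    have hzm : z.asIdeal.comap (algebraMap A B) = n.comap (algebraMap A B) :=
      congrArg PrimeSpectrum.asIdeal heq
    have hfin := eq_of_le_of_henselian (n.comap (algebraMap A B)) y.asIdeal z.asIdeal n
      hyz' hyn hzm rfl
    exact PrimeSpectrum.ext hfin

end Groth.Agent.Lib.Helper29.WCFin2
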