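import Mathlib
import Groth.Agent.Lib.Helper29.WCFin1
import Groth.Agent.Lib.Helper29.WCFin2

/-!
# Finite finitely presented algebras over w-contractible rings, part 3 (helper29)

Main theorem: a finite, finitely presented algebra over a w-contractible ring is w-contractible.
-/

set_option autoImplicit false
set_option linter.style.haveILetI false
set_option linter.unusedSectionVars false
set_option maxHeartbeats 1600000

universe u

open Groth.Agent.Lib.Helper29.ThetaHom Groth.Agent.Lib.Helper29.Main0700 Topology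

namespace Groth.Agent.Lib.Helper29.WCFin3

section

variable {A B : Type u} [CommRing A] [CommRing B] [Algebra A B] [Module.Finite A B]

/-- An idempotent separating a maximal ideal from the other primes in its fibre. -/
theorem sepIdem (hB : ProEtW.IsWLocal (PrimeSpectrum B)) (n : Ideal B) [hn : n.IsMaximal] :
    ∃ e : B, IsIdempotentElem e ∧ e ∉ n ∧
      ∀ P : Ideal B, P.IsPrime → P.comap (algebraMap A B) = n.comap (algebraMap A B) →
        P ≠ n → e ∈ P := by
  classical
  let y : PrimeSpectrum B := ⟨n, hn.isPrime⟩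
  have hyc : IsClosed ({y} : Set (PrimeSpectrum B)) :=
    (PrimeSpectrum.isClosed_singleton_iff_isMaximal y).mpr hn
  let x : PrimeSpectrum A := PrimeSpectrum.comap (algebraMap A B) y
  have hF : (PrimeSpectrum.comap (algebraMap A B) ⁻¹' {x}).Finite :=
    Algebra.QuasiFinite.finite_comap_preimage_singleton x
  let F' : Set (TB B) := _root_.ConnectedComponents.mk ''
    ((PrimeSpectrum.comap (algebraMap A B) ⁻¹' {x}) \ {y})
  have hF' : IsClosed F' := ((hF.subset Set.diff_subset).image _).isClosed
  have hy' : _root_.ConnectedComponents.mk y ∉ F' := by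
    rintro ⟨y', ⟨hy'x, hy'y⟩, hmk⟩
    apply hy'y
    have hy'c : IsClosed ({y'} : Set (PrimeSpectrum B)) := by
      rw [WCFin2.isClosed_singleton_iff (A := A)]
      rw [show PrimeSpectrum.comap (algebraMap A B) y' = x from hy'x]
      exact (WCFin2.isClosed_singleton_iff (A := A) y).mp hyc
    show y' = y
    rw [← cp_mk B hB y' hy'c, ← cp_mk B hB y hyc, hmk]
  obtain ⟨N, hN, hyN, hNF⟩ := compact_exists_isClopen_in_isOpen hF'.isOpen_compl hy'
  have hW : IsClopen (_root_.ConnectedComponents.mk ⁻¹' N : Set (PrimeSpectrum B)) :=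
    hN.preimage _root_.ConnectedComponents.continuous_coe
  obtain ⟨e, he, hWe⟩ := PrimeSpectrum.isClopen_iff.mp hW
  refine ⟨e, he, ?_, ?_⟩
  · have h1 : y ∈ _root_.ConnectedComponents.mk ⁻¹' N := hyN
    rw [hWe] at h1
    exact h1
  · intro P hP hPm hPn
    by_contra heP
    have h1 : (⟨P, hP⟩ : PrimeSpectrum B) ∈ (PrimeSpectrum.basicOpen e : Set (PrimeSpectrum B)) :=
      heP
    rw [← hWe] at h1
    apply hNF h1
    refine ⟨⟨P, hP⟩, ⟨?_, ?_⟩, rfl⟩
    · show PrimeSpectrum.comap (algebraMap A B) ⟨P, hP⟩ = x
      exact PrimeSpectrum.ext hPm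
    · intro h
      apply hPn
      exact congrArg PrimeSpectrum.asIdeal h

/-- Localising at a prime not containing an idempotent `e` is the same as localising the quotient
by `1 - e`. -/
theorem bijective_localRingHom_quot (e : B) (he : IsIdempotentElem e)
    (n : Ideal B) [n.IsPrime] (n' : Ideal (B ⧸ Ideal.span {1 - e})) [n'.IsPrime]
    (h : n = n'.comap (Ideal.Quotient.mk (Ideal.span {1 - e}))) :
    Function.Bijective (Localization.localRingHom n n' (Ideal.Quotient.mk (Ideal.span {1 - e})) h) := by
  subst h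
  have hπ : Function.Surjective (Ideal.Quotient.mk (Ideal.span {1 - e})) :=
    Ideal.Quotient.mk_surjective
  refine ⟨?_, Groth.Agent.Lib.Helper29.Quot0722.surjective_localRingHom _ hπ n'⟩
  rw [injective_iff_map_eq_zero]
  intro z hz
  obtain ⟨b, s, rfl⟩ := IsLocalization.exists_mk'_eq
    (n'.comap (Ideal.Quotient.mk (Ideal.span {1 - e}))).primeCompl z
  rw [Localization.localRingHom_mk', IsLocalization.mk'_eq_zero_iff] at hz
  obtain ⟨⟨t, ht⟩, htb⟩ := hz
  obtain ⟨t₀, rfl⟩ := hπ t
  rw [IsLocalization.mk'_eq_zero_iff]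
  have h1 : t₀ * b ∈ Ideal.span {1 - e} :=
    Ideal.Quotient.eq_zero_iff_mem.mp (by rw [map_mul]; exact htb)
  obtain ⟨c, hc⟩ := Ideal.mem_span_singleton'.mp h1
  have hπe : Ideal.Quotient.mk (Ideal.span {1 - e}) e = 1 := by
    have h2 : Ideal.Quotient.mk (Ideal.span {1 - e}) (1 - e) = 0 :=
      Ideal.Quotient.eq_zero_iff_mem.mpr (Ideal.subset_span rfl)
    rw [map_sub, map_one, sub_eq_zero] at h2
    exact h2.symm
  refine ⟨⟨e * t₀, ?_⟩, ?_⟩
  · show Ideal.Quotient.mk (Ideal.span {1 - e}) (e * t₀) ∉ n'
    rw [map_mul, hπe, one_mul]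
    exact ht
  · show e * t₀ * b = 0
    rw [mul_assoc, ← hc, ← mul_assoc, mul_comm e c, mul_assoc, mul_sub, mul_one, he.eq, sub_self,
      mul_zero]

/-- The local rings at maximal ideals of a finite algebra over a ring with strictly henselian local
rings (and w-local spectrum upstairs) are strictly henselian. -/
theorem strictlyHenselian_localization_of_finite
    (hB : ProEtW.IsWLocal (PrimeSpectrum B))
    (hA : ∀ (m : Ideal A) [m.IsMaximal],
      EtCoh.IsStrictlyHenselianLocalRing (Localization.AtPrime m))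
    (n : Ideal B) [hn : n.IsMaximal] :
    EtCoh.IsStrictlyHenselianLocalRing (Localization.AtPrime n) := by
  haveI hmmax : (n.comap (algebraMap A B)).IsMaximal :=
    Ideal.isMaximal_comap_of_isIntegral_of_isMaximal (R := A) n
  obtain ⟨e, he, hen, heP⟩ := sepIdem (A := A) hB n
  have hπ : Function.Surjective (Ideal.Quotient.mk (Ideal.span {1 - e})) :=
    Ideal.Quotient.mk_surjective
  have hIn : Ideal.span {1 - e} ≤ n := by
    rw [Ideal.span_singleton_le_iff_mem]
    have h0 : e * (1 - e) = 0 := by rw [mul_sub, mul_one, he.eq, sub_self]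
    have h1 : e * (1 - e) ∈ n := h0 ▸ n.zero_mem
    exact (hn.isPrime.mem_or_mem h1).resolve_left hen
  have hcomap : (n.map (Ideal.Quotient.mk (Ideal.span {1 - e}))).comap
      (Ideal.Quotient.mk (Ideal.span {1 - e})) = n := Ideal.comap_map_mk hIn
  haveI hn'max : (n.map (Ideal.Quotient.mk (Ideal.span {1 - e}))).IsMaximal := by
    rcases Ideal.map_eq_top_or_isMaximal_of_surjective _ hπ hn with h | h
    · exfalso
      rw [h, Ideal.comap_top] at hcomap
      exact hn.ne_top hcomap.symm
    · exact h
  haveI hlo : (n.map (Ideal.Quotient.mk (Ideal.span {1 - e}))).LiesOver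
      (n.comap (algebraMap A B)) := ⟨by
    show n.comap (algebraMap A B) =
      (n.map (Ideal.Quotient.mk (Ideal.span {1 - e}))).comap
        (algebraMap A (B ⧸ Ideal.span {1 - e}))
    rw [show algebraMap A (B ⧸ Ideal.span {1 - e}) =
      (Ideal.Quotient.mk (Ideal.span {1 - e})).comp (algebraMap A B) from rfl,
      ← Ideal.comap_comap, hcomap]⟩
  have hq : (n.comap (algebraMap A B)).primesOver (B ⧸ Ideal.span {1 - e}) =
      {n.map (Ideal.Quotient.mk (Ideal.span {1 - e}))} := by
    ext P
    simp only [Ideal.primesOver, Set.mem_setOf_eq, Set.mem_singleton_iff]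
    constructor
    · rintro ⟨hP, hPm⟩
      haveI := hP
      have h1 : (P.comap (Ideal.Quotient.mk (Ideal.span {1 - e}))).comap (algebraMap A B) =
          n.comap (algebraMap A B) := by
        rw [Ideal.comap_comap]
        exact hPm.over.symm
      by_contra hne
      have h2 : P.comap (Ideal.Quotient.mk (Ideal.span {1 - e})) ≠ n := by
        intro h
        apply hne
        rw [← Ideal.map_comap_of_surjective _ hπ P, h]
      have h3 : e ∈ P.comap (Ideal.Quotient.mk (Ideal.span {1 - e})) :=
        heP _ (Ideal.comap_isPrime _ P) h1 h2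
      have h4 : (1 - e) ∈ P.comap (Ideal.Quotient.mk (Ideal.span {1 - e})) := by
        show Ideal.Quotient.mk (Ideal.span {1 - e}) (1 - e) ∈ P
        rw [show Ideal.Quotient.mk (Ideal.span {1 - e}) (1 - e) = 0 from
          Ideal.Quotient.eq_zero_iff_mem.mpr (Ideal.subset_span rfl)]
        exact P.zero_mem
      have h5 : (1 : B) ∈ P.comap (Ideal.Quotient.mk (Ideal.span {1 - e})) := by
        have := (P.comap (Ideal.Quotient.mk (Ideal.span {1 - e}))).add_mem h3 h4
        simpa using this
      exact (Ideal.comap_isPrime (Ideal.Quotient.mk (Ideal.span {1 - e})) P).ne_top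
        ((Ideal.eq_top_iff_one _).mpr h5)
    · rintro rfl
      exact ⟨hn'max.isPrime, hlo⟩
  haveI : Module.Finite A (B ⧸ Ideal.span {1 - e}) :=
    Module.Finite.of_surjective (Ideal.Quotient.mkₐ A (Ideal.span {1 - e})).toLinearMap
      (Ideal.Quotient.mkₐ_surjective A _)
  letI : Algebra (Localization.AtPrime (n.comap (algebraMap A B)))
      (Localization.AtPrime (n.map (Ideal.Quotient.mk (Ideal.span {1 - e})))) :=
    Localization.AtPrime.algebraOfLiesOver _ _
  haveI : Module.Finite (Localization.AtPrime (n.comap (algebraMap A B)))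
      (Localization.AtPrime (n.map (Ideal.Quotient.mk (Ideal.span {1 - e})))) :=
    Localization.finite_of_primesOver_eq_singleton hq
  have hSH : EtCoh.IsStrictlyHenselianLocalRing
      (Localization.AtPrime (n.map (Ideal.Quotient.mk (Ideal.span {1 - e})))) :=
    WCFin1.strictlyHenselian_of_finite_local (Localization.AtPrime (n.comap (algebraMap A B))) _
      (hA _)
  have hbij := bijective_localRingHom_quot e he n
    (n.map (Ideal.Quotient.mk (Ideal.span {1 - e}))) hcomap.symm
  exact Groth.Agent.Lib.Helper29.Aux0692.strictlyHenselian_of_ringEquiv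
    (RingEquiv.ofBijective _ hbij).symm hSH

end

end Groth.Agent.Lib.Helper29.WCFin3
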