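import Mathlib
import Groth.Agent.Lib.Helper29.WCFin3

/-!
# Finite finitely presented algebras over w-contractible rings, part 4 (helper29)

Main theorem: a finite, finitely presented algebra over a w-contractible ring is w-contractible.
-/

set_option autoImplicit false
set_option linter.style.haveILetI false
set_option linter.unusedSectionVars false
set_option maxHeartbeats 1600000

universe u

open Groth.Agent.Lib.Helper29.ThetaHom Groth.Agent.Lib.Helper29.Main0700 Topology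

namespace Groth.Agent.Lib.Helper29.WCFin4

section

variable {A B : Type u} [CommRing A] [CommRing B] [Algebra A B]

theorem expChar_cases (m : Ideal A) [m.IsMaximal] (q : ℕ) [hq : ExpChar (A ⧸ m) q] :
    q = 1 ∨ (q.Prime ∧ (q : A) ∈ m) := by
  cases hq with
  | zero => exact Or.inl rfl
  | prime hp =>
    refine Or.inr ⟨hp, ?_⟩
    rw [← Ideal.Quotient.eq_zero_iff_mem, map_natCast]
    exact CharP.cast_eq_zero (A ⧸ m) q

theorem exists_pow_sub_mem [Algebra.IsIntegral A B] (m : Ideal A) [hm : m.IsMaximal]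
    (n : Ideal B) [hn : n.IsMaximal]
    (hnm : n.comap (algebraMap A B) = m) (hS : IsSepClosed m.ResidueField)
    (q : ℕ) [hq : ExpChar (A ⧸ m) q] (b : B) :
    ∃ (k : ℕ) (c : A), b ^ q ^ k - algebraMap A B c ∈ n := by
  letI : Field (A ⧸ m) := Ideal.Quotient.field m
  letI : Field (B ⧸ n) := Ideal.Quotient.field n
  haveI : n.LiesOver m := ⟨hnm.symm⟩
  haveI := hS
  haveI : IsSepClosed (A ⧸ m) :=
    Groth.Agent.Lib.Helper29.Aux0692.isSepClosed_of_ringEquiv
      (RingEquiv.ofBijective _ m.bijective_algebraMap_quotient_residueField).symm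
  haveI : Algebra.IsAlgebraic (A ⧸ m) (B ⧸ n) := Algebra.IsIntegral.isAlgebraic
  haveI : IsPurelyInseparable (A ⧸ m) (B ⧸ n) := inferInstance
  obtain ⟨k, c', hc'⟩ := (isPurelyInseparable_iff_pow_mem (A ⧸ m) q).mp inferInstance
    (Ideal.Quotient.mk n b)
  obtain ⟨c, rfl⟩ := Ideal.Quotient.mk_surjective c'
  refine ⟨k, c, ?_⟩
  rw [← Ideal.Quotient.eq, map_pow, ← hc']
  rfl

theorem pow_eq_of_data {Ω : Type*} [Field Ω] (ψ : B →+* Ω) {r : ℕ} (β : Fin r → B) (e : B)
    (q : ℕ) (k : Fin r → ℕ) (c : Fin r → A) (N : Fin r → ℕ) (a : Fin r → Fin r → A)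
    (hsum : ∀ i, e * (β i ^ q ^ k i - algebraMap A B (c i)) ^ N i = ∑ j, a i j • β j)
    (he1 : ψ e = 1) (hψa : ∀ i j, ψ (algebraMap A B (a i j)) = 0) (i : Fin r) :
    ψ (β i) ^ q ^ k i = ψ (algebraMap A B (c i)) := by
  have h := congrArg ψ (hsum i)
  rw [map_mul, he1, one_mul, map_pow, map_sub, map_pow, map_sum] at h
  have h0 : ∑ j, ψ (a i j • β j) = 0 := Finset.sum_eq_zero fun j _ => by
    rw [Algebra.smul_def, map_mul, hψa, zero_mul]
  rw [h0] at h
  exact sub_eq_zero.mp (eq_zero_of_pow_eq_zero h)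

theorem eq_of_frobenius_data [Algebra.IsIntegral A B] {r : ℕ} (β : Fin r → B)
    (hβ : Submodule.span A (Set.range β) = ⊤)
    (e : B) (he : IsIdempotentElem e) (q : ℕ) (k : Fin r → ℕ) (c : Fin r → A) (N : Fin r → ℕ)
    (a : Fin r → Fin r → A)
    (hsum : ∀ i, e * (β i ^ q ^ k i - algebraMap A B (c i)) ^ N i = ∑ j, a i j • β j)
    (m' : Ideal A) [hm' : m'.IsMaximal] (ha : ∀ i j, a i j ∈ m')
    (hq : q = 1 ∨ (q.Prime ∧ (q : A) ∈ m'))
    (P₁ P₂ : Ideal B) [hP₁ : P₁.IsMaximal] [hP₂ : P₂.IsMaximal]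
    (h₁ : P₁.comap (algebraMap A B) = m') (h₂ : P₂.comap (algebraMap A B) = m')
    (he₁ : e ∉ P₁) (he₂ : e ∉ P₂) : P₁ = P₂ := by
  letI : Field (A ⧸ m') := Ideal.Quotient.field m'
  letI : Field (B ⧸ P₁) := Ideal.Quotient.field P₁
  letI : Field (B ⧸ P₂) := Ideal.Quotient.field P₂
  haveI : P₁.LiesOver m' := ⟨h₁.symm⟩
  haveI : P₂.LiesOver m' := ⟨h₂.symm⟩
  letI : Algebra (A ⧸ m') (AlgebraicClosure (B ⧸ P₁)) :=
    ((algebraMap (B ⧸ P₁) (AlgebraicClosure (B ⧸ P₁))).comp
      (algebraMap (A ⧸ m') (B ⧸ P₁))).toAlgebra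
  haveI : Algebra.IsAlgebraic (A ⧸ m') (B ⧸ P₂) := Algebra.IsIntegral.isAlgebraic
  let σ : (B ⧸ P₂) →ₐ[A ⧸ m'] (AlgebraicClosure (B ⧸ P₁)) := IsAlgClosed.lift
  let ψ₁ : B →+* (AlgebraicClosure (B ⧸ P₁)) :=
    (algebraMap (B ⧸ P₁) (AlgebraicClosure (B ⧸ P₁))).comp (Ideal.Quotient.mk P₁)
  let ψ₂ : B →+* (AlgebraicClosure (B ⧸ P₁)) :=
    (σ : (B ⧸ P₂) →+* (AlgebraicClosure (B ⧸ P₁))).comp (Ideal.Quotient.mk P₂)
  have hker₁ : ∀ b, ψ₁ b = 0 ↔ b ∈ P₁ := fun b => by
    show algebraMap (B ⧸ P₁) (AlgebraicClosure (B ⧸ P₁)) (Ideal.Quotient.mk P₁ b) = 0 ↔ _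
    rw [map_eq_zero_iff _ (algebraMap (B ⧸ P₁) (AlgebraicClosure (B ⧸ P₁))).injective,
      Ideal.Quotient.eq_zero_iff_mem]
  have hker₂ : ∀ b, ψ₂ b = 0 ↔ b ∈ P₂ := fun b => by
    show σ (Ideal.Quotient.mk P₂ b) = 0 ↔ _
    rw [map_eq_zero_iff σ (RingHom.injective (σ : (B ⧸ P₂) →+* (AlgebraicClosure (B ⧸ P₁)))),
      Ideal.Quotient.eq_zero_iff_mem]
  have hAeq : ∀ x : A, ψ₁ (algebraMap A B x) = ψ₂ (algebraMap A B x) := fun x => by
    show algebraMap (B ⧸ P₁) (AlgebraicClosure (B ⧸ P₁))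
        (Ideal.Quotient.mk P₁ (algebraMap A B x)) =
      σ (Ideal.Quotient.mk P₂ (algebraMap A B x))
    have h3 : Ideal.Quotient.mk P₂ (algebraMap A B x) =
        algebraMap (A ⧸ m') (B ⧸ P₂) (Ideal.Quotient.mk m' x) := rfl
    rw [h3, σ.commutes]
    rfl
  have hone : ∀ (ψ : B →+* (AlgebraicClosure (B ⧸ P₁))), ψ e ≠ 0 → ψ e = 1 := by
    intro ψ h0
    have hi : ψ e * ψ e = ψ e * 1 := by rw [← map_mul, he.eq, mul_one]
    exact mul_left_cancel₀ h0 hi
  have he1 : ψ₁ e = 1 := hone ψ₁ fun h => he₁ ((hker₁ e).mp h)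
  have he2 : ψ₂ e = 1 := hone ψ₂ fun h => he₂ ((hker₂ e).mp h)
  have hψ₁a : ∀ i j, ψ₁ (algebraMap A B (a i j)) = 0 := fun i j =>
    (hker₁ _).mpr (by rw [← Ideal.mem_comap, h₁]; exact ha i j)
  have hψ₂a : ∀ i j, ψ₂ (algebraMap A B (a i j)) = 0 := fun i j =>
    (hker₂ _).mpr (by rw [← Ideal.mem_comap, h₂]; exact ha i j)
  have hq' : q = 1 ∨ (q.Prime ∧ (q : AlgebraicClosure (B ⧸ P₁)) = 0) := by
    rcases hq with h | ⟨hp, hqm⟩
    · exact Or.inl h
    · refine Or.inr ⟨hp, ?_⟩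
      have h4 : ψ₁ (algebraMap A B (q : A)) = 0 :=
        (hker₁ _).mpr (by rw [← Ideal.mem_comap, h₁]; exact hqm)
      simpa using h4
  have hβeq : ∀ i, ψ₁ (β i) = ψ₂ (β i) := fun i => by
    apply WCFin1.pow_inj_of_expChar q hq' (k i)
    rw [pow_eq_of_data ψ₁ β e q k c N a hsum he1 hψ₁a i,
      pow_eq_of_data ψ₂ β e q k c N a hsum he2 hψ₂a i, hAeq]
  have hall : ∀ b, ψ₁ b = ψ₂ b := by
    intro b
    have hb : b ∈ Submodule.span A (Set.range β) := hβ ▸ Submodule.mem_top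
    induction hb using Submodule.span_induction with
    | mem x hx =>
      obtain ⟨i, rfl⟩ := hx
      exact hβeq i
    | zero => rw [map_zero, map_zero]
    | add x y _ _ hx hy => rw [map_add, map_add, hx, hy]
    | smul a x _ hx => rw [Algebra.smul_def, map_mul, map_mul, hx, hAeq]
  ext b
  rw [← hker₁ b, ← hker₂ b, hall b]

end

section

variable (A B : Type u) [CommRing A] [CommRing B] [Algebra A B]

/-- The map induced on `π₀` of the spectra. -/
noncomputable def gmap : TB B → TB A :=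
  (PrimeSpectrum.continuous_comap (algebraMap A B)).connectedComponentsMap

lemma gmap_mk (y : PrimeSpectrum B) :
    gmap A B (_root_.ConnectedComponents.mk y) =
      _root_.ConnectedComponents.mk (PrimeSpectrum.comap (algebraMap A B) y) := rfl

lemma continuous_gmap : Continuous (gmap A B) :=
  (PrimeSpectrum.continuous_comap (algebraMap A B)).connectedComponentsMap_continuous

end

section

variable {A B : Type u} [CommRing A] [CommRing B] [Algebra A B] [Module.Finite A B]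

theorem cp_gmap (hA : ProEtW.IsWLocal (PrimeSpectrum A)) (hB : ProEtW.IsWLocal (PrimeSpectrum B))
    (t : TB B) :
    cp A hA (gmap A B t) = PrimeSpectrum.comap (algebraMap A B) (cp B hB t) := by
  have hc : IsClosed ({PrimeSpectrum.comap (algebraMap A B) (cp B hB t)} :
      Set (PrimeSpectrum A)) :=
    (WCFin2.isClosed_singleton_iff (A := A) _).mp (cp_closed B hB t)
  conv_lhs => rw [← mk_cp B hB t]
  rw [gmap_mk, cp_mk A hA _ hc]

theorem isOpenMap_gmap [Algebra.FinitePresentation A B]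
    (hA : ProEtW.IsWLocal (PrimeSpectrum A)) (hB : ProEtW.IsWLocal (PrimeSpectrum B)) :
    IsOpenMap (gmap A B) := by
  rw [(isTopologicalBasis_isClopen (X := TB B)).isOpenMap_iff]
  intro M hM
  have hM' : IsClopen M := hM
  have hW : IsClopen (_root_.ConnectedComponents.mk ⁻¹' M : Set (PrimeSpectrum B)) :=
    hM'.preimage _root_.ConnectedComponents.continuous_coe
  obtain ⟨e, he, hWe⟩ := PrimeSpectrum.isClopen_iff.mp hW
  have hE : IsConstructible (PrimeSpectrum.comap (algebraMap A B) ''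
      (_root_.ConnectedComponents.mk ⁻¹' M)) := by
    rw [hWe]
    exact PrimeSpectrum.isConstructible_comap_image
      (RingHom.finitePresentation_algebraMap.mpr inferInstance)
      PrimeSpectrum.isConstructible_basicOpen
  have h1 := (WCFin1.isClopen_cp_preimage hA hE).isOpen
  convert h1 using 1
  ext s
  constructor
  · rintro ⟨t, htM, rfl⟩
    show cp A hA (gmap A B t) ∈ PrimeSpectrum.comap (algebraMap A B) ''
      (_root_.ConnectedComponents.mk ⁻¹' M)
    rw [cp_gmap hA hB t]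
    refine ⟨cp B hB t, ?_, rfl⟩
    show _root_.ConnectedComponents.mk (cp B hB t) ∈ M
    rw [mk_cp]
    exact htM
  · rintro ⟨y, hyM, hys⟩
    refine ⟨_root_.ConnectedComponents.mk y, hyM, ?_⟩
    rw [gmap_mk, hys, mk_cp]

theorem injOn_nhds (hA : ProEtW.IsWLocal (PrimeSpectrum A))
    (hB : ProEtW.IsWLocal (PrimeSpectrum B))
    (hsc : ∀ (m : Ideal A) [m.IsMaximal], IsSepClosed m.ResidueField) (t : TB B) :
    ∃ N : Set (TB B), IsOpen N ∧ t ∈ N ∧ Set.InjOn (gmap A B) N := by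
  classical
  have hyc := cp_closed B hB t
  haveI hn : (cp B hB t).asIdeal.IsMaximal :=
    (PrimeSpectrum.isClosed_singleton_iff_isMaximal _).mp hyc
  haveI hm : ((cp B hB t).asIdeal.comap (algebraMap A B)).IsMaximal :=
    Ideal.isMaximal_comap_of_isIntegral_of_isMaximal (R := A) _
  obtain ⟨e, he, hen, heP⟩ := WCFin3.sepIdem (A := A) hB (cp B hB t).asIdeal
  haveI : ExpChar (A ⧸ (cp B hB t).asIdeal.comap (algebraMap A B))
      (ringExpChar (A ⧸ (cp B hB t).asIdeal.comap (algebraMap A B))) := ringExpChar.expChar _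
  have hqc := expChar_cases ((cp B hB t).asIdeal.comap (algebraMap A B))
    (ringExpChar (A ⧸ (cp B hB t).asIdeal.comap (algebraMap A B)))
  generalize ringExpChar (A ⧸ (cp B hB t).asIdeal.comap (algebraMap A B)) = q at *
  obtain ⟨r, β, hβ⟩ := Module.Finite.exists_fin (R := A) (M := B)
  have key : ∀ i : Fin r, ∃ (k : ℕ) (c : A) (N : ℕ) (a : Fin r → A),
      (∀ j, a j ∈ (cp B hB t).asIdeal.comap (algebraMap A B)) ∧
      e * (β i ^ q ^ k - algebraMap A B c) ^ N = ∑ j, a j • β j := by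
    intro i
    obtain ⟨k, c, hkc⟩ := exists_pow_sub_mem ((cp B hB t).asIdeal.comap (algebraMap A B))
      (cp B hB t).asIdeal rfl (hsc _) q (β i)
    have hz : e * (β i ^ q ^ k - algebraMap A B c) ∈
        (((cp B hB t).asIdeal.comap (algebraMap A B)).map (algebraMap A B)).radical := by
      rw [Ideal.radical_eq_sInf, Ideal.mem_sInf]
      rintro P ⟨hmP, hP⟩
      by_cases hPn : P = (cp B hB t).asIdeal
      · rw [hPn]
        exact Ideal.mul_mem_left _ _ hkc
      · refine Ideal.mul_mem_right _ _ (heP P hP ?_ hPn)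
        have hle : (cp B hB t).asIdeal.comap (algebraMap A B) ≤ P.comap (algebraMap A B) :=
          Ideal.map_le_iff_le_comap.mp hmP
        exact (hm.eq_of_le (Ideal.comap_ne_top _ hP.ne_top) hle).symm
    obtain ⟨N, hN⟩ := Ideal.mem_radical_iff.mp hz
    have hN' : e * (β i ^ q ^ k - algebraMap A B c) ^ N ∈
        ((cp B hB t).asIdeal.comap (algebraMap A B)).map (algebraMap A B) := by
      have h1 := Ideal.mul_mem_left _ e hN
      rw [mul_pow, ← mul_assoc, ← pow_succ', he.pow_succ_eq] at h1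
      exact h1
    have h2 : e * (β i ^ q ^ k - algebraMap A B c) ^ N ∈
        ((cp B hB t).asIdeal.comap (algebraMap A B)) • (⊤ : Submodule A B) := by
      rw [Ideal.smul_top_eq_map]
      exact hN'
    rw [← hβ, Submodule.mem_ideal_smul_span_iff_exists_sum] at h2
    obtain ⟨a, ha, hsum⟩ := h2
    refine ⟨k, c, N, a, ha, ?_⟩
    rw [← hsum, Finsupp.sum_fintype]
    intro j
    exact zero_smul _ _
  choose k c N a ha hsum using key
  -- clopen conditions downstairs
  let Z : A → Set (TB A) := fun a₁ => {s : TB A | a₁ ∈ (cp A hA s).asIdeal}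
  have hZ : ∀ a₁, IsClopen (Z a₁) := fun a₁ => by
    have h1 := WCFin1.isClopen_cp_preimage hA
      (PrimeSpectrum.isConstructible_basicOpen (f := a₁)).compl
    convert h1 using 1
    ext s
    simp only [Z, Set.mem_setOf_eq, Set.mem_compl_iff, SetLike.mem_coe,
      PrimeSpectrum.mem_basicOpen, not_not]
  let a₀ : A := if q = 1 then 0 else (q : A)
  let N₁ : Set (TB B) := {t' : TB B | cp B hB t' ∈ (PrimeSpectrum.basicOpen e : Set _)}
  have hN₁ : IsOpen N₁ :=
    (WCFin1.isClopen_cp_preimage hB (PrimeSpectrum.isConstructible_basicOpen (f := e))).isOpen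
  let N₂ : Set (TB A) := (⋂ i, ⋂ j, Z (a i j)) ∩ Z a₀
  have hN₂ : IsOpen N₂ :=
    (isOpen_iInter_of_finite fun i => isOpen_iInter_of_finite fun j => (hZ (a i j)).isOpen).inter
      (hZ a₀).isOpen
  have ha₀ : ∀ m' : Ideal A, a₀ ∈ m' → (q = 1 ∨ (q.Prime ∧ (q : A) ∈ m')) := by
    intro m' h
    rcases hqc with h1 | ⟨hp, -⟩
    · exact Or.inl h1
    · have hq1 : q ≠ 1 := hp.ne_one
      simp only [a₀, if_neg hq1] at h
      exact Or.inr ⟨hp, h⟩
  refine ⟨N₁ ∩ gmap A B ⁻¹' N₂, hN₁.inter (hN₂.preimage (continuous_gmap A B)), ⟨hen, ?_⟩, ?_⟩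
  · -- t ∈ preimage of N₂
    show gmap A B t ∈ N₂
    refine ⟨?_, ?_⟩
    · simp only [Set.mem_iInter]
      intro i j
      show a i j ∈ (cp A hA (gmap A B t)).asIdeal
      rw [cp_gmap hA hB t]
      exact ha i j
    · show a₀ ∈ (cp A hA (gmap A B t)).asIdeal
      rw [cp_gmap hA hB t]
      rcases hqc with h1 | ⟨hp, hqm⟩
      · simp only [a₀, if_pos h1]
        exact Ideal.zero_mem _
      · simp only [a₀, if_neg hp.ne_one]
        exact hqm
  · -- injectivity
    rintro t₁ ⟨h1e, h1N⟩ t₂ ⟨h2e, h2N⟩ h12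
    have hc1 := cp_gmap hA hB t₁
    have hc2 := cp_gmap hA hB t₂
    rw [h12] at hc1
    have hx : PrimeSpectrum.comap (algebraMap A B) (cp B hB t₁) =
        PrimeSpectrum.comap (algebraMap A B) (cp B hB t₂) := hc1.symm.trans hc2
    haveI hP₁ : (cp B hB t₁).asIdeal.IsMaximal :=
      (PrimeSpectrum.isClosed_singleton_iff_isMaximal _).mp (cp_closed B hB t₁)
    haveI hP₂ : (cp B hB t₂).asIdeal.IsMaximal :=
      (PrimeSpectrum.isClosed_singleton_iff_isMaximal _).mp (cp_closed B hB t₂)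
    haveI hm' : ((cp B hB t₂).asIdeal.comap (algebraMap A B)).IsMaximal :=
      Ideal.isMaximal_comap_of_isIntegral_of_isMaximal (R := A) _
    have hN2 : gmap A B t₂ ∈ N₂ := h2N
    have ha' : ∀ i j, a i j ∈ (cp B hB t₂).asIdeal.comap (algebraMap A B) := by
      intro i j
      have h3 : gmap A B t₂ ∈ Z (a i j) := by
        have := hN2.1
        simp only [Set.mem_iInter] at this
        exact this i j
      have h4 : a i j ∈ (cp A hA (gmap A B t₂)).asIdeal := h3
      rw [hc2] at h4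
      exact h4
    have hq' : q = 1 ∨ (q.Prime ∧ (q : A) ∈ (cp B hB t₂).asIdeal.comap (algebraMap A B)) := by
      apply ha₀
      have h4 : a₀ ∈ (cp A hA (gmap A B t₂)).asIdeal := hN2.2
      rw [hc2] at h4
      exact h4
    have hfin := eq_of_frobenius_data β hβ e he q k c N a hsum
      ((cp B hB t₂).asIdeal.comap (algebraMap A B)) ha' hq'
      (cp B hB t₁).asIdeal (cp B hB t₂).asIdeal
      (congrArg PrimeSpectrum.asIdeal hx) rfl h1e h2e
    have hpt : cp B hB t₁ = cp B hB t₂ := PrimeSpectrum.ext hfin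
    rw [← mk_cp B hB t₁, ← mk_cp B hB t₂, hpt]

end

theorem main0679 (A B : Type u) [CommRing A] [CommRing B]
    [Algebra A B] [Module.Finite A B] [Algebra.FinitePresentation A B]
    (h : EtPBC.IsWContractible A) : EtPBC.IsWContractible B := by
  obtain ⟨h1, h2, h3⟩ := (Groth.Agent.Lib.Helper29.Main0677.main0677 A).mp h
  have hH : ∀ (m : Ideal A) [m.IsMaximal], HenselianLocalRing (Localization.AtPrime m) :=
    fun m _ => by
      obtain ⟨hh, -⟩ := h3 m
      exact hh
  have hB : ProEtW.IsWLocal (PrimeSpectrum B) := WCFin2.isWLocal_of_integral h1 hH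
  have hsc : ∀ (m : Ideal A) [m.IsMaximal], IsSepClosed m.ResidueField := fun m _ => by
    obtain ⟨_, hS⟩ := h3 m
    exact hS
  refine (Groth.Agent.Lib.Helper29.Main0677.main0677 B).mpr ⟨hB, ?_, ?_⟩
  · haveI := h2
    exact WCFin1.extrDisc_of_locally_injective (gmap A B) (continuous_gmap A B)
      (isOpenMap_gmap h1 hB) (injOn_nhds h1 hB hsc)
  · intro n hn
    exact WCFin3.strictlyHenselian_localization_of_finite hB h3 n

end Groth.Agent.Lib.Helper29.WCFin4
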