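import Mathlib
import Groth.Prelude.Def_ProEtS
import Groth.Prelude.Def_PBC
import Groth.Agent.Lib.Helper29.PushExact
import Groth.Agent.Lib.Helper29.ProEtWC
import Groth.Agent.Lib.Helper29.Main7286
import Groth.Agent.Lib.Helper29.WCFin4

/-!
# Exactness of `f_*` on the pro-étale site for finite, finitely presented `f` (helper29)
-/

set_option autoImplicit false
set_option linter.style.haveILetI false
set_option linter.unusedSectionVars false
set_option maxHeartbeats 1600000

universe u

open CategoryTheory CategoryTheory.Limits AlgebraicGeometry Opposite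

namespace Groth.Agent.Lib.Helper29.Main0721

open Groth.Agent.Lib.Helper29.PushExact

variable {Z X : Scheme.{u}} (f : Z ⟶ X) [IsFinite f] [LocallyOfFinitePresentation f]

set_option backward.isDefEq.respectTransparency.types false in
theorem isWContractible_pullback {V' : Scheme.{u}} [IsAffine V'] (v : V' ⟶ X)
    (hV : EtPBC.IsWContractible ↥(Γ(V', ⊤))) :
    ∃ _ : IsAffine (pullback v f), EtPBC.IsWContractible ↥(Γ(pullback v f, ⊤)) := by
  haveI hfin : IsFinite (pullback.fst v f) :=
    MorphismProperty.pullback_fst (P := @IsFinite) v f inferInstance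
  haveI hfp : LocallyOfFinitePresentation (pullback.fst v f) :=
    MorphismProperty.pullback_fst (P := @LocallyOfFinitePresentation) v f inferInstance
  haveI haff : IsAffine (pullback v f) := isAffine_of_isAffineHom (pullback.fst v f)
  refine ⟨haff, ?_⟩
  have h1 : (pullback.fst v f).appTop.hom.Finite :=
    Scheme.Hom.finite_appTop (pullback.fst v f)
  have h2 : (pullback.fst v f).appTop.hom.FinitePresentation :=
    (HasRingHomProperty.iff_of_isAffine (P := @LocallyOfFinitePresentation)).mp hfp
  letI := (pullback.fst v f).appTop.hom.toAlgebra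
  haveI : Module.Finite ↥(Γ(V', ⊤)) ↥(Γ(pullback v f, ⊤)) := h1
  haveI : Algebra.FinitePresentation ↥(Γ(V', ⊤)) ↥(Γ(pullback v f, ⊤)) := h2
  exact Groth.Agent.Lib.Helper29.WCFin4.main0679 ↥(Γ(V', ⊤)) ↥(Γ(pullback v f, ⊤)) hV

set_option backward.isDefEq.respectTransparency.types false in
theorem isWC_bc (V : X.ProEt) [IsAffine V.left] (hV : EtPBC.IsWContractible ↥(Γ(V.left, ⊤))) :
    ProEtS.IsWC ((ProEtS.bcP f).obj V) := by
  obtain ⟨haff, hwc⟩ := isWContractible_pullback f (V' := V.left) V.hom hV
  haveI : IsAffine ((ProEtS.bcP f).obj V).left := haff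
  apply Groth.Agent.Lib.Helper29.ProEtWC.wc_forward
  exact hwc

set_option backward.isDefEq.respectTransparency.types false in
theorem good_all [ProEtS.PCont f] (W : X.ProEt) :
    goodSieve f W ∈ Scheme.ProEt.topology X W := by
  obtain ⟨I, V, g, hcov, hV⟩ := Groth.Agent.Lib.Helper29.Main7286.main7286 W
  refine goodSieve_trans f W V g hcov (fun β => ?_)
  apply goodSieve_of_isWC
  haveI := (hV β).1
  exact isWC_bc f (V β) (hV β).2

theorem main0721 [ProEtS.PCont f] :
    PreservesFiniteLimits (ProEtS.pushP f) ∧ PreservesFiniteColimits (ProEtS.pushP f) :=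
  pushP_exact f (good_all f)

end Groth.Agent.Lib.Helper29.Main0721
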