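import Mathlib
import Groth.Prelude.Def_ProEtS
import Groth.Prelude.Def_PBC
import Groth.Agent.Lib.Helper29.PushExact
import Groth.Agent.Lib.Helper29.Quot0722
import Groth.Agent.Lib.Helper29.ProEtWC
import Groth.Agent.Lib.Helper29.Main7286
import Groth.Agent.Lib.Helper29.Main7284

/-!
# Exactness of `i_*` for a closed immersion with retrocompact open complement (helper29)
-/

set_option autoImplicit false
set_option linter.style.haveILetI false
set_option linter.unusedSectionVars false
set_option maxHeartbeats 1600000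

universe u

open CategoryTheory CategoryTheory.Limits AlgebraicGeometry Opposite

namespace Groth.Agent.Lib.Helper29.Main0722

open Groth.Agent.Lib.Helper29.PushExact Groth.Agent.Lib.Helper29.Main7284

variable {Z X : Scheme.{u}} (i : Z ⟶ X) [IsClosedImmersion i]
  (hr : IsRetrocompact (Set.range i.base)ᶜ)

include hr

set_option backward.isDefEq.respectTransparency.types false in
/-- The compactness statement on the level of prime spectra. -/
theorem isCompact_compl_range {V' : Scheme.{u}} [IsAffine V'] (v : V' ⟶ X)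
    [IsAffine (pullback v i)]
    (X₀ : X.Opens) (hX₀ : IsAffineOpen X₀) (hVX : Set.range v.base ⊆ (X₀ : Set X)) :
    IsCompact (Set.range (PrimeSpectrum.comap (pullback.fst v i).appTop.hom))ᶜ := by
  have hnat := Scheme.isoSpec_hom_naturality (pullback.fst v i)
  have hrange : Set.range (PrimeSpectrum.comap (pullback.fst v i).appTop.hom) =
      V'.isoSpec.hom '' Set.range (pullback.fst v i) := by
    ext z
    constructor
    · rintro ⟨y', rfl⟩
      refine ⟨(pullback.fst v i) ((pullback v i).isoSpec.inv y'), ⟨_, rfl⟩, ?_⟩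
      have h1 : V'.isoSpec.hom ((pullback.fst v i) ((pullback v i).isoSpec.inv y')) =
          (pullback.fst v i ≫ V'.isoSpec.hom) ((pullback v i).isoSpec.inv y') := rfl
      rw [h1, ← hnat]
      have h2 : ((pullback v i).isoSpec.hom ≫ Spec.map (pullback.fst v i).appTop)
          ((pullback v i).isoSpec.inv y') =
          (Spec.map (pullback.fst v i).appTop)
            (((pullback v i).isoSpec.inv ≫ (pullback v i).isoSpec.hom) y') := rfl
      rw [h2, Iso.inv_hom_id]
      rfl
    · rintro ⟨_, ⟨y, rfl⟩, rfl⟩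
      refine ⟨(pullback v i).isoSpec.hom y, ?_⟩
      have h1 : V'.isoSpec.hom ((pullback.fst v i) y) =
          (pullback.fst v i ≫ V'.isoSpec.hom) y := rfl
      rw [h1, ← hnat]
      rfl
  have hbij : Function.Bijective V'.isoSpec.hom := by
    refine ⟨fun a b hab => ?_, fun z => ⟨V'.isoSpec.inv z, ?_⟩⟩
    · have h1 : (V'.isoSpec.hom ≫ V'.isoSpec.inv) a =
          (V'.isoSpec.hom ≫ V'.isoSpec.inv) b := by
        change V'.isoSpec.inv (V'.isoSpec.hom a) = V'.isoSpec.inv (V'.isoSpec.hom b)
        rw [hab]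
      rw [Iso.hom_inv_id] at h1
      exact h1
    · change (V'.isoSpec.inv ≫ V'.isoSpec.hom) z = z
      rw [Iso.inv_hom_id]
      rfl
  have hcompl : (Set.range (PrimeSpectrum.comap (pullback.fst v i).appTop.hom))ᶜ =
      V'.isoSpec.hom '' (Set.range (pullback.fst v i))ᶜ := by
    rw [Set.image_compl_eq hbij]
    exact congrArg (fun s : Set (PrimeSpectrum ↑Γ(V', ⊤)) => sᶜ) hrange
  rw [hcompl]
  refine IsCompact.image ?_ V'.isoSpec.hom.continuous
  -- compactness in `V'`
  rw [Scheme.Pullback.range_fst]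
  have hcl : IsClosed (Set.range i.base) := i.isClosedEmbedding.isClosed_range
  have hKc : IsCompact ((Set.range i.base)ᶜ ∩ (X₀ : Set X)) := hr hX₀.isCompact X₀.isOpen
  have hKo : IsOpen ((Set.range i.base)ᶜ ∩ (X₀ : Set X)) := hcl.isOpen_compl.inter X₀.isOpen
  have hsub : Set.range v ⊆ Set.range X₀.ι := by
    rw [Scheme.Opens.range_ι]; exact hVX
  have hfac : IsOpenImmersion.lift X₀.ι v hsub ≫ X₀.ι = v :=
    IsOpenImmersion.lift_fac _ _ _
  haveI : IsAffine (X₀ : Scheme.{u}) := hX₀
  have hpre : (v ⁻¹' Set.range i)ᶜ =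
      (IsOpenImmersion.lift X₀.ι v hsub) ⁻¹'
        (X₀.ι ⁻¹' ((Set.range i.base)ᶜ ∩ (X₀ : Set X))) := by
    ext w
    have hv : v w = X₀.ι ((IsOpenImmersion.lift X₀.ι v hsub) w) := by
      conv_lhs => rw [← hfac]
      rfl
    constructor
    · intro h
      refine ⟨?_, ?_⟩
      · rw [← hv]; exact h
      · rw [← hv]; exact hVX ⟨w, rfl⟩
    · rintro ⟨h1, -⟩
      change v w ∉ Set.range i
      rw [hv]
      exact h1
  rw [hpre]
  apply QuasiCompact.isCompact_preimage
  · exact hKo.preimage X₀.ι.continuous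
  · refine X₀.ι.isOpenEmbedding.isInducing.isCompact_preimage' hKc ?_
    rw [Scheme.Opens.range_ι]
    exact Set.inter_subset_right

set_option backward.isDefEq.respectTransparency.types false in
theorem isWC_bc (V : X.ProEt) [IsAffine V.left] (hV : EtPBC.IsWContractible ↥(Γ(V.left, ⊤)))
    (X₀ : X.Opens) (hX₀ : IsAffineOpen X₀) (hVX : Set.range V.hom.base ⊆ (X₀ : Set X)) :
    ProEtS.IsWC ((ProEtS.bcP i).obj V) := by
  haveI hci : IsClosedImmersion (pullback.fst V.hom i) :=
    MorphismProperty.pullback_fst (P := @IsClosedImmersion) V.hom i inferInstance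
  obtain ⟨haff, hsurj⟩ := IsClosedImmersion.isAffine_surjective_of_isAffine
    (X := pullback V.hom i) (Y := V.left) (pullback.fst V.hom i)
  haveI : IsAffine (pullback V.hom i) := haff
  haveI : IsAffine ((ProEtS.bcP i).obj V).left := haff
  apply Groth.Agent.Lib.Helper29.ProEtWC.wc_forward
  exact Groth.Agent.Lib.Helper29.Quot0722.isWContractible_of_surjective
    (pullback.fst V.hom i).appTop.hom hsurj
    (isCompact_compl_range i hr (V' := V.left) V.hom X₀ hX₀ hVX) hV

set_option backward.isDefEq.respectTransparency.types false in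
theorem good_of_range [ProEtS.PCont i] (W : X.ProEt) (X₀ : X.Opens) (hX₀ : IsAffineOpen X₀)
    (hW : Set.range W.hom.base ⊆ (X₀ : Set X)) :
    goodSieve i W ∈ Scheme.ProEt.topology X W := by
  obtain ⟨I, V, g, hcov, hV⟩ := Groth.Agent.Lib.Helper29.Main7286.main7286 W
  refine goodSieve_trans i W V g hcov (fun β => ?_)
  apply goodSieve_of_isWC
  haveI := (hV β).1
  refine isWC_bc i hr (V β) (hV β).2 X₀ hX₀ ?_
  rintro _ ⟨v, rfl⟩
  have h1 : (V β).hom = (g β).left ≫ W.hom := (MorphismProperty.Over.w (g β)).symm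
  have h2 : (V β).hom.base v = W.hom.base ((g β).left v) := by rw [h1]; rfl
  rw [h2]
  exact hW ⟨_, rfl⟩

set_option backward.isDefEq.respectTransparency.types false in
theorem good_all [ProEtS.PCont i] (W : X.ProEt) :
    goodSieve i W ∈ Scheme.ProEt.topology X W := by
  let X₀ : X.affineCover.I₀ → X.Opens := fun j => (X.affineCover.f j).opensRange
  have hX₀ : ∀ j, IsAffineOpen (X₀ j) := fun j => isAffineOpen_opensRange (X.affineCover.f j)
  let Vj : X.affineCover.I₀ → W.left.Opens := fun j => W.hom ⁻¹ᵁ (X₀ j)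
  have hcov : ∀ x : W.left, ∃ j, x ∈ Vj j := fun x =>
    ⟨X.affineCover.idx (W.hom x), X.affineCover.covers (W.hom x)⟩
  refine goodSieve_trans i W (fun j => opOb W (Vj j)) (fun j => opIncl W (Vj j))
    (opens_generate_mem W Vj hcov) (fun j => ?_)
  refine good_of_range i hr (opOb W (Vj j)) (X₀ j) (hX₀ j) ?_
  rintro _ ⟨y, rfl⟩
  have h0 : (Vj j).ι y ∈ Set.range (Vj j).ι := ⟨y, rfl⟩
  rw [Scheme.Opens.range_ι] at h0
  exact h0

theorem main0722 [ProEtS.PCont i] :
    PreservesFiniteLimits (ProEtS.pushP i) ∧ PreservesFiniteColimits (ProEtS.pushP i) :=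
  pushP_exact i (good_all i hr)

end Groth.Agent.Lib.Helper29.Main0722
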