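import Mathlib
import Groth.Prelude.Def_PBC
import Groth.Prelude.Def_ProEtW
import Groth.Prelude.Def_EtBase
import Groth.Agent.S0675
import Groth.Agent.Lib.Helper8.Hzl.IndEtaleCat
import Groth.Agent.Lib.Helper29.Aux0692
import Groth.Agent.Lib.Helper29.Main0678
import Groth.Agent.Lib.Helper29.Main0677

/-!
# S0778: w-contractible iff retractions for faithfully flat ind-étale algebras (helper29)
-/

set_option autoImplicit false
set_option linter.style.haveILetI false
set_option linter.unusedSectionVars false
set_option maxHeartbeats 1600000

universe u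

open CategoryTheory Limits

namespace Groth.Agent.Lib.Helper29.Main0778

/-- An étale algebra is ind-étale (constant diagram). -/
theorem isIndEtale_of_etale (A B : Type u) [CommRing A] [CommRing B] [Algebra A B]
    [Algebra.Etale A B] : EtPBC.IsIndEtale A B := by
  refine ⟨Discrete PUnit.{u+1}, inferInstance, inferInstance,
    (Functor.const _).obj (Under.mk (CommRingCat.ofHom (algebraMap A B))),
    { pt := Under.mk (CommRingCat.ofHom (algebraMap A B))
      ι := { app := fun _ => 𝟙 _ } },
    { desc := fun s => s.ι.app ⟨PUnit.unit⟩
      fac := fun s j => by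
        rcases j with ⟨⟨⟩⟩
        simp
      uniq := fun s m hm => by
        have := hm ⟨PUnit.unit⟩
        simpa using this }, ?_, ⟨Iso.refl _⟩⟩
  intro j
  have h : (algebraMap A B).Etale := RingHom.etale_algebraMap.mpr inferInstance
  exact h

theorem main0778 (A : Type u) [CommRing A] :
    EtPBC.IsWContractible A ↔ ProEtW.HasIndEtaleRetractions A := by
  constructor
  · intro H B _ _ hff hie
    exact H B hff (Groth.Agent.Lib.Helper8.Hzl.weaklyEtale_of_isIndEtale A B hie)
  · intro H
    have HZ : ProEtW.HasIndZariskiRetractions A := by
      intro B _ _ hff hiz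
      exact H B hff (Groth.Agent.Lib.Helper29.Aux0692.isIndEtale_of_isIndZariski A B hiz)
    have HE : ProEtW.HasEtaleRetractions A := by
      intro B _ _ hff het
      haveI := het
      exact H B hff (isIndEtale_of_etale A B)
    obtain ⟨h1, h2⟩ := (Groth.Agent.Lib.Helper29.Main0678.main0678 A).mp HZ
    exact (Groth.Agent.Lib.Helper29.Main0677.main0677 A).mpr
      ⟨h1, h2, fun m _ => Groth.Agent.S0675.result A HE m⟩

end Groth.Agent.Lib.Helper29.Main0778
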