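import Mathlib
import Groth.Agent.S0537
import Groth.Agent.S12237
import Groth.Agent.S0539
import Groth.Agent.S7127
import Groth.Agent.S1974
import Groth.Agent.Lib.Helper29.Main0427
import Groth.Agent.Lib.Helper8.Hzl.IndEtaleCat
import Groth.Agent.Lib.Helper1.WeaklyEtaleLib
import Groth.Agent.Lib.Helper22.WEStalk

/-!
# Weakly étale iff strict henselizations agree (helper29)
-/

set_option autoImplicit false
set_option maxHeartbeats 1600000
set_option linter.style.haveILetI false
set_option linter.unusedSectionVars false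
universe u

open AlgebraicGeometry CategoryTheory Limits TensorProduct IsLocalRing

namespace Groth.Agent.Lib.Helper29.Main1467

/-- A strict henselization is weakly étale. -/
theorem weaklyEtale_of_sh (R S : Type u) [CommRing R] [IsLocalRing R] [CommRing S] [IsLocalRing S]
    [Algebra R S] [IsLocalHom (algebraMap R S)] [Hensel.IsStrictHenselization R S] :
    Algebra.WeaklyEtale R S :=
  Groth.Agent.Lib.Helper8.Hzl.weaklyEtale_of_isIndEtale R S (Groth.Agent.S12237.result R S)

/-- Residue field extensions of weakly étale local homomorphisms are separable. -/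
theorem isSeparable_residueField (A B : Type u) [CommRing A] [CommRing B] [IsLocalRing A]
    [IsLocalRing B] [Algebra A B] [IsLocalHom (algebraMap A B)] [Algebra.WeaklyEtale A B] :
    Algebra.IsSeparable (ResidueField A) (ResidueField B) := by
  letI := Localization.AtPrime.algebraOfLiesOver (maximalIdeal A) (maximalIdeal B)
  haveI hsep : Algebra.IsSeparable (maximalIdeal A).ResidueField (maximalIdeal B).ResidueField :=
    Groth.Agent.S1974.result A B (maximalIdeal A) (maximalIdeal B)
  exact (Algebra.isSeparable_residueField_iff (p := maximalIdeal A) (q := maximalIdeal B)).mp hsep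

theorem isLocalHom_ringEquiv {R R' : Type*} [CommRing R] [CommRing R'] (e : R ≃+* R') :
    IsLocalHom (e : R →+* R') := ⟨fun a ha => by
  have h := ha.map (e.symm : R' →+* R)
  simpa using h⟩

/-- Transport of the strict henselization property along an isomorphism of the target. -/
theorem isStrictHenselization_of_equiv (R S S' : Type u) [CommRing R] [IsLocalRing R]
    [CommRing S] [IsLocalRing S] [Algebra R S] [IsLocalHom (algebraMap R S)]
    [CommRing S'] [IsLocalRing S'] [Algebra R S'] [IsLocalHom (algebraMap R S')]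
    [hS : Hensel.IsStrictHenselization R S] (e : S ≃+* S')
    (he : ∀ r, e (algebraMap R S r) = algebraMap R S' r)
    (hh : HenselianLocalRing S') (hsc : IsSepClosure (ResidueField R) (ResidueField S')) :
    Hensel.IsStrictHenselization R S' := by
  haveI : IsLocalHom (e : S →+* S') := isLocalHom_ringEquiv e
  refine ⟨hh, hsc, ?_⟩
  intro T _ _ f _ τ hτ
  have hτ' : (τ.comp (ResidueField.map (e : S →+* S'))).comp
      (ResidueField.map (algebraMap R S)) = ResidueField.map f := by
    rw [← hτ]
    apply Ideal.Quotient.ringHom_ext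
    ext a
    change τ (residue S' (e (algebraMap R S a))) = τ (residue S' (algebraMap R S' a))
    rw [he]
  obtain ⟨g, ⟨hg1, hg2⟩, hu⟩ := hS.universal T f (τ.comp (ResidueField.map (e : S →+* S'))) hτ'
  have hes : ∀ a, e.symm (algebraMap R S' a) = algebraMap R S a := fun a => by
    rw [← he, e.symm_apply_apply]
  refine ⟨g.comp (e.symm : S' →+* S), ⟨?_, ?_⟩, ?_⟩
  · ext a
    have h1 := DFunLike.congr_fun hg1 a
    change g (e.symm (algebraMap R S' a)) = f a
    rw [hes]
    exact h1
  · intro x
    have h1 := hg2 (e.symm x)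
    change residue T (g (e.symm x)) = τ (residue S' x)
    rw [h1]
    change τ (residue S' (e (e.symm x))) = τ (residue S' x)
    rw [e.apply_symm_apply]
  · rintro g' ⟨hg'1, hg'2⟩
    have h1 := hu (g'.comp (e : S →+* S')) ⟨?_, ?_⟩
    · ext x
      have h2 := DFunLike.congr_fun h1 (e.symm x)
      change g' (e (e.symm x)) = g (e.symm x) at h2
      rw [e.apply_symm_apply] at h2
      exact h2
    · ext a
      have h2 := DFunLike.congr_fun hg'1 a
      change g' (e (algebraMap R S a)) = f a
      rw [he]
      exact h2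
    · intro x
      exact hg'2 (e x)

section Forward

variable (P Q R : Type u) [CommRing P] [IsLocalRing P] [CommRing Q] [IsLocalRing Q]
  [Algebra P Q] [IsLocalHom (algebraMap P Q)]
  [CommRing R] [IsLocalRing R] [Algebra Q R] [IsLocalHom (algebraMap Q R)]
  [Algebra P R] [IsScalarTower P Q R] [IsLocalHom (algebraMap P R)]

theorem forward [Algebra.WeaklyEtale P Q] [hR : Hensel.IsStrictHenselization Q R] :
    Hensel.IsStrictHenselization P R := by
  haveI : Algebra.WeaklyEtale Q R := weaklyEtale_of_sh Q R
  haveI hPR : Algebra.WeaklyEtale P R := Algebra.WeaklyEtale.trans P Q R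
  haveI hhR : HenselianLocalRing R := hR.henselian
  haveI hscR : IsSepClosed (ResidueField R) := hR.isSepClosure.sep_closed
  haveI hsepPR : Algebra.IsSeparable (ResidueField P) (ResidueField R) :=
    isSeparable_residueField P R
  obtain ⟨R', _, _, _, _, hR'⟩ := Groth.Agent.S0537.result P
  haveI : Algebra.WeaklyEtale P R' := weaklyEtale_of_sh P R'
  haveI hhR' : HenselianLocalRing R' := hR'.henselian
  haveI hscR' : IsSepClosed (ResidueField R') := hR'.isSepClosure.sep_closed
  haveI hsepR' : Algebra.IsSeparable (ResidueField P) (ResidueField R') :=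
    hR'.isSepClosure.separable
  let τ₀ : ResidueField R' →ₐ[ResidueField P] ResidueField R := IsSepClosed.lift
  have hτ₀ : (τ₀ : ResidueField R' →+* ResidueField R).comp
      (ResidueField.map (algebraMap P R')) = ResidueField.map (algebraMap P R) := by
    apply Ideal.Quotient.ringHom_ext
    ext a
    exact τ₀.commutes (residue P a)
  obtain ⟨φ, ⟨hφ1, hφ2⟩, -⟩ := hR'.universal R (algebraMap P R)
    (τ₀ : ResidueField R' →+* ResidueField R) hτ₀
  haveI hφloc : IsLocalHom φ := ⟨fun x hx => by
    have h1 : residue R (φ x) ≠ 0 := by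
      rw [Ne, residue_eq_zero_iff]
      exact fun h => (mem_maximalIdeal _).mp h hx
    rw [hφ2] at h1
    have h2 : residue R' x ≠ 0 := fun h => h1 (by rw [h, map_zero])
    rw [Ne, residue_eq_zero_iff] at h2
    by_contra hnu
    exact h2 ((mem_maximalIdeal _).mpr hnu)⟩
  letI : Algebra R' R := φ.toAlgebra
  haveI : IsScalarTower P R' R := IsScalarTower.of_algebraMap_eq (fun a =>
    (DFunLike.congr_fun hφ1 a).symm)
  haveI : IsLocalHom (algebraMap R' R) := hφloc
  haveI : Algebra.WeaklyEtale R' R := Groth.Agent.S7127.result P R' R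
  have hbij : Function.Bijective (algebraMap R' R) :=
    Groth.Agent.Lib.Helper29.Main0427.main0427
  exact isStrictHenselization_of_equiv P R' R (RingEquiv.ofBijective (algebraMap R' R) hbij)
    (fun r => DFunLike.congr_fun hφ1 r) hhR ⟨hscR, hsepPR⟩

theorem backward [Hensel.IsStrictHenselization Q R] [Hensel.IsStrictHenselization P R] :
    Algebra.WeaklyEtale P Q := by
  haveI : Algebra.WeaklyEtale P R := weaklyEtale_of_sh P R
  haveI : Module.FaithfullyFlat Q R := Groth.Agent.S0539.result Q R
  haveI : Module.Flat P Q := Groth.Agent.Lib.Helper1.WeaklyEtale.flat_of_flat_of_faithfullyFlat P Q R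
  exact Groth.Agent.Lib.Helper1.WeaklyEtale.weaklyEtale_of_faithfullyFlat P Q R

end Forward

theorem main1467 {X Y : Scheme.{u}} (f : X ⟶ Y) :
    WeaklyEtale f ↔ ∀ (x : X) (R : Type u) [CommRing R] [IsLocalRing R] [Algebra ↑(X.presheaf.stalk x) R]
      [IsLocalHom (algebraMap ↑(X.presheaf.stalk x) R)] [Hensel.IsStrictHenselization ↑(X.presheaf.stalk x) R],
      letI : Algebra ↑(Y.presheaf.stalk (f x)) R := ((algebraMap ↑(X.presheaf.stalk x) R).comp (f.stalkMap x).hom).toAlgebra
      ∃ _ : IsLocalHom (algebraMap ↑(Y.presheaf.stalk (f x)) R), Hensel.IsStrictHenselization ↑(Y.presheaf.stalk (f x)) R := by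
  rw [Groth.Agent.Lib.Helper22.WEStalk.weaklyEtale_iff_stalk]
  constructor
  · intro h x R _ _ _ _ _
    letI : Algebra (Y.presheaf.stalk (f x)) (X.presheaf.stalk x) := (f.stalkMap x).hom.toAlgebra
    letI : Algebra ↑(Y.presheaf.stalk (f x)) R :=
      ((algebraMap ↑(X.presheaf.stalk x) R).comp (f.stalkMap x).hom).toAlgebra
    haveI : IsScalarTower (Y.presheaf.stalk (f x)) (X.presheaf.stalk x) R :=
      IsScalarTower.of_algebraMap_eq (fun a => rfl)
    haveI h1 : IsLocalHom (algebraMap (Y.presheaf.stalk (f x)) (X.presheaf.stalk x)) :=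
      inferInstanceAs (IsLocalHom (f.stalkMap x).hom)
    haveI : Algebra.WeaklyEtale (Y.presheaf.stalk (f x)) (X.presheaf.stalk x) :=
      ⟨(h x).1, (h x).2⟩
    haveI hloc : IsLocalHom (algebraMap (Y.presheaf.stalk (f x)) R) := by
      change IsLocalHom ((algebraMap ↑(X.presheaf.stalk x) R).comp (f.stalkMap x).hom)
      exact RingHom.isLocalHom_comp _ _
    exact ⟨hloc, forward (Y.presheaf.stalk (f x)) (X.presheaf.stalk x) R⟩
  · intro h x
    obtain ⟨R, _, _, _, _, hR⟩ := Groth.Agent.S0537.result (X.presheaf.stalk x)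
    obtain ⟨hloc, hsh⟩ := h x R
    letI : Algebra (Y.presheaf.stalk (f x)) (X.presheaf.stalk x) := (f.stalkMap x).hom.toAlgebra
    letI : Algebra ↑(Y.presheaf.stalk (f x)) R :=
      ((algebraMap ↑(X.presheaf.stalk x) R).comp (f.stalkMap x).hom).toAlgebra
    haveI : IsScalarTower (Y.presheaf.stalk (f x)) (X.presheaf.stalk x) R :=
      IsScalarTower.of_algebraMap_eq (fun a => rfl)
    haveI h1 : IsLocalHom (algebraMap (Y.presheaf.stalk (f x)) (X.presheaf.stalk x)) :=
      inferInstanceAs (IsLocalHom (f.stalkMap x).hom)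
    have hw : Algebra.WeaklyEtale (Y.presheaf.stalk (f x)) (X.presheaf.stalk x) :=
      backward (Y.presheaf.stalk (f x)) (X.presheaf.stalk x) R
    exact ⟨hw.flat, Algebra.WeaklyEtale.flat_lmul' _ _⟩

end Groth.Agent.Lib.Helper29.Main1467
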