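import Mathlib
import Groth.Prelude
import Groth.Agent.Lib.Helper29.ClEmbFull
import Groth.Agent.Lib.Helper29.ClEmbB
import Groth.Agent.Lib.Helper29.ClEmbSC

/-!
# S6847: `i_*` for a closed embedding of ringed spaces (helper29)
-/

set_option autoImplicit false
set_option maxHeartbeats 1600000

universe u

open CategoryTheory CategoryTheory.Limits TopologicalSpace
open ModSite

namespace Groth.Agent.Lib.Helper29.Main6847

open Groth.Agent.Lib.Helper29

theorem main6847 {Z X : TopCat.{u}} (i : Z ⟶ X)
    (O_Z : TopCat.Sheaf CommRingCat.{u} Z) (O_X : TopCat.Sheaf CommRingCat.{u} X)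
    (c : O_X ⟶ ((TopologicalSpace.Opens.map i).sheafPushforwardContinuous CommRingCat.{u}
      (Opens.grothendieckTopology X) (Opens.grothendieckTopology Z)).obj O_Z)
    (hi : Topology.IsClosedEmbedding i) (hc : Sheaf.IsLocallySurjective c) :
    PreservesFiniteColimits (ModSite.RMor.ofFlat (TopologicalSpace.Opens.map i) c).push ∧
      (ModSite.RMor.ofFlat (TopologicalSpace.Opens.map i) c).push.Full ∧
      (ModSite.RMor.ofFlat (TopologicalSpace.Opens.map i) c).push.Faithful ∧
      ∀ G : ModSite.Mod O_X,
        (ModSite.RMor.ofFlat (TopologicalSpace.Opens.map i) c).push.essImage G ↔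
          ∀ (U : Opens X) (a : (ModSite.ringSh O_X).obj.obj (Opposite.op U)),
            ((ModSite.RMor.ofFlat (TopologicalSpace.Opens.map i) c).sharpR.hom.app (Opposite.op U)).hom a = 0 →
              ∀ s : ModSite.sect G U, a • s = 0 := by
  let f := ModSite.RMor.ofFlat (TopologicalSpace.Opens.map i) c
  let φ : ModSite.ringSh O_X ⟶ ((Opens.map i).sheafPushforwardContinuous RingCat.{u}
      (Opens.grothendieckTopology X) (Opens.grothendieckTopology Z)).obj (ModSite.ringSh O_Z) :=
    f.sharpR
  have hφ : Presheaf.IsLocallySurjective (Opens.grothendieckTopology X) φ.hom := by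
    refine ⟨fun {U} s => ?_⟩
    refine (Opens.grothendieckTopology X).superset_covering ?_
      (Presheaf.imageSieve_mem (Opens.grothendieckTopology X) c.hom s)
    rintro V g ⟨t, ht⟩
    exact ⟨t, ht⟩
  haveI hl : PreservesFiniteLimits (SheafOfModules.pushforward.{u} φ) := by
    haveI : PreservesLimitsOfSize.{0, 0} f.push := f.adj.rightAdjoint_preservesLimits
    exact (inferInstance : PreservesFiniteLimits f.push)
  haveI : (SheafOfModules.pushforward.{u} φ).Additive :=
    (inferInstance : f.push.Additive)
  refine ⟨?_, ?_, ?_, ?_⟩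
  · exact ClEmbB.preservesFiniteColimits i hi φ
  · exact ClEmbFull.full i hi φ hφ
  · exact ClEmbA.faithful i hi φ
  · intro G
    constructor
    · intro hG U a ha s
      exact ClEmbB.smul_eq_zero_of_essImage i φ G hG U a ha s
    · intro hG
      exact ClEmbSC.essImage_of_smul_eq_zero i hi φ hφ G
        (fun U a ha s => hG U.unop a ha s)

end Groth.Agent.Lib.Helper29.Main6847
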