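import Mathlib
import Groth.Agent.S1967
import Groth.Agent.S1976
import Groth.Agent.Lib.Helper22.WEStalk

/-!
# Normality ascends along weakly étale morphisms (helper29)
-/

set_option autoImplicit false
set_option maxHeartbeats 1600000
set_option linter.style.haveILetI false
set_option linter.unusedSectionVars false
universe u

open AlgebraicGeometry CategoryTheory Limits TensorProduct

namespace Groth.Agent.Lib.Helper29.Main7180

/-- In an étale algebra over a field every element `x` is of the form `x * x * y`. -/
theorem exists_eq_mul_of_etale (K : Type u) [Field K] (S : Type u) [CommRing S] [Algebra K S]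
    [Algebra.Etale K S] (x : S) : ∃ y : S, x = x * x * y := by
  obtain ⟨I, _, Ai, _, _, e, _⟩ := (Algebra.Etale.iff_exists_algEquiv_prod K S).mp inferInstance
  refine ⟨e.symm (fun i => (e x i)⁻¹), ?_⟩
  apply e.injective
  rw [map_mul, map_mul, e.apply_symm_apply]
  funext i
  simp only [Pi.mul_apply]
  by_cases h : e x i = 0
  · simp [h]
  · field_simp

/-- A weakly étale algebra over a field is absolutely flat (elementwise form). -/
theorem exists_eq_mul_of_weaklyEtale (K : Type u) [Field K] (L : Type u) [CommRing L] [Algebra K L]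
    [Algebra.WeaklyEtale K L] (x : L) : ∃ y : L, x = x * x * y := by
  have hS : (Algebra.adjoin K {x}).FG := ⟨{x}, by simp⟩
  haveI : Algebra.Etale K (Algebra.adjoin K {x}) :=
    (Groth.Agent.S1976.result K L).2 inferInstance _ hS
  obtain ⟨y, hy⟩ := exists_eq_mul_of_etale K (Algebra.adjoin K {x})
    ⟨x, Algebra.subset_adjoin (Set.mem_singleton x)⟩
  refine ⟨y.1, ?_⟩
  have := congrArg Subtype.val hy
  simpa using this

theorem isIntegral_of_idem {R S : Type*} [CommRing R] [CommRing S] [Algebra R S] (e : S)
    (he : e * e = e) : IsIntegral R e := by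
  have hm : (Polynomial.X * (Polynomial.X - Polynomial.C 1) : Polynomial R).Monic :=
    Polynomial.monic_X.mul (Polynomial.monic_X_sub_C 1)
  have h0 : Polynomial.eval₂ (algebraMap R S) e
      (Polynomial.X * (Polynomial.X - Polynomial.C 1) : Polynomial R) = 0 := by
    rw [Polynomial.eval₂_mul, Polynomial.eval₂_sub, Polynomial.eval₂_X, Polynomial.eval₂_C,
      map_one, mul_sub, he, mul_one, sub_self]
  exact ⟨_, hm, h0⟩

theorem isUnit_of_ne_zero (B L : Type u) [CommRing B] [IsLocalRing B] [CommRing L] [Algebra B L]
    (hinj : Function.Injective (algebraMap B L)) (hic : IsIntegrallyClosedIn B L)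
    (habs : ∀ x : L, ∃ y : L, x = x * x * y) (x : L) (hx : x ≠ 0) : IsUnit x := by
  have hidemB : ∀ b : B, b * b = b → b = 0 ∨ b = 1 := by
    intro b hb
    rcases IsLocalRing.isUnit_or_isUnit_one_sub_self b with h | h
    · right
      have : b * b = b * 1 := by rw [hb, mul_one]
      exact h.mul_left_cancel this
    · left
      have : (1 - b) * b = (1 - b) * 0 := by rw [mul_zero, sub_mul, one_mul, hb, sub_self]
      exact h.mul_left_cancel this
  have hidem : ∀ e : L, e * e = e → e = 0 ∨ e = 1 := by
    intro e he
    have hint : IsIntegral B e := isIntegral_of_idem e he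
    obtain ⟨b, rfl⟩ := (IsIntegralClosure.isIntegral_iff (A := B) (R := B) (B := L)).mp hint
    have hb : b * b = b := hinj (by rw [map_mul, he])
    rcases hidemB b hb with h | h
    · left; rw [h, map_zero]
    · right; rw [h, map_one]
  obtain ⟨y, hy⟩ := habs x
  have he : (x * y) * (x * y) = x * y := by
    calc (x * y) * (x * y) = (x * x * y) * y := by ring
      _ = x * y := by rw [← hy]
  rcases hidem _ he with h | h
  · exfalso
    apply hx
    calc x = x * x * y := hy
      _ = x * (x * y) := by ring
      _ = 0 := by rw [h, mul_zero]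
  · exact IsUnit.of_mul_eq_one y h

theorem normal_of_loc (B L : Type u) [CommRing B] [IsLocalRing B] [CommRing L] [Algebra B L]
    (M : Submonoid B) [IsLocalization M L]
    (hinj : Function.Injective (algebraMap B L)) (hic : IsIntegrallyClosedIn B L)
    (hunit : ∀ x : L, x ≠ 0 → IsUnit x) : IsDomain B ∧ IsIntegrallyClosed B := by
  haveI : Nontrivial L := hinj.nontrivial
  haveI : NoZeroDivisors L := ⟨fun {a b} hab => by
    by_cases ha : a = 0
    · exact Or.inl ha
    · exact Or.inr ((hunit a ha).mul_right_eq_zero.mp hab)⟩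
  haveI : IsDomain L := NoZeroDivisors.to_isDomain _
  haveI hdB : IsDomain B := hinj.isDomain (algebraMap B L)
  haveI : IsFractionRing B L := by
    refine IsLocalization.of_le (M := M) (nonZeroDivisors B) ?_ ?_
    · intro r hr
      have h1 : IsUnit (algebraMap B L r) := IsLocalization.map_units L (⟨r, hr⟩ : M)
      apply mem_nonZeroDivisors_of_ne_zero
      rintro rfl
      rw [map_zero] at h1
      exact not_isUnit_zero h1
    · intro r hr
      apply hunit
      intro h0
      have : r = 0 := hinj (by rw [h0, map_zero])
      exact (nonZeroDivisors.ne_zero hr) this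
  exact ⟨hdB, (isIntegrallyClosed_iff_isIntegrallyClosedIn L).mpr hic⟩

theorem isDomain_and_isIntegrallyClosed (A B : Type u) [CommRing A] [IsDomain A]
    [IsIntegrallyClosed A] [CommRing B] [Algebra A B] [Algebra.WeaklyEtale A B] [IsLocalRing B] :
    IsDomain B ∧ IsIntegrallyClosed B := by
  have hic : IsIntegrallyClosedIn B (B ⊗[A] FractionRing A) :=
    Groth.Agent.S1967.result A (FractionRing A) B
  have hinj : Function.Injective (algebraMap B (B ⊗[A] FractionRing A)) :=
    Algebra.TensorProduct.includeLeft_injective (S := B) (IsFractionRing.injective A (FractionRing A))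
  -- absolute flatness of `L`
  have habs : ∀ x : B ⊗[A] FractionRing A, ∃ y : B ⊗[A] FractionRing A, x = x * x * y := by
    intro x
    obtain ⟨y, hy⟩ := exists_eq_mul_of_weaklyEtale (FractionRing A) (FractionRing A ⊗[A] B)
      (Algebra.TensorProduct.comm A B (FractionRing A) x)
    refine ⟨(Algebra.TensorProduct.comm A B (FractionRing A)).symm y, ?_⟩
    apply (Algebra.TensorProduct.comm A B (FractionRing A)).injective
    rw [map_mul, map_mul, AlgEquiv.apply_symm_apply]
    exact hy
  haveI hloc : IsLocalization (Algebra.algebraMapSubmonoid B (nonZeroDivisors A))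
    (B ⊗[A] FractionRing A) := IsLocalization.tensor (FractionRing A) (nonZeroDivisors A)
  exact normal_of_loc B (B ⊗[A] FractionRing A) (Algebra.algebraMapSubmonoid B (nonZeroDivisors A))
    hinj hic (isUnit_of_ne_zero B _ hinj hic habs)

theorem main7180 {X Y : Scheme.{u}} (f : X ⟶ Y) [WeaklyEtale f] (hY : Pi1.IsNormalScheme Y) :
    Pi1.IsNormalScheme X := by
  intro x
  obtain ⟨hd, hi⟩ := hY (f x)
  have h := (Groth.Agent.Lib.Helper22.WEStalk.weaklyEtale_iff_stalk f).mp inferInstance x
  letI : Algebra (Y.presheaf.stalk (f x)) (X.presheaf.stalk x) := (f.stalkMap x).hom.toAlgebra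
  haveI : Algebra.WeaklyEtale (Y.presheaf.stalk (f x)) (X.presheaf.stalk x) := ⟨h.1, h.2⟩
  exact isDomain_and_isIntegrallyClosed (Y.presheaf.stalk (f x)) (X.presheaf.stalk x)

end Groth.Agent.Lib.Helper29.Main7180
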