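import Mathlib
import Groth.Prelude.Def_W4c2conddiscmodels
import Groth.Agent.Lib.Helper29.CauchyBinetSq
import Groth.Agent.Lib.Helper29.GraphInc
import Groth.Agent.Lib.Helper29.GraphDet
import Groth.Agent.Lib.Helper29.CompGrpDet

set_option autoImplicit false

open Finset Matrix

namespace Groth.Agent.Lib.Helper29.MatTree

open Groth.Agent.Lib.Helper29.GraphInc Groth.Agent.Lib.Helper29.GraphDet
  Groth.Agent.Lib.Helper29.CompGrpDet

universe u

variable {V E : Type u} [Fintype V] [Fintype E] [DecidableEq V] [DecidableEq E]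

/-- weights on the augmented column set -/
def Dw (w : E → ℤ) : Option E → ℤ := fun x => x.elim 1 w

@[simp] theorem Dw_none (w : E → ℤ) : Dw w none = 1 := rfl
@[simp] theorem Dw_some (w : E → ℤ) (e : E) : Dw w (some e) = w e := rfl

/-! ### the weighted Laplacian -/

theorem inc_mul_inc_of_ne (ends : E → V × V) (β : V → ℤ) {i j : V} (hij : i ≠ j) (e : E) :
    inc ℤ ends i e * (β (ends e).1 * β (ends e).2) * inc ℤ ends j e =
      if ends e = (i, j) ∨ ends e = (j, i) then -(β i * β j) else 0 := by
  have hji : j ≠ i := hij.symm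
  rcases hab : ends e with ⟨a, b⟩
  simp only [inc, Prod.mk.injEq]
  by_cases h1 : a = i <;> by_cases h2 : b = i <;> by_cases h3 : a = j <;> by_cases h4 : b = j <;>
    simp_all <;> ring

theorem lap_row_sum (ends : E → V × V) (β : V → ℤ) (i : V) :
    ∑ j, ∑ e, inc ℤ ends i e * (β (ends e).1 * β (ends e).2) * inc ℤ ends j e = 0 := by
  rw [Finset.sum_comm]
  refine Finset.sum_eq_zero fun e _ => ?_
  rw [← Finset.mul_sum, inc_col_sum, mul_zero]

theorem lap_eq (ends : E → V × V) (β : V → ℤ) (hβ : LabGraph.IsMultFn ends β) (i j : V) :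
    ∑ e, inc ℤ ends i e * (β (ends e).1 * β (ends e).2) * inc ℤ ends j e
      = -(β i * β j * LabGraph.mfMatrix ends β i j) := by
  have hoff : ∀ i j : V, i ≠ j →
      ∑ e, inc ℤ ends i e * (β (ends e).1 * β (ends e).2) * inc ℤ ends j e
        = -(β i * β j * LabGraph.mfMatrix ends β i j) := by
    intro i j hij
    have hm : LabGraph.mfMatrix ends β i j = (LabGraph.edgeMult ends i j : ℤ) := if_neg hij
    rw [hm, LabGraph.edgeMult, Finset.card_filter]
    push_cast
    rw [Finset.mul_sum, ← Finset.sum_neg_distrib]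
    refine Finset.sum_congr rfl fun e _ => ?_
    rw [inc_mul_inc_of_ne ends β hij e]
    split_ifs <;> simp
  by_cases hij : i = j
  · subst hij
    have h1 := lap_row_sum ends β i
    rw [← Finset.add_sum_erase univ _ (Finset.mem_univ i)] at h1
    have h2 : ∑ j, β i * β j * LabGraph.mfMatrix ends β i j = 0 := by
      have := mf_mulVec_beta ends β hβ i
      calc ∑ j, β i * β j * LabGraph.mfMatrix ends β i j
          = β i * ∑ j, LabGraph.mfMatrix ends β i j * β j := by
            rw [Finset.mul_sum]; exact Finset.sum_congr rfl fun j _ => by ring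
        _ = 0 := by rw [this, mul_zero]
    rw [← Finset.add_sum_erase univ _ (Finset.mem_univ i)] at h2
    have h3 : ∑ j ∈ univ.erase i,
        ∑ e, inc ℤ ends i e * (β (ends e).1 * β (ends e).2) * inc ℤ ends j e
        = -∑ j ∈ univ.erase i, β i * β j * LabGraph.mfMatrix ends β i j := by
      rw [← Finset.sum_neg_distrib]
      exact Finset.sum_congr rfl fun j hj => hoff i j (Finset.ne_of_mem_erase hj).symm
    linarith
  · exact hoff i j hij

/-- the matrix `B M B` -/
def Pmat (ends : E → V × V) (β u : V → ℤ) : Matrix V V ℤ :=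
  Matrix.of fun i j => β i * (Matrix.of (fun i j => β j * Mmat ends β u i j) i j)

theorem Pmat_det (ends : E → V × V) (β u : V → ℤ) :
    (Pmat ends β u).det = (∏ v, β v) * ((∏ v, β v) * (Mmat ends β u).det) := by
  unfold Pmat
  rw [Matrix.det_mul_column, Matrix.det_mul_row]

theorem hP_main (ends : E → V × V) (β : V → ℤ) (hβ : LabGraph.IsMultFn ends β) (u : V → ℤ)
    (i j : V) :
    Pmat ends β u i j =
      ∑ x : Option E, incAug ℤ ends (fun v => β v * u v) i x *
        Dw (fun e => β (ends e).1 * β (ends e).2) x * incAug ℤ ends (fun v => β v * u v) j x := by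
  rw [Fintype.sum_option]
  simp only [incAug_none, incAug_some, Dw_none, Dw_some]
  rw [lap_eq ends β hβ i j]
  simp only [Pmat, Mmat, Matrix.of_apply]
  ring

/-! ### positivity -/

theorem det_ne_zero_of_pos {n m : Type*} [Fintype n] [DecidableEq n] [Fintype m]
    (A : Matrix n m ℤ) (D : m → ℤ) (hD : ∀ k, 0 < D k) (P : Matrix n n ℤ)
    (hP : ∀ i j, P i j = ∑ k, A i k * D k * A j k)
    (hinj : ∀ x : n → ℤ, x ᵥ* A = 0 → x = 0) : P.det ≠ 0 := by
  intro h0
  obtain ⟨x, hx0, hx⟩ := Matrix.exists_mulVec_eq_zero_iff.mpr h0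
  apply hx0
  apply hinj
  have hq : ∑ i, x i * ∑ j, P i j * x j = ∑ k, D k * (∑ i, x i * A i k) ^ 2 := by
    have h1 : ∀ k, D k * (∑ i, x i * A i k) ^ 2 =
        ∑ i, ∑ j, x i * (A i k * D k * A j k) * x j := by
      intro k
      rw [sq, Finset.sum_mul_sum, Finset.mul_sum]
      refine Finset.sum_congr rfl fun i _ => ?_
      rw [Finset.mul_sum]
      refine Finset.sum_congr rfl fun j _ => ?_
      ring
    simp only [h1]
    rw [Finset.sum_comm]
    refine Finset.sum_congr rfl fun i _ => ?_
    rw [Finset.sum_comm, Finset.mul_sum]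
    refine Finset.sum_congr rfl fun j _ => ?_
    rw [hP i j, Finset.sum_mul, Finset.mul_sum]
    exact Finset.sum_congr rfl fun k _ => by ring
  have hzero : ∑ i, x i * ∑ j, P i j * x j = 0 := by
    refine Finset.sum_eq_zero fun i _ => ?_
    have := congrFun hx i
    have e : (P *ᵥ x) i = ∑ j, P i j * x j := rfl
    rw [e, Pi.zero_apply] at this
    rw [this, mul_zero]
  rw [hq] at hzero
  have hall := (Finset.sum_eq_zero_iff_of_nonneg (fun k _ =>
    mul_nonneg (hD k).le (sq_nonneg _))).mp hzero
  funext k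
  have hk := hall k (Finset.mem_univ k)
  have hk2 : (∑ i, x i * A i k) ^ 2 = 0 := (mul_eq_zero.mp hk).resolve_left (hD k).ne'
  exact pow_eq_zero_iff (two_ne_zero) |>.mp hk2

/-! ### the matrix-tree formula -/

/-- the column selections that contribute -/
def good (ends : E → V × V) (f : V → Option E) : Prop :=
  Function.Injective f ∧ (∃ j, f j = none) ∧
    LabGraph.IsSpanningTree ends (univ.image f).eraseNone

open Classical in
theorem det_P_eq [Nonempty V] (ends : E → V × V) (w : E → ℤ) (z : V → ℤ) (P : Matrix V V ℤ)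
    (hP : ∀ i j, P i j =
      ∑ x : Option E, incAug ℤ ends z i x * Dw w x * incAug ℤ ends z j x) :
    P.det = (∑ v, z v) ^ 2 *
      ∑ T ∈ univ.powerset.filter (fun T : Finset E => LabGraph.IsSpanningTree ends T),
        ∏ e ∈ T, w e := by
  obtain ⟨v0⟩ := ‹Nonempty V›
  have hCB := CauchyBinetSq.factorial_mul_det (incAug ℤ ends z) (Dw w) P hP
  have hterm : ∀ f : V → Option E,
      (∏ i, Dw w (f i)) * ((incAug ℤ ends z).submatrix id f).det ^ 2 =
        if good ends f then (∑ v, z v) ^ 2 * ∏ e ∈ (univ.image f).eraseNone, w e else 0 := by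
    intro f
    by_cases hinj : Function.Injective f
    · by_cases hn : ∃ j, f j = none
      · obtain ⟨j0, hj0⟩ := hn
        rw [det_incAug_eq ends z v0 f hinj j0 hj0, mul_pow,
          det_sq_eq_ite ends v0 f hinj ⟨j0, hj0⟩]
        by_cases hT : LabGraph.IsSpanningTree ends (univ.image f).eraseNone
        · rw [if_pos hT, if_pos (show good ends f from ⟨hinj, ⟨j0, hj0⟩, hT⟩), mul_one]
          have hprod : ∏ i, Dw w (f i) = ∏ e ∈ (univ.image f).eraseNone, w e := by
            have h1 : ∏ i, Dw w (f i) = ∏ x ∈ univ.image f, Dw w x :=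
              (Finset.prod_image (fun a _ b _ h => hinj h)).symm
            have h2 : univ.image f = Finset.insertNone (univ.image f).eraseNone := by
              rw [Finset.insertNone_eraseNone, Finset.insert_eq_of_mem]
              exact Finset.mem_image.mpr ⟨j0, Finset.mem_univ _, hj0⟩
            rw [h1]
            conv_lhs => rw [h2]
            rw [Finset.prod_insertNone]
            simp
          rw [hprod]; ring
        · rw [if_neg hT, if_neg (fun h : good ends f => hT h.2.2)]; ring
      · rw [det_incAug_of_none_notMem ends z f (fun j hj => hn ⟨j, hj⟩),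
          if_neg (fun h : good ends f => hn h.2.1)]
        ring
    · obtain ⟨a, b, hab, hne⟩ : ∃ a b, f a = f b ∧ a ≠ b := by
        simpa [Function.Injective] using hinj
      rw [Matrix.det_zero_of_column_eq hne (fun k => by simp [hab]),
        if_neg (fun h : good ends f => hinj h.1)]
      ring
  have hmaps : ∀ f ∈ univ.filter (fun f : V → Option E => good ends f),
      (univ.image f).eraseNone ∈
        univ.powerset.filter (fun T : Finset E => LabGraph.IsSpanningTree ends T) := by
    intro f hf
    rw [Finset.mem_filter] at hf ⊢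
    exact ⟨Finset.mem_powerset.mpr (Finset.subset_univ _), hf.2.2.2⟩
  have hsum : ∑ f : V → Option E,
      (∏ i, Dw w (f i)) * ((incAug ℤ ends z).submatrix id f).det ^ 2
      = ((Fintype.card V).factorial : ℤ) * ((∑ v, z v) ^ 2 *
        ∑ T ∈ univ.powerset.filter (fun T : Finset E => LabGraph.IsSpanningTree ends T),
          ∏ e ∈ T, w e) := by
    simp only [hterm]
    rw [← Finset.sum_filter, ← Finset.sum_fiberwise_of_maps_to hmaps, Finset.mul_sum,
      Finset.mul_sum]
    refine Finset.sum_congr rfl fun T hT => ?_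
    have hTtree : LabGraph.IsSpanningTree ends T := (Finset.mem_filter.mp hT).2
    have hcard : (Finset.insertNone T).card = Fintype.card V := by
      rw [Finset.card_insertNone]
      have := card_add_one_of_isTree (fun e : T => ends e.1) hTtree
      rwa [Fintype.card_coe] at this
    have hfil : Finset.filter (fun f : V → Option E => (univ.image f).eraseNone = T)
        (univ.filter (fun f : V → Option E => good ends f))
        = univ.filter (fun f : V → Option E =>
            Function.Injective f ∧ univ.image f = Finset.insertNone T) := by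
      ext f
      simp only [Finset.mem_filter, Finset.mem_univ, true_and]
      constructor
      · rintro ⟨⟨hi, ⟨j0, hj0⟩, _⟩, hTf⟩
        refine ⟨hi, ?_⟩
        rw [← hTf, Finset.insertNone_eraseNone, Finset.insert_eq_of_mem]
        exact Finset.mem_image.mpr ⟨j0, Finset.mem_univ _, hj0⟩
      · rintro ⟨hi, him⟩
        have hTf : (univ.image f).eraseNone = T := by
          rw [him, Finset.eraseNone_insertNone]
        refine ⟨⟨hi, ?_, ?_⟩, hTf⟩
        · have hmem : none ∈ univ.image f := by
            rw [him]; exact Finset.none_mem_insertNone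
          obtain ⟨j, _, hj⟩ := Finset.mem_image.mp hmem
          exact ⟨j, hj⟩
        · rw [hTf]; exact hTtree
    rw [Finset.sum_congr rfl (g := fun _ => (∑ v, z v) ^ 2 * ∏ e ∈ T, w e) (fun f hf => by
      rw [(Finset.mem_filter.mp hf).2])]
    rw [Finset.sum_const, nsmul_eq_mul, hfil, CauchyBinetSq.card_inj_image_eq _ hcard]
  have hfac : ((Fintype.card V).factorial : ℤ) ≠ 0 := by
    exact_mod_cast (Nat.factorial_pos _).ne'
  exact mul_left_cancel₀ hfac (hCB.trans hsum)

/-! ### degrees in a tree -/

theorem prod_zpow_eq (β : V → ℤ) (hβ : ∀ v, β v ≠ 0) (d : V → ℕ) :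
    ∏ v, ((β v : ℚ) ^ ((d v : ℤ) - 2)) =
      ((∏ v, β v ^ d v : ℤ) : ℚ) / ((∏ v, β v : ℤ) : ℚ) ^ 2 := by
  have h1 : ∀ v, ((β v : ℚ) ^ ((d v : ℤ) - 2)) = (β v : ℚ) ^ d v / (β v : ℚ) ^ 2 := by
    intro v
    have hb : (β v : ℚ) ≠ 0 := by exact_mod_cast hβ v
    rw [zpow_sub₀ hb, zpow_natCast, zpow_ofNat]
  simp only [h1]
  rw [Finset.prod_div_distrib, Finset.prod_pow, Int.cast_prod, Int.cast_prod]
  simp only [Int.cast_pow]

theorem prod_edge_eq (ends : E → V × V) (β : V → ℤ) (T : Finset E) :
    ∏ e ∈ T, (β (ends e).1 * β (ends e).2) = ∏ v, β v ^ LabGraph.endCount ends T v := by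
  have h1 : ∀ e, β (ends e).1 * β (ends e).2 =
      ∏ v, β v ^ ((if (ends e).1 = v then 1 else 0) + (if (ends e).2 = v then 1 else 0)) := by
    intro e
    have ha : ∏ v, β v ^ (if (ends e).1 = v then 1 else 0) = β (ends e).1 := by
      simp [pow_ite]
    have hb : ∏ v, β v ^ (if (ends e).2 = v then 1 else 0) = β (ends e).2 := by
      simp [pow_ite]
    simp only [pow_add]
    rw [Finset.prod_mul_distrib, ha, hb]
  simp only [h1]
  rw [Finset.prod_comm]
  refine Finset.prod_congr rfl fun v _ => ?_
  rw [Finset.prod_pow_eq_pow_sum]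
  rfl

theorem endCount_eq_nbrCount (ends : E → V × V) (T : Finset E)
    (hT : LabGraph.IsSpanningTree ends T) (v : V) :
    LabGraph.endCount ends T v = LabGraph.nbrCount ends T v := by
  classical
  have hF : DualGr.IsForest (fun e : T => ends e.1) := hT.2
  have hL : ∀ e ∈ T, (ends e).1 ≠ (ends e).2 := fun e he =>
    forest_no_loop (fun e : T => ends e.1) hF ⟨e, he⟩
  have hPar : ∀ e ∈ T, ∀ e' ∈ T,
      (ends e' = ends e ∨ ends e' = ((ends e).2, (ends e).1)) → e' = e := by
    intro e he e' he' h
    have := forest_no_parallel (fun e : T => ends e.1) hF ⟨e, he⟩ ⟨e', he'⟩ h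
    exact congrArg Subtype.val this
  have h1 : LabGraph.endCount ends T v =
      (T.filter (fun e => (ends e).1 = v ∨ (ends e).2 = v)).card := by
    rw [LabGraph.endCount, Finset.card_filter]
    refine Finset.sum_congr rfl fun e he => ?_
    have := hL e he
    by_cases a : (ends e).1 = v <;> by_cases b : (ends e).2 = v
    · exact absurd (a.trans b.symm) this
    · simp [a, b]
    · simp [a, b]
    · simp [a, b]
  have hother : ∀ e, ((ends e).1 = v ∨ (ends e).2 = v) →
      (ends e = (v, if (ends e).1 = v then (ends e).2 else (ends e).1) ∨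
        ends e = ((if (ends e).1 = v then (ends e).2 else (ends e).1), v)) := by
    intro e hv
    by_cases a : (ends e).1 = v
    · rw [if_pos a]; exact Or.inl (Prod.ext a rfl)
    · rw [if_neg a]; exact Or.inr (Prod.ext rfl (hv.resolve_left a))
  rw [h1, LabGraph.nbrCount]
  refine Finset.card_bij (fun e _ => if (ends e).1 = v then (ends e).2 else (ends e).1) ?_ ?_ ?_
  · intro e he
    rw [Finset.mem_filter] at he ⊢
    obtain ⟨heT, hv⟩ := he
    refine ⟨Finset.mem_univ _, ?_, e, heT, hother e hv⟩
    by_cases a : (ends e).1 = v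
    · rw [if_pos a]
      exact fun h => hL e heT (a.trans h.symm)
    · rw [if_neg a]; exact a
  · intro e1 he1 e2 he2 h
    rw [Finset.mem_filter] at he1 he2
    have o1 := hother e1 he1.2
    have o2 := hother e2 he2.2
    rw [← h] at o2
    symm
    apply hPar e1 he1.1 e2 he2.1
    rcases o1 with o1 | o1 <;> rcases o2 with o2 | o2
    · exact Or.inl (o2.trans o1.symm)
    · refine Or.inr ?_
      rw [o2]; conv_rhs => rw [o1]
    · refine Or.inr ?_
      rw [o2]; conv_rhs => rw [o1]
    · exact Or.inl (o2.trans o1.symm)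
  · intro w hw
    rw [Finset.mem_filter] at hw
    obtain ⟨_, hwv, e, heT, he⟩ := hw
    refine ⟨e, ?_, ?_⟩
    · rw [Finset.mem_filter]
      refine ⟨heT, ?_⟩
      rcases he with he | he
      · left; rw [he]
      · right; rw [he]
    · rcases he with he | he
      · have a : (ends e).1 = v := by rw [he]
        rw [if_pos a, he]
      · have a : ¬ (ends e).1 = v := by rw [he]; exact hwv
        rw [if_neg a, he]

/-! ### the main theorem -/

open Classical in
theorem main14803 {V E : Type u} [Fintype V] [Fintype E] [DecidableEq V] [DecidableEq E]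
    (ends : E → V × V) (β : V → ℤ) (hβ : LabGraph.IsMultFn ends β) (hG : LabGraph.Connected ends) :
    (Nat.card (LabGraph.CompGrp ends β) : ℚ) =
      ((univ.gcd β : ℤ) : ℚ) ^ 2 *
        ∑ T ∈ univ.powerset.filter (fun T : Finset E => LabGraph.IsSpanningTree ends T),
          ∏ v : V, ((β v : ℚ) ^ ((LabGraph.nbrCount ends T v : ℤ) - 2)) := by
  obtain ⟨⟨v0⟩, _⟩ := id hG
  haveI : Nonempty V := ⟨v0⟩
  obtain ⟨u, hu⟩ := Finset.gcd_eq_sum_mul univ β
  have hβpos : ∀ v, 0 < β v := fun v => (hβ v).1
  have hg0 : (univ.gcd β : ℤ) ≠ 0 := by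
    intro h
    rw [Finset.gcd_eq_zero_iff] at h
    exact (hβpos v0).ne' (h v0 (Finset.mem_univ _))
  have hP := hP_main ends β hβ u
  have hformula := det_P_eq ends (fun e => β (ends e).1 * β (ends e).2) (fun v => β v * u v)
    (Pmat ends β u) hP
  rw [← hu] at hformula
  have hdetP := Pmat_det ends β u
  have hPne : (Pmat ends β u).det ≠ 0 := by
    refine det_ne_zero_of_pos (incAug ℤ ends (fun v => β v * u v))
      (Dw (fun e => β (ends e).1 * β (ends e).2)) ?_ (Pmat ends β u) hP ?_
    · intro x
      cases x with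
      | none => exact one_pos
      | some e => exact mul_pos (hβpos _) (hβpos _)
    · intro x hx
      refine left_ker_aug ends hG (fun v => β v * u v) ?_ x hx
      rw [← hu]; exact hg0
  have hMne : (Mmat ends β u).det ≠ 0 := by
    intro h; apply hPne; rw [hdetP, h]; ring
  have hcard := card_compGrp ends β hβ u hu.symm hMne
  have hPi : 0 < ∏ v, β v := Finset.prod_pos fun v _ => hβpos v
  have hκ : 0 ≤ ∑ T ∈ univ.powerset.filter
      (fun T : Finset E => LabGraph.IsSpanningTree ends T),
        ∏ e ∈ T, (β (ends e).1 * β (ends e).2) :=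
    Finset.sum_nonneg fun T _ => Finset.prod_nonneg fun e _ =>
      (mul_pos (hβpos _) (hβpos _)).le
  have hMnonneg : 0 ≤ (Mmat ends β u).det := by
    have h1 : 0 ≤ (∏ v, β v) * ((∏ v, β v) * (Mmat ends β u).det) := by
      rw [← hdetP, hformula]
      exact mul_nonneg (sq_nonneg _) hκ
    exact (mul_nonneg_iff_of_pos_left hPi).mp ((mul_nonneg_iff_of_pos_left hPi).mp h1)
  have hW : ∀ T ∈ univ.powerset.filter (fun T : Finset E => LabGraph.IsSpanningTree ends T),
      ∏ v : V, ((β v : ℚ) ^ ((LabGraph.nbrCount ends T v : ℤ) - 2)) =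
        ((∏ e ∈ T, (β (ends e).1 * β (ends e).2) : ℤ) : ℚ) / ((∏ v, β v : ℤ) : ℚ) ^ 2 := by
    intro T hT
    have hTtree := (Finset.mem_filter.mp hT).2
    rw [prod_zpow_eq β (fun v => (hβpos v).ne') (fun v => LabGraph.nbrCount ends T v),
      prod_edge_eq ends β T]
    have : ∏ v, β v ^ LabGraph.endCount ends T v = ∏ v, β v ^ LabGraph.nbrCount ends T v :=
      Finset.prod_congr rfl fun v _ => by rw [endCount_eq_nbrCount ends T hTtree v]
    rw [this]
  rw [hcard, Finset.sum_congr rfl hW, ← Finset.sum_div, ← Int.cast_sum, Nat.cast_natAbs,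
    abs_of_nonneg hMnonneg]
  have hPiq : ((∏ v, β v : ℤ) : ℚ) ≠ 0 := by exact_mod_cast hPi.ne'
  have heq : ((∏ v, β v : ℤ) : ℚ) * (((∏ v, β v : ℤ) : ℚ) * ((Mmat ends β u).det : ℚ)) =
      ((univ.gcd β : ℤ) : ℚ) ^ 2 * ((∑ T ∈ univ.powerset.filter
        (fun T : Finset E => LabGraph.IsSpanningTree ends T),
          ∏ e ∈ T, (β (ends e).1 * β (ends e).2) : ℤ) : ℚ) := by
    exact_mod_cast (hdetP.symm.trans hformula)
  rw [← mul_div_assoc, eq_div_iff (pow_ne_zero 2 hPiq)]
  linear_combination heq

end Groth.Agent.Lib.Helper29.MatTree
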