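import Mathlib
import Groth.Prelude.Def_GSzMilK

/-!
# Basic identities in the Milnor group `K₂` of a field (helper29)

`sym x y = MilK.symbol ![x, y]`; bilinearity, Steinberg relation, `{x, -x} = 0`, anticommutativity,
`{x, x} = {x, -1}`.
-/

set_option autoImplicit false
universe u

namespace Groth.Agent.Lib.Helper29.MilnorK2

open MilK

variable {F : Type u} [Field F]

/-- The two-fold symbol as a function of additive units. -/
noncomputable def symA (a b : Additive Fˣ) : K F 2 :=
  mk F 2 (PiTensorProduct.tprod ℤ ![a, b])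

theorem symbol_pair (x y : Fˣ) :
    (symbol ![x, y] : K F 2) = symA (Additive.ofMul x) (Additive.ofMul y) := by
  have : (fun i => Additive.ofMul (![x, y] i)) = ![Additive.ofMul x, Additive.ofMul y] := by
    funext i; fin_cases i <;> rfl
  unfold symbol symA
  rw [this]

theorem symA_add_left (a a' b : Additive Fˣ) : symA (a + a') b = symA a b + symA a' b := by
  unfold symA
  have h := (PiTensorProduct.tprod ℤ (s := fun _ : Fin 2 => Additive Fˣ)).map_update_add
    ![a, b] 0 a a'
  have e1 : Function.update ![a, b] 0 (a + a') = ![a + a', b] := by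
    funext i; fin_cases i <;> simp
  have e2 : Function.update ![a, b] 0 a = ![a, b] := by
    funext i; fin_cases i <;> simp
  have e3 : Function.update ![a, b] 0 a' = ![a', b] := by
    funext i; fin_cases i <;> simp
  rw [e1, e2, e3] at h
  rw [h, map_add]

theorem symA_add_right (a b b' : Additive Fˣ) : symA a (b + b') = symA a b + symA a b' := by
  unfold symA
  have h := (PiTensorProduct.tprod ℤ (s := fun _ : Fin 2 => Additive Fˣ)).map_update_add
    ![a, b] 1 b b'
  have e1 : Function.update ![a, b] 1 (b + b') = ![a, b + b'] := by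
    funext i; fin_cases i <;> simp
  have e2 : Function.update ![a, b] 1 b = ![a, b] := by
    funext i; fin_cases i <;> simp
  have e3 : Function.update ![a, b] 1 b' = ![a, b'] := by
    funext i; fin_cases i <;> simp
  rw [e1, e2, e3] at h
  rw [h, map_add]

theorem sym_mul_left (x x' y : Fˣ) :
    (symbol ![x * x', y] : K F 2) = symbol ![x, y] + symbol ![x', y] := by
  simp only [symbol_pair, ofMul_mul, symA_add_left]

theorem sym_mul_right (x y y' : Fˣ) :
    (symbol ![x, y * y'] : K F 2) = symbol ![x, y] + symbol ![x, y'] := by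
  simp only [symbol_pair, ofMul_mul, symA_add_right]

theorem sym_one_left (y : Fˣ) : (symbol ![1, y] : K F 2) = 0 := by
  have h := sym_mul_left (1 : Fˣ) 1 y
  rw [mul_one] at h
  exact left_eq_add.mp h

theorem sym_one_right (x : Fˣ) : (symbol ![x, 1] : K F 2) = 0 := by
  have h := sym_mul_right x (1 : Fˣ) 1
  rw [mul_one] at h
  exact left_eq_add.mp h

theorem sym_inv_left (x y : Fˣ) : (symbol ![x⁻¹, y] : K F 2) = -symbol ![x, y] := by
  have h := sym_mul_left x x⁻¹ y
  rw [mul_inv_cancel, sym_one_left] at h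
  exact eq_neg_of_add_eq_zero_right h.symm

theorem sym_inv_right (x y : Fˣ) : (symbol ![x, y⁻¹] : K F 2) = -symbol ![x, y] := by
  have h := sym_mul_right x y y⁻¹
  rw [mul_inv_cancel, sym_one_right] at h
  exact eq_neg_of_add_eq_zero_right h.symm

theorem sym_div_left (x x' y : Fˣ) :
    (symbol ![x / x', y] : K F 2) = symbol ![x, y] - symbol ![x', y] := by
  rw [div_eq_mul_inv, sym_mul_left, sym_inv_left, sub_eq_add_neg]

theorem sym_div_right (x y y' : Fˣ) :
    (symbol ![x, y / y'] : K F 2) = symbol ![x, y] - symbol ![x, y'] := by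
  rw [div_eq_mul_inv, sym_mul_right, sym_inv_right, sub_eq_add_neg]

/-- The Steinberg relation. -/
theorem sym_steinberg (x y : Fˣ) (h : (x : F) + (y : F) = 1) : (symbol ![x, y] : K F 2) = 0 :=
  symbol_eq_zero_of_isSteinberg _ ⟨0, 1, by decide, by simpa using h⟩

/-- `{x, -x} = 0`. -/
theorem sym_neg_self (x : Fˣ) : (symbol ![x, -x] : K F 2) = 0 := by
  by_cases hx : x = 1
  · subst hx; exact sym_one_left _
  have h1 : (1 : F) - (x : F) ≠ 0 := by
    intro h
    apply hx
    ext
    simpa using (sub_eq_zero.mp h).symm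
  have h2 : (1 : F) - ((x⁻¹ : Fˣ) : F) ≠ 0 := by
    intro h
    apply hx
    have : (x⁻¹ : Fˣ) = 1 := by
      ext
      simpa using (sub_eq_zero.mp h).symm
    simpa using this
  set u : Fˣ := Units.mk0 _ h1 with hu
  set v : Fˣ := Units.mk0 _ h2 with hv
  have e : -x = u / v := by
    ext
    simp only [Units.val_neg, hu, hv, Units.val_div_eq_div_val, Units.val_mk0]
    have hx0 : (x : F) ≠ 0 := x.ne_zero
    rw [eq_div_iff h2, Units.val_inv_eq_inv_val]
    field_simp
    ring
  have s1 : (symbol ![x, u] : K F 2) = 0 := sym_steinberg x u (by simp [hu])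
  have s2 : (symbol ![x⁻¹, v] : K F 2) = 0 := sym_steinberg x⁻¹ v (by simp [hv])
  rw [sym_inv_left, neg_eq_zero] at s2
  rw [e, sym_div_right, s1, s2, sub_zero]

/-- Anticommutativity: `{x, y} + {y, x} = 0`. -/
theorem sym_anticomm (x y : Fˣ) : (symbol ![x, y] : K F 2) + symbol ![y, x] = 0 := by
  have h := sym_neg_self (x * y)
  have e : -(x * y) = (-x) * y := by rw [neg_mul]
  have e' : -(x * y) = x * (-y) := by rw [mul_neg]
  -- {xy, -xy} = {x, -xy} + {y, -xy} = {x,-x} + {x,y} + {y,x} + {y,-y}
  have h1 : (symbol ![x * y, -(x * y)] : K F 2) =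
      symbol ![x, -x] + symbol ![x, y] + (symbol ![y, x] + symbol ![y, -y]) := by
    have a1 : (symbol ![x, -(x * y)] : K F 2) = symbol ![x, -x] + symbol ![x, y] := by
      rw [e, sym_mul_right]
    have a2 : (symbol ![y, -(x * y)] : K F 2) = symbol ![y, x] + symbol ![y, -y] := by
      rw [e', sym_mul_right]
    rw [sym_mul_left, a1, a2]
  rw [h, sym_neg_self, sym_neg_self, zero_add, add_zero] at h1
  exact h1.symm

/-- `{x, x} = {x, -1}`. -/
theorem sym_self (x : Fˣ) : (symbol ![x, x] : K F 2) = symbol ![x, -1] := by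
  have e : x = (-1) * (-x) := by simp
  have a1 : (symbol ![x, (-1) * (-x)] : K F 2) = symbol ![x, -1] + symbol ![x, -x] :=
    sym_mul_right x (-1) (-x)
  rw [← e, sym_neg_self, add_zero] at a1
  exact a1

end Groth.Agent.Lib.Helper29.MilnorK2
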