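import Groth.Agent.Lib.Helper29.OrbitDim

/-!
# An orbit of minimal dimension is closed (helper29)
-/

set_option autoImplicit false
set_option maxHeartbeats 1600000
set_option linter.style.haveILetI false
universe u

open CategoryTheory CategoryTheory.Limits MonoidalCategory CartesianMonoidalCategory MonObj
  AlgebraicGeometry

namespace Groth.Agent.Lib.Helper29.MinOrbit

open Groth.Agent.Lib.Helper29.OrbitDim Groth.Agent.Lib.Helper11.OrbA

theorem main19519 (k : Type u) [Field k] [IsAlgClosed k]
    (G X : Over (Spec (CommRingCat.of k))) [GrpObj G] [Smooth G.hom] [QuasiCompact G.hom]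
    [LocallyOfFiniteType X.hom] [QuasiCompact X.hom] (a : AlgGrp.Action G X)
    (x : 𝟙_ (Over (Spec (CommRingCat.of k))) ⟶ X)
    (hmin : ∀ y : 𝟙_ (Over (Spec (CommRingCat.of k))) ⟶ X,
      topologicalKrullDim (Set.range (a.orbitMap x).left.base) ≤ topologicalKrullDim (Set.range (a.orbitMap y).left.base)) :
    IsClosed (Set.range (a.orbitMap x).left.base) := by
  classical
  letI : X.left.Over (Spec (CommRingCat.of k)) := ⟨X.hom⟩
  haveI : LocallyOfFiniteType (X.left ↘ Spec (CommRingCat.of k)) :=
    inferInstanceAs (LocallyOfFiniteType X.hom)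
  haveI : QuasiCompact (X.left ↘ Spec (CommRingCat.of k)) :=
    inferInstanceAs (QuasiCompact X.hom)
  haveI : IsLocallyNoetherian (Spec (CommRingCat.of k)) := inferInstance
  haveI : IsLocallyNoetherian X.left := LocallyOfFiniteType.isLocallyNoetherian X.hom
  haveI : CompactSpace G.left := QuasiCompact.compactSpace_of_compactSpace G.hom
  haveI : QuasiCompact (a.orbitMap x).left := inferInstance
  obtain ⟨fX, hfX⟩ : ∃ fX : X.left ⟶ Spec (CommRingCat.of k), fX = X.hom := ⟨_, rfl⟩
  haveI : LocallyOfFiniteType fX := hfX ▸ inferInstance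
  haveI : JacobsonSpace ↥X.left := LocallyOfFiniteType.jacobsonSpace fX
  obtain ⟨ψ, hψ⟩ : ∃ ψ : G.left ⟶ X.left, ψ = (a.orbitMap x).left := ⟨_, rfl⟩
  haveI : QuasiCompact ψ := hψ ▸ inferInstance
  have hlc : IsLocallyClosed (Set.range ψ) :=
    hψ ▸ Groth.Agent.Lib.Helper11.OrbC.isLocallyClosed_range_orbitMap k G X a x
  have hne : (Set.range ψ).Nonempty :=
    ⟨_, (η[G]).left (IsLocalRing.closedPoint k : PrimeSpectrum k), rfl⟩
  have hlt : topologicalKrullDim ↥(closure (Set.range ψ) \ Set.range ψ) <
      topologicalKrullDim ↥(Set.range ψ) := dim_boundary_lt k X.left ψ hne hlc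
  have hopen : IsOpenMap (snd G X).left := isOpenMap_snd_of_field k G X
  have hOstab : Stab a (Set.range ψ) := hψ ▸ stab_range_orbitMap a x
  have hZstab : Stab a (closure (Set.range ψ) \ Set.range ψ) :=
    (hOstab.closure hopen).diff hOstab
  have hZc : IsClosed (closure (Set.range ψ) \ Set.range ψ) := by
    have := hlc.isOpen_coborder.isClosed_compl
    rwa [coborder, compl_compl] at this
  have hgoal : IsClosed (Set.range ψ) := by
    by_contra hncl
    have hZne : (closure (Set.range ψ) \ Set.range ψ).Nonempty := by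
      by_contra hempty
      rw [Set.not_nonempty_iff_eq_empty, Set.diff_eq_empty] at hempty
      exact hncl (closure_subset_iff_isClosed.mp hempty)
    obtain ⟨z, hzZ, hzc⟩ := nonempty_inter_closedPoints hZne hZc.isLocallyClosed
    replace hzc : IsClosed ({z} : Set ↥X.left) := hzc
    have hx₀ : pointOfClosedPoint fX z hzc ≫ X.hom = 𝟙 _ := by
      rw [← hfX]; exact pointOfClosedPoint_comp fX z hzc
    let y : 𝟙_ (Over (Spec (CommRingCat.of k))) ⟶ X :=
      Over.homMk (pointOfClosedPoint fX z hzc) (by simpa using hx₀)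
    have hyz : ∀ s, y.left s = z := fun s => pointOfClosedPoint_apply fX z hzc s
    have hOy : Set.range (a.orbitMap y).left ⊆ closure (Set.range ψ) \ Set.range ψ :=
      range_orbitMap_subset a hZstab y (fun s => (hyz s).symm ▸ hzZ)
    have h1 : topologicalKrullDim ↥(Set.range (a.orbitMap y).left) ≤
        topologicalKrullDim ↥(closure (Set.range ψ) \ Set.range ψ) :=
      (Topology.IsEmbedding.inclusion hOy).isInducing.topologicalKrullDim_le
    have h2 := hmin y
    have h3 : topologicalKrullDim ↥(Set.range ψ) ≤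
        topologicalKrullDim ↥(Set.range (a.orbitMap y).left) := by
      rw [hψ]; exact h2
    exact absurd (lt_of_le_of_lt (le_trans h3 h1) hlt) (lt_irrefl _)
  rw [hψ] at hgoal
  exact hgoal

end Groth.Agent.Lib.Helper29.MinOrbit
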