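import Mathlib
import Groth.Agent.Lib.Helper29.MonoidAlgDeriv

/-!
# The node `k[X,Y]/(XY)`: Euler derivations, closed functions are constant,
and `X dY` is a non-exact (torsion) one-form.
-/

namespace Groth.Agent.Lib.Helper29.Node

open MvPolynomial

variable (k : Type*) [Field k]

/-- The ideal `(XY)`. -/
noncomputable abbrev I : Ideal (MvPolynomial (Fin 2) k) :=
  Ideal.span {(MvPolynomial.X 0 * MvPolynomial.X 1 : MvPolynomial (Fin 2) k)}

/-- weight: exponent of the `i`-th variable. -/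
noncomputable def w (i : Fin 2) : (Fin 2 →₀ ℕ) →+ k :=
  (Nat.castAddMonoidHom k).comp (Finsupp.applyAddHom i)

/-- Euler derivation `X_i ∂/∂X_i`. -/
noncomputable def E (i : Fin 2) :
    Derivation k (MvPolynomial (Fin 2) k) (MvPolynomial (Fin 2) k) :=
  wDer (w k i)

lemma coeff_E (i : Fin 2) (p : MvPolynomial (Fin 2) k) (m : Fin 2 →₀ ℕ) :
    MvPolynomial.coeff m (E k i p) = (m i : k) * MvPolynomial.coeff m p :=
  wLin_coeff (w k i) p m

lemma E_monomial (i : Fin 2) (s : Fin 2 →₀ ℕ) (r : k) :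
    E k i (monomial s r) = monomial s ((s i : k) * r) :=
  wLin_single (w k i) s r

lemma mem_I_iff (p : MvPolynomial (Fin 2) k) :
    p ∈ I k ↔ ∀ m ∈ p.support, 1 ≤ m 0 ∧ 1 ≤ m 1 := by
  have h1 : (MvPolynomial.X 0 * MvPolynomial.X 1 : MvPolynomial (Fin 2) k) =
      monomial (Finsupp.single 0 1 + Finsupp.single 1 1) 1 := by
    rw [MvPolynomial.X, MvPolynomial.X, monomial_mul, one_mul]
  have h2 : ({(MvPolynomial.X 0 * MvPolynomial.X 1 : MvPolynomial (Fin 2) k)} : Set _) =
      (fun s => monomial s (1 : k)) '' {Finsupp.single 0 1 + Finsupp.single 1 1} := by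
    rw [Set.image_singleton, h1]
  rw [I, h2, mem_ideal_span_monomial_image]
  refine forall₂_congr (fun m _ => ?_)
  simp only [Set.mem_singleton_iff, exists_eq_left, Finsupp.le_def, Fin.forall_fin_two,
    Finsupp.add_apply, Finsupp.single_apply]
  simp

lemma E_mem_I (i : Fin 2) (p : MvPolynomial (Fin 2) k) (hp : p ∈ I k) : E k i p ∈ I k := by
  rw [mem_I_iff] at hp ⊢
  intro m hm
  apply hp m
  rw [MvPolynomial.mem_support_iff] at hm ⊢
  intro h0
  apply hm
  rw [coeff_E, h0, mul_zero]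

/-- Euler derivations of the node. -/
noncomputable def Ebar (i : Fin 2) :
    Derivation k (MvPolynomial (Fin 2) k ⧸ I k) (MvPolynomial (Fin 2) k ⧸ I k) :=
  Derivation.liftOfSurjective (f := Ideal.Quotient.mkₐ k (I k))
    (Ideal.Quotient.mkₐ_surjective k (I k)) (d := E k i) (by
      intro x hx
      rw [Ideal.Quotient.mkₐ_eq_mk, Ideal.Quotient.eq_zero_iff_mem] at hx ⊢
      exact E_mem_I k i x hx)

lemma Ebar_mk (i : Fin 2) (p : MvPolynomial (Fin 2) k) :
    Ebar k i (Ideal.Quotient.mk (I k) p) = Ideal.Quotient.mk (I k) (E k i p) := by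
  have := Derivation.liftOfSurjective_apply (f := Ideal.Quotient.mkₐ k (I k))
    (Ideal.Quotient.mkₐ_surjective k (I k)) (d := E k i) (by
      intro x hx
      rw [Ideal.Quotient.mkₐ_eq_mk, Ideal.Quotient.eq_zero_iff_mem] at hx ⊢
      exact E_mem_I k i x hx) p
  exact this

variable [CharZero k]

lemma sub_C_mem_I (p : MvPolynomial (Fin 2) k) (h0 : E k 0 p ∈ I k) (h1 : E k 1 p ∈ I k) :
    p - C (coeff 0 p) ∈ I k := by
  rw [mem_I_iff] at h0 h1 ⊢
  intro m hm
  rw [MvPolynomial.mem_support_iff, coeff_sub, coeff_C] at hm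
  have hm0 : m ≠ 0 := by
    rintro rfl
    apply hm
    rw [if_pos rfl, sub_self]
  have hpm : coeff m p ≠ 0 := by
    intro h
    apply hm
    rw [if_neg (Ne.symm hm0), h, sub_zero]
  have : m 0 ≠ 0 ∨ m 1 ≠ 0 := by
    by_contra hcon
    push Not at hcon
    apply hm0
    ext i
    fin_cases i
    · exact hcon.1
    · exact hcon.2
  rcases this with h | h
  · apply h0 m
    rw [MvPolynomial.mem_support_iff, coeff_E]
    exact mul_ne_zero (by exact_mod_cast h) hpm
  · apply h1 m
    rw [MvPolynomial.mem_support_iff, coeff_E]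
    exact mul_ne_zero (by exact_mod_cast h) hpm

lemma mem_range_of_Ebar_eq_zero (P : MvPolynomial (Fin 2) k ⧸ I k)
    (h0 : Ebar k 0 P = 0) (h1 : Ebar k 1 P = 0) :
    P ∈ Set.range (algebraMap k (MvPolynomial (Fin 2) k ⧸ I k)) := by
  obtain ⟨p, rfl⟩ := Ideal.Quotient.mk_surjective P
  rw [Ebar_mk, Ideal.Quotient.eq_zero_iff_mem] at h0 h1
  have := sub_C_mem_I k p h0 h1
  refine ⟨coeff 0 p, ?_⟩
  rw [IsScalarTower.algebraMap_apply k (MvPolynomial (Fin 2) k) (MvPolynomial (Fin 2) k ⧸ I k),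
    Ideal.Quotient.algebraMap_eq, MvPolynomial.algebraMap_eq]
  symm
  rwa [Ideal.Quotient.eq]

theorem kaehlerD_eq_zero_iff (P : MvPolynomial (Fin 2) k ⧸ I k) :
    KaehlerDifferential.D k (MvPolynomial (Fin 2) k ⧸ I k) P = 0 ↔
      P ∈ Set.range (algebraMap k (MvPolynomial (Fin 2) k ⧸ I k)) := by
  constructor
  · intro h
    apply mem_range_of_Ebar_eq_zero
    · have := congrArg (Ebar k 0).liftKaehlerDifferential h
      rwa [Derivation.liftKaehlerDifferential_comp_D, map_zero] at this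
    · have := congrArg (Ebar k 1).liftKaehlerDifferential h
      rwa [Derivation.liftKaehlerDifferential_comp_D, map_zero] at this
  · rintro ⟨c, rfl⟩
    exact Derivation.map_algebraMap _ c

end Groth.Agent.Lib.Helper29.Node
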