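import Mathlib
import Groth.Agent.Lib.Helper29.Node

/-!
# The node `k[X,Y]/(XY)`: `X dY` is not exact.
-/

namespace Groth.Agent.Lib.Helper29.Node

open MvPolynomial

variable (k : Type*) [Field k]

/-- the ideal `(x - y)` of the node. -/
noncomputable abbrev J : Ideal (MvPolynomial (Fin 2) k ⧸ I k) :=
  Ideal.span {Ideal.Quotient.mk (I k) (X 0) - Ideal.Quotient.mk (I k) (X 1)}

/-- The test module `A/(x-y) ≅ k[ε]`. -/
abbrev N := (MvPolynomial (Fin 2) k ⧸ I k) ⧸ J k

noncomputable def δS : Derivation k (MvPolynomial (Fin 2) k) (N k) :=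
  MvPolynomial.mkDerivation k (fun i : Fin 2 => if i = 0 then (-1 : N k) else 1)

lemma smul_N (s : MvPolynomial (Fin 2) k) (n : N k) :
    s • n = (Ideal.Quotient.mk (I k) s) • n := by
  rw [← Ideal.Quotient.algebraMap_eq, algebraMap_smul]

lemma mk_XY : Ideal.Quotient.mk (I k) (X 0 * X 1) = 0 :=
  Ideal.Quotient.eq_zero_iff_mem.mpr (Ideal.subset_span (Set.mem_singleton _))

lemma smul_one_N (a : MvPolynomial (Fin 2) k ⧸ I k) :
    a • (1 : N k) = Ideal.Quotient.mk (J k) a := by
  have : (Submodule.Quotient.mk (a • (1 : MvPolynomial (Fin 2) k ⧸ I k)) : N k) =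
      a • Submodule.Quotient.mk (1 : MvPolynomial (Fin 2) k ⧸ I k) :=
    Submodule.Quotient.mk_smul (J k) a 1
  rw [smul_eq_mul, mul_one] at this
  exact this.symm

lemma E_X (i j : Fin 2) : E k i (X j) = if i = j then X j else 0 := by
  rw [X, E_monomial]
  split_ifs with h
  · subst h; simp
  · simp [Ne.symm h]

lemma δS_mem (x : MvPolynomial (Fin 2) k) (hx : x ∈ I k) : δS k x = 0 := by
  obtain ⟨a, rfl⟩ := Ideal.mem_span_singleton'.mp hx
  have h2 : (X 0 * X 1 : MvPolynomial (Fin 2) k) • (δS k a) = 0 := by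
    rw [smul_N, mk_XY]
    exact zero_smul (MvPolynomial (Fin 2) k ⧸ I k) (δS k a)
  have h1 : δS k (X 0 * X 1) = 0 := by
    rw [Derivation.leibniz, δS, mkDerivation_X, mkDerivation_X, smul_N, smul_N]
    simp only [Fin.isValue, one_ne_zero, if_false, if_true, smul_neg]
    rw [smul_one_N, smul_one_N, ← sub_eq_add_neg, ← map_sub]
    exact Ideal.Quotient.eq_zero_iff_mem.mpr (Ideal.subset_span (Set.mem_singleton _))
  rw [Derivation.leibniz, h1, h2, smul_zero, add_zero]

noncomputable def δ : Derivation k (MvPolynomial (Fin 2) k ⧸ I k) (N k) :=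
  descendDer (S := MvPolynomial (Fin 2) k) (A := MvPolynomial (Fin 2) k ⧸ I k)
    Ideal.Quotient.mk_surjective (δS k) (by
      intro x hx
      rw [Ideal.Quotient.algebraMap_eq, Ideal.Quotient.eq_zero_iff_mem] at hx
      exact δS_mem k x hx)

lemma δ_mk (s : MvPolynomial (Fin 2) k) : δ k (Ideal.Quotient.mk (I k) s) = δS k s :=
  descendDer_apply (S := MvPolynomial (Fin 2) k) (A := MvPolynomial (Fin 2) k ⧸ I k) _ _ _ s

lemma X0_not_mem_J : Ideal.Quotient.mk (I k) (X 0) ∉ J k := by
  intro h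
  obtain ⟨a, ha⟩ := Ideal.mem_span_singleton'.mp h
  obtain ⟨s, rfl⟩ := Ideal.Quotient.mk_surjective a
  rw [← map_sub, ← map_mul, Ideal.Quotient.eq] at ha
  obtain ⟨c, hc⟩ := Ideal.mem_span_singleton'.mp ha
  have := congrArg (MvPolynomial.aeval (fun _ : Fin 2 => (Polynomial.X : Polynomial k))) hc
  simp only [map_mul, map_sub, aeval_X, sub_self, mul_zero, zero_sub] at this
  have h2 := congrArg (fun q : Polynomial k => q.coeff 1) this
  simp only [Polynomial.coeff_neg, Polynomial.coeff_X_one] at h2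
  rw [← mul_assoc, Polynomial.coeff_mul_X] at h2
  rw [Polynomial.coeff_mul_X_zero] at h2
  exact one_ne_zero (neg_eq_zero.mp h2.symm)

theorem not_surjective [CharZero k] :
    ¬ Function.Surjective (KaehlerDifferential.D k (MvPolynomial (Fin 2) k ⧸ I k)) := by
  intro hsurj
  obtain ⟨P, hP⟩ := hsurj (Ideal.Quotient.mk (I k) (X 0) •
    KaehlerDifferential.D k (MvPolynomial (Fin 2) k ⧸ I k) (Ideal.Quotient.mk (I k) (X 1)))
  have h0 : Ebar k 0 P = 0 := by
    have := congrArg (Ebar k 0).liftKaehlerDifferential hP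
    rw [Derivation.liftKaehlerDifferential_comp_D, map_smul,
      Derivation.liftKaehlerDifferential_comp_D, Ebar_mk, E_X, if_neg (by decide), map_zero,
      smul_zero] at this
    exact this
  have h1 : Ebar k 1 P = 0 := by
    have := congrArg (Ebar k 1).liftKaehlerDifferential hP
    rw [Derivation.liftKaehlerDifferential_comp_D, map_smul,
      Derivation.liftKaehlerDifferential_comp_D, Ebar_mk, E_X, if_pos rfl, smul_eq_mul,
      ← map_mul, mk_XY] at this
    exact this
  obtain ⟨c, rfl⟩ := mem_range_of_Ebar_eq_zero k P h0 h1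
  rw [Derivation.map_algebraMap] at hP
  have := congrArg (δ k).liftKaehlerDifferential hP.symm
  rw [map_smul, Derivation.liftKaehlerDifferential_comp_D, map_zero, δ_mk, δS,
    mkDerivation_X] at this
  simp only [Fin.isValue, one_ne_zero, if_false] at this
  rw [smul_one_N] at this
  exact X0_not_mem_J k (Ideal.Quotient.eq_zero_iff_mem.mp this)

end Groth.Agent.Lib.Helper29.Node
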