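import Mathlib
import Groth.Prelude.Def_W4c5spincurvestfNode

/-!
# `dim_k k[[x,y]]/(xy, x^u, w y^v) = u + v - 1`
-/

set_option autoImplicit false
universe uu

namespace Groth.Agent.Lib.Helper29.NodeFinrank

open MvPowerSeries

section gen
variable {k : Type uu} [Field k]

theorem coeff_mul_monomial_of_not_le (c : MvPowerSeries (Fin 2) k) (m d : Fin 2 →₀ ℕ)
    (h : ¬ m ≤ d) (a : k) : coeff d (c * monomial m a) = 0 := by
  rw [coeff_mul_monomial, if_neg h]

theorem monomial_dvd_of_vanish (P : MvPowerSeries (Fin 2) k) (m : Fin 2 →₀ ℕ)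
    (hP : ∀ d, ¬ m ≤ d → coeff d P = 0) :
    ∃ Q : MvPowerSeries (Fin 2) k, P = monomial m 1 * Q := by
  refine ⟨fun d => coeff (d + m) P, ?_⟩
  ext d
  rw [coeff_monomial_mul]
  split_ifs with h
  · rw [one_mul]
    show coeff d P = coeff (d - m + m) P
    rw [tsub_add_cancel_of_le h]
  · exact hP d h

theorem le_iff2 (m d : Fin 2 →₀ ℕ) : m ≤ d ↔ m 0 ≤ d 0 ∧ m 1 ≤ d 1 := by
  rw [Finsupp.le_def, Fin.forall_fin_two]

theorem ext2 (d d' : Fin 2 →₀ ℕ) (h0 : d 0 = d' 0) (h1 : d 1 = d' 1) : d = d' := by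
  ext i
  fin_cases i
  · exact h0
  · exact h1

theorem single0_le (a : ℕ) (d : Fin 2 →₀ ℕ) :
    (Finsupp.single 0 a : Fin 2 →₀ ℕ) ≤ d ↔ a ≤ d 0 := by
  rw [le_iff2]; simp

theorem single1_le (b : ℕ) (d : Fin 2 →₀ ℕ) :
    (Finsupp.single 1 b : Fin 2 →₀ ℕ) ≤ d ↔ b ≤ d 1 := by
  rw [le_iff2]; simp

theorem delta_le (d : Fin 2 →₀ ℕ) :
    ((Finsupp.single 0 1 : Fin 2 →₀ ℕ) + Finsupp.single 1 1) ≤ d ↔ 1 ≤ d 0 ∧ 1 ≤ d 1 := by
  rw [le_iff2]; simp

theorem s0_at1 (a : ℕ) : (Finsupp.single 0 a : Fin 2 →₀ ℕ) 1 = 0 := by simp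
theorem s1_at0 (a : ℕ) : (Finsupp.single 1 a : Fin 2 →₀ ℕ) 0 = 0 := by simp
theorem s0_at0 (a : ℕ) : (Finsupp.single 0 a : Fin 2 →₀ ℕ) 0 = a := by simp
theorem s1_at1 (a : ℕ) : (Finsupp.single 1 a : Fin 2 →₀ ℕ) 1 = a := by simp

end gen

section main
variable (k : Type uu) [Field k] (u v : ℕ)

noncomputable def lam : MvPowerSeries (Fin 2) k →ₗ[k] (Fin u → k) × (Fin (v - 1) → k) :=
  LinearMap.prod (LinearMap.pi (fun i : Fin u => coeff (Finsupp.single 0 (i : ℕ))))
    (LinearMap.pi (fun j : Fin (v - 1) => coeff (Finsupp.single 1 ((j : ℕ) + 1))))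

theorem lam_apply (g : MvPowerSeries (Fin 2) k) :
    lam k u v g = (fun i : Fin u => coeff (Finsupp.single 0 (i : ℕ)) g,
      fun j : Fin (v - 1) => coeff (Finsupp.single 1 ((j : ℕ) + 1)) g) := rfl

theorem lam_mul_X0X1 (c : MvPowerSeries (Fin 2) k) :
    lam k u v (c * (X 0 * X 1 - C 0)) = 0 := by
  have hX : (X 0 * X 1 - C 0 : MvPowerSeries (Fin 2) k) =
      monomial ((Finsupp.single 0 1 : Fin 2 →₀ ℕ) + Finsupp.single 1 1) 1 := by
    rw [map_zero, sub_zero, X_def, X_def, monomial_mul_monomial, mul_one]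
  rw [hX, lam_apply]
  refine Prod.ext (funext fun i => ?_) (funext fun j => ?_)
  · show coeff (Finsupp.single 0 (i : ℕ)) (c * monomial _ 1) = 0
    apply coeff_mul_monomial_of_not_le
    rw [delta_le, s0_at1]
    omega
  · show coeff (Finsupp.single 1 ((j : ℕ) + 1)) (c * monomial _ 1) = 0
    apply coeff_mul_monomial_of_not_le
    rw [delta_le, s1_at0]
    omega

theorem lam_mul_X0pow (hu : 1 ≤ u) (c : MvPowerSeries (Fin 2) k) :
    lam k u v (c * X 0 ^ u) = 0 := by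
  rw [X_pow_eq, lam_apply]
  refine Prod.ext (funext fun i => ?_) (funext fun j => ?_)
  · show coeff (Finsupp.single 0 (i : ℕ)) (c * monomial _ 1) = 0
    apply coeff_mul_monomial_of_not_le
    have := i.is_lt
    rw [single0_le, s0_at0]
    omega
  · show coeff (Finsupp.single 1 ((j : ℕ) + 1)) (c * monomial _ 1) = 0
    apply coeff_mul_monomial_of_not_le
    rw [single0_le, s1_at0]
    omega

theorem lam_mul_X1pow (hv : 1 ≤ v) (c : MvPowerSeries (Fin 2) k) :
    lam k u v (c * X 1 ^ v) = 0 := by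
  rw [X_pow_eq, lam_apply]
  refine Prod.ext (funext fun i => ?_) (funext fun j => ?_)
  · show coeff (Finsupp.single 0 (i : ℕ)) (c * monomial _ 1) = 0
    apply coeff_mul_monomial_of_not_le
    rw [single1_le, s0_at1]
    omega
  · show coeff (Finsupp.single 1 ((j : ℕ) + 1)) (c * monomial _ 1) = 0
    apply coeff_mul_monomial_of_not_le
    have := j.is_lt
    rw [single1_le, s1_at1]
    omega

theorem decomp (g : MvPowerSeries (Fin 2) k) (hg : lam k u v g = 0) :
    ∃ Q₁ Q₂ Q₃ : MvPowerSeries (Fin 2) k,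
      g = X 0 * X 1 * Q₁ + X 0 ^ u * Q₂ + X 1 ^ v * Q₃ := by
  have hg0 : ∀ i, i < u → coeff (Finsupp.single 0 i) g = 0 := by
    intro i hi
    have key := congrFun (congrArg Prod.fst hg) ⟨i, hi⟩
    exact key
  have hg1 : ∀ j, j + 1 < v → coeff (Finsupp.single 1 (j + 1)) g = 0 := by
    intro j hj
    have key := congrFun (congrArg Prod.snd hg) ⟨j, by omega⟩
    exact key
  obtain ⟨Q₁, hQ₁⟩ := monomial_dvd_of_vanish
    (fun d => if 1 ≤ d 0 ∧ 1 ≤ d 1 then coeff d g else 0 : MvPowerSeries (Fin 2) k)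
    ((Finsupp.single 0 1 : Fin 2 →₀ ℕ) + Finsupp.single 1 1) (by
      intro d hd
      rw [delta_le] at hd
      show (if 1 ≤ d 0 ∧ 1 ≤ d 1 then coeff d g else 0) = 0
      rw [if_neg hd])
  obtain ⟨Q₂, hQ₂⟩ := monomial_dvd_of_vanish
    (fun d => if d 1 = 0 then coeff d g else 0 : MvPowerSeries (Fin 2) k)
    (Finsupp.single 0 u) (by
      intro d hd
      rw [single0_le] at hd
      show (if d 1 = 0 then coeff d g else 0) = 0
      split_ifs with h1
      · have hd' : d = Finsupp.single 0 (d 0) :=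
          ext2 _ _ (s0_at0 _).symm (by rw [s0_at1, h1])
        rw [hd']
        exact hg0 (d 0) (by omega)
      · rfl)
  obtain ⟨Q₃, hQ₃⟩ := monomial_dvd_of_vanish
    (fun d => if d 0 = 0 ∧ d 1 ≠ 0 then coeff d g else 0 : MvPowerSeries (Fin 2) k)
    (Finsupp.single 1 v) (by
      intro d hd
      rw [single1_le] at hd
      show (if d 0 = 0 ∧ d 1 ≠ 0 then coeff d g else 0) = 0
      split_ifs with h
      · obtain ⟨h0, h1⟩ := h
        have hd' : d = Finsupp.single 1 ((d 1 - 1) + 1) :=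
          ext2 _ _ (by rw [s1_at0, h0]) (by rw [s1_at1]; omega)
        rw [hd']
        exact hg1 (d 1 - 1) (by omega)
      · rfl)
  refine ⟨Q₁, Q₂, Q₃, ?_⟩
  rw [X_pow_eq, X_pow_eq, X_def, X_def, monomial_mul_monomial, mul_one, ← hQ₁, ← hQ₂, ← hQ₃]
  ext d
  rw [map_add, map_add]
  show coeff d g = (if 1 ≤ d 0 ∧ 1 ≤ d 1 then coeff d g else 0) +
    (if d 1 = 0 then coeff d g else 0) + (if d 0 = 0 ∧ d 1 ≠ 0 then coeff d g else 0)
  by_cases h1 : d 1 = 0
  · have hA : ¬ (1 ≤ d 0 ∧ 1 ≤ d 1) := by omega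
    have hB : ¬ (d 0 = 0 ∧ d 1 ≠ 0) := by tauto
    rw [if_neg hA, if_pos h1, if_neg hB, zero_add, add_zero]
  · by_cases h0 : d 0 = 0
    · have hA : ¬ (1 ≤ d 0 ∧ 1 ≤ d 1) := by omega
      rw [if_neg hA, if_neg h1, if_pos ⟨h0, h1⟩, zero_add, zero_add]
    · have hA : (1 ≤ d 0 ∧ 1 ≤ d 1) := by omega
      have hB : ¬ (d 0 = 0 ∧ d 1 ≠ 0) := by tauto
      rw [if_pos hA, if_neg h1, if_neg hB, add_zero, add_zero]

abbrev A0 := SpinCurv.NodeRing k 0

noncomputable abbrev I0 : Ideal (MvPowerSeries (Fin 2) k) :=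
  Ideal.span {(X 0 * X 1 - C 0 : MvPowerSeries (Fin 2) k)}

noncomputable abbrev Jbar (w : k) : Ideal (A0 k) :=
  Ideal.span {SpinCurv.NodeRing.x k 0 ^ u,
    algebraMap k (A0 k) w * SpinCurv.NodeRing.y k 0 ^ v}

theorem lam_le : (I0 k).restrictScalars k ≤ LinearMap.ker (lam k u v) := by
  intro g hg
  rw [Submodule.restrictScalars_mem] at hg
  obtain ⟨c, rfl⟩ := Ideal.mem_span_singleton'.mp hg
  exact LinearMap.mem_ker.mpr (lam_mul_X0X1 k u v c)

noncomputable def Lam1 : A0 k →ₗ[k] (Fin u → k) × (Fin (v - 1) → k) :=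
  (Submodule.liftQ ((I0 k).restrictScalars k) (lam k u v) (lam_le k u v)).comp
    (Submodule.Quotient.restrictScalarsEquiv k (I0 k)).symm.toLinearMap

theorem Lam1_mk (g : MvPowerSeries (Fin 2) k) :
    Lam1 k u v (Ideal.Quotient.mk (I0 k) g) = lam k u v g := by
  show (Submodule.liftQ ((I0 k).restrictScalars k) (lam k u v) (lam_le k u v))
    ((Submodule.Quotient.restrictScalarsEquiv k (I0 k)).symm (Submodule.Quotient.mk g)) = _
  rw [Submodule.Quotient.restrictScalarsEquiv_symm_mk, Submodule.liftQ_apply]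

theorem halg (w : k) : algebraMap k (A0 k) w = Ideal.Quotient.mk (I0 k) (C w) := by
  rw [IsScalarTower.algebraMap_apply k (MvPowerSeries (Fin 2) k) (A0 k),
    Ideal.Quotient.algebraMap_eq, ← MvPowerSeries.c_eq_algebraMap]

theorem Lam1_le (hu : 1 ≤ u) (hv : 1 ≤ v) (w : k) :
    (Jbar k u v w).restrictScalars k ≤ LinearMap.ker (Lam1 k u v) := by
  intro z hz
  rw [Submodule.restrictScalars_mem] at hz
  obtain ⟨c₁, c₂, rfl⟩ := Ideal.mem_span_pair.mp hz
  obtain ⟨c₁', rfl⟩ := Ideal.Quotient.mk_surjective c₁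
  obtain ⟨c₂', rfl⟩ := Ideal.Quotient.mk_surjective c₂
  have key : Ideal.Quotient.mk (I0 k) c₁' * SpinCurv.NodeRing.x k 0 ^ u +
      Ideal.Quotient.mk (I0 k) c₂' * (algebraMap k (A0 k) w * SpinCurv.NodeRing.y k 0 ^ v) =
      Ideal.Quotient.mk (I0 k) (c₁' * X 0 ^ u + c₂' * C w * X 1 ^ v) := by
    rw [halg, map_add, map_mul, map_mul, map_mul, map_pow, map_pow, mul_assoc]
  rw [LinearMap.mem_ker, key, Lam1_mk, map_add, lam_mul_X0pow k u v hu, lam_mul_X1pow k u v hv,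
    add_zero]

noncomputable def LamBar (hu : 1 ≤ u) (hv : 1 ≤ v) (w : k) :
    (A0 k ⧸ Jbar k u v w) →ₗ[k] (Fin u → k) × (Fin (v - 1) → k) :=
  (Submodule.liftQ ((Jbar k u v w).restrictScalars k) (Lam1 k u v) (Lam1_le k u v hu hv w)).comp
    (Submodule.Quotient.restrictScalarsEquiv k (Jbar k u v w)).symm.toLinearMap

theorem LamBar_mk (hu : 1 ≤ u) (hv : 1 ≤ v) (w : k) (z : A0 k) :
    LamBar k u v hu hv w (Ideal.Quotient.mk (Jbar k u v w) z) = Lam1 k u v z := by
  show (Submodule.liftQ ((Jbar k u v w).restrictScalars k) (Lam1 k u v) (Lam1_le k u v hu hv w))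
    ((Submodule.Quotient.restrictScalarsEquiv k (Jbar k u v w)).symm
      (Submodule.Quotient.mk z)) = _
  rw [Submodule.Quotient.restrictScalarsEquiv_symm_mk, Submodule.liftQ_apply]

theorem LamBar_injective (hu : 1 ≤ u) (hv : 1 ≤ v) (w : k) (hw : w ≠ 0) :
    Function.Injective (LamBar k u v hu hv w) := by
  rw [← LinearMap.ker_eq_bot, LinearMap.ker_eq_bot']
  intro z hz
  obtain ⟨z', rfl⟩ := Ideal.Quotient.mk_surjective z
  obtain ⟨g, rfl⟩ := Ideal.Quotient.mk_surjective z'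
  rw [LamBar_mk, Lam1_mk] at hz
  obtain ⟨Q₁, Q₂, Q₃, hg⟩ := decomp k u v g hz
  rw [Ideal.Quotient.eq_zero_iff_mem]
  have h1 : Ideal.Quotient.mk (I0 k) (X 0 * X 1) = 0 :=
    Ideal.Quotient.eq_zero_iff_mem.mpr
      (Ideal.mem_span_singleton'.mpr ⟨1, by rw [one_mul, map_zero, sub_zero]⟩)
  have hww : algebraMap k (A0 k) w * algebraMap k (A0 k) w⁻¹ = 1 := by
    rw [← map_mul (algebraMap k (A0 k)), mul_inv_cancel₀ hw, map_one]
  have hmk : Ideal.Quotient.mk (I0 k) g =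
      SpinCurv.NodeRing.x k 0 ^ u * Ideal.Quotient.mk (I0 k) Q₂ +
        (algebraMap k (A0 k) w * SpinCurv.NodeRing.y k 0 ^ v) *
          (algebraMap k (A0 k) w⁻¹ * Ideal.Quotient.mk (I0 k) Q₃) := by
    have e1 : Ideal.Quotient.mk (I0 k) g =
        Ideal.Quotient.mk (I0 k) (X 0 * X 1) * Ideal.Quotient.mk (I0 k) Q₁ +
          SpinCurv.NodeRing.x k 0 ^ u * Ideal.Quotient.mk (I0 k) Q₂ +
          SpinCurv.NodeRing.y k 0 ^ v * Ideal.Quotient.mk (I0 k) Q₃ := by
      simp only [hg, map_add, map_mul, map_pow]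
    rw [e1, h1]
    linear_combination (-(SpinCurv.NodeRing.y k 0 ^ v * Ideal.Quotient.mk (I0 k) Q₃)) * hww
  rw [hmk]
  exact Ideal.add_mem _
    (Ideal.mul_mem_right _ _ (Ideal.subset_span (Set.mem_insert _ _)))
    (Ideal.mul_mem_right _ _
      (Ideal.subset_span (Set.mem_insert_of_mem _ (Set.mem_singleton _))))

theorem LamBar_surjective (hu : 1 ≤ u) (hv : 1 ≤ v) (w : k) :
    Function.Surjective (LamBar k u v hu hv w) := by
  rintro ⟨α, β⟩
  refine ⟨Ideal.Quotient.mk _ (Ideal.Quotient.mk _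
    (∑ i : Fin u, monomial (Finsupp.single 0 (i : ℕ)) (α i) +
      ∑ j : Fin (v - 1), monomial (Finsupp.single 1 ((j : ℕ) + 1)) (β j))), ?_⟩
  rw [LamBar_mk, Lam1_mk, lam_apply]
  refine Prod.ext (funext fun i₀ => ?_) (funext fun j₀ => ?_)
  · show coeff (Finsupp.single 0 (i₀ : ℕ))
      (∑ i : Fin u, monomial (Finsupp.single 0 (i : ℕ)) (α i) +
        ∑ j : Fin (v - 1), monomial (Finsupp.single 1 ((j : ℕ) + 1)) (β j)) = α i₀
    have h1 : ∀ i : Fin u, coeff (Finsupp.single 0 (i₀ : ℕ) : Fin 2 →₀ ℕ)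
        (monomial (Finsupp.single 0 (i : ℕ)) (α i)) = if i = i₀ then α i else 0 := by
      intro i
      classical
      rw [coeff_monomial]
      by_cases h : i = i₀
      · subst h; rw [if_pos rfl, if_pos rfl]
      · rw [if_neg h, if_neg]
        intro h'
        exact h (Fin.ext (Finsupp.single_injective 0 h').symm)
    have h2 : ∀ j : Fin (v - 1), coeff (Finsupp.single 0 (i₀ : ℕ) : Fin 2 →₀ ℕ)
        (monomial (Finsupp.single 1 ((j : ℕ) + 1)) (β j)) = 0 := by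
      intro j
      classical
      rw [coeff_monomial, if_neg]
      intro h'
      have key := DFunLike.congr_fun h' 1
      rw [s0_at1, s1_at1] at key
      omega
    rw [map_add, map_sum, map_sum]
    simp only [h1, h2, Finset.sum_ite_eq', Finset.mem_univ, if_true, Finset.sum_const_zero,
      add_zero]
  · show coeff (Finsupp.single 1 ((j₀ : ℕ) + 1))
      (∑ i : Fin u, monomial (Finsupp.single 0 (i : ℕ)) (α i) +
        ∑ j : Fin (v - 1), monomial (Finsupp.single 1 ((j : ℕ) + 1)) (β j)) = β j₀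
    have h1 : ∀ i : Fin u, coeff (Finsupp.single 1 ((j₀ : ℕ) + 1) : Fin 2 →₀ ℕ)
        (monomial (Finsupp.single 0 (i : ℕ)) (α i)) = 0 := by
      intro i
      classical
      rw [coeff_monomial, if_neg]
      intro h'
      have key := DFunLike.congr_fun h' 1
      rw [s0_at1, s1_at1] at key
      omega
    have h2 : ∀ j : Fin (v - 1), coeff (Finsupp.single 1 ((j₀ : ℕ) + 1) : Fin 2 →₀ ℕ)
        (monomial (Finsupp.single 1 ((j : ℕ) + 1)) (β j)) = if j = j₀ then β j else 0 := by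
      intro j
      classical
      rw [coeff_monomial]
      by_cases h : j = j₀
      · subst h; rw [if_pos rfl, if_pos rfl]
      · rw [if_neg h, if_neg]
        intro h'
        have key := Finsupp.single_injective (1 : Fin 2) h'
        exact h (Fin.ext (by omega))
    rw [map_add, map_sum, map_sum]
    simp only [h1, h2, Finset.sum_ite_eq', Finset.mem_univ, if_true, Finset.sum_const_zero,
      zero_add]

end main

theorem main18434 (k : Type uu) [Field k] (u v : ℕ) (hu : 1 ≤ u) (hv : 1 ≤ v)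
    (w : k) (hw : w ≠ 0) :
    Module.finrank k (SpinCurv.NodeRing k 0 ⧸
      Ideal.span {SpinCurv.NodeRing.x k 0 ^ u, algebraMap k (SpinCurv.NodeRing k 0) w * SpinCurv.NodeRing.y k 0 ^ v}) =
      u + v - 1 := by
  have e := LinearEquiv.ofBijective (LamBar k u v hu hv w)
    ⟨LamBar_injective k u v hu hv w hw, LamBar_surjective k u v hu hv w⟩
  rw [e.finrank_eq, Module.finrank_prod, Module.finrank_fin_fun, Module.finrank_fin_fun]
  omega

end Groth.Agent.Lib.Helper29.NodeFinrank
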