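import Mathlib
import Groth.Prelude.Def_W4c5spincurvestfNode

/-!
# `xy - π` is a non-zero-divisor of `R[[x,y]]` (R Noetherian local, π ∈ m) and the kernel of `α(p,q)`
-/

set_option autoImplicit false
universe u

namespace Groth.Agent.Lib.Helper29.NodeKer

open MvPowerSeries

section
variable (R : Type u) [CommRing R]

/-- the exponent `(1,1)`. -/
noncomputable def δ : Fin 2 →₀ ℕ := Finsupp.single 0 1 + Finsupp.single 1 1

theorem X0X1 : (X 0 * X 1 : MvPowerSeries (Fin 2) R) = monomial δ 1 := by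
  rw [X_def, X_def, monomial_mul_monomial, mul_one]
  rfl

theorem coeff_f_mul (π : R) (g : MvPowerSeries (Fin 2) R) (d : Fin 2 →₀ ℕ) :
    coeff (δ + d) ((X 0 * X 1 - C π) * g) = coeff d g - π * coeff (δ + d) g := by
  rw [sub_mul, map_sub, X0X1, coeff_add_monomial_mul, one_mul, coeff_C_mul]

theorem nzd [IsNoetherianRing R] [IsLocalRing R] (π : R)
    (hπ : π ∈ IsLocalRing.maximalIdeal R)
    (g : MvPowerSeries (Fin 2) R) (hg : (X 0 * X 1 - C π) * g = 0) : g = 0 := by
  have step : ∀ d, coeff d g = π * coeff (δ + d) g := by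
    intro d
    have key := coeff_f_mul R π g d
    rw [hg, map_zero] at key
    exact sub_eq_zero.mp key.symm
  have hk : ∀ k : ℕ, ∀ d, coeff d g ∈ (IsLocalRing.maximalIdeal R) ^ k := by
    intro k
    induction k with
    | zero =>
      intro d
      rw [pow_zero, Ideal.one_eq_top]
      exact Submodule.mem_top
    | succ k ih =>
      intro d
      rw [step d, pow_succ']
      exact Ideal.mul_mem_mul hπ (ih _)
  ext d
  rw [map_zero]
  have hmem : coeff d g ∈ (⨅ k : ℕ, (IsLocalRing.maximalIdeal R) ^ k) := by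
    rw [Ideal.mem_iInf]
    intro k
    exact hk k d
  rw [Ideal.iInf_pow_eq_bot_of_isLocalRing _ (IsLocalRing.maximalIdeal.isMaximal R).ne_top,
    Ideal.mem_bot] at hmem
  exact hmem

end

theorem ker_sub (R : Type u) [CommRing R] [IsNoetherianRing R] [IsLocalRing R]
    (π p q : R) (h : p * q = π) (hπ : π ∈ IsLocalRing.maximalIdeal R)
    (v : Fin 2 → SpinCurv.NodeRing R π)
    (h0 : SpinCurv.NodeRing.x R π * v 0 + algebraMap R (SpinCurv.NodeRing R π) p * v 1 = 0)
    (h1 : algebraMap R (SpinCurv.NodeRing R π) q * v 0 + SpinCurv.NodeRing.y R π * v 1 = 0) :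
    v ∈ Submodule.span (SpinCurv.NodeRing R π)
        {![algebraMap R (SpinCurv.NodeRing R π) p, -SpinCurv.NodeRing.x R π],
         ![SpinCurv.NodeRing.y R π, -algebraMap R (SpinCurv.NodeRing R π) q]} := by
  have halg : ∀ r : R, algebraMap R (SpinCurv.NodeRing R π) r =
      Ideal.Quotient.mk _ (C r) := by
    intro r
    rw [IsScalarTower.algebraMap_apply R (MvPowerSeries (Fin 2) R) (SpinCurv.NodeRing R π),
      Ideal.Quotient.algebraMap_eq, ← MvPowerSeries.c_eq_algebraMap]
  obtain ⟨a, ha⟩ := Ideal.Quotient.mk_surjective (v 0)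
  obtain ⟨b, hb⟩ := Ideal.Quotient.mk_surjective (v 1)
  rw [← ha, ← hb, halg] at h0 h1
  have h0' : (X 0 * a + C p * b : MvPowerSeries (Fin 2) R) ∈
      Ideal.span {(X 0 * X 1 - C π : MvPowerSeries (Fin 2) R)} := by
    rw [← Ideal.Quotient.eq_zero_iff_mem, map_add, map_mul, map_mul]
    exact h0
  have h1' : (C q * a + X 1 * b : MvPowerSeries (Fin 2) R) ∈
      Ideal.span {(X 0 * X 1 - C π : MvPowerSeries (Fin 2) R)} := by
    rw [← Ideal.Quotient.eq_zero_iff_mem, map_add, map_mul, map_mul]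
    exact h1
  obtain ⟨c₁, hc₁⟩ := Ideal.mem_span_singleton'.mp h0'
  obtain ⟨c₂, hc₂⟩ := Ideal.mem_span_singleton'.mp h1'
  have hCC : (C π : MvPowerSeries (Fin 2) R) = C p * C q := by rw [← h, map_mul]
  have hfa : (X 0 * X 1 - C π) * (a - (X 1 * c₁ - C p * c₂)) = 0 := by
    have e1 : (X 0 * X 1 - C π) * a =
        X 1 * (X 0 * a + C p * b) - C p * (C q * a + X 1 * b) := by
      rw [hCC]; ring
    rw [mul_sub, e1, ← hc₁, ← hc₂]
    ring
  have hfb : (X 0 * X 1 - C π) * (b - (X 0 * c₂ - C q * c₁)) = 0 := by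
    have e1 : (X 0 * X 1 - C π) * b =
        X 0 * (C q * a + X 1 * b) - C q * (X 0 * a + C p * b) := by
      rw [hCC]; ring
    rw [mul_sub, e1, ← hc₁, ← hc₂]
    ring
  have hA : a = X 1 * c₁ - C p * c₂ := sub_eq_zero.mp (nzd R π hπ _ hfa)
  have hB : b = X 0 * c₂ - C q * c₁ := sub_eq_zero.mp (nzd R π hπ _ hfb)
  refine Submodule.mem_span_pair.mpr ⟨-Ideal.Quotient.mk _ c₂, Ideal.Quotient.mk _ c₁, ?_⟩
  funext i
  fin_cases i
  · show -Ideal.Quotient.mk _ c₂ * algebraMap R (SpinCurv.NodeRing R π) p +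
        Ideal.Quotient.mk _ c₁ * SpinCurv.NodeRing.y R π = v 0
    rw [← ha, hA, halg, map_sub, map_mul, map_mul]
    ring
  · show -Ideal.Quotient.mk _ c₂ * -SpinCurv.NodeRing.x R π +
        Ideal.Quotient.mk _ c₁ * -algebraMap R (SpinCurv.NodeRing R π) q = v 1
    rw [← hb, hB, halg, map_sub, map_mul, map_mul]
    ring

theorem main18432 (R : Type u) [CommRing R] [IsNoetherianRing R] [IsLocalRing R]
    [IsAdicComplete (IsLocalRing.maximalIdeal R) R]
    (p q : R) (hp : p ∈ IsLocalRing.maximalIdeal R) (hq : q ∈ IsLocalRing.maximalIdeal R) :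
    LinearMap.ker (Matrix.mulVecLin (SpinCurv.nodeAlpha R p q)) =
      Submodule.span (SpinCurv.NodeRing R (p * q))
        {![algebraMap R (SpinCurv.NodeRing R (p * q)) p, -SpinCurv.NodeRing.x R (p * q)],
         ![SpinCurv.NodeRing.y R (p * q), -algebraMap R (SpinCurv.NodeRing R (p * q)) q]} := by
  have hπ : p * q ∈ IsLocalRing.maximalIdeal R := Ideal.mul_mem_right q _ hp
  have halg : ∀ r : R, algebraMap R (SpinCurv.NodeRing R (p * q)) r =
      Ideal.Quotient.mk _ (C r) := by
    intro r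
    rw [IsScalarTower.algebraMap_apply R (MvPowerSeries (Fin 2) R) (SpinCurv.NodeRing R (p * q)),
      Ideal.Quotient.algebraMap_eq, ← MvPowerSeries.c_eq_algebraMap]
  have hxy : SpinCurv.NodeRing.x R (p * q) * SpinCurv.NodeRing.y R (p * q) =
      algebraMap R (SpinCurv.NodeRing R (p * q)) p *
        algebraMap R (SpinCurv.NodeRing R (p * q)) q := by
    rw [← map_mul (algebraMap R (SpinCurv.NodeRing R (p * q))) p q, halg]
    exact (map_mul (Ideal.Quotient.mk _) (X 0) (X 1)).symm.trans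
      (Ideal.Quotient.eq.mpr (Ideal.subset_span (Set.mem_singleton _)))
  have hmv0 : ∀ v : Fin 2 → SpinCurv.NodeRing R (p * q),
      (Matrix.mulVec (SpinCurv.nodeAlpha R p q) v) 0 =
        SpinCurv.NodeRing.x R (p * q) * v 0 +
          algebraMap R (SpinCurv.NodeRing R (p * q)) p * v 1 := by
    intro v
    show ∑ j, SpinCurv.nodeAlpha R p q 0 j * v j = _
    rw [Fin.sum_univ_two]
    rfl
  have hmv1 : ∀ v : Fin 2 → SpinCurv.NodeRing R (p * q),
      (Matrix.mulVec (SpinCurv.nodeAlpha R p q) v) 1 =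
        algebraMap R (SpinCurv.NodeRing R (p * q)) q * v 0 +
          SpinCurv.NodeRing.y R (p * q) * v 1 := by
    intro v
    show ∑ j, SpinCurv.nodeAlpha R p q 1 j * v j = _
    rw [Fin.sum_univ_two]
    rfl
  apply le_antisymm
  · intro v hv
    rw [LinearMap.mem_ker, Matrix.mulVecLin_apply] at hv
    have h0 := congrFun hv 0
    have h1 := congrFun hv 1
    rw [hmv0] at h0
    rw [hmv1] at h1
    exact ker_sub R (p * q) p q rfl hπ v h0 h1
  · rw [Submodule.span_le]
    rintro v (rfl | rfl)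
    · rw [SetLike.mem_coe, LinearMap.mem_ker, Matrix.mulVecLin_apply]
      funext i
      fin_cases i
      · show (Matrix.mulVec (SpinCurv.nodeAlpha R p q) _) 0 = 0
        rw [hmv0]
        show SpinCurv.NodeRing.x R (p * q) * algebraMap R (SpinCurv.NodeRing R (p * q)) p +
          algebraMap R (SpinCurv.NodeRing R (p * q)) p * -SpinCurv.NodeRing.x R (p * q) = 0
        ring
      · show (Matrix.mulVec (SpinCurv.nodeAlpha R p q) _) 1 = 0
        rw [hmv1]
        show algebraMap R (SpinCurv.NodeRing R (p * q)) q *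
            algebraMap R (SpinCurv.NodeRing R (p * q)) p +
          SpinCurv.NodeRing.y R (p * q) * -SpinCurv.NodeRing.x R (p * q) = 0
        linear_combination (-1 : SpinCurv.NodeRing R (p * q)) * hxy
    · rw [SetLike.mem_coe, LinearMap.mem_ker, Matrix.mulVecLin_apply]
      funext i
      fin_cases i
      · show (Matrix.mulVec (SpinCurv.nodeAlpha R p q) _) 0 = 0
        rw [hmv0]
        show SpinCurv.NodeRing.x R (p * q) * SpinCurv.NodeRing.y R (p * q) +
          algebraMap R (SpinCurv.NodeRing R (p * q)) p *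
            -algebraMap R (SpinCurv.NodeRing R (p * q)) q = 0
        linear_combination hxy
      · show (Matrix.mulVec (SpinCurv.nodeAlpha R p q) _) 1 = 0
        rw [hmv1]
        show algebraMap R (SpinCurv.NodeRing R (p * q)) q * SpinCurv.NodeRing.y R (p * q) +
          SpinCurv.NodeRing.y R (p * q) * -algebraMap R (SpinCurv.NodeRing R (p * q)) q = 0
        ring

end Groth.Agent.Lib.Helper29.NodeKer
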