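import Mathlib
import Groth.Agent.Lib.Helper29.NodeKer
import Groth.Agent.Lib.Helper29.NodeFinrank

/-!
# Normal form `f(x) + g(y)` in `R[[x,y]]/(xy - π)` for `R` complete local, `π ∈ m`,
and the `R`-linear identification of the image of `α(p,q)` with `R[[x]] ⊕ R[[y]]`.
-/

set_option autoImplicit false
universe u

namespace Groth.Agent.Lib.Helper29.NodeNF

open MvPowerSeries
open Groth.Agent.Lib.Helper29.NodeKer
open Groth.Agent.Lib.Helper29.NodeFinrank (ext2 s0_at0 s0_at1 s1_at0 s1_at1 delta_le)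

/-- Solving `W = c + π · (W ∘ σ)` in an adically complete ring. -/
theorem exists_fixed {R : Type*} [CommRing R] (I : Ideal R) [IsAdicComplete I R] (π : R)
    (hπ : π ∈ I) {X : Type*} (σ : X → X) (c : X → R) :
    ∃ W : X → R, ∀ x, W x = c x + π * W (σ x) := by
  have hP : ∀ x N, (∑ l ∈ Finset.range (N + 1), π ^ l * c (σ^[l] x)) =
      c x + π * ∑ l ∈ Finset.range N, π ^ l * c (σ^[l] (σ x)) := by
    intro x N
    rw [Finset.sum_range_succ', Finset.mul_sum, add_comm]
    congr 1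
    · simp
    · apply Finset.sum_congr rfl
      intro l _
      rw [Function.iterate_succ_apply, pow_succ]
      ring
  have hstep : ∀ x N, (∑ l ∈ Finset.range (N + 1), π ^ l * c (σ^[l] x)) -
      (∑ l ∈ Finset.range N, π ^ l * c (σ^[l] x)) ∈ I ^ N := by
    intro x N
    rw [Finset.sum_range_succ, add_sub_cancel_left]
    exact Ideal.mul_mem_right _ _ (Ideal.pow_mem_pow hπ N)
  have hcauchy : ∀ x (m n : ℕ), m ≤ n →
      (∑ l ∈ Finset.range m, π ^ l * c (σ^[l] x)) ≡
        (∑ l ∈ Finset.range n, π ^ l * c (σ^[l] x)) [SMOD (I ^ m • ⊤ : Submodule R R)] := by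
    intro x m n hmn
    rw [SModEq.sub_mem, smul_eq_mul, Ideal.mul_top]
    induction n, hmn using Nat.le_induction with
    | base => rw [sub_self]; exact zero_mem _
    | succ n hmn ih =>
      have e : (∑ l ∈ Finset.range m, π ^ l * c (σ^[l] x)) -
          (∑ l ∈ Finset.range (n + 1), π ^ l * c (σ^[l] x)) =
          ((∑ l ∈ Finset.range m, π ^ l * c (σ^[l] x)) -
            (∑ l ∈ Finset.range n, π ^ l * c (σ^[l] x))) -
          ((∑ l ∈ Finset.range (n + 1), π ^ l * c (σ^[l] x)) -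
            (∑ l ∈ Finset.range n, π ^ l * c (σ^[l] x))) := by ring
      rw [e]
      exact Ideal.sub_mem _ ih (Ideal.pow_le_pow_right hmn (hstep x n))
  choose W hW using fun x =>
    IsPrecomplete.prec (IsAdicComplete.toIsPrecomplete : IsPrecomplete I R)
      (f := fun N => ∑ l ∈ Finset.range N, π ^ l * c (σ^[l] x))
      (fun {m n} h => hcauchy x m n h)
  refine ⟨W, fun x => ?_⟩
  rw [← sub_eq_zero]
  apply IsHausdorff.haus (IsAdicComplete.toIsHausdorff : IsHausdorff I R)
  intro N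
  have h1 := hW x (N + 1)
  have h2 := hW (σ x) N
  rw [SModEq.sub_mem, smul_eq_mul, Ideal.mul_top] at h1 h2
  rw [SModEq.sub_mem, smul_eq_mul, Ideal.mul_top, sub_zero]
  have e : W x - (c x + π * W (σ x)) =
      -((∑ l ∈ Finset.range (N + 1), π ^ l * c (σ^[l] x)) - W x) +
        π * ((∑ l ∈ Finset.range N, π ^ l * c (σ^[l] (σ x))) - W (σ x)) := by
    rw [hP]; ring
  rw [e]
  exact Ideal.add_mem _ ((Ideal.neg_mem_iff _).mpr (Ideal.pow_le_pow_right (Nat.le_succ N) h1))
    (Ideal.mul_mem_left _ _ h2)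

section series
variable (R : Type u) [CommRing R]

theorem coeff_toMv_single (i : Fin 2) (f : PowerSeries R) (n : ℕ) :
    coeff (Finsupp.single i n) (PowerSeries.toMvPowerSeries i f) = PowerSeries.coeff n f := by
  have key := MvPowerSeries.coeff_embDomain_rename (R := R) (Function.Embedding.punit i) f
    (Finsupp.single PUnit.unit n)
  rw [Finsupp.embDomain_single] at key
  exact key

theorem coeff_toMv_eq_zero (i j : Fin 2) (hji : j ≠ i) (f : PowerSeries R) (d : Fin 2 →₀ ℕ)
    (hd : d j ≠ 0) : coeff d (PowerSeries.toMvPowerSeries i f) = 0 := by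
  rw [PowerSeries.toMvPowerSeries_apply]
  apply MvPowerSeries.coeff_rename_eq_zero
  rintro ⟨x, rfl⟩
  apply hd
  apply Finsupp.mapDomain_of_notMem_range
  rintro ⟨_, h⟩
  exact hji h.symm

theorem eq_zero_of_step [IsNoetherianRing R] [IsLocalRing R] (π : R)
    (hπ : π ∈ IsLocalRing.maximalIdeal R) (g : MvPowerSeries (Fin 2) R)
    (step : ∀ d, coeff d g = π * coeff (δ + d) g) : g = 0 := by
  have hk : ∀ k : ℕ, ∀ d, coeff d g ∈ (IsLocalRing.maximalIdeal R) ^ k := by
    intro k
    induction k with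
    | zero =>
      intro d
      rw [pow_zero, Ideal.one_eq_top]
      exact Submodule.mem_top
    | succ k ih =>
      intro d
      rw [step d, pow_succ']
      exact Ideal.mul_mem_mul hπ (ih _)
  ext d
  rw [map_zero]
  have hmem : coeff d g ∈ (⨅ k : ℕ, (IsLocalRing.maximalIdeal R) ^ k) := by
    rw [Ideal.mem_iInf]
    intro k
    exact hk k d
  rw [Ideal.iInf_pow_eq_bot_of_isLocalRing _ (IsLocalRing.maximalIdeal.isMaximal R).ne_top,
    Ideal.mem_bot] at hmem
  exact hmem

theorem normal_form [IsLocalRing R] [IsAdicComplete (IsLocalRing.maximalIdeal R) R]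
    (π : R) (hπ : π ∈ IsLocalRing.maximalIdeal R) (s : MvPowerSeries (Fin 2) R) :
    ∃ (f g : PowerSeries R) (t : MvPowerSeries (Fin 2) R),
      s = PowerSeries.toMvPowerSeries 0 f + PowerSeries.toMvPowerSeries 1 g +
        (X 0 * X 1 - C π) * t := by
  obtain ⟨W, hW⟩ := exists_fixed (IsLocalRing.maximalIdeal R) π hπ
    (fun d : Fin 2 →₀ ℕ => δ + d) (fun d => coeff d s)
  obtain ⟨t, ht⟩ : ∃ t : MvPowerSeries (Fin 2) R, ∀ d, coeff d t = W (δ + d) :=
    ⟨fun d => W (δ + d), fun d => rfl⟩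
  refine ⟨PowerSeries.mk (fun i => W (Finsupp.single 0 i)),
    PowerSeries.mk (fun j => if j = 0 then 0 else W (Finsupp.single 1 j)),
    t, ?_⟩
  ext d
  have hφ : coeff d ((X 0 * X 1 - C π : MvPowerSeries (Fin 2) R) * t) =
      (if δ ≤ d then W d else 0) - π * W (δ + d) := by
    rw [sub_mul, map_sub, X0X1, coeff_monomial_mul, coeff_C_mul, ht d]
    congr 1
    split_ifs with h
    · rw [one_mul, ht, add_tsub_cancel_of_le h]
    · rfl
  rw [map_add, map_add, hφ]
  by_cases h1 : d 1 = 0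
  · have hd : d = Finsupp.single 0 (d 0) := ext2 _ _ (s0_at0 _).symm (by rw [s0_at1, h1])
    have hδ : ¬ δ ≤ d := by
      unfold δ; rw [delta_le]; omega
    have e1 : coeff d (PowerSeries.toMvPowerSeries 0
        (PowerSeries.mk fun i => W (Finsupp.single 0 i))) = W d := by
      conv_lhs => rw [hd]
      rw [coeff_toMv_single, PowerSeries.coeff_mk, ← hd]
    have e2 : coeff d (PowerSeries.toMvPowerSeries 1
        (PowerSeries.mk fun j => if j = 0 then 0 else W (Finsupp.single 1 j))) = 0 := by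
      by_cases h0 : d 0 = 0
      · have hd0 : d = Finsupp.single 1 0 :=
          ext2 _ _ (by rw [s1_at0, h0]) (by rw [s1_at1, h1])
        rw [hd0, coeff_toMv_single, PowerSeries.coeff_mk, if_pos rfl]
      · exact coeff_toMv_eq_zero R 1 0 (by decide) _ d h0
    rw [if_neg hδ, e1, e2, hW d]
    ring
  · by_cases h0 : d 0 = 0
    · have hd : d = Finsupp.single 1 (d 1) := ext2 _ _ (by rw [s1_at0, h0]) (s1_at1 _).symm
      have hδ : ¬ δ ≤ d := by
        unfold δ; rw [delta_le]; omega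
      have e1 : coeff d (PowerSeries.toMvPowerSeries 0
          (PowerSeries.mk fun i => W (Finsupp.single 0 i))) = 0 :=
        coeff_toMv_eq_zero R 0 1 (by decide) _ d h1
      have e2 : coeff d (PowerSeries.toMvPowerSeries 1
          (PowerSeries.mk fun j => if j = 0 then 0 else W (Finsupp.single 1 j))) = W d := by
        conv_lhs => rw [hd]
        rw [coeff_toMv_single, PowerSeries.coeff_mk, if_neg h1, ← hd]
      rw [if_neg hδ, e1, e2, hW d]
      ring
    · have hδ : δ ≤ d := by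
        unfold δ; rw [delta_le]; omega
      have e1 : coeff d (PowerSeries.toMvPowerSeries 0
          (PowerSeries.mk fun i => W (Finsupp.single 0 i))) = 0 :=
        coeff_toMv_eq_zero R 0 1 (by decide) _ d h1
      have e2 : coeff d (PowerSeries.toMvPowerSeries 1
          (PowerSeries.mk fun j => if j = 0 then 0 else W (Finsupp.single 1 j))) = 0 :=
        coeff_toMv_eq_zero R 1 0 (by decide) _ d h0
      rw [if_pos hδ, e1, e2, hW d]
      ring

end series

section quot
variable (R : Type u) [CommRing R] (π : R)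

theorem halg (r : R) : algebraMap R (SpinCurv.NodeRing R π) r = Ideal.Quotient.mk _ (C r) := by
  rw [IsScalarTower.algebraMap_apply R (MvPowerSeries (Fin 2) R) (SpinCurv.NodeRing R π),
    Ideal.Quotient.algebraMap_eq, ← MvPowerSeries.c_eq_algebraMap]

theorem mk_phi : Ideal.Quotient.mk
    (Ideal.span {(X 0 * X 1 - C π : MvPowerSeries (Fin 2) R)}) (X 0 * X 1 - C π) = 0 :=
  Ideal.Quotient.eq_zero_iff_mem.mpr (Ideal.subset_span (Set.mem_singleton _))

theorem hxy : SpinCurv.NodeRing.x R π * SpinCurv.NodeRing.y R π =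
    algebraMap R (SpinCurv.NodeRing R π) π := by
  rw [halg]
  exact (map_mul (Ideal.Quotient.mk _) (X 0) (X 1)).symm.trans
    (Ideal.Quotient.eq.mpr (Ideal.subset_span (Set.mem_singleton _)))

theorem ofX_add (f g : PowerSeries R) : SpinCurv.NodeRing.ofX R π (f + g) =
    SpinCurv.NodeRing.ofX R π f + SpinCurv.NodeRing.ofX R π g := by
  show Ideal.Quotient.mk _ (PowerSeries.toMvPowerSeries 0 (f + g)) = _
  rw [map_add, map_add]

theorem ofX_sub (f g : PowerSeries R) : SpinCurv.NodeRing.ofX R π (f - g) =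
    SpinCurv.NodeRing.ofX R π f - SpinCurv.NodeRing.ofX R π g := by
  show Ideal.Quotient.mk _ (PowerSeries.toMvPowerSeries 0 (f - g)) = _
  rw [map_sub, map_sub]

theorem ofX_mul (f g : PowerSeries R) : SpinCurv.NodeRing.ofX R π (f * g) =
    SpinCurv.NodeRing.ofX R π f * SpinCurv.NodeRing.ofX R π g := by
  show Ideal.Quotient.mk _ (PowerSeries.toMvPowerSeries 0 (f * g)) = _
  rw [map_mul, map_mul]

theorem ofX_C (r : R) : SpinCurv.NodeRing.ofX R π (PowerSeries.C r) =
    algebraMap R (SpinCurv.NodeRing R π) r := by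
  show Ideal.Quotient.mk _ (PowerSeries.toMvPowerSeries 0 (PowerSeries.C r)) = _
  rw [PowerSeries.toMvPowerSeries_C, halg]

theorem ofX_X : SpinCurv.NodeRing.ofX R π PowerSeries.X = SpinCurv.NodeRing.x R π := by
  show Ideal.Quotient.mk _ (PowerSeries.toMvPowerSeries 0 PowerSeries.X) = _
  rw [PowerSeries.toMvPowerSeries_X]

theorem ofY_add (f g : PowerSeries R) : SpinCurv.NodeRing.ofY R π (f + g) =
    SpinCurv.NodeRing.ofY R π f + SpinCurv.NodeRing.ofY R π g := by
  show Ideal.Quotient.mk _ (PowerSeries.toMvPowerSeries 1 (f + g)) = _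
  rw [map_add, map_add]

theorem ofY_sub (f g : PowerSeries R) : SpinCurv.NodeRing.ofY R π (f - g) =
    SpinCurv.NodeRing.ofY R π f - SpinCurv.NodeRing.ofY R π g := by
  show Ideal.Quotient.mk _ (PowerSeries.toMvPowerSeries 1 (f - g)) = _
  rw [map_sub, map_sub]

theorem ofY_mul (f g : PowerSeries R) : SpinCurv.NodeRing.ofY R π (f * g) =
    SpinCurv.NodeRing.ofY R π f * SpinCurv.NodeRing.ofY R π g := by
  show Ideal.Quotient.mk _ (PowerSeries.toMvPowerSeries 1 (f * g)) = _
  rw [map_mul, map_mul]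

theorem ofY_C (r : R) : SpinCurv.NodeRing.ofY R π (PowerSeries.C r) =
    algebraMap R (SpinCurv.NodeRing R π) r := by
  show Ideal.Quotient.mk _ (PowerSeries.toMvPowerSeries 1 (PowerSeries.C r)) = _
  rw [PowerSeries.toMvPowerSeries_C, halg]

theorem ofY_X : SpinCurv.NodeRing.ofY R π PowerSeries.X = SpinCurv.NodeRing.y R π := by
  show Ideal.Quotient.mk _ (PowerSeries.toMvPowerSeries 1 PowerSeries.X) = _
  rw [PowerSeries.toMvPowerSeries_X]

theorem nf_A [IsLocalRing R] [IsAdicComplete (IsLocalRing.maximalIdeal R) R]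
    (hπ : π ∈ IsLocalRing.maximalIdeal R) (a : SpinCurv.NodeRing R π) :
    ∃ f g : PowerSeries R,
      a = SpinCurv.NodeRing.ofX R π f + SpinCurv.NodeRing.ofY R π g := by
  obtain ⟨s, rfl⟩ := Ideal.Quotient.mk_surjective a
  obtain ⟨f, g, t, hs⟩ := normal_form R π hπ s
  refine ⟨f, g, ?_⟩
  conv_lhs => rw [hs]
  rw [map_add, map_add, map_mul, mk_phi, zero_mul, add_zero]

theorem ker_lift [IsNoetherianRing R] [IsLocalRing R] (p q : R) (h : p * q = π)
    (hπ : π ∈ IsLocalRing.maximalIdeal R) (a b : MvPowerSeries (Fin 2) R)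
    (h0 : Ideal.Quotient.mk (Ideal.span {(X 0 * X 1 - C π : MvPowerSeries (Fin 2) R)})
      (X 0 * a + C p * b) = 0)
    (h1 : Ideal.Quotient.mk (Ideal.span {(X 0 * X 1 - C π : MvPowerSeries (Fin 2) R)})
      (C q * a + X 1 * b) = 0) :
    ∃ c₁ c₂ : MvPowerSeries (Fin 2) R, a = X 1 * c₁ - C p * c₂ ∧ b = X 0 * c₂ - C q * c₁ := by
  obtain ⟨c₁, hc₁⟩ := Ideal.mem_span_singleton'.mp (Ideal.Quotient.eq_zero_iff_mem.mp h0)
  obtain ⟨c₂, hc₂⟩ := Ideal.mem_span_singleton'.mp (Ideal.Quotient.eq_zero_iff_mem.mp h1)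
  have hCC : (C π : MvPowerSeries (Fin 2) R) = C p * C q := by rw [← h, map_mul]
  have hfa : (X 0 * X 1 - C π) * (a - (X 1 * c₁ - C p * c₂)) = 0 := by
    have e1 : (X 0 * X 1 - C π) * a =
        X 1 * (X 0 * a + C p * b) - C p * (C q * a + X 1 * b) := by
      rw [hCC]; ring
    rw [mul_sub, e1, ← hc₁, ← hc₂]
    ring
  have hfb : (X 0 * X 1 - C π) * (b - (X 0 * c₂ - C q * c₁)) = 0 := by
    have e1 : (X 0 * X 1 - C π) * b =
        X 0 * (C q * a + X 1 * b) - C q * (X 0 * a + C p * b) := by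
      rw [hCC]; ring
    rw [mul_sub, e1, ← hc₁, ← hc₂]
    ring
  exact ⟨c₁, c₂, sub_eq_zero.mp (nzd R π hπ _ hfa), sub_eq_zero.mp (nzd R π hπ _ hfb)⟩

theorem inj_core [IsNoetherianRing R] [IsLocalRing R] (p q : R) (h : p * q = π)
    (hπ : π ∈ IsLocalRing.maximalIdeal R) (F G : PowerSeries R)
    (h0 : SpinCurv.NodeRing.x R π * SpinCurv.NodeRing.ofX R π F +
      algebraMap R (SpinCurv.NodeRing R π) p * SpinCurv.NodeRing.ofY R π G = 0)
    (h1 : algebraMap R (SpinCurv.NodeRing R π) q * SpinCurv.NodeRing.ofX R π F +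
      SpinCurv.NodeRing.y R π * SpinCurv.NodeRing.ofY R π G = 0) : F = 0 ∧ G = 0 := by
  have h0' : Ideal.Quotient.mk (Ideal.span {(X 0 * X 1 - C π : MvPowerSeries (Fin 2) R)})
      (X 0 * PowerSeries.toMvPowerSeries 0 F + C p * PowerSeries.toMvPowerSeries 1 G) = 0 := by
    rw [map_add, map_mul, map_mul, ← halg]
    exact h0
  have h1' : Ideal.Quotient.mk (Ideal.span {(X 0 * X 1 - C π : MvPowerSeries (Fin 2) R)})
      (C q * PowerSeries.toMvPowerSeries 0 F + X 1 * PowerSeries.toMvPowerSeries 1 G) = 0 := by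
    rw [map_add, map_mul, map_mul, ← halg]
    exact h1
  obtain ⟨c₁, c₂, ha, hb⟩ := ker_lift R π p q h hπ _ _ h0' h1'
  have hc1 : ∀ d, coeff d c₁ = p * coeff (Finsupp.single 1 1 + d) c₂ := by
    intro d
    have hz : coeff (Finsupp.single 1 1 + d) (PowerSeries.toMvPowerSeries 0 F) = 0 :=
      coeff_toMv_eq_zero R 0 1 (by decide) F _ (by rw [Finsupp.add_apply, s1_at1]; omega)
    rw [ha, map_sub, X_def 1, coeff_add_monomial_mul, one_mul, coeff_C_mul] at hz
    exact sub_eq_zero.mp hz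
  have hc2 : ∀ d, coeff d c₂ = q * coeff (Finsupp.single 0 1 + d) c₁ := by
    intro d
    have hz : coeff (Finsupp.single 0 1 + d) (PowerSeries.toMvPowerSeries 1 G) = 0 :=
      coeff_toMv_eq_zero R 1 0 (by decide) G _ (by rw [Finsupp.add_apply, s0_at0]; omega)
    rw [hb, map_sub, X_def 0, coeff_add_monomial_mul, one_mul, coeff_C_mul] at hz
    exact sub_eq_zero.mp hz
  have hc1' : c₁ = 0 := by
    apply eq_zero_of_step R π hπ c₁
    intro d
    have e : δ + d = Finsupp.single 0 1 + (Finsupp.single 1 1 + d) := by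
      unfold δ; rw [add_assoc]
    rw [hc1 d, hc2, ← h, mul_assoc, e]
  have hc2' : c₂ = 0 := by
    ext d
    rw [hc2 d, hc1']
    simp
  rw [hc1', hc2', mul_zero, mul_zero, sub_zero] at ha hb
  exact ⟨PowerSeries.toMvPowerSeries_injective 0 (ha.trans (map_zero _).symm),
    PowerSeries.toMvPowerSeries_injective 1 (hb.trans (map_zero _).symm)⟩

theorem range_core [IsLocalRing R] [IsAdicComplete (IsLocalRing.maximalIdeal R) R]
    (p q : R) (h : p * q = π) (hπ : π ∈ IsLocalRing.maximalIdeal R)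
    (a b : SpinCurv.NodeRing R π) :
    ∃ f g : PowerSeries R,
      SpinCurv.NodeRing.x R π * SpinCurv.NodeRing.ofX R π f +
        algebraMap R (SpinCurv.NodeRing R π) p * SpinCurv.NodeRing.ofY R π g =
        SpinCurv.NodeRing.x R π * a + algebraMap R (SpinCurv.NodeRing R π) p * b ∧
      algebraMap R (SpinCurv.NodeRing R π) q * SpinCurv.NodeRing.ofX R π f +
        SpinCurv.NodeRing.y R π * SpinCurv.NodeRing.ofY R π g =
        algebraMap R (SpinCurv.NodeRing R π) q * a + SpinCurv.NodeRing.y R π * b := by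
  obtain ⟨a₁, a₂, rfl⟩ := nf_A R π hπ a
  obtain ⟨b₁, b₂, rfl⟩ := nf_A R π hπ b
  have hxy' : SpinCurv.NodeRing.x R π * SpinCurv.NodeRing.y R π =
      algebraMap R (SpinCurv.NodeRing R π) p * algebraMap R (SpinCurv.NodeRing R π) q := by
    rw [hxy, ← h, map_mul]
  have ha₂ : SpinCurv.NodeRing.ofY R π a₂ =
      SpinCurv.NodeRing.y R π *
        SpinCurv.NodeRing.ofY R π (PowerSeries.mk fun n => PowerSeries.coeff (n + 1) a₂) +
      algebraMap R (SpinCurv.NodeRing R π) (PowerSeries.constantCoeff a₂) := by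
    conv_lhs => rw [PowerSeries.eq_X_mul_shift_add_const a₂]
    rw [ofY_add, ofY_mul, ofY_X, ofY_C]
  have hb₁ : SpinCurv.NodeRing.ofX R π b₁ =
      SpinCurv.NodeRing.x R π *
        SpinCurv.NodeRing.ofX R π (PowerSeries.mk fun n => PowerSeries.coeff (n + 1) b₁) +
      algebraMap R (SpinCurv.NodeRing R π) (PowerSeries.constantCoeff b₁) := by
    conv_lhs => rw [PowerSeries.eq_X_mul_shift_add_const b₁]
    rw [ofX_add, ofX_mul, ofX_X, ofX_C]
  refine ⟨a₁ + PowerSeries.C (PowerSeries.constantCoeff a₂) +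
      PowerSeries.C p * (PowerSeries.mk fun n => PowerSeries.coeff (n + 1) b₁),
    PowerSeries.C q * (PowerSeries.mk fun n => PowerSeries.coeff (n + 1) a₂) +
      PowerSeries.C (PowerSeries.constantCoeff b₁) + b₂, ?_, ?_⟩
  · rw [ofX_add, ofX_add, ofX_mul, ofX_C, ofX_C, ofY_add, ofY_add, ofY_mul, ofY_C, ofY_C, ha₂, hb₁]
    linear_combination
      (-SpinCurv.NodeRing.ofY R π (PowerSeries.mk fun n => PowerSeries.coeff (n + 1) a₂)) * hxy'
  · rw [ofX_add, ofX_add, ofX_mul, ofX_C, ofX_C, ofY_add, ofY_add, ofY_mul, ofY_C, ofY_C, ha₂, hb₁]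
    linear_combination
      (-SpinCurv.NodeRing.ofX R π (PowerSeries.mk fun n => PowerSeries.coeff (n + 1) b₁)) * hxy'

end quot

theorem main18433 (R : Type u) [CommRing R] [IsNoetherianRing R] [IsLocalRing R]
    [IsAdicComplete (IsLocalRing.maximalIdeal R) R]
    (p q : R) (hp : p ∈ IsLocalRing.maximalIdeal R) (hq : q ∈ IsLocalRing.maximalIdeal R) :
    Function.Injective (fun fg : PowerSeries R × PowerSeries R =>
        Matrix.mulVec (SpinCurv.nodeAlpha R p q)
          ![SpinCurv.NodeRing.ofX R (p * q) fg.1, SpinCurv.NodeRing.ofY R (p * q) fg.2]) ∧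
    Set.range (fun fg : PowerSeries R × PowerSeries R =>
        Matrix.mulVec (SpinCurv.nodeAlpha R p q)
          ![SpinCurv.NodeRing.ofX R (p * q) fg.1, SpinCurv.NodeRing.ofY R (p * q) fg.2]) =
      Set.range (Matrix.mulVec (SpinCurv.nodeAlpha R p q)) := by
  have hπ : p * q ∈ IsLocalRing.maximalIdeal R := Ideal.mul_mem_right q _ hp
  have hmv0 : ∀ v : Fin 2 → SpinCurv.NodeRing R (p * q),
      (Matrix.mulVec (SpinCurv.nodeAlpha R p q) v) 0 =
        SpinCurv.NodeRing.x R (p * q) * v 0 +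
          algebraMap R (SpinCurv.NodeRing R (p * q)) p * v 1 := by
    intro v
    show ∑ j, SpinCurv.nodeAlpha R p q 0 j * v j = _
    rw [Fin.sum_univ_two]
    rfl
  have hmv1 : ∀ v : Fin 2 → SpinCurv.NodeRing R (p * q),
      (Matrix.mulVec (SpinCurv.nodeAlpha R p q) v) 1 =
        algebraMap R (SpinCurv.NodeRing R (p * q)) q * v 0 +
          SpinCurv.NodeRing.y R (p * q) * v 1 := by
    intro v
    show ∑ j, SpinCurv.nodeAlpha R p q 1 j * v j = _
    rw [Fin.sum_univ_two]
    rfl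
  constructor
  · rintro ⟨f, g⟩ ⟨f', g'⟩ hfg
    have hfg' : Matrix.mulVec (SpinCurv.nodeAlpha R p q)
        ![SpinCurv.NodeRing.ofX R (p * q) f, SpinCurv.NodeRing.ofY R (p * q) g] =
        Matrix.mulVec (SpinCurv.nodeAlpha R p q)
        ![SpinCurv.NodeRing.ofX R (p * q) f', SpinCurv.NodeRing.ofY R (p * q) g'] := hfg
    have h0 := congrFun hfg' 0
    have h1 := congrFun hfg' 1
    rw [hmv0, hmv0] at h0
    rw [hmv1, hmv1] at h1
    have h0' : SpinCurv.NodeRing.x R (p * q) * SpinCurv.NodeRing.ofX R (p * q) f +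
        algebraMap R (SpinCurv.NodeRing R (p * q)) p * SpinCurv.NodeRing.ofY R (p * q) g =
        SpinCurv.NodeRing.x R (p * q) * SpinCurv.NodeRing.ofX R (p * q) f' +
        algebraMap R (SpinCurv.NodeRing R (p * q)) p * SpinCurv.NodeRing.ofY R (p * q) g' := h0
    have h1' : algebraMap R (SpinCurv.NodeRing R (p * q)) q * SpinCurv.NodeRing.ofX R (p * q) f +
        SpinCurv.NodeRing.y R (p * q) * SpinCurv.NodeRing.ofY R (p * q) g =
        algebraMap R (SpinCurv.NodeRing R (p * q)) q * SpinCurv.NodeRing.ofX R (p * q) f' +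
        SpinCurv.NodeRing.y R (p * q) * SpinCurv.NodeRing.ofY R (p * q) g' := h1
    obtain ⟨hF, hG⟩ := inj_core R (p * q) p q rfl hπ (f - f') (g - g')
      (by rw [ofX_sub, ofY_sub]; linear_combination h0')
      (by rw [ofX_sub, ofY_sub]; linear_combination h1')
    rw [sub_eq_zero.mp hF, sub_eq_zero.mp hG]
  · apply Set.Subset.antisymm
    · rintro _ ⟨fg, rfl⟩
      exact ⟨_, rfl⟩
    · rintro _ ⟨v, rfl⟩
      obtain ⟨f, g, e0, e1⟩ := range_core R (p * q) p q rfl hπ (v 0) (v 1)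
      refine ⟨(f, g), ?_⟩
      funext i
      fin_cases i
      · show (Matrix.mulVec (SpinCurv.nodeAlpha R p q)
          ![SpinCurv.NodeRing.ofX R (p * q) f, SpinCurv.NodeRing.ofY R (p * q) g]) 0 =
          (Matrix.mulVec (SpinCurv.nodeAlpha R p q) v) 0
        rw [hmv0, hmv0]
        exact e0
      · show (Matrix.mulVec (SpinCurv.nodeAlpha R p q)
          ![SpinCurv.NodeRing.ofX R (p * q) f, SpinCurv.NodeRing.ofY R (p * q) g]) 1 =
          (Matrix.mulVec (SpinCurv.nodeAlpha R p q) v) 1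
        rw [hmv1, hmv1]
        exact e1

end Groth.Agent.Lib.Helper29.NodeNF
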