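import Groth.Agent.Lib.Helper29.TorsorPush
import Groth.Agent.Lib.Helper29.TorsorProps
import Groth.Agent.Lib.Helper12.IntSection
import Groth.Prelude.Def_Pi1

/-!
# Helper library (helper29): sections of finite flat torsors over normal integral schemes

* `main13152`: a generic section extends
* `main14695`: triviality can be tested after a generically-isomorphic change of structure group
-/

set_option autoImplicit false
set_option maxHeartbeats 1600000
universe u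
open CategoryTheory CategoryTheory.Limits AlgebraicGeometry MonoidalCategory CartesianMonoidalCategory
  MonObj GrpObj

namespace Groth.Agent.Lib.Helper29.NormalSection

open Groth.Agent.Lib.Helper29.InvFun Groth.Agent.Lib.Helper22 Groth.Agent.Lib.Helper29.TorsorPush

noncomputable section

theorem isTorsorFor_fpqc_of_fppf {S : Scheme.{u}} {G X : Over S} [GrpObj G]
    (a : AlgGrp.Action G X) (h : NonAbH1.IsTorsorFor Scheme.fppfPrecoverage a) :
    NonAbH1.IsTorsorFor Scheme.fpqcPrecoverage a := by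
  obtain ⟨h1, R, hR, h2⟩ := h
  exact ⟨h1, R, Scheme.fppfPrecoverage_le_fpqcPrecoverage _ hR, h2⟩

theorem main13152 {X : Scheme.{u}} [IsIntegral X]
    (hX : Pi1.IsNormalScheme X) (G : Over X) [GrpObj G] [IsFinite G.hom] [Flat G.hom]
    (Y : Over X) (a : AlgGrp.Action G Y) (hY : NonAbH1.IsTorsorFor Scheme.fppfPrecoverage a)
    (hgen : NonAbH1.HasSectionOver Y (X.fromSpecStalk (genericPoint X))) :
    NonAbH1.HasSectionOver Y (𝟙 X) := by
  have hY' := isTorsorFor_fpqc_of_fppf a hY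
  haveI : IsFinite Y.hom := (TorsorProps.main18860 a hY').2.2.1 inferInstance
  obtain ⟨ζ, hζ⟩ := hgen
  obtain ⟨s', h1, _⟩ := Groth.Agent.Lib.Helper12.IntSection.exists_section Y.hom ζ hζ
    (fun x => (hX x).2)
  exact ⟨s', h1⟩

theorem bij_of_isIso_pullback {X K : Scheme.{u}} (ξ : K ⟶ X) {G G' : Over X} (g : G ⟶ G')
    (hg : IsIso ((Over.pullback ξ).map g)) (T : Over X) (b : T.left ⟶ K) (hb : b ≫ ξ = T.hom) :
    Function.Bijective (fun gm : T ⟶ G => gm ≫ g) := by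
  let e : T ≅ (Over.map ξ).obj (Over.mk b) := Over.isoMk (Iso.refl _) (by
    show 𝟙 _ ≫ (b ≫ ξ) = T.hom
    rw [Category.id_comp, hb])
  let Φ : ∀ H : Over X, (T ⟶ H) ≃ (Over.mk b ⟶ (Over.pullback ξ).obj H) := fun H =>
    (Iso.homCongr e (Iso.refl H)).trans ((Over.mapPullbackAdj ξ).homEquiv (Over.mk b) H)
  have hΦ : ∀ gm : T ⟶ G, Φ G' (gm ≫ g) = Φ G gm ≫ (Over.pullback ξ).map g := by
    intro gm
    show (Over.mapPullbackAdj ξ).homEquiv (Over.mk b) G' (e.inv ≫ (gm ≫ g) ≫ 𝟙 _) =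
      (Over.mapPullbackAdj ξ).homEquiv (Over.mk b) G (e.inv ≫ gm ≫ 𝟙 _) ≫ (Over.pullback ξ).map g
    rw [← Adjunction.homEquiv_naturality_right]
    simp only [Category.assoc, Category.comp_id]
  haveI := hg
  have hbij : Function.Bijective
      (fun δ : Over.mk b ⟶ (Over.pullback ξ).obj G => δ ≫ (Over.pullback ξ).map g) :=
    ⟨fun δ δ' h => (cancel_mono _).1 h,
      fun δ => ⟨δ ≫ inv ((Over.pullback ξ).map g), by simp⟩⟩
  have hfun : (fun gm : T ⟶ G => gm ≫ g) =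
      (Φ G').symm ∘ (fun δ => δ ≫ (Over.pullback ξ).map g) ∘ (Φ G) := by
    funext gm
    simp only [Function.comp_apply]
    rw [← hΦ, Equiv.symm_apply_apply]
  rw [hfun]
  exact (Φ G').symm.bijective.comp (hbij.comp (Φ G).bijective)

theorem main14695 {X : Scheme.{u}} [IsIntegral X]
    (hX : Pi1.IsNormalScheme X) (G G' : Over X) [GrpObj G] [GrpObj G']
    [IsFinite G.hom] [Flat G.hom] [IsFinite G'.hom] [Flat G'.hom]
    (g : G ⟶ G') [IsMonHom g]
    (hg : IsIso ((Over.pullback (X.fromSpecStalk (genericPoint X))).map g))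
    (P : Over X) (a : AlgGrp.Action G P) (hP : NonAbH1.IsTorsorFor Scheme.fppfPrecoverage a)
    (P' : Over X) (a' : AlgGrp.Action G' P') (hP' : NonAbH1.IsTorsorFor Scheme.fppfPrecoverage a')
    (hpush : NonAbH1.IsPushforwardAlongSch g a a') (htriv : NonAbH1.HasSectionOver P' (𝟙 X)) :
    NonAbH1.HasSectionOver P (𝟙 X) := by
  refine main13152 hX G P a hP ?_
  have hPq := isTorsorFor_fpqc_of_fppf a hP
  obtain ⟨c⟩ := exists_covSec hPq.2
  obtain ⟨f, hf⟩ := hpush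
  obtain ⟨σ, hσ⟩ := htriv
  obtain ⟨ξ, hξ⟩ : ∃ ξ, ξ = X.fromSpecStalk (genericPoint X) := ⟨_, rfl⟩
  rw [← hξ] at hg ⊢
  let T₀ : Over X := Over.mk ξ
  have hfpt : ∀ {T : Over X} (j : T ⟶ G) (p : T ⟶ P),
      smul a j p ≫ f = smul a' (j ≫ g) (p ≫ f) :=
    fun j p => equiv_pts g a a' f hf j p
  let σT : ∀ T : Over X, T ⟶ P' := fun T => Over.homMk (T.hom ≫ σ) (by
    show (T.hom ≫ σ) ≫ P'.hom = T.hom
    rw [Category.assoc, hσ, Category.comp_id])
  have hσT : ∀ (T T' : Over X) (s : T' ⟶ T), s ≫ σT T = σT T' := by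
    intro T T' s
    apply Over.OverMorphism.ext
    show s.left ≫ T.hom ≫ σ = T'.hom ≫ σ
    rw [← Category.assoc, Over.w s]
  have hbij : ∀ (T : Over X) (_ : T ⟶ T₀), Function.Bijective (fun gm : T ⟶ G => gm ≫ g) :=
    fun T b => bij_of_isIso_pullback ξ g hg T b.left (Over.w b)
  let gm : ∀ (T : Over X) (_ : T ⟶ T₀) (_ : T ⟶ P), T ⟶ G := fun T b p =>
    Classical.choose ((hbij T b).2 (dv a' hP'.1 (σT T) (p ≫ f)))
  have hgm : ∀ (T : Over X) (b : T ⟶ T₀) (p : T ⟶ P),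
      gm T b p ≫ g = dv a' hP'.1 (σT T) (p ≫ f) :=
    fun T b p => Classical.choose_spec ((hbij T b).2 (dv a' hP'.1 (σT T) (p ≫ f)))
  let F : ∀ (T : Over X), (T ⟶ T₀) → (T ⟶ P) → (T ⟶ P) := fun T b p => smul a (gm T b p) p
  have hnat : ∀ (T T' : Over X) (s : T' ⟶ T) (b : T ⟶ T₀) (p : T ⟶ P),
      s ≫ F T b p = F T' (s ≫ b) (s ≫ p) := by
    intro T T' s b p
    have e : s ≫ gm T b p = gm T' (s ≫ b) (s ≫ p) := by
      apply (hbij T' (s ≫ b)).1
      show (s ≫ gm T b p) ≫ g = gm T' (s ≫ b) (s ≫ p) ≫ g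
      rw [Category.assoc, hgm T b p, hgm T' (s ≫ b) (s ≫ p), comp_dv, hσT, Category.assoc]
    show s ≫ smul a (gm T b p) p = smul a (gm T' (s ≫ b) (s ≫ p)) (s ≫ p)
    rw [comp_smul, e]
  have hind : ∀ (T : Over X) (b : T ⟶ T₀) (p₁ p₂ : T ⟶ P), F T b p₁ = F T b p₂ := by
    intro T b p₁ p₂
    obtain ⟨j, e⟩ : ∃ j : T ⟶ G, smul a j p₁ = p₂ := ⟨_, dv_smul a hP.1 p₂ p₁⟩
    subst e
    have e2 : gm T b (smul a j p₁) = gm T b p₁ * j⁻¹ := by
      apply (hbij T b).1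
      show gm T b (smul a j p₁) ≫ g = (gm T b p₁ * j⁻¹) ≫ g
      rw [hgm T b (smul a j p₁), hfpt, dv_smul_right, MonObj.mul_comp, GrpObj.inv_comp, hgm T b p₁]
    show smul a (gm T b p₁) p₁ = smul a (gm T b (smul a j p₁)) (smul a j p₁)
    rw [e2, pt_mul_smul, pt_inv_smul_smul]
  obtain ⟨r, _⟩ := c.glue F hnat hind
  exact ⟨r.left, Over.w r⟩

end

end Groth.Agent.Lib.Helper29.NormalSection
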