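import Mathlib
import Groth.Prelude.Def_ProEtS
import Groth.Agent.Lib.Helper15.ProEtRestr
import Groth.Agent.Lib.Helper15.ProEtCont
import Groth.Agent.Lib.Helper29.ProEtClopen
import Groth.Agent.Lib.Helper29.Main7284
import Groth.Agent.Lib.Helper29.ClosedDense

/-!
# Sheaves on the pro-étale site vanishing on the open complement come from the closed part
(helper29)
-/

set_option autoImplicit false
set_option linter.style.haveILetI false
set_option linter.unusedSectionVars false
set_option maxHeartbeats 1600000

universe u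

open CategoryTheory CategoryTheory.Limits AlgebraicGeometry Opposite TopologicalSpace

namespace Groth.Agent.Lib.Helper29.OpenClosed1

open Groth.Agent.Lib.Helper5.ProEtQcqs Groth.Agent.Lib.Helper29.ProEtClopen
  Groth.Agent.Lib.Helper29.Main7284 Groth.Agent.Lib.Helper29.ClosedDense

set_option backward.isDefEq.respectTransparency.types false in
/-- Base change of pro-étale sites is locally faithful (it preserves equalizers). -/
theorem isLocallyFaithful {Z X : Scheme.{u}} (i : Z ⟶ X) :
    (ProEtS.bcP i).IsLocallyFaithful (Scheme.ProEt.topology Z) := by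
  constructor
  intro V' V f₁ f₂ h
  haveI : PreservesFiniteLimits (ProEtS.bcP i) := inferInstance
  haveI : PreservesLimitsOfShape WalkingParallelPair (ProEtS.bcP i) :=
    PreservesFiniteLimits.preservesFiniteLimits _
  haveI : PreservesLimit (parallelPair f₁ f₂) (ProEtS.bcP i) := inferInstance
  haveI : IsIso (equalizerComparison f₁ f₂ (ProEtS.bcP i)) := inferInstance
  haveI : IsIso (equalizer.ι ((ProEtS.bcP i).map f₁) ((ProEtS.bcP i).map f₂)) :=
    equalizer.ι_of_eq h
  haveI hiso : IsIso ((ProEtS.bcP i).map (equalizer.ι f₁ f₂)) := by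
    rw [← equalizerComparison_comp_π f₁ f₂ (ProEtS.bcP i)]
    infer_instance
  apply GrothendieckTopology.covering_of_eq_top
  rw [← Sieve.id_mem_iff_eq_top]
  exact ⟨equalizer f₁ f₂, equalizer.ι f₁ f₂, inv ((ProEtS.bcP i).map (equalizer.ι f₁ f₂)),
    equalizer.condition f₁ f₂, (IsIso.inv_hom_id _).symm⟩

lemma range_subset_of_comp {A B C : Scheme.{u}} (a : A ⟶ B) (b : B ⟶ C) (c : A ⟶ C)
    (h : a ≫ b = c) : Set.range c ⊆ Set.range b := by
  rintro _ ⟨y, rfl⟩
  exact ⟨a y, by rw [← h, Scheme.Hom.comp_apply]⟩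

lemma mem_or_mem {U X Z : Scheme.{u}} (i : Z ⟶ X) (j : U ⟶ X)
    (hc : Set.range j.base = (Set.range i.base)ᶜ) (x : X) :
    x ∈ Set.range j ∨ x ∈ Set.range i := by
  by_cases h : x ∈ Set.range i
  · exact Or.inr h
  · left
    have h1 : x ∈ Set.range j.base := by
      rw [hc]
      exact h
    exact h1

lemma disjoint_ranges {U X Z : Scheme.{u}} (i : Z ⟶ X) (j : U ⟶ X)
    (hc : Set.range j.base = (Set.range i.base)ᶜ) :
    Disjoint (Set.range j) (Set.range i) := by
  rw [Set.disjoint_left]
  intro x hj hi
  have h1 : x ∈ Set.range j.base := hj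
  rw [hc] at h1
  exact h1 hi

lemma isAffine_pullback_of {X Z W : Scheme.{u}} (i : Z ⟶ X) [IsClosedImmersion i] (w : W ⟶ X)
    [IsAffine W] : IsAffine (pullback w i) := inferInstance

lemma compactSpace_pullback_of {X U W : Scheme.{u}} (j : U ⟶ X) [QuasiCompact j] (w : W ⟶ X)
    [CompactSpace W] : CompactSpace ↥(pullback w j) :=
  QuasiCompact.compactSpace_of_compactSpace (pullback.fst w j)

lemma weaklyEtale_fst_comp_of {X U W : Scheme.{u}} (j : U ⟶ X) [IsOpenImmersion j] (w : W ⟶ X)
    [WeaklyEtale w] : WeaklyEtale (pullback.fst w j ≫ w) := inferInstance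

/-- The sieve of arrows whose source lies over the open `U`. -/
def overU {U X : Scheme.{u}} (j : U ⟶ X) (W : X.ProEt) : Sieve W where
  arrows Y _ := Set.range (Y.hom : Y.left ⟶ X) ⊆ Set.range j
  downward_closed := by
    intro Y Y' f hf g
    exact (range_subset_of_comp g.left (Y.hom : Y.left ⟶ X) (Y'.hom : Y'.left ⟶ X)
      (MorphismProperty.Over.w g)).trans hf

lemma exists_compact_open {A B : Scheme.{u}} [CompactSpace A] (f : A ⟶ B) :
    ∃ O : B.Opens, IsCompact (O : Set B) ∧ ∀ a : A, f a ∈ O := by
  have hC : IsCompact (Set.range f) := isCompact_range f.continuous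
  have hnb : ∀ b : B, ∃ O : B.Opens, IsAffineOpen O ∧ b ∈ O := by
    intro b
    obtain ⟨(O : B.Opens), hO, hbO, -⟩ := Opens.isBasis_iff_nbhd.mp B.isBasis_affineOpens
      (show b ∈ (⊤ : B.Opens) from trivial)
    exact ⟨O, hO, hbO⟩
  choose 𝒪 h𝒪 hb𝒪 using hnb
  obtain ⟨t, ht⟩ := hC.elim_finite_subcover (fun b : B => ((𝒪 b : B.Opens) : Set B))
    (fun b => (𝒪 b).2) (fun x _ => Set.mem_iUnion.mpr ⟨x, hb𝒪 x⟩)
  refine ⟨⟨⋃ b ∈ t, ((𝒪 b : B.Opens) : Set B), isOpen_biUnion (fun b _ => (𝒪 b).2)⟩, ?_, ?_⟩
  · exact t.isCompact_biUnion (fun b _ => (h𝒪 b).isCompact)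
  · intro a
    exact ht ⟨a, rfl⟩

set_option backward.isDefEq.respectTransparency.types false in
/-- A finite jointly surjective family of quasi-compact objects over an affine object generates a
covering sieve. -/
lemma generate_finite_mem {X : Scheme.{u}} {W : X.ProEt} [IsAffine W.left] {ι : Type} [Finite ι]
    (T : ι → X.ProEt) (f : ∀ k, T k ⟶ W) [∀ k, CompactSpace (T k).left]
    (hsurj : ∀ x : W.left, ∃ k, x ∈ Set.range (f k).left) :
    Sieve.generate (Presieve.ofArrows T f) ∈ Scheme.ProEt.topology X W := by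
  have hwe : ∀ k, WeaklyEtale (f k).left := by
    intro k
    haveI : WeaklyEtale ((f k).left ≫ W.hom) := by
      rw [MorphismProperty.Over.w (f k)]
      exact (T k).prop
    exact WeaklyEtale.of_comp (f k).left W.hom
  have hqcf : ∀ k, QuasiCompact (f k).left := fun k => inferInstance
  let 𝒞 : Scheme.Cover (Scheme.precoverage weMP.{u}) W.left :=
    Scheme.Cover.mkOfCovers ι (fun k => (T k).left) (fun k => (f k).left)
      (fun x => by
        obtain ⟨k, y, hy⟩ := hsurj x
        exact ⟨k, y, hy⟩)
      (fun k => hwe k)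
  apply Precoverage.generate_mem_toGrothendieck
  change (Presieve.ofArrows T f).map (toSch X) ∈ Scheme.proetalePrecoverage W.left
  rw [Presieve.map_ofArrows]
  haveI : ∀ k, QuasiCompact (𝒞.f k) := fun k => hqcf k
  haveI : Finite 𝒞.I₀ := (inferInstance : Finite ι)
  have hqc : QuasiCompactCover 𝒞.toPreZeroHypercover := QuasiCompactCover.of_finite
  exact ⟨Scheme.presieve₀_mem_qcPrecoverage_iff.2 hqc, 𝒞.mem₀⟩

section Main

variable {X Z U : Scheme.{u}} (i : Z ⟶ X) [IsClosedImmersion i] (j : U ⟶ X) [IsOpenImmersion j]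
  [QuasiCompact j] (hc : Set.range j.base = (Set.range i.base)ᶜ)

include hc in
set_option backward.isDefEq.respectTransparency.types false in
/-- Affine case: a sieve whose base change to `Z` is covering becomes covering after adding the
arrows over `U`. -/
theorem affine_case {W : X.ProEt} [IsAffine W.left] (S : Sieve W)
    (hS : S.functorPushforward (ProEtS.bcP i) ∈
      Scheme.ProEt.topology Z ((ProEtS.bcP i).obj W)) :
    S ⊔ overU j W ∈ Scheme.ProEt.topology X W := by
  haveI : IsAffine ((ProEtS.bcP i).obj W).left := isAffine_pullback_of (W := W.left) i W.hom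
  obtain ⟨n, T, t, hTaff, htsurj, htmem⟩ :=
    exists_affine_refinement_fin ((ProEtS.bcP i).obj W) _ hS
  have hdata : ∀ m, ∃ (V : X.ProEt) (v : V ⟶ W) (h : T m ⟶ (ProEtS.bcP i).obj V),
      S.arrows v ∧ t m = h ≫ (ProEtS.bcP i).map v := fun m => htmem m
  choose V v h hvS hfac using hdata
  have hO : ∀ m, ∃ O : (V m).left.Opens, IsCompact (O : Set (V m).left) ∧
      ∀ τ : (T m).left, ((h m).left ≫ pullback.fst (V m).hom i) τ ∈ O := by
    intro m
    haveI := hTaff m
    exact exists_compact_open ((h m).left ≫ pullback.fst (V m).hom i)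
  choose O hOc hOr using hO
  -- the open part
  haveI hwe0 : WeaklyEtale (pullback.fst W.hom j ≫ W.hom) := weaklyEtale_fst_comp_of (W := W.left) j W.hom
  let Y0 : X.ProEt := Scheme.ProEt.mk (pullback.fst W.hom j ≫ W.hom)
  let f0 : Y0 ⟶ W := MorphismProperty.Over.homMk (pullback.fst W.hom j) rfl trivial
  haveI hc0 : CompactSpace Y0.left := compactSpace_pullback_of (W := W.left) j W.hom
  let T' : Option (Fin n) → X.ProEt := fun k =>
    match k with
    | none => Y0
    | some m => opOb (V m) (O m)
  let f' : ∀ k, T' k ⟶ W := fun k =>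
    match k with
    | none => f0
    | some m => opIncl (V m) (O m) ≫ v m
  haveI : ∀ k, CompactSpace (T' k).left := by
    intro k
    cases k with
    | none => exact hc0
    | some m => exact isCompact_iff_compactSpace.mp (hOc m)
  have hsurj : ∀ x : W.left, ∃ k, x ∈ Set.range (f' k).left := by
    intro w
    rcases mem_or_mem i j hc ((W.hom : W.left ⟶ X) w) with hw | hw
    · refine ⟨none, ?_⟩
      show w ∈ Set.range (pullback.fst W.hom j)
      rw [Scheme.Pullback.range_fst]
      exact hw
    · have hw2 : w ∈ Set.range (pullback.fst W.hom i) := by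
        rw [Scheme.Pullback.range_fst]
        exact hw
      obtain ⟨t₀, ht₀⟩ := hw2
      obtain ⟨m, τ, hτ⟩ := htsurj t₀
      refine ⟨some m, ?_⟩
      have e1 : (t m).left ≫ pullback.fst W.hom i =
          ((h m).left ≫ pullback.fst (V m).hom i) ≫ (v m).left := by
        calc (t m).left ≫ pullback.fst W.hom i
            = ((h m).left ≫ ((ProEtS.bcP i).map (v m)).left) ≫ pullback.fst W.hom i := by
              rw [hfac m]
              rfl
          _ = (h m).left ≫ (((ProEtS.bcP i).map (v m)).left ≫ pullback.fst W.hom i) :=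
              Category.assoc _ _ _
          _ = (h m).left ≫ (pullback.fst (V m).hom i ≫ (v m).left) :=
              congrArg (fun q => (h m).left ≫ q) (pullback.lift_fst _ _ _)
          _ = _ := (Category.assoc _ _ _).symm
      have e2 := apply_eq_of_comp_eq _ _ _ _ e1 τ
      have e3 : w = (v m).left (((h m).left ≫ pullback.fst (V m).hom i) τ) :=
        ht₀.symm.trans ((congrArg (pullback.fst W.hom i) hτ.symm).trans e2)
      refine ⟨⟨((h m).left ≫ pullback.fst (V m).hom i) τ, hOr m τ⟩, ?_⟩
      show ((O m).ι ≫ (v m).left) ⟨((h m).left ≫ pullback.fst (V m).hom i) τ, hOr m τ⟩ = w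
      rw [Scheme.Hom.comp_apply]
      exact e3.symm
  have hcov := generate_finite_mem T' f' hsurj
  refine GrothendieckTopology.superset_covering _ ?_ hcov
  rw [Sieve.generate_le_iff]
  rintro Y _ ⟨k⟩
  cases k with
  | none =>
    right
    show Set.range (pullback.fst W.hom j ≫ W.hom) ⊆ Set.range j
    exact range_subset_of_comp (pullback.snd W.hom j) j _ pullback.condition.symm
  | some m =>
    left
    exact S.downward_closed (hvS m) _

include hc in
set_option backward.isDefEq.respectTransparency.types false in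
theorem general_case {W : X.ProEt} (S : Sieve W)
    (hS : S ∈ (ProEtS.bcP i).restrictedTopology (Scheme.ProEt.topology Z) W) :
    S ⊔ overU j W ∈ Scheme.ProEt.topology X W := by
  haveI := isCoverDense i
  haveI := isLocallyFull i
  haveI := isLocallyFaithful i
  have hcov := opens_generate_mem W (fun a : W.left.affineOpens => (a : W.left.Opens))
    (fun w => by
      obtain ⟨(O : W.left.Opens), hO, hwO, -⟩ :=
        Opens.isBasis_iff_nbhd.mp W.left.isBasis_affineOpens
          (show w ∈ (⊤ : W.left.Opens) from trivial)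
      exact ⟨⟨O, hO⟩, hwO⟩)
  apply GrothendieckTopology.transitive _ hcov
  intro Y f hf
  obtain ⟨Y', h, k, hk, rfl⟩ := hf
  obtain ⟨a⟩ := hk
  rw [Sieve.pullback_comp]
  apply GrothendieckTopology.pullback_stable
  haveI : IsAffine (opOb W (a : W.left.Opens)).left := a.2
  have h1 : S.pullback (opIncl W (a : W.left.Opens)) ∈
      (ProEtS.bcP i).restrictedTopology (Scheme.ProEt.topology Z) (opOb W (a : W.left.Opens)) :=
    GrothendieckTopology.pullback_stable _ _ hS
  have h2 := affine_case i j hc (S.pullback (opIncl W (a : W.left.Opens)))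
    (Functor.mem_restrictedTopology_iff.mp h1)
  refine GrothendieckTopology.superset_covering _ ?_ h2
  rintro Y'' g (hg | hg)
  · exact Or.inl hg
  · exact Or.inr hg

end Main

end Groth.Agent.Lib.Helper29.OpenClosed1
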