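import Mathlib
import Groth.Prelude.Def_ProEtS
import Groth.Agent.Lib.Helper13.FlatPullback
import Groth.Agent.Lib.Helper15.ProEtRestr
import Groth.Agent.Lib.Helper15.ProEtCont
import Groth.Agent.Lib.Helper29.OpenClosed1
import Groth.Agent.S0730

/-!
# The open-closed decomposition sequence on the pro-étale site (helper29)

`0 → j_! j⁻¹ F → F → i_* i⁻¹ F → 0` for a closed immersion `i` with quasi-compact open complement
`j`.
-/

set_option autoImplicit false
set_option linter.style.haveILetI false
set_option linter.unusedSectionVars false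
set_option maxHeartbeats 1600000

universe u

open CategoryTheory CategoryTheory.Limits AlgebraicGeometry Opposite TopologicalSpace

namespace Groth.Agent.Lib.Helper29.OpenClosed2

open Groth.Agent.Lib.Helper29.ClosedDense Groth.Agent.Lib.Helper29.OpenClosed1

lemma isZero_sections {C : Type*} [Category C] {J : GrothendieckTopology C}
    (F : Sheaf J AddCommGrpCat.{u + 1}) (hF : IsZero F) (Y : Cᵒᵖ) : IsZero (F.obj.obj Y) :=
  ((sheafToPresheaf J _) ⋙ (evaluation _ _).obj Y).map_isZero hF

lemma isZero_of_sections {C : Type*} [Category C] {J : GrothendieckTopology C}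
    (F : Sheaf J AddCommGrpCat.{u + 1}) (h : ∀ Y, IsZero (F.obj.obj Y)) : IsZero F := by
  rw [IsZero.iff_id_eq_zero]
  apply Sheaf.hom_ext
  apply NatTrans.ext
  funext Y
  exact (h Y).eq_of_src _ _

section Main

variable {X Z U : Scheme.{u}} (i : Z ⟶ X) [IsClosedImmersion i] (j : U ⟶ X) [IsOpenImmersion j]
  [QuasiCompact j] (hc : Set.range j.base = (Set.range i.base)ᶜ)

include hc in
set_option backward.isDefEq.respectTransparency.types false in
/-- A sheaf vanishing over `U` is a sheaf for the topology induced from `Z`. -/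
theorem isSheaf_restricted (H : ProEtS.AbP X)
    (hH : ∀ Y : X.ProEt, Set.range (Y.hom : Y.left ⟶ X) ⊆ Set.range j →
      IsZero (H.obj.obj (op Y))) :
    Presheaf.IsSheaf ((ProEtS.bcP i).restrictedTopology (Scheme.ProEt.topology Z)) H.obj := by
  intro E W S hS
  have hcov : S ⊔ overU j W ∈ Scheme.ProEt.topology X W := general_case i j hc S hS
  have hR : Presieve.IsSheafFor (H.obj ⋙ coyoneda.obj (op E)) (S ⊔ overU j W).arrows :=
    H.property E _ hcov
  refine Presieve.isSheafFor_trans _ (S ⊔ overU j W) S hR ?_ ?_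
  · intro Y f hf
    rw [Sieve.pullback_eq_top_of_mem _ (Or.inl hf : (S ⊔ overU j W).arrows f)]
    exact Presieve.isSeparatedFor_top _
  · intro Y f hf
    rcases hf with hf | hf
    · rw [Sieve.pullback_eq_top_of_mem _ hf]
      exact Presieve.isSheafFor_top_sieve _
    · intro x hx
      have hz : ∀ (Y' : X.ProEt) (g : Y' ⟶ Y), IsZero (H.obj.obj (op Y')) := fun Y' g =>
        hH Y' ((range_subset_of_comp g.left (Y.hom : Y.left ⟶ X) (Y'.hom : Y'.left ⟶ X)
          (MorphismProperty.Over.w g)).trans hf)
      refine ⟨(hH Y hf).from_ E, fun Y' g hg => (hz Y' g).eq_of_tgt _ _,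
        fun t' _ => (hH Y hf).eq_of_tgt _ _⟩

include hc in
set_option backward.isDefEq.respectTransparency.types false in
/-- A sheaf vanishing over `U` is a pushforward from `Z`. -/
theorem exists_iso_push [ProEtS.PCont i] (H : ProEtS.AbP X)
    (hH : ∀ Y : X.ProEt, Set.range (Y.hom : Y.left ⟶ X) ⊆ Set.range j →
      IsZero (H.obj.obj (op Y))) :
    ∃ H' : ProEtS.AbP Z, Nonempty (H ≅ (ProEtS.pushP i).obj H') := by
  haveI := isCoverDense i
  haveI := isLocallyFull i
  haveI := isLocallyFaithful i
  haveI hds : (ProEtS.bcP i).IsDenseSubsite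
      ((ProEtS.bcP i).restrictedTopology (Scheme.ProEt.topology Z))
      (Scheme.ProEt.topology Z) := inferInstance
  let Ht : Sheaf ((ProEtS.bcP i).restrictedTopology (Scheme.ProEt.topology Z))
      AddCommGrpCat.{u + 1} := ⟨H.obj, isSheaf_restricted i j hc H hH⟩
  haveI heq : ((ProEtS.bcP i).sheafPushforwardContinuous AddCommGrpCat.{u + 1}
      ((ProEtS.bcP i).restrictedTopology (Scheme.ProEt.topology Z))
      (Scheme.ProEt.topology Z)).IsEquivalence := inferInstance
  let H' := ((ProEtS.bcP i).sheafPushforwardContinuous AddCommGrpCat.{u + 1}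
      ((ProEtS.bcP i).restrictedTopology (Scheme.ProEt.topology Z))
      (Scheme.ProEt.topology Z)).objPreimage Ht
  let e := ((ProEtS.bcP i).sheafPushforwardContinuous AddCommGrpCat.{u + 1}
      ((ProEtS.bcP i).restrictedTopology (Scheme.ProEt.topology Z))
      (Scheme.ProEt.topology Z)).objObjPreimageIso Ht
  refine ⟨H', ⟨?_⟩⟩
  let e' : ((ProEtS.pushP i).obj H').obj ≅ H.obj := (sheafToPresheaf _ _).mapIso e
  exact ((fullyFaithfulSheafToPresheaf (Scheme.ProEt.topology X)
    AddCommGrpCat.{u + 1}).preimageIso (X := (ProEtS.pushP i).obj H') (Y := H) e').symm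

include hc in
set_option backward.isDefEq.respectTransparency.types false in
/-- Joint conservativity of `j⁻¹` and `i⁻¹`. -/
theorem isZero_of_restr_pull [ProEtS.JPCont j] [ProEtS.PCont i] (H : ProEtS.AbP X)
    (h1 : IsZero ((ProEtS.restrP j).obj H)) (h2 : IsZero ((ProEtS.pullP i).obj H)) :
    IsZero H := by
  have hH : ∀ Y : X.ProEt, Set.range (Y.hom : Y.left ⟶ X) ⊆ Set.range j →
      IsZero (H.obj.obj (op Y)) := by
    intro Y hY
    haveI hwl : WeaklyEtale (IsOpenImmersion.lift j (Y.hom : Y.left ⟶ X) hY) := by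
      haveI : WeaklyEtale (IsOpenImmersion.lift j (Y.hom : Y.left ⟶ X) hY ≫ j) := by
        rw [IsOpenImmersion.lift_fac]
        exact Y.prop
      exact WeaklyEtale.of_comp _ j
    let YU : U.ProEt := Scheme.ProEt.mk (IsOpenImmersion.lift j (Y.hom : Y.left ⟶ X) hY)
    let eY : (ProEtS.compP j).obj YU ≅ Y :=
      MorphismProperty.Over.isoMk (Iso.refl _) (by
        show 𝟙 _ ≫ Y.hom = IsOpenImmersion.lift j (Y.hom : Y.left ⟶ X) hY ≫ j
        rw [Category.id_comp, IsOpenImmersion.lift_fac])
    have hz : IsZero (((ProEtS.restrP j).obj H).obj.obj (op YU)) := isZero_sections _ h1 _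
    exact IsZero.of_iso hz (H.obj.mapIso eY.op)
  obtain ⟨H', ⟨e⟩⟩ := exists_iso_push i j hc H hH
  haveI : IsIso ((ProEtS.pullPushAdjP i).counit.app H') := main0741 i H'
  have e2 : (ProEtS.pullP i).obj H ≅ H' :=
    (ProEtS.pullP i).mapIso e ≪≫ asIso ((ProEtS.pullPushAdjP i).counit.app H')
  have hH' : IsZero H' := IsZero.of_iso h2 e2.symm
  exact IsZero.of_iso ((ProEtS.pushP i).map_isZero hH') e

include hc in
set_option backward.isDefEq.respectTransparency.types false in
/-- `j⁻¹ i_* = 0`. -/
theorem isZero_restr_push [ProEtS.JPCont j] [ProEtS.PCont i] (G' : ProEtS.AbP Z) :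
    IsZero ((ProEtS.restrP j).obj ((ProEtS.pushP i).obj G')) := by
  apply isZero_of_sections
  intro Y
  have hdisj : Disjoint (Set.range ((unop Y).hom ≫ j)) (Set.range i) :=
    (disjoint_ranges i j hc).mono_left
      (range_subset_of_comp (unop Y).hom j ((unop Y).hom ≫ j) rfl)
  haveI hemp : IsEmpty ↑(pullback ((unop Y).hom ≫ j) i) := Scheme.isEmpty_pullback _ _ hdisj
  haveI : IsEmpty ((ProEtS.bcP i).obj ((ProEtS.compP j).obj (unop Y))).left := hemp
  have hbot : (⊥ : Sieve ((ProEtS.bcP i).obj ((ProEtS.compP j).obj (unop Y)))) ∈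
      Scheme.ProEt.topology Z _ := Scheme.ProEt.bot_mem_topology _
  have hT : IsTerminal (G'.obj.obj (op ((ProEtS.bcP i).obj ((ProEtS.compP j).obj (unop Y))))) :=
    Sheaf.isTerminalOfBotCover G' _ hbot
  exact IsZero.of_iso (isZero_zero _) (hT.uniqueUpToIso HasZeroObject.zeroIsTerminal)

include hc in
/-- `i⁻¹ j_! = 0`. -/
theorem isZero_pull_extZero [ProEtS.JPCont j] [ProEtS.PCont i] (G'' : ProEtS.AbP U) :
    IsZero ((ProEtS.pullP i).obj ((ProEtS.extZeroP j).obj G'')) := by
  rw [IsZero.iff_id_eq_zero]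
  apply ((ProEtS.pullPushAdjP i).homEquiv _ _).injective
  apply ((ProEtS.extZeroPAdj j).homEquiv _ _).injective
  exact (isZero_restr_push i j hc _).eq_of_tgt _ _

open Groth.Agent.Lib.Helper13.FlatPullback in
set_option backward.isDefEq.respectTransparency.types false in
theorem pullP_preservesFiniteLimits [ProEtS.PCont i] : PreservesFiniteLimits (ProEtS.pullP i) := by
  haveI : RepresentablyFlat (ProEtS.bcP i) := flat_of_preservesFiniteLimits _
  haveI : PreservesFiniteLimits ((ProEtS.bcP i).op.lan :
      (X.ProEtᵒᵖ ⥤ AddCommGrpCat.{u + 1}) ⥤ Z.ProEtᵒᵖ ⥤ AddCommGrpCat.{u + 1}) :=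
    lan_preservesFiniteLimits_of_flat' AddCommGrpCat.{u + 1} (ProEtS.bcP i) (fun _ _ => by
      have : PreservesFilteredColimitsOfSize.{u, u + 1} (forget AddCommGrpCat.{u + 1}) :=
        preservesFilteredColimitsOfSize_of_univLE.{u + 1, u + 1, u, u + 1} _
      infer_instance)
  exact Functor.sheafPullbackConstruction.preservesFiniteLimits (ProEtS.bcP i)
    AddCommGrpCat.{u + 1} (Scheme.ProEt.topology X) (Scheme.ProEt.topology Z)

include hc in
set_option backward.isDefEq.respectTransparency.types false in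
theorem main0726 [ProEtS.JPCont j] [ProEtS.PCont i] (F : ProEtS.AbP X) :
    ∃ h : (ProEtS.extZeroPAdj j).counit.app F ≫ (ProEtS.pullPushAdjP i).unit.app F = 0,
      (ShortComplex.mk _ _ h).ShortExact := by
  haveI hpc : ProEtS.PCont j := Groth.Agent.S0730.result j
  -- exactness of the two restriction functors
  haveI : PreservesFiniteLimits (ProEtS.pullP i) := pullP_preservesFiniteLimits i
  haveI : PreservesColimitsOfSize.{0, 0} (ProEtS.pullP i) :=
    (ProEtS.pullPushAdjP i).leftAdjoint_preservesColimits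
  haveI : PreservesFiniteColimits (ProEtS.pullP i) :=
    PreservesColimitsOfSize.preservesFiniteColimits.{0, 0} _
  haveI : PreservesLimitsOfSize.{0, 0} (ProEtS.restrP j) :=
    (ProEtS.extZeroPAdj j).rightAdjoint_preservesLimits
  haveI : PreservesFiniteLimits (ProEtS.restrP j) :=
    PreservesLimitsOfSize.preservesFiniteLimits.{0, 0} _
  haveI : PreservesColimitsOfSize.{0, 0} (ProEtS.restrP j) :=
    (Groth.Agent.Lib.Helper15.ProEtRestr.restrPushAdjP j).leftAdjoint_preservesColimits
  haveI : PreservesFiniteColimits (ProEtS.restrP j) :=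
    PreservesColimitsOfSize.preservesFiniteColimits.{0, 0} _
  haveI : (ProEtS.pullP i).PreservesZeroMorphisms := inferInstance
  haveI : (ProEtS.restrP j).PreservesZeroMorphisms := inferInstance
  -- notation
  let f := (ProEtS.extZeroPAdj j).counit.app F
  let g := (ProEtS.pullPushAdjP i).unit.app F
  have hZ1 : IsZero ((ProEtS.restrP j).obj ((ProEtS.pushP i).obj ((ProEtS.pullP i).obj F))) :=
    isZero_restr_push i j hc _
  have hZ2 : IsZero ((ProEtS.pullP i).obj ((ProEtS.extZeroP j).obj ((ProEtS.restrP j).obj F))) :=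
    isZero_pull_extZero i j hc _
  -- F1
  haveI hF1 : IsIso ((ProEtS.restrP j).map f) := by
    haveI : IsIso ((ProEtS.extZeroPAdj j).unit.app ((ProEtS.restrP j).obj F)) := inferInstance
    haveI : IsIso ((ProEtS.extZeroPAdj j).unit.app ((ProEtS.restrP j).obj F) ≫
        (ProEtS.restrP j).map f) := by
      rw [show (ProEtS.extZeroPAdj j).unit.app ((ProEtS.restrP j).obj F) ≫
        (ProEtS.restrP j).map f = 𝟙 _ from (ProEtS.extZeroPAdj j).right_triangle_components F]
      infer_instance
    exact IsIso.of_isIso_comp_left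
      ((ProEtS.extZeroPAdj j).unit.app ((ProEtS.restrP j).obj F)) _
  -- F4
  haveI hF4 : IsIso ((ProEtS.pullP i).map g) := by
    haveI : IsIso ((ProEtS.pullPushAdjP i).counit.app ((ProEtS.pullP i).obj F)) :=
      main0741 i _
    haveI : IsIso ((ProEtS.pullP i).map g ≫
        (ProEtS.pullPushAdjP i).counit.app ((ProEtS.pullP i).obj F)) := by
      rw [show (ProEtS.pullP i).map g ≫
        (ProEtS.pullPushAdjP i).counit.app ((ProEtS.pullP i).obj F) = 𝟙 _ from
        (ProEtS.pullPushAdjP i).left_triangle_components F]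
      infer_instance
    exact IsIso.of_isIso_comp_right _
      ((ProEtS.pullPushAdjP i).counit.app ((ProEtS.pullP i).obj F))
  have hzero : f ≫ g = 0 := by
    apply ((ProEtS.extZeroPAdj j).homEquiv _ _).injective
    exact hZ1.eq_of_tgt _ _
  refine ⟨hzero, ?_⟩
  -- mono
  haveI hmono : Mono f := by
    apply Preadditive.mono_of_kernel_zero
    have hK : IsZero (kernel f) := by
      apply isZero_of_restr_pull i j hc
      · exact IsZero.of_iso (isZero_kernel_of_mono ((ProEtS.restrP j).map f))
          (PreservesKernel.iso (ProEtS.restrP j) f)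
      · exact IsZero.of_iso (IsZero.of_mono (kernel.ι ((ProEtS.pullP i).map f)) hZ2)
          (PreservesKernel.iso (ProEtS.pullP i) f)
    exact hK.eq_of_src _ _
  haveI hepi : Epi g := by
    apply Preadditive.epi_of_cokernel_zero
    have hQ : IsZero (cokernel g) := by
      apply isZero_of_restr_pull i j hc
      · exact IsZero.of_iso (IsZero.of_epi (cokernel.π ((ProEtS.restrP j).map g)) hZ1)
          (PreservesCokernel.iso (ProEtS.restrP j) g)
      · exact IsZero.of_iso (isZero_cokernel_of_epi ((ProEtS.pullP i).map g))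
          (PreservesCokernel.iso (ProEtS.pullP i) g)
    exact hQ.eq_of_tgt _ _
  have hexact : (ShortComplex.mk f g hzero).Exact := by
    rw [ShortComplex.exact_iff_isZero_homology]
    apply isZero_of_restr_pull i j hc
    · have hE : ((ShortComplex.mk f g hzero).map (ProEtS.restrP j)).Exact := by
        rw [ShortComplex.exact_iff_epi _ (hZ1.eq_of_tgt _ _)]
        exact (inferInstance : Epi ((ProEtS.restrP j).map f))
      exact IsZero.of_iso ((ShortComplex.exact_iff_isZero_homology _).mp hE)
        ((ShortComplex.mk f g hzero).mapHomologyIso (ProEtS.restrP j)).symm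
    · have hE : ((ShortComplex.mk f g hzero).map (ProEtS.pullP i)).Exact := by
        rw [ShortComplex.exact_iff_mono _ (hZ2.eq_of_src _ _)]
        exact (inferInstance : Mono ((ProEtS.pullP i).map g))
      exact IsZero.of_iso ((ShortComplex.exact_iff_isZero_homology _).mp hE)
        ((ShortComplex.mk f g hzero).mapHomologyIso (ProEtS.pullP i)).symm
  exact ShortComplex.ShortExact.mk' hexact hmono hepi

end Main

end Groth.Agent.Lib.Helper29.OpenClosed2
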