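import Groth.Agent.Lib.Helper8.LocalCriterion3
import Groth.Agent.Lib.Helper29.FibHomFlat
import Groth.Agent.Lib.Helper29.SmoothHom

/-!
# A monomorphism of locally algebraic groups inducing an isomorphism on completed local rings
at the unit is an open immersion (helper29)

* `flat_of_graded_iso`: a local homomorphism of Noetherian local rings inducing bijections
  `A/𝔪ⁿ → B/𝔪ⁿ` is flat (local criterion of flatness, helper8).
* `main18828`.
-/

set_option autoImplicit false
set_option maxHeartbeats 1600000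
set_option linter.style.haveILetI false
universe u

open CategoryTheory CategoryTheory.Limits MonoidalCategory CartesianMonoidalCategory MonObj
  AlgebraicGeometry IsLocalRing TensorProduct

namespace Groth.Agent.Lib.Helper29.OpenImmCompl

section ring

theorem flat_quot_of_bij {A B : Type u} [CommRing A] [CommRing B] [Algebra A B] (I : Ideal A)
    (h1 : ∀ a : A, algebraMap A B a ∈ I.map (algebraMap A B) → a ∈ I)
    (h2 : ∀ b : B, ∃ a : A, algebraMap A B a - b ∈ I.map (algebraMap A B)) :
    Module.Flat (A ⧸ I) ((A ⧸ I) ⊗[A] B) := by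
  have hIB : ∀ b : B, b ∈ (I • (⊤ : Submodule A B)) ↔ b ∈ I.map (algebraMap A B) := by
    intro b
    rw [Ideal.smul_top_eq_map]
    exact Iff.rfl
  obtain ⟨f, hf⟩ : ∃ f : A →ₗ[A] B ⧸ (I • (⊤ : Submodule A B)),
      ∀ a, f a = Submodule.Quotient.mk (algebraMap A B a) :=
    ⟨(I • (⊤ : Submodule A B)).mkQ ∘ₗ (Algebra.linearMap A B), fun a => rfl⟩
  have hker : LinearMap.ker f = I := by
    ext a
    rw [LinearMap.mem_ker, hf, Submodule.Quotient.mk_eq_zero, hIB]
    exact ⟨h1 a, fun ha => Ideal.mem_map_of_mem _ ha⟩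
  have hsurj : Function.Surjective f := by
    intro y
    obtain ⟨b, rfl⟩ := Submodule.Quotient.mk_surjective _ y
    obtain ⟨a, hab⟩ := h2 b
    refine ⟨a, ?_⟩
    rw [hf, Submodule.Quotient.eq, hIB]
    exact hab
  have hms : Function.Surjective (algebraMap A (A ⧸ I)) := Ideal.Quotient.mk_surjective
  let e₂ : (A ⧸ I) ≃ₗ[A] B ⧸ (I • (⊤ : Submodule A B)) :=
    (Submodule.quotEquivOfEq _ _ hker).symm ≪≫ₗ f.quotKerEquivOfSurjective hsurj
  let e₂' : (A ⧸ I) ≃ₗ[A ⧸ I] B ⧸ (I • (⊤ : Submodule A B)) :=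
    e₂.extendScalarsOfSurjective hms
  let e₁ : (A ⧸ I) ⊗[A] B ≃ₗ[A ⧸ I] B ⧸ (I • (⊤ : Submodule A B)) :=
    (TensorProduct.quotTensorEquivQuotSMul B I).extendScalarsOfSurjective hms
  exact Module.Flat.of_linearEquiv (e₁ ≪≫ₗ e₂'.symm)

theorem sep_of_le_jacobson {A B : Type u} [CommRing A] [CommRing B] [Algebra A B]
    [IsNoetherianRing A] [IsNoetherianRing B] (I : Ideal A)
    (hI : I.map (algebraMap A B) ≤ Ideal.jacobson ⊥) (𝔞 : Ideal A) :
    ⨅ n : ℕ, I ^ n • (⊤ : Submodule A (𝔞 ⊗[A] B)) = ⊥ := by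
  rw [eq_bot_iff]
  intro x hx
  rw [Submodule.mem_iInf] at hx
  rw [Submodule.mem_bot]
  have : Module.Finite B (B ⊗[A] 𝔞) := Groth.Agent.Lib.Helper8.finite_tensor B 𝔞
  have hkrull := Ideal.iInf_pow_smul_eq_bot_of_le_jacobson (M := B ⊗[A] 𝔞)
    (I.map (algebraMap A B)) hI
  have hmem : (TensorProduct.comm A 𝔞 B) x ∈
      ⨅ i : ℕ, (I.map (algebraMap A B)) ^ i • (⊤ : Submodule B (B ⊗[A] 𝔞)) := by
    rw [Submodule.mem_iInf]
    intro n
    refine Submodule.smul_induction_on (hx n) ?_ ?_
    · intro j hj t _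
      rw [map_smul, ← algebraMap_smul B j ((TensorProduct.comm A 𝔞 B) t)]
      refine Submodule.smul_mem_smul ?_ Submodule.mem_top
      rw [← Ideal.map_pow]
      exact Ideal.mem_map_of_mem _ hj
    · intro t1 t2 h1 h2
      rw [map_add]
      exact add_mem h1 h2
  rw [hkrull, Submodule.mem_bot] at hmem
  exact (TensorProduct.comm A 𝔞 B).injective (by rw [hmem, map_zero])

variable {A B : Type u} [CommRing A] [CommRing B] [IsLocalRing A] [IsLocalRing B]
  [IsNoetherianRing A] [IsNoetherianRing B] [Algebra A B]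

theorem map_max
    (ha : ∀ n : ℕ, Function.Surjective
      ((Ideal.Quotient.mk (maximalIdeal B ^ (n + 1))).comp (algebraMap A B)))
    (hb : ∀ (n : ℕ) (a : A),
      algebraMap A B a ∈ maximalIdeal B ^ (n + 1) ↔ a ∈ maximalIdeal A ^ (n + 1)) :
    (maximalIdeal A).map (algebraMap A B) = maximalIdeal B := by
  have hb0 : ∀ a : A, algebraMap A B a ∈ maximalIdeal B ↔ a ∈ maximalIdeal A := by
    intro a
    have := hb 0 a
    rwa [zero_add, pow_one, pow_one] at this
  apply le_antisymm
  · rw [Ideal.map_le_iff_le_comap]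
    intro a ha'
    exact (hb0 a).mpr ha'
  · apply Submodule.le_of_le_smul_of_le_jacobson_bot (I := maximalIdeal B)
      (IsNoetherian.noetherian _)
      (by rw [IsLocalRing.jacobson_eq_maximalIdeal ⊥ bot_ne_top])
    intro b hb'
    obtain ⟨a, hab⟩ := ha 1 (Ideal.Quotient.mk _ b)
    rw [RingHom.comp_apply, Ideal.Quotient.eq, pow_succ, pow_one] at hab
    have hc : algebraMap A B a - b ∈ maximalIdeal B := Ideal.mul_le_left hab
    have hφa : algebraMap A B a ∈ maximalIdeal B := by
      have := add_mem hc hb'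
      rwa [sub_add_cancel] at this
    have ha' : a ∈ maximalIdeal A := (hb0 a).mp hφa
    refine Submodule.mem_sup.mpr ⟨algebraMap A B a, Ideal.mem_map_of_mem _ ha',
      -(algebraMap A B a - b), ?_, by ring⟩
    rw [smul_eq_mul]
    exact neg_mem hab

theorem flat_of_graded_iso
    (ha : ∀ n : ℕ, Function.Surjective
      ((Ideal.Quotient.mk (maximalIdeal B ^ (n + 1))).comp (algebraMap A B)))
    (hb : ∀ (n : ℕ) (a : A),
      algebraMap A B a ∈ maximalIdeal B ^ (n + 1) ↔ a ∈ maximalIdeal A ^ (n + 1)) :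
    Module.Flat A B := by
  have hm := map_max ha hb
  refine Groth.Agent.Lib.Helper8.flat_of_forall_flat_quotient_pow (maximalIdeal A) B ?_ ?_
  · intro n hn
    obtain ⟨k, rfl⟩ : ∃ k, n = k + 1 := ⟨n - 1, by omega⟩
    apply flat_quot_of_bij
    · intro a h
      rw [Ideal.map_pow, hm] at h
      exact (hb k a).mp h
    · intro b
      obtain ⟨a, hab⟩ := ha k (Ideal.Quotient.mk _ b)
      rw [RingHom.comp_apply, Ideal.Quotient.eq] at hab
      exact ⟨a, by rw [Ideal.map_pow, hm]; exact hab⟩
  · intro 𝔞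
    exact sep_of_le_jacobson (maximalIdeal A)
      (by rw [hm, IsLocalRing.jacobson_eq_maximalIdeal ⊥ bot_ne_top]) 𝔞

end ring

theorem main18828 (k : Type u) [Field k]
    (H G : Over (Spec (CommRingCat.of k))) [GrpObj H] [GrpObj G]
    [LocallyOfFiniteType H.hom] [LocallyOfFiniteType G.hom] (f : H ⟶ G) [IsMonHom f] [Mono f.left]
    (pt : ↥(𝟙_ (Over (Spec (CommRingCat.of k)))).left)
    (h : ∀ n : ℕ,
      Function.Surjective ((Ideal.Quotient.mk (IsLocalRing.maximalIdeal
          ↑(H.left.presheaf.stalk (η[H].left.base pt)) ^ (n + 1))).comp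
        (f.left.stalkMap (η[H].left.base pt)).hom) ∧
      ∀ a : ↑(G.left.presheaf.stalk (f.left.base (η[H].left.base pt))),
        (f.left.stalkMap (η[H].left.base pt)).hom a ∈
            IsLocalRing.maximalIdeal ↑(H.left.presheaf.stalk (η[H].left.base pt)) ^ (n + 1) ↔
          a ∈ IsLocalRing.maximalIdeal ↑(G.left.presheaf.stalk (f.left.base (η[H].left.base pt))) ^ (n + 1)) :
    IsOpenImmersion f.left := by
  haveI : IsLocallyNoetherian (Spec (CommRingCat.of k)) := inferInstance
  haveI : IsLocallyNoetherian G.left := LocallyOfFiniteType.isLocallyNoetherian G.hom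
  haveI : IsLocallyNoetherian H.left := LocallyOfFiniteType.isLocallyNoetherian H.hom
  haveI : LocallyOfFiniteType f.left := by
    haveI : LocallyOfFiniteType (f.left ≫ G.hom) := by rw [Over.w f]; infer_instance
    exact locallyOfFiniteType_of_comp f.left G.hom
  haveI : LocallyOfFinitePresentation f.left := inferInstance
  haveI : Flat H.hom := Groth.Agent.Lib.Helper29.SmoothHom.flat_over_field H.hom
  haveI : LocallyOfFinitePresentation H.hom := inferInstance
  have hflat_e : (f.left.stalkMap (η[H].left.base pt)).hom.Flat := by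
    letI := (f.left.stalkMap (η[H].left.base pt)).hom.toAlgebra
    show Module.Flat _ _
    exact flat_of_graded_iso (fun n => (h n).1) (fun n a => (h n).2 a)
  have key := (Groth.Agent.Lib.Helper29.FibHomFlat.main5312 _ H G f).2
  have hmem : η[H].left.base pt ∈ {x : H.left | (f.left.stalkMap x).hom.Flat} := hflat_e
  rw [key] at hmem
  haveI : Subsingleton ↥(Spec (CommRingCat.of k)) :=
    inferInstanceAs (Subsingleton (PrimeSpectrum k))
  haveI : Flat f.left := by
    refine Flat.of_stalkMap f.left (fun x => ?_)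
    have hx : x ∈ {x : H.left | (f.left.stalkMap x).hom.Flat} := by
      rw [key]
      rw [Set.mem_preimage] at hmem ⊢
      convert hmem using 1
    exact hx
  exact IsOpenImmersion.of_flat_of_mono f.left

end Groth.Agent.Lib.Helper29.OpenImmCompl
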