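import Groth.Agent.Lib.Helper29.TorsorMisc
import Mathlib.AlgebraicGeometry.Morphisms.UniversallyOpen
import Mathlib.CategoryTheory.Monoidal.Cartesian.Grp

/-!
# Helper library (helper29): the maximal open over which a homomorphism has a fpqc-local property
-/

set_option autoImplicit false
set_option maxHeartbeats 1600000
universe u
open CategoryTheory CategoryTheory.Limits AlgebraicGeometry MonoidalCategory CartesianMonoidalCategory
  MorphismProperty MonObj

namespace Groth.Agent.Lib.Helper29.OpenSubgroup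

open Groth.Agent.Lib.Helper29.TorsorDesc Groth.Agent.Lib.Helper29.FpqcLocal
  Groth.Agent.Lib.Helper29.TorsorMisc

section MaxOpen

variable (P : MorphismProperty Scheme.{u})

theorem res [P.RespectsIso] {A B : Scheme.{u}} (k : A ⟶ B) (U : B.Opens) :
    P (k ∣_ U) ↔ P (pullback.snd k U.ι) :=
  iff_snd_of_isPullback P (isPullback_morphismRestrict k U).flip

theorem gen_snd_comp_iff [P.RespectsIso] {A X Y Y' T : Scheme.{u}} {a : A ⟶ X} {b : A ⟶ Y'}
    {f : X ⟶ Y} {g : Y' ⟶ Y} (sq : IsPullback a b f g) (h : T ⟶ Y') :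
    P (pullback.snd b h) ↔ P (pullback.snd f (h ≫ g)) :=
  iff_snd_of_isPullback P ((IsPullback.of_hasPullback b h).paste_horiz sq)

theorem restrict_preimage_of_isPullback [P.IsStableUnderBaseChange] {A X Y Y' : Scheme.{u}}
    {a : A ⟶ X} {b : A ⟶ Y'} {f : X ⟶ Y} {g : Y' ⟶ Y} (sq : IsPullback a b f g) (W : Y.Opens)
    (hW : P (f ∣_ W)) : P (b ∣_ g ⁻¹ᵁ W) := by
  rw [res P, gen_snd_comp_iff P sq]
  have e : (g ⁻¹ᵁ W).ι ≫ g = (g ∣_ W) ≫ W.ι := (morphismRestrict_ι g W).symm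
  rw [snd_congr P f e]
  exact snd_comp P f W.ι (g ∣_ W) ((res P f W).mp hW)

variable [P.IsStableUnderBaseChange] [IsZariskiLocalAtTarget P]
  [P.DescendsAlong (@Surjective ⊓ @Flat ⊓ @QuasiCompact : MorphismProperty Scheme.{u})]

theorem le_preimage_of_maximal {X Y Y' : Scheme.{u}} (f : X ⟶ Y) (g : Y' ⟶ Y) [Flat g]
    (hg : IsOpenMap g.base) (W : Y.Opens) (hmax : ∀ W₀ : Y.Opens, P (f ∣_ W₀) → W₀ ≤ W)
    (W₁ : Y'.Opens) (hW₁ : P (pullback.snd f (W₁.ι ≫ g))) : W₁ ≤ g ⁻¹ᵁ W := by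
  let W' : Y.Opens := ⟨g.base '' (W₁ : Set Y'), hg _ W₁.2⟩
  have hrange : Set.range (W₁.ι ≫ g) ⊆ Set.range W'.ι := by
    rintro _ ⟨x, rfl⟩
    rw [Scheme.Opens.range_ι]
    exact ⟨x.1, x.2, by rw [Scheme.Hom.comp_apply]; rfl⟩
  let g₁ : W₁.toScheme ⟶ W'.toScheme := IsOpenImmersion.lift W'.ι (W₁.ι ≫ g) hrange
  have hg₁ : g₁ ≫ W'.ι = W₁.ι ≫ g := IsOpenImmersion.lift_fac _ _ _
  have hfl : Flat g₁ := by
    have sq : IsPullback (𝟙 _) g₁ (g₁ ≫ W'.ι) W'.ι := isPullback_id_of_mono g₁ W'.ι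
    have hc : Flat (g₁ ≫ W'.ι) := by rw [hg₁]; infer_instance
    exact MorphismProperty.of_isPullback (P := @Flat) sq hc
  haveI hsurj : Surjective g₁ := by
    refine ⟨fun y => ?_⟩
    obtain ⟨x, hx, hxy⟩ := y.2
    refine ⟨⟨x, hx⟩, ?_⟩
    apply W'.ι.injective
    rw [← Scheme.Hom.comp_apply, hg₁, Scheme.Hom.comp_apply]
    exact hxy
  have hopen : IsOpenMap g₁ := by
    rw [W'.ι.isOpenEmbedding.isOpenMap_iff]
    have e : ⇑W'.ι ∘ ⇑g₁ = ⇑g ∘ ⇑W₁.ι := by
      ext x
      show W'.ι (g₁ x) = g (W₁.ι x)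
      rw [← Scheme.Hom.comp_apply, hg₁, Scheme.Hom.comp_apply]
    rw [e]
    exact IsOpenMap.comp hg W₁.ι.isOpenEmbedding.isOpenMap
  let 𝒰₀ : Scheme.Cover.{u} (Scheme.precoverage @Flat) W'.toScheme := g₁.cover hfl
  haveI : QuasiCompactCover 𝒰₀.toPreZeroHypercover :=
    QuasiCompactCover.of_isOpenMap (fun _ => hopen)
  let 𝒰 : Scheme.Cover.{u} (Scheme.propQCPrecoverage @Flat) W'.toScheme :=
    Scheme.Cover.ofQuasiCompactCover 𝒰₀
  have hPW' : P (pullback.snd f W'.ι) := by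
    refine of_propQCCover P (pullback.snd f W'.ι) 𝒰 (fun i => ?_)
    change P (pullback.snd (pullback.snd f W'.ι) g₁)
    rw [← snd_comp_iff P, snd_congr P f hg₁]
    exact hW₁
  have hle : W' ≤ W := hmax W' ((res P f W').mpr hPW')
  intro x hx
  exact hle ⟨x, hx, rfl⟩

theorem le_preimage_of_maximal_of_isPullback {A X Y Y' : Scheme.{u}} {a : A ⟶ X} {b : A ⟶ Y'}
    {f : X ⟶ Y} {g : Y' ⟶ Y} (sq : IsPullback a b f g) [Flat g] (hg : IsOpenMap g.base)
    (W : Y.Opens) (hmax : ∀ W₀ : Y.Opens, P (f ∣_ W₀) → W₀ ≤ W) (W₁ : Y'.Opens)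
    (hW₁ : P (b ∣_ W₁)) : W₁ ≤ g ⁻¹ᵁ W :=
  le_preimage_of_maximal P f g hg W hmax W₁
    ((gen_snd_comp_iff P sq W₁.ι).mp ((res P b W₁).mp hW₁))

end MaxOpen

section Shear

variable {C : Type*} [Category C] [CartesianMonoidalCategory C]

/-- `(a, k) ↦ (a, φ(a) k)` -/
noncomputable def shear {A K : C} [GrpObj K] (φ : A ⟶ K) : A ⊗ K ⟶ A ⊗ K :=
  lift (fst A K) ((fst A K ≫ φ) * snd A K)

theorem shear_fst {A K : C} [GrpObj K] (φ : A ⟶ K) : shear φ ≫ fst A K = fst A K := lift_fst _ _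

theorem shear_snd {A K : C} [GrpObj K] (φ : A ⟶ K) :
    shear φ ≫ snd A K = (fst A K ≫ φ) * snd A K := lift_snd _ _

theorem isIso_shear {A K : C} [GrpObj K] (φ : A ⟶ K) : IsIso (shear φ) := by
  refine ⟨⟨lift (fst A K) ((fst A K ≫ φ)⁻¹ * snd A K), ?_, ?_⟩⟩
  · have h3 : shear φ ≫ ((fst A K ≫ φ)⁻¹ * snd A K) = snd A K := by
      rw [MonObj.comp_mul, GrpObj.comp_inv, ← Category.assoc, shear_fst, shear_snd,
        _root_.inv_mul_cancel_left]
    rw [comp_lift, shear_fst, h3]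
    exact lift_fst_snd
  · have h1 : lift (fst A K) ((fst A K ≫ φ)⁻¹ * snd A K) ≫ fst A K = fst A K := lift_fst _ _
    have h2 : lift (fst A K) ((fst A K ≫ φ)⁻¹ * snd A K) ≫ snd A K =
        (fst A K ≫ φ)⁻¹ * snd A K := lift_snd _ _
    have h3 : lift (fst A K) ((fst A K ≫ φ)⁻¹ * snd A K) ≫ ((fst A K ≫ φ) * snd A K) =
        snd A K := by
      rw [MonObj.comp_mul, ← Category.assoc, h1, h2, _root_.mul_inv_cancel_left]
    unfold shear
    rw [comp_lift, h1, h3]
    exact lift_fst_snd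

theorem shear_comm {G H : C} [GrpObj G] [GrpObj H] (u : G ⟶ H) [IsMonHom u] :
    shear (𝟙 G) ≫ (G ◁ u) = (G ◁ u) ≫ shear u := by
  apply CartesianMonoidalCategory.hom_ext
  · have l : (shear (𝟙 G) ≫ (G ◁ u)) ≫ fst G H = fst G G := by
      rw [Category.assoc, whiskerLeft_fst, shear_fst]
    have r : ((G ◁ u) ≫ shear u) ≫ fst G H = fst G G := by
      rw [Category.assoc, shear_fst, whiskerLeft_fst]
    rw [l, r]
  · have l : (shear (𝟙 G) ≫ (G ◁ u)) ≫ snd G H = (fst G G ≫ u) * (snd G G ≫ u) := by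
      rw [Category.assoc, whiskerLeft_snd, ← Category.assoc, shear_snd, Category.comp_id,
        MonObj.mul_comp]
    have r : ((G ◁ u) ≫ shear u) ≫ snd G H = (fst G G ≫ u) * (snd G G ≫ u) := by
      rw [Category.assoc, shear_snd, MonObj.comp_mul, ← Category.assoc, whiskerLeft_fst,
        whiskerLeft_snd]
    rw [l, r]

end Shear

theorem main5389 (P : MorphismProperty Scheme.{u}) [P.IsStableUnderBaseChange] [IsZariskiLocalAtTarget P]
    [P.DescendsAlong (@Flat ⊓ @Surjective ⊓ @QuasiCompact)]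
    (S : Scheme.{u}) (G H : Over S) [GrpObj G] [GrpObj H] (u : G ⟶ H) [IsMonHom u] [Flat G.hom] [UniversallyOpen G.hom]
    (W : H.left.Opens) (hW : P (u.left ∣_ W)) (hmax : ∀ W' : H.left.Opens, P (u.left ∣_ W') → W' ≤ W) :
    letI V : G.left.Opens := u.left ⁻¹ᵁ W
    IsOpen (G.hom.base '' (V : Set G.left)) ∧
    (∀ g ∈ V, ∀ p : ↥(𝟙_ (Over S)).left, (𝟙_ (Over S)).hom.base p = G.hom.base g → η[G].left.base p ∈ V) ∧
    (∀ g ∈ V, ι[G].left.base g ∈ V) ∧
    (∀ z : ↥(G ⊗ G).left, (fst G G).left.base z ∈ V → (snd G G).left.base z ∈ V → μ[G].left.base z ∈ V) := by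
  let V : G.left.Opens := u.left ⁻¹ᵁ W
  haveI : P.DescendsAlong (@Surjective ⊓ @Flat ⊓ @QuasiCompact : MorphismProperty Scheme.{u}) :=
    MorphismProperty.DescendsAlong.of_le
      (Q := (@Flat ⊓ @Surjective ⊓ @QuasiCompact : MorphismProperty Scheme.{u}))
      (fun _ _ _ h => ⟨⟨h.1.2, h.1.1⟩, h.2⟩)
  let M : G ⊗ H ⟶ H := (fst G H ≫ u) * snd G H
  haveI hpr2_flat : Flat (snd G H).left := by
    show Flat (pullback.snd G.hom H.hom)
    infer_instance
  have hpr2_open : IsOpenMap (snd G H).left.base := by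
    haveI : UniversallyOpen (snd G H).left := by
      show UniversallyOpen (pullback.snd G.hom H.hom)
      infer_instance
    exact (snd G H).left.isOpenMap
  have sq1 : IsPullback (snd G G).left (G ◁ u).left u.left (snd G H).left :=
    ((isPullback_whiskerLeft_snd G u).map (Over.forget S)).flip
  let WF : (G ⊗ H).left.Opens := (snd G H).left ⁻¹ᵁ W
  have hPF : P ((G ◁ u).left ∣_ WF) := restrict_preimage_of_isPullback P sq1 W hW
  have hmaxF : ∀ W₀ : (G ⊗ H).left.Opens, P ((G ◁ u).left ∣_ W₀) → W₀ ≤ WF :=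
    fun W₀ h => le_preimage_of_maximal_of_isPullback P sq1 hpr2_open W hmax W₀ h
  haveI hτ : IsIso (shear u) := isIso_shear u
  haveI hσ : IsIso (shear (𝟙 G)) := isIso_shear (𝟙 G)
  haveI hτ' : IsIso (shear u).left := (inferInstance : IsIso ((Over.forget S).map (shear u)))
  haveI hσ' : IsIso (shear (𝟙 G)).left :=
    (inferInstance : IsIso ((Over.forget S).map (shear (𝟙 G))))
  have comm : (shear (𝟙 G)).left ≫ (G ◁ u).left = (G ◁ u).left ≫ (shear u).left :=
    congrArg (fun k => k.left) (shear_comm u)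
  have sq2 : IsPullback (shear (𝟙 G)).left (G ◁ u).left (G ◁ u).left (shear u).left :=
    IsPullback.of_horiz_isIso ⟨comm⟩
  have hτopen : IsOpenMap (shear u).left.base := (shear u).left.isOpenMap
  have hinv : WF ≤ (shear u).left ⁻¹ᵁ WF :=
    le_preimage_of_maximal_of_isPullback P sq2 hτopen WF hmaxF WF hPF
  have hK : ∀ z : (G ⊗ H).left, (snd G H).left z ∈ W → M.left z ∈ W := by
    intro z hz
    have h1 : (shear u).left z ∈ WF := hinv hz
    have e : (shear u).left ≫ (snd G H).left = M.left := congrArg (fun k => k.left) (shear_snd u)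
    have h2 : (snd G H).left ((shear u).left z) ∈ W := h1
    rw [← Scheme.Hom.comp_apply, e] at h2
    exact h2
  refine ⟨?_, ?_, ?_, ?_⟩
  · exact G.hom.isOpenMap _ V.2
  · intro g hg p hp
    let c₂ : G ⟶ G ⊗ H := lift ι[G] u
    have e1 : c₂ ≫ snd G H = u := lift_snd _ _
    have e2 : c₂ ≫ M = toUnit G ≫ η[G] ≫ u := by
      have h : c₂ ≫ M = (ι[G] ≫ u) * u := by
        show c₂ ≫ ((fst G H ≫ u) * snd G H) = _
        rw [MonObj.comp_mul, ← Category.assoc, lift_fst, lift_snd]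
      rw [h, GrpObj.inv_eq_inv, GrpObj.inv_comp, Category.id_comp, _root_.inv_mul_cancel,
        IsMonHom.one_hom u]
      rfl
    have e1' : c₂.left ≫ (snd G H).left = u.left := congrArg (fun k => k.left) e1
    have e2' : c₂.left ≫ M.left = G.hom ≫ η[G].left ≫ u.left := congrArg (fun k => k.left) e2
    have hz : (snd G H).left (c₂.left g) ∈ W := by
      rw [← Scheme.Hom.comp_apply, e1']
      exact hg
    have h3 : M.left (c₂.left g) ∈ W := hK _ hz
    have key2 : M.left (c₂.left g) = u.left (η[G].left (G.hom g)) := by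
      rw [← Scheme.Hom.comp_apply, e2']
      simp only [Scheme.Hom.comp_apply]
    rw [key2] at h3
    have hp' : p = G.hom g := hp
    show u.left (η[G].left p) ∈ W
    rw [hp']
    exact h3
  · intro g hg
    let c₃ : G ⟶ G ⊗ H := lift (ι[G] * ι[G]) u
    have e1 : c₃ ≫ snd G H = u := lift_snd _ _
    have e2 : c₃ ≫ M = ι[G] ≫ u := by
      have h : c₃ ≫ M = ((ι[G] * ι[G]) ≫ u) * u := by
        show c₃ ≫ ((fst G H ≫ u) * snd G H) = _
        rw [MonObj.comp_mul, ← Category.assoc, lift_fst, lift_snd]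
      rw [h, MonObj.mul_comp, GrpObj.inv_eq_inv, GrpObj.inv_comp, Category.id_comp,
        _root_.mul_assoc, _root_.inv_mul_cancel, _root_.mul_one]
    have e1' : c₃.left ≫ (snd G H).left = u.left := congrArg (fun k => k.left) e1
    have e2' : c₃.left ≫ M.left = ι[G].left ≫ u.left := congrArg (fun k => k.left) e2
    have hz : (snd G H).left (c₃.left g) ∈ W := by
      rw [← Scheme.Hom.comp_apply, e1']
      exact hg
    have h3 : M.left (c₃.left g) ∈ W := hK _ hz
    have key3 : M.left (c₃.left g) = u.left (ι[G].left g) := by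
      rw [← Scheme.Hom.comp_apply, e2']
      simp only [Scheme.Hom.comp_apply]
    rw [key3] at h3
    exact h3
  · intro z _ hz2
    have e1 : (G ◁ u) ≫ snd G H = snd G G ≫ u := whiskerLeft_snd G u
    have e2 : (G ◁ u) ≫ M = μ[G] ≫ u := by
      show (G ◁ u) ≫ ((fst G H ≫ u) * snd G H) = _
      rw [MonObj.comp_mul, ← Category.assoc, whiskerLeft_fst, whiskerLeft_snd, ← MonObj.mul_comp,
        ← MonObj.mul_eq_mul]
    have e1' : (G ◁ u).left ≫ (snd G H).left = (snd G G).left ≫ u.left :=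
      congrArg (fun k => k.left) e1
    have e2' : (G ◁ u).left ≫ M.left = μ[G].left ≫ u.left := congrArg (fun k => k.left) e2
    have hz : (snd G H).left ((G ◁ u).left z) ∈ W := by
      rw [← Scheme.Hom.comp_apply, e1', Scheme.Hom.comp_apply]
      exact hz2
    have h3 : M.left ((G ◁ u).left z) ∈ W := hK _ hz
    have key4 : M.left ((G ◁ u).left z) = u.left (μ[G].left z) := by
      rw [← Scheme.Hom.comp_apply, e2']
      simp only [Scheme.Hom.comp_apply]
    rw [key4] at h3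
    exact h3

end Groth.Agent.Lib.Helper29.OpenSubgroup
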