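import Groth.Agent.Lib.Helper11.OrbC
import Groth.Agent.Lib.Helper12.SchemeDimFT3
import Groth.Agent.Lib.Helper12.FibreDimConstr
import Groth.Prelude.Def_ChGrp

/-!
# The boundary of an orbit has smaller dimension (helper29)

Uses helper12's dimension function `tr` (transcendence degree of the residue field) on schemes of
finite type over a field.
-/

set_option autoImplicit false
set_option maxHeartbeats 1600000
set_option linter.style.haveILetI false
universe u

open CategoryTheory CategoryTheory.Limits MonoidalCategory CartesianMonoidalCategory MonObj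
  AlgebraicGeometry

namespace Groth.Agent.Lib.Helper29.OrbitDim

open Groth.Agent.Lib.Helper12 Groth.Agent.Lib.Helper12.SchemeDimFT

theorem exists_nat_eq {x : WithBot ℕ∞} {B : ℕ} (h1 : x ≤ (B : WithBot ℕ∞)) (h0 : 0 ≤ x) :
    ∃ n : ℕ, x = n := by
  induction x using WithBot.recBotCoe with
  | bot => exact absurd h0 (by simp)
  | coe y =>
    have hy : y ≤ (B : ℕ∞) := by exact_mod_cast h1
    obtain ⟨n, rfl⟩ := ENat.ne_top_iff_exists.mp (ne_top_of_le_ne_top (ENat.coe_ne_top B) hy)
    exact ⟨n, rfl⟩

theorem topologicalKrullDim_eq_bot_of_isEmpty (T : Type*) [TopologicalSpace T] [IsEmpty T] :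
    topologicalKrullDim T = ⊥ := by
  unfold topologicalKrullDim
  rw [Order.krullDim_eq_bot_iff]
  refine ⟨fun s => ?_⟩
  obtain ⟨t, -⟩ := s.isIrreducible.nonempty
  exact IsEmpty.false t

section

variable (k : Type u) [Field k] (X : Scheme.{u}) [X.Over (Spec (CommRingCat.of k))]
  [LocallyOfFiniteType (X ↘ Spec (CommRingCat.of k))]

theorem tr_bounded [QuasiCompact (X ↘ Spec (CommRingCat.of k))] :
    ∃ B : ℕ, ∀ z : X, tr k X z ≤ B := by
  haveI : Subsingleton ↥(Spec (CommRingCat.of k)) :=
    inferInstanceAs (Subsingleton (PrimeSpectrum k))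
  by_cases hX : Nonempty X
  · obtain ⟨x₀⟩ := hX
    obtain ⟨p, hp⟩ : ∃ p : X ⟶ Spec (CommRingCat.of k), p = X ↘ Spec (CommRingCat.of k) :=
      ⟨_, rfl⟩
    haveI : LocallyOfFiniteType p := hp ▸ inferInstance
    haveI : QuasiCompact p := hp ▸ inferInstance
    obtain ⟨n, hn⟩ := Groth.Agent.Lib.Helper12.FibreDimConstr.exists_dim_fiber_le_pt p (p x₀)
    have hrange : Set.range (p.fiberι (p x₀)) = Set.univ := by
      rw [Scheme.Hom.range_fiberι]
      ext y
      simp only [Set.mem_preimage, Set.mem_singleton_iff, Set.mem_univ, iff_true]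
      exact Subsingleton.elim _ _
    have hsurj : Function.Surjective (p.fiberι (p x₀)) := Set.range_eq_univ.mp hrange
    have hdim : topologicalKrullDim (p.fiber (p x₀)) = topologicalKrullDim X :=
      IsHomeomorph.topologicalKrullDim_eq _
        ((p.fiberι (p x₀)).isEmbedding.toHomeomorphOfSurjective hsurj).isHomeomorph
    refine ⟨n, fun z => ?_⟩
    have h1 := trdeg_le_topologicalKrullDim k X z (tr k X z) (tr_spec k X z)
    rw [← hdim] at h1
    exact_mod_cast h1.trans hn
  · exact ⟨0, fun z => (hX ⟨z⟩).elim⟩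

theorem dim_boundary_lt [QuasiCompact (X ↘ Spec (CommRingCat.of k))] {A : Scheme.{u}}
    (f : A ⟶ X) [QuasiCompact f] (hne : (Set.range f).Nonempty)
    (hlc : IsLocallyClosed (Set.range f)) :
    topologicalKrullDim ↥(closure (Set.range f) \ Set.range f) <
      topologicalKrullDim ↥(Set.range f) := by
  obtain ⟨B, hB⟩ := tr_bounded k X
  have hZc : IsClosed (closure (Set.range f) \ Set.range f) := by
    have := hlc.isOpen_coborder.isClosed_compl
    rwa [coborder, compl_compl] at this
  have hOle : topologicalKrullDim ↥(Set.range f) ≤ (B : WithBot ℕ∞) :=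
    topologicalKrullDim_le_of_isLocallyClosed k X _ hlc _ (fun z _ => by exact_mod_cast hB z)
  have hOge : ∀ y ∈ Set.range f, ((tr k X y : ℕ) : WithBot ℕ∞) ≤
      topologicalKrullDim ↥(Set.range f) :=
    fun y hy => le_topologicalKrullDim_of_isLocallyClosed k X _ hlc y hy
  obtain ⟨y₀, hy₀⟩ := hne
  have h0 : 0 ≤ topologicalKrullDim ↥(Set.range f) :=
    le_trans (by exact_mod_cast Nat.zero_le (tr k X y₀)) (hOge y₀ hy₀)
  obtain ⟨n, hn⟩ := exists_nat_eq hOle h0
  have hkey : ∀ z ∈ closure (Set.range f) \ Set.range f, tr k X z + 1 ≤ n := by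
    intro z hz
    obtain ⟨a, ha⟩ :=
      Groth.Agent.Lib.Helper11.OrbA.exists_specializes_of_mem_closure_range_qc f z hz.1
    have hne' : f a ≠ z := fun h => hz.2 ⟨a, h⟩
    have hlt := tr_lt_of_specializes k X (f a) z ha hne'
    have hle : tr k X (f a) ≤ n := by
      have := hOge (f a) ⟨a, rfl⟩
      rw [hn] at this
      exact_mod_cast this
    omega
  by_cases hZ : (closure (Set.range f) \ Set.range f).Nonempty
  · obtain ⟨z₀, hz₀⟩ := hZ
    have hn1 : 1 ≤ n := le_trans (Nat.le_add_left 1 _) (hkey z₀ hz₀)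
    have hle : topologicalKrullDim ↥(closure (Set.range f) \ Set.range f) ≤
        ((n - 1 : ℕ) : WithBot ℕ∞) := by
      refine topologicalKrullDim_le_of_isLocallyClosed k X _ hZc.isLocallyClosed _ ?_
      intro z hz
      have := hkey z hz
      have h2 : tr k X z ≤ n - 1 := by omega
      exact_mod_cast h2
    rw [hn]
    refine lt_of_le_of_lt hle ?_
    have h3 : n - 1 < n := by omega
    exact_mod_cast h3
  · haveI : IsEmpty ↥(closure (Set.range f) \ Set.range f) := ⟨fun z => hZ ⟨z.1, z.2⟩⟩
    rw [topologicalKrullDim_eq_bot_of_isEmpty]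
    exact bot_lt_iff_ne_bot.mpr (fun h => by rw [h] at h0; simp at h0)

end

theorem main16131 (k : Type u) [Field k] [IsAlgClosed k]
    (G X : Over (Spec (CommRingCat.of k))) [GrpObj G] [Smooth G.hom] [QuasiCompact G.hom]
    [IsReduced X.left] [IsSeparated X.hom] [LocallyOfFiniteType X.hom] [QuasiCompact X.hom]
    (a : AlgGrp.Action G X) (x : 𝟙_ (Over (Spec (CommRingCat.of k))) ⟶ X) :
    topologicalKrullDim ↥(closure (Set.range (a.orbitMap x).left.base) \ Set.range (a.orbitMap x).left.base) <
      topologicalKrullDim ↥(Set.range (a.orbitMap x).left.base) := by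
  letI : X.left.Over (Spec (CommRingCat.of k)) := ⟨X.hom⟩
  haveI : LocallyOfFiniteType (X.left ↘ Spec (CommRingCat.of k)) :=
    inferInstanceAs (LocallyOfFiniteType X.hom)
  haveI : QuasiCompact (X.left ↘ Spec (CommRingCat.of k)) :=
    inferInstanceAs (QuasiCompact X.hom)
  haveI : IsLocallyNoetherian (Spec (CommRingCat.of k)) := inferInstance
  haveI : IsLocallyNoetherian X.left := LocallyOfFiniteType.isLocallyNoetherian X.hom
  haveI : CompactSpace G.left := QuasiCompact.compactSpace_of_compactSpace G.hom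
  haveI : QuasiCompact (a.orbitMap x).left := inferInstance
  have hlc := Groth.Agent.Lib.Helper11.OrbC.isLocallyClosed_range_orbitMap k G X a x
  have hne : (Set.range (a.orbitMap x).left).Nonempty :=
    ⟨_, (η[G]).left (IsLocalRing.closedPoint k : PrimeSpectrum k), rfl⟩
  exact dim_boundary_lt k X.left (a.orbitMap x).left hne hlc

end Groth.Agent.Lib.Helper29.OrbitDim
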