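import Groth.Agent.Lib.Helper29.OrbitDim
import Groth.Agent.Lib.Helper29.OrbitQuot
import Groth.Agent.Lib.Helper29.QuotTower
import Groth.Agent.Lib.Helper12.FlatRelDim
import Groth.Agent.Lib.Helper14.HomogDim

/-!
# `dim G = dim (G · x) + dim G_x` (helper29)

The orbit map onto the reduced orbit is flat (`OrbitQuot`), all its fibres have the local
dimension of the stabilizer at the unit (base change invariance of fibre dimension, S9358), and
helper12's `FlatRelDim.dim_opens_eq_add` gives the formula.
-/

set_option autoImplicit false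
set_option maxHeartbeats 1600000
set_option linter.style.haveILetI false
universe u

open CategoryTheory CategoryTheory.Limits MonoidalCategory CartesianMonoidalCategory MonObj
  AlgebraicGeometry

namespace Groth.Agent.Lib.Helper29.OrbitDim2

open Groth.Agent.Lib.Helper29.OrbitDim Groth.Agent.Lib.Helper29.OrbitAct
  Groth.Agent.Lib.Helper29.OrbitQuot Groth.Agent.Lib.Helper29.QuotTower
  Groth.Agent.Lib.Helper12

theorem topologicalKrullDim_nonneg (T : Type*) [TopologicalSpace T] [Nonempty T] :
    0 ≤ topologicalKrullDim T := by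
  obtain ⟨t⟩ := ‹Nonempty T›
  haveI : Nonempty (TopologicalSpace.IrreducibleCloseds T) :=
    ⟨⟨closure {t}, isIrreducible_singleton.closure, isClosed_closure⟩⟩
  exact Order.krullDim_nonneg

theorem dim_set_eq_of_eq_univ {T : Type*} [TopologicalSpace T] (S : Set T)
    (hS : S = Set.univ) : topologicalKrullDim ↥S = topologicalKrullDim T := by
  subst hS
  exact IsHomeomorph.topologicalKrullDim_eq _ (Homeomorph.Set.univ T).isHomeomorph

theorem dim_eq_of_iso {A B : Scheme.{u}} (e : A ≅ B) :
    topologicalKrullDim A = topologicalKrullDim B :=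
  IsHomeomorph.topologicalKrullDim_eq _ e.hom.homeomorph.isHomeomorph

theorem dim_pullback_eq {A B C C' : Scheme.{u}} (F : A ⟶ C') (X₀ : B ⟶ C') (f : A ⟶ C)
    (g : B ⟶ C) (m : C ⟶ C') [Mono m] (hF : f ≫ m = F) (hX : g ≫ m = X₀) :
    topologicalKrullDim ↥(pullback F X₀) = topologicalKrullDim ↥(pullback f g) := by
  subst hF
  subst hX
  have hP : IsPullback (pullback.fst (f ≫ m) (g ≫ m)) (pullback.snd (f ≫ m) (g ≫ m)) f g :=
    isPullback_of_comp_mono m (IsPullback.of_hasPullback (f ≫ m) (g ≫ m))
  exact dim_eq_of_iso hP.isoPullback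

theorem exists_dim_le (k : Type u) [Field k] {T : Scheme.{u}}
    (p : T ⟶ Spec (CommRingCat.of k)) [LocallyOfFiniteType p] [QuasiCompact p] :
    ∃ n : ℕ, topologicalKrullDim T ≤ n := by
  haveI : Subsingleton ↥(Spec (CommRingCat.of k)) :=
    inferInstanceAs (Subsingleton (PrimeSpectrum k))
  by_cases hT : Nonempty T
  · obtain ⟨x₀⟩ := hT
    obtain ⟨n, hn⟩ := Groth.Agent.Lib.Helper12.FibreDimConstr.exists_dim_fiber_le_pt p (p x₀)
    have hrange : Set.range (p.fiberι (p x₀)) = Set.univ := by
      rw [Scheme.Hom.range_fiberι]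
      ext y
      simp only [Set.mem_preimage, Set.mem_singleton_iff, Set.mem_univ, iff_true]
      exact Subsingleton.elim _ _
    have hsurj : Function.Surjective (p.fiberι (p x₀)) := Set.range_eq_univ.mp hrange
    have hdim : topologicalKrullDim (p.fiber (p x₀)) = topologicalKrullDim T :=
      IsHomeomorph.topologicalKrullDim_eq _
        ((p.fiberι (p x₀)).isEmbedding.toHomeomorphOfSurjective hsurj).isHomeomorph
    exact ⟨n, hdim ▸ hn⟩
  · haveI : IsEmpty T := not_nonempty_iff.mp hT
    exact ⟨0, by rw [topologicalKrullDim_eq_bot_of_isEmpty]; exact bot_le⟩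

theorem main16130 (k : Type u) [Field k] [IsAlgClosed k]
    (G X : Over (Spec (CommRingCat.of k))) [GrpObj G] [Smooth G.hom] [QuasiCompact G.hom]
    [IsReduced X.left] [IsSeparated X.hom] [LocallyOfFiniteType X.hom] [QuasiCompact X.hom]
    (a : AlgGrp.Action G X) (x : 𝟙_ (Over (Spec (CommRingCat.of k))) ⟶ X) :
    topologicalKrullDim ↥G.left =
      topologicalKrullDim ↥(Set.range (a.orbitMap x).left.base) +
        topologicalKrullDim ↥(Limits.pullback (a.orbitMap x).left x.left) := by
  haveI : LocallyOfFiniteType G.hom := inferInstance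
  haveI : Subsingleton ↥(Spec (CommRingCat.of k)) :=
    inferInstanceAs (Subsingleton (PrimeSpectrum k))
  haveI : Subsingleton ↥(𝟙_ (Over (Spec (CommRingCat.of k)))).left :=
    inferInstanceAs (Subsingleton (PrimeSpectrum k))
  obtain ⟨pt₀⟩ : Nonempty ↥(𝟙_ (Over (Spec (CommRingCat.of k)))).left :=
    ⟨(IsLocalRing.closedPoint k : PrimeSpectrum k)⟩
  -- the reduced orbit
  obtain ⟨O', i', himm, hred, hr⟩ := exists_orbit k G X a x
  haveI := himm
  haveI := hred
  obtain ⟨aO, x', hact, hx', hφ, hsurj⟩ := orbit_action k G X O' a x i' hr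
  haveI : Mono i'.left := inferInstance
  haveI : LocallyOfFiniteType O'.hom := by rw [← Over.w i']; infer_instance
  haveI : IsLocallyNoetherian (Spec (CommRingCat.of k)) := inferInstance
  haveI : IsLocallyNoetherian O'.left := LocallyOfFiniteType.isLocallyNoetherian O'.hom
  haveI hflat : Flat (aO.orbitMap x').left := flat_orbitMap_of_reduced k G O' aO x' hsurj
  haveI : LocallyOfFiniteType (aO.orbitMap x').left := by
    haveI : LocallyOfFiniteType ((aO.orbitMap x').left ≫ O'.hom) := by
      rw [Over.w (aO.orbitMap x')]; infer_instance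
    exact locallyOfFiniteType_of_comp (aO.orbitMap x').left O'.hom
  -- the stabilizer
  obtain ⟨Go, i, hGo⟩ : ∃ (Go : Over (Spec (CommRingCat.of k))) (i : Go ⟶ G),
      IsPullback i (toUnit Go) (aO.orbitMap x') x' := by
    refine ⟨pullback (aO.orbitMap x') x', pullback.fst (aO.orbitMap x') x', ?_⟩
    have h := IsPullback.of_hasPullback (aO.orbitMap x') x'
    rw [toUnit_unique (pullback.snd (aO.orbitMap x') x')
      (toUnit (pullback (aO.orbitMap x') x'))] at h
    exact h
  have hq := isPullback_of_stabilizer aO x' i hGo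
  have hGo' : IsPullback i.left (toUnit Go).left (aO.orbitMap x').left x'.left :=
    hGo.map (Over.forget _)
  have hη : η[G] ≫ aO.orbitMap x' = x' := by
    rw [aO.comp_orbitMap, MonObj.one_eq_one, aO.lift_one_act,
      toUnit_unique (toUnit (𝟙_ (Over (Spec (CommRingCat.of k))))) (𝟙 _), Category.id_comp]
  obtain ⟨e₀, he₀⟩ : ∃ e₀ : 𝟙_ (Over (Spec (CommRingCat.of k))) ⟶ Go, e₀ ≫ i = η[G] :=
    ⟨hGo.lift η[G] (𝟙 _) (by rw [hη, Category.id_comp]), hGo.lift_fst _ _ _⟩
  -- finite type
  haveI : LocallyOfFiniteType x'.left := by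
    haveI : LocallyOfFiniteType (x'.left ≫ O'.hom) := by
      rw [Over.w x']
      show LocallyOfFiniteType (𝟙 _)
      infer_instance
    exact locallyOfFiniteType_of_comp x'.left O'.hom
  haveI : LocallyOfFiniteType i.left :=
    MorphismProperty.of_isPullback (P := @LocallyOfFiniteType) hGo'.flip inferInstance
  haveI : LocallyOfFiniteType Go.hom := by rw [← Over.w i]; infer_instance
  haveI : QuasiCompact x'.left := by
    haveI : CompactSpace ↥(𝟙_ (Over (Spec (CommRingCat.of k)))).left :=
      inferInstanceAs (CompactSpace ↥(Spec (CommRingCat.of k)))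
    infer_instance
  haveI : QuasiCompact i.left :=
    MorphismProperty.of_isPullback (P := @QuasiCompact) hGo'.flip inferInstance
  haveI : QuasiCompact Go.hom := by rw [← Over.w i]; infer_instance
  -- base change invariance of the fibre dimension
  have hq' : IsPullback ((G ◁ i) ≫ μ[G]).left (fst G Go).left (aO.orbitMap x').left
      (aO.orbitMap x').left := (hq.map (Over.forget _)).flip
  have sqGo : IsPullback (snd G Go).left (fst G Go).left Go.hom G.hom := by
    simpa using ((Groth.Agent.Lib.Helper29.HomogSq.isPullback_fst_snd G Go).map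
      (Over.forget _)).flip
  have E12 : ∀ z : (G ⊗ Go).left,
      FlatMor.fibreDimAt (aO.orbitMap x').left (((G ◁ i) ≫ μ[G]).left z) =
        FlatMor.fibreDimAt Go.hom ((snd G Go).left z) := by
    intro z
    have e1 := (Groth.Agent.S9358.result (aO.orbitMap x').left (aO.orbitMap x').left
      ((G ◁ i) ≫ μ[G]).left (fst G Go).left hq' 0).1 z
    have e2 := (Groth.Agent.S9358.result Go.hom G.hom (snd G Go).left (fst G Go).left
      sqGo 0).1 z
    exact e1.symm.trans e2
  -- the two sections
  have hs1 : lift (𝟙 G) (toUnit G ≫ e₀) ≫ (G ◁ i) ≫ μ[G] = 𝟙 G := by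
    rw [comp_whiskerLeft_mul, lift_fst, lift_snd, Category.assoc, he₀, ← Hom.one_def,
      _root_.mul_one]
  have hs2 : lift (toUnit Go ≫ η[G]) (𝟙 Go) ≫ (G ◁ i) ≫ μ[G] = i := by
    rw [comp_whiskerLeft_mul, lift_fst, lift_snd, Category.id_comp, ← Hom.one_def,
      _root_.one_mul]
  have hD : ∀ g : G.left, FlatMor.fibreDimAt (aO.orbitMap x').left g =
      FlatMor.fibreDimAt Go.hom (e₀.left pt₀) := by
    intro g
    have h := E12 ((lift (𝟙 G) (toUnit G ≫ e₀)).left g)
    have h1 : ((G ◁ i) ≫ μ[G]).left ((lift (𝟙 G) (toUnit G ≫ e₀)).left g) = g := by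
      rw [← Scheme.Hom.comp_apply, ← Over.comp_left, hs1]
      rfl
    have h2 : (snd G Go).left ((lift (𝟙 G) (toUnit G ≫ e₀)).left g) = e₀.left pt₀ := by
      rw [← Scheme.Hom.comp_apply, ← Over.comp_left, lift_snd, Over.comp_left,
        Scheme.Hom.comp_apply]
      congr 1
      exact Subsingleton.elim _ _
    rw [h1, h2] at h
    exact h
  have hE : ∀ h : Go.left, FlatMor.fibreDimAt Go.hom h =
      FlatMor.fibreDimAt Go.hom (e₀.left pt₀) := by
    intro h
    have h0 := E12 ((lift (toUnit Go ≫ η[G]) (𝟙 Go)).left h)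
    have h1 : ((G ◁ i) ≫ μ[G]).left ((lift (toUnit Go ≫ η[G]) (𝟙 Go)).left h) = i.left h := by
      rw [← Scheme.Hom.comp_apply, ← Over.comp_left, hs2]
    have h2 : (snd G Go).left ((lift (toUnit Go ≫ η[G]) (𝟙 Go)).left h) = h := by
      rw [← Scheme.Hom.comp_apply, ← Over.comp_left, lift_snd]
      rfl
    rw [h1, h2] at h0
    rw [← h0]
    exact hD (i.left h)
  -- the dimension of the stabilizer
  haveI : Nonempty ↥Go.left := ⟨e₀.left pt₀⟩
  have hdimGo : topologicalKrullDim ↥Go.left = FlatMor.fibreDimAt Go.hom (e₀.left pt₀) := by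
    rw [Groth.Agent.Lib.Helper9.topologicalKrullDim_eq_iSup_localDim]
    have hconst : ∀ h : Go.left, FlatMor.localDim ↥Go.left h =
        FlatMor.fibreDimAt Go.hom (e₀.left pt₀) := by
      intro h
      rw [← Groth.Agent.Lib.Helper14.HomogDim.fibreDimAt_eq_localDim_of_subsingleton Go.hom h]
      exact hE h
    simp_rw [hconst]
    exact ciSup_const
  obtain ⟨n, hn⟩ := exists_dim_le k Go.hom
  obtain ⟨d, hd⟩ := exists_nat_eq hn (topologicalKrullDim_nonneg ↥Go.left)
  have hδ : FlatMor.fibreDimAt Go.hom (e₀.left pt₀) = (d : WithBot ℕ∞) := by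
    rw [← hdimGo, hd]
  -- the dimension formula for the flat orbit map
  have hmain := FlatRelDim.dim_opens_eq_add (aO.orbitMap x').left d
    (fun g => (hD g).trans hδ) ⊤
  have hS1 : topologicalKrullDim ↥(((⊤ : G.left.Opens) : Set G.left)) =
      topologicalKrullDim ↥G.left := dim_set_eq_of_eq_univ _ rfl
  have hS2 : topologicalKrullDim
      ↥((aO.orbitMap x').left.base '' ((⊤ : G.left.Opens) : Set G.left)) =
      topologicalKrullDim ↥O'.left := by
    apply dim_set_eq_of_eq_univ
    ext y
    constructor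
    · intro _
      trivial
    · intro _
      obtain ⟨g, hg⟩ := hsurj y
      exact ⟨g, trivial, hg⟩
  rw [hS1, hS2] at hmain
  -- the orbit and the stabilizer in `X`
  have hO : topologicalKrullDim ↥O'.left =
      topologicalKrullDim ↥(Set.range (a.orbitMap x).left.base) := by
    have h1 : Set.range (a.orbitMap x).left.base = Set.range i'.left := hr.symm
    rw [h1]
    exact IsHomeomorph.topologicalKrullDim_eq _ i'.left.isEmbedding.toHomeomorph.isHomeomorph
  have hP : topologicalKrullDim ↥(Limits.pullback (a.orbitMap x).left x.left) =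
      topologicalKrullDim ↥Go.left := by
    have hF : (aO.orbitMap x').left ≫ i'.left = (a.orbitMap x).left := by
      rw [← Over.comp_left, hφ]
    have hX : x'.left ≫ i'.left = x.left := by rw [← Over.comp_left, hx']
    rw [dim_pullback_eq (a.orbitMap x).left x.left (aO.orbitMap x').left x'.left i'.left hF hX]
    exact (dim_eq_of_iso hGo'.isoPullback).symm
  rw [hP, ← hO, hmain, hd]

end Groth.Agent.Lib.Helper29.OrbitDim2
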