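import Groth.Agent.Lib.Helper29.OrbitDim2
import Groth.Agent.Lib.Helper12.Chevalley

/-!
# Semicontinuity of the orbit dimension (helper29)

`dim G · x = dim G - dim G_x`, the stabilizer `G_x` is the fibre through `(e, x)` of the graph
`(g, y) ↦ (g y, y)` of the action, and Chevalley's theorem (helper12) says that the fibre
dimension is upper semicontinuous on the source.
-/

set_option autoImplicit false
set_option maxHeartbeats 1600000
set_option linter.style.haveILetI false
universe u

open CategoryTheory CategoryTheory.Limits MonoidalCategory CartesianMonoidalCategory MonObj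
  AlgebraicGeometry

namespace Groth.Agent.Lib.Helper29.OrbitSemi

open Groth.Agent.Lib.Helper29.OrbitDim Groth.Agent.Lib.Helper29.OrbitAct
  Groth.Agent.Lib.Helper29.OrbitQuot Groth.Agent.Lib.Helper29.QuotTower
  Groth.Agent.Lib.Helper29.OrbitDim2
  Groth.Agent.Lib.Helper12 Groth.Agent.Lib.Helper12.SchemeDimFT

/-- the stabilizer of `x` is the fibre over `(x, x)` of the graph `(g, y) ↦ (g y, y)`. -/
theorem isPullback_stab_graph {S : Scheme.{u}} {G X Go : Over S} [GrpObj G]
    (a : AlgGrp.Action G X) (x : 𝟙_ (Over S) ⟶ X) (i : Go ⟶ G)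
    (hGo : IsPullback i (toUnit Go) (a.orbitMap x) x) :
    IsPullback (lift i (toUnit Go ≫ x)) (toUnit Go) (lift a.act (snd G X)) (lift x x) := by
  have hw : lift i (toUnit Go ≫ x) ≫ lift a.act (snd G X) = toUnit Go ≫ lift x x := by
    rw [comp_lift, comp_lift, lift_snd, ← a.comp_orbitMap i x, hGo.w]
  have c1 : ∀ s : PullbackCone (lift a.act (snd G X)) (lift x x),
      s.fst ≫ a.act = s.snd ≫ x := by
    intro s
    have h := s.condition =≫ fst X X
    rwa [Category.assoc, Category.assoc, lift_fst, lift_fst] at h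
  have c2 : ∀ s : PullbackCone (lift a.act (snd G X)) (lift x x),
      s.fst ≫ snd G X = s.snd ≫ x := by
    intro s
    have h := s.condition =≫ snd X X
    rwa [Category.assoc, Category.assoc, lift_snd, lift_snd] at h
  have hc : ∀ s : PullbackCone (lift a.act (snd G X)) (lift x x),
      (s.fst ≫ fst G X) ≫ a.orbitMap x = s.snd ≫ x := by
    intro s
    have hs : s.snd = toUnit s.pt := toUnit_unique _ _
    rw [a.comp_orbitMap (s.fst ≫ fst G X) x, ← hs, ← c2 s, lift_comp_fst_snd, c1 s]
    exact (c2 s).symm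
  refine IsPullback.mk ⟨hw⟩ ⟨PullbackCone.IsLimit.mk _
    (fun s => hGo.lift (s.fst ≫ fst G X) s.snd (hc s)) ?_ ?_ ?_⟩
  · intro s
    apply CartesianMonoidalCategory.hom_ext
    · rw [Category.assoc, lift_fst, hGo.lift_fst]
    · rw [Category.assoc, lift_snd, ← Category.assoc, hGo.lift_snd, c2 s]
  · intro s
    exact toUnit_unique _ _
  · intro s m h1 h2
    apply hGo.hom_ext
    · rw [hGo.lift_fst]
      have h := h1 =≫ fst G X
      rwa [Category.assoc, lift_fst] at h
    · exact toUnit_unique _ _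

section

variable (k : Type u) [Field k]

/-- the dimension of the stabilizer of a rational point is its fibre dimension at the unit. -/
theorem dim_stabilizer_eq (G X : Over (Spec (CommRingCat.of k))) [GrpObj G]
    [LocallyOfFiniteType G.hom] [LocallyOfFiniteType X.hom]
    (a : AlgGrp.Action G X) (x : 𝟙_ (Over (Spec (CommRingCat.of k))) ⟶ X)
    (Go : Over (Spec (CommRingCat.of k))) (i : Go ⟶ G)
    (hGo : IsPullback i (toUnit Go) (a.orbitMap x) x)
    (e₀ : 𝟙_ (Over (Spec (CommRingCat.of k))) ⟶ Go) (he₀ : e₀ ≫ i = η[G])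
    (pt₀ : ↥(𝟙_ (Over (Spec (CommRingCat.of k)))).left) :
    topologicalKrullDim ↥Go.left = FlatMor.fibreDimAt Go.hom (e₀.left pt₀) := by
  haveI : Subsingleton ↥(Spec (CommRingCat.of k)) :=
    inferInstanceAs (Subsingleton (PrimeSpectrum k))
  haveI : Subsingleton ↥(𝟙_ (Over (Spec (CommRingCat.of k)))).left :=
    inferInstanceAs (Subsingleton (PrimeSpectrum k))
  haveI : LocallyOfFiniteType (a.orbitMap x).left := by
    haveI : LocallyOfFiniteType ((a.orbitMap x).left ≫ X.hom) := by
      rw [Over.w (a.orbitMap x)]; infer_instance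
    exact locallyOfFiniteType_of_comp (a.orbitMap x).left X.hom
  have hq := isPullback_of_stabilizer a x i hGo
  have hGo' : IsPullback i.left (toUnit Go).left (a.orbitMap x).left x.left :=
    hGo.map (Over.forget _)
  haveI : LocallyOfFiniteType x.left := by
    haveI : LocallyOfFiniteType (x.left ≫ X.hom) := by
      rw [Over.w x]
      show LocallyOfFiniteType (𝟙 _)
      infer_instance
    exact locallyOfFiniteType_of_comp x.left X.hom
  haveI : LocallyOfFiniteType i.left :=
    MorphismProperty.of_isPullback (P := @LocallyOfFiniteType) hGo'.flip inferInstance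
  haveI : LocallyOfFiniteType Go.hom := by rw [← Over.w i]; infer_instance
  have hq' : IsPullback ((G ◁ i) ≫ μ[G]).left (fst G Go).left (a.orbitMap x).left
      (a.orbitMap x).left := (hq.map (Over.forget _)).flip
  have sqGo : IsPullback (snd G Go).left (fst G Go).left Go.hom G.hom := by
    simpa using ((Groth.Agent.Lib.Helper29.HomogSq.isPullback_fst_snd G Go).map
      (Over.forget _)).flip
  have E12 : ∀ z : (G ⊗ Go).left,
      FlatMor.fibreDimAt (a.orbitMap x).left (((G ◁ i) ≫ μ[G]).left z) =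
        FlatMor.fibreDimAt Go.hom ((snd G Go).left z) := by
    intro z
    have e1 := (Groth.Agent.S9358.result (a.orbitMap x).left (a.orbitMap x).left
      ((G ◁ i) ≫ μ[G]).left (fst G Go).left hq' 0).1 z
    have e2 := (Groth.Agent.S9358.result Go.hom G.hom (snd G Go).left (fst G Go).left
      sqGo 0).1 z
    exact e1.symm.trans e2
  have hs1 : lift (𝟙 G) (toUnit G ≫ e₀) ≫ (G ◁ i) ≫ μ[G] = 𝟙 G := by
    rw [comp_whiskerLeft_mul, lift_fst, lift_snd, Category.assoc, he₀, ← Hom.one_def,
      _root_.mul_one]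
  have hs2 : lift (toUnit Go ≫ η[G]) (𝟙 Go) ≫ (G ◁ i) ≫ μ[G] = i := by
    rw [comp_whiskerLeft_mul, lift_fst, lift_snd, Category.id_comp, ← Hom.one_def,
      _root_.one_mul]
  have hD : ∀ g : G.left, FlatMor.fibreDimAt (a.orbitMap x).left g =
      FlatMor.fibreDimAt Go.hom (e₀.left pt₀) := by
    intro g
    have h := E12 ((lift (𝟙 G) (toUnit G ≫ e₀)).left g)
    have h1 : ((G ◁ i) ≫ μ[G]).left ((lift (𝟙 G) (toUnit G ≫ e₀)).left g) = g := by
      rw [← Scheme.Hom.comp_apply, ← Over.comp_left, hs1]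
      rfl
    have h2 : (snd G Go).left ((lift (𝟙 G) (toUnit G ≫ e₀)).left g) = e₀.left pt₀ := by
      rw [← Scheme.Hom.comp_apply, ← Over.comp_left, lift_snd, Over.comp_left,
        Scheme.Hom.comp_apply]
      congr 1
      exact Subsingleton.elim _ _
    rw [h1, h2] at h
    exact h
  have hE : ∀ h : Go.left, FlatMor.fibreDimAt Go.hom h =
      FlatMor.fibreDimAt Go.hom (e₀.left pt₀) := by
    intro h
    have h0 := E12 ((lift (toUnit Go ≫ η[G]) (𝟙 Go)).left h)
    have h1 : ((G ◁ i) ≫ μ[G]).left ((lift (toUnit Go ≫ η[G]) (𝟙 Go)).left h) = i.left h := by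
      rw [← Scheme.Hom.comp_apply, ← Over.comp_left, hs2]
    have h2 : (snd G Go).left ((lift (toUnit Go ≫ η[G]) (𝟙 Go)).left h) = h := by
      rw [← Scheme.Hom.comp_apply, ← Over.comp_left, lift_snd]
      rfl
    rw [h1, h2] at h0
    rw [← h0]
    exact hD (i.left h)
  haveI : Nonempty ↥Go.left := ⟨e₀.left pt₀⟩
  rw [Groth.Agent.Lib.Helper9.topologicalKrullDim_eq_iSup_localDim]
  have hconst : ∀ h : Go.left, FlatMor.localDim ↥Go.left h =
      FlatMor.fibreDimAt Go.hom (e₀.left pt₀) := by
    intro h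
    rw [← Groth.Agent.Lib.Helper14.HomogDim.fibreDimAt_eq_localDim_of_subsingleton Go.hom h]
    exact hE h
  simp_rw [hconst]
  exact ciSup_const

end

/-- a locally closed image and its closure have the same dimension. -/
theorem dim_closure_range_eq (k : Type u) [Field k] (X : Scheme.{u})
    [X.Over (Spec (CommRingCat.of k))] [LocallyOfFiniteType (X ↘ Spec (CommRingCat.of k))]
    {A : Scheme.{u}} (f : A ⟶ X) [QuasiCompact f]
    (hlc : IsLocallyClosed (Set.range f)) :
    topologicalKrullDim ↥(closure (Set.range f)) = topologicalKrullDim ↥(Set.range f) := by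
  apply le_antisymm
  · refine topologicalKrullDim_le_of_isLocallyClosed k X _ isClosed_closure.isLocallyClosed _ ?_
    intro z hz
    obtain ⟨a, ha⟩ :=
      Groth.Agent.Lib.Helper11.OrbA.exists_specializes_of_mem_closure_range_qc f z hz
    have h1 := tr_le_of_specializes k X (f a) z ha
    have h2 := le_topologicalKrullDim_of_isLocallyClosed k X _ hlc (f a) ⟨a, rfl⟩
    exact le_trans (by exact_mod_cast h1) h2
  · exact (Topology.IsEmbedding.inclusion subset_closure).isInducing.topologicalKrullDim_le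

theorem main11244 (k : Type u) [Field k] [IsAlgClosed k]
    (G : Over (Spec (CommRingCat.of k))) [GrpObj G] [IsAffine G.left] [Smooth G.hom]
    (X : Over (Spec (CommRingCat.of k))) [IrreducibleSpace ↥X.left] [IsReduced X.left]
    [IsSeparated X.hom] [LocallyOfFiniteType X.hom] [QuasiCompact X.hom]
    (a : AlgGrp.Action G X) (r : ℕ) :
    ∃ Z : Set ↥X.left, IsClosed Z ∧
      ∀ x : 𝟙_ (Over (Spec (CommRingCat.of k))) ⟶ X,
        topologicalKrullDim ↥(closure (Set.range ⇑(a.orbitMap x).left.base)) ≤ (r : WithBot ℕ∞) ↔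
          Set.range ⇑x.left.base ⊆ Z := by
  classical
  obtain ⟨fG, hfG⟩ : ∃ fG : G.left ⟶ Spec (CommRingCat.of k), fG = G.hom := ⟨_, rfl⟩
  haveI : QuasiCompact fG := (quasiCompact_iff_compactSpace fG).mpr inferInstance
  haveI : QuasiCompact G.hom := hfG ▸ ‹QuasiCompact fG›
  haveI : LocallyOfFiniteType G.hom := inferInstance
  haveI : Subsingleton ↥(Spec (CommRingCat.of k)) :=
    inferInstanceAs (Subsingleton (PrimeSpectrum k))
  haveI : Subsingleton ↥(𝟙_ (Over (Spec (CommRingCat.of k)))).left :=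
    inferInstanceAs (Subsingleton (PrimeSpectrum k))
  obtain ⟨pt₀⟩ : Nonempty ↥(𝟙_ (Over (Spec (CommRingCat.of k)))).left :=
    ⟨(IsLocalRing.closedPoint k : PrimeSpectrum k)⟩
  letI : X.left.Over (Spec (CommRingCat.of k)) := ⟨X.hom⟩
  haveI : LocallyOfFiniteType (X.left ↘ Spec (CommRingCat.of k)) :=
    inferInstanceAs (LocallyOfFiniteType X.hom)
  haveI : QuasiCompact (X.left ↘ Spec (CommRingCat.of k)) :=
    inferInstanceAs (QuasiCompact X.hom)
  haveI : IsLocallyNoetherian (Spec (CommRingCat.of k)) := inferInstance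
  haveI : IsLocallyNoetherian X.left := LocallyOfFiniteType.isLocallyNoetherian X.hom
  haveI : CompactSpace G.left := QuasiCompact.compactSpace_of_compactSpace G.hom
  -- the dimension of `G`
  haveI : Nonempty ↥G.left := ⟨(η[G]).left pt₀⟩
  obtain ⟨nG, hnG⟩ := exists_dim_le k G.hom
  obtain ⟨dG, hdG⟩ := exists_nat_eq hnG (topologicalKrullDim_nonneg ↥G.left)
  -- the graph of the action
  obtain ⟨Φ, hΦ⟩ : ∃ Φ : G ⊗ X ⟶ X ⊗ X, Φ = lift a.act (snd G X) := ⟨_, rfl⟩
  obtain ⟨σ, hσ⟩ : ∃ σ : X ⟶ G ⊗ X, σ = lift (toUnit X ≫ η[G]) (𝟙 X) := ⟨_, rfl⟩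
  haveI : LocallyOfFiniteType (G ⊗ X).hom := by
    rw [Over.tensorObj_hom]; infer_instance
  haveI : LocallyOfFiniteType Φ.left := by
    haveI : LocallyOfFiniteType (Φ.left ≫ (X ⊗ X).hom) := by
      rw [Over.w Φ]; infer_instance
    exact locallyOfFiniteType_of_comp Φ.left (X ⊗ X).hom
  have key : ∀ x : 𝟙_ (Over (Spec (CommRingCat.of k))) ⟶ X, ∃ o s : ℕ,
      topologicalKrullDim ↥(closure (Set.range ⇑(a.orbitMap x).left.base)) =
        (o : WithBot ℕ∞) ∧
      FlatMor.fibreDimAt Φ.left (σ.left (x.left pt₀)) = (s : WithBot ℕ∞) ∧ dG = o + s := by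
    intro x
    haveI : QuasiCompact (a.orbitMap x).left := inferInstance
    have hlc := Groth.Agent.Lib.Helper11.OrbC.isLocallyClosed_range_orbitMap k G X a x
    -- the stabilizer
    obtain ⟨Go, i, hGo⟩ : ∃ (Go : Over (Spec (CommRingCat.of k))) (i : Go ⟶ G),
        IsPullback i (toUnit Go) (a.orbitMap x) x := by
      refine ⟨pullback (a.orbitMap x) x, pullback.fst (a.orbitMap x) x, ?_⟩
      have h := IsPullback.of_hasPullback (a.orbitMap x) x
      rw [toUnit_unique (pullback.snd (a.orbitMap x) x)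
        (toUnit (pullback (a.orbitMap x) x))] at h
      exact h
    have hGo' : IsPullback i.left (toUnit Go).left (a.orbitMap x).left x.left :=
      hGo.map (Over.forget _)
    have hη : η[G] ≫ a.orbitMap x = x := by
      rw [a.comp_orbitMap, MonObj.one_eq_one, a.lift_one_act,
        toUnit_unique (toUnit (𝟙_ (Over (Spec (CommRingCat.of k))))) (𝟙 _), Category.id_comp]
    obtain ⟨e₀, he₀⟩ : ∃ e₀ : 𝟙_ (Over (Spec (CommRingCat.of k))) ⟶ Go, e₀ ≫ i = η[G] :=
      ⟨hGo.lift η[G] (𝟙 _) (by rw [hη, Category.id_comp]), hGo.lift_fst _ _ _⟩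
    haveI : LocallyOfFiniteType x.left := by
      haveI : LocallyOfFiniteType (x.left ≫ X.hom) := by
        rw [Over.w x]
        show LocallyOfFiniteType (𝟙 _)
        infer_instance
      exact locallyOfFiniteType_of_comp x.left X.hom
    haveI : LocallyOfFiniteType i.left :=
      MorphismProperty.of_isPullback (P := @LocallyOfFiniteType) hGo'.flip inferInstance
    haveI : LocallyOfFiniteType Go.hom := by rw [← Over.w i]; infer_instance
    haveI : QuasiCompact x.left := by
      haveI : CompactSpace ↥(𝟙_ (Over (Spec (CommRingCat.of k)))).left :=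
        inferInstanceAs (CompactSpace ↥(Spec (CommRingCat.of k)))
      infer_instance
    haveI : QuasiCompact i.left :=
      MorphismProperty.of_isPullback (P := @QuasiCompact) hGo'.flip inferInstance
    haveI : QuasiCompact Go.hom := by rw [← Over.w i]; infer_instance
    haveI : Nonempty ↥Go.left := ⟨e₀.left pt₀⟩
    have hA := dim_stabilizer_eq k G X a x Go i hGo e₀ he₀ pt₀
    obtain ⟨n, hn⟩ := exists_dim_le k Go.hom
    obtain ⟨s, hs⟩ := exists_nat_eq hn (topologicalKrullDim_nonneg ↥Go.left)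
    -- base change of the fibre dimension
    have hsq' : IsPullback (lift i (toUnit Go ≫ x)).left (toUnit Go).left
        (lift a.act (snd G X)).left (lift x x).left :=
      (isPullback_stab_graph a x i hGo).map (Over.forget _)
    rw [← hΦ] at hsq'
    have hB := (Groth.Agent.S9358.result Φ.left (lift x x).left
      (lift i (toUnit Go ≫ x)).left (toUnit Go).left hsq' 0).1 (e₀.left pt₀)
    have hcomp : e₀ ≫ lift i (toUnit Go ≫ x) = x ≫ σ := by
      apply CartesianMonoidalCategory.hom_ext
      · rw [Category.assoc, lift_fst, he₀, hσ, Category.assoc, lift_fst, ← Category.assoc,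
          toUnit_unique (x ≫ toUnit X) (𝟙 _), Category.id_comp]
      · rw [Category.assoc, lift_snd, hσ, Category.assoc, lift_snd, Category.comp_id,
          ← Category.assoc, toUnit_unique (e₀ ≫ toUnit Go) (𝟙 _), Category.id_comp]
    have hpt : (lift i (toUnit Go ≫ x)).left (e₀.left pt₀) = σ.left (x.left pt₀) := by
      rw [← Scheme.Hom.comp_apply, ← Scheme.Hom.comp_apply, ← Over.comp_left, ← Over.comp_left,
        hcomp]
    have hBs : FlatMor.fibreDimAt Φ.left (σ.left (x.left pt₀)) = (s : WithBot ℕ∞) := by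
      have h1 : FlatMor.fibreDimAt Φ.left (σ.left (x.left pt₀)) =
          FlatMor.fibreDimAt Φ.left ((lift i (toUnit Go ≫ x)).left (e₀.left pt₀)) := by
        rw [hpt]
      exact h1.trans (hB.symm.trans (hA.symm.trans hs))
    -- the orbit
    have hform := main16130 k G X a x
    have hP : topologicalKrullDim ↥(Limits.pullback (a.orbitMap x).left x.left) =
        topologicalKrullDim ↥Go.left := (dim_eq_of_iso hGo'.isoPullback).symm
    have hcl := dim_closure_range_eq k X.left (a.orbitMap x).left hlc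
    obtain ⟨B, hB'⟩ := tr_bounded k X.left
    have hOle : topologicalKrullDim ↥(Set.range (a.orbitMap x).left) ≤ (B : WithBot ℕ∞) :=
      topologicalKrullDim_le_of_isLocallyClosed k X.left _ hlc _
        (fun z _ => by exact_mod_cast hB' z)
    haveI : Nonempty ↥(Set.range (a.orbitMap x).left) := ⟨⟨_, (η[G]).left pt₀, rfl⟩⟩
    obtain ⟨o, ho⟩ := exists_nat_eq hOle (topologicalKrullDim_nonneg _)
    refine ⟨o, s, hcl.trans ho, hBs, ?_⟩
    have hsum : (dG : WithBot ℕ∞) = (o : WithBot ℕ∞) + (s : WithBot ℕ∞) := by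
      rw [← hdG, ← ho, ← hs, ← hP]
      exact hform
    exact le_antisymm (by exact_mod_cast hsum.le) (by exact_mod_cast hsum.ge)
  by_cases hr : r + 1 ≤ dG
  · refine ⟨(σ.left ⁻¹' {p | FlatMor.fibreDimAt Φ.left p ≤
      ((dG - (r + 1) : ℕ) : WithBot ℕ∞)})ᶜ, ?_, ?_⟩
    · exact ((Groth.Agent.Lib.Helper12.Chevalley.isOpen_setOf_fibreDimAt_le Φ.left _).preimage
        σ.left.continuous).isClosed_compl
    · intro x
      obtain ⟨o, s, ho, hs, hsum⟩ := key x
      rw [ho]
      constructor
      · intro h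
        have h' : o ≤ r := by exact_mod_cast h
        rintro _ ⟨t, rfl⟩
        obtain rfl : t = pt₀ := Subsingleton.elim _ _
        intro hmem
        have h2 : FlatMor.fibreDimAt Φ.left (σ.left (x.left t)) ≤
            ((dG - (r + 1) : ℕ) : WithBot ℕ∞) := hmem
        rw [hs] at h2
        have h3 : s ≤ dG - (r + 1) := by exact_mod_cast h2
        omega
      · intro h
        by_contra hcon
        have hcon' : ¬ (o ≤ r) := fun h' => hcon (by exact_mod_cast h')
        have hmem : x.left pt₀ ∈ (σ.left ⁻¹' {p | FlatMor.fibreDimAt Φ.left p ≤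
            ((dG - (r + 1) : ℕ) : WithBot ℕ∞)})ᶜ := h ⟨pt₀, rfl⟩
        apply hmem
        show FlatMor.fibreDimAt Φ.left (σ.left (x.left pt₀)) ≤ _
        rw [hs]
        have h3 : s ≤ dG - (r + 1) := by omega
        exact_mod_cast h3
  · refine ⟨Set.univ, isClosed_univ, ?_⟩
    intro x
    obtain ⟨o, s, ho, hs, hsum⟩ := key x
    rw [ho]
    constructor
    · intro _
      exact Set.subset_univ _
    · intro _
      have h3 : o ≤ r := by omega
      exact_mod_cast h3

end Groth.Agent.Lib.Helper29.OrbitSemi
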