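import Mathlib
import Groth.Prelude.Def_AlgGrp
import Groth.Agent.Lib.Helper25.SmoothDescent
import Groth.Agent.Lib.Helper15.RedInd
import Groth.Agent.Lib.Helper11.OrbA
import Groth.Agent.Lib.Helper22.SmoothRed
import Groth.Agent.Lib.Helper28.GenFlatScheme
import Groth.Agent.Lib.Helper29.ExactSeq

/-!
# The reduced orbit of a rational point under a smooth group is smooth (helper29)

* `le_smoothLocus_iff`: an open lies in the smooth locus iff the restriction is smooth.
* `mem_smoothLocus_comp_iff`: for `π` smooth, `π p` is a smooth point of `q` iff `p` is a smooth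
  point of `π ≫ q` (uses helper25's fppf-local-on-the-source criterion).
* `orbit_smooth`: the orbit with reduced structure is smooth (generic flatness of the orbit map
  onto the orbit, descent of smoothness, homogeneity of the smooth locus).
-/

set_option autoImplicit false
set_option maxHeartbeats 1600000
set_option linter.style.haveILetI false
universe u

open CategoryTheory CategoryTheory.Limits MonoidalCategory CartesianMonoidalCategory MonObj
  AlgebraicGeometry

namespace Groth.Agent.Lib.Helper29.OrbitSmooth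

open Groth.Agent.Lib.Helper11.ActA Groth.Agent.Lib.Helper11.OrbA

section Locus

/-- an open lies in the smooth locus iff the restriction is smooth. -/
theorem le_smoothLocus_iff {X Y : Scheme.{u}} (g : X ⟶ Y) [LocallyOfFinitePresentation g]
    (U : X.Opens) : U ≤ g.smoothLocus ↔ Smooth (U.ι ≫ g) := by
  rw [← Scheme.Hom.smoothLocus_eq_top_iff, ← Scheme.Hom.preimage_smoothLocus_eq U.ι g]
  constructor
  · intro h
    rw [← top_le_iff]
    intro y _
    exact h y.2
  · intro h x hx
    have h1 : (⟨x, hx⟩ : U) ∈ U.ι ⁻¹ᵁ g.smoothLocus := by rw [h]; trivial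
    exact h1

/-- transfer of the smooth locus along a smooth morphism. -/
theorem mem_smoothLocus_comp_iff {P O S : Scheme.{u}} (π : P ⟶ O) (q : O ⟶ S) (r : P ⟶ S)
    (h : π ≫ q = r) [Smooth π] [LocallyOfFinitePresentation q] [LocallyOfFinitePresentation r]
    (p : P) : π p ∈ q.smoothLocus ↔ p ∈ r.smoothLocus := by
  subst h
  constructor
  · intro hp
    haveI hW : Smooth (q.smoothLocus.ι ≫ q) := (le_smoothLocus_iff q _).mp le_rfl
    haveI : Smooth (π ∣_ q.smoothLocus) :=
      IsZariskiLocalAtTarget.restrict (P := @Smooth) inferInstance q.smoothLocus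
    have hcomp : Smooth ((π ⁻¹ᵁ q.smoothLocus).ι ≫ π ≫ q) := by
      rw [← morphismRestrict_ι_assoc]
      infer_instance
    exact (le_smoothLocus_iff (π ≫ q) _).mpr hcomp hp
  · intro hp
    have hopen : IsOpen (π '' ((π ≫ q).smoothLocus : Set P)) :=
      π.isOpenMap _ (π ≫ q).smoothLocus.2
    obtain ⟨V₁, hV₁⟩ : ∃ V₁ : O.Opens, (V₁ : Set O) = π '' ((π ≫ q).smoothLocus : Set P) :=
      ⟨⟨_, hopen⟩, rfl⟩
    have hrange : Set.range ((π ≫ q).smoothLocus.ι ≫ π) ⊆ Set.range V₁.ι := by
      rintro _ ⟨x, rfl⟩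
      rw [Scheme.Opens.range_ι, hV₁]
      refine ⟨x.1, x.2, ?_⟩
      rw [Scheme.Hom.comp_apply]
      rfl
    obtain ⟨f, hfac⟩ : ∃ f : ((π ≫ q).smoothLocus : Scheme.{u}) ⟶ V₁,
        f ≫ V₁.ι = (π ≫ q).smoothLocus.ι ≫ π :=
      ⟨IsOpenImmersion.lift V₁.ι ((π ≫ q).smoothLocus.ι ≫ π) hrange,
        IsOpenImmersion.lift_fac _ _ _⟩
    have hsm : Smooth (V₁.ι ≫ q) := by
      apply Groth.Agent.Lib.Helper25.SmoothDescent.core_lfp
      intro y
      have hy2 : V₁.ι y ∈ (V₁ : Set O) := by
        rw [← Scheme.Opens.range_ι]; exact ⟨y, rfl⟩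
      rw [hV₁] at hy2
      obtain ⟨p₁, hp₁, hy⟩ := hy2
      refine ⟨_, f, ⟨p₁, hp₁⟩, ?_, ?_, ?_, ?_⟩
      · apply V₁.ι.isOpenEmbedding.injective
        have h3 := congrArg (fun ψ => ψ (⟨p₁, hp₁⟩ : (π ≫ q).smoothLocus)) hfac
        simp only [Scheme.Hom.comp_apply] at h3
        rw [h3]
        exact hy
      · exact MorphismProperty.of_postcomp (@Flat) (W' := @IsOpenImmersion) f V₁.ι
          inferInstance (by rw [hfac]; infer_instance)
      · exact MorphismProperty.of_postcomp (@LocallyOfFinitePresentation)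
          (W' := @IsOpenImmersion) f V₁.ι inferInstance (by rw [hfac]; infer_instance)
      · rw [← Category.assoc, hfac, Category.assoc]
        exact (le_smoothLocus_iff (π ≫ q) _).mp le_rfl
    have hmem : π p ∈ (V₁ : Set O) := by rw [hV₁]; exact ⟨p, hp, rfl⟩
    exact (le_smoothLocus_iff q V₁).mpr hsm hmem

end Locus

theorem orbit_smooth (k : Type u) [Field k]
    (G X O' : Over (Spec (CommRingCat.of k))) [GrpObj G] [Smooth G.hom] [QuasiCompact G.hom]
    [LocallyOfFiniteType X.hom] (a : AlgGrp.Action G X)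
    (x : 𝟙_ (Over (Spec (CommRingCat.of k))) ⟶ X)
    (i' : O' ⟶ X) [IsImmersion i'.left] [IsReduced O'.left]
    (hO : Set.range i'.left.base = Set.range (a.orbitMap x).left.base) : Smooth O'.hom := by
  have hO' : Set.range i'.left = Set.range (a.orbitMap x).left := hO
  haveI : Mono i'.left := inferInstance
  haveI : Mono i' := Over.mono_of_mono_left i'
  have hstab := stab_range_orbitMap a x
  haveI hsnd : Smooth (snd G O').left := by
    show Smooth (pullback.snd G.hom O'.hom)
    infer_instance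
  haveI : IsReduced (G ⊗ O').left :=
    Groth.Agent.Lib.Helper22.SmoothRed.isReduced_of_smooth (snd G O').left
  -- the action restricts to the orbit
  have hρ : Set.range ((G ◁ i') ≫ a.act).left ⊆ Set.range i'.left := by
    rintro _ ⟨z, rfl⟩
    rw [hO']
    have h1 : ((G ◁ i') ≫ a.act).left z = a.act.left ((G ◁ i').left z) := by
      rw [Over.comp_left, Scheme.Hom.comp_apply]
    rw [h1]
    apply hstab
    have h2 : (snd G X).left ((G ◁ i').left z) = i'.left ((snd G O').left z) := by
      have h3 := congrArg (fun m => m.left z) (whiskerLeft_snd G i')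
      simpa only [Over.comp_left, Scheme.Hom.comp_apply] using h3
    rw [h2, ← hO']
    exact ⟨_, rfl⟩
  obtain ⟨α₀, hα₀⟩ :=
    Groth.Agent.Lib.Helper15.RI.exists_lift_of_isReduced_of_range_subset_immersion
      ((G ◁ i') ≫ a.act).left i'.left hρ
  obtain ⟨αO, hα⟩ : ∃ αO : G ⊗ O' ⟶ O', αO ≫ i' = (G ◁ i') ≫ a.act := by
    refine ⟨Over.homMk α₀ ?_, ?_⟩
    · rw [← Over.w i', ← Category.assoc, hα₀]
      exact Over.w ((G ◁ i') ≫ a.act)
    · apply Over.OverMorphism.ext
      exact hα₀
  obtain ⟨aO, haO⟩ : ∃ aO : AlgGrp.Action G O', aO.act = αO :=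
    ⟨Groth.Agent.Lib.Helper29.ExactSeq.subAction a i' αO (by
      intro T g y
      rw [hα, lift_whiskerLeft_assoc]), rfl⟩
  -- the rational point lifts to the orbit
  haveI : IsReduced (𝟙_ (Over (Spec (CommRingCat.of k)))).left :=
    (inferInstance : IsReduced (Spec (CommRingCat.of k)))
  have h1 : η[G] ≫ a.orbitMap x = x := by
    have e0 : toUnit (𝟙_ (Over (Spec (CommRingCat.of k)))) = 𝟙 _ := toUnit_unique _ _
    have e1 : (η[G] : 𝟙_ _ ⟶ G) = (1 : 𝟙_ (Over (Spec (CommRingCat.of k))) ⟶ G) := by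
      rw [Hom.one_def, e0, Category.id_comp]
    rw [← actT_toUnit a _ x η[G], e0, Category.id_comp, e1, one_actT]
  have hxr : Set.range x.left ⊆ Set.range i'.left := by
    rw [hO']
    rintro _ ⟨s, rfl⟩
    refine ⟨(η[G]).left s, ?_⟩
    have h2 := congrArg (fun m => m.left s) h1
    simpa only [Over.comp_left, Scheme.Hom.comp_apply] using h2
  obtain ⟨x0, hx0⟩ :=
    Groth.Agent.Lib.Helper15.RI.exists_lift_of_isReduced_of_range_subset_immersion
      x.left i'.left hxr
  obtain ⟨x', hx'⟩ : ∃ x' : 𝟙_ (Over (Spec (CommRingCat.of k))) ⟶ O', x' ≫ i' = x := by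
    refine ⟨Over.homMk x0 ?_, ?_⟩
    · rw [← Over.w i', ← Category.assoc, hx0]
      exact Over.w x
    · apply Over.OverMorphism.ext
      exact hx0
  -- the orbit map to the orbit
  obtain ⟨φ, hφdef⟩ : ∃ φ : G ⟶ O', φ = aO.orbitMap x' := ⟨_, rfl⟩
  have hφ : φ ≫ i' = a.orbitMap x := by
    rw [hφdef]
    show (lift (𝟙 G) (toUnit G ≫ x') ≫ aO.act) ≫ i' = lift (𝟙 G) (toUnit G ≫ x) ≫ a.act
    rw [Category.assoc, haO, hα, lift_whiskerLeft_assoc, Category.assoc, hx']
  have hinj : Function.Injective i'.left := i'.left.isEmbedding.injective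
  have hφs : Function.Surjective φ.left := by
    intro o
    have hmem : i'.left o ∈ Set.range (a.orbitMap x).left := by rw [← hO']; exact ⟨o, rfl⟩
    obtain ⟨h, hh⟩ := hmem
    refine ⟨h, hinj ?_⟩
    have h2 := congrArg (fun m => m.left h) hφ
    simp only [Over.comp_left, Scheme.Hom.comp_apply] at h2
    exact h2.trans hh
  -- finiteness
  haveI : LocallyOfFiniteType O'.hom := by
    rw [← Over.w i']; infer_instance
  haveI : IsLocallyNoetherian O'.left := LocallyOfFiniteType.isLocallyNoetherian O'.hom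
  haveI : LocallyOfFinitePresentation O'.hom := inferInstance
  haveI : LocallyOfFinitePresentation (G ⊗ O').hom := by
    show LocallyOfFinitePresentation (pullback.fst G.hom O'.hom ≫ G.hom)
    infer_instance
  -- smoothness of the action map
  haveI hact : Smooth aO.act.left := by
    have e : aO.act = (shearX aO).hom ≫ snd G O' := (shearX_hom_snd aO).symm
    rw [e, Over.comp_left]
    haveI : IsIso (shearX aO).hom.left := (Over.forget _).map_isIso (shearX aO).hom
    infer_instance
  -- the smooth locus is stable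
  have hWstab : Stab aO (O'.hom.smoothLocus : Set O'.left) := by
    intro p hp
    have e1 : (snd G O').left ≫ O'.hom = (G ⊗ O').hom := Over.w (snd G O')
    have e2 : aO.act.left ≫ O'.hom = (G ⊗ O').hom := Over.w aO.act
    have hp1 := (mem_smoothLocus_comp_iff (snd G O').left O'.hom (G ⊗ O').hom e1 p).mp hp
    exact (mem_smoothLocus_comp_iff aO.act.left O'.hom (G ⊗ O').hom e2 p).mpr hp1
  -- generic flatness
  haveI : CompactSpace G.left := QuasiCompact.compactSpace_of_compactSpace G.hom
  haveI : LocallyOfFiniteType φ.left := by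
    haveI : LocallyOfFiniteType (φ.left ≫ O'.hom) := by
      rw [Over.w φ]; infer_instance
    exact locallyOfFiniteType_of_comp φ.left O'.hom
  haveI : QuasiCompact φ.left := inferInstance
  haveI : Surjective φ.left := ⟨hφs⟩
  obtain ⟨V, hVd, hVf, hVp⟩ := Groth.Agent.Lib.Helper28.GenFlat.generic_flat (f := φ.left)
  haveI := hVf
  haveI := hVp
  haveI : Surjective (φ.left ∣_ V) :=
    IsZariskiLocalAtTarget.restrict (P := @Surjective) inferInstance V
  have hVsm : Smooth (V.ι ≫ O'.hom) := by
    haveI : Smooth ((φ.left ∣_ V) ≫ (V.ι ≫ O'.hom)) := by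
      rw [morphismRestrict_ι_assoc, Over.w φ]
      infer_instance
    exact Groth.Agent.Lib.Helper25.SmoothDescent.smooth_of_comp (φ.left ∣_ V) (V.ι ≫ O'.hom)
  have hVW : V ≤ O'.hom.smoothLocus := (le_smoothLocus_iff O'.hom V).mpr hVsm
  -- conclusion
  haveI : Subsingleton ↥(𝟙_ (Over (Spec (CommRingCat.of k)))).left :=
    inferInstanceAs (Subsingleton (PrimeSpectrum k))
  obtain ⟨s₀⟩ : Nonempty ↥(𝟙_ (Over (Spec (CommRingCat.of k)))).left :=
    ⟨(IsLocalRing.closedPoint k : PrimeSpectrum k)⟩
  have hne : (V : Set O'.left).Nonempty := by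
    obtain ⟨y, hy⟩ := hVd.inter_open_nonempty Set.univ isOpen_univ ⟨x'.left s₀, trivial⟩
    exact ⟨y, hy.2⟩
  obtain ⟨v, hv⟩ := hne
  have hall : ∀ o : O'.left, o ∈ O'.hom.smoothLocus := by
    by_cases hx : x'.left s₀ ∈ O'.hom.smoothLocus
    · have hsub := range_orbitMap_subset aO hWstab x'
        (fun s => by rw [Subsingleton.elim s s₀]; exact hx)
      intro o
      obtain ⟨h, rfl⟩ := hφs o
      rw [hφdef]
      exact hsub ⟨h, rfl⟩
    · exfalso
      have hsub := range_orbitMap_subset aO hWstab.compl x'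
        (fun s => by rw [Subsingleton.elim s s₀]; exact hx)
      obtain ⟨h, hh⟩ := hφs v
      rw [hφdef] at hh
      exact hsub ⟨h, hh⟩ (hVW hv)
  rw [← Scheme.Hom.smoothLocus_eq_top_iff]
  exact top_le_iff.mp (fun o _ => hall o)

theorem main19523 (k : Type u) [Field k]
    (G X : Over (Spec (CommRingCat.of k))) [GrpObj G] [Smooth G.hom] [QuasiCompact G.hom]
    [LocallyOfFiniteType X.hom] [QuasiCompact X.hom] (a : AlgGrp.Action G X)
    (x : 𝟙_ (Over (Spec (CommRingCat.of k))) ⟶ X)
    (O : Scheme.{u}) (i : O ⟶ X.left) [IsImmersion i] [IsReduced O]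
    (hO : Set.range i.base = Set.range (a.orbitMap x).left.base) : Smooth (i ≫ X.hom) := by
  haveI : IsImmersion (Over.homMk (U := Over.mk (i ≫ X.hom)) (V := X) i rfl).left :=
    ‹IsImmersion i›
  haveI : IsReduced (Over.mk (i ≫ X.hom)).left := ‹IsReduced O›
  exact orbit_smooth k G X (Over.mk (i ≫ X.hom)) a x (Over.homMk i rfl) hO

end Groth.Agent.Lib.Helper29.OrbitSmooth
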