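import Groth.Agent.Lib.Helper29.OrbitSmooth
import Groth.Prelude.Def_ChGrp
import Groth.Prelude.Def_NonAbH2

/-!
# The reduced image of a homomorphism from a smooth group is smooth (helper29)

The image of `f : G ⟶ G'` is the orbit of the unit under `G` acting on `G'` by `g • x = f(g) x`.
-/

set_option autoImplicit false
set_option maxHeartbeats 1600000
universe u

open CategoryTheory CategoryTheory.Limits MonoidalCategory CartesianMonoidalCategory MonObj
  AlgebraicGeometry

namespace Groth.Agent.Lib.Helper29.OrbitSmooth2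

theorem main15604 (k : Type u) [Field k]
    (G G' : Over (Spec (CommRingCat.of k))) [GrpObj G] [GrpObj G'] [Smooth G.hom] [QuasiCompact G.hom]
    [LocallyOfFiniteType G'.hom] [QuasiCompact G'.hom] (f : G ⟶ G') [IsMonHom f]
    (H : Scheme.{u}) (i : H ⟶ G'.left) [IsClosedImmersion i] [IsReduced H]
    (hH : Set.range i.base = Set.range f.left.base) : Smooth (i ≫ G'.hom) := by
  have horb : ((NonAbH1.trivialAction G').restrict f).orbitMap η[G'] = f := by
    show lift (𝟙 G) (toUnit G ≫ η[G']) ≫ (f ▷ G') ≫ μ[G'] = f
    rw [lift_whiskerRight_assoc, Category.id_comp, ← Hom.mul_def, ← Hom.one_def, _root_.mul_one]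
  refine Groth.Agent.Lib.Helper29.OrbitSmooth.main19523 k G G'
    ((NonAbH1.trivialAction G').restrict f) η[G'] H i ?_
  rw [horb]
  exact hH

end Groth.Agent.Lib.Helper29.OrbitSmooth2
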