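import Mathlib

set_option autoImplicit false
universe u

namespace Groth.Agent.Lib.Helper29.PadicBinom

/-- numeric inequality -/
theorem num_ineq (p n s j : ℕ) (hp : 2 ≤ p) (hn : 1 ≤ n) (hs : s ≤ n) (hj : p ^ s ≤ j) :
    p ^ n ≤ p ^ (n - 1) * (p - 1) * (n - s) + j := by
  obtain ⟨q, rfl⟩ : ∃ q, p = q + 1 := ⟨p - 1, by omega⟩
  obtain ⟨n', rfl⟩ : ∃ n', n = n' + 1 := ⟨n - 1, by omega⟩
  simp only [Nat.add_sub_cancel]
  have hq : 1 ≤ q := by omega
  rcases Nat.lt_or_ge s (n' + 1) with h | h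
  · obtain ⟨d, hd⟩ : ∃ d, n' + 1 - s = d + 1 := ⟨n' - s, by omega⟩
    rw [hd, pow_succ]
    rcases Nat.eq_zero_or_pos d with hd0 | hdpos
    · have hsn : s = n' := by omega
      rw [hsn] at hj
      rw [hd0]
      calc (q + 1) ^ n' * (q + 1) = (q + 1) ^ n' * q * (0 + 1) + (q + 1) ^ n' := by ring
        _ ≤ (q + 1) ^ n' * q * (0 + 1) + j := Nat.add_le_add_left hj _
    · have h0 : q ≤ q * d := by
        calc q = q * 1 := (mul_one q).symm
          _ ≤ q * d := Nat.mul_le_mul_left q hdpos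
      have h1 : q + 1 ≤ q * (d + 1) := by rw [mul_add, mul_one]; omega
      calc (q + 1) ^ n' * (q + 1) ≤ (q + 1) ^ n' * (q * (d + 1)) := Nat.mul_le_mul_left _ h1
        _ = (q + 1) ^ n' * q * (d + 1) := by ring
        _ ≤ (q + 1) ^ n' * q * (d + 1) + j := Nat.le_add_right _ _
  · have hsn : s = n' + 1 := by omega
    rw [hsn] at hj
    exact le_trans hj (Nat.le_add_left _ _)

theorem dvd_choose_mul (R : Type u) [CommRing R] (p n : ℕ) (hp : p.Prime) (hn : 1 ≤ n) (lam : R)
    (hstar : lam ^ (p ^ (n - 1) * (p - 1)) ∣ (p : R)) (j : ℕ) (hj1 : 1 ≤ j) (hjN : j ≤ p ^ n) :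
    lam ^ (p ^ n) ∣ ((p ^ n).choose j : R) * lam ^ j := by
  have hj0 : j ≠ 0 := by omega
  obtain ⟨s, hs⟩ : ∃ s, s = j.factorization p := ⟨_, rfl⟩
  have hps : p ^ s ∣ j := by rw [hs]; exact Nat.ordProj_dvd j p
  have hpsle : p ^ s ≤ j := Nat.le_of_dvd (by omega) hps
  have hsn : s ≤ n := (Nat.pow_le_pow_iff_right hp.one_lt).mp (le_trans hpsle hjN)
  have hdvd : p ^ (n - s) ∣ (p ^ n).choose j := by
    have := Nat.ordProj_dvd ((p ^ n).choose j) p
    rwa [Nat.factorization_choose_prime_pow hp hjN hj0, ← hs] at this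
  have h1 : ((p : R)) ^ (n - s) ∣ ((p ^ n).choose j : R) := by
    have := Nat.cast_dvd_cast (α := R) hdvd
    rwa [Nat.cast_pow] at this
  have h2 : lam ^ (p ^ (n - 1) * (p - 1) * (n - s)) ∣ ((p : R)) ^ (n - s) := by
    rw [pow_mul]
    exact pow_dvd_pow_of_dvd hstar _
  have h3 : lam ^ (p ^ (n - 1) * (p - 1) * (n - s)) * lam ^ j ∣
      ((p ^ n).choose j : R) * lam ^ j :=
    mul_dvd_mul_right (h2.trans h1) _
  rw [← pow_add] at h3
  exact (pow_dvd_pow lam (num_ineq p n s j hp.two_le hn hsn hpsle)).trans h3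

theorem expand (B : Type u) [CommRing B] (L t : B) (N : ℕ) (c : ℕ → B)
    (hc : ∀ m, m < N → ((N.choose (m + 1) : ℕ) : B) * L ^ (m + 1) = L ^ N * c (m + 1)) :
    (1 + L * t) ^ N - 1 = L ^ N * ∑ m ∈ Finset.range N, c (m + 1) * t ^ (m + 1) := by
  rw [add_comm, add_pow, Finset.sum_range_succ', Finset.mul_sum]
  simp only [pow_zero, one_pow, mul_one, Nat.choose_zero_right, Nat.cast_one]
  rw [add_sub_cancel_right]
  refine Finset.sum_congr rfl fun m hm => ?_
  have := hc m (Finset.mem_range.mp hm)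
  calc (L * t) ^ (m + 1) * ((N.choose (m + 1) : ℕ) : B)
      = (((N.choose (m + 1) : ℕ) : B) * L ^ (m + 1)) * t ^ (m + 1) := by rw [mul_pow]; ring
    _ = L ^ N * (c (m + 1) * t ^ (m + 1)) := by rw [this]; ring

theorem main13158 (R : Type u) [CommRing R]
    [IsDomain R] [IsDiscreteValuationRing R] [CharZero R] (p n : ℕ) [Fact p.Prime] (hn : 1 ≤ n)
    (hp : (p : R) ∈ IsLocalRing.maximalIdeal R) (lam : R) (hlam : lam ≠ 0)
    (hstar : lam ^ (p ^ (n - 1) * (p - 1)) ∣ (p : R))
    (A : Type u) [CommRing A] [IsDomain A] [IsIntegrallyClosed A] [Algebra R A] [Module.FaithfullyFlat R A]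
    (x : Aˣ) :
    (algebraMap R A lam ^ p ^ n ∣ (x : A) ^ p ^ n - 1) ↔ (algebraMap R A lam ∣ (x : A) - 1) := by
  have hpr : p.Prime := Fact.out
  have hNpos : 1 ≤ p ^ n := Nat.one_le_pow _ _ hpr.pos
  have hex : ∀ j : ℕ, ∃ c : R, (1 ≤ j ∧ j ≤ p ^ n) →
      ((p ^ n).choose j : R) * lam ^ j = lam ^ (p ^ n) * c := by
    intro j
    by_cases hj : 1 ≤ j ∧ j ≤ p ^ n
    · obtain ⟨c, hc⟩ := dvd_choose_mul R p n hpr hn lam hstar j hj.1 hj.2
      exact ⟨c, fun _ => hc⟩
    · exact ⟨0, fun h => absurd h hj⟩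
  choose c hc using hex
  have hinj : Function.Injective (algebraMap R A) := FaithfulSMul.algebraMap_injective R A
  have hL : algebraMap R A lam ≠ 0 := fun h => hlam (hinj (by rw [h, map_zero]))
  have hcN : c (p ^ n) = 1 := by
    have h := hc (p ^ n) ⟨hNpos, le_refl _⟩
    rw [Nat.choose_self, Nat.cast_one, one_mul] at h
    have h' : lam ^ (p ^ n) * 1 = lam ^ (p ^ n) * c (p ^ n) := by rw [mul_one]; exact h
    exact (mul_left_cancel₀ (pow_ne_zero _ hlam) h').symm
  have hcA : ∀ m, m < p ^ n →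
      (((p ^ n).choose (m + 1) : ℕ) : A) * algebraMap R A lam ^ (m + 1) =
        algebraMap R A lam ^ (p ^ n) * algebraMap R A (c (m + 1)) := by
    intro m hm
    have := congrArg (algebraMap R A) (hc (m + 1) ⟨by omega, by omega⟩)
    simpa [map_mul, map_pow, map_natCast] using this
  constructor
  · -- forward: integrality
    rintro ⟨a, ha⟩
    obtain ⟨K, _, _, _⟩ : ∃ (K : Type u) (_ : Field K) (_ : Algebra A K), IsFractionRing A K :=
      ⟨FractionRing A, inferInstance, inferInstance, inferInstance⟩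
    have hιinj : Function.Injective (algebraMap A K) := IsFractionRing.injective A K
    have hιL : algebraMap A K (algebraMap R A lam) ≠ 0 := fun h => hL (hιinj (by rw [h, map_zero]))
    obtain ⟨y, hy⟩ : ∃ y : K, y = algebraMap A K ((x : A) - 1) / algebraMap A K (algebraMap R A lam) :=
      ⟨_, rfl⟩
    have hLy : algebraMap A K (algebraMap R A lam) * y = algebraMap A K ((x : A) - 1) := by
      rw [hy, mul_div_cancel₀ _ hιL]
    have hcK : ∀ m, m < p ^ n →
        (((p ^ n).choose (m + 1) : ℕ) : K) * algebraMap A K (algebraMap R A lam) ^ (m + 1) =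
          algebraMap A K (algebraMap R A lam) ^ (p ^ n) *
            algebraMap A K (algebraMap R A (c (m + 1))) := by
      intro m hm
      have := congrArg (algebraMap A K) (hcA m hm)
      simpa [map_mul, map_pow, map_natCast] using this
    have hexp := expand K (algebraMap A K (algebraMap R A lam)) y (p ^ n)
      (fun j => algebraMap A K (algebraMap R A (c j))) hcK
    have hx1 : 1 + algebraMap A K (algebraMap R A lam) * y = algebraMap A K (x : A) := by
      rw [hLy, map_sub, map_one]; ring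
    rw [hx1] at hexp
    have hx2 : algebraMap A K (x : A) ^ (p ^ n) - 1 =
        algebraMap A K (algebraMap R A lam) ^ (p ^ n) * algebraMap A K a := by
      have := congrArg (algebraMap A K) ha
      simpa [map_mul, map_pow, map_sub] using this
    rw [hx2] at hexp
    have hsum : algebraMap A K a =
        ∑ m ∈ Finset.range (p ^ n), algebraMap A K (algebraMap R A (c (m + 1))) * y ^ (m + 1) :=
      mul_left_cancel₀ (pow_ne_zero _ hιL) hexp
    -- the monic polynomial
    obtain ⟨Q, hQ⟩ : ∃ Q : Polynomial A, Q = ∑ m ∈ Finset.range (p ^ n),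
        Polynomial.monomial (m + 1) (algebraMap R A (c (m + 1))) - Polynomial.C a := ⟨_, rfl⟩
    have hQdeg : Q.natDegree ≤ p ^ n := by
      rw [hQ]
      refine (Polynomial.natDegree_sub_le _ _).trans (max_le ?_ ?_)
      · refine Polynomial.natDegree_sum_le_of_forall_le _ _ fun m hm => ?_
        exact (Polynomial.natDegree_monomial_le _).trans (by
          have := Finset.mem_range.mp hm; omega)
      · rw [Polynomial.natDegree_C]; exact Nat.zero_le _
    have hQcoeff : Q.coeff (p ^ n) = 1 := by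
      rw [hQ, Polynomial.coeff_sub, Polynomial.finsetSum_coeff, Polynomial.coeff_C,
        if_neg (by omega), sub_zero]
      rw [Finset.sum_eq_single_of_mem (p ^ n - 1) (Finset.mem_range.mpr (by omega))]
      · rw [Polynomial.coeff_monomial, if_pos (by omega), Nat.sub_add_cancel hNpos, hcN, map_one]
      · intro m hm hne
        rw [Polynomial.coeff_monomial, if_neg]
        have := Finset.mem_range.mp hm
        omega
    have hQmonic : Q.Monic := Polynomial.monic_of_natDegree_le_of_coeff_eq_one _ hQdeg hQcoeff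
    have hQeval : Polynomial.aeval y Q = 0 := by
      rw [hQ, map_sub, map_sum, Polynomial.aeval_C, hsum, sub_eq_zero]
      refine Finset.sum_congr rfl fun m _ => ?_
      rw [Polynomial.aeval_monomial]
    have hint : IsIntegral A y := ⟨Q, hQmonic, by rw [← Polynomial.aeval_def]; exact hQeval⟩
    obtain ⟨z, hz⟩ := IsIntegrallyClosed.algebraMap_eq_of_integral hint
    refine ⟨z, hιinj ?_⟩
    rw [← hLy, ← hz, map_mul]
  · -- backward: expansion
    rintro ⟨t, ht⟩
    have hx : (x : A) = 1 + algebraMap R A lam * t := by rw [← ht]; ring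
    rw [hx, expand A (algebraMap R A lam) t (p ^ n) (fun j => algebraMap R A (c j)) hcA]
    exact dvd_mul_right _ _

end Groth.Agent.Lib.Helper29.PadicBinom
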