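import Mathlib

/-!
# The resultant as a determinant of coefficients of partial quotients (helper29)
-/

set_option autoImplicit false
open PowerSeries

namespace Groth.Agent.Lib.Helper29.PartQuot

universe u
variable {R : Type u} [CommRing R]

/-- geometric series -/
noncomputable def geom (x : R) : R⟦X⟧ := PowerSeries.mk (fun m => x ^ m)

theorem coeff_geom (x : R) (m : ℕ) : coeff m (geom x) = x ^ m := coeff_mk _ _

theorem coeff_succ_one_add_mul (a : R) (φ : R⟦X⟧) (m : ℕ) :
    coeff (m + 1) ((1 + C a * X) * φ) = coeff (m + 1) φ + a * coeff m φ := by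
  rw [add_mul, one_mul, mul_assoc, map_add, coeff_C_mul, coeff_succ_X_mul]

theorem coeff_zero_one_add_mul (a : R) (φ : R⟦X⟧) :
    coeff 0 ((1 + C a * X) * φ) = coeff 0 φ := by
  rw [add_mul, one_mul, mul_assoc, map_add, coeff_C_mul, coeff_zero_X_mul, mul_zero, add_zero]

theorem one_add_mul_geom (a : R) : (1 + C a * X) * geom (-a) = 1 := by
  ext n
  cases n with
  | zero => rw [coeff_zero_one_add_mul, coeff_geom, pow_zero, coeff_zero_one]
  | succ m =>
    rw [coeff_succ_one_add_mul, coeff_geom, coeff_geom, coeff_one,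
      if_neg (show ¬ m + 1 = 0 by omega)]
    ring

/-- `∏ (1 + β_j t)` -/
noncomputable def bpoly (e : ℕ) (β : Fin e → R) : R⟦X⟧ := ∏ j : Fin e, (1 + C (β j) * X)

theorem coeff_bpoly_geom (x : R) : ∀ (e : ℕ) (β : Fin e → R) (m : ℕ), e ≤ m →
    coeff m (bpoly e β * geom x) = x ^ (m - e) * ∏ j : Fin e, (β j + x) := by
  intro e
  induction e with
  | zero =>
    intro β m _
    simp [bpoly, coeff_geom]
  | succ e ih =>
    intro β m hm
    obtain ⟨m', rfl⟩ : ∃ m', m = m' + 1 := ⟨m - 1, by omega⟩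
    have hb : bpoly (e + 1) β * geom x =
        (1 + C (β (Fin.last e)) * X) * (bpoly e (fun j => β j.castSucc) * geom x) := by
      show (∏ j : Fin (e + 1), (1 + C (β j) * X)) * geom x =
        (1 + C (β (Fin.last e)) * X) * ((∏ j : Fin e, (1 + C (β j.castSucc) * X)) * geom x)
      rw [Fin.prod_univ_castSucc]
      ring
    have ih1 : coeff (m' + 1) (bpoly e (fun j => β j.castSucc) * geom x) =
        x ^ (m' + 1 - e) * ∏ j : Fin e, (β j.castSucc + x) := ih _ _ (by omega)
    have ih2 : coeff m' (bpoly e (fun j => β j.castSucc) * geom x) =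
        x ^ (m' - e) * ∏ j : Fin e, (β j.castSucc + x) := ih _ _ (by omega)
    have h1 : m' + 1 - e = (m' - e) + 1 := by omega
    have h2 : m' + 1 - (e + 1) = m' - e := by omega
    rw [hb, coeff_succ_one_add_mul, ih1, ih2, Fin.prod_univ_castSucc, h1, h2, pow_succ]
    ring

/-- the partial products of geometric series -/
noncomputable def G (d : ℕ) (α : Fin d → R) (i : Fin d) : R⟦X⟧ :=
  ∏ l : Fin d, if l ≤ i then geom (-α l) else 1

theorem G_zero (d : ℕ) (α : Fin (d + 1) → R) : G (d + 1) α 0 = geom (-α 0) := by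
  rw [G, Fin.prod_univ_succ, if_pos le_rfl, Finset.prod_eq_one, mul_one]
  intro l _
  rw [if_neg]
  exact not_le.2 (Fin.succ_pos l)

theorem G_succ (d : ℕ) (α : Fin (d + 1) → R) (i : Fin d) :
    G (d + 1) α i.succ = geom (-α 0) * G d (fun l => α l.succ) i := by
  rw [G, G, Fin.prod_univ_succ, if_pos (Fin.zero_le _)]
  congr 1
  apply Finset.prod_congr rfl
  intro l _
  simp only [Fin.succ_le_succ_iff]

/-- the matrix of coefficients of partial quotients -/
noncomputable def Mat (e : ℕ) (β : Fin e → R) (d : ℕ) (α : Fin d → R) :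
    Matrix (Fin d) (Fin d) R :=
  Matrix.of fun i j : Fin d =>
    if (i : ℕ) ≤ e + (j : ℕ) then coeff (e + (j : ℕ) - (i : ℕ)) (bpoly e β * G d α i) else 0

theorem det_Mat (e : ℕ) (β : Fin e → R) : ∀ (d : ℕ) (α : Fin d → R),
    (Mat e β d α).det = ∏ i : Fin d, ∏ j : Fin e, (β j - α i) := by
  intro d
  induction d with
  | zero =>
    intro α
    simp
  | succ d ih =>
    intro α
    obtain ⟨x, hx⟩ : ∃ x, x = -α 0 := ⟨_, rfl⟩
    obtain ⟨ρ, hρ⟩ : ∃ ρ, ρ = ∏ j : Fin e, (β j - α 0) := ⟨_, rfl⟩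
    have hρ' : ∏ j : Fin e, (β j + x) = ρ := by
      rw [hρ, hx]
      apply Finset.prod_congr rfl
      intro j _
      ring
    -- first row
    have hrow : ∀ j : Fin (d + 1), Mat e β (d + 1) α 0 j = x ^ (j : ℕ) * ρ := by
      intro j
      show (if ((0 : Fin (d + 1)) : ℕ) ≤ e + (j : ℕ) then
        coeff (e + (j : ℕ) - ((0 : Fin (d + 1)) : ℕ)) (bpoly e β * G (d + 1) α 0) else 0) = _
      rw [Fin.val_zero, if_pos (Nat.zero_le _), Nat.sub_zero, G_zero, ← hx,
        coeff_bpoly_geom x e β (e + j) (Nat.le_add_right _ _), Nat.add_sub_cancel_left, hρ']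
    -- the column-reduced matrix
    obtain ⟨B, hB0, hBs⟩ : ∃ B : Matrix (Fin (d + 1)) (Fin (d + 1)) R,
        (∀ i, B i 0 = Mat e β (d + 1) α i 0) ∧
        (∀ i (j : Fin d), B i j.succ =
          Mat e β (d + 1) α i j.succ - x * Mat e β (d + 1) α i j.castSucc) :=
      ⟨Matrix.of fun i j => Fin.cases (Mat e β (d + 1) α i 0)
        (fun j' => Mat e β (d + 1) α i j'.succ - x * Mat e β (d + 1) α i j'.castSucc) j,
        fun i => rfl, fun i j => rfl⟩
    have hdet : (Mat e β (d + 1) α).det = B.det := by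
      apply Matrix.det_eq_of_forall_col_eq_smul_add_pred (fun _ => x)
      · intro i
        exact (hB0 i).symm
      · intro i j
        rw [hBs]
        ring
    have hB0j : ∀ j : Fin d, B 0 j.succ = 0 := by
      intro j
      rw [hBs, hrow, hrow, Fin.val_succ, Fin.val_castSucc]
      ring
    have hsub : B.submatrix Fin.succ Fin.succ = Mat e β d (fun l => α l.succ) := by
      ext i j
      rw [Matrix.submatrix_apply, hBs]
      show (if ((i.succ : Fin (d + 1)) : ℕ) ≤ e + ((j.succ : Fin (d + 1)) : ℕ) then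
            coeff (e + ((j.succ : Fin (d + 1)) : ℕ) - ((i.succ : Fin (d + 1)) : ℕ))
              (bpoly e β * G (d + 1) α i.succ) else 0) -
          x * (if ((i.succ : Fin (d + 1)) : ℕ) ≤ e + ((j.castSucc : Fin (d + 1)) : ℕ) then
            coeff (e + ((j.castSucc : Fin (d + 1)) : ℕ) - ((i.succ : Fin (d + 1)) : ℕ))
              (bpoly e β * G (d + 1) α i.succ) else 0) =
        (if (i : ℕ) ≤ e + (j : ℕ) then
          coeff (e + (j : ℕ) - (i : ℕ)) (bpoly e β * G d (fun l => α l.succ) i) else 0)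
      rw [Fin.val_succ, Fin.val_succ, Fin.val_castSucc]
      obtain ⟨ψ, hψ⟩ : ∃ ψ, ψ = bpoly e β * G (d + 1) α i.succ := ⟨_, rfl⟩
      have hφ : bpoly e β * G d (fun l => α l.succ) i = (1 + C (α 0) * X) * ψ := by
        rw [hψ, G_succ]
        have h1 : (1 + C (α 0) * X) *
            (bpoly e β * (geom (-α 0) * G d (fun l => α l.succ) i)) =
            ((1 + C (α 0) * X) * geom (-α 0)) * (bpoly e β * G d (fun l => α l.succ) i) := by
          ring
        rw [h1, one_add_mul_geom, one_mul]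
      rw [← hψ, hφ]
      by_cases h1 : (i : ℕ) + 1 ≤ e + (j : ℕ)
      · have e1 : e + ((j : ℕ) + 1) - ((i : ℕ) + 1) = (e + (j : ℕ) - ((i : ℕ) + 1)) + 1 := by
          omega
        have e2 : e + (j : ℕ) - (i : ℕ) = (e + (j : ℕ) - ((i : ℕ) + 1)) + 1 := by omega
        rw [if_pos (show (i : ℕ) + 1 ≤ e + ((j : ℕ) + 1) by omega), if_pos h1,
          if_pos (show (i : ℕ) ≤ e + (j : ℕ) by omega), e1, e2, coeff_succ_one_add_mul, hx]
        ring
      · by_cases h2 : (i : ℕ) = e + (j : ℕ)
        · have e1 : e + ((j : ℕ) + 1) - ((i : ℕ) + 1) = 0 := by omega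
          have e2 : e + (j : ℕ) - (i : ℕ) = 0 := by omega
          rw [if_pos (show (i : ℕ) + 1 ≤ e + ((j : ℕ) + 1) by omega), if_neg h1,
            if_pos (show (i : ℕ) ≤ e + (j : ℕ) by omega), e1, e2, coeff_zero_one_add_mul,
            mul_zero, sub_zero]
        · rw [if_neg (show ¬ (i : ℕ) + 1 ≤ e + ((j : ℕ) + 1) by omega), if_neg h1,
            if_neg (show ¬ (i : ℕ) ≤ e + (j : ℕ) by omega), mul_zero, sub_zero]
    have hsum : ∑ j : Fin d, (-1 : R) ^ ((j.succ : Fin (d + 1)) : ℕ) * B 0 j.succ *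
        (B.submatrix Fin.succ (Fin.succAbove j.succ)).det = 0 := by
      apply Finset.sum_eq_zero
      intro j _
      rw [hB0j, mul_zero, zero_mul]
    rw [hdet, Matrix.det_succ_row_zero, Fin.sum_univ_succ, hsum, add_zero, Fin.val_zero, pow_zero,
      one_mul, hB0, hrow, Fin.val_zero, pow_zero, one_mul, Fin.succAbove_zero, hsub, ih,
      Fin.prod_univ_succ, ← hρ]

theorem main14505 (R : Type u) [CommRing R] (d e : ℕ)
    (α : Fin d → R) (β : Fin e → R) :
    ∏ i : Fin d, ∏ j : Fin e, (β j - α i) =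
      (Matrix.of fun i j : Fin d =>
        if (i : ℕ) ≤ e + (j : ℕ) then
          PowerSeries.coeff (e + (j : ℕ) - (i : ℕ))
            ((∏ j : Fin e, (1 + PowerSeries.C (β j) * PowerSeries.X)) *
              ∏ l : Fin d, if l ≤ i then PowerSeries.mk (fun m => (-α l) ^ m) else 1)
        else 0).det :=
  (det_Mat e β d α).symm

end Groth.Agent.Lib.Helper29.PartQuot
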