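import Mathlib
import Groth.Prelude.Def_W4c5modbuncurvesppStab

set_option autoImplicit false

open Finset

namespace Groth.Agent.Lib.Helper29.PhiStabElem

universe u

variable {V E : Type u} [Fintype V] [Fintype E] [DecidableEq V] [DecidableEq E]

/-- adjacency inside a vertex set -/
def AdjIn (ends : E → V × V) (S : Finset V) (a b : V) : Prop :=
  ∃ e : E, (ends e = (a, b) ∨ ends e = (b, a)) ∧ a ∈ S ∧ b ∈ S

/-- the subgraph induced on `S` is connected -/
def ConnOn (ends : E → V × V) (S : Finset V) : Prop :=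
  S.Nonempty ∧ ∀ u ∈ S, ∀ v ∈ S, Relation.ReflTransGen (AdjIn ends S) u v

theorem adjIn_symm (ends : E → V × V) (S : Finset V) {a b : V} (h : AdjIn ends S a b) :
    AdjIn ends S b a := by
  obtain ⟨e, he, ha, hb⟩ := h
  exact ⟨e, he.symm, hb, ha⟩

theorem reachIn_symm (ends : E → V × V) (S : Finset V) {a b : V}
    (h : Relation.ReflTransGen (AdjIn ends S) a b) :
    Relation.ReflTransGen (AdjIn ends S) b a := by
  induction h with
  | refl => exact Relation.ReflTransGen.refl
  | tail _ hbc ih => exact Relation.ReflTransGen.head (adjIn_symm ends S hbc) ih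

theorem reachIn_mono (ends : E → V × V) {S S' : Finset V} (hSS : S ⊆ S') {a b : V}
    (h : Relation.ReflTransGen (AdjIn ends S) a b) :
    Relation.ReflTransGen (AdjIn ends S') a b := by
  induction h with
  | refl => exact Relation.ReflTransGen.refl
  | tail _ hbc ih =>
    obtain ⟨e, he, hb, hc⟩ := hbc
    exact Relation.ReflTransGen.tail ih ⟨e, he, hSS hb, hSS hc⟩

/-! ### bridge to the induced subtype graph -/

theorem connected_indEnds_of_connOn (ends : E → V × V) (S : Finset V) (h : ConnOn ends S) :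
    LabGraph.Connected (PhiStab.indEnds ends S) := by
  obtain ⟨⟨s, hs⟩, hreach⟩ := h
  show Nonempty {v // v ∈ S} ∧ ∀ a b : {v // v ∈ S},
    Relation.ReflTransGen (LabGraph.Adj (PhiStab.indEnds ends S)) a b
  refine ⟨⟨⟨s, hs⟩⟩, ?_⟩
  have key : ∀ (u : V) (hu : u ∈ S) (v : V), Relation.ReflTransGen (AdjIn ends S) u v →
      ∃ hv : v ∈ S, Relation.ReflTransGen (LabGraph.Adj (PhiStab.indEnds ends S))
        ⟨u, hu⟩ ⟨v, hv⟩ := by
    intro u hu v huv
    induction huv with
    | refl => exact ⟨hu, Relation.ReflTransGen.refl⟩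
    | @tail b c _ hbc ih =>
      obtain ⟨hb, ihb⟩ := ih
      obtain ⟨e, he, hb', hc⟩ := hbc
      refine ⟨hc, Relation.ReflTransGen.tail ihb ?_⟩
      have hmem : e ∈ PhiStab.inner ends S := by
        simp only [PhiStab.inner, Finset.mem_filter, Finset.mem_univ, true_and]
        rcases he with he | he
        · rw [he]; exact ⟨hb', hc⟩
        · rw [he]; exact ⟨hc, hb'⟩
      show ∃ e' : {e // e ∈ PhiStab.inner ends S},
        PhiStab.indEnds ends S e' = (⟨b, hb⟩, ⟨c, hc⟩) ∨
          PhiStab.indEnds ends S e' = (⟨c, hc⟩, ⟨b, hb⟩)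
      refine ⟨⟨e, hmem⟩, ?_⟩
      rcases he with he | he
      · left
        exact Prod.ext (Subtype.ext (by show (ends e).1 = b; rw [he]))
          (Subtype.ext (by show (ends e).2 = c; rw [he]))
      · right
        exact Prod.ext (Subtype.ext (by show (ends e).1 = c; rw [he]))
          (Subtype.ext (by show (ends e).2 = b; rw [he]))
  rintro ⟨u, hu⟩ ⟨v, hv⟩
  obtain ⟨_, h⟩ := key u hu v (hreach u hu v hv)
  exact h

theorem connOn_of_connected_indEnds (ends : E → V × V) (S : Finset V)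
    (h : LabGraph.Connected (PhiStab.indEnds ends S)) : ConnOn ends S := by
  have h1 : Nonempty {v // v ∈ S} := h.1
  have h2 : ∀ a b : {v // v ∈ S},
      Relation.ReflTransGen (LabGraph.Adj (PhiStab.indEnds ends S)) a b := h.2
  obtain ⟨⟨s, hs⟩⟩ := h1
  refine ⟨⟨s, hs⟩, fun u hu v hv => ?_⟩
  have key : ∀ a b : {v // v ∈ S},
      Relation.ReflTransGen (LabGraph.Adj (PhiStab.indEnds ends S)) a b →
      Relation.ReflTransGen (AdjIn ends S) a.1 b.1 := by
    intro a b hab
    induction hab with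
    | refl => exact Relation.ReflTransGen.refl
    | @tail b c _ hbc ih =>
      refine Relation.ReflTransGen.tail ih ?_
      obtain ⟨e', he'⟩ := hbc
      rcases he' with he' | he'
      · refine ⟨e'.1, Or.inl ?_, b.2, c.2⟩
        have h1 := congrArg (fun p : {v // v ∈ S} × {v // v ∈ S} => (p.1.1, p.2.1)) he'
        exact h1
      · refine ⟨e'.1, Or.inr ?_, b.2, c.2⟩
        have h1 := congrArg (fun p : {v // v ∈ S} × {v // v ∈ S} => (p.1.1, p.2.1)) he'
        exact h1
  exact key ⟨u, hu⟩ ⟨v, hv⟩ (h2 _ _)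

theorem ne_of_elementary (ends : E → V × V) (S : Finset V) (hS : PhiStab.IsElementary ends S) :
    S.Nonempty ∧ S ≠ Finset.univ := by
  have h1 : Nonempty {v // v ∈ S} := hS.1.1
  have h2 : Nonempty {v // v ∈ Sᶜ} := hS.2.1
  obtain ⟨⟨a, ha⟩⟩ := h1
  obtain ⟨⟨c, hc⟩⟩ := h2
  refine ⟨⟨a, ha⟩, fun h => ?_⟩
  rw [h] at hc
  exact absurd (Finset.mem_univ c) (Finset.mem_compl.mp hc)

/-! ### the stability defect as a sum of local terms -/

/-- the stability defect -/
noncomputable def beta (ends : E → V × V) (φ : V → ℝ) (m : V → ℤ) (N : Finset E)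
    (S : Finset V) : ℝ :=
  (PhiStab.degOn ends m N S : ℝ) - (∑ v ∈ S, φ v) + (LabGraph.cut ends S : ℝ) / 2

theorem cut_cast (ends : E → V × V) (S : Finset V) :
    (LabGraph.cut ends S : ℝ) = ∑ e : E,
      (if ((ends e).1 ∈ S ∧ (ends e).2 ∉ S) ∨ ((ends e).1 ∉ S ∧ (ends e).2 ∈ S)
        then (1:ℝ) else 0) := by
  unfold LabGraph.cut
  rw [Finset.card_filter, Nat.cast_sum]
  refine Finset.sum_congr rfl fun e _ => ?_
  split_ifs <;> simp

theorem beta_eq (ends : E → V × V) (φ : V → ℝ) (m : V → ℤ) (N : Finset E) (S : Finset V) :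
    beta ends φ m N S = (∑ v ∈ S, ((m v : ℝ) - φ v))
      + (∑ e ∈ N, (if (ends e).1 ∈ S ∧ (ends e).2 ∈ S then (1:ℝ) else 0))
      + (∑ e : E, (if ((ends e).1 ∈ S ∧ (ends e).2 ∉ S) ∨ ((ends e).1 ∉ S ∧ (ends e).2 ∈ S)
          then (1:ℝ) else 0)) / 2 := by
  have h1 : ((N ∩ PhiStab.inner ends S).card : ℝ) =
      ∑ e ∈ N, (if (ends e).1 ∈ S ∧ (ends e).2 ∈ S then (1:ℝ) else 0) := by
    have h : N ∩ PhiStab.inner ends S =
        N.filter (fun e => (ends e).1 ∈ S ∧ (ends e).2 ∈ S) := by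
      ext e
      simp [PhiStab.inner]
    rw [h, Finset.card_filter, Nat.cast_sum]
    refine Finset.sum_congr rfl fun e _ => ?_
    split_ifs <;> simp
  unfold beta PhiStab.degOn
  push_cast
  rw [h1, cut_cast, Finset.sum_sub_distrib]
  ring

theorem ite_split {P Q R : Prop} [Decidable P] [Decidable Q] [Decidable R]
    (h1 : R ↔ P ∨ Q) (h2 : ¬(P ∧ Q)) :
    (if R then (1:ℝ) else 0) = (if P then (1:ℝ) else 0) + (if Q then (1:ℝ) else 0) := by
  by_cases hP : P <;> by_cases hQ : Q
  · exact absurd ⟨hP, hQ⟩ h2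
  · have hR : R := h1.mpr (Or.inl hP)
    simp [hP, hQ, hR]
  · have hR : R := h1.mpr (Or.inr hQ)
    simp [hP, hQ, hR]
  · have hR : ¬R := fun h => (h1.mp h).elim hP hQ
    simp [hP, hQ, hR]

theorem ite_split' {P Q R : Prop} [Decidable P] [Decidable Q] [Decidable R]
    (h1 : P ∨ Q) (h2 : R ↔ P ∧ Q) :
    (if P then (1:ℝ) else 0) + (if Q then (1:ℝ) else 0) = 1 + (if R then (1:ℝ) else 0) := by
  by_cases hP : P <;> by_cases hQ : Q
  · have hR : R := h2.mpr ⟨hP, hQ⟩
    simp [hP, hQ, hR]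
  · have hR : ¬R := fun h => hQ (h2.mp h).2
    simp [hP, hQ, hR]
  · have hR : ¬R := fun h => hP (h2.mp h).1
    simp [hP, hQ, hR]
  · exact absurd h1 (not_or.mpr ⟨hP, hQ⟩)

theorem beta_union (ends : E → V × V) (φ : V → ℝ) (m : V → ℤ) (N : Finset E)
    (A B : Finset V) (hAB : Disjoint A B)
    (hno : ∀ e, ¬((ends e).1 ∈ A ∧ (ends e).2 ∈ B) ∧ ¬((ends e).1 ∈ B ∧ (ends e).2 ∈ A)) :
    beta ends φ m N (A ∪ B) = beta ends φ m N A + beta ends φ m N B := by
  have d1 : ∀ x, ¬(x ∈ A ∧ x ∈ B) := fun x h => Finset.disjoint_left.mp hAB h.1 h.2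
  have hι : ∀ e : E, (if (ends e).1 ∈ A ∪ B ∧ (ends e).2 ∈ A ∪ B then (1:ℝ) else 0) =
      (if (ends e).1 ∈ A ∧ (ends e).2 ∈ A then (1:ℝ) else 0) +
        (if (ends e).1 ∈ B ∧ (ends e).2 ∈ B then (1:ℝ) else 0) := by
    intro e
    have d11 := d1 (ends e).1
    have d12 := d1 (ends e).2
    obtain ⟨hn1, hn2⟩ := hno e
    apply ite_split
    · simp only [Finset.mem_union]; tauto
    · tauto
  have hκ : ∀ e : E,
      (if ((ends e).1 ∈ A ∪ B ∧ (ends e).2 ∉ A ∪ B) ∨ ((ends e).1 ∉ A ∪ B ∧ (ends e).2 ∈ A ∪ B)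
        then (1:ℝ) else 0) =
      (if ((ends e).1 ∈ A ∧ (ends e).2 ∉ A) ∨ ((ends e).1 ∉ A ∧ (ends e).2 ∈ A)
        then (1:ℝ) else 0) +
      (if ((ends e).1 ∈ B ∧ (ends e).2 ∉ B) ∨ ((ends e).1 ∉ B ∧ (ends e).2 ∈ B)
        then (1:ℝ) else 0) := by
    intro e
    have d11 := d1 (ends e).1
    have d12 := d1 (ends e).2
    obtain ⟨hn1, hn2⟩ := hno e
    apply ite_split
    · simp only [Finset.mem_union]; tauto
    · tauto
  rw [beta_eq, beta_eq, beta_eq, Finset.sum_union hAB,
    Finset.sum_congr rfl (fun e _ => hι e), Finset.sum_congr rfl (fun e _ => hκ e),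
    Finset.sum_add_distrib, Finset.sum_add_distrib]
  ring

theorem beta_compl_union (ends : E → V × V) (φ : V → ℝ) (m : V → ℤ) (N : Finset E)
    (hdeg : (∑ v : V, φ v) = (PhiStab.totDeg m N : ℝ))
    (A B : Finset V) (hAB : Disjoint A B)
    (hno : ∀ e, ¬((ends e).1 ∈ A ∧ (ends e).2 ∈ B) ∧ ¬((ends e).1 ∈ B ∧ (ends e).2 ∈ A)) :
    beta ends φ m N (A ∪ B)ᶜ = beta ends φ m N Aᶜ + beta ends φ m N Bᶜ := by
  have d1 : ∀ x, ¬(x ∈ A ∧ x ∈ B) := fun x h => Finset.disjoint_left.mp hAB h.1 h.2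
  have hι : ∀ e : E,
      (if (ends e).1 ∈ Aᶜ ∧ (ends e).2 ∈ Aᶜ then (1:ℝ) else 0) +
        (if (ends e).1 ∈ Bᶜ ∧ (ends e).2 ∈ Bᶜ then (1:ℝ) else 0) =
      1 + (if (ends e).1 ∈ (A ∪ B)ᶜ ∧ (ends e).2 ∈ (A ∪ B)ᶜ then (1:ℝ) else 0) := by
    intro e
    have d11 := d1 (ends e).1
    have d12 := d1 (ends e).2
    obtain ⟨hn1, hn2⟩ := hno e
    apply ite_split'
    · simp only [Finset.mem_compl]; tauto
    · simp only [Finset.mem_compl, Finset.mem_union]; tauto
  have hκ : ∀ e : E,
      (if ((ends e).1 ∈ (A ∪ B)ᶜ ∧ (ends e).2 ∉ (A ∪ B)ᶜ) ∨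
          ((ends e).1 ∉ (A ∪ B)ᶜ ∧ (ends e).2 ∈ (A ∪ B)ᶜ) then (1:ℝ) else 0) =
      (if ((ends e).1 ∈ Aᶜ ∧ (ends e).2 ∉ Aᶜ) ∨ ((ends e).1 ∉ Aᶜ ∧ (ends e).2 ∈ Aᶜ)
        then (1:ℝ) else 0) +
      (if ((ends e).1 ∈ Bᶜ ∧ (ends e).2 ∉ Bᶜ) ∨ ((ends e).1 ∉ Bᶜ ∧ (ends e).2 ∈ Bᶜ)
        then (1:ℝ) else 0) := by
    intro e
    have d11 := d1 (ends e).1
    have d12 := d1 (ends e).2
    obtain ⟨hn1, hn2⟩ := hno e
    apply ite_split
    · simp only [Finset.mem_compl, Finset.mem_union]; tauto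
    · simp only [Finset.mem_compl]; tauto
  have hιs : ∑ e ∈ N, (if (ends e).1 ∈ Aᶜ ∧ (ends e).2 ∈ Aᶜ then (1:ℝ) else 0) +
      ∑ e ∈ N, (if (ends e).1 ∈ Bᶜ ∧ (ends e).2 ∈ Bᶜ then (1:ℝ) else 0) =
      (N.card : ℝ) +
        ∑ e ∈ N, (if (ends e).1 ∈ (A ∪ B)ᶜ ∧ (ends e).2 ∈ (A ∪ B)ᶜ then (1:ℝ) else 0) := by
    rw [← Finset.sum_add_distrib, Finset.sum_congr rfl (fun e _ => hι e),
      Finset.sum_add_distrib, Finset.sum_const, nsmul_eq_mul, mul_one]
  have hX := Finset.sum_compl_add_sum (A ∪ B) (fun v => (m v : ℝ) - φ v)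
  have hXA := Finset.sum_compl_add_sum A (fun v => (m v : ℝ) - φ v)
  have hXB := Finset.sum_compl_add_sum B (fun v => (m v : ℝ) - φ v)
  have hU := Finset.sum_union hAB (f := fun v => (m v : ℝ) - φ v)
  have hdeg' : ∑ v, ((m v : ℝ) - φ v) + (N.card : ℝ) = 0 := by
    rw [Finset.sum_sub_distrib, hdeg]
    unfold PhiStab.totDeg
    push_cast
    ring
  rw [beta_eq, beta_eq, beta_eq, Finset.sum_congr rfl (fun e _ => hκ e),
    Finset.sum_add_distrib]
  linarith

/-! ### splitting a disconnected set -/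

theorem exists_split (ends : E → V × V) (S : Finset V) (hne : S.Nonempty)
    (hnc : ¬ ConnOn ends S) :
    ∃ A B : Finset V, A.Nonempty ∧ B.Nonempty ∧ Disjoint A B ∧ A ∪ B = S ∧
      ∀ e, ¬((ends e).1 ∈ A ∧ (ends e).2 ∈ B) ∧ ¬((ends e).1 ∈ B ∧ (ends e).2 ∈ A) := by
  classical
  have hex : ∃ u ∈ S, ∃ v ∈ S, ¬ Relation.ReflTransGen (AdjIn ends S) u v := by
    by_contra hcon
    apply hnc
    refine ⟨hne, fun u hu v hv => ?_⟩
    by_contra h
    exact hcon ⟨u, hu, v, hv, h⟩
  obtain ⟨u, hu, v, hv, huv⟩ := hex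
  refine ⟨S.filter (fun x => Relation.ReflTransGen (AdjIn ends S) u x),
    S.filter (fun x => ¬ Relation.ReflTransGen (AdjIn ends S) u x), ⟨u, ?_⟩, ⟨v, ?_⟩, ?_, ?_, ?_⟩
  · exact Finset.mem_filter.mpr ⟨hu, Relation.ReflTransGen.refl⟩
  · exact Finset.mem_filter.mpr ⟨hv, huv⟩
  · exact Finset.disjoint_left.mpr
      (fun x hx hx' => (Finset.mem_filter.mp hx').2 (Finset.mem_filter.mp hx).2)
  · ext x
    simp only [Finset.mem_union, Finset.mem_filter]
    tauto
  · intro e
    constructor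
    · rintro ⟨h1, h2⟩
      obtain ⟨h1S, h1r⟩ := Finset.mem_filter.mp h1
      obtain ⟨h2S, h2r⟩ := Finset.mem_filter.mp h2
      exact h2r (Relation.ReflTransGen.tail h1r ⟨e, Or.inl (Prod.ext rfl rfl), h1S, h2S⟩)
    · rintro ⟨h1, h2⟩
      obtain ⟨h1S, h1r⟩ := Finset.mem_filter.mp h1
      obtain ⟨h2S, h2r⟩ := Finset.mem_filter.mp h2
      exact h1r (Relation.ReflTransGen.tail h2r ⟨e, Or.inr (Prod.ext rfl rfl), h2S, h1S⟩)

theorem connOn_compl_of_split (ends : E → V × V) (hG : LabGraph.Connected ends)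
    (S Z1 Z2 : Finset V) (hS : ConnOn ends S) (h1 : ∀ x ∈ S, x ∉ Z1)
    (h2 : ∀ x, x ∉ Z1 → x ∉ S → x ∈ Z2)
    (hno : ∀ e, ¬((ends e).1 ∈ Z1 ∧ (ends e).2 ∈ Z2) ∧ ¬((ends e).1 ∈ Z2 ∧ (ends e).2 ∈ Z1)) :
    ConnOn ends Z1ᶜ := by
  obtain ⟨⟨s0, hs0⟩, hreach⟩ := hS
  have hsub : S ⊆ Z1ᶜ := fun x hx => Finset.mem_compl.mpr (h1 x hx)
  have key : ∀ y, y ∈ Z1ᶜ → Relation.ReflTransGen (AdjIn ends Z1ᶜ) y s0 := by
    intro y
    have hpath := hG.2 y s0
    induction hpath using Relation.ReflTransGen.head_induction_on with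
    | refl => intro _; exact Relation.ReflTransGen.refl
    | @head a c hab _ ih =>
      intro hy
      by_cases hyS : a ∈ S
      · exact reachIn_mono ends hsub (hreach a hyS s0 hs0)
      · have hyZ2 : a ∈ Z2 := h2 a (Finset.mem_compl.mp hy) hyS
        obtain ⟨e, he⟩ := hab
        have hc : c ∉ Z1 := by
          intro hc
          rcases he with he | he
          · exact (hno e).2 ⟨by rw [he]; exact hyZ2, by rw [he]; exact hc⟩
          · exact (hno e).1 ⟨by rw [he]; exact hc, by rw [he]; exact hyZ2⟩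
        have hc' : c ∈ Z1ᶜ := Finset.mem_compl.mpr hc
        exact Relation.ReflTransGen.head ⟨e, he, hy, hc'⟩ (ih hc')
  refine ⟨⟨s0, hsub hs0⟩, fun u hu v hv => ?_⟩
  exact (key u hu).trans (reachIn_symm ends _ (key v hv))

/-! ### the reduction to elementary sets -/

theorem main_conn (ends : E → V × V) (hG : LabGraph.Connected ends)
    (φ : V → ℝ) (m : V → ℤ) (N : Finset E)
    (hdeg : (∑ v : V, φ v) = (PhiStab.totDeg m N : ℝ)) (P : ℝ → Prop)
    (hadd : ∀ x y, P x → P y → P (x + y))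
    (hel : ∀ S, PhiStab.IsElementary ends S → P (beta ends φ m N S)) :
    ∀ k : ℕ, ∀ S : Finset V, ConnOn ends S → S ≠ Finset.univ → Sᶜ.card ≤ k →
      P (beta ends φ m N S) := by
  intro k
  induction k with
  | zero =>
    intro S _ hne hcard
    exfalso
    apply hne
    have h0 : Sᶜ = ∅ := Finset.card_eq_zero.mp (Nat.le_zero.mp hcard)
    rw [← compl_compl S, h0]
    exact Finset.compl_empty
  | succ k ih =>
    intro S hS hne hcard
    have hcne : Sᶜ.Nonempty := by
      rw [Finset.nonempty_iff_ne_empty]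
      intro h
      apply hne
      rw [← compl_compl S, h]
      exact Finset.compl_empty
    by_cases hc : ConnOn ends Sᶜ
    · exact hel S ⟨connected_indEnds_of_connOn ends S hS,
        connected_indEnds_of_connOn ends Sᶜ hc⟩
    · obtain ⟨A, B, hA, hB, hAB, hU, hno⟩ := exists_split ends Sᶜ hcne hc
      have hSeq : S = (A ∪ B)ᶜ := by rw [hU, compl_compl]
      have hAsub : A ⊆ Sᶜ := by rw [← hU]; exact Finset.subset_union_left
      have hBsub : B ⊆ Sᶜ := by rw [← hU]; exact Finset.subset_union_right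
      have hmemU : ∀ x, x ∉ S → x ∈ A ∪ B := fun x hx => by
        rw [hU]; exact Finset.mem_compl.mpr hx
      rw [hSeq, beta_compl_union ends φ m N hdeg A B hAB hno]
      apply hadd
      · apply ih Aᶜ
        · apply connOn_compl_of_split ends hG S A B hS
          · intro x hx hxA
            exact (Finset.mem_compl.mp (hAsub hxA)) hx
          · intro x hxA hxS
            rcases Finset.mem_union.mp (hmemU x hxS) with h | h
            · exact absurd h hxA
            · exact h
          · exact hno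
        · intro h
          obtain ⟨a, ha⟩ := hA
          have : a ∈ Aᶜ := by rw [h]; exact Finset.mem_univ a
          exact (Finset.mem_compl.mp this) ha
        · rw [compl_compl]
          have hlt : A.card < Sᶜ.card := by
            apply Finset.card_lt_card
            refine Finset.ssubset_def.mpr ⟨hAsub, fun hsub => ?_⟩
            obtain ⟨b, hb⟩ := hB
            exact Finset.disjoint_left.mp hAB (hsub (hBsub hb)) hb
          omega
      · apply ih Bᶜ
        · apply connOn_compl_of_split ends hG S B A hS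
          · intro x hx hxB
            exact (Finset.mem_compl.mp (hBsub hxB)) hx
          · intro x hxB hxS
            rcases Finset.mem_union.mp (hmemU x hxS) with h | h
            · exact h
            · exact absurd h hxB
          · exact fun e => ⟨(hno e).2, (hno e).1⟩
        · intro h
          obtain ⟨b, hb⟩ := hB
          have : b ∈ Bᶜ := by rw [h]; exact Finset.mem_univ b
          exact (Finset.mem_compl.mp this) hb
        · rw [compl_compl]
          have hlt : B.card < Sᶜ.card := by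
            apply Finset.card_lt_card
            refine Finset.ssubset_def.mpr ⟨hBsub, fun hsub => ?_⟩
            obtain ⟨a, ha⟩ := hA
            exact Finset.disjoint_left.mp hAB ha (hsub (hAsub ha))
          omega

theorem main_all (ends : E → V × V) (hG : LabGraph.Connected ends)
    (φ : V → ℝ) (m : V → ℤ) (N : Finset E)
    (hdeg : (∑ v : V, φ v) = (PhiStab.totDeg m N : ℝ)) (P : ℝ → Prop)
    (hadd : ∀ x y, P x → P y → P (x + y))
    (hel : ∀ S, PhiStab.IsElementary ends S → P (beta ends φ m N S)) :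
    ∀ k : ℕ, ∀ S : Finset V, S.Nonempty → S ≠ Finset.univ → S.card ≤ k →
      P (beta ends φ m N S) := by
  intro k
  induction k with
  | zero =>
    intro S hne _ hcard
    exfalso
    have h0 : S = ∅ := Finset.card_eq_zero.mp (Nat.le_zero.mp hcard)
    rw [h0] at hne
    exact Finset.not_nonempty_empty hne
  | succ k ih =>
    intro S hne hnu hcard
    by_cases hc : ConnOn ends S
    · exact main_conn ends hG φ m N hdeg P hadd hel _ S hc hnu le_rfl
    · obtain ⟨A, B, hA, hB, hAB, hU, hno⟩ := exists_split ends S hne hc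
      have hAsub : A ⊆ S := by rw [← hU]; exact Finset.subset_union_left
      have hBsub : B ⊆ S := by rw [← hU]; exact Finset.subset_union_right
      rw [← hU, beta_union ends φ m N A B hAB hno]
      apply hadd
      · apply ih A hA
        · intro h
          obtain ⟨b, hb⟩ := hB
          have : b ∈ A := by rw [h]; exact Finset.mem_univ b
          exact Finset.disjoint_left.mp hAB this hb
        · have hlt : A.card < S.card := by
            apply Finset.card_lt_card
            refine Finset.ssubset_def.mpr ⟨hAsub, fun hsub => ?_⟩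
            obtain ⟨b, hb⟩ := hB
            exact Finset.disjoint_left.mp hAB (hsub (hBsub hb)) hb
          omega
      · apply ih B hB
        · intro h
          obtain ⟨a, ha⟩ := hA
          have : a ∈ B := by rw [h]; exact Finset.mem_univ a
          exact Finset.disjoint_left.mp hAB ha this
        · have hlt : B.card < S.card := by
            apply Finset.card_lt_card
            refine Finset.ssubset_def.mpr ⟨hBsub, fun hsub => ?_⟩
            obtain ⟨a, ha⟩ := hA
            exact Finset.disjoint_left.mp hAB ha (hsub (hAsub ha))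
          omega

theorem main18374 (ends : E → V × V) (hconn : LabGraph.Connected ends)
    (φ : V → ℝ) (m : V → ℤ) (N : Finset E)
    (hdeg : (∑ v : V, φ v) = (PhiStab.totDeg m N : ℝ)) :
    (PhiStab.IsSemistable ends φ m N ↔
      ∀ S : Finset V, PhiStab.IsElementary ends S →
        (∑ v ∈ S, φ v) - (LabGraph.cut ends S : ℝ) / 2 ≤ (PhiStab.degOn ends m N S : ℝ)) ∧
    (PhiStab.IsStable ends φ m N ↔
      ∀ S : Finset V, PhiStab.IsElementary ends S →
        (∑ v ∈ S, φ v) - (LabGraph.cut ends S : ℝ) / 2 < (PhiStab.degOn ends m N S : ℝ)) := by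
  constructor
  · constructor
    · intro h S hS
      exact h S (ne_of_elementary ends S hS).1 (ne_of_elementary ends S hS).2
    · intro h S hne hnu
      have h0 : 0 ≤ beta ends φ m N S :=
        main_all ends hconn φ m N hdeg (fun x => 0 ≤ x) (fun x y hx hy => add_nonneg hx hy)
          (fun T hT => by
            show 0 ≤ beta ends φ m N T
            have := h T hT
            unfold beta
            linarith) S.card S hne hnu le_rfl
      unfold beta at h0
      linarith
  · constructor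
    · intro h S hS
      exact h S (ne_of_elementary ends S hS).1 (ne_of_elementary ends S hS).2
    · intro h S hne hnu
      have h0 : 0 < beta ends φ m N S :=
        main_all ends hconn φ m N hdeg (fun x => 0 < x) (fun x y hx hy => add_pos hx hy)
          (fun T hT => by
            show 0 < beta ends φ m N T
            have := h T hT
            unfold beta
            linarith) S.card S hne hnu le_rfl
      unfold beta at h0
      linarith

end Groth.Agent.Lib.Helper29.PhiStabElem
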