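import Mathlib
import Groth.Prelude.Def_W4c5modbuncurvesppStab
import Groth.Agent.Lib.Helper29.GraphBridge
import Groth.Agent.Lib.Helper29.PhiStabElem

set_option autoImplicit false

open Finset

namespace Groth.Agent.Lib.Helper29.PhiStabTree

open Groth.Agent.Lib.Helper29.GraphInc Groth.Agent.Lib.Helper29.GraphSub
  Groth.Agent.Lib.Helper29.GraphBridge Groth.Agent.Lib.Helper29.PhiStabElem

universe u

variable {V E : Type u} [Fintype V] [Fintype E] [DecidableEq V] [DecidableEq E]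

/-! ### solving the side-sum equations over any commutative ring -/

theorem exists_sol_ring (R : Type*) [CommRing R] (ends : E → V × V) (hT : DualGr.IsTree ends)
    (c : E → R) (c₀ : R) :
    ∃ φ : V → R, (∀ e, ∑ v ∈ PhiStab.side ends e, φ v = c e) ∧ ∑ v, φ v = c₀ := by
  classical
  obtain ⟨⟨v₀⟩, _⟩ := id hT.1
  have hgen : ∀ (ξ : E → R) (S : Finset V),
      ∑ v ∈ S, (c₀ * (if v₀ = v then 1 else 0) + ∑ e', ξ e' *
        ((if (ends e').2 = v then 1 else 0) - (if (ends e').1 = v then 1 else 0))) =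
      c₀ * (if v₀ ∈ S then 1 else 0) + ∑ e', ξ e' *
        ((if (ends e').2 ∈ S then 1 else 0) - (if (ends e').1 ∈ S then 1 else 0)) := by
    intro ξ S
    rw [Finset.sum_add_distrib, ← Finset.mul_sum, Finset.sum_ite_eq, Finset.sum_comm]
    congr 1
    refine Finset.sum_congr rfl fun e' _ => ?_
    rw [← Finset.mul_sum, Finset.sum_sub_distrib, Finset.sum_ite_eq, Finset.sum_ite_eq]
  obtain ⟨ξ, hξ⟩ : ∃ ξ : E → R, ∀ e', ξ e' =
      c₀ * (if v₀ ∈ PhiStab.side ends e' then 1 else 0) - c e' := ⟨_, fun _ => rfl⟩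
  obtain ⟨φ, hφ⟩ : ∃ φ : V → R, ∀ v, φ v = c₀ * (if v₀ = v then 1 else 0) + ∑ e', ξ e' *
      ((if (ends e').2 = v then 1 else 0) - (if (ends e').1 = v then 1 else 0)) :=
    ⟨_, fun _ => rfl⟩
  refine ⟨φ, ?_, ?_⟩
  · intro e
    rw [Finset.sum_congr rfl (fun v _ => hφ v), hgen, Finset.sum_eq_single e]
    · have h1 : (ends e).1 ∈ PhiStab.side ends e :=
        (mem_side ends e _).mpr Relation.ReflTransGen.refl
      have h2 := snd_notMem_side ends hT e
      rw [if_neg h2, if_pos h1, hξ e]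
      ring
    · intro e' _ hne
      have hiff : (ends e').1 ∈ PhiStab.side ends e ↔ (ends e').2 ∈ PhiStab.side ends e := by
        rw [mem_side, mem_side]
        exact reachOn_step ends (ends e).1 e' (Finset.mem_erase.mpr ⟨hne, Finset.mem_univ e'⟩)
      by_cases h : (ends e').1 ∈ PhiStab.side ends e
      · rw [if_pos h, if_pos (hiff.mp h), sub_self, mul_zero]
      · rw [if_neg h, if_neg (fun h' => h (hiff.mpr h')), sub_self, mul_zero]
    · intro h; exact absurd (Finset.mem_univ e) h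
  · rw [Finset.sum_congr rfl (fun v _ => hφ v), hgen]
    simp

/-! ### the flow formula on a tree -/

theorem sum_eq_flow (ends : E → V × V) (hT : DualGr.IsTree ends) (ψ : V → ℝ)
    (h0 : ∑ v, ψ v = 0) (S : Finset V) :
    ∑ v ∈ S, ψ v = ∑ e, (∑ v ∈ PhiStab.side ends e, ψ v) *
      ((if (ends e).1 ∈ S then (1:ℝ) else 0) - (if (ends e).2 ∈ S then (1:ℝ) else 0)) := by
  classical
  obtain ⟨ψ', hψ'⟩ : ∃ ψ' : V → ℝ, ∀ v, ψ' v = ∑ e, (∑ u ∈ PhiStab.side ends e, ψ u) *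
      ((if (ends e).1 = v then (1:ℝ) else 0) - (if (ends e).2 = v then (1:ℝ) else 0)) :=
    ⟨_, fun _ => rfl⟩
  have hgen : ∀ R : Finset V, ∑ v ∈ R, ψ' v = ∑ e, (∑ u ∈ PhiStab.side ends e, ψ u) *
      ((if (ends e).1 ∈ R then (1:ℝ) else 0) - (if (ends e).2 ∈ R then (1:ℝ) else 0)) := by
    intro R
    rw [Finset.sum_congr rfl (fun v _ => hψ' v), Finset.sum_comm]
    refine Finset.sum_congr rfl fun e _ => ?_
    rw [← Finset.mul_sum, Finset.sum_sub_distrib, Finset.sum_ite_eq, Finset.sum_ite_eq]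
  have hside : ∀ e, ∑ v ∈ PhiStab.side ends e, ψ' v = ∑ v ∈ PhiStab.side ends e, ψ v := by
    intro e
    rw [hgen, Finset.sum_eq_single e]
    · have h1 : (ends e).1 ∈ PhiStab.side ends e :=
        (mem_side ends e _).mpr Relation.ReflTransGen.refl
      have h2 := snd_notMem_side ends hT e
      rw [if_pos h1, if_neg h2]
      ring
    · intro e' _ hne
      have hiff : (ends e').1 ∈ PhiStab.side ends e ↔ (ends e').2 ∈ PhiStab.side ends e := by
        rw [mem_side, mem_side]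
        exact reachOn_step ends (ends e).1 e' (Finset.mem_erase.mpr ⟨hne, Finset.mem_univ e'⟩)
      by_cases h : (ends e').1 ∈ PhiStab.side ends e
      · rw [if_pos h, if_pos (hiff.mp h), sub_self, mul_zero]
      · rw [if_neg h, if_neg (fun h' => h (hiff.mpr h')), sub_self, mul_zero]
    · intro h; exact absurd (Finset.mem_univ e) h
  have htot : ∑ v, ψ' v = 0 := by
    rw [hgen]
    refine Finset.sum_eq_zero fun e _ => ?_
    simp
  obtain ⟨χ, _, huniq⟩ := main18382 ends hT (fun e => ∑ v ∈ PhiStab.side ends e, ψ v) 0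
  have e1 : ψ = χ := huniq ψ ⟨fun e => rfl, h0⟩
  have e2 : ψ' = χ := huniq ψ' ⟨hside, htot⟩
  have e3 : ψ = ψ' := e1.trans e2.symm
  have hS : ∑ v ∈ S, ψ v = ∑ v ∈ S, ψ' v := by rw [← e3]
  exact hS.trans (hgen S)

theorem edge_le (f r : ℝ) (hf : |f| ≤ r) (p q : Prop) [Decidable p] [Decidable q] :
    f * ((if p then (1:ℝ) else 0) - (if q then (1:ℝ) else 0)) ≤
      r * (if (p ∧ ¬q) ∨ (¬p ∧ q) then (1:ℝ) else 0) := by
  obtain ⟨h1, h2⟩ := abs_le.mp hf
  by_cases hp : p <;> by_cases hq : q <;> simp [hp, hq] <;> linarith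

theorem edge_lt (f r : ℝ) (hf : |f| < r) (p q : Prop) [Decidable p] [Decidable q]
    (hx : (p ∧ ¬q) ∨ (¬p ∧ q)) :
    f * ((if p then (1:ℝ) else 0) - (if q then (1:ℝ) else 0)) <
      r * (if (p ∧ ¬q) ∨ (¬p ∧ q) then (1:ℝ) else 0) := by
  obtain ⟨h1, h2⟩ := abs_lt.mp hf
  rcases hx with ⟨hp, hq⟩ | ⟨hp, hq⟩ <;> simp [hp, hq] <;> linarith

theorem exists_crossing (ends : E → V × V) (S : Finset V) {u v : V}
    (h : Relation.ReflTransGen (LabGraph.Adj ends) u v) (hu : u ∈ S) (hv : v ∉ S) :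
    ∃ e, ((ends e).1 ∈ S ∧ (ends e).2 ∉ S) ∨ ((ends e).1 ∉ S ∧ (ends e).2 ∈ S) := by
  induction h with
  | refl => exact absurd hu hv
  | @tail b c _ hbc ih =>
    by_cases hb : b ∈ S
    · obtain ⟨e, he | he⟩ := hbc
      · exact ⟨e, Or.inl ⟨by rw [he]; exact hb, by rw [he]; exact hv⟩⟩
      · exact ⟨e, Or.inr ⟨by rw [he]; exact hv, by rw [he]; exact hb⟩⟩
    · exact ih hb

theorem sum_le_of_side_bound (ends : E → V × V) (hT : DualGr.IsTree ends) (ψ : V → ℝ)
    (h0 : ∑ v, ψ v = 0) (r : ℝ)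
    (hb : ∀ e, |∑ v ∈ PhiStab.side ends e, ψ v| ≤ r) (S : Finset V) :
    ∑ v ∈ S, ψ v ≤ r * (LabGraph.cut ends S : ℝ) := by
  rw [sum_eq_flow ends hT ψ h0 S, cut_cast, Finset.mul_sum]
  exact Finset.sum_le_sum fun e _ => edge_le _ r (hb e) _ _

theorem sum_lt_of_side_bound (ends : E → V × V) (hT : DualGr.IsTree ends) (ψ : V → ℝ)
    (h0 : ∑ v, ψ v = 0) (r : ℝ)
    (hb : ∀ e, |∑ v ∈ PhiStab.side ends e, ψ v| < r) (S : Finset V)
    (hne : S.Nonempty) (hnu : S ≠ Finset.univ) :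
    ∑ v ∈ S, ψ v < r * (LabGraph.cut ends S : ℝ) := by
  obtain ⟨u, hu⟩ := hne
  obtain ⟨v, hv⟩ : ∃ v, v ∉ S := by
    by_contra h
    push Not at h
    exact hnu (Finset.eq_univ_iff_forall.mpr h)
  obtain ⟨e0, he0⟩ := exists_crossing ends S (hT.1.2 u v) hu hv
  rw [sum_eq_flow ends hT ψ h0 S, cut_cast, Finset.mul_sum]
  exact Finset.sum_lt_sum (fun e _ => edge_le _ r (hb e).le _ _)
    ⟨e0, Finset.mem_univ _, edge_lt _ r (hb e0) _ _ he0⟩

/-! ### cuts -/

theorem cut_side (ends : E → V × V) (hT : DualGr.IsTree ends) (e : E) :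
    LabGraph.cut ends (PhiStab.side ends e) = 1 := by
  unfold LabGraph.cut
  rw [Finset.card_eq_one]
  refine ⟨e, ?_⟩
  ext e'
  rw [Finset.mem_filter, Finset.mem_singleton]
  constructor
  · rintro ⟨_, h⟩
    by_contra hne
    have hiff : (ends e').1 ∈ PhiStab.side ends e ↔ (ends e').2 ∈ PhiStab.side ends e := by
      rw [mem_side, mem_side]
      exact reachOn_step ends (ends e).1 e' (Finset.mem_erase.mpr ⟨hne, Finset.mem_univ e'⟩)
    rcases h with ⟨h1, h2⟩ | ⟨h1, h2⟩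
    · exact h2 (hiff.mp h1)
    · exact h1 (hiff.mpr h2)
  · intro h
    rw [h]
    exact ⟨Finset.mem_univ _, Or.inl ⟨(mem_side ends e _).mpr Relation.ReflTransGen.refl,
      snd_notMem_side ends hT e⟩⟩

theorem cut_compl (ends : E → V × V) (S : Finset V) :
    LabGraph.cut ends Sᶜ = LabGraph.cut ends S := by
  unfold LabGraph.cut
  apply congrArg Finset.card
  ext e
  simp only [Finset.mem_filter, Finset.mem_univ, true_and, Finset.mem_compl, not_not]
  tauto

/-! ### the defect in terms of a vertex weighting and the tree cut -/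

/-- the weighting whose sums over vertex sets measure the defect -/
noncomputable def psi (ends : E → V × V) (T : Finset E) (φ : V → ℝ) (m : V → ℤ) (v : V) : ℝ :=
  φ v - (m v : ℝ) - (LabGraph.endCount ends Tᶜ v : ℝ) / 2

theorem ind_sum (p q : Prop) [Decidable p] [Decidable q] :
    (if p then (1:ℝ) else 0) + (if q then (1:ℝ) else 0) =
      2 * (if p ∧ q then (1:ℝ) else 0) + (if (p ∧ ¬q) ∨ (¬p ∧ q) then (1:ℝ) else 0) := by
  by_cases hp : p <;> by_cases hq : q <;> simp [hp, hq] <;> norm_num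

theorem sum_endCount_cast (ends : E → V × V) (D : Finset E) (S : Finset V) :
    ∑ v ∈ S, (LabGraph.endCount ends D v : ℝ) =
      ∑ e ∈ D, ((if (ends e).1 ∈ S then (1:ℝ) else 0) +
        (if (ends e).2 ∈ S then (1:ℝ) else 0)) := by
  have h := congrArg (Nat.cast : ℕ → ℝ) (sum_endCount_eq ends D S)
  rw [Nat.cast_sum, Nat.cast_sum] at h
  rw [h]
  refine Finset.sum_congr rfl fun e _ => ?_
  split_ifs <;> simp <;> norm_num

theorem beta_eq_psi (ends : E → V × V) (T : Finset E) (φ : V → ℝ) (m : V → ℤ) (S : Finset V) :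
    beta ends φ m Tᶜ S = -(∑ v ∈ S, psi ends T φ m v) +
      (LabGraph.cut (PhiStab.spanEnds ends T) S : ℝ) / 2 := by
  have hpsi : ∑ v ∈ S, psi ends T φ m v = (∑ v ∈ S, φ v) - (∑ v ∈ S, (m v : ℝ)) -
      (∑ v ∈ S, (LabGraph.endCount ends Tᶜ v : ℝ)) / 2 := by
    simp only [psi]
    rw [Finset.sum_sub_distrib, Finset.sum_sub_distrib, Finset.sum_div]
  have hend := sum_endCount_cast ends Tᶜ S
  have hsplit : ∑ e ∈ Tᶜ, ((if (ends e).1 ∈ S then (1:ℝ) else 0) +
        (if (ends e).2 ∈ S then (1:ℝ) else 0)) =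
      2 * ∑ e ∈ Tᶜ, (if (ends e).1 ∈ S ∧ (ends e).2 ∈ S then (1:ℝ) else 0) +
      ∑ e ∈ Tᶜ, (if ((ends e).1 ∈ S ∧ (ends e).2 ∉ S) ∨ ((ends e).1 ∉ S ∧ (ends e).2 ∈ S)
        then (1:ℝ) else 0) := by
    rw [Finset.mul_sum, ← Finset.sum_add_distrib]
    exact Finset.sum_congr rfl fun e _ => ind_sum _ _
  have hK := Finset.sum_add_sum_compl T (fun e : E =>
    (if ((ends e).1 ∈ S ∧ (ends e).2 ∉ S) ∨ ((ends e).1 ∉ S ∧ (ends e).2 ∈ S)
      then (1:ℝ) else 0))
  have hcut : (LabGraph.cut (PhiStab.spanEnds ends T) S : ℝ) =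
      ∑ e ∈ T, (if ((ends e).1 ∈ S ∧ (ends e).2 ∉ S) ∨ ((ends e).1 ∉ S ∧ (ends e).2 ∈ S)
        then (1:ℝ) else 0) := by
    rw [cut_cast]
    exact (Finset.sum_subtype T (fun x => Iff.rfl) (fun e : E =>
      (if ((ends e).1 ∈ S ∧ (ends e).2 ∉ S) ∨ ((ends e).1 ∉ S ∧ (ends e).2 ∈ S)
        then (1:ℝ) else 0))).symm
  have hm : ∑ v ∈ S, ((m v : ℝ) - φ v) = (∑ v ∈ S, (m v : ℝ)) - ∑ v ∈ S, φ v :=
    Finset.sum_sub_distrib _ _
  rw [beta_eq, hpsi, hend, hsplit, hcut, hm]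
  linarith

theorem sum_psi_univ (ends : E → V × V) (T : Finset E) (φ : V → ℝ) (m : V → ℤ) (b : ℤ)
    (hφ : (∑ v : V, φ v) = (b : ℝ)) (hd : PhiStab.totDeg m Tᶜ = b) :
    ∑ v, psi ends T φ m v = 0 := by
  have hend := sum_endCount_cast ends Tᶜ Finset.univ
  have h2 : ∑ e ∈ Tᶜ, ((if (ends e).1 ∈ (Finset.univ : Finset V) then (1:ℝ) else 0) +
      (if (ends e).2 ∈ (Finset.univ : Finset V) then (1:ℝ) else 0)) = 2 * (Tᶜ.card : ℝ) := by
    have h : ∀ e ∈ Tᶜ, ((if (ends e).1 ∈ (Finset.univ : Finset V) then (1:ℝ) else 0) +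
        (if (ends e).2 ∈ (Finset.univ : Finset V) then (1:ℝ) else 0)) = 2 := fun e _ => by
      rw [if_pos (Finset.mem_univ _), if_pos (Finset.mem_univ _)]
      norm_num
    rw [Finset.sum_congr rfl h, Finset.sum_const, nsmul_eq_mul]
    ring
  have hd' : (∑ v, (m v : ℝ)) + (Tᶜ.card : ℝ) = (b : ℝ) := by
    have h := congrArg (Int.cast : ℤ → ℝ) hd
    unfold PhiStab.totDeg at h
    push_cast at h
    exact h
  simp only [psi]
  rw [Finset.sum_sub_distrib, Finset.sum_sub_distrib, ← Finset.sum_div, hend, h2, hφ]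
  linarith

theorem abs_side_lt (ends : E → V × V) (T : Finset E) (b : ℤ) (φ : V → ℝ)
    (hφ : (∑ v : V, φ v) = (b : ℝ)) (m : V → ℤ) (hd : PhiStab.totDeg m Tᶜ = b)
    (hs : PhiStab.IsStable ends φ m Tᶜ) (S : Finset V) (hne : S.Nonempty)
    (hnu : S ≠ Finset.univ) (hcut : LabGraph.cut (PhiStab.spanEnds ends T) S = 1) :
    |∑ v ∈ S, psi ends T φ m v| < 1 / 2 := by
  have hcne : Sᶜ.Nonempty := by
    by_contra h
    rw [Finset.not_nonempty_iff_eq_empty] at h
    apply hnu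
    rw [← compl_compl S, h]
    exact Finset.compl_empty
  have hcnu : Sᶜ ≠ Finset.univ := by
    intro h
    obtain ⟨a, ha⟩ := hne
    have : a ∈ Sᶜ := by rw [h]; exact Finset.mem_univ a
    exact Finset.mem_compl.mp this ha
  have h1 := hs S hne hnu
  have h2 := hs Sᶜ hcne hcnu
  have e1 := beta_eq_psi ends T φ m S
  have e2 := beta_eq_psi ends T φ m Sᶜ
  have hc2 := cut_compl (PhiStab.spanEnds ends T) S
  have h0 := sum_psi_univ ends T φ m b hφ hd
  have hcs := Finset.sum_compl_add_sum S (psi ends T φ m)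
  have b1 : 0 < beta ends φ m Tᶜ S := by unfold beta; linarith
  have b2 : 0 < beta ends φ m Tᶜ Sᶜ := by unfold beta; linarith
  rw [e1, hcut] at b1
  rw [e2, hc2, hcut] at b2
  push_cast at b1 b2
  rw [abs_lt]
  constructor <;> linarith

theorem beta_lt_one_of_cut_one (ends : E → V × V) (T : Finset E) (b : ℤ) (φ : V → ℝ)
    (hφ : (∑ v : V, φ v) = (b : ℝ)) (m : V → ℤ) (hd : PhiStab.totDeg m Tᶜ = b)
    (hs : PhiStab.IsStable ends φ m Tᶜ) (S : Finset V) (hne : S.Nonempty)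
    (hnu : S ≠ Finset.univ) (hcut : LabGraph.cut (PhiStab.spanEnds ends T) S = 1) :
    beta ends φ m Tᶜ S < 1 := by
  have h := abs_side_lt ends T b φ hφ m hd hs S hne hnu hcut
  rw [beta_eq_psi ends T φ m S, hcut]
  push_cast
  rw [abs_lt] at h
  linarith

/-! ### S18375 -/

theorem main18375 (ends : E → V × V) (T : Finset E)
    (hT : DualGr.IsTree (PhiStab.spanEnds ends T)) (b : ℤ) (φ : V → ℝ)
    (hφ : (∑ v : V, φ v) = (b : ℝ)) (hnd : PhiStab.Nondegenerate ends φ) :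
    ∃! m : V → ℤ, PhiStab.totDeg m Tᶜ = b ∧ PhiStab.IsStable ends φ m Tᶜ := by
  classical
  have hex : ∃ m : V → ℤ, PhiStab.totDeg m Tᶜ = b ∧ PhiStab.IsStable ends φ m Tᶜ := by
    obtain ⟨x, hx⟩ : ∃ x : {e // e ∈ T} → ℝ, ∀ e, x e =
        ∑ v ∈ PhiStab.side (PhiStab.spanEnds ends T) e,
          (φ v - (LabGraph.endCount ends Tᶜ v : ℝ) / 2) := ⟨_, fun _ => rfl⟩
    obtain ⟨c, hc⟩ : ∃ c : {e // e ∈ T} → ℤ, ∀ e, c e = ⌈x e - 1 / 2⌉ := ⟨_, fun _ => rfl⟩
    obtain ⟨m, hm1, hm2⟩ := exists_sol_ring ℤ (PhiStab.spanEnds ends T) hT c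
      (b - (Tᶜ.card : ℤ))
    have hdeg : PhiStab.totDeg m Tᶜ = b := by
      unfold PhiStab.totDeg
      rw [hm2]
      ring
    refine ⟨m, hdeg, ?_⟩
    apply hnd m Tᶜ (by rw [hφ, hdeg])
    intro S _ _
    have h0 := sum_psi_univ ends T φ m b hφ hdeg
    have hside : ∀ e, |∑ v ∈ PhiStab.side (PhiStab.spanEnds ends T) e, psi ends T φ m v|
        ≤ 1 / 2 := by
      intro e
      have hsum : ∑ v ∈ PhiStab.side (PhiStab.spanEnds ends T) e, psi ends T φ m v =
          x e - ((c e : ℤ) : ℝ) := by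
        rw [hx e, ← hm1 e]
        push_cast
        rw [← Finset.sum_sub_distrib]
        refine Finset.sum_congr rfl fun v _ => ?_
        simp only [psi]
        ring
      rw [hsum, hc e, abs_le]
      have h1 := Int.le_ceil (x e - 1 / 2)
      have h2 := Int.ceil_lt_add_one (x e - 1 / 2)
      constructor <;> linarith
    have hb := sum_le_of_side_bound (PhiStab.spanEnds ends T) hT (psi ends T φ m) h0 (1 / 2)
      hside S
    have hβ := beta_eq_psi ends T φ m S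
    have h3 : 0 ≤ beta ends φ m Tᶜ S := by rw [hβ]; linarith
    unfold beta at h3
    linarith
  obtain ⟨m, hm⟩ := hex
  refine ⟨m, hm, ?_⟩
  intro m' hm'
  have hbd : ∀ (m₁ : V → ℤ), PhiStab.totDeg m₁ Tᶜ = b → PhiStab.IsStable ends φ m₁ Tᶜ →
      ∀ e, |∑ v ∈ PhiStab.side (PhiStab.spanEnds ends T) e, psi ends T φ m₁ v| < 1 / 2 := by
    intro m₁ hd hs e
    apply abs_side_lt ends T b φ hφ m₁ hd hs
    · exact ⟨(PhiStab.spanEnds ends T e).1,
        (mem_side (PhiStab.spanEnds ends T) e _).mpr Relation.ReflTransGen.refl⟩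
    · intro h
      apply snd_notMem_side (PhiStab.spanEnds ends T) hT e
      rw [h]
      exact Finset.mem_univ _
    · exact cut_side (PhiStab.spanEnds ends T) hT e
  have hz : ∀ e, ∑ v ∈ PhiStab.side (PhiStab.spanEnds ends T) e,
      ((m' v : ℝ) - (m v : ℝ)) = 0 := by
    intro e
    have h1 := hbd m hm.1 hm.2 e
    have h2 := hbd m' hm'.1 hm'.2 e
    have hdiff : ∑ v ∈ PhiStab.side (PhiStab.spanEnds ends T) e, psi ends T φ m v -
        ∑ v ∈ PhiStab.side (PhiStab.spanEnds ends T) e, psi ends T φ m' v =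
        ∑ v ∈ PhiStab.side (PhiStab.spanEnds ends T) e, ((m' v : ℝ) - (m v : ℝ)) := by
      rw [← Finset.sum_sub_distrib]
      refine Finset.sum_congr rfl fun v _ => ?_
      simp only [psi]
      ring
    have hint : ∑ v ∈ PhiStab.side (PhiStab.spanEnds ends T) e, ((m' v : ℝ) - (m v : ℝ)) =
        ((∑ v ∈ PhiStab.side (PhiStab.spanEnds ends T) e, (m' v - m v) : ℤ) : ℝ) := by
      rw [Int.cast_sum]
      exact Finset.sum_congr rfl (fun v _ => (Int.cast_sub _ _).symm)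
    have habs : |((∑ v ∈ PhiStab.side (PhiStab.spanEnds ends T) e, (m' v - m v) : ℤ) : ℝ)|
        < 1 := by
      rw [← hint, ← hdiff]
      rw [abs_lt] at h1 h2 ⊢
      constructor <;> linarith
    have habs' : |(∑ v ∈ PhiStab.side (PhiStab.spanEnds ends T) e, (m' v - m v) : ℤ)| < 1 := by
      exact_mod_cast habs
    rw [hint, Int.abs_lt_one_iff.mp habs']
    simp
  have htotal : ∑ v, ((m' v : ℝ) - (m v : ℝ)) = 0 := by
    have h1 := congrArg (Int.cast : ℤ → ℝ) hm.1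
    have h2 := congrArg (Int.cast : ℤ → ℝ) hm'.1
    unfold PhiStab.totDeg at h1 h2
    push_cast at h1 h2
    rw [Finset.sum_sub_distrib]
    linarith
  obtain ⟨χ, _, huniq⟩ := main18382 (PhiStab.spanEnds ends T) hT (fun _ => 0) 0
  have e1 : (fun v => (m' v : ℝ) - (m v : ℝ)) = χ := huniq _ ⟨hz, htotal⟩
  have e2 : (fun _ : V => (0 : ℝ)) = χ := huniq _ ⟨fun e => by simp, by simp⟩
  funext v
  have h3 : (m' v : ℝ) - (m v : ℝ) = 0 := congrFun (e1.trans e2.symm) v
  have h4 : (m' v : ℝ) = (m v : ℝ) := by linarith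
  exact_mod_cast h4

end Groth.Agent.Lib.Helper29.PhiStabTree
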