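import Mathlib
import Groth.Prelude.Def_W4c5modbuncurvesppStab
import Groth.Agent.Lib.Helper29.GraphBridge
import Groth.Agent.Lib.Helper29.PhiStabElem
import Groth.Agent.Lib.Helper29.PhiStabTree

set_option autoImplicit false

open Finset

namespace Groth.Agent.Lib.Helper29.PhiStabPoly

open Groth.Agent.Lib.Helper29.GraphInc Groth.Agent.Lib.Helper29.GraphSub
  Groth.Agent.Lib.Helper29.GraphBridge Groth.Agent.Lib.Helper29.PhiStabElem
  Groth.Agent.Lib.Helper29.PhiStabTree

universe u

variable {V E : Type u} [Fintype V] [Fintype E] [DecidableEq V] [DecidableEq E]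

/-- a spanning tree inside a connecting edge set -/
theorem exists_spanning_within (ends : E → V × V) (F : Finset E)
    (hF : ∀ a b, Relation.ReflTransGen (AdjOn ends F) a b) :
    ∃ T : Finset E, T ⊆ F ∧ NoEven ends T ∧
      ∀ a b, Relation.ReflTransGen (AdjOn ends T) a b := by
  classical
  have hne : (F.powerset.filter fun T : Finset E => NoEven ends T).Nonempty :=
    ⟨∅, Finset.mem_filter.mpr ⟨Finset.empty_mem_powerset F, fun D hD hDne => by
      exfalso
      obtain ⟨x, hx⟩ := hDne
      exact absurd (hD hx) (Finset.notMem_empty x)⟩⟩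
  obtain ⟨T, hTmem, hTmax⟩ := Finset.exists_max_image _ Finset.card hne
  rw [Finset.mem_filter, Finset.mem_powerset] at hTmem
  obtain ⟨hTF, hTne⟩ := hTmem
  refine ⟨T, hTF, hTne, ?_⟩
  by_contra hnot
  push Not at hnot
  obtain ⟨a, b, hab⟩ := hnot
  have hex : ∃ e ∈ F, ¬ (Relation.ReflTransGen (AdjOn ends T) a (ends e).1 ↔
      Relation.ReflTransGen (AdjOn ends T) a (ends e).2) := by
    by_contra hno
    push Not at hno
    have hcl : ∀ c, Relation.ReflTransGen (AdjOn ends F) a c →
        Relation.ReflTransGen (AdjOn ends T) a c := by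
      intro c hc
      induction hc with
      | refl => exact Relation.ReflTransGen.refl
      | tail _ hbc ih =>
        obtain ⟨e, heF, he | he⟩ := hbc
        · have h1 := hno e heF
          rw [he] at h1
          exact h1.mp ih
        · have h1 := hno e heF
          rw [he] at h1
          exact h1.mpr ih
    exact hab (hcl b (hF a b))
  obtain ⟨e, heF, he⟩ := hex
  have heT : e ∉ T := fun heT => he (reachOn_step ends a e heT)
  have hins := noEven_insert ends T hTne a e he
  have hcard := hTmax (insert e T) (Finset.mem_filter.mpr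
    ⟨Finset.mem_powerset.mpr (Finset.insert_subset heF hTF), hins⟩)
  rw [Finset.card_insert_of_notMem heT] at hcard
  omega

/-- for an elementary set there is a spanning tree crossing it exactly once -/
theorem exists_tree_crossing_once (ends : E → V × V) (hG : LabGraph.Connected ends)
    (S : Finset V) (hS : PhiStab.IsElementary ends S) :
    ∃ T : Finset E, DualGr.IsTree (PhiStab.spanEnds ends T) ∧
      LabGraph.cut (PhiStab.spanEnds ends T) S = 1 := by
  classical
  have hS1 : ConnOn ends S := connOn_of_connected_indEnds ends S hS.1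
  have hS2 : ConnOn ends Sᶜ := connOn_of_connected_indEnds ends Sᶜ hS.2
  obtain ⟨⟨p0, hp0⟩, hr1⟩ := hS1
  obtain ⟨⟨q0, hq0⟩, hr2⟩ := hS2
  have hq0' : q0 ∉ S := Finset.mem_compl.mp hq0
  obtain ⟨e0, he0⟩ := exists_crossing ends S (hG.2 p0 q0) hp0 hq0'
  obtain ⟨F, hF⟩ : ∃ F : Finset E,
      F = insert e0 (PhiStab.inner ends S ∪ PhiStab.inner ends Sᶜ) := ⟨_, rfl⟩
  have hin1 : ∀ a b, AdjIn ends S a b → AdjOn ends F a b := by
    rintro a b ⟨e, he, ha, hb⟩
    refine ⟨e, ?_, he⟩
    rw [hF]
    apply Finset.mem_insert_of_mem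
    apply Finset.mem_union_left
    simp only [PhiStab.inner, Finset.mem_filter, Finset.mem_univ, true_and]
    rcases he with he | he
    · rw [he]; exact ⟨ha, hb⟩
    · rw [he]; exact ⟨hb, ha⟩
  have hin2 : ∀ a b, AdjIn ends Sᶜ a b → AdjOn ends F a b := by
    rintro a b ⟨e, he, ha, hb⟩
    refine ⟨e, ?_, he⟩
    rw [hF]
    apply Finset.mem_insert_of_mem
    apply Finset.mem_union_right
    simp only [PhiStab.inner, Finset.mem_filter, Finset.mem_univ, true_and]
    rcases he with he | he
    · rw [he]; exact ⟨ha, hb⟩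
    · rw [he]; exact ⟨hb, ha⟩
  have lift1 : ∀ a b, Relation.ReflTransGen (AdjIn ends S) a b →
      Relation.ReflTransGen (AdjOn ends F) a b := by
    intro a b h
    induction h with
    | refl => exact Relation.ReflTransGen.refl
    | tail _ hbc ih => exact Relation.ReflTransGen.tail ih (hin1 _ _ hbc)
  have lift2 : ∀ a b, Relation.ReflTransGen (AdjIn ends Sᶜ) a b →
      Relation.ReflTransGen (AdjOn ends F) a b := by
    intro a b h
    induction h with
    | refl => exact Relation.ReflTransGen.refl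
    | tail _ hbc ih => exact Relation.ReflTransGen.tail ih (hin2 _ _ hbc)
  have he0F : e0 ∈ F := by rw [hF]; exact Finset.mem_insert_self _ _
  obtain ⟨p, q, hp, hq, hpq⟩ : ∃ p q, p ∈ S ∧ q ∈ Sᶜ ∧ AdjOn ends F q p := by
    rcases he0 with ⟨h1, h2⟩ | ⟨h1, h2⟩
    · exact ⟨(ends e0).1, (ends e0).2, h1, Finset.mem_compl.mpr h2, e0, he0F,
        Or.inr (Prod.ext rfl rfl)⟩
    · exact ⟨(ends e0).2, (ends e0).1, h2, Finset.mem_compl.mpr h1, e0, he0F,
        Or.inl (Prod.ext rfl rfl)⟩
  have hall : ∀ a, Relation.ReflTransGen (AdjOn ends F) a p := by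
    intro a
    by_cases ha : a ∈ S
    · exact lift1 a p (hr1 a ha p hp)
    · exact Relation.ReflTransGen.tail
        (lift2 a q (hr2 a (Finset.mem_compl.mpr ha) q hq)) hpq
  have hFreach : ∀ a b, Relation.ReflTransGen (AdjOn ends F) a b := fun a b =>
    (hall a).trans (reachOn_symm ends F (hall b))
  obtain ⟨T, hTF, hTne, hTreach⟩ := exists_spanning_within ends F hFreach
  have hTree : DualGr.IsTree (PhiStab.spanEnds ends T) :=
    ⟨⟨hG.1, fun a b => (rtg_sub_iff ends T a b).mpr (hTreach a b)⟩,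
      (noEven_iff_isForest ends T).mp hTne⟩
  refine ⟨T, hTree, ?_⟩
  have honly : ∀ e ∈ T, (((ends e).1 ∈ S ∧ (ends e).2 ∉ S) ∨
      ((ends e).1 ∉ S ∧ (ends e).2 ∈ S)) → e = e0 := by
    intro e heT hx
    have hmem := hTF heT
    rw [hF, Finset.mem_insert, Finset.mem_union] at hmem
    rcases hmem with h | h | h
    · exact h
    · exfalso
      simp only [PhiStab.inner, Finset.mem_filter, Finset.mem_univ, true_and] at h
      rcases hx with ⟨_, h2⟩ | ⟨h1, _⟩
      · exact h2 h.2
      · exact h1 h.1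
    · exfalso
      simp only [PhiStab.inner, Finset.mem_filter, Finset.mem_univ, true_and,
        Finset.mem_compl] at h
      rcases hx with ⟨h1, _⟩ | ⟨_, h2⟩
      · exact h.1 h1
      · exact h.2 h2
  obtain ⟨e', he'⟩ := exists_crossing (PhiStab.spanEnds ends T) S (hTree.1.2 p0 q0) hp0 hq0'
  unfold LabGraph.cut
  rw [Finset.card_eq_one]
  refine ⟨e', ?_⟩
  ext e''
  rw [Finset.mem_filter, Finset.mem_singleton]
  constructor
  · rintro ⟨_, h⟩
    apply Subtype.ext
    rw [honly e''.1 e''.2 h, honly e'.1 e'.2 he']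
  · intro h
    rw [h]
    exact ⟨Finset.mem_univ _, he'⟩

/-! ### S18376 -/

theorem main18376 (ends : E → V × V)
    (hconn : LabGraph.Connected ends) (b : ℤ) (φ₁ φ₂ : V → ℝ) (h₁ : (∑ v : V, φ₁ v) = (b : ℝ))
    (h₂ : (∑ v : V, φ₂ v) = (b : ℝ)) (hnd : PhiStab.Nondegenerate ends φ₁) :
    (∀ (m : V → ℤ) (N : Finset E), PhiStab.totDeg m N = b → PhiStab.IsStable ends φ₁ m N →
        PhiStab.IsSemistable ends φ₂ m N) ↔
      PhiStab.InClosedPolytope ends φ₁ φ₂ := by
  constructor
  · intro h S hS d hd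
    obtain ⟨T, hT, hcut⟩ := exists_tree_crossing_once ends hconn S hS
    obtain ⟨m, ⟨hm1, hm2⟩, _⟩ := main18375 ends T hT b φ₁ h₁ hnd
    have hss := h m Tᶜ hm1 hm2
    obtain ⟨hSne, hSnu⟩ := ne_of_elementary ends S hS
    have hlt := beta_lt_one_of_cut_one ends T b φ₁ h₁ m hm1 hm2 S hSne hSnu hcut
    have h2 := hss S hSne hSnu
    unfold PhiStab.ell at hd ⊢
    unfold beta at hlt
    have hdd : PhiStab.degOn ends m Tᶜ S ≤ d := by
      have h3 : ((PhiStab.degOn ends m Tᶜ S : ℤ) : ℝ) < ((d + 1 : ℤ) : ℝ) := by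
        push_cast
        linarith
      have h4 : PhiStab.degOn ends m Tᶜ S < d + 1 := by exact_mod_cast h3
      omega
    have h5 : ((PhiStab.degOn ends m Tᶜ S : ℤ) : ℝ) ≤ (d : ℝ) := by exact_mod_cast hdd
    linarith
  · intro h m N hdeg hst
    have hdeg2 : (∑ v : V, φ₂ v) = (PhiStab.totDeg m N : ℝ) := by rw [h₂, hdeg]
    rw [(main18374 ends hconn φ₂ m N hdeg2).1]
    intro S hS
    obtain ⟨hSne, hSnu⟩ := ne_of_elementary ends S hS
    have h1 := hst S hSne hSnu
    have h3 := h S hS (PhiStab.degOn ends m N S) (by unfold PhiStab.ell; linarith)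
    unfold PhiStab.ell at h3
    linarith

end Groth.Agent.Lib.Helper29.PhiStabPoly
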