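import Mathlib

set_option autoImplicit false
universe u

namespace Groth.Agent.Lib.Helper29.Pinch1

open Polynomial

variable (B : Type u) [CommRing B] (b : B)

noncomputable abbrev fb : Polynomial B := Polynomial.X ^ 2 - Polynomial.C b

noncomputable abbrev zb : AdjoinRoot (fb B b) := AdjoinRoot.root (fb B b)

noncomputable abbrev Ψ : MvPolynomial (Fin 2) B →ₐ[B] Polynomial (AdjoinRoot (fb B b)) :=
  MvPolynomial.aeval ![Polynomial.C (zb B b) * Polynomial.X, Polynomial.X]

noncomputable abbrev gen : MvPolynomial (Fin 2) B :=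
  MvPolynomial.X 0 ^ 2 - MvPolynomial.C b * MvPolynomial.X 1 ^ 2

lemma z_sq : zb B b ^ 2 = algebraMap B (AdjoinRoot (fb B b)) b := by
  have h := AdjoinRoot.eval₂_root (fb B b)
  rw [Polynomial.eval₂_sub, Polynomial.eval₂_pow, Polynomial.eval₂_X, Polynomial.eval₂_C,
    sub_eq_zero] at h
  rw [AdjoinRoot.algebraMap_eq]; exact h

lemma Ψ_X0 : Ψ B b (MvPolynomial.X 0) = Polynomial.C (zb B b) * Polynomial.X := by simp [Ψ]
lemma Ψ_X1 : Ψ B b (MvPolynomial.X 1) = Polynomial.X := by simp [Ψ]

noncomputable def N (P Q : Polynomial B) : MvPolynomial (Fin 2) B :=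
  Polynomial.aeval (MvPolynomial.X 1 : MvPolynomial (Fin 2) B) P
    + MvPolynomial.X 0 * Polynomial.aeval (MvPolynomial.X 1 : MvPolynomial (Fin 2) B) Q

lemma LI (p q : B)
    (h : algebraMap B (AdjoinRoot (fb B b)) p
      + zb B b * algebraMap B (AdjoinRoot (fb B b)) q = 0) :
    p = 0 ∧ q = 0 := by
  rcases subsingleton_or_nontrivial B with hB | hB
  · exact ⟨Subsingleton.elim _ _, Subsingleton.elim _ _⟩
  have hmonic : (fb B b).Monic := Polynomial.monic_X_pow_sub_C b (by norm_num)
  have hdeg : (fb B b).degree = 2 := by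
    have := Polynomial.degree_X_pow_sub_C (R := B) (n := 2) (by norm_num) b
    simpa using this
  have e : algebraMap B (AdjoinRoot (fb B b)) p
      + zb B b * algebraMap B (AdjoinRoot (fb B b)) q
      = AdjoinRoot.mk (fb B b) (C p + X * C q) := by
    simp only [map_add, map_mul, AdjoinRoot.mk_X]
    rfl
  rw [e, AdjoinRoot.mk_eq_zero] at h
  have hz : (C p + X * C q : Polynomial B) = 0 := by
    by_contra hne
    refine hmonic.not_dvd_of_degree_lt hne ?_ h
    rw [hdeg]
    have h1 : (C p + X * C q : Polynomial B).degree ≤ 1 := by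
      refine (Polynomial.degree_add_le _ _).trans (max_le ?_ ?_)
      · exact Polynomial.degree_C_le.trans zero_le_one
      · refine (Polynomial.degree_mul_le _ _).trans ?_
        calc (X : Polynomial B).degree + (C q).degree ≤ 1 + 0 :=
              add_le_add Polynomial.degree_X_le Polynomial.degree_C_le
          _ = 1 := add_zero _
    exact lt_of_le_of_lt h1 (by exact_mod_cast (by norm_num : (1 : ℕ) < 2))
  constructor
  · have := congrArg (fun r => Polynomial.coeff r 0) hz
    simpa using this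
  · have := congrArg (fun r => Polynomial.coeff r 1) hz
    simpa using this

lemma Ψ_aeval (P : Polynomial B) :
    Ψ B b (Polynomial.aeval (MvPolynomial.X 1 : MvPolynomial (Fin 2) B) P)
      = P.map (algebraMap B (AdjoinRoot (fb B b))) := by
  rw [← Polynomial.aeval_algHom_apply, Ψ_X1]
  exact Polynomial.mapAlg_eq_map _ P

lemma Ψ_N (P Q : Polynomial B) :
    Ψ B b (N B P Q) = P.map (algebraMap B (AdjoinRoot (fb B b)))
      + Polynomial.C (zb B b) * (Polynomial.X * Q.map (algebraMap B (AdjoinRoot (fb B b)))) := by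
  rw [N, map_add, map_mul, Ψ_aeval, Ψ_aeval, Ψ_X0, mul_assoc]

lemma coeff_Ψ_N_zero (P Q : Polynomial B) :
    (Ψ B b (N B P Q)).coeff 0 = algebraMap B (AdjoinRoot (fb B b)) (P.coeff 0) := by
  rw [Ψ_N, Polynomial.coeff_add, Polynomial.coeff_map, Polynomial.coeff_C_mul,
    Polynomial.coeff_X_mul_zero, mul_zero, add_zero]

lemma coeff_Ψ_N_succ (P Q : Polynomial B) (m : ℕ) :
    (Ψ B b (N B P Q)).coeff (m + 1) = algebraMap B (AdjoinRoot (fb B b)) (P.coeff (m + 1))
      + zb B b * algebraMap B (AdjoinRoot (fb B b)) (Q.coeff m) := by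
  rw [Ψ_N, Polynomial.coeff_add, Polynomial.coeff_map, Polynomial.coeff_C_mul,
    Polynomial.coeff_X_mul, Polynomial.coeff_map]

lemma NF (F : MvPolynomial (Fin 2) B) :
    ∃ P Q : Polynomial B, F - N B P Q ∈ Ideal.span {gen B b} := by
  have hgen : gen B b ∈ Ideal.span {gen B b} := Ideal.subset_span rfl
  induction F using MvPolynomial.induction_on with
  | C a =>
    refine ⟨Polynomial.C a, 0, ?_⟩
    have : (MvPolynomial.C a : MvPolynomial (Fin 2) B) - N B (Polynomial.C a) 0 = 0 := by
      rw [N, Polynomial.aeval_C, map_zero, mul_zero, add_zero]; exact sub_self _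
    rw [this]; exact zero_mem _
  | add F G hF hG =>
    obtain ⟨P1, Q1, h1⟩ := hF; obtain ⟨P2, Q2, h2⟩ := hG
    refine ⟨P1 + P2, Q1 + Q2, ?_⟩
    have : F + G - N B (P1 + P2) (Q1 + Q2) = (F - N B P1 Q1) + (G - N B P2 Q2) := by
      simp only [N, map_add]; ring
    rw [this]; exact add_mem h1 h2
  | mul_X F n hF =>
    obtain ⟨P, Q, h⟩ := hF
    obtain rfl | rfl : n = 0 ∨ n = 1 := by fin_cases n <;> simp
    · refine ⟨Polynomial.C b * Polynomial.X ^ 2 * Q, P, ?_⟩
      have : F * MvPolynomial.X 0 - N B (Polynomial.C b * Polynomial.X ^ 2 * Q) P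
          = (F - N B P Q) * MvPolynomial.X 0
            + gen B b * Polynomial.aeval (MvPolynomial.X 1 : MvPolynomial (Fin 2) B) Q := by
        simp only [N, map_mul, map_pow, Polynomial.aeval_C, Polynomial.aeval_X, gen]
        rw [show algebraMap B (MvPolynomial (Fin 2) B) b = MvPolynomial.C b from rfl]
        ring
      rw [this]
      exact add_mem (Ideal.mul_mem_right _ _ h) (Ideal.mul_mem_right _ _ hgen)
    · refine ⟨P * Polynomial.X, Q * Polynomial.X, ?_⟩
      have : F * MvPolynomial.X 1 - N B (P * Polynomial.X) (Q * Polynomial.X)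
          = (F - N B P Q) * MvPolynomial.X 1 := by
        simp only [N, map_mul, Polynomial.aeval_X]; ring
      rw [this]
      exact Ideal.mul_mem_right _ _ h

lemma gen_mem_ker : Ψ B b (gen B b) = 0 := by
  rw [gen, map_sub, map_pow, map_mul, map_pow, Ψ_X0, Ψ_X1, mul_pow, ← Polynomial.C_pow, z_sq,
    MvPolynomial.aeval_C, Polynomial.algebraMap_apply, sub_self]

theorem ker_eq : RingHom.ker (Ψ B b).toRingHom = Ideal.span {gen B b} := by
  have hle : Ideal.span {gen B b} ≤ RingHom.ker (Ψ B b).toRingHom := by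
    rw [Ideal.span_le, Set.singleton_subset_iff]
    exact RingHom.mem_ker.mpr (gen_mem_ker B b)
  apply le_antisymm
  · intro F hF
    have hF0 : Ψ B b F = 0 := RingHom.mem_ker.mp hF
    obtain ⟨P, Q, hPQ⟩ := NF B b F
    have h0 : Ψ B b (N B P Q) = 0 := by
      have h1 : Ψ B b (F - N B P Q) = 0 := RingHom.mem_ker.mp (hle hPQ)
      rw [map_sub, hF0, zero_sub, neg_eq_zero] at h1
      exact h1
    have hP : P = 0 := by
      ext n
      rw [Polynomial.coeff_zero]
      cases n with
      | zero =>
        have h2 := coeff_Ψ_N_zero B b P Q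
        rw [h0, Polynomial.coeff_zero] at h2
        have := LI B b (P.coeff 0) 0 (by rw [map_zero, mul_zero, add_zero]; exact h2.symm)
        exact this.1
      | succ m =>
        have h2 := coeff_Ψ_N_succ B b P Q m
        rw [h0, Polynomial.coeff_zero] at h2
        exact (LI B b _ _ h2.symm).1
    have hQ : Q = 0 := by
      ext m
      rw [Polynomial.coeff_zero]
      have h2 := coeff_Ψ_N_succ B b P Q m
      rw [h0, Polynomial.coeff_zero] at h2
      exact (LI B b _ _ h2.symm).2
    have hN : N B P Q = 0 := by rw [hP, hQ, N, map_zero, mul_zero, add_zero]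
    rw [hN, sub_zero] at hPQ
    exact hPQ
  · exact hle

lemma pow_mem (k n : ℕ) : Polynomial.monomial (n + 1) (zb B b ^ k) ∈ (Ψ B b).range := by
  induction k using Nat.twoStepInduction with
  | zero =>
    rw [AlgHom.mem_range]
    refine ⟨MvPolynomial.X 1 ^ (n + 1), ?_⟩
    rw [map_pow, Ψ_X1, pow_zero, Polynomial.X_pow_eq_monomial]
  | one =>
    rw [AlgHom.mem_range]
    refine ⟨MvPolynomial.X 0 * MvPolynomial.X 1 ^ n, ?_⟩
    rw [map_mul, map_pow, Ψ_X0, Ψ_X1, pow_one, mul_assoc, ← pow_succ',
      Polynomial.X_pow_eq_monomial, Polynomial.C_mul_monomial, mul_one]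
  | more k ih1 ih2 =>
    have : Polynomial.monomial (n + 1) (zb B b ^ (k + 2))
        = b • Polynomial.monomial (n + 1) (zb B b ^ k) := by
      rw [Polynomial.smul_monomial, Algebra.smul_def, ← z_sq, ← pow_add, add_comm 2 k]
    rw [this]
    exact Subalgebra.smul_mem _ ih1 b

lemma mono_mem (g : AdjoinRoot (fb B b)) (n : ℕ) :
    Polynomial.monomial (n + 1) g ∈ (Ψ B b).range := by
  induction g using AdjoinRoot.induction_on with
  | ih h =>
    induction h using Polynomial.induction_on' with
    | add p q hp hq =>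
      rw [map_add, map_add]; exact add_mem hp hq
    | monomial k a =>
      have : Polynomial.monomial (n + 1) (AdjoinRoot.mk (fb B b) (Polynomial.monomial k a))
          = a • Polynomial.monomial (n + 1) (zb B b ^ k) := by
        rw [Polynomial.smul_monomial, Algebra.smul_def,
          ← Polynomial.C_mul_X_pow_eq_monomial (R := B), map_mul, map_pow, AdjoinRoot.mk_X]
        rfl
      rw [this]
      exact Subalgebra.smul_mem _ (pow_mem B b k n) a

lemma X_mul_mem (H : Polynomial (AdjoinRoot (fb B b))) :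
    Polynomial.X * H ∈ (Ψ B b).range := by
  induction H using Polynomial.induction_on' with
  | add p q hp hq => rw [mul_add]; exact add_mem hp hq
  | monomial n g =>
    rw [mul_comm, Polynomial.monomial_mul_X]
    exact mono_mem B b g n

theorem range_mem (G : Polynomial (AdjoinRoot (fb B b)))
    (hG : ∃ c : B, G.coeff 0 = algebraMap B (AdjoinRoot (fb B b)) c) :
    G ∈ (Ψ B b).range := by
  obtain ⟨c, hc⟩ := hG
  rw [← Polynomial.divX_mul_X_add G, hc, mul_comm]
  refine add_mem (X_mul_mem B b _) ?_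
  rw [← Polynomial.algebraMap_apply]
  exact Subalgebra.algebraMap_mem _ c

theorem main18121 (B : Type u) [CommRing B] (b : B) :
    letI Ψ : MvPolynomial (Fin 2) B →ₐ[B] Polynomial (AdjoinRoot (Polynomial.X ^ 2 - Polynomial.C b)) :=
      MvPolynomial.aeval
        ![Polynomial.C (AdjoinRoot.root (Polynomial.X ^ 2 - Polynomial.C b)) * Polynomial.X, Polynomial.X]
    RingHom.ker Ψ.toRingHom =
        Ideal.span {MvPolynomial.X 0 ^ 2 - MvPolynomial.C b * MvPolynomial.X 1 ^ 2} ∧
      ∀ G : Polynomial (AdjoinRoot (Polynomial.X ^ 2 - Polynomial.C b)),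
        (∃ c : B, G.coeff 0 = algebraMap B (AdjoinRoot (Polynomial.X ^ 2 - Polynomial.C b)) c) →
          G ∈ Ψ.range :=
  ⟨ker_eq B b, range_mem B b⟩

end Groth.Agent.Lib.Helper29.Pinch1
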