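import Mathlib

set_option autoImplicit false
universe u

namespace Groth.Agent.Lib.Helper29.PinchDer

open MvPolynomial

noncomputable abbrev RR (K : Type u) [Field K] : Subalgebra K (MvPolynomial (Fin 2) K) :=
  Algebra.adjoin K {MvPolynomial.X 0 ^ 2, MvPolynomial.X 0 * MvPolynomial.X 1, MvPolynomial.X 1}

theorem aux (K : Type u) [Field K] [NeZero (2 : K)]
    (δ : Derivation K (RR K) (MvPolynomial (Fin 2) K)) :
    ∃! D : Derivation K (MvPolynomial (Fin 2) K) (MvPolynomial (Fin 2) K),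
        ∀ r : RR K, D (r : MvPolynomial (Fin 2) K) = δ r := by
  classical
  have hxx : (X 0 ^ 2 : MvPolynomial (Fin 2) K) ∈ RR K := Algebra.subset_adjoin (by simp)
  have hxy : (X 0 * X 1 : MvPolynomial (Fin 2) K) ∈ RR K := Algebra.subset_adjoin (by simp)
  have hyy : (X 1 : MvPolynomial (Fin 2) K) ∈ RR K := Algebra.subset_adjoin (by simp)
  obtain ⟨A, hA⟩ : ∃ A, A = δ ⟨_, hxx⟩ := ⟨_, rfl⟩
  obtain ⟨B, hB⟩ : ∃ B, B = δ ⟨_, hxy⟩ := ⟨_, rfl⟩
  obtain ⟨C', hC⟩ : ∃ C', C' = δ ⟨_, hyy⟩ := ⟨_, rfl⟩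
  have hrel : (⟨_, hxy⟩ : RR K) * ⟨_, hxy⟩ = ⟨_, hxx⟩ * (⟨_, hyy⟩ * ⟨_, hyy⟩) := by
    apply Subtype.ext
    simp only [MulMemClass.coe_mul]
    ring
  have h1 := congrArg δ hrel
  rw [Derivation.leibniz, Derivation.leibniz, Derivation.leibniz, ← hA, ← hB, ← hC] at h1
  simp only [Subalgebra.smul_def, smul_eq_mul, MulMemClass.coe_mul] at h1
  have hyA : X 1 * A = 2 * X 0 * (B - X 0 * C') :=
    mul_left_cancel₀ (X_ne_zero (1 : Fin 2) : (X 1 : MvPolynomial (Fin 2) K) ≠ 0)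
      (by linear_combination -h1)
  have hdvd : (X 0 : MvPolynomial (Fin 2) K) ∣ A := by
    have h2 : (X 0 : MvPolynomial (Fin 2) K) ∣ X 1 * A :=
      ⟨2 * (B - X 0 * C'), by rw [hyA]; ring⟩
    rcases X_dvd_mul_iff.mp h2 with h3 | h3
    · exact absurd (X_dvd_X.mp h3) (by decide)
    · exact h3
  obtain ⟨c, hc⟩ := hdvd
  have hyc : X 1 * c = 2 * (B - X 0 * C') := by
    apply mul_left_cancel₀ (X_ne_zero (0 : Fin 2) : (X 0 : MvPolynomial (Fin 2) K) ≠ 0)
    rw [hc] at hyA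
    linear_combination hyA
  have h2 : (2 : MvPolynomial (Fin 2) K) * C (2⁻¹ : K) = 1 := by
    rw [show (2 : MvPolynomial (Fin 2) K) = C (2 : K) from (map_ofNat C 2).symm, ← C_mul,
      mul_inv_cancel₀ (NeZero.ne (2 : K)), C_1]
  obtain ⟨a, ha⟩ : ∃ a, a = C (2⁻¹ : K) * c := ⟨_, rfl⟩
  have ha1 : 2 * X 0 * a = A := by rw [ha, hc]; linear_combination (X 0 * c) * h2
  have ha2 : X 1 * a = B - X 0 * C' := by
    rw [ha]; linear_combination (C (2⁻¹ : K)) * hyc + (B - X 0 * C') * h2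
  obtain ⟨D, hD⟩ : ∃ D : Derivation K (MvPolynomial (Fin 2) K) (MvPolynomial (Fin 2) K),
      D = mkDerivation K ![a, C'] := ⟨_, rfl⟩
  have hD0 : D (X 0) = a := by rw [hD, mkDerivation_X]; simp
  have hD1 : D (X 1) = C' := by rw [hD, mkDerivation_X]; simp
  have key : ∀ (s : MvPolynomial (Fin 2) K) (hs : s ∈ RR K), D s = δ ⟨s, hs⟩ := by
    intro s hs
    induction hs using Algebra.adjoin_induction with
    | mem s hs =>
      simp only [Set.mem_insert_iff, Set.mem_singleton_iff] at hs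
      rcases hs with rfl | rfl | rfl
      · show D (X 0 ^ 2) = δ ⟨X 0 ^ 2, hxx⟩
        rw [← hA, pow_two, Derivation.leibniz, hD0, smul_eq_mul]
        linear_combination ha1
      · show D (X 0 * X 1) = δ ⟨X 0 * X 1, hxy⟩
        rw [← hB, Derivation.leibniz, hD0, hD1, smul_eq_mul, smul_eq_mul]
        linear_combination ha2
      · show D (X 1) = δ ⟨X 1, hyy⟩
        rw [← hC, hD1]
    | algebraMap r =>
      show D (algebraMap K _ r) = δ (algebraMap K (RR K) r)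
      rw [Derivation.map_algebraMap, Derivation.map_algebraMap]
    | add s t hs ht ihs iht =>
      show D (s + t) = δ (⟨s, hs⟩ + ⟨t, ht⟩)
      rw [map_add, map_add, ihs, iht]
    | mul s t hs ht ihs iht =>
      show D (s * t) = δ (⟨s, hs⟩ * ⟨t, ht⟩)
      rw [Derivation.leibniz, Derivation.leibniz, ihs, iht]
      rfl
  refine ⟨D, fun r => key r.1 r.2, ?_⟩
  intro D' hD'
  apply MvPolynomial.derivation_ext
  intro i
  fin_cases i
  · show D' (X 0) = D (X 0)
    rw [hD0]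
    have e1 : D' (X 0 ^ 2) = A := by rw [hA]; exact hD' ⟨_, hxx⟩
    rw [pow_two, Derivation.leibniz, smul_eq_mul] at e1
    have e2 : 2 * D' (X 0) = c := by
      apply mul_left_cancel₀ (X_ne_zero (0 : Fin 2) : (X 0 : MvPolynomial (Fin 2) K) ≠ 0)
      rw [← hc]; linear_combination e1
    rw [ha, ← e2]
    linear_combination (-(D' (X 0))) * h2
  · show D' (X 1) = D (X 1)
    rw [hD1, hC]
    exact hD' ⟨_, hyy⟩

theorem main18122
    (K : Type u) [Field K] [NeZero (2 : K)] :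
    letI R : Subalgebra K (MvPolynomial (Fin 2) K) :=
      Algebra.adjoin K {MvPolynomial.X 0 ^ 2, MvPolynomial.X 0 * MvPolynomial.X 1, MvPolynomial.X 1}
    ∀ δ : Derivation K R (MvPolynomial (Fin 2) K),
      ∃! D : Derivation K (MvPolynomial (Fin 2) K) (MvPolynomial (Fin 2) K),
        ∀ r : R, D (r : MvPolynomial (Fin 2) K) = δ r :=
  fun δ => aux K δ

end Groth.Agent.Lib.Helper29.PinchDer
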