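import Mathlib
import Groth.Agent.Lib.Helper29.PinchDer

set_option autoImplicit false
universe u

namespace Groth.Agent.Lib.Helper29.PinchDer2

open MvPolynomial
open Groth.Agent.Lib.Helper29.PinchDer (RR)

variable (K : Type u) [Field K]

/-- evaluation `y ↦ 0`. -/
noncomputable def E : MvPolynomial (Fin 2) K →ₐ[K] Polynomial K :=
  MvPolynomial.aeval ![Polynomial.X, 0]

lemma E_X0 : E K (X 0) = Polynomial.X := by simp [E]
lemma E_X1 : E K (X 1) = 0 := by simp [E]
lemma E_C (a : K) : E K (C a) = Polynomial.C a := by simp [E]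

lemma hxx : (X 0 ^ 2 : MvPolynomial (Fin 2) K) ∈ RR K := Algebra.subset_adjoin (by simp)
lemma hxy : (X 0 * X 1 : MvPolynomial (Fin 2) K) ∈ RR K := Algebra.subset_adjoin (by simp)
lemma hyy : (X 1 : MvPolynomial (Fin 2) K) ∈ RR K := Algebra.subset_adjoin (by simp)

lemma y_mul_mem (s : MvPolynomial (Fin 2) K) : X 1 * s ∈ RR K := by
  induction s using MvPolynomial.induction_on' with
  | monomial m a =>
    have hm : (monomial m a : MvPolynomial (Fin 2) K) = C a * (X 0 ^ (m 0) * X 1 ^ (m 1)) := by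
      rw [monomial_eq, Finsupp.prod_fintype _ _ (fun i => by simp), Fin.prod_univ_two]
    rw [hm]
    have hCa : (C a : MvPolynomial (Fin 2) K) ∈ RR K := by
      rw [show (C a : MvPolynomial (Fin 2) K) = algebraMap K (MvPolynomial (Fin 2) K) a from rfl]
      exact Subalgebra.algebraMap_mem _ a
    obtain ⟨k, hk | hk⟩ := Nat.even_or_odd' (m 0)
    · have key : C a * ((X 0 ^ 2) ^ k * X 1 ^ (m 1 + 1)) ∈ RR K :=
        mul_mem hCa (mul_mem (pow_mem (hxx K) k) (pow_mem (hyy K) _))
      convert key using 1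
      rw [hk]; ring
    · have key : C a * ((X 0 ^ 2) ^ k * (X 0 * X 1) * X 1 ^ (m 1)) ∈ RR K :=
        mul_mem hCa (mul_mem (mul_mem (pow_mem (hxx K) k) (hxy K)) (pow_mem (hyy K) _))
      convert key using 1
      rw [hk]; ring
  | add p q hp hq =>
    rw [mul_add]; exact add_mem hp hq

lemma E_mem (f : MvPolynomial (Fin 2) K) (hf : f ∈ RR K) :
    ∃ q, E K f = Polynomial.expand K 2 q := by
  induction hf using Algebra.adjoin_induction with
  | mem s hs =>
    simp only [Set.mem_insert_iff, Set.mem_singleton_iff] at hs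
    rcases hs with rfl | rfl | rfl
    · exact ⟨Polynomial.X, by rw [map_pow, E_X0, Polynomial.expand_X]⟩
    · exact ⟨0, by rw [map_mul, E_X1, mul_zero, map_zero]⟩
    · exact ⟨0, by rw [E_X1, map_zero]⟩
  | algebraMap r =>
    exact ⟨Polynomial.C r, by
      rw [Polynomial.expand_C, AlgHom.commutes]
      rfl⟩
  | add s t hs ht ihs iht =>
    obtain ⟨q1, h1⟩ := ihs; obtain ⟨q2, h2⟩ := iht
    exact ⟨q1 + q2, by rw [map_add, map_add, h1, h2]⟩
  | mul s t hs ht ihs iht =>
    obtain ⟨q1, h1⟩ := ihs; obtain ⟨q2, h2⟩ := iht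
    exact ⟨q1 * q2, by rw [map_mul, map_mul, h1, h2]⟩

lemma decomp (f : MvPolynomial (Fin 2) K) :
    ∃ s : MvPolynomial (Fin 2) K,
      f = X 1 * s + Polynomial.aeval (X 0 : MvPolynomial (Fin 2) K) (E K f) := by
  induction f using MvPolynomial.induction_on with
  | C a => exact ⟨0, by rw [E_C, Polynomial.aeval_C, mul_zero, zero_add]; rfl⟩
  | add p q hp hq =>
    obtain ⟨s1, h1⟩ := hp; obtain ⟨s2, h2⟩ := hq
    refine ⟨s1 + s2, ?_⟩
    rw [map_add, map_add]
    linear_combination h1 + h2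
  | mul_X p n hp =>
    obtain ⟨s, h⟩ := hp
    obtain rfl | rfl : n = 0 ∨ n = 1 := by fin_cases n <;> simp
    · refine ⟨s * X 0, ?_⟩
      rw [map_mul, E_X0, map_mul, Polynomial.aeval_X]
      linear_combination (X 0) * h
    · refine ⟨p, ?_⟩
      rw [map_mul, E_X1, mul_zero, map_zero]
      ring

lemma L1 (g q : Polynomial K) (h : Polynomial.X * g = Polynomial.expand K 2 q) :
    ∃ p, g = Polynomial.X * Polynomial.expand K 2 p := by
  have hg : ∀ n, g.coeff n = if 2 ∣ n + 1 then q.coeff ((n + 1) / 2) else 0 := by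
    intro n
    rw [← Polynomial.coeff_X_mul g n, h, Polynomial.coeff_expand (by norm_num : 0 < 2)]
  refine ⟨q.divX, ?_⟩
  ext n
  cases n with
  | zero =>
    rw [hg, Polynomial.coeff_X_mul_zero, if_neg (by norm_num)]
  | succ m =>
    rw [hg, Polynomial.coeff_X_mul, Polynomial.coeff_expand (by norm_num : 0 < 2),
      Polynomial.coeff_divX]
    by_cases hm : 2 ∣ m
    · have h2 : 2 ∣ m + 1 + 1 := by omega
      rw [if_pos hm, if_pos h2]
      congr 1
      omega
    · have h2 : ¬ 2 ∣ m + 1 + 1 := by omega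
      rw [if_neg hm, if_neg h2]

lemma L2 (h q1 q2 : Polynomial K) (h1 : h = Polynomial.expand K 2 q1)
    (h2 : Polynomial.X * h = Polynomial.expand K 2 q2) : h = 0 := by
  ext n
  rw [Polynomial.coeff_zero]
  by_cases hn : 2 ∣ n
  · have : ¬ 2 ∣ n + 1 := by omega
    rw [← Polynomial.coeff_X_mul h n, h2, Polynomial.coeff_expand (by norm_num : 0 < 2),
      if_neg this]
  · rw [h1, Polynomial.coeff_expand (by norm_num : 0 < 2), if_neg hn]

theorem main18123 (K : Type u) [Field K] [NeZero (2 : K)]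
    (D : Derivation K (MvPolynomial (Fin 2) K) (MvPolynomial (Fin 2) K)) :
    letI x : MvPolynomial (Fin 2) K := MvPolynomial.X 0
    letI y : MvPolynomial (Fin 2) K := MvPolynomial.X 1
    letI R : Subalgebra K (MvPolynomial (Fin 2) K) := Algebra.adjoin K {x ^ 2, x * y, y}
    (∀ r ∈ R, D r ∈ R) ↔
      (D y ∈ Ideal.span {y} ∧
        ∃ (s : MvPolynomial (Fin 2) K) (p : Polynomial K),
          D x = y * s + x * Polynomial.aeval (x ^ 2) p) := by
  show (∀ r ∈ RR K, D r ∈ RR K) ↔
    (D (X 1) ∈ Ideal.span {(X 1 : MvPolynomial (Fin 2) K)} ∧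
      ∃ (s : MvPolynomial (Fin 2) K) (p : Polynomial K),
        D (X 0) = X 1 * s + X 0 * Polynomial.aeval (X 0 ^ 2 : MvPolynomial (Fin 2) K) p)
  constructor
  · intro hR
    obtain ⟨s, hs⟩ := decomp K (D (X 0))
    obtain ⟨u, hu⟩ := decomp K (D (X 1))
    obtain ⟨q1, hq1⟩ := E_mem K _ (hR _ (hyy K))
    obtain ⟨q2, hq2⟩ := E_mem K _ (hR _ (hxy K))
    obtain ⟨q3, hq3⟩ := E_mem K _ (hR _ (hxx K))
    rw [Derivation.leibniz, map_add, smul_eq_mul, smul_eq_mul, map_mul, map_mul, E_X0, E_X1,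
      zero_mul, add_zero] at hq2
    have hzero := L2 K _ q1 q2 hq1 hq2
    have e3 : D (X 0 ^ 2) = X 0 * D (X 0) + X 0 * D (X 0) := by
      rw [pow_two, Derivation.leibniz, smul_eq_mul]
    rw [e3, map_add, map_mul, E_X0] at hq3
    have h2 : (2 : Polynomial K) * Polynomial.C (2⁻¹ : K) = 1 := by
      rw [show (2 : Polynomial K) = Polynomial.C (2 : K) from (map_ofNat Polynomial.C 2).symm,
        ← Polynomial.C_mul, mul_inv_cancel₀ (NeZero.ne (2 : K)), Polynomial.C_1]
    have hq3' : Polynomial.X * E K (D (X 0))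
        = Polynomial.expand K 2 (Polynomial.C (2⁻¹ : K) * q3) := by
      rw [map_mul, Polynomial.expand_C, ← hq3]
      linear_combination (-(Polynomial.X * E K (D (X 0)))) * h2
    obtain ⟨p, hp⟩ := L1 K _ _ hq3'
    refine ⟨?_, s, p, ?_⟩
    · rw [Ideal.mem_span_singleton']
      refine ⟨u, ?_⟩
      rw [hzero, map_zero, add_zero] at hu
      rw [mul_comm]; exact hu.symm
    · rw [hp, map_mul, Polynomial.aeval_X, Polynomial.expand_aeval] at hs
      exact hs
  · rintro ⟨hy, s, p, hx⟩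
    rw [Ideal.mem_span_singleton'] at hy
    obtain ⟨u, hu⟩ := hy
    have hp : Polynomial.aeval (X 0 ^ 2 : MvPolynomial (Fin 2) K) p ∈ RR K := by
      have h1 := Polynomial.aeval_mem_adjoin_singleton K (X 0 ^ 2 : MvPolynomial (Fin 2) K) (p := p)
      exact Algebra.adjoin_mono (by simp) h1
    intro r hr
    induction hr using Algebra.adjoin_induction with
    | mem r hr =>
      simp only [Set.mem_insert_iff, Set.mem_singleton_iff] at hr
      rcases hr with rfl | rfl | rfl
      · have e3 : D (X 0 ^ 2) = X 1 * (2 * X 0 * s)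
            + (X 0 ^ 2 * Polynomial.aeval (X 0 ^ 2 : MvPolynomial (Fin 2) K) p
              + X 0 ^ 2 * Polynomial.aeval (X 0 ^ 2 : MvPolynomial (Fin 2) K) p) := by
          have e4 : D (X 0 ^ 2) = X 0 * D (X 0) + X 0 * D (X 0) := by
            rw [pow_two, Derivation.leibniz, smul_eq_mul]
          rw [e4, hx]; ring
        rw [e3]
        exact add_mem (y_mul_mem K _) (add_mem (mul_mem (hxx K) hp) (mul_mem (hxx K) hp))
      · have e3 : D (X 0 * X 1) = X 1 * (X 0 * u + D (X 0)) := by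
          rw [Derivation.leibniz, smul_eq_mul, smul_eq_mul, ← hu]; ring
        rw [e3]; exact y_mul_mem K _
      · rw [← hu, mul_comm]; exact y_mul_mem K _
    | algebraMap a => rw [Derivation.map_algebraMap]; exact zero_mem _
    | add a b ha hb iha ihb => rw [map_add]; exact add_mem iha ihb
    | mul a b ha hb iha ihb =>
      rw [Derivation.leibniz, smul_eq_mul, smul_eq_mul]
      exact add_mem (mul_mem ha ihb) (mul_mem hb iha)

end Groth.Agent.Lib.Helper29.PinchDer2
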