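import Mathlib
import Groth.Prelude.Def_W4c5spincurvestfNode

set_option autoImplicit false
universe u

namespace Groth.Agent.Lib.Helper29.PolyNode

open MvPolynomial

section
variable (k : Type u) [Field k]

abbrev A := SpinCurv.PolyNodeRing k 0

noncomputable abbrev I : Ideal (MvPolynomial (Fin 2) k) :=
  Ideal.span {(X 0 * X 1 - C 0 : MvPolynomial (Fin 2) k)}

theorem L1 (g : MvPolynomial (Fin 2) k) (h : ∀ d ∈ g.support, 1 ≤ d 0 ∧ 1 ≤ d 1) :
    g ∈ I k := by
  have hxy : (X 0 * X 1 : MvPolynomial (Fin 2) k) ∈ I k :=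
    Ideal.mem_span_singleton'.mpr ⟨1, by rw [one_mul, C_0, sub_zero]⟩
  have hX : (X 0 * X 1 : MvPolynomial (Fin 2) k) =
      monomial (Finsupp.single 0 1 + Finsupp.single 1 1) 1 := by
    simp only [X, monomial_mul, mul_one]
  rw [g.as_sum]
  refine Ideal.sum_mem _ fun d hd => ?_
  obtain ⟨h0, h1⟩ := h d hd
  have hle : Finsupp.single 0 1 + Finsupp.single 1 1 ≤ d := by
    rw [Finsupp.le_def]
    intro i
    obtain rfl | rfl : i = 0 ∨ i = 1 := by fin_cases i <;> simp
    · simpa using h0
    · simpa using h1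
  have : monomial d (coeff d g) =
      monomial (d - (Finsupp.single 0 1 + Finsupp.single 1 1)) (coeff d g) * (X 0 * X 1) := by
    rw [hX, monomial_mul, mul_one, tsub_add_cancel_of_le hle]
  rw [this]
  exact Ideal.mul_mem_left _ _ hxy

theorem L2 (g : MvPolynomial (Fin 2) k) (h : aeval ![(Polynomial.X : Polynomial k), 0] g = 0)
    (d : Fin 2 →₀ ℕ) (hd : d 1 = 0) : coeff d g = 0 := by
  classical
  by_contra hne
  have hmem : d ∈ g.support := mem_support_iff.mpr hne
  have h1 : Polynomial.coeff (aeval ![(Polynomial.X : Polynomial k), 0] g) (d 0) = 0 := by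
    rw [h, Polynomial.coeff_zero]
  rw [aeval_def, eval₂_eq', Polynomial.finsetSum_coeff, Finset.sum_eq_single_of_mem d hmem] at h1
  · apply hne
    rw [Fin.prod_univ_two] at h1
    simpa [hd] using h1
  · intro e _ hed
    rw [Fin.prod_univ_two]
    by_cases he1 : e 1 = 0
    · have he0 : e 0 ≠ d 0 := by
        intro h0
        apply hed
        refine Finsupp.ext fun i => ?_
        obtain rfl | rfl : i = 0 ∨ i = 1 := by fin_cases i <;> simp
        · exact h0
        · rw [he1, hd]
      simp [he1, Polynomial.coeff_X_pow, Ne.symm he0]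
    · simp [zero_pow he1]

theorem L2' (g : MvPolynomial (Fin 2) k) (h : aeval ![(0 : Polynomial k), Polynomial.X] g = 0)
    (d : Fin 2 →₀ ℕ) (hd : d 0 = 0) : coeff d g = 0 := by
  classical
  by_contra hne
  have hmem : d ∈ g.support := mem_support_iff.mpr hne
  have h1 : Polynomial.coeff (aeval ![(0 : Polynomial k), Polynomial.X] g) (d 1) = 0 := by
    rw [h, Polynomial.coeff_zero]
  rw [aeval_def, eval₂_eq', Polynomial.finsetSum_coeff, Finset.sum_eq_single_of_mem d hmem] at h1
  · apply hne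
    rw [Fin.prod_univ_two] at h1
    simpa [hd] using h1
  · intro e _ hed
    rw [Fin.prod_univ_two]
    by_cases he0 : e 0 = 0
    · have he1 : e 1 ≠ d 1 := by
        intro h0
        apply hed
        refine Finsupp.ext fun i => ?_
        obtain rfl | rfl : i = 0 ∨ i = 1 := by fin_cases i <;> simp
        · rw [he0, hd]
        · exact h0
      simp [he0, Polynomial.coeff_X_pow, Ne.symm he1]
    · simp [zero_pow he0]

theorem inj (g : MvPolynomial (Fin 2) k)
    (hx : aeval ![(Polynomial.X : Polynomial k), 0] g = 0)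
    (hy : aeval ![(0 : Polynomial k), Polynomial.X] g = 0) : g ∈ I k := by
  apply L1
  intro d hd
  have hne := mem_support_iff.mp hd
  constructor
  · by_contra h0
    exact hne (L2' k g hy d (by omega))
  · by_contra h1
    exact hne (L2 k g hx d (by omega))

theorem kerx (a : MvPolynomial (Fin 2) k) (ha : a ∈ I k) :
    aeval ![(Polynomial.X : Polynomial k), 0] a = 0 := by
  obtain ⟨c, rfl⟩ := Ideal.mem_span_singleton'.mp ha
  simp

theorem kery (a : MvPolynomial (Fin 2) k) (ha : a ∈ I k) :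
    aeval ![(0 : Polynomial k), Polynomial.X] a = 0 := by
  obtain ⟨c, rfl⟩ := Ideal.mem_span_singleton'.mp ha
  simp

noncomputable def φx : A k →ₐ[k] Polynomial k :=
  Ideal.Quotient.liftₐ (I k) (aeval ![(Polynomial.X : Polynomial k), 0]) (kerx k)

noncomputable def φy : A k →ₐ[k] Polynomial k :=
  Ideal.Quotient.liftₐ (I k) (aeval ![(0 : Polynomial k), Polynomial.X]) (kery k)

theorem φx_mk (g : MvPolynomial (Fin 2) k) :
    φx k (Ideal.Quotient.mk (I k) g) = aeval ![(Polynomial.X : Polynomial k), 0] g := by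
  rw [φx, Ideal.Quotient.liftₐ_apply, Ideal.Quotient.lift_mk]; rfl

theorem φy_mk (g : MvPolynomial (Fin 2) k) :
    φy k (Ideal.Quotient.mk (I k) g) = aeval ![(0 : Polynomial k), Polynomial.X] g := by
  rw [φy, Ideal.Quotient.liftₐ_apply, Ideal.Quotient.lift_mk]; rfl

theorem φx_x : φx k (SpinCurv.PolyNodeRing.x k 0) = Polynomial.X := by
  show φx k (Ideal.Quotient.mk (I k) (X 0)) = _
  rw [φx_mk, aeval_X]; simp

theorem φx_y : φx k (SpinCurv.PolyNodeRing.y k 0) = 0 := by
  show φx k (Ideal.Quotient.mk (I k) (X 1)) = _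
  rw [φx_mk, aeval_X]; simp

theorem φy_x : φy k (SpinCurv.PolyNodeRing.x k 0) = 0 := by
  show φy k (Ideal.Quotient.mk (I k) (X 0)) = _
  rw [φy_mk, aeval_X]; simp

theorem φy_y : φy k (SpinCurv.PolyNodeRing.y k 0) = Polynomial.X := by
  show φy k (Ideal.Quotient.mk (I k) (X 1)) = _
  rw [φy_mk, aeval_X]; simp

end

theorem main18435 (k : Type u) [Field k]
    (rU : SpinCurv.PolyNodeRing k 0 →ₐ[k] SpinCurv.PolyNodeRing k 0)
    (hrUx : rU (SpinCurv.PolyNodeRing.x k 0) = 0)
    (hrUy : rU (SpinCurv.PolyNodeRing.y k 0) = SpinCurv.PolyNodeRing.y k 0)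
    (rV : SpinCurv.PolyNodeRing k 0 →ₐ[k] SpinCurv.PolyNodeRing k 0)
    (hrVx : rV (SpinCurv.PolyNodeRing.x k 0) = SpinCurv.PolyNodeRing.y k 0)
    (hrVy : rV (SpinCurv.PolyNodeRing.y k 0) = 0)
    (gU : SpinCurv.PolyNodeRing k 0 →ₐ[k] LaurentPolynomial k)
    (hgUs : gU (SpinCurv.PolyNodeRing.x k 0) = LaurentPolynomial.T 1)
    (hgUy : gU (SpinCurv.PolyNodeRing.y k 0) = 0)
    (gV : SpinCurv.PolyNodeRing k 0 →ₐ[k] LaurentPolynomial k)
    (hgVt : gV (SpinCurv.PolyNodeRing.x k 0) = LaurentPolynomial.T (-1))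
    (hgVx : gV (SpinCurv.PolyNodeRing.y k 0) = 0)
    (g f : SpinCurv.PolyNodeRing k 0) (hsec : gU g = LaurentPolynomial.T 1 * gV f)
    (hx : rU (SpinCurv.PolyNodeRing.x k 0) * g = 0 ∧ rV (SpinCurv.PolyNodeRing.x k 0) * f = 0)
    (hy : rU (SpinCurv.PolyNodeRing.y k 0) * g = 0 ∧ rV (SpinCurv.PolyNodeRing.y k 0) * f = 0) :
    g = 0 ∧ f = 0 := by
  have hyg : SpinCurv.PolyNodeRing.y k 0 * g = 0 := by
    have := hy.1
    rwa [hrUy] at this
  have hyf : SpinCurv.PolyNodeRing.y k 0 * f = 0 := by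
    have := hx.2
    rwa [hrVx] at this
  have hφyg : φy k g = 0 := by
    have := congrArg (φy k) hyg
    rw [map_mul, φy_y, map_zero (φy k)] at this
    exact (mul_eq_zero.mp this).resolve_left Polynomial.X_ne_zero
  have hφyf : φy k f = 0 := by
    have := congrArg (φy k) hyf
    rw [map_mul, φy_y, map_zero (φy k)] at this
    exact (mul_eq_zero.mp this).resolve_left Polynomial.X_ne_zero
  have hgU : gU = (Polynomial.toLaurentAlg).comp (φx k) := by
    apply Ideal.Quotient.algHom_ext k
    apply MvPolynomial.algHom_ext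
    intro i
    obtain rfl | rfl : i = 0 ∨ i = 1 := by fin_cases i <;> simp
    · show gU (SpinCurv.PolyNodeRing.x k 0) =
        Polynomial.toLaurentAlg (φx k (SpinCurv.PolyNodeRing.x k 0))
      rw [hgUs, φx_x, Polynomial.toLaurentAlg_apply, Polynomial.toLaurent_X]
    · show gU (SpinCurv.PolyNodeRing.y k 0) =
        Polynomial.toLaurentAlg (φx k (SpinCurv.PolyNodeRing.y k 0))
      rw [hgUy, φx_y, map_zero]
  have hgV : gV = (Polynomial.aeval (LaurentPolynomial.T (-1) : LaurentPolynomial k)).comp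
      (φx k) := by
    apply Ideal.Quotient.algHom_ext k
    apply MvPolynomial.algHom_ext
    intro i
    obtain rfl | rfl : i = 0 ∨ i = 1 := by fin_cases i <;> simp
    · show gV (SpinCurv.PolyNodeRing.x k 0) =
        Polynomial.aeval (LaurentPolynomial.T (-1) : LaurentPolynomial k)
          (φx k (SpinCurv.PolyNodeRing.x k 0))
      rw [hgVt, φx_x, Polynomial.aeval_X]
    · show gV (SpinCurv.PolyNodeRing.y k 0) =
        Polynomial.aeval (LaurentPolynomial.T (-1) : LaurentPolynomial k)
          (φx k (SpinCurv.PolyNodeRing.y k 0))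
      rw [hgVx, φx_y, map_zero]
  have hev : ∀ t : A k, (φx k t).coeff 0 = (φy k t).coeff 0 := by
    have h : ((Polynomial.aeval (0 : k)).comp (φx k) : A k →ₐ[k] k) =
        (Polynomial.aeval (0 : k)).comp (φy k) := by
      apply Ideal.Quotient.algHom_ext k
      apply MvPolynomial.algHom_ext
      intro i
      obtain rfl | rfl : i = 0 ∨ i = 1 := by fin_cases i <;> simp
      · show Polynomial.aeval (0 : k) (φx k (SpinCurv.PolyNodeRing.x k 0)) =
          Polynomial.aeval (0 : k) (φy k (SpinCurv.PolyNodeRing.x k 0))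
        rw [φx_x, φy_x, Polynomial.aeval_X, map_zero]
      · show Polynomial.aeval (0 : k) (φx k (SpinCurv.PolyNodeRing.y k 0)) =
          Polynomial.aeval (0 : k) (φy k (SpinCurv.PolyNodeRing.y k 0))
        rw [φx_y, φy_y, Polynomial.aeval_X, map_zero]
    intro t
    rw [Polynomial.coeff_zero_eq_aeval_zero, Polynomial.coeff_zero_eq_aeval_zero]
    exact AlgHom.congr_fun h t
  obtain ⟨a₁, ha₁⟩ : Polynomial.X ∣ φx k g :=
    Polynomial.X_dvd_iff.mpr (by rw [hev, hφyg, Polynomial.coeff_zero])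
  obtain ⟨b₁, hb₁⟩ : Polynomial.X ∣ φx k f :=
    Polynomial.X_dvd_iff.mpr (by rw [hev, hφyf, Polynomial.coeff_zero])
  have hinv : ∀ p : Polynomial k,
      Polynomial.aeval (LaurentPolynomial.T (-1) : LaurentPolynomial k) p =
        LaurentPolynomial.invert (Polynomial.toLaurent p) := by
    have h : (Polynomial.aeval (LaurentPolynomial.T (-1) : LaurentPolynomial k)) =
        (LaurentPolynomial.invert : LaurentPolynomial k ≃ₐ[k] LaurentPolynomial k).toAlgHom.comp
          Polynomial.toLaurentAlg := by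
      apply Polynomial.algHom_ext
      simp
    intro p
    have := AlgHom.congr_fun h p
    simpa using this
  have heq : LaurentPolynomial.T 1 * Polynomial.toLaurent a₁ =
      LaurentPolynomial.invert (Polynomial.toLaurent b₁) := by
    have h1 : gU g = LaurentPolynomial.T 1 * Polynomial.toLaurent a₁ := by
      rw [hgU]
      show Polynomial.toLaurentAlg (φx k g) = _
      rw [ha₁, Polynomial.toLaurentAlg_apply, map_mul, Polynomial.toLaurent_X]
    have h2 : LaurentPolynomial.T 1 * gV f =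
        LaurentPolynomial.invert (Polynomial.toLaurent b₁) := by
      rw [hgV]
      show LaurentPolynomial.T 1 *
        Polynomial.aeval (LaurentPolynomial.T (-1) : LaurentPolynomial k) (φx k f) = _
      rw [hb₁, map_mul, Polynomial.aeval_X, ← mul_assoc, ← LaurentPolynomial.T_add, hinv,
        show (1 : ℤ) + -1 = 0 from by norm_num, LaurentPolynomial.T_zero, one_mul]
    rw [← h1, hsec, h2]
  have hpoly : Polynomial.X * a₁ * Polynomial.X ^ b₁.natDegree = b₁.reverse := by
    apply Polynomial.toLaurent_injective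
    rw [LaurentPolynomial.toLaurent_reverse, ← heq, map_mul, map_mul, Polynomial.toLaurent_X,
      Polynomial.toLaurent_X_pow]
  have ha₁0 : a₁ = 0 := by
    by_contra hne
    have hdeg : (Polynomial.X * a₁ * Polynomial.X ^ b₁.natDegree).natDegree =
        1 + a₁.natDegree + b₁.natDegree := by
      rw [Polynomial.natDegree_mul (mul_ne_zero Polynomial.X_ne_zero hne)
        (pow_ne_zero _ Polynomial.X_ne_zero), Polynomial.natDegree_mul Polynomial.X_ne_zero hne,
        Polynomial.natDegree_X, Polynomial.natDegree_X_pow]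
    have := Polynomial.reverse_natDegree_le b₁
    rw [← hpoly, hdeg] at this
    omega
  have hb₁0 : b₁ = 0 := by
    rw [ha₁0, mul_zero, zero_mul] at hpoly
    exact Polynomial.reverse_eq_zero.mp hpoly.symm
  have hzero : ∀ t : A k, φx k t = 0 → φy k t = 0 → t = 0 := by
    intro t h1 h2
    obtain ⟨t', rfl⟩ := Ideal.Quotient.mk_surjective t
    rw [φx_mk] at h1
    rw [φy_mk] at h2
    exact Ideal.Quotient.eq_zero_iff_mem.mpr (inj k t' h1 h2)
  exact ⟨hzero g (by rw [ha₁, ha₁0, mul_zero]) hφyg, hzero f (by rw [hb₁, hb₁0, mul_zero]) hφyf⟩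

end Groth.Agent.Lib.Helper29.PolyNode
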