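import Mathlib
import Groth.Prelude.Def_W4c5spincurvestfNode

/-!
# The `R`-basis `x^i (i ≥ 0), y^j (j ≥ 1)` of `R[x,y]/(xy - π)`, indexed by `ℤ`.
-/

set_option autoImplicit false
universe u

namespace Groth.Agent.Lib.Helper29.PolyNodeBasis

open MvPolynomial

def deg (d : Fin 2 →₀ ℕ) : ℤ := (d 0 : ℤ) - (d 1 : ℤ)
def mn (d : Fin 2 →₀ ℕ) : ℕ := min (d 0) (d 1)

section basis
variable (R : Type u) [CommRing R] (π : R)

/-- the defining ideal -/
noncomputable abbrev I : Ideal (MvPolynomial (Fin 2) R) :=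
  Ideal.span {(X 0 * X 1 - C π : MvPolynomial (Fin 2) R)}

abbrev A := SpinCurv.PolyNodeRing R π

noncomputable def Ψ₀ : MvPolynomial (Fin 2) R →ₗ[R] (ℤ →₀ R) :=
  (MvPolynomial.basisMonomials (Fin 2) R).constr R
    (fun d => Finsupp.single (deg d) (π ^ mn d))

theorem Ψ₀_monomial (d : Fin 2 →₀ ℕ) (r : R) :
    Ψ₀ R π (monomial d r) = Finsupp.single (deg d) (r * π ^ mn d) := by
  have h : (monomial d r : MvPolynomial (Fin 2) R) =
      r • (MvPolynomial.basisMonomials (Fin 2) R) d := by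
    simp only [coe_basisMonomials, smul_monomial, smul_eq_mul, mul_one]
  rw [h, map_smul, Ψ₀, Module.Basis.constr_basis, Finsupp.smul_single, smul_eq_mul]

theorem Ψ₀_mul_gen (c : MvPolynomial (Fin 2) R) :
    Ψ₀ R π (c * (X 0 * X 1 - C π)) = 0 := by
  refine MvPolynomial.induction_on' c (fun d r => ?_) (fun p q hp hq => ?_)
  · have hX : (X 0 * X 1 : MvPolynomial (Fin 2) R) =
        monomial ((Finsupp.single 0 1 : Fin 2 →₀ ℕ) + Finsupp.single 1 1) 1 := by
      simp only [X, monomial_mul, mul_one]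
    have h1 : (monomial d r : MvPolynomial (Fin 2) R) * (X 0 * X 1 - C π) =
        monomial (d + ((Finsupp.single 0 1 : Fin 2 →₀ ℕ) + Finsupp.single 1 1)) r -
          monomial d (r * π) := by
      rw [mul_sub, hX, monomial_mul, mul_one, C_apply, monomial_mul, add_zero]
    have e0 : (d + ((Finsupp.single 0 1 : Fin 2 →₀ ℕ) + Finsupp.single 1 1) : Fin 2 →₀ ℕ) 0 =
        d 0 + 1 := by
      simp
    have e1 : (d + ((Finsupp.single 0 1 : Fin 2 →₀ ℕ) + Finsupp.single 1 1) : Fin 2 →₀ ℕ) 1 =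
        d 1 + 1 := by
      simp
    have hdeg : deg (d + ((Finsupp.single 0 1 : Fin 2 →₀ ℕ) + Finsupp.single 1 1)) = deg d := by
      unfold deg; rw [e0, e1]; push_cast; ring
    have hmn : mn (d + ((Finsupp.single 0 1 : Fin 2 →₀ ℕ) + Finsupp.single 1 1)) = mn d + 1 := by
      unfold mn; rw [e0, e1]; omega
    have hs : r * π ^ (mn d + 1) = r * π * π ^ mn d := by ring
    rw [h1, map_sub, Ψ₀_monomial, Ψ₀_monomial, hdeg, hmn, hs, sub_self]
  · rw [add_mul, map_add, hp, hq, add_zero]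

theorem Ψ₀_mem (g : MvPolynomial (Fin 2) R) (hg : g ∈ I R π) : Ψ₀ R π g = 0 := by
  obtain ⟨c, rfl⟩ := Ideal.mem_span_singleton'.mp hg
  exact Ψ₀_mul_gen R π c

theorem Ψ_le : (I R π).restrictScalars R ≤ LinearMap.ker (Ψ₀ R π) := fun g hg =>
  LinearMap.mem_ker.mpr (Ψ₀_mem R π g ((Submodule.restrictScalars_mem R _ g).mp hg))

noncomputable def Ψ : A R π →ₗ[R] (ℤ →₀ R) :=
  (Submodule.liftQ ((I R π).restrictScalars R) (Ψ₀ R π) (Ψ_le R π)).comp
    (Submodule.Quotient.restrictScalarsEquiv R (I R π)).symm.toLinearMap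

theorem Ψ_mk (g : MvPolynomial (Fin 2) R) :
    Ψ R π (Ideal.Quotient.mk (I R π) g) = Ψ₀ R π g := by
  show (Submodule.liftQ ((I R π).restrictScalars R) (Ψ₀ R π) (Ψ_le R π))
    ((Submodule.Quotient.restrictScalarsEquiv R (I R π)).symm (Submodule.Quotient.mk g)) = _
  rw [Submodule.Quotient.restrictScalarsEquiv_symm_mk, Submodule.liftQ_apply]

theorem smulA (r : R) (z : A R π) : r • z = algebraMap R (A R π) r * z :=
  Algebra.smul_def r z

noncomputable def e (m : ℤ) : A R π :=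
  SpinCurv.PolyNodeRing.x R π ^ m.toNat * SpinCurv.PolyNodeRing.y R π ^ (-m).toNat

noncomputable def Φ : (ℤ →₀ R) →ₗ[R] A R π := Finsupp.linearCombination R (e R π)

theorem Φ_single (m : ℤ) (r : R) : Φ R π (Finsupp.single m r) = r • e R π m := by
  rw [Φ, Finsupp.linearCombination_single]

theorem mk_C (r : R) : Ideal.Quotient.mk (I R π) (C r) = algebraMap R (A R π) r := by
  rw [IsScalarTower.algebraMap_apply R (MvPolynomial (Fin 2) R) (A R π),
    Ideal.Quotient.algebraMap_eq, MvPolynomial.algebraMap_eq]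

theorem xy : SpinCurv.PolyNodeRing.x R π * SpinCurv.PolyNodeRing.y R π =
    algebraMap R (A R π) π := by
  rw [← mk_C]
  show Ideal.Quotient.mk (I R π) (X 0) * Ideal.Quotient.mk (I R π) (X 1) = _
  rw [← map_mul]
  exact Ideal.Quotient.eq.mpr (Ideal.subset_span (Set.mem_singleton _))

theorem xpow_ypow (c a b : ℕ) :
    SpinCurv.PolyNodeRing.x R π ^ (c + a) * SpinCurv.PolyNodeRing.y R π ^ (c + b) =
      (π ^ c) • (SpinCurv.PolyNodeRing.x R π ^ a * SpinCurv.PolyNodeRing.y R π ^ b) := by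
  rw [smulA, map_pow, ← xy, pow_add, pow_add, mul_pow]
  ring

theorem e_of_nonneg (m : ℤ) (h : 0 ≤ m) : e R π m = SpinCurv.PolyNodeRing.x R π ^ m.toNat := by
  have h0 : (-m).toNat = 0 := by omega
  rw [e, h0, pow_zero, mul_one]

theorem e_of_nonpos (m : ℤ) (h : m ≤ 0) :
    e R π m = SpinCurv.PolyNodeRing.y R π ^ (-m).toNat := by
  have h0 : m.toNat = 0 := by omega
  rw [e, h0, pow_zero, one_mul]

theorem Ψ_e (m : ℤ) : Ψ R π (e R π m) = Finsupp.single m 1 := by
  have h : e R π m = Ideal.Quotient.mk (I R π)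
      (monomial ((Finsupp.single 0 m.toNat : Fin 2 →₀ ℕ) + Finsupp.single 1 (-m).toNat) 1) := by
    unfold e
    show Ideal.Quotient.mk (I R π) (X 0) ^ _ * Ideal.Quotient.mk (I R π) (X 1) ^ _ = _
    rw [← map_pow, ← map_pow, ← map_mul, X_pow_eq_monomial, X_pow_eq_monomial, monomial_mul,
      one_mul]
  have e0 : ((Finsupp.single 0 m.toNat : Fin 2 →₀ ℕ) + Finsupp.single 1 (-m).toNat :
      Fin 2 →₀ ℕ) 0 = m.toNat := by simp
  have e1 : ((Finsupp.single 0 m.toNat : Fin 2 →₀ ℕ) + Finsupp.single 1 (-m).toNat :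
      Fin 2 →₀ ℕ) 1 = (-m).toNat := by simp
  have hdeg : deg ((Finsupp.single 0 m.toNat : Fin 2 →₀ ℕ) + Finsupp.single 1 (-m).toNat) =
      m := by
    unfold deg; rw [e0, e1]; omega
  have hmn : mn ((Finsupp.single 0 m.toNat : Fin 2 →₀ ℕ) + Finsupp.single 1 (-m).toNat) =
      0 := by
    unfold mn; rw [e0, e1]; omega
  rw [h, Ψ_mk, Ψ₀_monomial, hdeg, hmn, pow_zero, mul_one]

theorem mk_monomial (d : Fin 2 →₀ ℕ) (r : R) :
    Ideal.Quotient.mk (I R π) (monomial d r) = (r * π ^ mn d) • e R π (deg d) := by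
  have h0 : d 0 = mn d + (deg d).toNat := by unfold mn deg; omega
  have h1 : d 1 = mn d + (-deg d).toNat := by unfold mn deg; omega
  have hm : (monomial d r : MvPolynomial (Fin 2) R) = C r * (X 0 ^ d 0 * X 1 ^ d 1) := by
    rw [monomial_eq, Finsupp.prod_fintype _ _ (fun i => pow_zero _), Fin.prod_univ_two]
  have key := xpow_ypow R π (mn d) (deg d).toNat (-deg d).toNat
  rw [← h0, ← h1] at key
  rw [hm, map_mul, map_mul, map_pow, map_pow, mk_C, ← smulA]
  show r • (SpinCurv.PolyNodeRing.x R π ^ d 0 * SpinCurv.PolyNodeRing.y R π ^ d 1) = _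
  rw [key, smul_smul]
  rfl

theorem Φ_Ψ (a : A R π) : Φ R π (Ψ R π a) = a := by
  obtain ⟨g, rfl⟩ := Ideal.Quotient.mk_surjective a
  rw [Ψ_mk]
  refine MvPolynomial.induction_on' g (fun d r => ?_) (fun p q hp hq => ?_)
  · rw [Ψ₀_monomial, Φ_single, mk_monomial]
  · simp only [map_add, hp, hq]

theorem Ψ_Φ (h : ℤ →₀ R) : Ψ R π (Φ R π h) = h := by
  have : (Ψ R π).comp (Φ R π) = LinearMap.id := by
    apply Finsupp.lhom_ext
    intro m r
    rw [LinearMap.comp_apply, LinearMap.id_apply, Φ_single, map_smul, Ψ_e, Finsupp.smul_single,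
      smul_eq_mul, mul_one]
  exact LinearMap.congr_fun this h

theorem Φ_injective : Function.Injective (Φ R π) :=
  Function.LeftInverse.injective (Ψ_Φ R π)

/-! ### Laurent polynomial evaluations -/

theorem gamma_e (γ : A R π →ₐ[R] LaurentPolynomial R)
    (hx : γ (SpinCurv.PolyNodeRing.x R π) = LaurentPolynomial.T 1)
    (hy : γ (SpinCurv.PolyNodeRing.y R π) = LaurentPolynomial.C π * LaurentPolynomial.T (-1))
    (m : ℤ) :
    γ (e R π m) = LaurentPolynomial.C (π ^ (-m).toNat) * LaurentPolynomial.T m := by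
  have harith : ((m.toNat : ℤ) * 1 + ((-m).toNat : ℤ) * -1) = m := by omega
  rw [e, map_mul, map_pow, map_pow, hx, hy, mul_pow, LaurentPolynomial.T_pow,
    LaurentPolynomial.T_pow, ← map_pow, mul_left_comm, ← LaurentPolynomial.T_add, harith]

theorem coeff_gamma (γ : A R π →ₐ[R] LaurentPolynomial R)
    (hx : γ (SpinCurv.PolyNodeRing.x R π) = LaurentPolynomial.T 1)
    (hy : γ (SpinCurv.PolyNodeRing.y R π) = LaurentPolynomial.C π * LaurentPolynomial.T (-1))
    (a : ℤ →₀ R) (M : ℤ) :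
    (γ (Φ R π a)).coeff M = π ^ (-M).toNat * a M := by
  induction a using Finsupp.induction_linear with
  | zero => simp
  | add f g hf hg =>
    rw [map_add, map_add, AddMonoidAlgebra.coeff_add, Finsupp.add_apply, Finsupp.add_apply, hf, hg,
      mul_add]
  | single m r =>
    rw [Φ_single, map_smul, gamma_e R π γ hx hy, ← LaurentPolynomial.single_eq_C_mul_T,
      AddMonoidAlgebra.coeff_smul, AddMonoidAlgebra.coeff_single, Finsupp.smul_apply,
      Finsupp.single_apply, Finsupp.single_apply]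
    split_ifs with h
    · subst h; rw [smul_eq_mul, mul_comm]
    · rw [smul_zero, mul_zero]

theorem gamma'_e (γ : A R π →ₐ[R] LaurentPolynomial R)
    (hx : γ (SpinCurv.PolyNodeRing.x R π) = LaurentPolynomial.T (-1))
    (hy : γ (SpinCurv.PolyNodeRing.y R π) = LaurentPolynomial.C π * LaurentPolynomial.T 1)
    (m : ℤ) :
    γ (e R π m) = LaurentPolynomial.C (π ^ (-m).toNat) * LaurentPolynomial.T (-m) := by
  have harith : ((m.toNat : ℤ) * -1 + ((-m).toNat : ℤ) * 1) = -m := by omega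
  rw [e, map_mul, map_pow, map_pow, hx, hy, mul_pow, LaurentPolynomial.T_pow,
    LaurentPolynomial.T_pow, ← map_pow, mul_left_comm, ← LaurentPolynomial.T_add, harith]

theorem coeff_gamma' (γ : A R π →ₐ[R] LaurentPolynomial R)
    (hx : γ (SpinCurv.PolyNodeRing.x R π) = LaurentPolynomial.T (-1))
    (hy : γ (SpinCurv.PolyNodeRing.y R π) = LaurentPolynomial.C π * LaurentPolynomial.T 1)
    (a : ℤ →₀ R) (N : ℤ) :
    (γ (Φ R π a)).coeff N = π ^ N.toNat * a (-N) := by
  induction a using Finsupp.induction_linear with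
  | zero => simp
  | add f g hf hg =>
    rw [map_add, map_add, AddMonoidAlgebra.coeff_add, Finsupp.add_apply, Finsupp.add_apply, hf, hg,
      mul_add]
  | single m r =>
    rw [Φ_single, map_smul, gamma'_e R π γ hx hy, ← LaurentPolynomial.single_eq_C_mul_T,
      AddMonoidAlgebra.coeff_smul, AddMonoidAlgebra.coeff_single, Finsupp.smul_apply,
      Finsupp.single_apply, Finsupp.single_apply]
    by_cases h : m = -N
    · subst h
      rw [if_pos (neg_neg N), if_pos rfl, neg_neg, smul_eq_mul, mul_comm]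
    · have h' : ¬ (-m = N) := fun h' => h (by omega)
      rw [if_neg h', if_neg h, smul_zero, mul_zero]

end basis

end Groth.Agent.Lib.Helper29.PolyNodeBasis
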