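import Mathlib
import Groth.Agent.Lib.Helper29.PolyNodeBasis

/-!
# Global sections of the twisting sheaves on the two-chart blow-up of a node (polynomial model)
-/

set_option autoImplicit false
universe u

namespace Groth.Agent.Lib.Helper29.PolyNodeTwist

open Groth.Agent.Lib.Helper29.PolyNodeBasis
open LaurentPolynomial

section twist
variable (R : Type u) [CommRing R]

noncomputable def scA (p : R) (n : ℤ) : (ℤ →₀ R) →ₗ[R] (ℤ →₀ R) where
  toFun h := Finsupp.onFinset h.support (fun M => p ^ (M - n).toNat * h M) (by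
    intro M hM
    rw [Finsupp.mem_support_iff]
    intro h0
    exact hM (by show p ^ (M - n).toNat * h M = 0; rw [h0, mul_zero]))
  map_add' := by
    intro a b
    ext M
    simp only [Finsupp.onFinset_apply, Finsupp.add_apply, mul_add]
  map_smul' := by
    intro r a
    ext M
    simp only [Finsupp.onFinset_apply, Finsupp.smul_apply, smul_eq_mul, RingHom.id_apply]
    ring

theorem scA_apply (p : R) (n : ℤ) (h : ℤ →₀ R) (M : ℤ) :
    scA R p n h M = p ^ (M - n).toNat * h M := rfl

noncomputable def scB (q : R) (n : ℤ) : (ℤ →₀ R) →ₗ[R] (ℤ →₀ R) where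
  toFun h := Finsupp.onFinset (h.support.image (fun M => n - M))
    (fun k => q ^ (k - n).toNat * h (n - k)) (by
    intro k hk
    rw [Finset.mem_image]
    refine ⟨n - k, ?_, by ring⟩
    rw [Finsupp.mem_support_iff]
    intro h0
    exact hk (by show q ^ (k - n).toNat * h (n - k) = 0; rw [h0, mul_zero]))
  map_add' := by
    intro a b
    ext M
    simp only [Finsupp.onFinset_apply, Finsupp.add_apply, mul_add]
  map_smul' := by
    intro r a
    ext M
    simp only [Finsupp.onFinset_apply, Finsupp.smul_apply, smul_eq_mul, RingHom.id_apply]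
    ring

theorem scB_apply (q : R) (n : ℤ) (h : ℤ →₀ R) (k : ℤ) :
    scB R q n h k = q ^ (k - n).toNat * h (n - k) := rfl

theorem scA_single (p : R) (n M : ℤ) (r : R) :
    scA R p n (Finsupp.single M r) = Finsupp.single M (p ^ (M - n).toNat * r) := by
  ext k
  rw [scA_apply, Finsupp.single_apply, Finsupp.single_apply]
  split_ifs with h
  · subst h; rfl
  · rw [mul_zero]

theorem scB_single (q : R) (n M : ℤ) (r : R) :
    scB R q n (Finsupp.single M r) = Finsupp.single (n - M) (q ^ (-M).toNat * r) := by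
  ext k
  rw [scB_apply, Finsupp.single_apply, Finsupp.single_apply]
  by_cases h : M = n - k
  · have h' : n - M = k := by omega
    have h'' : k - n = -M := by omega
    rw [if_pos h, if_pos h', h'']
  · have h' : ¬ (n - M = k) := fun h' => h (by omega)
    rw [if_neg h, if_neg h', mul_zero]

noncomputable def θ (p q : R) (n : ℤ) : (ℤ →₀ R) →ₗ[R] (A R q × A R p) :=
  ((Φ R q).comp (scA R p n)).prod ((Φ R p).comp (scB R q n))

theorem θ_apply (p q : R) (n : ℤ) (h : ℤ →₀ R) :
    θ R p q n h = (Φ R q (scA R p n h), Φ R p (scB R q n h)) := rfl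

variable (p q : R) (n : ℤ)
  (gU : A R q →ₐ[R] LaurentPolynomial R)
  (hgUs : gU (SpinCurv.PolyNodeRing.x R q) = T 1)
  (hgUy : gU (SpinCurv.PolyNodeRing.y R q) = C q * T (-1))
  (gV : A R p →ₐ[R] LaurentPolynomial R)
  (hgVt : gV (SpinCurv.PolyNodeRing.x R p) = T (-1))
  (hgVx : gV (SpinCurv.PolyNodeRing.y R p) = C p * T 1)

include hgUs hgUy hgVt hgVx in
theorem star (a b : ℤ →₀ R) :
    gU (Φ R q a) = T n * gV (Φ R p b) ↔
      ∀ M : ℤ, q ^ (-M).toNat * a M = p ^ (M - n).toNat * b (n - M) := by
  have hV : ∀ M : ℤ, (T n * gV (Φ R p b)).coeff M = p ^ (M - n).toNat * b (n - M) := by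
    intro M
    have e1 : -n + M = M - n := by ring
    have e2 : -(M - n) = n - M := by ring
    show ((AddMonoidAlgebra.single n (1 : R) : LaurentPolynomial R) * gV (Φ R p b)).coeff M = _
    rw [AddMonoidAlgebra.coeff_single_mul_apply, one_mul, coeff_gamma' R p gV hgVt hgVx, e1, e2]
  constructor
  · intro h M
    rw [← coeff_gamma R q gU hgUs hgUy, h, hV]
  · intro h
    apply LaurentPolynomial.ext
    intro M
    rw [coeff_gamma R q gU hgUs hgUy, hV, h]

include hgUs hgUy hgVt hgVx in
theorem θ_mem (h : ℤ →₀ R) : gU (θ R p q n h).1 = T n * gV (θ R p q n h).2 := by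
  show gU (Φ R q (scA R p n h)) = T n * gV (Φ R p (scB R q n h))
  rw [star R p q n gU hgUs hgUy gV hgVt hgVx]
  intro M
  have e1 : n - M - n = -M := by ring
  have e2 : n - (n - M) = M := by ring
  rw [scA_apply, scB_apply, e1, e2]
  ring

noncomputable def hOf (a b : ℤ →₀ R) : ℤ →₀ R :=
  Finsupp.onFinset (a.support ∪ b.support.image (fun k => n - k))
    (fun M => if M ≤ n then a M else b (n - M)) (by
      intro M hM
      rw [Finset.mem_union, Finset.mem_image]
      by_cases hMn : M ≤ n
      · left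
        have hM' : a M ≠ 0 := by
          have : (if M ≤ n then a M else b (n - M)) ≠ 0 := hM
          rwa [if_pos hMn] at this
        exact Finsupp.mem_support_iff.mpr hM'
      · right
        have hM' : b (n - M) ≠ 0 := by
          have : (if M ≤ n then a M else b (n - M)) ≠ 0 := hM
          rwa [if_neg hMn] at this
        exact ⟨n - M, Finsupp.mem_support_iff.mpr hM', by ring⟩)

theorem hOf_apply (a b : ℤ →₀ R) (M : ℤ) :
    hOf R n a b M = if M ≤ n then a M else b (n - M) := rfl

include hgUs hgUy hgVt hgVx in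
theorem exists_of_mem (hn : -1 ≤ n) (g : A R q) (f : A R p) (hgf : gU g = T n * gV f) :
    ∃ h, θ R p q n h = (g, f) := by
  have hg : Φ R q (Ψ R q g) = g := Φ_Ψ R q g
  have hf : Φ R p (Ψ R p f) = f := Φ_Ψ R p f
  rw [← hg, ← hf, star R p q n gU hgUs hgUy gV hgVt hgVx] at hgf
  refine ⟨hOf R n (Ψ R q g) (Ψ R p f), ?_⟩
  have hA : scA R p n (hOf R n (Ψ R q g) (Ψ R p f)) = Ψ R q g := by
    ext M
    rw [scA_apply, hOf_apply]
    by_cases hM : M ≤ n
    · have h0 : (M - n).toNat = 0 := by omega
      rw [if_pos hM, h0, pow_zero, one_mul]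
    · have h0 : (-M).toNat = 0 := by omega
      rw [if_neg hM, ← hgf M, h0, pow_zero, one_mul]
  have hB : scB R q n (hOf R n (Ψ R q g) (Ψ R p f)) = Ψ R p f := by
    ext k
    rw [scB_apply, hOf_apply]
    by_cases hk : n - k ≤ n
    · rw [if_pos hk]
      have key := hgf (n - k)
      have e1 : -(n - k) = k - n := by ring
      have e2 : n - k - n = -k := by ring
      have e3 : n - (n - k) = k := by ring
      have h0 : (-k).toNat = 0 := by omega
      rw [e1, e2, e3, h0, pow_zero, one_mul] at key
      exact key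
    · have h0 : (k - n).toNat = 0 := by omega
      have e3 : n - (n - k) = k := by ring
      rw [if_neg hk, h0, pow_zero, one_mul, e3]
  rw [θ_apply, hA, hB, hg, hf]

theorem θ_injective (hn : -1 ≤ n) : Function.Injective (θ R p q n) := by
  rw [← LinearMap.ker_eq_bot, LinearMap.ker_eq_bot']
  intro h hh
  rw [θ_apply, Prod.mk_eq_zero] at hh
  have h1 : scA R p n h = 0 := Φ_injective R q (by rw [hh.1, map_zero])
  have h2 : scB R q n h = 0 := Φ_injective R p (by rw [hh.2, map_zero])
  ext M
  rw [Finsupp.zero_apply]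
  by_cases hM : M ≤ n
  · have key := DFunLike.congr_fun h1 M
    rw [scA_apply, Finsupp.zero_apply] at key
    have h0 : (M - n).toNat = 0 := by omega
    rwa [h0, pow_zero, one_mul] at key
  · have key := DFunLike.congr_fun h2 (n - M)
    rw [scB_apply, Finsupp.zero_apply] at key
    have e1 : n - M - n = -M := by ring
    have e2 : n - (n - M) = M := by ring
    have h0 : (-M).toNat = 0 := by omega
    rwa [e1, e2, h0, pow_zero, one_mul] at key

end twist

theorem main18436 (R : Type u) [CommRing R] (p q : R)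
    (gU : SpinCurv.PolyNodeRing R q →ₐ[R] LaurentPolynomial R)
    (hgUs : gU (SpinCurv.PolyNodeRing.x R q) = LaurentPolynomial.T 1)
    (hgUy : gU (SpinCurv.PolyNodeRing.y R q) = LaurentPolynomial.C q * LaurentPolynomial.T (-1))
    (gV : SpinCurv.PolyNodeRing R p →ₐ[R] LaurentPolynomial R)
    (hgVt : gV (SpinCurv.PolyNodeRing.x R p) = LaurentPolynomial.T (-1))
    (hgVx : gV (SpinCurv.PolyNodeRing.y R p) = LaurentPolynomial.C p * LaurentPolynomial.T 1)
    (n : ℤ) (hn : -1 ≤ n) :
    Module.Free R (LinearMap.ker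
      (gU.toLinearMap.comp (LinearMap.fst R (SpinCurv.PolyNodeRing R q) (SpinCurv.PolyNodeRing R p)) -
        (LinearMap.mulLeft R (LaurentPolynomial.T n)).comp
          (gV.toLinearMap.comp (LinearMap.snd R (SpinCurv.PolyNodeRing R q) (SpinCurv.PolyNodeRing R p))))) := by
  have hK : LinearMap.ker
      (gU.toLinearMap.comp (LinearMap.fst R (SpinCurv.PolyNodeRing R q) (SpinCurv.PolyNodeRing R p)) -
        (LinearMap.mulLeft R (LaurentPolynomial.T n)).comp
          (gV.toLinearMap.comp (LinearMap.snd R (SpinCurv.PolyNodeRing R q) (SpinCurv.PolyNodeRing R p)))) =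
      LinearMap.range (θ R p q n) := by
    ext gf
    rw [LinearMap.mem_ker, LinearMap.mem_range]
    constructor
    · intro h
      rw [LinearMap.sub_apply, sub_eq_zero] at h
      have h' : gU gf.1 = T n * gV gf.2 := h
      obtain ⟨h0, hh⟩ := exists_of_mem R p q n gU hgUs hgUy gV hgVt hgVx hn gf.1 gf.2 h'
      exact ⟨h0, hh⟩
    · rintro ⟨h0, rfl⟩
      rw [LinearMap.sub_apply, sub_eq_zero]
      exact θ_mem R p q n gU hgUs hgUy gV hgVt hgVx h0
  rw [hK]
  exact Module.Free.of_equiv (LinearEquiv.ofInjective (θ R p q n) (θ_injective R p q n hn))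

end Groth.Agent.Lib.Helper29.PolyNodeTwist
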