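import Mathlib
import Groth.Agent.Lib.Helper29.PolyNodeTwist

/-!
# Sections of `O(n)` on the blown-up node as the degree `n` piece of `A[ξ,v]/(pξ - xv, qv - yξ)`
-/

set_option autoImplicit false
universe u

namespace Groth.Agent.Lib.Helper29.PolyNodeTwist2

open Groth.Agent.Lib.Helper29.PolyNodeBasis
open Groth.Agent.Lib.Helper29.PolyNodeTwist
open LaurentPolynomial

theorem single_decomp_b {ι : Type*} [DecidableEq ι] {B : Type*} [CommRing B] (a b : ι)
    (c P X : B) :
    (Pi.single b (c * X) : ι → B) =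
      (-c) • (Pi.single a P - Pi.single b X) + Pi.single a (c * P) := by
  funext k
  simp only [Pi.add_apply, Pi.smul_apply, Pi.sub_apply, Pi.single_apply, smul_eq_mul]
  split_ifs <;> ring

theorem single_decomp_a {ι : Type*} [DecidableEq ι] {B : Type*} [CommRing B] (a b : ι)
    (c P X : B) :
    (Pi.single a (c * P) : ι → B) =
      c • (Pi.single a P - Pi.single b X) + Pi.single b (c * X) := by
  funext k
  simp only [Pi.add_apply, Pi.smul_apply, Pi.sub_apply, Pi.single_apply, smul_eq_mul]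
  split_ifs <;> ring

section
variable (R : Type u) [CommRing R] (p q : R)
  (rU : A R (p * q) →ₐ[R] A R q) (rV : A R (p * q) →ₐ[R] A R p) (n : ℕ)

noncomputable def Θ : (Fin (n + 1) → A R (p * q)) →ₗ[R] (A R q × A R p) where
  toFun F := (∑ i : Fin (n + 1), rU (F i) * SpinCurv.PolyNodeRing.x R q ^ (n - (i : ℕ)),
      ∑ i : Fin (n + 1), rV (F i) * SpinCurv.PolyNodeRing.x R p ^ (i : ℕ))
  map_add' := by
    intro F G
    simp only [Pi.add_apply, map_add, add_mul, Finset.sum_add_distrib, Prod.mk_add_mk]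
  map_smul' := by
    intro r F
    simp only [Pi.smul_apply, map_smul, smul_mul_assoc, ← Finset.smul_sum, RingHom.id_apply,
      Prod.smul_mk]

theorem Θ_apply (F : Fin (n + 1) → A R (p * q)) :
    Θ R p q rU rV n F =
      (∑ i : Fin (n + 1), rU (F i) * SpinCurv.PolyNodeRing.x R q ^ (n - (i : ℕ)),
        ∑ i : Fin (n + 1), rV (F i) * SpinCurv.PolyNodeRing.x R p ^ (i : ℕ)) := rfl

theorem Θ_single (i : Fin (n + 1)) (a : A R (p * q)) :
    Θ R p q rU rV n (Pi.single i a) =
      (rU a * SpinCurv.PolyNodeRing.x R q ^ (n - (i : ℕ)),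
        rV a * SpinCurv.PolyNodeRing.x R p ^ (i : ℕ)) := by
  rw [Θ_apply]
  congr 1
  · rw [Finset.sum_eq_single i]
    · rw [Pi.single_eq_same]
    · intro j _ hj
      rw [Pi.single_eq_of_ne hj, map_zero, zero_mul]
    · intro h
      exact absurd (Finset.mem_univ i) h
  · rw [Finset.sum_eq_single i]
    · rw [Pi.single_eq_same]
    · intro j _ hj
      rw [Pi.single_eq_of_ne hj, map_zero, zero_mul]
    · intro h
      exact absurd (Finset.mem_univ i) h

theorem Θ_smul (a : A R (p * q)) (F : Fin (n + 1) → A R (p * q)) :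
    Θ R p q rU rV n (a • F) =
      (rU a * (Θ R p q rU rV n F).1, rV a * (Θ R p q rU rV n F).2) := by
  have h1 : ∀ j, (a • F) j = a * F j := fun j => rfl
  rw [Θ_apply, Θ_apply]
  simp only [h1, map_mul, mul_assoc, Finset.mul_sum]

noncomputable def relSet : Set (Fin (n + 1) → A R (p * q)) :=
  Set.range (fun i : Fin n =>
      (Pi.single (Fin.castSucc i) (algebraMap R (A R (p * q)) p) -
        Pi.single (Fin.succ i) (SpinCurv.PolyNodeRing.x R (p * q)) :
          Fin (n + 1) → A R (p * q))) ∪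
    Set.range (fun i : Fin n =>
      (Pi.single (Fin.castSucc i) (SpinCurv.PolyNodeRing.y R (p * q)) -
        Pi.single (Fin.succ i) (algebraMap R (A R (p * q)) q) :
          Fin (n + 1) → A R (p * q)))

variable (hrUx : rU (SpinCurv.PolyNodeRing.x R (p * q)) =
    algebraMap R _ p * SpinCurv.PolyNodeRing.x R q)
  (hrUy : rU (SpinCurv.PolyNodeRing.y R (p * q)) = SpinCurv.PolyNodeRing.y R q)
  (hrVx : rV (SpinCurv.PolyNodeRing.x R (p * q)) = SpinCurv.PolyNodeRing.y R p)
  (hrVy : rV (SpinCurv.PolyNodeRing.y R (p * q)) =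
    algebraMap R _ q * SpinCurv.PolyNodeRing.x R p)

include hrUx hrVx in
theorem Θ_gen1 (i : Fin n) :
    Θ R p q rU rV n (Pi.single (Fin.castSucc i) (algebraMap R (A R (p * q)) p) -
      Pi.single (Fin.succ i) (SpinCurv.PolyNodeRing.x R (p * q))) = 0 := by
  have hi := i.is_lt
  have hexp : n - (i : ℕ) = (n - ((i : ℕ) + 1)) + 1 := by omega
  rw [map_sub, Θ_single, Θ_single, Prod.mk_sub_mk, Prod.mk_eq_zero, Fin.val_castSucc, Fin.val_succ,
    AlgHom.commutes, AlgHom.commutes, hrUx, hrVx]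
  constructor
  · rw [hexp, pow_succ]; ring
  · rw [← xy R p, pow_succ]; ring

include hrUy hrVy in
theorem Θ_gen2 (i : Fin n) :
    Θ R p q rU rV n (Pi.single (Fin.castSucc i) (SpinCurv.PolyNodeRing.y R (p * q)) -
      Pi.single (Fin.succ i) (algebraMap R (A R (p * q)) q)) = 0 := by
  have hi := i.is_lt
  have hexp : n - (i : ℕ) = (n - ((i : ℕ) + 1)) + 1 := by omega
  rw [map_sub, Θ_single, Θ_single, Prod.mk_sub_mk, Prod.mk_eq_zero, Fin.val_castSucc, Fin.val_succ,
    AlgHom.commutes, AlgHom.commutes, hrUy, hrVy]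
  constructor
  · rw [hexp, ← xy R q, pow_succ]; ring
  · rw [pow_succ]; ring

include hrUx hrUy hrVx hrVy in
theorem Θ_rel_zero (F : Fin (n + 1) → A R (p * q))
    (hF : F ∈ Submodule.span (A R (p * q)) (relSet R p q n)) : Θ R p q rU rV n F = 0 := by
  induction hF using Submodule.span_induction with
  | mem F hF =>
    rcases hF with ⟨i, rfl⟩ | ⟨i, rfl⟩
    · exact Θ_gen1 R p q rU rV n hrUx hrVx i
    · exact Θ_gen2 R p q rU rV n hrUy hrVy i
  | zero => exact map_zero _
  | add F G _ _ hF hG => rw [map_add, hF, hG, add_zero]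
  | smul a F _ hF =>
    rw [Θ_smul, hF]
    simp

noncomputable def ξ (M : ℤ) : Fin (n + 1) → A R (p * q) :=
  if h1 : (n : ℤ) < M then Pi.single 0 (SpinCurv.PolyNodeRing.x R (p * q) ^ (M - n).toNat)
  else if h2 : 0 ≤ M then Pi.single ⟨((n : ℤ) - M).toNat, by omega⟩ 1
  else Pi.single (Fin.last n) (SpinCurv.PolyNodeRing.y R (p * q) ^ (-M).toNat)

noncomputable def Ξ : (ℤ →₀ R) →ₗ[R] (Fin (n + 1) → A R (p * q)) :=
  Finsupp.linearCombination R (ξ R p q n)

theorem ξ_gt (M : ℤ) (h : (n : ℤ) < M) :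
    ξ R p q n M = Pi.single 0 (SpinCurv.PolyNodeRing.x R (p * q) ^ (M - n).toNat) := by
  rw [ξ, dif_pos h]

theorem ξ_mid' (M : ℤ) (h1 : ¬ (n : ℤ) < M) (h2 : 0 ≤ M) :
    ξ R p q n M = Pi.single ⟨((n : ℤ) - M).toNat, by omega⟩ 1 := by
  rw [ξ, dif_neg h1, dif_pos h2]

theorem ξ_neg (M : ℤ) (h1 : ¬ (n : ℤ) < M) (h2 : ¬ 0 ≤ M) :
    ξ R p q n M =
      Pi.single (Fin.last n) (SpinCurv.PolyNodeRing.y R (p * q) ^ (-M).toNat) := by
  rw [ξ, dif_neg h1, dif_neg h2]

theorem ξ_mid (i : Fin (n + 1)) : ξ R p q n ((n : ℤ) - (i : ℕ)) = Pi.single i 1 := by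
  have hi := i.is_le
  have h1 : ¬ ((n : ℤ) < (n : ℤ) - (i : ℕ)) := by omega
  have h2 : (0 : ℤ) ≤ (n : ℤ) - (i : ℕ) := by omega
  rw [ξ_mid' R p q n _ h1 h2]
  congr 1
  apply Fin.ext
  show ((n : ℤ) - ((n : ℤ) - (i : ℕ))).toNat = (i : ℕ)
  omega

include hrUx hrUy hrVx hrVy in
theorem Θ_ξ (M : ℤ) :
    Θ R p q rU rV n (ξ R p q n M) =
      (algebraMap R (A R q) (p ^ (M - n).toNat) * e R q M,
        algebraMap R (A R p) (q ^ (-M).toNat) * e R p ((n : ℤ) - M)) := by
  by_cases h1 : (n : ℤ) < M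
  · have hj : M.toNat = (M - n).toNat + n := by omega
    have h0 : (-M).toNat = 0 := by omega
    have h4 : (-((n : ℤ) - M)).toNat = (M - n).toNat := by omega
    rw [ξ_gt R p q n M h1, Θ_single]
    refine Prod.ext ?_ ?_
    · show rU (SpinCurv.PolyNodeRing.x R (p * q) ^ (M - n).toNat) *
          SpinCurv.PolyNodeRing.x R q ^ (n - ((0 : Fin (n + 1)) : ℕ)) =
        algebraMap R (A R q) (p ^ (M - n).toNat) * e R q M
      rw [e_of_nonneg R q M (by omega), hj, Fin.val_zero, Nat.sub_zero]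
      simp only [map_pow, hrUx]
      ring
    · show rV (SpinCurv.PolyNodeRing.x R (p * q) ^ (M - n).toNat) *
          SpinCurv.PolyNodeRing.x R p ^ ((0 : Fin (n + 1)) : ℕ) =
        algebraMap R (A R p) (q ^ (-M).toNat) * e R p ((n : ℤ) - M)
      rw [e_of_nonpos R p ((n : ℤ) - M) (by omega), h0, h4, Fin.val_zero]
      simp only [map_pow, hrVx, pow_zero, map_one]
      ring
  · by_cases h2 : 0 ≤ M
    · have h5 : (M - n).toNat = 0 := by omega
      have h0 : (-M).toNat = 0 := by omega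
      have h6 : n - ((n : ℤ) - M).toNat = M.toNat := by omega
      rw [ξ_mid' R p q n M h1 h2, Θ_single]
      refine Prod.ext ?_ ?_
      · show rU 1 * SpinCurv.PolyNodeRing.x R q ^ (n - ((n : ℤ) - M).toNat) =
          algebraMap R (A R q) (p ^ (M - n).toNat) * e R q M
        rw [e_of_nonneg R q M h2, h5, h6]
        simp only [pow_zero, map_one]
      · show rV 1 * SpinCurv.PolyNodeRing.x R p ^ (((n : ℤ) - M).toNat) =
          algebraMap R (A R p) (q ^ (-M).toNat) * e R p ((n : ℤ) - M)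
        rw [e_of_nonneg R p ((n : ℤ) - M) (by omega), h0]
        simp only [pow_zero, map_one]
    · have h5 : (M - n).toNat = 0 := by omega
      have h7 : ((n : ℤ) - M).toNat = (-M).toNat + n := by omega
      rw [ξ_neg R p q n M h1 h2, Θ_single]
      refine Prod.ext ?_ ?_
      · show rU (SpinCurv.PolyNodeRing.y R (p * q) ^ (-M).toNat) *
            SpinCurv.PolyNodeRing.x R q ^ (n - ((Fin.last n : Fin (n + 1)) : ℕ)) =
          algebraMap R (A R q) (p ^ (M - n).toNat) * e R q M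
        rw [e_of_nonpos R q M (by omega), h5, Fin.val_last, Nat.sub_self]
        simp only [map_pow, hrUy, pow_zero, map_one]
        ring
      · show rV (SpinCurv.PolyNodeRing.y R (p * q) ^ (-M).toNat) *
            SpinCurv.PolyNodeRing.x R p ^ ((Fin.last n : Fin (n + 1)) : ℕ) =
          algebraMap R (A R p) (q ^ (-M).toNat) * e R p ((n : ℤ) - M)
        rw [e_of_nonneg R p ((n : ℤ) - M) (by omega), h7, Fin.val_last]
        simp only [map_pow, hrVy]
        ring

include hrUx hrUy hrVx hrVy in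
theorem θ_eq (h : ℤ →₀ R) : θ R p q (n : ℤ) h = Θ R p q rU rV n (Ξ R p q n h) := by
  have key : θ R p q (n : ℤ) = (Θ R p q rU rV n).comp (Ξ R p q n) := by
    apply Finsupp.lhom_ext
    intro M r
    rw [LinearMap.comp_apply, Ξ, Finsupp.linearCombination_single, map_smul,
      Θ_ξ R p q rU rV n hrUx hrUy hrVx hrVy, θ_apply, scA_single, scB_single, Φ_single, Φ_single,
      Prod.smul_mk, smulA, smulA, smulA, smulA, map_mul, map_mul]
    congr 1 <;> ring
  exact LinearMap.congr_fun key h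

/-- the ambient `R`-submodule -/
noncomputable def S : Submodule R (Fin (n + 1) → A R (p * q)) :=
  (Submodule.span (A R (p * q)) (relSet R p q n)).restrictScalars R ⊔ LinearMap.range (Ξ R p q n)

theorem ξ_mem (M : ℤ) : ξ R p q n M ∈ S R p q n := by
  refine Submodule.mem_sup_right ⟨Finsupp.single M 1, ?_⟩
  rw [Ξ, Finsupp.linearCombination_single, one_smul]

theorem gen1_smul_mem (i : Fin n) (c : A R (p * q)) :
    c • ((Pi.single (Fin.castSucc i) (algebraMap R (A R (p * q)) p) -
        Pi.single (Fin.succ i) (SpinCurv.PolyNodeRing.x R (p * q)) :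
          Fin (n + 1) → A R (p * q))) ∈ S R p q n :=
  Submodule.mem_sup_left ((Submodule.restrictScalars_mem R _ _).mpr
    (Submodule.smul_mem _ c (Submodule.subset_span (Or.inl ⟨i, rfl⟩))))

theorem gen2_smul_mem (i : Fin n) (c : A R (p * q)) :
    c • ((Pi.single (Fin.castSucc i) (SpinCurv.PolyNodeRing.y R (p * q)) -
        Pi.single (Fin.succ i) (algebraMap R (A R (p * q)) q) :
          Fin (n + 1) → A R (p * q))) ∈ S R p q n :=
  Submodule.mem_sup_left ((Submodule.restrictScalars_mem R _ _).mpr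
    (Submodule.smul_mem _ c (Submodule.subset_span (Or.inr ⟨i, rfl⟩))))

theorem single_algebraMap_mul (i : Fin (n + 1)) (r : R) (z : A R (p * q)) :
    (Pi.single i (z * algebraMap R (A R (p * q)) r) : Fin (n + 1) → A R (p * q)) =
      r • Pi.single i z := by
  funext k
  rw [Pi.smul_apply, Pi.single_apply, Pi.single_apply]
  split_ifs
  · rw [smulA]
    exact mul_comm _ _
  · rw [smul_zero]

theorem single_xpow_mem (j : ℕ) : ∀ i : Fin (n + 1),
    (Pi.single i (SpinCurv.PolyNodeRing.x R (p * q) ^ j) : Fin (n + 1) → A R (p * q)) ∈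
      S R p q n := by
  induction j with
  | zero =>
    intro i
    rw [pow_zero, ← ξ_mid R p q n i]
    exact ξ_mem R p q n _
  | succ j ih =>
    intro i
    refine Fin.cases ?_ (fun i' => ?_) i
    · have h1 : (n : ℤ) < (n : ℤ) + ((j + 1 : ℕ) : ℤ) := by omega
      have hexp : ((n : ℤ) + ((j + 1 : ℕ) : ℤ) - (n : ℤ)).toNat = j + 1 := by omega
      have key : ξ R p q n ((n : ℤ) + ((j + 1 : ℕ) : ℤ)) =
          Pi.single 0 (SpinCurv.PolyNodeRing.x R (p * q) ^ (j + 1)) := by
        rw [ξ_gt R p q n _ h1, hexp]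
      rw [← key]
      exact ξ_mem R p q n _
    · rw [pow_succ, single_decomp_b (Fin.castSucc i') (Fin.succ i')
        (SpinCurv.PolyNodeRing.x R (p * q) ^ j) (algebraMap R (A R (p * q)) p)
        (SpinCurv.PolyNodeRing.x R (p * q)), single_algebraMap_mul]
      exact add_mem (gen1_smul_mem R p q n i' _) (Submodule.smul_mem _ p (ih _))

theorem single_ypow_mem (j : ℕ) : ∀ i : Fin (n + 1),
    (Pi.single i (SpinCurv.PolyNodeRing.y R (p * q) ^ j) : Fin (n + 1) → A R (p * q)) ∈
      S R p q n := by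
  induction j with
  | zero =>
    intro i
    rw [pow_zero, ← ξ_mid R p q n i]
    exact ξ_mem R p q n _
  | succ j ih =>
    intro i
    refine Fin.lastCases ?_ (fun i' => ?_) i
    · have h1 : ¬ ((n : ℤ) < -((j + 1 : ℕ) : ℤ)) := by omega
      have h2 : ¬ ((0 : ℤ) ≤ -((j + 1 : ℕ) : ℤ)) := by omega
      have hexp : (-(-((j + 1 : ℕ) : ℤ))).toNat = j + 1 := by omega
      have key : ξ R p q n (-((j + 1 : ℕ) : ℤ)) =
          Pi.single (Fin.last n) (SpinCurv.PolyNodeRing.y R (p * q) ^ (j + 1)) := by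
        rw [ξ_neg R p q n _ h1 h2, hexp]
      rw [← key]
      exact ξ_mem R p q n _
    · rw [pow_succ, single_decomp_a (Fin.castSucc i') (Fin.succ i')
        (SpinCurv.PolyNodeRing.y R (p * q) ^ j) (SpinCurv.PolyNodeRing.y R (p * q))
        (algebraMap R (A R (p * q)) q), single_algebraMap_mul]
      exact add_mem (gen2_smul_mem R p q n i' _) (Submodule.smul_mem _ q (ih _))

theorem single_e_mem (m : ℤ) (i : Fin (n + 1)) :
    (Pi.single i (e R (p * q) m) : Fin (n + 1) → A R (p * q)) ∈ S R p q n := by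
  by_cases h : 0 ≤ m
  · rw [e_of_nonneg R (p * q) m h]
    exact single_xpow_mem R p q n _ i
  · rw [e_of_nonpos R (p * q) m (by omega)]
    exact single_ypow_mem R p q n _ i

theorem single_mem (i : Fin (n + 1)) (a : A R (p * q)) :
    (Pi.single i a : Fin (n + 1) → A R (p * q)) ∈ S R p q n := by
  rw [← Φ_Ψ R (p * q) a]
  generalize Ψ R (p * q) a = c
  induction c using Finsupp.induction_linear with
  | zero =>
    rw [map_zero, Pi.single_zero]
    exact zero_mem _
  | add f g hf hg =>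
    rw [map_add, Pi.single_add]
    exact add_mem hf hg
  | single m r =>
    rw [Φ_single, smulA, mul_comm (algebraMap R (A R (p * q)) r), single_algebraMap_mul]
    exact Submodule.smul_mem _ r (single_e_mem R p q n m i)

theorem mem_S (F : Fin (n + 1) → A R (p * q)) : F ∈ S R p q n := by
  have hF : F = ∑ i, Pi.single i (F i) := (Finset.univ_sum_single F).symm
  rw [hF]
  exact Submodule.sum_mem _ (fun i _ => single_mem R p q n i (F i))

end

theorem main18437 (R : Type u) [CommRing R] (p q : R)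
    (rU : SpinCurv.PolyNodeRing R (p * q) →ₐ[R] SpinCurv.PolyNodeRing R q)
    (hrUx : rU (SpinCurv.PolyNodeRing.x R (p * q)) = algebraMap R _ p * SpinCurv.PolyNodeRing.x R q)
    (hrUy : rU (SpinCurv.PolyNodeRing.y R (p * q)) = SpinCurv.PolyNodeRing.y R q)
    (rV : SpinCurv.PolyNodeRing R (p * q) →ₐ[R] SpinCurv.PolyNodeRing R p)
    (hrVx : rV (SpinCurv.PolyNodeRing.x R (p * q)) = SpinCurv.PolyNodeRing.y R p)
    (hrVy : rV (SpinCurv.PolyNodeRing.y R (p * q)) = algebraMap R _ q * SpinCurv.PolyNodeRing.x R p)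
    (gU : SpinCurv.PolyNodeRing R q →ₐ[R] LaurentPolynomial R)
    (hgUs : gU (SpinCurv.PolyNodeRing.x R q) = LaurentPolynomial.T 1)
    (hgUy : gU (SpinCurv.PolyNodeRing.y R q) = LaurentPolynomial.C q * LaurentPolynomial.T (-1))
    (gV : SpinCurv.PolyNodeRing R p →ₐ[R] LaurentPolynomial R)
    (hgVt : gV (SpinCurv.PolyNodeRing.x R p) = LaurentPolynomial.T (-1))
    (hgVx : gV (SpinCurv.PolyNodeRing.y R p) = LaurentPolynomial.C p * LaurentPolynomial.T 1) (n : ℕ) :
    Set.range (fun F : Fin (n + 1) → SpinCurv.PolyNodeRing R (p * q) =>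
        (∑ i : Fin (n + 1), rU (F i) * SpinCurv.PolyNodeRing.x R q ^ (n - (i : ℕ)),
         ∑ i : Fin (n + 1), rV (F i) * SpinCurv.PolyNodeRing.x R p ^ (i : ℕ))) =
      {gf : SpinCurv.PolyNodeRing R q × SpinCurv.PolyNodeRing R p |
        gU gf.1 = LaurentPolynomial.T (n : ℤ) * gV gf.2} ∧
    {F : Fin (n + 1) → SpinCurv.PolyNodeRing R (p * q) |
        (∑ i : Fin (n + 1), rU (F i) * SpinCurv.PolyNodeRing.x R q ^ (n - (i : ℕ)),
         ∑ i : Fin (n + 1), rV (F i) * SpinCurv.PolyNodeRing.x R p ^ (i : ℕ)) = 0} =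
      (Submodule.span (SpinCurv.PolyNodeRing R (p * q))
        (Set.range (fun i : Fin n =>
            (Pi.single (Fin.castSucc i) (algebraMap R (SpinCurv.PolyNodeRing R (p * q)) p) -
              Pi.single (Fin.succ i) (SpinCurv.PolyNodeRing.x R (p * q)) : Fin (n + 1) → SpinCurv.PolyNodeRing R (p * q))) ∪
         Set.range (fun i : Fin n =>
            (Pi.single (Fin.castSucc i) (SpinCurv.PolyNodeRing.y R (p * q)) -
              Pi.single (Fin.succ i) (algebraMap R (SpinCurv.PolyNodeRing R (p * q)) q) : Fin (n + 1) → SpinCurv.PolyNodeRing R (p * q)))) :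
        Set (Fin (n + 1) → SpinCurv.PolyNodeRing R (p * q))) := by
  have hcomp : gU.comp rU = gV.comp rV := by
    apply Ideal.Quotient.algHom_ext R
    apply MvPolynomial.algHom_ext
    intro i
    obtain rfl | rfl : i = 0 ∨ i = 1 := by fin_cases i <;> simp
    · show gU (rU (SpinCurv.PolyNodeRing.x R (p * q))) =
        gV (rV (SpinCurv.PolyNodeRing.x R (p * q)))
      rw [hrUx, hrVx, map_mul, AlgHom.commutes, hgUs, hgVx, ← LaurentPolynomial.C_eq_algebraMap]
    · show gU (rU (SpinCurv.PolyNodeRing.y R (p * q))) =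
        gV (rV (SpinCurv.PolyNodeRing.y R (p * q)))
      rw [hrUy, hrVy, map_mul, AlgHom.commutes, hgUy, hgVt, ← LaurentPolynomial.C_eq_algebraMap]
  constructor
  · apply Set.Subset.antisymm
    · rintro _ ⟨F, rfl⟩
      show gU (∑ i : Fin (n + 1), rU (F i) * SpinCurv.PolyNodeRing.x R q ^ (n - (i : ℕ))) =
        LaurentPolynomial.T (n : ℤ) *
          gV (∑ i : Fin (n + 1), rV (F i) * SpinCurv.PolyNodeRing.x R p ^ (i : ℕ))
      rw [map_sum, map_sum, Finset.mul_sum]
      apply Finset.sum_congr rfl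
      intro i _
      have h1 : gU (rU (F i)) = gV (rV (F i)) := AlgHom.congr_fun hcomp (F i)
      have hi := i.is_le
      have harith : (((n - (i : ℕ) : ℕ) : ℤ) * 1) = (n : ℤ) + ((i : ℕ) : ℤ) * -1 := by omega
      rw [map_mul gU, map_mul gV, map_pow gU, map_pow gV, hgUs, hgVt, h1, LaurentPolynomial.T_pow,
        LaurentPolynomial.T_pow, mul_left_comm, ← LaurentPolynomial.T_add, harith]
    · intro gf hgf
      have hgf' : gU gf.1 = LaurentPolynomial.T (n : ℤ) * gV gf.2 := hgf
      obtain ⟨h, hh⟩ := exists_of_mem R p q (n : ℤ) gU hgUs hgUy gV hgVt hgVx (by omega)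
        gf.1 gf.2 hgf'
      refine ⟨Ξ R p q n h, ?_⟩
      show Θ R p q rU rV n (Ξ R p q n h) = gf
      rw [← θ_eq R p q rU rV n hrUx hrUy hrVx hrVy, hh]
  · apply Set.Subset.antisymm
    · intro F hF
      have hF' : Θ R p q rU rV n F = 0 := hF
      obtain ⟨ν, hν, w, hw, hsum⟩ := Submodule.mem_sup.mp
        (show F ∈ (Submodule.span (A R (p * q)) (relSet R p q n)).restrictScalars R ⊔
          LinearMap.range (Ξ R p q n) from mem_S R p q n F)
      obtain ⟨h, rfl⟩ := hw
      have hν' : ν ∈ Submodule.span (A R (p * q)) (relSet R p q n) :=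
        (Submodule.restrictScalars_mem R _ _).mp hν
      have hν0 := Θ_rel_zero R p q rU rV n hrUx hrUy hrVx hrVy ν hν'
      rw [← hsum, map_add, hν0, zero_add, ← θ_eq R p q rU rV n hrUx hrUy hrVx hrVy] at hF'
      have h0 : h = 0 := θ_injective R p q (n : ℤ) (by omega) (by rw [hF', map_zero])
      rw [h0, map_zero, add_zero] at hsum
      rw [← hsum]
      exact hν'
    · intro F hF
      exact Θ_rel_zero R p q rU rV n hrUx hrUy hrVx hrVy F hF

end Groth.Agent.Lib.Helper29.PolyNodeTwist2
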