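import Groth.Agent.Lib.Helper29.ProdSurjField

set_option autoImplicit false
set_option maxHeartbeats 1600000

universe u

open CategoryTheory AlgebraicGeometry
open Groth.Agent.Lib.Helper29.ProdSurjField

namespace Groth.Agent.Lib.Helper29.ProdSurj

theorem main7394 {S : Scheme.{u}} {I : Type u} (T : I → Over S)
    (hT : ∀ i, IsAffineHom (T i).hom ∧ Surjective (T i).hom) (c : Limits.Fan T)
    (hc : Limits.IsLimit c) :
    Surjective c.pt.hom := by
  refine ⟨fun s => ?_⟩
  let f : ∀ i, (T i).left ⟶ S := fun i => (T i).hom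
  have hf : ∀ i, ∃ t : (T i).left, f i t = s := fun i => (hT i).2.surj s
  choose t ht using hf
  let ρ : ∀ i, S.residueField s ⟶ (T i).left.residueField (t i) := fun i =>
    (S.residueFieldCongr (ht i)).inv ≫ (f i).residueFieldMap (t i)
  have hρ : ∀ i, Spec.map (ρ i) ≫ S.fromSpecResidueField s =
      (T i).left.fromSpecResidueField (t i) ≫ f i := by
    intro i
    simp only [ρ, Spec.map_comp, Category.assoc]
    rw [← Scheme.Hom.SpecMap_residueFieldMap_fromSpecResidueField]
    congr 1
    rw [Scheme.residueFieldCongr_inv]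
    exact Scheme.residueFieldCongr_fromSpecResidueField _
  letI : ∀ i, Algebra (S.residueField s) ((T i).left.residueField (t i)) :=
    fun i => (ρ i).hom.toAlgebra
  obtain ⟨Ω, _, _, hΩ⟩ := exists_common_extension (κ := S.residueField s)
    (fun i => (T i).left.residueField (t i))
  let φ : ∀ i, (T i).left.residueField (t i) →ₐ[S.residueField s] Ω := fun i => (hΩ i).some
  let b : Spec (CommRingCat.of Ω) ⟶ S :=
    Spec.map (CommRingCat.ofHom (algebraMap (S.residueField s) Ω)) ≫ S.fromSpecResidueField s
  let a : ∀ i, Spec (CommRingCat.of Ω) ⟶ (T i).left := fun i =>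
    Spec.map (CommRingCat.ofHom (φ i : (T i).left.residueField (t i) →+* Ω)) ≫
      (T i).left.fromSpecResidueField (t i)
  have hab : ∀ i, a i ≫ (T i).hom = b := by
    intro i
    change (Spec.map (CommRingCat.ofHom (φ i : (T i).left.residueField (t i) →+* Ω)) ≫
      (T i).left.fromSpecResidueField (t i)) ≫ f i = b
    rw [Category.assoc, ← hρ i, ← Category.assoc, ← Spec.map_comp]
    congr 2
    ext x
    exact (φ i).commutes x
  let fan : Limits.Fan T := Limits.Fan.mk (Over.mk b) (fun i => Over.homMk (a i) (hab i))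
  have h1 : (hc.lift fan).left ≫ c.pt.hom = b := Over.w (hc.lift fan)
  let x₀ : Spec (CommRingCat.of Ω) := IsLocalRing.closedPoint Ω
  refine ⟨(hc.lift fan).left x₀, ?_⟩
  have h2 : c.pt.hom ((hc.lift fan).left x₀) = b x₀ := by
    rw [← h1, Scheme.Hom.comp_apply]
  rw [h2]
  simp only [b, Scheme.Hom.comp_apply]
  generalize (Spec.map (CommRingCat.ofHom (algebraMap (↑(S.residueField s)) Ω))) x₀ = y
  exact Scheme.fromSpecResidueField_apply s y

end Groth.Agent.Lib.Helper29.ProdSurj
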