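import Mathlib

set_option autoImplicit false
set_option maxHeartbeats 1600000

universe u

open CategoryTheory AlgebraicGeometry

namespace Groth.Agent.Lib.Helper29.ProdSurjField

theorem nonempty_algHom_of_injective {κ A L Ω : Type*} [Field κ] [CommRing A] [IsDomain A]
    [Field L] [Field Ω] [IsAlgClosed Ω] [Algebra κ A] [Algebra κ L] [Algebra A L]
    [IsScalarTower κ A L] [Algebra κ Ω] [Algebra.IsAlgebraic A L] [Module.IsTorsionFree A L]
    (ψ : A →ₐ[κ] Ω) (hψ : Function.Injective ψ) : Nonempty (L →ₐ[κ] Ω) := by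
  letI : Algebra A Ω := ψ.toRingHom.toAlgebra
  haveI : IsScalarTower κ A Ω := IsScalarTower.of_algebraMap_eq (fun x => (ψ.commutes x).symm)
  haveI : Module.IsTorsionFree A Ω := Module.isTorsionFree_iff_algebraMap_injective.2 hψ
  exact ⟨(IsAlgClosed.lift : L →ₐ[A] Ω).restrictScalars κ⟩

theorem nonempty_algHom_of_mvPolynomial {κ L Ω : Type*} [Field κ] [Field L] [Field Ω]
    [IsAlgClosed Ω] [Algebra κ L] [Algebra κ Ω] {J : Type*}
    (ι : L → J) (hι : Function.Injective ι) (θ : MvPolynomial J κ →ₐ[κ] Ω)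
    (hθ : Function.Injective θ) : Nonempty (L →ₐ[κ] Ω) := by
  classical
  obtain ⟨B, hB⟩ := exists_isTranscendenceBasis κ L
  haveI : Algebra.IsAlgebraic (Algebra.adjoin κ (Set.range ((↑) : B → L))) L :=
    hB.isAlgebraic
  let e : MvPolynomial B κ ≃ₐ[κ] Algebra.adjoin κ (Set.range ((↑) : B → L)) :=
    hB.1.aevalEquiv
  let g : MvPolynomial B κ →ₐ[κ] MvPolynomial J κ :=
    MvPolynomial.rename (fun b : B => ι b.1)
  have hg : Function.Injective g := MvPolynomial.rename_injective _ (by
    intro b b' h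
    exact Subtype.ext (hι h))
  refine nonempty_algHom_of_injective (A := Algebra.adjoin κ (Set.range ((↑) : B → L)))
    (θ.comp (g.comp e.symm.toAlgHom)) ?_
  intro x y hxy
  exact e.symm.injective (hg (hθ hxy))

/-- Any (small) family of field extensions of `κ` embeds into a common field extension. -/
theorem exists_common_extension {κ : Type u} [Field κ] {I : Type u} (L : I → Type u)
    [∀ i, Field (L i)] [∀ i, Algebra κ (L i)] :
    ∃ (Ω : Type u) (_ : Field Ω) (_ : Algebra κ Ω), ∀ i, Nonempty (L i →ₐ[κ] Ω) := by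
  classical
  refine ⟨AlgebraicClosure (FractionRing (MvPolynomial (Σ i, L i) κ)), inferInstance,
    inferInstance, fun i => ?_⟩
  refine nonempty_algHom_of_mvPolynomial (J := Σ i, L i) (fun b => ⟨i, b⟩)
    (fun b b' h => eq_of_heq (Sigma.mk.inj_iff.1 h).2)
    ((IsScalarTower.toAlgHom κ (FractionRing (MvPolynomial (Σ i, L i) κ))
        (AlgebraicClosure (FractionRing (MvPolynomial (Σ i, L i) κ)))).comp
      (IsScalarTower.toAlgHom κ (MvPolynomial (Σ i, L i) κ)
        (FractionRing (MvPolynomial (Σ i, L i) κ)))) ?_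
  have h1 : Function.Injective (algebraMap (FractionRing (MvPolynomial (Σ i, L i) κ))
      (AlgebraicClosure (FractionRing (MvPolynomial (Σ i, L i) κ)))) :=
    FaithfulSMul.algebraMap_injective _ _
  have h2 : Function.Injective (algebraMap (MvPolynomial (Σ i, L i) κ)
      (FractionRing (MvPolynomial (Σ i, L i) κ))) := IsFractionRing.injective _ _
  intro x y hxy
  exact h2 (h1 hxy)

end Groth.Agent.Lib.Helper29.ProdSurjField
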