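import Groth.Agent.Lib.Helper29.SGA3Quot

/-!
# Helper library (helper29): a homomorphism proper on the kernel of a map to a proper group is proper

* `main5415`
-/

set_option autoImplicit false
set_option maxHeartbeats 1600000
universe u
open CategoryTheory CategoryTheory.Limits AlgebraicGeometry MonoidalCategory CartesianMonoidalCategory
  MonObj GrpObj

namespace Groth.Agent.Lib.Helper29.ProperHom

open Groth.Agent.Lib.Helper29 Groth.Agent.Lib.Helper29.AssocBundle
  Groth.Agent.Lib.Helper29.SGA3Quot Groth.Agent.Lib.Helper29.TorsorComp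
  Groth.Agent.Lib.Helper29.TorsorMisc

noncomputable section

theorem proper_of_proper_on_kernel {S : Scheme.{u}} {G G' G'' H : Over S} [GrpObj G] [GrpObj G']
    [GrpObj G''] [GrpObj H] [IsProper G''.hom]
    (p : G ⟶ G'') [IsMonHom p] [Surjective p.left] [Flat p.left]
    [LocallyOfFinitePresentation p.left]
    (i : G' ⟶ G) (hker : IsPullback i (toUnit G') p η[G''])
    (u : G ⟶ H) [IsMonHom u] (hu : IsProper (i ≫ u).left) : IsProper u.left := by
  have hip : i ≫ p = 1 := by
    rw [hker.w, Hom.one_def]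
  have hpt : ∀ {T : Over S} (g g' : T ⟶ G), g ≫ p = g' ≫ p → ∃ n : T ⟶ G', g = g' * (n ≫ i) := by
    intro T g g' e
    have h1 : (g'⁻¹ * g) ≫ p = toUnit T ≫ η[G''] := by
      rw [MonObj.mul_comp, GrpObj.inv_comp, e, _root_.inv_mul_cancel, Hom.one_def]
    refine ⟨hker.lift (g'⁻¹ * g) (toUnit T) h1, ?_⟩
    rw [hker.lift_fst, _root_.mul_inv_cancel_left]
  have hptu : ∀ {T : Over S} (g' : T ⟶ G) (n n' : T ⟶ G'),
      g' * (n ≫ i) = g' * (n' ≫ i) → n = n' := by
    intro T g' n n' e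
    exact hker.hom_ext (_root_.mul_left_cancel e) (toUnit_unique _ _)
  obtain ⟨a, ha⟩ : ∃ a : G' ⊗ G ⟶ G, a = snd G' G * (fst G' G ≫ i) := ⟨_, rfl⟩
  obtain ⟨φ, hφ⟩ : ∃ φ : G' ⊗ G ⟶ H ⊗ G,
      φ = lift ((snd G' G ≫ u) * (fst G' G ≫ i ≫ u)) (snd G' G) := ⟨_, rfl⟩
  obtain ⟨θ, hθ⟩ : ∃ θ : H ⊗ G ⟶ H ⊗ G,
      θ = lift ((snd H G ≫ u) * fst H G) (snd H G) := ⟨_, rfl⟩
  obtain ⟨θ', hθ'⟩ : ∃ θ' : H ⊗ G ⟶ H ⊗ G,
      θ' = lift ((snd H G ≫ u)⁻¹ * fst H G) (snd H G) := ⟨_, rfl⟩
  have ma : ∀ {T : Over S} (m : T ⟶ G' ⊗ G), m ≫ a = (m ≫ snd G' G) * ((m ≫ fst G' G) ≫ i) := by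
    intro T m
    rw [ha, MonObj.comp_mul, Category.assoc]
  have mφ1 : ∀ {T : Over S} (m : T ⟶ G' ⊗ G),
      m ≫ φ ≫ fst H G = ((m ≫ snd G' G) ≫ u) * (((m ≫ fst G' G) ≫ i) ≫ u) := by
    intro T m
    rw [hφ, lift_fst, MonObj.comp_mul]
    simp only [Category.assoc]
  have mφ2 : ∀ {T : Over S} (m : T ⟶ G' ⊗ G), m ≫ φ ≫ snd H G = m ≫ snd G' G := by
    intro T m
    rw [hφ, lift_snd]
  -- the cartesian square
  have sq : IsPullback φ a (H ◁ p) (lift u p) := by
    have w : φ ≫ (H ◁ p) = a ≫ lift u p := by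
      apply CartesianMonoidalCategory.hom_ext
      · have e1 : (φ ≫ (H ◁ p)) ≫ fst H G'' = 𝟙 _ ≫ φ ≫ fst H G := by
          rw [Category.assoc, whiskerLeft_fst, Category.id_comp]
        have e2 : (a ≫ lift u p) ≫ fst H G'' = (𝟙 _ ≫ a) ≫ u := by
          rw [Category.assoc, lift_fst, Category.id_comp]
        rw [e1, e2, mφ1, ma, MonObj.mul_comp]
      · have e1 : (φ ≫ (H ◁ p)) ≫ snd H G'' = (𝟙 _ ≫ φ ≫ snd H G) ≫ p := by
          rw [Category.assoc, whiskerLeft_snd, Category.id_comp, Category.assoc]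
        have e2 : (a ≫ lift u p) ≫ snd H G'' = (𝟙 _ ≫ a) ≫ p := by
          rw [Category.assoc, lift_snd, Category.id_comp]
        rw [e1, e2, mφ2, ma, MonObj.mul_comp, Category.assoc _ i p, hip, MonObj.comp_one,
          _root_.mul_one]
    refine isPullback_of_existsUnique w (fun T t g htg => ?_)
    have h1 : t ≫ fst H G = g ≫ u := by
      have := congrArg (fun f => f ≫ fst H G'') htg
      simpa only [Category.assoc, whiskerLeft_fst, lift_fst] using this
    have h2 : (t ≫ snd H G) ≫ p = g ≫ p := by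
      have := congrArg (fun f => f ≫ snd H G'') htg
      simpa only [Category.assoc, whiskerLeft_snd, lift_snd] using this
    obtain ⟨n, hn⟩ := hpt g (t ≫ snd H G) h2.symm
    refine ⟨lift n (t ≫ snd H G), ⟨?_, ?_⟩, fun m' hm' => ?_⟩
    · apply CartesianMonoidalCategory.hom_ext
      · rw [Category.assoc, mφ1, lift_snd, lift_fst, h1, hn, MonObj.mul_comp]
      · rw [Category.assoc, mφ2, lift_snd]
    · rw [ma, lift_snd, lift_fst, ← hn]
    · have e1 : m' ≫ snd G' G = t ≫ snd H G := by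
        rw [← mφ2, ← Category.assoc, hm'.1]
      have e2 : m' ≫ fst G' G = n := by
        apply hptu (t ≫ snd H G)
        rw [← hn, ← hm'.2, ma, e1]
      apply CartesianMonoidalCategory.hom_ext
      · rw [lift_fst, e2]
      · rw [lift_snd, e1]
  -- `φ` is proper
  have hφθ : φ = ((i ≫ u) ▷ G) ≫ θ := by
    simp only [hφ, hθ, comp_lift, MonObj.comp_mul, whiskerRight_fst, whiskerRight_snd,
      whiskerRight_snd_assoc, Category.assoc]
  have hθθ' : θ ≫ θ' = 𝟙 _ := by
    rw [hθ', comp_lift, MonObj.comp_mul, GrpObj.comp_inv, ← Category.assoc, hθ, lift_snd, lift_fst,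
      _root_.inv_mul_cancel_left, lift_fst_snd]
  have hθ'θ : θ' ≫ θ = 𝟙 _ := by
    rw [hθ, comp_lift, MonObj.comp_mul, ← Category.assoc, hθ', lift_snd, lift_fst,
      _root_.mul_inv_cancel_left, lift_fst_snd]
  haveI : IsIso θ := ⟨θ', hθθ', hθ'θ⟩
  haveI : IsIso θ.left := (Over.forget S).map_isIso θ
  have hw : IsProper ((i ≫ u) ▷ G).left :=
    MorphismProperty.of_isPullback (P := @IsProper)
      ((isPullback_whiskerRight_fst (i ≫ u) G).flip.map (Over.forget S)) hu
  have hφp : IsProper φ.left := by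
    rw [hφθ]
    show IsProper (((i ≫ u) ▷ G).left ≫ θ.left)
    exact (MorphismProperty.cancel_right_of_respectsIso @IsProper _ θ.left).2 hw
  -- descent
  have hψ : (@Surjective ⊓ @Flat ⊓ @LocallyOfFinitePresentation : MorphismProperty Scheme.{u})
      (H ◁ p).left := by
    have sqp := (isPullback_whiskerLeft_snd H p).flip.map (Over.forget S)
    exact ⟨⟨MorphismProperty.of_isPullback (P := @Surjective) sqp
        (inferInstance : Surjective p.left),
      MorphismProperty.of_isPullback (P := @Flat) sqp (inferInstance : Flat p.left)⟩,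
      MorphismProperty.of_isPullback (P := @LocallyOfFinitePresentation) sqp
        (inferInstance : LocallyOfFinitePresentation p.left)⟩
  haveI := isProper_descendsAlong_fpqc.{u}
  have hv : IsProper (lift u p).left :=
    (ocovFppf (H ◁ p) hψ.1.1 hψ.1.2 hψ.2).prop_of_base_change @IsProper (lift u p).left _ _
      (sq.flip.map (Over.forget S)) hφp
  haveI := hv
  haveI : IsProper (fst H G'').left := by
    show IsProper (pullback.fst H.hom G''.hom)
    infer_instance
  have e : u.left = (lift u p).left ≫ (fst H G'').left :=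
    congrArg (fun f => f.left) (lift_fst u p).symm
  rw [e]
  infer_instance

theorem main5415 (S : Scheme.{u}) (G G' G'' : Over S) [GrpObj G] [GrpObj G'] [GrpObj G'']
    [QuasiCompact G.hom] [QuasiSeparated G.hom] [LocallyOfFinitePresentation G.hom]
    [IsProper G''.hom] [LocallyOfFinitePresentation G''.hom]
    [Flat G'.hom] [QuasiCompact G'.hom] [QuasiSeparated G'.hom] [LocallyOfFinitePresentation G'.hom]
    (p : G ⟶ G'') [IsMonHom p] [Surjective p.left] [Flat p.left] [LocallyOfFinitePresentation p.left]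
    (i : G' ⟶ G) [IsMonHom i] (hker : AlgGrp.IsKernel i p)
    (H : Over S) [GrpObj H] [LocallyOfFinitePresentation H.hom]
    (hH : (QuasiCompact H.hom ∧ QuasiSeparated H.hom) ∨ IsLocallyNoetherian S)
    (u : G ⟶ H) [IsMonHom u] (hu : IsProper (i ≫ u).left) : IsProper u.left :=
  proper_of_proper_on_kernel p i hker u hu

end

end Groth.Agent.Lib.Helper29.ProperHom
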