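import Mathlib
import Groth.Prelude.Def_Adeq
import Groth.Prelude.Def_W4stkadequateTF

/-!
# Injective presheaves of modules send "epimorphisms" of the index category to surjections

For `C : Type (u+1)` with homs in `Type u`, `R : Cᵒᵖ ⥤ RingCat.{u}` and a family of modules `N X₀`, the
presheaf `Y ↦ ∀ X₀, (Y ⟶ X₀) → N X₀` receives every presheaf of modules `M` with `N = M.obj`, injectively.
An injective `I` is therefore a retract of it, and restriction maps of the big presheaf along
right-cancellable maps are surjective.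
-/

set_option autoImplicit false
set_option maxHeartbeats 800000
universe u
open CategoryTheory Limits Opposite

namespace Groth.Agent.Lib.Helper29.PshModInjSurj

noncomputable section

variable {C : Type (u+1)} [Category.{u} C] (R : Cᵒᵖ ⥤ RingCat.{u})

section CoindAll
variable (N : ∀ X₀ : Cᵒᵖ, ModuleCat.{u+1} (R.obj X₀))

/-- carrier of the coinduced module at `Y` -/
def Carrier (Y : Cᵒᵖ) : Type (u+1) := ∀ X₀ : Cᵒᵖ, (Y ⟶ X₀) → N X₀

instance (Y : Cᵒᵖ) : AddCommGroup (Carrier R N Y) :=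
  inferInstanceAs (AddCommGroup (∀ X₀ : Cᵒᵖ, (Y ⟶ X₀) → N X₀))

instance carrierModule (Y : Cᵒᵖ) : Module (R.obj Y) (Carrier R N Y) where
  smul r s := fun X₀ f => ((R.map f).hom r) • (s X₀ f)
  one_smul s := by
    refine funext (fun X₀ => funext (fun f => ?_))
    show ((R.map f).hom 1) • (s X₀ f) = s X₀ f
    rw [map_one, one_smul]
  mul_smul r r' s := by
    refine funext (fun X₀ => funext (fun f => ?_))
    show ((R.map f).hom (r * r')) • (s X₀ f) =
      ((R.map f).hom r) • (((R.map f).hom r') • (s X₀ f))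
    rw [map_mul, mul_smul]
  smul_zero r := by
    refine funext (fun X₀ => funext (fun f => ?_))
    show ((R.map f).hom r) • (0 : N X₀) = 0
    exact smul_zero _
  smul_add r s t := by
    refine funext (fun X₀ => funext (fun f => ?_))
    show ((R.map f).hom r) • (s X₀ f + t X₀ f) =
      ((R.map f).hom r) • (s X₀ f) + ((R.map f).hom r) • (t X₀ f)
    exact smul_add _ _ _
  add_smul r r' s := by
    refine funext (fun X₀ => funext (fun f => ?_))
    show ((R.map f).hom (r + r')) • (s X₀ f) =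
      ((R.map f).hom r) • (s X₀ f) + ((R.map f).hom r') • (s X₀ f)
    rw [map_add, add_smul]
  zero_smul s := by
    refine funext (fun X₀ => funext (fun f => ?_))
    show ((R.map f).hom 0) • (s X₀ f) = 0
    rw [map_zero, zero_smul]

/-- the underlying presheaf of abelian groups of the coinduced presheaf -/
abbrev coindAb : Cᵒᵖ ⥤ Ab.{u+1} where
  obj Y := AddCommGrpCat.of (Carrier R N Y)
  map {Y Y'} g := AddCommGrpCat.ofHom
    { toFun := fun s => (fun X₀ f' => s X₀ (g ≫ f') : Carrier R N Y')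
      map_zero' := rfl
      map_add' := fun _ _ => rfl }
  map_id Y := by
    ext s
    refine funext (fun X₀ => funext (fun f' => ?_))
    show s X₀ (𝟙 Y ≫ f') = s X₀ f'
    rw [Category.id_comp]
  map_comp {Y Y' Y''} g h := by
    ext s
    refine funext (fun X₀ => funext (fun f'' => ?_))
    show s X₀ ((g ≫ h) ≫ f'') = s X₀ (g ≫ (h ≫ f''))
    rw [Category.assoc]

instance coindAbModule (Y : Cᵒᵖ) : Module (R.obj Y) ((coindAb R N).obj Y) :=
  carrierModule R N Y

/-- the coinduced presheaf of modules -/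
def coind : PresheafOfModules.{u+1} R :=
  PresheafOfModules.ofPresheaf (coindAb R N) (by
    intro Y Y' g r s
    refine funext (fun X₀ => funext (fun f' => ?_))
    show ((R.map (g ≫ f')).hom r) • (s X₀ (g ≫ f')) =
      ((R.map f').hom ((R.map g).hom r)) • (s X₀ (g ≫ f'))
    rw [R.map_comp]
    rfl)

variable {R N}

/-- the morphism into the coinduced presheaf adjoint to a family of linear maps `M(X₀) → N X₀` -/
def coindLift {M : PresheafOfModules.{u+1} R} (ψ : ∀ X₀, M.obj X₀ ⟶ N X₀) : M ⟶ coind R N :=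
  PresheafOfModules.homMk
    { app := fun Y => (show M.presheaf.obj Y ⟶ (coind R N).presheaf.obj Y from
        AddCommGrpCat.ofHom
        { toFun := fun m => (fun X₀ f => (ψ X₀).hom (M.map f m) : Carrier R N Y)
          map_zero' := by
            refine funext (fun X₀ => funext (fun f => ?_))
            show (ψ X₀).hom (M.restrictₛₗ f 0) = 0
            rw [map_zero, map_zero]
          map_add' := fun m m' => by
            refine funext (fun X₀ => funext (fun f => ?_))
            show (ψ X₀).hom (M.restrictₛₗ f (m + m')) =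
              (ψ X₀).hom (M.restrictₛₗ f m) + (ψ X₀).hom (M.restrictₛₗ f m')
            rw [map_add, map_add] })
      naturality := fun Y Y' g => by
        ext m
        refine funext (fun X₀ => funext (fun f' => ?_))
        show (ψ X₀).hom (M.map f' (M.map g m)) = (ψ X₀).hom (M.map (g ≫ f') m)
        rw [PresheafOfModules.map_comp_apply] }
    (by
      intro Y r m
      refine funext (fun X₀ => funext (fun f => ?_))
      show (ψ X₀).hom (M.map f (r • m)) = ((R.map f).hom r) • (ψ X₀).hom (M.map f m)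
      rw [PresheafOfModules.map_smul]
      exact (ψ X₀).hom.map_smul _ _)

theorem coindLift_app_apply {M : PresheafOfModules.{u+1} R} (ψ : ∀ X₀, M.obj X₀ ⟶ N X₀) (Y : Cᵒᵖ)
    (m : M.obj Y) (X₀ : Cᵒᵖ) (f : Y ⟶ X₀) :
    (show Carrier R N Y from (coindLift ψ).app Y m) X₀ f = (ψ X₀).hom (M.map f m) := rfl

theorem coind_map_apply {Y Y' : Cᵒᵖ} (g : Y ⟶ Y') (s : (coind R N).obj Y) (X₀ : Cᵒᵖ)
    (f' : Y' ⟶ X₀) :
    (show Carrier R N Y' from (coind R N).map g s) X₀ f' =
      (show Carrier R N Y from s) X₀ (g ≫ f') := rfl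

theorem coindLift_mono {M : PresheafOfModules.{u+1} R} (ψ : ∀ X₀, M.obj X₀ ⟶ N X₀)
    (hψ : ∀ X₀, Function.Injective (ψ X₀).hom) : Mono (coindLift ψ) := by
  apply PresheafOfModules.mono_of_injective
  intro Y m m' h
  apply hψ Y
  have hid : ∀ z : M.obj Y, (M.map (𝟙 Y) z : M.obj Y) = z := fun z =>
    ConcreteCategory.congr_hom (M.presheaf.map_id Y) z
  have h1 : (show Carrier R N Y from (coindLift ψ).app Y m) Y (𝟙 Y) =
      (show Carrier R N Y from (coindLift ψ).app Y m') Y (𝟙 Y) := by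
    rw [h]
  rw [coindLift_app_apply, coindLift_app_apply, hid, hid] at h1
  exact h1

variable (R N)

theorem coind_map_surjective {Y Y' : Cᵒᵖ} (g : Y ⟶ Y')
    (hg : ∀ (X₀ : Cᵒᵖ) (f₁ f₂ : Y' ⟶ X₀), g ≫ f₁ = g ≫ f₂ → f₁ = f₂) :
    Function.Surjective ((coind R N).map g) := by
  classical
  intro s'
  let s : Carrier R N Y := fun X₀ f =>
    if h : ∃ f' : Y' ⟶ X₀, g ≫ f' = f then (show Carrier R N Y' from s') X₀ h.choose else 0
  refine ⟨s, ?_⟩
  refine funext (fun X₀ => funext (fun f' => ?_))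
  have h : ∃ f'' : Y' ⟶ X₀, g ≫ f'' = g ≫ f' := ⟨f', rfl⟩
  have e : h.choose = f' := hg X₀ _ _ h.choose_spec
  show (if h : ∃ f'' : Y' ⟶ X₀, g ≫ f'' = g ≫ f' then
    (show Carrier R N Y' from s') X₀ h.choose else 0) = (show Carrier R N Y' from s') X₀ f'
  rw [dif_pos h, e]

end CoindAll

/-- restriction maps of an injective presheaf of modules along right-cancellable maps are
surjective -/
theorem injective_map_surjective (I : PresheafOfModules.{u+1} R) [Injective I] {Y Y' : Cᵒᵖ}
    (g : Y ⟶ Y')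
    (hg : ∀ (X₀ : Cᵒᵖ) (f₁ f₂ : Y' ⟶ X₀), g ≫ f₁ = g ≫ f₂ → f₁ = f₂) :
    Function.Surjective (I.map g) := by
  let φ : I ⟶ coind R (fun X₀ => I.obj X₀) := coindLift (fun X₀ => 𝟙 (I.obj X₀))
  haveI : Mono φ := coindLift_mono (fun X₀ => 𝟙 (I.obj X₀)) (fun X₀ x y h => h)
  have hr : φ ≫ Injective.factorThru (𝟙 I) φ = 𝟙 I := Injective.comp_factorThru (𝟙 I) φ
  intro y'
  obtain ⟨q, hq⟩ := coind_map_surjective R (fun X₀ => I.obj X₀) g hg (φ.app Y' y')
  refine ⟨(Injective.factorThru (𝟙 I) φ).app Y q, ?_⟩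
  rw [← PresheafOfModules.naturality_apply (Injective.factorThru (𝟙 I) φ) g q, hq]
  exact congrArg (fun k => (k.app Y').hom y') hr

end

/-! ### S8780 -/

/-- **S8780** -/
theorem main8780 (A : Type u) [CommRing A] (I : Adeq.MVF A) [Injective I]
    (B : Adeq.Alg A) (S : ShortComplex (ModuleCat.{u} B)) (hS : S.ShortExact) :
    Function.Surjective (AdeqTF.tangentMap B I S.g) := by
  haveI := hS.epi_g
  have hsurj : Function.Surjective S.g.hom := (ModuleCat.epi_iff_surjective S.g).mp inferInstance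
  have hmap : Function.Surjective (AdeqTF.map B S.g).hom := by
    intro z
    obtain ⟨n, hn⟩ := hsurj (TrivSqZeroExt.snd z)
    refine ⟨TrivSqZeroExt.inl (TrivSqZeroExt.fst z) + TrivSqZeroExt.inr n, ?_⟩
    show TrivSqZeroExt.map S.g.hom (TrivSqZeroExt.inl (TrivSqZeroExt.fst z) + TrivSqZeroExt.inr n) = z
    apply TrivSqZeroExt.ext
    · rw [TrivSqZeroExt.fst_map]
      simp
    · rw [TrivSqZeroExt.snd_map]
      simp [hn]
  have hepi : ∀ (X₀ : (Adeq.Alg A)ᵒᵖᵒᵖ) (f₁ f₂ : Adeq.pt (AdeqTF.ext B S.X₃) ⟶ X₀),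
      Adeq.ptHom (AdeqTF.map B S.g) ≫ f₁ = Adeq.ptHom (AdeqTF.map B S.g) ≫ f₂ → f₁ = f₂ := by
    intro X₀ f₁ f₂ h
    have h' : AdeqTF.map B S.g ≫ f₁.unop.unop = AdeqTF.map B S.g ≫ f₂.unop.unop :=
      congrArg (fun k => k.unop.unop) h
    have h'' : f₁.unop.unop = f₂.unop.unop := by
      apply CommAlgCat.hom_ext
      apply AlgHom.ext
      intro z
      obtain ⟨w, rfl⟩ := hmap z
      exact congrArg (fun k => k.hom w) h'
    exact Quiver.Hom.unop_inj (Quiver.Hom.unop_inj h'')
  have hI := injective_map_surjective (Adeq.ringOf A) I (Adeq.ptHom (AdeqTF.map B S.g)) hepi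
  rintro ⟨t₂, ht₂⟩
  obtain ⟨t, ht⟩ := hI t₂
  have ht₂0 : I.map (Adeq.ptHom (AdeqTF.fst B S.X₃)) t₂ = 0 := ht₂
  have htmem : I.map (Adeq.ptHom (AdeqTF.fst B S.X₂)) t = 0 := by
    have e : Adeq.ptHom (AdeqTF.map B S.g) ≫ Adeq.ptHom (AdeqTF.fst B S.X₃) =
        Adeq.ptHom (AdeqTF.fst B S.X₂) := congrArg Adeq.ptHom (AdeqTF.map_fst B S.g)
    rw [← I.congr_map_apply e, I.map_comp_apply, ht]
    exact ht₂0
  exact ⟨⟨t, htmem⟩, Subtype.ext ht⟩

end Groth.Agent.Lib.Helper29.PshModInjSurj
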