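import Mathlib

/-!
# Monic elements in punctual ideals of `k[Y][X]`
-/

set_option autoImplicit false
set_option maxHeartbeats 1600000

open Polynomial

namespace Groth.Agent.Lib.Helper29.PullA

variable {k : Type*} [Field k]

/-- reduction mod `Y` -/
noncomputable def redY : k[X][X] →+* k[X] := mapRingHom (evalRingHom (0 : k))

theorem redY_apply (p : k[X][X]) : redY p = p.map (evalRingHom (0 : k)) := rfl

theorem redY_surjective : Function.Surjective (redY (k := k)) := by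
  intro p
  obtain ⟨q, hq⟩ := Polynomial.map_surjective (evalRingHom (0 : k))
    (fun a => ⟨C a, by simp⟩) p
  exact ⟨q, hq⟩

theorem ker_redY : RingHom.ker (redY (k := k)) = Ideal.span {C (X : k[X])} := by
  unfold redY
  rw [Polynomial.ker_mapRingHom, Polynomial.ker_evalRingHom, Ideal.map_span, Set.image_singleton]
  simp

theorem redY_X_pow (n : ℕ) : redY ((X : k[X][X]) ^ n) = (X : k[X]) ^ n := by
  simp [redY]

theorem dvd_of_dvd_C_mul {R : Type*} [CommRing R] [IsDomain R] {F₀ H : R[X]} (hF : F₀.Monic)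
    {g : R} (hg : g ≠ 0) (h : F₀ ∣ C g * H) : F₀ ∣ H := by
  rw [← modByMonic_eq_zero_iff_dvd hF] at h ⊢
  rw [← smul_eq_C_mul, smul_modByMonic] at h
  exact (smul_eq_zero.1 h).resolve_left hg

theorem exists_monic (𝔞₀ : Ideal k[X][X]) (N : ℕ) (hX : (X : k[X][X]) ^ N ∈ 𝔞₀)
    (hY : (C (X : k[X]) : k[X][X]) ^ N ∈ 𝔞₀) :
    ∃ F₀ ∈ 𝔞₀, F₀.Monic ∧ 𝔞₀ ≤ Ideal.span {F₀} ⊔ Ideal.span {C (X : k[X])} := by
  classical
  have hXN : (X : k[X]) ^ N ∈ 𝔞₀.map (redY (k := k)) := by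
    have := Ideal.mem_map_of_mem (redY (k := k)) hX
    rwa [redY_X_pow] at this
  have hXJ : ∃ d, (X : k[X]) ^ d ∈ 𝔞₀.map (redY (k := k)) := ⟨N, hXN⟩
  obtain ⟨d, hd, hmin⟩ : ∃ d, (X : k[X]) ^ d ∈ 𝔞₀.map (redY (k := k)) ∧
      ∀ e, (X : k[X]) ^ e ∈ 𝔞₀.map (redY (k := k)) → d ≤ e :=
    ⟨Nat.find hXJ, Nat.find_spec hXJ, fun e he => Nat.find_min' hXJ he⟩
  -- the image ideal is generated by X^d
  have hJX : 𝔞₀.map (redY (k := k)) = Ideal.span {(X : k[X]) ^ d} := by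
    have hg₀ : 𝔞₀.map (redY (k := k)) =
        Ideal.span {Submodule.IsPrincipal.generator (𝔞₀.map (redY (k := k)))} :=
      (Ideal.span_singleton_generator _).symm
    have hdvd : Submodule.IsPrincipal.generator (𝔞₀.map (redY (k := k))) ∣ X ^ N := by
      rw [← Ideal.mem_span_singleton, ← hg₀]; exact hXN
    obtain ⟨e, -, hassoc⟩ := (dvd_prime_pow Polynomial.prime_X N).1 hdvd
    have hJe : 𝔞₀.map (redY (k := k)) = Ideal.span {(X : k[X]) ^ e} := by
      rw [hg₀]; exact Ideal.span_singleton_eq_span_singleton.2 hassoc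
    have h1 : d ≤ e := hmin e (by rw [hJe]; exact Ideal.mem_span_singleton_self _)
    have h2 : e ≤ d := by
      have : (X : k[X]) ^ e ∣ X ^ d := by
        rw [← Ideal.mem_span_singleton, ← hJe]; exact hd
      exact (pow_dvd_pow_iff Polynomial.X_ne_zero Polynomial.not_isUnit_X).1 this
    rw [hJe, le_antisymm h2 h1]
  -- X^d = a₀ + C X * w
  obtain ⟨a₀, ha₀, w, hw⟩ : ∃ a₀ ∈ 𝔞₀, ∃ w, (X : k[X][X]) ^ d = a₀ + C X * w := by
    obtain ⟨a₀, ha₀, ha₀'⟩ := (Ideal.mem_map_iff_of_surjective _ redY_surjective).1 hd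
    have hk : (X : k[X][X]) ^ d - a₀ ∈ RingHom.ker (redY (k := k)) := by
      rw [RingHom.mem_ker, map_sub, ha₀', redY_X_pow, sub_self]
    rw [ker_redY, Ideal.mem_span_singleton'] at hk
    obtain ⟨w, hw⟩ := hk
    exact ⟨a₀, ha₀, w, by rw [mul_comm, hw]; ring⟩
  -- base decomposition
  have base : ∀ h : k[X][X], ∃ p a h', p ∈ degreeLT k[X] d ∧ a ∈ 𝔞₀ ∧
      h = p + a + C X * h' := by
    intro h
    obtain ⟨q, r, hr, e⟩ : ∃ q r : k[X][X], r ∈ degreeLT k[X] d ∧ h = r + X ^ d * q := by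
      refine ⟨h /ₘ X ^ d, h %ₘ X ^ d, ?_, (modByMonic_add_div h (X ^ d)).symm⟩
      rw [mem_degreeLT]
      have := degree_modByMonic_lt h (monic_X_pow (R := k[X]) d)
      rwa [degree_X_pow] at this
    refine ⟨r, a₀ * q, w * q, hr, 𝔞₀.mul_mem_right _ ha₀, ?_⟩
    rw [e, hw]; ring
  have iter : ∀ j : ℕ, ∀ h : k[X][X], ∃ p a h', p ∈ degreeLT k[X] d ∧ a ∈ 𝔞₀ ∧
      h = p + a + (C X) ^ j * h' := by
    intro j
    induction j with
    | zero => intro h; exact ⟨0, 0, h, Submodule.zero_mem _, 𝔞₀.zero_mem, by simp⟩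
    | succ j ih =>
      intro h
      obtain ⟨p, a, h', hp, ha, e⟩ := ih h
      obtain ⟨p', a', h'', hp', ha', e'⟩ := base h'
      refine ⟨p + (X : k[X]) ^ j • p', a + (C X) ^ j * a', h'', ?_, ?_, ?_⟩
      · exact Submodule.add_mem _ hp (Submodule.smul_mem _ _ hp')
      · exact 𝔞₀.add_mem ha (𝔞₀.mul_mem_left _ ha')
      · rw [e, e', smul_eq_C_mul, C_pow]; ring
  obtain ⟨p, a, h', hp, ha, e⟩ := iter N (X ^ d)
  have hF : (X : k[X][X]) ^ d - p ∈ 𝔞₀ := by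
    have : (X : k[X][X]) ^ d - p = a + (C X) ^ N * h' := by rw [e]; ring
    rw [this]; exact 𝔞₀.add_mem ha (𝔞₀.mul_mem_right _ hY)
  have hpd : degree p < d := mem_degreeLT.1 hp
  have hmon : ((X : k[X][X]) ^ d - p).Monic := monic_X_pow_sub hpd
  refine ⟨X ^ d - p, hF, hmon, ?_⟩
  intro g hg
  obtain ⟨q, r, hrdeg, e2⟩ : ∃ q r : k[X][X], degree r < d ∧ g = r + (X ^ d - p) * q := by
    refine ⟨g /ₘ (X ^ d - p), g %ₘ (X ^ d - p), ?_, (modByMonic_add_div g (X ^ d - p)).symm⟩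
    have h1 := degree_modByMonic_lt g hmon
    have h2 : degree ((X : k[X][X]) ^ d - p) ≤ d := by
      refine (degree_sub_le _ _).trans ?_
      rw [degree_X_pow]; exact max_le le_rfl hpd.le
    exact lt_of_lt_of_le h1 h2
  have hr𝔞 : r ∈ 𝔞₀ := by
    have : r = g - (X ^ d - p) * q := by rw [e2]; ring
    rw [this]; exact 𝔞₀.sub_mem hg (𝔞₀.mul_mem_right _ hF)
  have hπr : redY r = 0 := by
    have hmemJ : redY r ∈ 𝔞₀.map (redY (k := k)) := Ideal.mem_map_of_mem _ hr𝔞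
    rw [hJX, Ideal.mem_span_singleton] at hmemJ
    refine Polynomial.eq_zero_of_dvd_of_degree_lt hmemJ ?_
    rw [degree_X_pow, redY_apply]
    exact lt_of_le_of_lt (degree_map_le) hrdeg
  have hrY : r ∈ Ideal.span {C (X : k[X])} := by rw [← ker_redY]; exact hπr
  rw [e2]
  exact Ideal.add_mem _ (Ideal.mem_sup_right hrY)
    (Ideal.mem_sup_left (Ideal.mul_mem_right _ _ (Ideal.mem_span_singleton_self _)))

end Groth.Agent.Lib.Helper29.PullA
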