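import Mathlib

/-!
# `k[x,y] ≃ k[Y][X]` with a chosen ordering of the variables, and evaluation lemmas
-/

set_option autoImplicit false
set_option maxHeartbeats 1600000

namespace Groth.Agent.Lib.Helper29.PullB

variable {k : Type*} [Field k]

/-- `x ↦ X`, `y ↦ C Y` -/
noncomputable def Phi (ix : Fin 2) :
    MvPolynomial (Fin 2) k →ₐ[k] Polynomial (Polynomial k) :=
  MvPolynomial.aeval (fun i => if i = ix then Polynomial.X else Polynomial.C Polynomial.X)

/-- `X ↦ x`, `C Y ↦ y` -/
noncomputable def Psi (ix iy : Fin 2) :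
    Polynomial (Polynomial k) →+* MvPolynomial (Fin 2) k :=
  Polynomial.eval₂RingHom
    (Polynomial.aeval (MvPolynomial.X iy : MvPolynomial (Fin 2) k)).toRingHom (MvPolynomial.X ix)

theorem other (i ix iy : Fin 2) (hxy : ix ≠ iy) (h : i ≠ ix) : i = iy := by
  revert i ix iy; decide

@[simp] theorem Phi_X (ix : Fin 2) : Phi (k := k) ix (MvPolynomial.X ix) = Polynomial.X := by
  simp [Phi]

theorem Phi_Y {ix iy : Fin 2} (hxy : ix ≠ iy) :
    Phi (k := k) ix (MvPolynomial.X iy) = Polynomial.C Polynomial.X := by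
  simp [Phi, hxy.symm]

@[simp] theorem Psi_X (ix iy : Fin 2) : Psi (k := k) ix iy Polynomial.X = MvPolynomial.X ix := by
  simp [Psi]

@[simp] theorem Psi_C (ix iy : Fin 2) (a : Polynomial k) :
    Psi (k := k) ix iy (Polynomial.C a) = Polynomial.aeval (MvPolynomial.X iy) a := by
  simp [Psi]

theorem Psi_Phi {ix iy : Fin 2} (hxy : ix ≠ iy) (a : MvPolynomial (Fin 2) k) :
    Psi ix iy (Phi ix a) = a := by
  have : (Psi (k := k) ix iy).comp (Phi ix).toRingHom = RingHom.id _ := by
    apply MvPolynomial.ringHom_ext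
    · intro r
      simp [Phi, Psi]
    · intro i
      by_cases h : i = ix
      · subst h; simp
      · have h' := other i ix iy hxy h
        subst h'
        simp [Phi_Y hxy]
  exact RingHom.congr_fun this a

theorem Phi_aeval {ix iy : Fin 2} (hxy : ix ≠ iy) (g : Polynomial k) :
    Phi (k := k) ix (Polynomial.aeval (MvPolynomial.X iy) g) = Polynomial.C g := by
  have : (Phi (k := k) ix).toRingHom.comp
      (Polynomial.aeval (MvPolynomial.X iy : MvPolynomial (Fin 2) k)).toRingHom = Polynomial.C := by
    apply Polynomial.ringHom_ext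
    · intro r
      simp
    · simp [Phi_Y hxy]
  exact RingHom.congr_fun this g

theorem Phi_Psi {ix iy : Fin 2} (hxy : ix ≠ iy) (F : Polynomial (Polynomial k)) :
    Phi ix (Psi ix iy F) = F := by
  have : (Phi (k := k) ix).toRingHom.comp (Psi ix iy) = RingHom.id _ := by
    apply Polynomial.ringHom_ext
    · intro a
      simp [Phi_aeval hxy]
    · simp
  exact RingHom.congr_fun this F

theorem sub_C_eval_mem (p : Fin 2 → k) (J : Ideal (MvPolynomial (Fin 2) k))
    (hJ : ∀ i, MvPolynomial.X i - MvPolynomial.C (p i) ∈ J) (g : MvPolynomial (Fin 2) k) :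
    g - MvPolynomial.C (MvPolynomial.eval p g) ∈ J := by
  induction g using MvPolynomial.induction_on with
  | C a => simp
  | add g h hg hh =>
    have : g + h - MvPolynomial.C (MvPolynomial.eval p (g + h)) =
        (g - MvPolynomial.C (MvPolynomial.eval p g)) +
          (h - MvPolynomial.C (MvPolynomial.eval p h)) := by
      simp only [map_add]; ring
    rw [this]; exact J.add_mem hg hh
  | mul_X g i hg =>
    have : g * MvPolynomial.X i - MvPolynomial.C (MvPolynomial.eval p (g * MvPolynomial.X i)) =
        (g - MvPolynomial.C (MvPolynomial.eval p g)) * MvPolynomial.X i +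
          MvPolynomial.C (MvPolynomial.eval p g) * (MvPolynomial.X i - MvPolynomial.C (p i)) := by
      simp only [map_mul, MvPolynomial.eval_X]; ring
    rw [this]; exact J.add_mem (J.mul_mem_right _ hg) (J.mul_mem_left _ (hJ i))

theorem mem_of_eval_eq_zero (p : Fin 2 → k) (J : Ideal (MvPolynomial (Fin 2) k))
    (hJ : ∀ i, MvPolynomial.X i - MvPolynomial.C (p i) ∈ J) (g : MvPolynomial (Fin 2) k)
    (hg : MvPolynomial.eval p g = 0) : g ∈ J := by
  have := sub_C_eval_mem p J hJ g
  rwa [hg, map_zero, sub_zero] at this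

theorem eval_eq (ix : Fin 2) (x₀ c : k) (g : MvPolynomial (Fin 2) k) :
    MvPolynomial.eval (fun i => if i = ix then x₀ else c) g =
      Polynomial.eval x₀ ((Phi ix g).map (Polynomial.evalRingHom c)) := by
  have : (MvPolynomial.eval (fun i => if i = ix then x₀ else c)) =
      ((Polynomial.evalRingHom x₀).comp
        (Polynomial.mapRingHom (Polynomial.evalRingHom c))).comp (Phi (k := k) ix).toRingHom := by
    apply MvPolynomial.ringHom_ext
    · intro r
      simp [Phi]
    · intro i
      by_cases h : i = ix <;> simp [Phi, h]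
  exact RingHom.congr_fun this g

/-- the ideal of the origin -/
theorem span_le_ker_eval : Ideal.span {(MvPolynomial.X 0 : MvPolynomial (Fin 2) k), MvPolynomial.X 1} ≤
    RingHom.ker (MvPolynomial.eval (0 : Fin 2 → k)) := by
  rw [Ideal.span_le]
  rintro _ (rfl | rfl) <;> simp [RingHom.mem_ker]

theorem mem_span_of_eval_zero (g : MvPolynomial (Fin 2) k)
    (hg : MvPolynomial.eval (0 : Fin 2 → k) g = 0) :
    g ∈ Ideal.span {(MvPolynomial.X 0 : MvPolynomial (Fin 2) k), MvPolynomial.X 1} := by
  apply mem_of_eval_eq_zero (0 : Fin 2 → k) _ _ g hg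
  intro i
  simp only [Pi.zero_apply, map_zero, sub_zero]
  apply Ideal.subset_span
  fin_cases i <;> simp

theorem span_eq_ker_eval : Ideal.span {(MvPolynomial.X 0 : MvPolynomial (Fin 2) k), MvPolynomial.X 1} =
    RingHom.ker (MvPolynomial.eval (0 : Fin 2 → k)) :=
  le_antisymm span_le_ker_eval (fun g hg => mem_span_of_eval_zero g hg)

theorem span_isMaximal :
    (Ideal.span {(MvPolynomial.X 0 : MvPolynomial (Fin 2) k), MvPolynomial.X 1}).IsMaximal := by
  rw [span_eq_ker_eval]
  apply RingHom.ker_isMaximal_of_surjective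
  intro a
  exact ⟨MvPolynomial.C a, by simp⟩

end Groth.Agent.Lib.Helper29.PullB
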