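import Mathlib

/-!
# The family `(f, y - t) ∩ 𝔟[t]`
-/

set_option autoImplicit false
set_option maxHeartbeats 1600000

open Polynomial

namespace Groth.Agent.Lib.Helper29.PullC

variable {A : Type*} [CommRing A]

/-- `(𝔞 : y)` -/
def colon (𝔞 : Ideal A) (y : A) : Ideal A where
  carrier := {b | y * b ∈ 𝔞}
  add_mem' := by
    intro a b ha hb
    simp only [Set.mem_setOf_eq] at *
    rw [mul_add]; exact 𝔞.add_mem ha hb
  zero_mem' := by simp
  smul_mem' := by
    intro c b hb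
    simp only [Set.mem_setOf_eq, smul_eq_mul] at *
    rw [mul_left_comm]; exact 𝔞.mul_mem_left c hb

theorem mem_colon {𝔞 : Ideal A} {y b : A} : b ∈ colon 𝔞 y ↔ y * b ∈ 𝔞 := Iff.rfl

theorem le_colon (𝔞 : Ideal A) (y : A) : 𝔞 ≤ colon 𝔞 y := fun _ ha => 𝔞.mul_mem_left y ha

noncomputable def I1 (f y : A) : Ideal A[X] := Ideal.span {C f, C y - X}

noncomputable def I2 (𝔟 : Ideal A) : Ideal A[X] := 𝔟.map (C : A →+* A[X])

theorem I1_eq_comap (f y : A) : I1 f y = (Ideal.span {f}).comap (evalRingHom y) := by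
  apply le_antisymm
  · rw [I1, Ideal.span_le]
    rintro _ (rfl | rfl)
    · simp [Ideal.mem_comap, Ideal.mem_span_singleton_self]
    · simp [Ideal.mem_comap]
  · intro F hF
    rw [Ideal.mem_comap, Ideal.mem_span_singleton'] at hF
    obtain ⟨u, hu⟩ := hF
    have hk : F - C u * C f ∈ RingHom.ker (evalRingHom y) := by
      rw [RingHom.mem_ker, map_sub, map_mul, ← hu]
      simp
    rw [Polynomial.ker_evalRingHom, Ideal.mem_span_singleton'] at hk
    obtain ⟨v, hv⟩ := hk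
    have : F = C u * C f + (-v) * (C y - X) := by
      have : F = C u * C f + v * (X - C y) := by rw [hv]; ring
      rw [this]; ring
    rw [this]
    exact Ideal.add_mem _ (Ideal.mul_mem_left _ _ (Ideal.subset_span (by simp)))
      (Ideal.mul_mem_left _ _ (Ideal.subset_span (by simp)))

theorem mem_I1_iff {f y : A} {F : A[X]} : F ∈ I1 f y ↔ f ∣ F.eval y := by
  rw [I1_eq_comap, Ideal.mem_comap, Ideal.mem_span_singleton]; rfl

theorem mem_I2_iff {𝔟 : Ideal A} {F : A[X]} : F ∈ I2 𝔟 ↔ F.map (Ideal.Quotient.mk 𝔟) = 0 := by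
  have := Polynomial.ker_mapRingHom (Ideal.Quotient.mk 𝔟)
  rw [Ideal.mk_ker] at this
  rw [I2, ← this, RingHom.mem_ker]; rfl

theorem mem_I2_of_mul {𝔟 : Ideal A} {y : A} {v : A[X]} (h : v * (C y - X) ∈ I2 𝔟) :
    v ∈ I2 𝔟 := by
  rw [mem_I2_iff] at h ⊢
  rw [Polynomial.map_mul, Polynomial.map_sub, Polynomial.map_C, Polynomial.map_X] at h
  have h' : v.map (Ideal.Quotient.mk 𝔟) * (X - C (Ideal.Quotient.mk 𝔟 y)) = 0 := by
    have : v.map (Ideal.Quotient.mk 𝔟) * (X - C (Ideal.Quotient.mk 𝔟 y)) =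
        -(v.map (Ideal.Quotient.mk 𝔟) * (C (Ideal.Quotient.mk 𝔟 y) - X)) := by ring
    rw [this, h, neg_zero]
  exact (Polynomial.Monic.mul_left_eq_zero_iff (monic_X_sub_C _)).1 h'

theorem fibre_zero (𝔞 : Ideal A) (f y : A) (hf : f ∈ 𝔞)
    (hle : 𝔞 ≤ Ideal.span {f} ⊔ Ideal.span {y}) :
    (I1 f y ⊓ I2 (colon 𝔞 y)).map (evalRingHom (0 : A)) = 𝔞 := by
  have hsurj : Function.Surjective (evalRingHom (0 : A)) := fun a => ⟨C a, by simp⟩
  apply le_antisymm
  · intro a ha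
    obtain ⟨F, hF, rfl⟩ := (Ideal.mem_map_iff_of_surjective _ hsurj).1 ha
    have hF1 : F ∈ Ideal.span {C f, C y - X} := hF.1
    have hF2 : F ∈ I2 (colon 𝔞 y) := hF.2
    rw [Ideal.mem_span_pair] at hF1
    obtain ⟨u, v, huv⟩ := hF1
    have hCf : u * C f ∈ I2 (colon 𝔞 y) :=
      Ideal.mul_mem_left _ _ (Ideal.mem_map_of_mem _ (le_colon 𝔞 y hf))
    have hv : v * (C y - X) ∈ I2 (colon 𝔞 y) := by
      have : v * (C y - X) = F - u * C f := by rw [← huv]; ring
      rw [this]; exact Ideal.sub_mem _ hF2 hCf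
    have hv' := mem_I2_of_mul hv
    have hv0 : v.coeff 0 ∈ colon 𝔞 y := (Ideal.mem_map_C_iff.1 hv') 0
    rw [← huv]
    simp only [coe_evalRingHom, eval_add, eval_mul, eval_C, eval_sub, eval_X, sub_zero]
    refine 𝔞.add_mem (𝔞.mul_mem_left _ hf) ?_
    rw [← coeff_zero_eq_eval_zero, mul_comm]
    exact hv0
  · intro a ha
    obtain ⟨a1, ha1, a2, ha2, rfl⟩ := Submodule.mem_sup.1 (hle ha)
    obtain ⟨u, rfl⟩ := Ideal.mem_span_singleton'.1 ha1
    obtain ⟨v, rfl⟩ := Ideal.mem_span_singleton'.1 ha2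
    have hvb : v ∈ colon 𝔞 y := by
      rw [mem_colon, mul_comm]
      have : v * y = (u * f + v * y) - u * f := by ring
      rw [this]; exact 𝔞.sub_mem ha (𝔞.mul_mem_left _ hf)
    refine (Ideal.mem_map_iff_of_surjective _ hsurj).2
      ⟨C u * C f + C v * (C y - X), ⟨?_, ?_⟩, by simp⟩
    · exact Ideal.add_mem _ (Ideal.mul_mem_left _ _ (Ideal.subset_span (by simp)))
        (Ideal.mul_mem_left _ _ (Ideal.subset_span (by simp)))
    · refine Ideal.add_mem _ ?_ (Ideal.mul_mem_right _ _ (Ideal.mem_map_of_mem _ hvb))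
      rw [← C_mul]
      exact Ideal.mem_map_of_mem _ ((colon 𝔞 y).mul_mem_left _ (le_colon 𝔞 y hf))

theorem fibre_le_I2 (f y c : A) (𝔟 : Ideal A) :
    (I1 f y ⊓ I2 𝔟).map (evalRingHom c) ≤ 𝔟 := by
  refine (Ideal.map_mono inf_le_right).trans ?_
  rw [I2, Ideal.map_map]
  have : (evalRingHom c).comp C = RingHom.id A := by ext a; simp
  rw [this, Ideal.map_id]

theorem fibre_le_I1 (f y c : A) (𝔟 : Ideal A) :
    (I1 f y ⊓ I2 𝔟).map (evalRingHom c) ≤ Ideal.span {f, y - c} := by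
  refine (Ideal.map_mono inf_le_left).trans ?_
  rw [I1, Ideal.map_span, Ideal.span_le]
  rintro _ ⟨_, (rfl | rfl), rfl⟩
  · apply Ideal.subset_span; simp
  · apply Ideal.subset_span; simp

theorem mem_I2_of_smul {k : Type*} [Field k] [Algebra k A] (𝔟 : Ideal A) (g : k[X])
    (hg : g ≠ 0) (F : A[X]) (h : g.map (algebraMap k A) * F ∈ I2 𝔟) : F ∈ I2 𝔟 := by
  rw [mem_I2_iff] at h ⊢
  rw [Polynomial.map_mul, Polynomial.map_map] at h
  have hmon : (g * C (g.leadingCoeff)⁻¹).Monic := monic_mul_leadingCoeff_inv hg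
  have hmon' := hmon.map ((Ideal.Quotient.mk 𝔟).comp (algebraMap k A))
  have h2 : (g * C (g.leadingCoeff)⁻¹).map ((Ideal.Quotient.mk 𝔟).comp (algebraMap k A)) *
      F.map (Ideal.Quotient.mk 𝔟) = 0 := by
    rw [Polynomial.map_mul, mul_right_comm, h, zero_mul]
  exact (hmon'.mul_right_eq_zero_iff).1 h2

end Groth.Agent.Lib.Helper29.PullC
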