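import Mathlib

/-!
# Generic lemmas: finiteness of a quotient algebra from integral generators
-/

set_option autoImplicit false
set_option maxHeartbeats 1600000

open Polynomial

namespace Groth.Agent.Lib.Helper29.PullE

variable {R B : Type*} [CommRing R] [CommRing B] [Algebra R B]

theorem isIntegral_mk_of_eval₂_mem (J : Ideal B) (b : B) (p : R[X]) (hp : p.Monic)
    (h : eval₂ (algebraMap R B) b p ∈ J) : IsIntegral R (Ideal.Quotient.mk J b) := by
  refine ⟨p, hp, ?_⟩
  rw [← Ideal.Quotient.mk_comp_algebraMap, ← Polynomial.hom_eval₂, Ideal.Quotient.eq_zero_iff_mem]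
  exact h

theorem isIntegral_mk_of_mul_mem (J : Ideal B) (b : B) (r : R) (N : ℕ)
    (h : (b - algebraMap R B r) * b ^ N ∈ J) : IsIntegral R (Ideal.Quotient.mk J b) := by
  refine isIntegral_mk_of_eval₂_mem J b ((X - C r) * X ^ N)
    ((monic_X_sub_C r).mul (monic_X_pow N)) ?_
  simpa [eval₂_mul, eval₂_sub, eval₂_X, eval₂_C, eval₂_X_pow] using h

theorem isIntegral_mk_of_eval₂_mul_pow_mem (J : Ideal B) (b : B) (p : R[X]) (hp : p.Monic)
    (D : ℕ) (h : eval₂ (algebraMap R B) b p * b ^ D ∈ J) :
    IsIntegral R (Ideal.Quotient.mk J b) := by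
  refine isIntegral_mk_of_eval₂_mem J b (p * X ^ D) (hp.mul (monic_X_pow D)) ?_
  rwa [eval₂_mul, eval₂_X_pow]

theorem finite_quotient_of_integral_generators (J : Ideal B) (s : Finset B)
    (hs : Algebra.adjoin R (s : Set B) = ⊤)
    (hint : ∀ b ∈ s, IsIntegral R (Ideal.Quotient.mk J b)) : Module.Finite R (B ⧸ J) := by
  haveI hft : Algebra.FiniteType R B := ⟨⟨s, hs⟩⟩
  haveI : Algebra.FiniteType R (B ⧸ J) :=
    Algebra.FiniteType.of_surjective (Ideal.Quotient.mkₐ R J) (Ideal.Quotient.mkₐ_surjective R J)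
  haveI : Algebra.IsIntegral R (B ⧸ J) := by
    constructor
    intro q
    obtain ⟨b, rfl⟩ := Ideal.Quotient.mk_surjective q
    have hb : b ∈ Algebra.adjoin R (s : Set B) := hs ▸ Algebra.mem_top
    induction hb using Algebra.adjoin_induction with
    | mem x hx => exact hint x hx
    | algebraMap r => rw [Ideal.Quotient.mk_algebraMap]; exact isIntegral_algebraMap
    | add x y _ _ hx hy => rw [map_add]; exact hx.add hy
    | mul x y _ _ hx hy => rw [map_mul]; exact hx.mul hy
  exact Algebra.IsIntegral.finite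

theorem finite_quotient_of_integral_generators' (J : Ideal B) (s : Set B) (hfin : s.Finite)
    (hs : Algebra.adjoin R s = ⊤)
    (hint : ∀ b ∈ s, IsIntegral R (Ideal.Quotient.mk J b)) : Module.Finite R (B ⧸ J) := by
  classical
  refine finite_quotient_of_integral_generators J hfin.toFinset
    (by rwa [Set.Finite.coe_toFinset]) (fun b hb => hint b (by simpa using hb))

end Groth.Agent.Lib.Helper29.PullE
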