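import Mathlib
import Groth.Agent.Lib.Helper29.PullA
import Groth.Agent.Lib.Helper29.PullB
import Groth.Agent.Lib.Helper29.PullC
import Groth.Agent.Lib.Helper29.PullE

/-!
# Pulling apart a punctual ideal of the plane: flatness, finiteness, fibres
-/

set_option autoImplicit false
set_option maxHeartbeats 1600000

universe u

open Polynomial

namespace Groth.Agent.Lib.Helper29.PullD

open Groth.Agent.Lib.Helper29.PullA Groth.Agent.Lib.Helper29.PullB Groth.Agent.Lib.Helper29.PullC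
  Groth.Agent.Lib.Helper29.PullE

variable {k : Type u} [Field k]

/-- the `k[t]`-algebra structure on `k[x,y][t]` (Mathlib's `Polynomial.algebra`, a local instance there) -/
noncomputable local instance instPolyAlg : Algebra k[X] (MvPolynomial (Fin 2) k)[X] :=
  Polynomial.algebra k (MvPolynomial (Fin 2) k)

/-- the family -/
noncomputable abbrev fam (𝔞 : Ideal (MvPolynomial (Fin 2) k)) (iy : Fin 2)
    (f : MvPolynomial (Fin 2) k) : Ideal (MvPolynomial (Fin 2) k)[X] :=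
  I1 f (MvPolynomial.X iy) ⊓ I2 (colon 𝔞 (MvPolynomial.X iy))

theorem flat_fam (𝔞 : Ideal (MvPolynomial (Fin 2) k)) {ix iy : Fin 2} (hxy : ix ≠ iy)
    (f : MvPolynomial (Fin 2) k) (hmon : (Phi ix f).Monic) :
    Module.Flat k[X] ((MvPolynomial (Fin 2) k)[X] ⧸ fam 𝔞 iy f) := by
  rw [Module.Flat.flat_iff_torsion_eq_bot_of_isBezout, eq_bot_iff]
  intro q hq
  rw [Submodule.mem_torsion_iff] at hq
  obtain ⟨⟨g, hg⟩, hgq⟩ := hq
  obtain ⟨F, rfl⟩ := Ideal.Quotient.mk_surjective q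
  have hg0 : g ≠ 0 := nonZeroDivisors.ne_zero hg
  have hmem : g.map (algebraMap k (MvPolynomial (Fin 2) k)) * F ∈ fam 𝔞 iy f := by
    have h0 : Ideal.Quotient.mk (fam 𝔞 iy f) (g • F) = 0 := by
      have := map_smul (Ideal.Quotient.mkₐ k[X] (fam 𝔞 iy f)) g F
      exact this.trans hgq
    rw [Ideal.Quotient.eq_zero_iff_mem, Algebra.smul_def, Polynomial.algebraMap_def] at h0
    exact h0
  rw [Submodule.mem_bot, Ideal.Quotient.eq_zero_iff_mem]
  refine ⟨?_, mem_I2_of_smul _ g hg0 F hmem.2⟩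
  have h1 : g.map (algebraMap k (MvPolynomial (Fin 2) k)) * F ∈ I1 f (MvPolynomial.X iy) := hmem.1
  show F ∈ I1 f (MvPolynomial.X iy)
  rw [mem_I1_iff] at h1 ⊢
  rw [eval_mul, eval_map_algebraMap] at h1
  have h2 : Phi ix f ∣ Polynomial.C g * Phi ix (F.eval (MvPolynomial.X iy)) := by
    have := map_dvd (Phi (k := k) ix) h1
    rwa [map_mul, Phi_aeval hxy] at this
  have h3 := dvd_of_dvd_C_mul hmon hg0 h2
  have h4 := map_dvd (Psi (k := k) ix iy) h3
  rwa [Psi_Phi hxy, Psi_Phi hxy] at h4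

theorem algebraMap_X_eq :
    algebraMap k[X] (MvPolynomial (Fin 2) k)[X] X = X := by
  rw [Polynomial.algebraMap_def]; simp

theorem algebraMap_C_eq (r : k) :
    algebraMap k[X] (MvPolynomial (Fin 2) k)[X] (C r) = C (MvPolynomial.C r) := by
  rw [Polynomial.algebraMap_def]; simp [MvPolynomial.algebraMap_eq]

theorem adjoin_poly : Algebra.adjoin k[X]
    ({(C (MvPolynomial.X 0) : (MvPolynomial (Fin 2) k)[X]), C (MvPolynomial.X 1)} :
      Set (MvPolynomial (Fin 2) k)[X]) = ⊤ := by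
  rw [eq_top_iff]
  rintro F -
  have hC : ∀ a : MvPolynomial (Fin 2) k, (C a : (MvPolynomial (Fin 2) k)[X]) ∈
      Algebra.adjoin k[X] ({(C (MvPolynomial.X 0) : (MvPolynomial (Fin 2) k)[X]),
        C (MvPolynomial.X 1)} : Set (MvPolynomial (Fin 2) k)[X]) := by
    intro a
    induction a using MvPolynomial.induction_on with
    | C r =>
      rw [← algebraMap_C_eq]; exact Subalgebra.algebraMap_mem _ _
    | add p q hp hq => rw [C_add]; exact Subalgebra.add_mem _ hp hq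
    | mul_X p i hp =>
      rw [C_mul]
      refine Subalgebra.mul_mem _ hp (Algebra.subset_adjoin ?_)
      fin_cases i <;> simp
  induction F using Polynomial.induction_on' with
  | add p q hp hq => exact Subalgebra.add_mem _ hp hq
  | monomial n a =>
    rw [← C_mul_X_pow_eq_monomial]
    refine Subalgebra.mul_mem _ (hC a) (Subalgebra.pow_mem _ ?_ n)
    rw [← algebraMap_X_eq]; exact Subalgebra.algebraMap_mem _ _

theorem eval_comp_eq (ix iy : Fin 2) :
    (evalRingHom (MvPolynomial.X iy : MvPolynomial (Fin 2) k)).comp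
      (eval₂RingHom (algebraMap k[X] (MvPolynomial (Fin 2) k)[X]) (C (MvPolynomial.X ix))) =
      Psi ix iy := by
  apply Polynomial.ringHom_ext
  · intro a
    rw [Psi_C]
    show eval (MvPolynomial.X iy) (eval₂ (algebraMap k[X] (MvPolynomial (Fin 2) k)[X])
      (C (MvPolynomial.X ix)) (C a)) = _
    rw [eval₂_C, Polynomial.algebraMap_def, coe_mapRingHom, eval_map_algebraMap]
  · simp

theorem finite_fam (𝔞 : Ideal (MvPolynomial (Fin 2) k)) {ix iy : Fin 2} (hxy : ix ≠ iy)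
    (f : MvPolynomial (Fin 2) k) (hf : f ∈ 𝔞) (hmon : (Phi ix f).Monic)
    (D : ℕ) (hxD : (MvPolynomial.X ix : MvPolynomial (Fin 2) k) ^ D ∈ 𝔞)
    (N : ℕ) (hyN : (MvPolynomial.X iy : MvPolynomial (Fin 2) k) ^ N ∈ 𝔞) :
    Module.Finite k[X] ((MvPolynomial (Fin 2) k)[X] ⧸ fam 𝔞 iy f) := by
  have hyb : IsIntegral k[X] (Ideal.Quotient.mk (fam 𝔞 iy f) (C (MvPolynomial.X iy))) := by
    refine isIntegral_mk_of_mul_mem (fam 𝔞 iy f) (C (MvPolynomial.X iy)) (X : k[X]) N ?_
    rw [algebraMap_X_eq]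
    refine ⟨?_, ?_⟩
    · exact Ideal.mul_mem_right _ _ (Ideal.subset_span (by simp))
    · refine Ideal.mul_mem_left _ _ ?_
      rw [← C_pow]; exact Ideal.mem_map_of_mem _ (le_colon 𝔞 _ hyN)
  have hxb : IsIntegral k[X] (Ideal.Quotient.mk (fam 𝔞 iy f) (C (MvPolynomial.X ix))) := by
    refine isIntegral_mk_of_eval₂_mul_pow_mem (fam 𝔞 iy f) (C (MvPolynomial.X ix)) (Phi ix f)
      hmon D ?_
    refine ⟨?_, ?_⟩
    · show _ ∈ I1 f (MvPolynomial.X iy)
      rw [mem_I1_iff, eval_mul, eval_pow, eval_C]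
      have e2 : (eval₂ (algebraMap k[X] (MvPolynomial (Fin 2) k)[X]) (C (MvPolynomial.X ix))
          (Phi ix f)).eval (MvPolynomial.X iy) = f := by
        have := RingHom.congr_fun (eval_comp_eq (k := k) ix iy) (Phi ix f)
        rw [Psi_Phi hxy] at this
        exact this
      rw [e2]; exact dvd_mul_right _ _
    · refine Ideal.mul_mem_left _ _ ?_
      rw [← C_pow]; exact Ideal.mem_map_of_mem _ (le_colon 𝔞 _ hxD)
  have hall : ∀ i : Fin 2,
      IsIntegral k[X] (Ideal.Quotient.mk (fam 𝔞 iy f) (C (MvPolynomial.X i))) := by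
    intro i
    by_cases h : i = ix
    · subst h; exact hxb
    · have h' := other i ix iy hxy h
      subst h'; exact hyb
  refine finite_quotient_of_integral_generators' (fam 𝔞 iy f)
    {(C (MvPolynomial.X 0) : (MvPolynomial (Fin 2) k)[X]), C (MvPolynomial.X 1)}
    (Set.toFinite _) adjoin_poly ?_
  intro b hb
  rcases hb with rfl | rfl
  · exact hall 0
  · exact hall 1

theorem ringHom_flat_fam (𝔞 : Ideal (MvPolynomial (Fin 2) k)) {ix iy : Fin 2} (hxy : ix ≠ iy)
    (f : MvPolynomial (Fin 2) k) (hmon : (Phi ix f).Monic) :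
    RingHom.Flat (R := k[X]) (S := (MvPolynomial (Fin 2) k)[X] ⧸ fam 𝔞 iy f)
      ((Ideal.Quotient.mk (fam 𝔞 iy f)).comp
        (Polynomial.mapRingHom (algebraMap k (MvPolynomial (Fin 2) k)))) :=
  RingHom.flat_algebraMap_iff.2 (flat_fam 𝔞 hxy f hmon)

theorem ringHom_finite_fam (𝔞 : Ideal (MvPolynomial (Fin 2) k)) {ix iy : Fin 2} (hxy : ix ≠ iy)
    (f : MvPolynomial (Fin 2) k) (hf : f ∈ 𝔞) (hmon : (Phi ix f).Monic)
    (D : ℕ) (hxD : (MvPolynomial.X ix : MvPolynomial (Fin 2) k) ^ D ∈ 𝔞)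
    (N : ℕ) (hyN : (MvPolynomial.X iy : MvPolynomial (Fin 2) k) ^ N ∈ 𝔞) :
    RingHom.Finite (A := k[X]) (B := (MvPolynomial (Fin 2) k)[X] ⧸ fam 𝔞 iy f)
      ((Ideal.Quotient.mk (fam 𝔞 iy f)).comp
        (Polynomial.mapRingHom (algebraMap k (MvPolynomial (Fin 2) k)))) :=
  RingHom.finite_algebraMap.2 (finite_fam 𝔞 hxy f hf hmon D hxD N hyN)

end Groth.Agent.Lib.Helper29.PullD
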