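import Mathlib
import Groth.Statements.S11453
import Groth.Agent.Lib.Helper29.PullD

/-!
# S11453: pulling apart a punctual ideal of the plane
-/

set_option autoImplicit false
set_option maxHeartbeats 1600000

universe u

open Polynomial

namespace Groth.Agent.Lib.Helper29.PullF

open Groth.Agent.Lib.Helper29.PullA Groth.Agent.Lib.Helper29.PullB Groth.Agent.Lib.Helper29.PullC
  Groth.Agent.Lib.Helper29.PullD

variable {k : Type u} [Field k]

theorem colon_le (𝔞 : Ideal (MvPolynomial (Fin 2) k))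
    (hsupp : 𝔞.radical = Ideal.span {MvPolynomial.X 0, MvPolynomial.X 1})
    (y : MvPolynomial (Fin 2) k) (hy : y ∉ 𝔞) :
    colon 𝔞 y ≤ Ideal.span {MvPolynomial.X 0, MvPolynomial.X 1} := by
  have hne : colon 𝔞 y ≠ ⊤ := by
    intro h; apply hy
    have : (1 : MvPolynomial (Fin 2) k) ∈ colon 𝔞 y := h ▸ Submodule.mem_top
    simpa [mem_colon] using this
  obtain ⟨𝔪', hmax, hle'⟩ := Ideal.exists_le_maximal _ hne
  have h1 : 𝔞 ≤ 𝔪' := (le_colon 𝔞 y).trans hle'
  have h2 : 𝔞.radical ≤ 𝔪' := (hmax.isPrime.radical_le_iff).2 h1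
  rw [hsupp] at h2
  have h3 := (span_isMaximal (k := k)).eq_of_le hmax.ne_top h2
  rw [h3]; exact hle'

theorem main11453 (k : Type u) [Field k] [IsAlgClosed k]
    (𝔞 : Ideal (MvPolynomial (Fin 2) k)) [Module.Finite k (MvPolynomial (Fin 2) k ⧸ 𝔞)]
    (hn : 2 ≤ Module.finrank k (MvPolynomial (Fin 2) k ⧸ 𝔞))
    (hsupp : 𝔞.radical = Ideal.span {MvPolynomial.X 0, MvPolynomial.X 1}) :
    ∃ 𝔞' : Ideal (MvPolynomial (Fin 2) k)[X],
      RingHom.Flat (R := k[X]) (S := (MvPolynomial (Fin 2) k)[X] ⧸ 𝔞')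
        ((Ideal.Quotient.mk 𝔞').comp (Polynomial.mapRingHom (algebraMap k (MvPolynomial (Fin 2) k)))) ∧
      RingHom.Finite (A := k[X]) (B := (MvPolynomial (Fin 2) k)[X] ⧸ 𝔞')
        ((Ideal.Quotient.mk 𝔞').comp (Polynomial.mapRingHom (algebraMap k (MvPolynomial (Fin 2) k)))) ∧
      Ideal.map (Polynomial.evalRingHom (0 : MvPolynomial (Fin 2) k)) 𝔞' = 𝔞 ∧
      ∀ c : k, c ≠ 0 →
        Ideal.map (Polynomial.evalRingHom (MvPolynomial.C c)) 𝔞' ≤ Ideal.span {MvPolynomial.X 0, MvPolynomial.X 1} ∧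
        ∃ p : Fin 2 → k, p ≠ 0 ∧
          Ideal.map (Polynomial.evalRingHom (MvPolynomial.C c)) 𝔞' ≤
            Ideal.span (Set.range (fun i : Fin 2 => MvPolynomial.X i - MvPolynomial.C (p i))) := by
  classical
  -- choose the coordinate `y` not in `𝔞`
  obtain ⟨ix, iy, hxy, hy⟩ : ∃ ix iy : Fin 2, ix ≠ iy ∧
      (MvPolynomial.X iy : MvPolynomial (Fin 2) k) ∉ 𝔞 := by
    by_contra hcon
    push Not at hcon
    have h0 : (MvPolynomial.X 0 : MvPolynomial (Fin 2) k) ∈ 𝔞 := hcon 1 0 (by decide)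
    have h1 : (MvPolynomial.X 1 : MvPolynomial (Fin 2) k) ∈ 𝔞 := hcon 0 1 (by decide)
    have hle : Module.finrank k (MvPolynomial (Fin 2) k ⧸ 𝔞) ≤ 1 := by
      apply finrank_le_one (Ideal.Quotient.mk 𝔞 1)
      intro w
      obtain ⟨g, rfl⟩ := Ideal.Quotient.mk_surjective w
      refine ⟨MvPolynomial.eval 0 g, ?_⟩
      have hmem := sub_C_eval_mem (0 : Fin 2 → k) 𝔞 (fun i => by
        fin_cases i
        · simpa using h0
        · simpa using h1) g
      rw [Ideal.Quotient.eq.2 hmem]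
      have e1 : MvPolynomial.C (MvPolynomial.eval 0 g) =
          (MvPolynomial.eval 0 g) • (1 : MvPolynomial (Fin 2) k) := by
        rw [MvPolynomial.smul_eq_C_mul, mul_one]
      rw [e1]
      exact (map_smul (Ideal.Quotient.mkₐ k 𝔞) _ _).symm
    omega
  have hrad : ∀ i : Fin 2, ∃ n, (MvPolynomial.X i : MvPolynomial (Fin 2) k) ^ n ∈ 𝔞 := by
    intro i
    have : (MvPolynomial.X i : MvPolynomial (Fin 2) k) ∈ 𝔞.radical := by
      rw [hsupp]; apply Ideal.subset_span; fin_cases i <;> simp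
    exact this
  obtain ⟨D, hxD⟩ := hrad ix
  obtain ⟨N, hyN⟩ := hrad iy
  obtain ⟨F₀, hF₀, hmonF, hleF⟩ := exists_monic (𝔞.comap (Psi ix iy)) (D + N)
    (by rw [Ideal.mem_comap, map_pow, Psi_X, pow_add]; exact 𝔞.mul_mem_right _ hxD)
    (by rw [Ideal.mem_comap, map_pow, Psi_C, Polynomial.aeval_X, pow_add]
        exact 𝔞.mul_mem_left _ hyN)
  have hf : Psi ix iy F₀ ∈ 𝔞 := hF₀
  have hmon : (Phi ix (Psi ix iy F₀)).Monic := by rw [Phi_Psi hxy]; exact hmonF
  have hle : 𝔞 ≤ Ideal.span {Psi ix iy F₀} ⊔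
      Ideal.span {(MvPolynomial.X iy : MvPolynomial (Fin 2) k)} := by
    intro a ha
    have ha0 : Phi ix a ∈ 𝔞.comap (Psi ix iy) := by
      rw [Ideal.mem_comap, Psi_Phi hxy]; exact ha
    obtain ⟨a1, ha1, a2, ha2, e⟩ := Submodule.mem_sup.1 (hleF ha0)
    obtain ⟨u, rfl⟩ := Ideal.mem_span_singleton'.1 ha1
    obtain ⟨v, rfl⟩ := Ideal.mem_span_singleton'.1 ha2
    have : a = Psi ix iy u * Psi ix iy F₀ + Psi ix iy v * MvPolynomial.X iy := by
      have := congrArg (Psi ix iy) e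
      rw [Psi_Phi hxy, map_add, map_mul, map_mul, Psi_C, Polynomial.aeval_X] at this
      exact this.symm
    rw [this]
    exact Ideal.add_mem _
      (Ideal.mem_sup_left (Ideal.mul_mem_left _ _ (Ideal.mem_span_singleton_self _)))
      (Ideal.mem_sup_right (Ideal.mul_mem_left _ _ (Ideal.mem_span_singleton_self _)))
  have hdeg : ∀ c : k, ((Phi ix (Psi ix iy F₀)).map (evalRingHom c)).degree ≠ 0 := by
    intro c
    apply degree_ne_of_natDegree_ne
    rw [Polynomial.Monic.natDegree_map hmon]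
    intro h0
    have h1 := Polynomial.eq_one_of_monic_natDegree_zero hmon h0
    apply hy
    have : Psi ix iy F₀ = 1 := by
      have := congrArg (Psi ix iy) h1
      rwa [Psi_Phi hxy, map_one] at this
    rw [this] at hf
    rw [(Ideal.eq_top_iff_one 𝔞).2 hf]; exact Submodule.mem_top
  refine ⟨fam 𝔞 iy (Psi ix iy F₀), ringHom_flat_fam 𝔞 hxy _ hmon,
    ringHom_finite_fam 𝔞 hxy _ hf hmon D hxD N hyN, fibre_zero 𝔞 _ _ hf hle, ?_⟩
  intro c hc
  refine ⟨(fibre_le_I2 _ _ _ _).trans (colon_le 𝔞 hsupp _ hy), ?_⟩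
  obtain ⟨x₀, hx₀⟩ := IsAlgClosed.exists_root _ (hdeg c)
  refine ⟨fun i => if i = ix then x₀ else c, ?_, ?_⟩
  · intro h
    have := congrFun h iy
    simp only [if_neg hxy.symm, Pi.zero_apply] at this
    exact hc this
  · refine (fibre_le_I1 _ _ (MvPolynomial.C c) _).trans ?_
    rw [Ideal.span_le]
    rintro _ (rfl | rfl)
    · apply mem_of_eval_eq_zero (fun i => if i = ix then x₀ else c) _
        (fun i => Ideal.subset_span (Set.mem_range_self i))
      rw [eval_eq]; exact hx₀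
    · apply Ideal.subset_span
      exact ⟨iy, by simp [hxy.symm]⟩

end Groth.Agent.Lib.Helper29.PullF
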