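import Mathlib
import Groth.Prelude.Def_ModSite
import Groth.Agent.Lib.Helper25.LocGenSite

/-!
# The module pullback of a module generated by sections is generated by sections
(ringed spaces; uses only the adjunctions `f^* ⊣ f_*` and `j^* ⊣ j_*`).
-/

set_option autoImplicit false
set_option maxHeartbeats 1600000
universe u

open CategoryTheory CategoryTheory.Limits SheafOfModules TopologicalSpace Opposite
open Groth.Agent.Lib.Helper25.LocGenSite

noncomputable section

namespace Groth.Agent.Lib.Helper29.PullGen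

variable {X Y : TopCat.{u}} {f : X ⟶ Y}
  {R_X : Sheaf (Opens.grothendieckTopology X) RingCat.{u}}
  {R_Y : Sheaf (Opens.grothendieckTopology Y) RingCat.{u}}
  {φ : R_Y ⟶ ((Opens.map f).sheafPushforwardContinuous RingCat.{u}
    (Opens.grothendieckTopology Y) (Opens.grothendieckTopology X)).obj R_X}
  {Φ : SheafOfModules.{u} R_Y ⥤ SheafOfModules.{u} R_X}
  (adj : Φ ⊣ SheafOfModules.pushforward.{u} φ)

/-- the image in `(f^*G)(f⁻¹V)` of a section of `G` over `V`. -/
def ηsec (G : SheafOfModules.{u} R_Y) (V : Opens Y) (s : G.val.obj (op V)) :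
    (Φ.obj G).val.obj (op ((Opens.map f).obj V)) :=
  (adj.unit.app G).val.app (op V) s

/-- the transpose of a morphism out of the restriction of `f^*G`. -/
def tr1 {G : SheafOfModules.{u} R_Y} (U : Opens X) {Q : SheafOfModules.{u} (R_X.over U)}
    (ψ : (Φ.obj G).over U ⟶ Q) :
    Φ.obj G ⟶ (SheafOfModules.pushforward.{u} (pushforwardOver (R := R_X) U)).obj Q :=
  (overPushforwardOverAdj (R := R_X) U).homEquiv _ _ ψ

/-- the double transpose. -/
def tr2 {G : SheafOfModules.{u} R_Y} (U : Opens X) {Q : SheafOfModules.{u} (R_X.over U)}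
    (ψ : (Φ.obj G).over U ⟶ Q) :
    G ⟶ (SheafOfModules.pushforward.{u} φ).obj
      ((SheafOfModules.pushforward.{u} (pushforwardOver (R := R_X) U)).obj Q) :=
  adj.homEquiv _ _ (tr1 U ψ)

lemma tr2_app {G : SheafOfModules.{u} R_Y} (V : Opens Y)
    {Q : SheafOfModules.{u} (R_X.over ((Opens.map f).obj V))}
    (ψ : (Φ.obj G).over ((Opens.map f).obj V) ⟶ Q) (W : Opens Y) (s : G.val.obj (op W)) :
    (tr2 adj ((Opens.map f).obj V) ψ).val.app (op W) s =
      ψ.val.app (op ((Over.star ((Opens.map f).obj V)).obj ((Opens.map f).obj W)))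
        ((Φ.obj G).val.map ((Over.forgetAdjStar ((Opens.map f).obj V)).counit.app
          ((Opens.map f).obj W)).op (ηsec adj G W s)) := by
  unfold tr2 tr1
  rw [Adjunction.homEquiv_unit, Adjunction.homEquiv_unit]
  rfl

instance subsingleton_over_hom {U : Opens X} (A B : Over U) : Subsingleton (A ⟶ B) :=
  ⟨fun _ _ => Over.OverMorphism.ext (Subsingleton.elim _ _)⟩

lemma tr2_zero_app {G : SheafOfModules.{u} R_Y} (V : Opens Y)
    (Q : SheafOfModules.{u} (R_X.over ((Opens.map f).obj V))) (W : Opens Y)
    (s : G.val.obj (op W)) :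
    (tr2 adj ((Opens.map f).obj V) (0 : (Φ.obj G).over ((Opens.map f).obj V) ⟶ Q)).val.app
      (op W) s = 0 := by
  rw [tr2_app]
  rfl

section Main

variable {G : SheafOfModules.{u} R_Y} (V : Opens Y) (σ : (G.over V).GeneratingSections)

/-- the generators as elements of `G(V)`. -/
def gsec (k : σ.I) : G.val.obj (op V) := (σ.s k).val (op (Over.mk (𝟙 V)))

/-- the candidate generators of the pullback. -/
def tsec (k : σ.I) : ((Φ.obj G).over ((Opens.map f).obj V)).sections :=
  overSec (Φ.obj G) (ηsec adj G V (gsec V σ k))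

variable {Q : SheafOfModules.{u} (R_X.over ((Opens.map f).obj V))}
  (ψ : (Φ.obj G).over ((Opens.map f).obj V) ⟶ Q)

/-- Step A. -/
lemma stepA (hψ : ∀ k, ψ.val.app (op (Over.mk (𝟙 ((Opens.map f).obj V))))
      (ηsec adj G V (gsec V σ k)) = 0) (k : σ.I) :
    (tr2 adj ((Opens.map f).obj V) ψ).val.app (op V) (gsec V σ k) = 0 := by
  rw [tr2_app]
  have hn := PresheafOfModules.naturality_apply ψ.val
    (Over.homMk ((Over.star ((Opens.map f).obj V)).obj ((Opens.map f).obj V)).hom :
      (Over.star ((Opens.map f).obj V)).obj ((Opens.map f).obj V) ⟶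
        Over.mk (𝟙 ((Opens.map f).obj V))).op (ηsec adj G V (gsec V σ k))
  rw [hψ k, map_zero] at hn
  refine Eq.trans ?_ hn
  have hd : (Over.forgetAdjStar ((Opens.map f).obj V)).counit.app ((Opens.map f).obj V) =
      ((Over.star ((Opens.map f).obj V)).obj ((Opens.map f).obj V)).hom := Subsingleton.elim _ _
  rw [hd]
  rfl

/-- Step B: the double transpose vanishes on sections over opens contained in `V`. -/
lemma stepB (hψ : ∀ k, ψ.val.app (op (Over.mk (𝟙 ((Opens.map f).obj V))))
      (ηsec adj G V (gsec V σ k)) = 0) (Y' : Over V) (n : G.val.obj (op Y'.left)) :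
    (tr2 adj ((Opens.map f).obj V) ψ).val.app (op Y'.left) n = 0 := by
  have hA := stepA adj V σ ψ hψ
  set ψ'' := tr2 adj ((Opens.map f).obj V) ψ with hψ''
  have hp : (SheafOfModules.overFunctor R_Y V).map ψ'' = 0 := by
    rw [← cancel_epi σ.π, comp_zero]
    have h0 : σ.π ≫ (SheafOfModules.overFunctor R_Y V).map ψ'' =
        σ.π ≫ (0 : G.over V ⟶ (SheafOfModules.overFunctor R_Y V).obj _) := by
      change (G.over V).freeHomEquiv.symm σ.s ≫ _ = (G.over V).freeHomEquiv.symm σ.s ≫ _
      rw [freeHomEquiv_symm_comp, freeHomEquiv_symm_comp]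
      congr 1
      funext k
      apply PresheafOfModules.sections_ext
      intro Z
      have e1 : (σ.s k).val Z = (G.over V).val.map
          (Over.homMk Z.unop.hom : Z.unop ⟶ Over.mk (𝟙 V)).op (gsec V σ k) :=
        (PresheafOfModules.sections_property (σ.s k) _).symm
      change ((SheafOfModules.overFunctor R_Y V).map ψ'').val.app Z ((σ.s k).val Z) =
        (0 : G.over V ⟶ (SheafOfModules.overFunctor R_Y V).obj _).val.app Z ((σ.s k).val Z)
      rw [e1, PresheafOfModules.naturality_apply]
      have e2 : ((SheafOfModules.overFunctor R_Y V).map ψ'').val.app (op (Over.mk (𝟙 V)))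
          (gsec V σ k) = 0 := hA k
      rw [e2, map_zero]
      rfl
    rw [h0, comp_zero]
  have := congrArg (fun q => q.val.app (op Y') n) hp
  exact this

/-- Step C: the double transpose vanishes. -/
lemma stepC (hψ : ∀ k, ψ.val.app (op (Over.mk (𝟙 ((Opens.map f).obj V))))
      (ηsec adj G V (gsec V σ k)) = 0) (W : Opens Y) (n : G.val.obj (op W)) :
    (tr2 adj ((Opens.map f).obj V) ψ).val.app (op W) n = 0 := by
  have hB := stepB adj V σ ψ hψ (Over.mk (homOfLE (inf_le_right : W ⊓ V ≤ V)))
    (G.val.map (homOfLE (inf_le_left : W ⊓ V ≤ W)).op n)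
  set ψ'' := tr2 adj ((Opens.map f).obj V) ψ with hψ''
  have hnat := PresheafOfModules.naturality_apply ψ''.val
    (homOfLE (inf_le_left : W ⊓ V ≤ W)).op n
  have h0 := hnat.symm.trans hB
  -- the restriction map of the target is injective
  let U := (Opens.map f).obj V
  let A := (Over.star U).obj ((Opens.map f).obj W)
  let A' := (Over.star U).obj ((Opens.map f).obj (W ⊓ V))
  let e : A' ⟶ A := (Over.star U).map ((Opens.map f).map (homOfLE (inf_le_left : W ⊓ V ≤ W)))
  have hle : A.left ≤ (Opens.map f).obj (W ⊓ V) := by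
    intro x hx
    have h1 : x ∈ U := leOfHom A.hom hx
    have h2 : x ∈ (Opens.map f).obj W :=
      leOfHom ((Over.forgetAdjStar U).counit.app ((Opens.map f).obj W)) hx
    exact ⟨h2, h1⟩
  let e' : A ⟶ A' := (Over.forgetAdjStar U).homEquiv A _ (homOfLE hle)
  have hee : e' ≫ e = 𝟙 A := Subsingleton.elim _ _
  have hz : Q.val.map e'.op (Q.val.map e.op (ψ''.val.app (op W) n)) = ψ''.val.app (op W) n := by
    rw [← PresheafOfModules.map_comp_apply, ← op_comp, hee, op_id]
    exact congrFun (congrArg (fun t => (t : _ → _)) rfl) _ |>.trans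
      (by rw [PresheafOfModules.map_id]; rfl)
  rw [← hz]
  have : Q.val.map e.op (ψ''.val.app (op W) n) = 0 := h0
  have h1 : Q.val.map e'.op (Q.val.map e.op (ψ''.val.app (op W) n)) =
      Q.val.map e'.op (0 : Q.val.obj (op A')) := congrArg _ this
  exact h1.trans (map_zero _)

omit σ in
lemma freeHomEquiv_zero_val {C : Type u} [SmallCategory C] {J : GrothendieckTopology C}
    {R : Sheaf J RingCat.{u}} (M : SheafOfModules.{u} R) {I : Type u} (k : I) (Z : Cᵒᵖ) :
    (M.freeHomEquiv (0 : free I ⟶ M) k).val Z = 0 := by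
  change (M.unitHomEquiv (ιFree k ≫ (0 : free I ⟶ M))).val Z = 0
  rw [comp_zero, unitHomEquiv_apply_coe]
  rfl

/-- the pulled-back generating sections. -/
def pullGen : ((Φ.obj G).over ((Opens.map f).obj V)).GeneratingSections where
  I := σ.I
  s := tsec adj V σ
  epi := by
    apply Preadditive.epi_of_cancel_zero
    intro Q ψ hπ
    have hψ : ∀ k, ψ.val.app (op (Over.mk (𝟙 ((Opens.map f).obj V))))
        (ηsec adj G V (gsec V σ k)) = 0 := by
      intro k
      have h1 := congrArg
        (fun g => (Q.freeHomEquiv g k).val (op (Over.mk (𝟙 ((Opens.map f).obj V))))) hπ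
      rw [freeHomEquiv_zero_val, freeHomEquiv_comp_apply, Equiv.apply_symm_apply] at h1
      have h2 : (tsec adj V σ k).val (op (Over.mk (𝟙 ((Opens.map f).obj V)))) =
          ηsec adj G V (gsec V σ k) := by
        change (Φ.obj G).val.map (𝟙 ((Opens.map f).obj V)).op _ = _
        rw [op_id, PresheafOfModules.map_id]
        rfl
      rw [← h2]
      exact h1
    have h2 : tr2 adj ((Opens.map f).obj V) ψ = tr2 adj ((Opens.map f).obj V) 0 := by
      apply SheafOfModules.hom_ext
      apply PresheafOfModules.hom_ext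
      intro W
      apply ModuleCat.hom_ext
      apply LinearMap.ext
      intro n
      exact (stepC adj V σ ψ hψ W.unop n).trans (tr2_zero_app adj V Q W.unop n).symm
    unfold tr2 tr1 at h2
    exact ((overPushforwardOverAdj _).homEquiv _ _).injective
      ((adj.homEquiv _ _).injective h2)

end Main

theorem coversTop_preimage {I : Type u} (V : I → Opens Y)
    (hV : (Opens.grothendieckTopology Y).CoversTop V) :
    (Opens.grothendieckTopology X).CoversTop (fun a => (Opens.map f).obj (V a)) := by
  rw [Opens.coversTop_iff] at hV ⊢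
  refine IsOpenCover.mk (eq_top_iff.2 fun x _ => ?_)
  obtain ⟨a, ha⟩ := hV.exists_mem (f x)
  exact Opens.mem_iSup.2 ⟨a, ha⟩

theorem main6852 {X Y : TopCat.{u}} (f : X ⟶ Y) (O_X : TopCat.Sheaf CommRingCat.{u} X)
    (O_Y : TopCat.Sheaf CommRingCat.{u} Y)
    (c : O_Y ⟶ ((TopologicalSpace.Opens.map f).sheafPushforwardContinuous CommRingCat.{u}
      (Opens.grothendieckTopology Y) (Opens.grothendieckTopology X)).obj O_X)
    (G : ModSite.Mod O_Y) (hG : Nonempty (SheafOfModules.LocalGeneratorsData.{u} (R := ModSite.ringSh O_Y) G)) :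
    Nonempty (SheafOfModules.LocalGeneratorsData.{u} (R := ModSite.ringSh O_X)
      ((ModSite.RMor.ofFlat (TopologicalSpace.Opens.map f) c).pull.obj G)) := by
  obtain ⟨p⟩ := hG
  exact ⟨{ I := p.I
           X := fun a => (Opens.map f).obj (p.X a)
           coversTop := coversTop_preimage (f := f) p.X p.coversTop
           generators := fun a => pullGen (f := f)
             (ModSite.RMor.ofFlat (TopologicalSpace.Opens.map f) c).adj (p.X a) (p.generators a) }⟩

end Groth.Agent.Lib.Helper29.PullGen
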