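import Mathlib
import Groth.Agent.S0701

/-!
# Quasi-finite finitely presented algebras over extremally disconnected bases (helper29)

If `Spec A` is Hausdorff and extremally disconnected with separably closed residue fields and `B`
is quasi-finite of finite presentation over `A`, then `Spec B` is extremally disconnected.
-/

set_option autoImplicit false
set_option linter.style.haveILetI false
set_option linter.unusedSectionVars false
set_option maxHeartbeats 1600000

universe u

open CategoryTheory CategoryTheory.Limits AlgebraicGeometry TensorProduct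

namespace Groth.Agent.Lib.Helper29.QFinED

variable (A B : Type u) [CommRing A] [CommRing B] [Algebra A B]

/-- Surjectivity of `Spec (B ⊗ B) → Spec B ×_{Spec A} Spec B`. -/
lemma exists_prime_tensor (y1 y2 : PrimeSpectrum B)
    (h : PrimeSpectrum.comap (algebraMap A B) y1 = PrimeSpectrum.comap (algebraMap A B) y2) :
    ∃ Q : PrimeSpectrum (B ⊗[A] B),
      PrimeSpectrum.comap (Algebra.TensorProduct.includeLeftRingHom : B →+* B ⊗[A] B) Q = y1 ∧
      PrimeSpectrum.comap (RingHomClass.toRingHom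
        (Algebra.TensorProduct.includeRight : B →ₐ[A] B ⊗[A] B)) Q = y2 := by
  let f : Spec (CommRingCat.of B) ⟶ Spec (CommRingCat.of A) :=
    Spec.map (CommRingCat.ofHom (algebraMap A B))
  have h' : f (y1 : ↥(Spec (CommRingCat.of B))) = f (y2 : ↥(Spec (CommRingCat.of B))) := h
  obtain ⟨z, hz1, hz2⟩ := Scheme.Pullback.exists_preimage_pullback (f := f) (g := f) y1 y2 h'
  refine ⟨(pullbackSpecIso A B B).hom z, ?_, ?_⟩
  · have e1 : ((pullbackSpecIso A B B).hom ≫ Spec.map (CommRingCat.ofHom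
        (Algebra.TensorProduct.includeLeftRingHom : B →+* B ⊗[A] B))) z = y1 := by
      rw [pullbackSpecIso_hom_fst]; exact hz1
    rw [Scheme.Hom.comp_apply] at e1
    exact e1
  · have e2 : ((pullbackSpecIso A B B).hom ≫ Spec.map (CommRingCat.ofHom
        (RingHomClass.toRingHom (Algebra.TensorProduct.includeRight : B →ₐ[A] B ⊗[A] B)))) z
        = y2 := by
      rw [pullbackSpecIso_hom_snd]; exact hz2
    rw [Scheme.Hom.comp_apply] at e2
    exact e2

/-- Purely inseparable residue extension: a power of `b` is congruent to an element of `A`. -/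
lemma exists_pow_sub_mem [Algebra.QuasiFinite A B]
    (q : Ideal B) [q.IsPrime] (p : Ideal A) [p.IsMaximal] [q.LiesOver p]
    [IsSepClosed p.ResidueField] (b : B) :
    ∃ (n : ℕ) (a : A), b ^ (ringExpChar p.ResidueField) ^ n - algebraMap A B a ∈ q := by
  let _ := Localization.AtPrime.algebraOfLiesOver p q
  haveI : Module.Finite p.ResidueField q.ResidueField := inferInstance
  haveI : IsPurelyInseparable p.ResidueField q.ResidueField := inferInstance
  obtain ⟨n, c, hc⟩ := IsPurelyInseparable.pow_mem p.ResidueField (ringExpChar p.ResidueField)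
    (algebraMap B q.ResidueField b)
  obtain ⟨a, rfl⟩ := Ideal.algebraMap_residueField_surjective p c
  refine ⟨n, a, ?_⟩
  rw [← Ideal.algebraMap_residueField_eq_zero, map_sub, map_pow, ← hc, sub_eq_zero]
  rw [← IsScalarTower.algebraMap_apply, ← IsScalarTower.algebraMap_apply]

/-- A prime of `B ⊗ B` both of whose projections are the same prime `q` (with purely inseparable
residue field extension) lies on the diagonal. -/
lemma diag_le_of_comap_eq [Algebra.QuasiFinite A B]
    (p : Ideal A) [p.IsMaximal] [IsSepClosed p.ResidueField]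
    (q : Ideal B) [q.IsPrime] [q.LiesOver p] (Q : Ideal (B ⊗[A] B)) [Q.IsPrime]
    (h1 : Q.comap (Algebra.TensorProduct.includeLeftRingHom : B →+* B ⊗[A] B) = q)
    (h2 : Q.comap (RingHomClass.toRingHom
      (Algebra.TensorProduct.includeRight : B →ₐ[A] B ⊗[A] B)) = q) :
    KaehlerDifferential.ideal A B ≤ Q := by
  rw [← KaehlerDifferential.span_range_eq_ideal, Ideal.span_le]
  rintro _ ⟨b, rfl⟩
  have hmem1 : ∀ x : B, x ∈ q → x ⊗ₜ[A] (1 : B) ∈ Q := by
    intro x hx
    rw [← h1] at hx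
    exact hx
  have hmem2 : ∀ x : B, x ∈ q → (1 : B) ⊗ₜ[A] x ∈ Q := by
    intro x hx
    rw [← h2] at hx
    exact hx
  obtain ⟨n, a, hna⟩ := exists_pow_sub_mem A B q p b
  have hxy : (b ⊗ₜ[A] (1 : B)) ^ (ringExpChar p.ResidueField) ^ n -
      ((1 : B) ⊗ₜ[A] b) ^ (ringExpChar p.ResidueField) ^ n ∈ Q := by
    have e1 := hmem1 _ hna
    have e2 := hmem2 _ hna
    have e3 : (b ⊗ₜ[A] (1 : B)) ^ (ringExpChar p.ResidueField) ^ n -
        ((1 : B) ⊗ₜ[A] b) ^ (ringExpChar p.ResidueField) ^ n =
        (b ^ (ringExpChar p.ResidueField) ^ n - algebraMap A B a) ⊗ₜ[A] (1 : B) -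
          (1 : B) ⊗ₜ[A] (b ^ (ringExpChar p.ResidueField) ^ n - algebraMap A B a) := by
      rw [Algebra.TensorProduct.tmul_pow, Algebra.TensorProduct.tmul_pow, one_pow,
        TensorProduct.sub_tmul, TensorProduct.tmul_sub,
        Algebra.TensorProduct.tmul_one_eq_one_tmul]
      abel
    rw [e3]
    exact Q.sub_mem e1 e2
  have hpq : ∀ r : A, r ∈ p ↔ algebraMap A B r ∈ q := by
    intro r
    conv_lhs => rw [(Ideal.LiesOver.over : p = q.under A)]
    rfl
  haveI hQp : Q.LiesOver p := ⟨by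
    ext r
    constructor
    · intro hr
      exact hmem1 _ ((hpq r).mp hr)
    · intro hr
      refine (hpq r).mpr ?_
      rw [← h1]
      exact hr⟩
  let _ := Localization.AtPrime.algebraOfLiesOver p Q
  haveI : ExpChar Q.ResidueField (ringExpChar p.ResidueField) :=
    expChar_of_injective_ringHom (algebraMap p.ResidueField Q.ResidueField).injective
      (ringExpChar p.ResidueField)
  have h3 : algebraMap (B ⊗[A] B) Q.ResidueField
      ((b ⊗ₜ[A] (1 : B)) ^ (ringExpChar p.ResidueField) ^ n -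
        ((1 : B) ⊗ₜ[A] b) ^ (ringExpChar p.ResidueField) ^ n) = 0 :=
    (Ideal.algebraMap_residueField_eq_zero).mpr hxy
  rw [map_sub, map_pow, map_pow, ← sub_pow_expChar_pow, ← map_sub] at h3
  have h0 : algebraMap (B ⊗[A] B) Q.ResidueField (b ⊗ₜ[A] (1 : B) - (1 : B) ⊗ₜ[A] b) = 0 :=
    eq_zero_of_pow_eq_zero h3
  have h4 : b ⊗ₜ[A] (1 : B) - (1 : B) ⊗ₜ[A] b ∈ Q := (Ideal.algebraMap_residueField_eq_zero).mp h0
  have h5 := Q.neg_mem h4
  rw [neg_sub] at h5
  exact h5

theorem main0750 [Algebra.QuasiFinite A B] [Algebra.FinitePresentation A B]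
    (hres : ∀ p : PrimeSpectrum A, IsSepClosed p.asIdeal.ResidueField)
    [T2Space (PrimeSpectrum A)] [ExtremallyDisconnected (PrimeSpectrum A)] :
    ExtremallyDisconnected (PrimeSpectrum B) := by
  classical
  have hmaxA : ∀ p : PrimeSpectrum A, p.asIdeal.IsMaximal := fun p =>
    (PrimeSpectrum.isClosed_singleton_iff_isMaximal p).1 (T1Space.t1 _)
  -- incomparability of primes of `B`, hence `Spec B` is Hausdorff
  have hinc : ∀ q q' : PrimeSpectrum B, q.asIdeal ≤ q'.asIdeal → q = q' := by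
    intro q q' hle
    have hcomap : q.asIdeal.under A = q'.asIdeal.under A :=
      (hmaxA (PrimeSpectrum.comap (algebraMap A B) q)).eq_of_le
        (Ideal.IsPrime.ne_top (PrimeSpectrum.comap (algebraMap A B) q').isPrime)
        (Ideal.comap_mono hle)
    exact PrimeSpectrum.ext
      (Algebra.QuasiFinite.eq_of_le_of_under_eq q.asIdeal q'.asIdeal hle hcomap)
  haveI : T2Space (PrimeSpectrum B) := Groth.Agent.S0701.t2Space_of_incomparable B hinc
  -- `Spec B → Spec A` is open
  haveI : Algebra.HasGoingDown A B := ⟨fun {p} _ Q _ hlt => by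
    exfalso
    have hmax : p.IsMaximal := hmaxA ⟨p, inferInstance⟩
    have hne : Q.under A ≠ ⊤ := Ideal.IsPrime.ne_top (Ideal.IsPrime.under A Q)
    exact hlt.ne (hmax.eq_of_le hne hlt.le)⟩
  have hopen : IsOpenMap (PrimeSpectrum.comap (algebraMap A B)) :=
    PrimeSpectrum.isOpenMap_comap_of_hasGoingDown_of_finitePresentation
  have hcont : Continuous (PrimeSpectrum.comap (algebraMap A B)) :=
    PrimeSpectrum.continuous_comap _
  -- local injectivity
  have hloc : ∀ q : PrimeSpectrum B, ∃ O : Set (PrimeSpectrum B), IsOpen O ∧ q ∈ O ∧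
      Set.InjOn (PrimeSpectrum.comap (algebraMap A B)) O := by
    intro q
    have hIfg : (KaehlerDifferential.ideal A B).FG := KaehlerDifferential.ideal_fg A B
    let Z : Set (PrimeSpectrum (B ⊗[A] B)) :=
      (PrimeSpectrum.zeroLocus ((KaehlerDifferential.ideal A B : Ideal (B ⊗[A] B)) :
        Set (B ⊗[A] B)))ᶜ
    have hZc : IsCompact Z :=
      (PrimeSpectrum.isCompact_isOpen_iff_ideal.mpr ⟨KaehlerDifferential.ideal A B, hIfg, rfl⟩).1
    let ρ : PrimeSpectrum (B ⊗[A] B) → PrimeSpectrum B × PrimeSpectrum B := fun Q =>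
      (PrimeSpectrum.comap (Algebra.TensorProduct.includeLeftRingHom : B →+* B ⊗[A] B) Q,
        PrimeSpectrum.comap (RingHomClass.toRingHom
          (Algebra.TensorProduct.includeRight : B →ₐ[A] B ⊗[A] B)) Q)
    have hρ : Continuous ρ :=
      (PrimeSpectrum.continuous_comap _).prodMk (PrimeSpectrum.continuous_comap _)
    have hclosed : IsClosed (ρ '' Z) := (hZc.image hρ).isClosed
    have hq : (q, q) ∉ ρ '' Z := by
      rintro ⟨Q, hQZ, hQ⟩
      apply hQZ
      rw [PrimeSpectrum.mem_zeroLocus]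
      have h1 : PrimeSpectrum.comap
          (Algebra.TensorProduct.includeLeftRingHom : B →+* B ⊗[A] B) Q = q :=
        congrArg Prod.fst hQ
      have h2 : PrimeSpectrum.comap (RingHomClass.toRingHom
          (Algebra.TensorProduct.includeRight : B →ₐ[A] B ⊗[A] B)) Q = q :=
        congrArg Prod.snd hQ
      haveI : (q.asIdeal.under A).IsMaximal := hmaxA (PrimeSpectrum.comap (algebraMap A B) q)
      haveI : IsSepClosed (q.asIdeal.under A).ResidueField :=
        hres (PrimeSpectrum.comap (algebraMap A B) q)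
      have hle := diag_le_of_comap_eq A B (q.asIdeal.under A) q.asIdeal Q.asIdeal
        (congrArg PrimeSpectrum.asIdeal h1) (congrArg PrimeSpectrum.asIdeal h2)
      exact fun x hx => hle hx
    obtain ⟨U, V, hU, hV, hqU, hqV, hUV⟩ := isOpen_prod_iff.mp hclosed.isOpen_compl q q hq
    refine ⟨U ∩ V, hU.inter hV, ⟨hqU, hqV⟩, ?_⟩
    intro y1 hy1 y2 hy2 h12
    obtain ⟨Q, hQ1, hQ2⟩ := exists_prime_tensor A B y1 y2 h12
    by_contra hne
    have hQZ : Q ∈ Z := by
      intro hQI
      apply hne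
      rw [PrimeSpectrum.mem_zeroLocus] at hQI
      apply PrimeSpectrum.ext
      ext b
      rw [← hQ1, ← hQ2]
      show b ⊗ₜ[A] (1 : B) ∈ Q.asIdeal ↔ (1 : B) ⊗ₜ[A] b ∈ Q.asIdeal
      have hd : (1 : B) ⊗ₜ[A] b - b ⊗ₜ[A] (1 : B) ∈ Q.asIdeal :=
        hQI (KaehlerDifferential.one_smul_sub_smul_one_mem_ideal A b)
      constructor
      · intro hb
        have := Q.asIdeal.add_mem hd hb
        simpa using this
      · intro hb
        have := Q.asIdeal.sub_mem hb hd
        simpa using this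
    have hmem : (y1, y2) ∈ ρ '' Z := ⟨Q, hQZ, Prod.ext hQ1 hQ2⟩
    exact hUV (Set.mk_mem_prod hy1.1 hy2.2) hmem
  -- conclusion
  refine ⟨fun U hU => ?_⟩
  rw [isOpen_iff_forall_mem_open]
  intro y hy
  obtain ⟨O, hO, hyO, hinj⟩ := hloc y
  have hW : IsOpen (PrimeSpectrum.comap (algebraMap A B) '' (O ∩ U)) := hopen _ (hO.inter hU)
  have hC : IsOpen (closure (PrimeSpectrum.comap (algebraMap A B) '' (O ∩ U))) :=
    ExtremallyDisconnected.open_closure _ hW
  refine ⟨O ∩ PrimeSpectrum.comap (algebraMap A B) ⁻¹'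
    closure (PrimeSpectrum.comap (algebraMap A B) '' (O ∩ U)), ?_,
    hO.inter (hC.preimage hcont), ⟨hyO, ?_⟩⟩
  · rintro z ⟨hzO, hzC⟩
    rw [mem_closure_iff]
    intro o ho hzo
    have ho' : IsOpen (o ∩ O) := ho.inter hO
    have h1 : PrimeSpectrum.comap (algebraMap A B) z ∈
        PrimeSpectrum.comap (algebraMap A B) '' (o ∩ O) := ⟨z, ⟨hzo, hzO⟩, rfl⟩
    obtain ⟨w, hw1, hw2⟩ := mem_closure_iff.mp hzC _ (hopen _ ho') h1
    obtain ⟨z', ⟨hz'o, hz'O⟩, rfl⟩ := hw1
    obtain ⟨v, ⟨hvO, hvU⟩, hv⟩ := hw2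
    have hvz : v = z' := hinj hvO hz'O hv
    exact ⟨z', hz'o, hvz ▸ hvU⟩
  · exact image_closure_subset_closure_image hcont ⟨y, hO.inter_closure ⟨hyO, hy⟩, rfl⟩

end Groth.Agent.Lib.Helper29.QFinED
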