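import Groth.Agent.Lib.Helper29.TorsorMisc

/-!
# Helper library (helper29): the group structure on an fppf quotient by a normal subgroup

* `main5236`: if `i : H ⟶ G` is a normal monomorphism of `S`-group schemes and `q : G ⟶ Q` is an fppf
  quotient, there is exactly one group structure on `Q` making `q` a homomorphism.
-/

set_option autoImplicit false
set_option maxHeartbeats 1600000
universe u
open CategoryTheory CategoryTheory.Limits AlgebraicGeometry MonoidalCategory CartesianMonoidalCategory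
  MorphismProperty MonObj

namespace Groth.Agent.Lib.Helper29.QuotGrp

section Generic

variable {C : Type*} [Category C] [CartesianMonoidalCategory C] {G Q : C} [GrpObj G]
  (q : G ⟶ Q) (μ' : Q ⊗ Q ⟶ Q) (ι' : Q ⟶ Q)

theorem star_comp (R1 : (q ⊗ₘ q) ≫ μ' = μ[G] ≫ q) {T : C} (a b : T ⟶ G) :
    lift (a ≫ q) (b ≫ q) ≫ μ' = (a * b) ≫ q := by
  rw [← lift_map, Category.assoc, R1, ← Category.assoc, ← Hom.mul_def]

theorem one_comp_q : q ≫ toUnit Q ≫ η[G] ≫ q = (1 : G ⟶ G) ≫ q := by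
  rw [Hom.one_def, ← Category.assoc q, toUnit_unique (q ≫ toUnit Q) (toUnit G), Category.assoc]

theorem key_one_mul (R1 : (q ⊗ₘ q) ≫ μ' = μ[G] ≫ q) [Epi q] :
    lift (toUnit Q ≫ η[G] ≫ q) (𝟙 Q) ≫ μ' = 𝟙 Q := by
  have e2 : q ≫ 𝟙 Q = 𝟙 G ≫ q := by rw [Category.comp_id, Category.id_comp]
  rw [← cancel_epi q, ← Category.assoc, comp_lift, one_comp_q, e2, star_comp q μ' R1,
    _root_.one_mul]

theorem key_mul_one (R1 : (q ⊗ₘ q) ≫ μ' = μ[G] ≫ q) [Epi q] :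
    lift (𝟙 Q) (toUnit Q ≫ η[G] ≫ q) ≫ μ' = 𝟙 Q := by
  have e2 : q ≫ 𝟙 Q = 𝟙 G ≫ q := by rw [Category.comp_id, Category.id_comp]
  rw [← cancel_epi q, ← Category.assoc, comp_lift, one_comp_q, e2, star_comp q μ' R1,
    _root_.mul_one]

theorem one_mul' (R1 : (q ⊗ₘ q) ≫ μ' = μ[G] ≫ q) [Epi q] :
    ((η[G] ≫ q) ▷ Q) ≫ μ' = (λ_ Q).hom := by
  have h : (λ_ Q).inv ≫ ((η[G] ≫ q) ▷ Q) = lift (toUnit Q ≫ η[G] ≫ q) (𝟙 Q) := by
    apply CartesianMonoidalCategory.hom_ext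
    · rw [Category.assoc, whiskerRight_fst, lift_fst, ← Category.assoc, leftUnitor_inv_fst]
    · rw [Category.assoc, whiskerRight_snd, lift_snd, leftUnitor_inv_snd]
  rw [← cancel_epi (λ_ Q).inv, ← Category.assoc, h, key_one_mul q μ' R1, Iso.inv_hom_id]

theorem mul_one' (R1 : (q ⊗ₘ q) ≫ μ' = μ[G] ≫ q) [Epi q] :
    (Q ◁ (η[G] ≫ q)) ≫ μ' = (ρ_ Q).hom := by
  have h : (ρ_ Q).inv ≫ (Q ◁ (η[G] ≫ q)) = lift (𝟙 Q) (toUnit Q ≫ η[G] ≫ q) := by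
    apply CartesianMonoidalCategory.hom_ext
    · rw [Category.assoc, whiskerLeft_fst, lift_fst, rightUnitor_inv_fst]
    · rw [Category.assoc, whiskerLeft_snd, lift_snd, ← Category.assoc, rightUnitor_inv_snd]
  rw [← cancel_epi (ρ_ Q).inv, ← Category.assoc, h, key_mul_one q μ' R1, Iso.inv_hom_id]

theorem mul_assoc' (R1 : (q ⊗ₘ q) ≫ μ' = μ[G] ≫ q) [Epi ((q ⊗ₘ q) ⊗ₘ q)] :
    (μ' ▷ Q) ≫ μ' = (α_ Q Q Q).hom ≫ (Q ◁ μ') ≫ μ' := by
  have hL : ((q ⊗ₘ q) ⊗ₘ q) ≫ (μ' ▷ Q) = (μ[G] ▷ G) ≫ (q ⊗ₘ q) := by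
    rw [← tensorHom_id, ← tensorHom_id, tensorHom_comp_tensorHom, tensorHom_comp_tensorHom, R1,
      Category.comp_id, Category.id_comp]
  have hR : (q ⊗ₘ (q ⊗ₘ q)) ≫ (Q ◁ μ') = (G ◁ μ[G]) ≫ (q ⊗ₘ q) := by
    rw [← id_tensorHom, ← id_tensorHom, tensorHom_comp_tensorHom, tensorHom_comp_tensorHom, R1,
      Category.comp_id, Category.id_comp]
  rw [← cancel_epi ((q ⊗ₘ q) ⊗ₘ q)]
  calc ((q ⊗ₘ q) ⊗ₘ q) ≫ (μ' ▷ Q) ≫ μ' = (μ[G] ▷ G) ≫ (q ⊗ₘ q) ≫ μ' := by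
        rw [← Category.assoc, hL, Category.assoc]
    _ = ((μ[G] ▷ G) ≫ μ[G]) ≫ q := by rw [R1, Category.assoc]
    _ = ((α_ G G G).hom ≫ (G ◁ μ[G]) ≫ μ[G]) ≫ q := by rw [MonObj.mul_assoc]
    _ = (α_ G G G).hom ≫ ((G ◁ μ[G]) ≫ (q ⊗ₘ q)) ≫ μ' := by
        rw [Category.assoc, Category.assoc, Category.assoc, R1]
    _ = (α_ G G G).hom ≫ ((q ⊗ₘ (q ⊗ₘ q)) ≫ (Q ◁ μ')) ≫ μ' := by rw [hR]
    _ = ((q ⊗ₘ q) ⊗ₘ q) ≫ (α_ Q Q Q).hom ≫ (Q ◁ μ') ≫ μ' := by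
        rw [← Category.assoc ((q ⊗ₘ q) ⊗ₘ q), associator_naturality, Category.assoc,
          Category.assoc]

theorem left_inv' (R1 : (q ⊗ₘ q) ≫ μ' = μ[G] ≫ q) (R3 : q ≫ ι' = ι[G] ≫ q) [Epi q] :
    lift ι' (𝟙 Q) ≫ μ' = toUnit Q ≫ η[G] ≫ q := by
  have e2 : q ≫ 𝟙 Q = 𝟙 G ≫ q := by rw [Category.comp_id, Category.id_comp]
  rw [← cancel_epi q, ← Category.assoc, comp_lift, R3, e2, star_comp q μ' R1, one_comp_q,
    GrpObj.inv_eq_inv (G := G), _root_.inv_mul_cancel]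

theorem right_inv' (R1 : (q ⊗ₘ q) ≫ μ' = μ[G] ≫ q) (R3 : q ≫ ι' = ι[G] ≫ q) [Epi q] :
    lift (𝟙 Q) ι' ≫ μ' = toUnit Q ≫ η[G] ≫ q := by
  have e2 : q ≫ 𝟙 Q = 𝟙 G ≫ q := by rw [Category.comp_id, Category.id_comp]
  rw [← cancel_epi q, ← Category.assoc, comp_lift, R3, e2, star_comp q μ' R1, one_comp_q,
    GrpObj.inv_eq_inv (G := G), _root_.mul_inv_cancel]

end Generic

section Quot

variable {S : Scheme.{u}} {H G Q : Over S} [GrpObj H] [GrpObj G]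

theorem act_eq (i : H ⟶ G) : (G ◁ i) ≫ μ[G] = fst G H * (snd G H ≫ i) := by
  rw [MonObj.mul_eq_mul, MonObj.comp_mul, whiskerLeft_fst, whiskerLeft_snd]

theorem exists_of_comp_eq (i : H ⟶ G) (q : G ⟶ Q)
    (sq : IsPullback (fst G H) ((G ◁ i) ≫ μ[G]) q q) {T : Over S} (a b : T ⟶ G)
    (h : a ≫ q = b ≫ q) : ∃ n : T ⟶ H, b = a * (n ≫ i) := by
  refine ⟨sq.lift a b h ≫ snd G H, ?_⟩
  have e1 : sq.lift a b h ≫ fst G H = a := sq.lift_fst _ _ _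
  have e2 : sq.lift a b h ≫ ((G ◁ i) ≫ μ[G]) = b := sq.lift_snd _ _ _
  calc b = sq.lift a b h ≫ ((G ◁ i) ≫ μ[G]) := e2.symm
    _ = sq.lift a b h ≫ (fst G H * (snd G H ≫ i)) :=
        congrArg (fun k => sq.lift a b h ≫ k) (act_eq i)
    _ = (sq.lift a b h ≫ fst G H) * (sq.lift a b h ≫ snd G H ≫ i) := MonObj.comp_mul _ _ _
    _ = a * ((sq.lift a b h ≫ snd G H) ≫ i) := by rw [e1, Category.assoc]

theorem comp_eq_of_eq_mul (i : H ⟶ G) (q : G ⟶ Q)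
    (sq : IsPullback (fst G H) ((G ◁ i) ≫ μ[G]) q q) {T : Over S} (a : T ⟶ G) (n : T ⟶ H) :
    (a * (n ≫ i)) ≫ q = a ≫ q := by
  have e : lift a n ≫ ((G ◁ i) ≫ μ[G]) = a * (n ≫ i) := by
    rw [act_eq, MonObj.comp_mul, lift_fst, ← Category.assoc, lift_snd]
  rw [← e, Category.assoc, ← sq.w, ← Category.assoc, lift_fst]

theorem mul_comp_eq (i : H ⟶ G) [IsMonHom i] (hn : AlgGrp.IsNormalHom i) (q : G ⟶ Q)
    (sq : IsPullback (fst G H) ((G ◁ i) ≫ μ[G]) q q) {T : Over S} (a₁ a₂ b₁ b₂ : T ⟶ G)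
    (ha : a₁ ≫ q = a₂ ≫ q) (hb : b₁ ≫ q = b₂ ≫ q) : (a₁ * b₁) ≫ q = (a₂ * b₂) ≫ q := by
  obtain ⟨n, rfl⟩ := exists_of_comp_eq i q sq a₁ a₂ ha
  obtain ⟨m, rfl⟩ := exists_of_comp_eq i q sq b₁ b₂ hb
  obtain ⟨n', hn'⟩ := hn T b₁⁻¹ n
  have e : a₁ * (n ≫ i) * (b₁ * (m ≫ i)) = (a₁ * b₁) * ((n' * m) ≫ i) := by
    rw [MonObj.mul_comp, ← hn']
    group
  rw [e, comp_eq_of_eq_mul i q sq]

theorem inv_comp_eq (i : H ⟶ G) [IsMonHom i] (hn : AlgGrp.IsNormalHom i) (q : G ⟶ Q)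
    (sq : IsPullback (fst G H) ((G ◁ i) ≫ μ[G]) q q) {T : Over S} (a b : T ⟶ G)
    (h : a ≫ q = b ≫ q) : a⁻¹ ≫ q = b⁻¹ ≫ q := by
  obtain ⟨n, rfl⟩ := exists_of_comp_eq i q sq a b h
  obtain ⟨n', hn'⟩ := hn T a n⁻¹
  have e : (a * (n ≫ i))⁻¹ = a⁻¹ * (n' ≫ i) := by
    rw [← hn', GrpObj.inv_comp]
    group
  rw [e, comp_eq_of_eq_mul i q sq]

theorem fppf_tensorHom {A B A' B' : Over S} (f : A ⟶ B) (g : A' ⟶ B')
    (hf1 : Surjective f.left) (hf2 : Flat f.left) (hf3 : LocallyOfFinitePresentation f.left)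
    (hg1 : Surjective g.left) (hg2 : Flat g.left) (hg3 : LocallyOfFinitePresentation g.left) :
    Surjective (f ⊗ₘ g).left ∧ Flat (f ⊗ₘ g).left ∧
      LocallyOfFinitePresentation (f ⊗ₘ g).left :=
  ⟨MorphismProperty.pullbackMap (P := @Surjective) hf1 hg1 (Over.w f).symm (Over.w g).symm,
    MorphismProperty.pullbackMap (P := @Flat) hf2 hg2 (Over.w f).symm (Over.w g).symm,
    MorphismProperty.pullbackMap (P := @LocallyOfFinitePresentation) hf3 hg3 (Over.w f).symm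
      (Over.w g).symm⟩

theorem epi_of_fppf {A B : Over S} (f : A ⟶ B)
    (hf1 : Surjective f.left) (hf2 : Flat f.left) (hf3 : LocallyOfFinitePresentation f.left) :
    Epi f := by
  haveI := hf1
  haveI := hf2
  haveI := hf3
  haveI : Epi f.left := inferInstance
  exact Over.epi_of_epi_left f

theorem exists_mul (i : H ⟶ G) [IsMonHom i] (hn : AlgGrp.IsNormalHom i) (q : G ⟶ Q)
    (sq : IsPullback (fst G H) ((G ◁ i) ≫ μ[G]) q q)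
    (hq1 : Surjective q.left) (hq2 : Flat q.left) (hq3 : LocallyOfFinitePresentation q.left) :
    ∃ μ' : Q ⊗ Q ⟶ Q, (q ⊗ₘ q) ≫ μ' = μ[G] ≫ q := by
  obtain ⟨hS, hF, hL⟩ := fppf_tensorHom q q hq1 hq2 hq3 hq1 hq2 hq3
  haveI := hS
  haveI := hF
  haveI := hL
  haveI : Epi (q ⊗ₘ q).left := inferInstance
  have hcompat : ∀ {Z : Scheme.{u}} (p p' : Z ⟶ (G ⊗ G).left),
      p ≫ (q ⊗ₘ q).left = p' ≫ (q ⊗ₘ q).left →
      p ≫ (μ[G] ≫ q).left = p' ≫ (μ[G] ≫ q).left := by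
    intro Z p p' hpp'
    have hw : p ≫ (G ⊗ G).hom = p' ≫ (G ⊗ G).hom := by
      rw [← Over.w (q ⊗ₘ q), ← Category.assoc, hpp', Category.assoc]
    let T : Over S := Over.mk (p ≫ (G ⊗ G).hom)
    let P : T ⟶ G ⊗ G := Over.homMk p rfl
    let P' : T ⟶ G ⊗ G := Over.homMk p' hw.symm
    have hP : P ≫ (q ⊗ₘ q) = P' ≫ (q ⊗ₘ q) := Over.OverMorphism.ext hpp'
    have h1 : (P ≫ fst G G) ≫ q = (P' ≫ fst G G) ≫ q := by
      have := congrArg (fun k => k ≫ fst Q Q) hP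
      simpa only [Category.assoc, tensorHom_fst] using this
    have h2 : (P ≫ snd G G) ≫ q = (P' ≫ snd G G) ≫ q := by
      have := congrArg (fun k => k ≫ snd Q Q) hP
      simpa only [Category.assoc, tensorHom_snd] using this
    have h3 := mul_comp_eq i hn q sq _ _ _ _ h1 h2
    have e : ∀ (R : T ⟶ G ⊗ G), (R ≫ fst G G) * (R ≫ snd G G) = R ≫ μ[G] := by
      intro R
      rw [← MonObj.comp_mul, ← MonObj.mul_eq_mul]
    rw [e, e, Category.assoc, Category.assoc] at h3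
    exact congrArg (fun k => k.left) h3
  let m₀ : (Q ⊗ Q).left ⟶ Q.left :=
    EffectiveEpi.desc (q ⊗ₘ q).left (μ[G] ≫ q).left (fun p p' h => hcompat p p' h)
  have hm₀ : (q ⊗ₘ q).left ≫ m₀ = (μ[G] ≫ q).left := EffectiveEpi.fac _ _ _
  have hw : m₀ ≫ Q.hom = (Q ⊗ Q).hom := by
    rw [← cancel_epi (q ⊗ₘ q).left, ← Category.assoc, hm₀, Over.w (μ[G] ≫ q), Over.w (q ⊗ₘ q)]
  exact ⟨Over.homMk m₀ hw, Over.OverMorphism.ext hm₀⟩

theorem exists_inv (i : H ⟶ G) [IsMonHom i] (hn : AlgGrp.IsNormalHom i) (q : G ⟶ Q)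
    (sq : IsPullback (fst G H) ((G ◁ i) ≫ μ[G]) q q)
    (hq1 : Surjective q.left) (hq2 : Flat q.left) (hq3 : LocallyOfFinitePresentation q.left) :
    ∃ ι' : Q ⟶ Q, q ≫ ι' = ι[G] ≫ q := by
  haveI := hq1
  haveI := hq2
  haveI := hq3
  haveI : Epi q.left := inferInstance
  have hcompat : ∀ {Z : Scheme.{u}} (p p' : Z ⟶ G.left),
      p ≫ q.left = p' ≫ q.left →
      p ≫ (ι[G] ≫ q).left = p' ≫ (ι[G] ≫ q).left := by
    intro Z p p' hpp'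
    have hw : p ≫ G.hom = p' ≫ G.hom := by
      rw [← Over.w q, ← Category.assoc, hpp', Category.assoc]
    let T : Over S := Over.mk (p ≫ G.hom)
    let P : T ⟶ G := Over.homMk p rfl
    let P' : T ⟶ G := Over.homMk p' hw.symm
    have hP : P ≫ q = P' ≫ q := Over.OverMorphism.ext hpp'
    have h3 := inv_comp_eq i hn q sq P P' hP
    rw [Hom.inv_def, Hom.inv_def, Category.assoc, Category.assoc] at h3
    exact congrArg (fun k => k.left) h3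
  let m₀ : Q.left ⟶ Q.left :=
    EffectiveEpi.desc q.left (ι[G] ≫ q).left (fun p p' h => hcompat p p' h)
  have hm₀ : q.left ≫ m₀ = (ι[G] ≫ q).left := EffectiveEpi.fac _ _ _
  have hw : m₀ ≫ Q.hom = Q.hom := by
    rw [← cancel_epi q.left, ← Category.assoc, hm₀, Over.w (ι[G] ≫ q), Over.w q]
  exact ⟨Over.homMk m₀ hw, Over.OverMorphism.ext hm₀⟩

end Quot

theorem main5236 {S : Scheme.{u}} {H G Q : Over S} [GrpObj H] [hG : GrpObj G]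
    (i : H ⟶ G) [IsMonHom i] [Mono i] (hn : AlgGrp.IsNormalHom i)
    (q : G ⟶ Q) (hq : RedSub.IsQuotient i q) :
    ∃! s : GrpObj Q, @IsMonHom (Over S) _ _ G Q hG.toMonObj s.toMonObj q := by
  obtain ⟨hq1, hq2, hq3, sq⟩ := hq
  haveI : Epi q := epi_of_fppf q hq1 hq2 hq3
  obtain ⟨h21, h22, h23⟩ := fppf_tensorHom q q hq1 hq2 hq3 hq1 hq2 hq3
  haveI hepi2 : Epi (q ⊗ₘ q) := epi_of_fppf _ h21 h22 h23
  obtain ⟨h31, h32, h33⟩ := fppf_tensorHom (q ⊗ₘ q) q h21 h22 h23 hq1 hq2 hq3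
  haveI hepi3 : Epi ((q ⊗ₘ q) ⊗ₘ q) := epi_of_fppf _ h31 h32 h33
  obtain ⟨μ', R1⟩ := exists_mul i hn q sq hq1 hq2 hq3
  obtain ⟨ι', R3⟩ := exists_inv i hn q sq hq1 hq2 hq3
  let s : GrpObj Q :=
    { one := η[G] ≫ q
      mul := μ'
      one_mul := one_mul' q μ' R1
      mul_one := mul_one' q μ' R1
      mul_assoc := mul_assoc' q μ' R1
      inv := ι'
      left_inv := left_inv' q μ' ι' R1 R3
      right_inv := right_inv' q μ' ι' R1 R3 }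
  refine ⟨s, ?_, ?_⟩
  · exact { one_hom := rfl, mul_hom := R1.symm }
  · intro s' hs'
    apply GrpObj.ext
    apply MonObj.ext
    rw [← cancel_epi (q ⊗ₘ q)]
    have h1 := @IsMonHom.mul_hom (Over S) _ _ G Q hG.toMonObj s'.toMonObj q hs'
    exact h1.symm.trans R1.symm

end Groth.Agent.Lib.Helper29.QuotGrp
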