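import Groth.Agent.Lib.Helper29.QuotMain
import Groth.Agent.Lib.Helper29.IdealDesc

/-!
# Helper library (helper29): descent of immersions representing a local subfunctor

Let `G` be a predicate on the morphisms into a scheme `X` which is stable under precomposition and local for
`K`-coverings (`K ≤ fpqc`).  If over the members of a `K`-covering of `X` the subfunctor `G` is represented by open
(resp. closed) immersions, then it is represented by an open (resp. closed) immersion into `X`.
-/

set_option autoImplicit false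
set_option maxHeartbeats 1600000
universe u
open CategoryTheory CategoryTheory.Limits AlgebraicGeometry Opposite

namespace Groth.Agent.Lib.Helper29.QuotSecA

open Groth.Agent.Lib.Helper29.InvFun Groth.Agent.Lib.Helper29 Scheme.IdealSheafData

noncomputable section

theorem fpqc_hasPullbacks : Scheme.fpqcPrecoverage.{u}.HasPullbacks := by
  unfold Scheme.fpqcPrecoverage; infer_instance

/-- a morphism which factors through a monomorphism locally for the fpqc topology factors through it -/
theorem factor_of_cover {X Z V : Scheme.{u}} (i : Z ⟶ X) [Mono i] (x : V ⟶ X) {κ : Type*}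
    {W : κ → Scheme.{u}} (d : ∀ l, W l ⟶ V)
    (hd : Presieve.ofArrows W d ∈ Scheme.fpqcPrecoverage V)
    (h : ∀ l, ∃ z : W l ⟶ Z, z ≫ i = d l ≫ x) : ∃ z : V ⟶ Z, z ≫ i = x := by
  choose z hz using h
  obtain ⟨g, hg⟩ := fpqc_glue' Z d hd z (fun l l' Y p q hpq => by
    rw [← cancel_mono i, Category.assoc, Category.assoc, hz, hz, ← Category.assoc,
      ← Category.assoc, hpq])
  refine ⟨g, fpqc_sep' X d hd _ _ (fun l => ?_)⟩
  rw [← Category.assoc, hg, hz]

theorem jointly_surjective {X : Scheme.{u}} {κ : Type*} {P : κ → Scheme.{u}}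
    (p : ∀ l, P l ⟶ X) (hp : Presieve.ofArrows P p ∈ Scheme.fpqcPrecoverage X) (x : X) :
    ∃ l, ∃ y : P l, p l y = x := by
  have h1 : Presieve.ofArrows P p ∈ Scheme.precoverage @Flat X :=
    Scheme.propQCPrecoverage_le_precoverage _ hp
  obtain ⟨hs, -⟩ := (Scheme.ofArrows_mem_precoverage_iff (P := @Flat)).mp h1
  obtain ⟨l, y, hy⟩ := hs x
  exact ⟨l, y, hy⟩

/-- open subsets glue along fpqc covering families (any index type) -/
theorem glue_opens {X : Scheme.{u}} {κ : Type*} {P : κ → Scheme.{u}}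
    (p : ∀ l, P l ⟶ X) (hp : Presieve.ofArrows P p ∈ Scheme.fpqcPrecoverage X)
    (W : ∀ l, (P l).Opens)
    (hcompat : ∀ (l l' : κ) (Z : Scheme.{u}) (a : Z ⟶ P l) (b : Z ⟶ P l'),
      a ≫ p l = b ≫ p l' → ∀ z : Z, a z ∈ W l ↔ b z ∈ W l') :
    ∃ W₀ : X.Opens, ∀ l (y : P l), p l y ∈ W₀ ↔ y ∈ W l := by
  have hsh : Presieve.IsSheaf Scheme.fpqcTopology
      (continuousMapPresheaf Prop : Scheme.{u}ᵒᵖ ⥤ Type u) :=
    (isSheaf_iff_isSheaf_of_type _ _).mp (isSheaf_fpqcTopology_continuousMapPresheaf Prop)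
  have h1 : Presieve.IsSheafFor (continuousMapPresheaf Prop : Scheme.{u}ᵒᵖ ⥤ Type u)
      (Presieve.ofArrows P p) := by
    rw [Presieve.isSheafFor_iff_generate]
    exact hsh _ (Precoverage.generate_mem_toGrothendieck hp)
  have hs := (Presieve.isSheafFor_arrows_iff _ _).mp h1
  let χ : ∀ l, C(P l, Prop) :=
    fun l => ⟨fun x => x ∈ W l, isOpen_iff_continuous_mem.mp (W l).isOpen⟩
  obtain ⟨(t : C(X, Prop)), ht, -⟩ := hs χ (fun l l' Z gi gj comm => by
    apply ContinuousMap.ext
    intro z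
    exact propext (hcompat l l' Z gi gj comm z))
  refine ⟨⟨{s | t s}, continuous_Prop.mp t.continuous⟩, fun l x => ?_⟩
  have h2 := congrArg (fun c : C(P l, Prop) => c x) (ht l)
  exact Iff.of_eq h2

/-- quasi-coherent ideal sheaves glue along fpqc covering families (any index type) -/
theorem glue_ideals {X : Scheme.{u}} {κ : Type*} {P : κ → Scheme.{u}}
    (p : ∀ l, P l ⟶ X) (hp : Presieve.ofArrows P p ∈ Scheme.fpqcPrecoverage X)
    (I : ∀ l, (P l).IdealSheafData)
    (h : ∀ (l l' : κ) (Z : Scheme.{u}) (a : Z ⟶ P l) (b : Z ⟶ P l'), a ≫ p l = b ≫ p l' →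
      (I l).comap a = (I l').comap b) :
    ∃ J : X.IdealSheafData, ∀ l, J.comap (p l) = I l := by
  have h1 : Presieve.IsSheafFor IdealDesc.idealPresheaf.{u} (Presieve.ofArrows P p) := by
    rw [Presieve.isSheafFor_iff_generate]
    exact IdealDesc.idealPresheaf_isSheaf_fpqc _ (Precoverage.generate_mem_toGrothendieck hp)
  have hs := (Presieve.isSheafFor_arrows_iff _ _).mp h1
  obtain ⟨J, hJ, -⟩ := hs I (fun l l' Z a b comm => h l l' Z a b comm)
  exact ⟨J, fun l => hJ l⟩

/-- the descent principle for a class of immersions `Pm` and the coverings of `K` -/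
def DescPrinciple (K : Precoverage Scheme.{u}) (Pm : MorphismProperty Scheme.{u}) : Prop :=
  ∀ {X : Scheme.{u}} (G : ∀ ⦃V : Scheme.{u}⦄, (V ⟶ X) → Prop),
    (∀ ⦃V' V : Scheme.{u}⦄ (h : V' ⟶ V) (x : V ⟶ X), G x → G (h ≫ x)) →
    (∀ ⦃V : Scheme.{u}⦄ (x : V ⟶ X) (R : Presieve V), R ∈ K.coverings V →
      (∀ ⦃W : Scheme.{u}⦄ (d : W ⟶ V), R d → G (d ≫ x)) → G x) →
    ∀ {κ : Type (u + 1)} {P : κ → Scheme.{u}} (p : ∀ l, P l ⟶ X),
      Presieve.ofArrows P p ∈ K.coverings X →
    ∀ {Zl : κ → Scheme.{u}} (j : ∀ l, Zl l ⟶ P l),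
      (∀ l ⦃V : Scheme.{u}⦄ (h : V ⟶ P l), (∃ z : V ⟶ Zl l, z ≫ j l = h) ↔ G (h ≫ p l)) →
      (∀ l, Pm (j l)) →
      ∃ (Z : Scheme.{u}) (i : Z ⟶ X), Pm i ∧
        ∀ ⦃V : Scheme.{u}⦄ (x : V ⟶ X), (∃ z : V ⟶ Z, z ≫ i = x) ↔ G x

theorem descPrinciple_open (K : Precoverage Scheme.{u}) [K.IsStableUnderBaseChange]
    (hK : K ≤ Scheme.fpqcPrecoverage) : DescPrinciple K @IsOpenImmersion := by
  intro X G hGa hGb κ P p hp Zl j hj hjP
  haveI : ∀ l, IsOpenImmersion (j l) := hjP
  have hp' : Presieve.ofArrows P p ∈ Scheme.fpqcPrecoverage X := hK _ hp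
  have hcompat1 : ∀ (l l' : κ) (Z : Scheme.{u}) (a : Z ⟶ P l) (b : Z ⟶ P l'),
      a ≫ p l = b ≫ p l' → ∀ z : Z, a z ∈ (j l).opensRange → b z ∈ (j l').opensRange := by
    intro l l' Z a b hab z hz
    have hr : Set.range (Z.fromSpecResidueField z ≫ a) ⊆ Set.range (j l) := by
      rintro _ ⟨s, rfl⟩
      have h3 : (Z.fromSpecResidueField z ≫ a) s = a z := by
        rw [Scheme.Hom.comp_apply, Scheme.fromSpecResidueField_apply]
      rw [h3]
      exact hz
    have hG1 : G ((Z.fromSpecResidueField z ≫ a) ≫ p l) :=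
      (hj l _).1 ⟨IsOpenImmersion.lift (j l) _ hr, IsOpenImmersion.lift_fac _ _ hr⟩
    have hG2 : G ((Z.fromSpecResidueField z ≫ b) ≫ p l') := by
      rw [Category.assoc, ← hab, ← Category.assoc]
      exact hG1
    obtain ⟨w, hw⟩ := (hj l' _).2 hG2
    obtain ⟨s, hs⟩ : ∃ s, Z.fromSpecResidueField z s = z := by
      have h4 : z ∈ Set.range (Z.fromSpecResidueField z) := by
        rw [Scheme.range_fromSpecResidueField]
        rfl
      exact h4
    refine ⟨w s, ?_⟩
    rw [← Scheme.Hom.comp_apply, hw, Scheme.Hom.comp_apply, hs]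
  obtain ⟨W₀, hW₀⟩ := glue_opens p hp' (fun l => (j l).opensRange)
    (fun l l' Z a b hab z => ⟨hcompat1 l l' Z a b hab z, hcompat1 l' l Z b a hab.symm z⟩)
  refine ⟨W₀.toScheme, W₀.ι, inferInstance, fun V x => ⟨?_, ?_⟩⟩
  · rintro ⟨z, rfl⟩
    refine hGb _ (Presieve.ofArrows (fun l => pullback (z ≫ W₀.ι) (p l))
      (fun l => pullback.fst (z ≫ W₀.ι) (p l))) ?_ ?_
    · exact K.mem_coverings_of_isPullback p hp (z ≫ W₀.ι) _ _
        (fun l => IsPullback.of_hasPullback _ _)
    · rintro W d ⟨l⟩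
      rw [pullback.condition]
      have hr : Set.range (pullback.snd (z ≫ W₀.ι) (p l)) ⊆ Set.range (j l) := by
        rintro _ ⟨w, rfl⟩
        have h6 : p l (pullback.snd (z ≫ W₀.ι) (p l) w) =
            W₀.ι (z (pullback.fst (z ≫ W₀.ι) (p l) w)) := by
          rw [← Scheme.Hom.comp_apply, ← pullback.condition, Scheme.Hom.comp_apply,
            Scheme.Hom.comp_apply]
        have h7 := Set.mem_range_self (f := W₀.ι) (z (pullback.fst (z ≫ W₀.ι) (p l) w))
        rw [Scheme.Opens.range_ι] at h7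
        have h5 : p l (pullback.snd (z ≫ W₀.ι) (p l) w) ∈ W₀ := by
          rw [h6]
          exact h7
        exact (hW₀ l _).1 h5
      exact (hj l _).1 ⟨IsOpenImmersion.lift (j l) _ hr, IsOpenImmersion.lift_fac _ _ hr⟩
  · intro hx
    have hr : Set.range x ⊆ Set.range W₀.ι := by
      rintro _ ⟨v, rfl⟩
      rw [Scheme.Opens.range_ι]
      obtain ⟨l, y, hy⟩ := jointly_surjective p hp' (x v)
      obtain ⟨w, hw1, hw2⟩ :=
        Scheme.Pullback.exists_preimage_pullback (f := x) (g := p l) v y hy.symm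
      have hG1 : G (pullback.snd x (p l) ≫ p l) := by
        rw [← pullback.condition]
        exact hGa _ _ hx
      obtain ⟨z', hz'⟩ := (hj l _).2 hG1
      have hy' : y ∈ (j l).opensRange := ⟨z' w, by rw [← Scheme.Hom.comp_apply, hz', hw2]⟩
      have h8 : p l y ∈ W₀ := (hW₀ l y).2 hy'
      rw [hy] at h8
      exact h8
    exact ⟨IsOpenImmersion.lift W₀.ι x hr, IsOpenImmersion.lift_fac _ _ hr⟩

theorem descPrinciple_closed (K : Precoverage Scheme.{u}) [K.IsStableUnderBaseChange]
    (hK : K ≤ Scheme.fpqcPrecoverage) : DescPrinciple K @IsClosedImmersion := by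
  intro X G hGa hGb κ P p hp Zl j hj hjP
  haveI : ∀ l, IsClosedImmersion (j l) := hjP
  have hp' : Presieve.ofArrows P p ∈ Scheme.fpqcPrecoverage X := hK _ hp
  have hle : ∀ (l l' : κ) (Z : Scheme.{u}) (a : Z ⟶ P l) (b : Z ⟶ P l'), a ≫ p l = b ≫ p l' →
      (pullback.fst b (j l')).ker ≤ (pullback.fst a (j l)).ker := by
    intro l l' Z a b hab
    have hG1 : G ((pullback.fst a (j l) ≫ a) ≫ p l) :=
      (hj l _).1 ⟨pullback.snd a (j l), pullback.condition.symm⟩
    have hG2 : G ((pullback.fst a (j l) ≫ b) ≫ p l') := by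
      rw [Category.assoc, ← hab, ← Category.assoc]
      exact hG1
    obtain ⟨w, hw⟩ := (hj l' _).2 hG2
    have he : pullback.lift (pullback.fst a (j l)) w hw.symm ≫ pullback.fst b (j l') =
        pullback.fst a (j l) := pullback.lift_fst _ _ _
    calc (pullback.fst b (j l')).ker
        ≤ (pullback.lift (pullback.fst a (j l)) w hw.symm ≫ pullback.fst b (j l')).ker :=
          Scheme.Hom.le_ker_comp _ _
      _ = (pullback.fst a (j l)).ker := by rw [he]
  obtain ⟨J, hJ⟩ := glue_ideals p hp' (fun l => (j l).ker) (fun l l' Z a b hab => by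
    rw [← ker_fst_of_isClosedImmersion (j l) a, ← ker_fst_of_isClosedImmersion (j l') b]
    exact le_antisymm (hle l' l Z b a hab.symm) (hle l l' Z a b hab))
  have hker : J.subschemeι.ker = J := J.ker_subschemeι
  have hkl : ∀ l, (pullback.fst (p l) J.subschemeι).ker = (j l).ker := by
    intro l
    rw [ker_fst_of_isClosedImmersion, hker, hJ l]
  refine ⟨J.subscheme, J.subschemeι, inferInstance, fun V x => ⟨?_, ?_⟩⟩
  · rintro ⟨z, rfl⟩
    refine hGb _ (Presieve.ofArrows (fun l => pullback (z ≫ J.subschemeι) (p l))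
      (fun l => pullback.fst (z ≫ J.subschemeι) (p l))) ?_ ?_
    · exact K.mem_coverings_of_isPullback p hp (z ≫ J.subschemeι) _ _
        (fun l => IsPullback.of_hasPullback _ _)
    · rintro W d ⟨l⟩
      rw [pullback.condition]
      have hcond : pullback.snd (z ≫ J.subschemeι) (p l) ≫ p l =
          (pullback.fst (z ≫ J.subschemeι) (p l) ≫ z) ≫ J.subschemeι := by
        rw [Category.assoc, pullback.condition]
      have he : pullback.lift (pullback.snd (z ≫ J.subschemeι) (p l))
          (pullback.fst (z ≫ J.subschemeι) (p l) ≫ z) hcond ≫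
            pullback.fst (p l) J.subschemeι =
          pullback.snd (z ≫ J.subschemeι) (p l) := pullback.lift_fst _ _ _
      have hle2 : (j l).ker ≤ (pullback.snd (z ≫ J.subschemeι) (p l)).ker :=
        calc (j l).ker = (pullback.fst (p l) J.subschemeι).ker := (hkl l).symm
          _ ≤ (pullback.lift (pullback.snd (z ≫ J.subschemeι) (p l))
                (pullback.fst (z ≫ J.subschemeι) (p l) ≫ z) hcond ≫
                  pullback.fst (p l) J.subschemeι).ker := Scheme.Hom.le_ker_comp _ _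
          _ = (pullback.snd (z ≫ J.subschemeι) (p l)).ker := by rw [he]
      exact (hj l _).1 ⟨IsClosedImmersion.lift (j l) _ hle2, IsClosedImmersion.lift_fac _ _ _⟩
  · intro hx
    refine factor_of_cover J.subschemeι x (fun l => pullback.fst x (p l)) ?_ (fun l => ?_)
    · exact hK _ (K.mem_coverings_of_isPullback p hp x _ _
        (fun l => IsPullback.of_hasPullback _ _))
    · have hG1 : G (pullback.snd x (p l) ≫ p l) := by
        rw [← pullback.condition]
        exact hGa _ _ hx
      obtain ⟨w, hw⟩ := (hj l _).2 hG1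
      have hθ : IsClosedImmersion.lift (pullback.fst (p l) J.subschemeι) (j l) (hkl l).le ≫
          pullback.fst (p l) J.subschemeι = j l := IsClosedImmersion.lift_fac _ _ _
      refine ⟨w ≫ IsClosedImmersion.lift (pullback.fst (p l) J.subschemeι) (j l) (hkl l).le ≫
        pullback.snd (p l) J.subschemeι, ?_⟩
      calc (w ≫ IsClosedImmersion.lift (pullback.fst (p l) J.subschemeι) (j l) (hkl l).le ≫
            pullback.snd (p l) J.subschemeι) ≫ J.subschemeι
          = w ≫ IsClosedImmersion.lift (pullback.fst (p l) J.subschemeι) (j l) (hkl l).le ≫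
            (pullback.snd (p l) J.subschemeι ≫ J.subschemeι) := by
            simp only [Category.assoc]
        _ = w ≫ IsClosedImmersion.lift (pullback.fst (p l) J.subschemeι) (j l) (hkl l).le ≫
            (pullback.fst (p l) J.subschemeι ≫ p l) := by rw [pullback.condition]
        _ = w ≫ (IsClosedImmersion.lift (pullback.fst (p l) J.subschemeι) (j l) (hkl l).le ≫
            pullback.fst (p l) J.subschemeι) ≫ p l := by simp only [Category.assoc]
        _ = (w ≫ j l) ≫ p l := by rw [hθ, Category.assoc]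
        _ = pullback.fst x (p l) ≫ x := by rw [hw, pullback.condition]

end

end Groth.Agent.Lib.Helper29.QuotSecA
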