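import Groth.Agent.Lib.Helper29.QuotSecA

/-!
# Helper library (helper29): sections of the quotient sheaf `U/R` and the subschemes of `U ×_S T` they define

For an equivalence relation `s, t : R ⇉ U` of schemes over `S`, a topology `K ≤ fpqc`, and a section `σ` of the quotient
sheaf `U/R` over `T`:
* `GoodP a τ`: the class of the point `a` of `U` is the pull back of `σ` along `τ`;
* `Represents i`: the monomorphism `i : Z ⟶ U ×_S T` represents the subfunctor `GoodP`;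
* `exists_represents`: such a `Z` exists, as an open (closed) subscheme if `(t, s)` is an open (closed) immersion;
* `stable_of_represents`, `related_of_represents`, `prop_of_represents`, `goodP_self_iff`: its properties;
* `factor_of_props`: uniqueness.
-/

set_option autoImplicit false
set_option maxHeartbeats 1600000
universe u
open CategoryTheory CategoryTheory.Limits AlgebraicGeometry Opposite MonoidalCategory
  CartesianMonoidalCategory

namespace Groth.Agent.Lib.Helper29.QuotSecB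

open Groth.Agent.Lib.Helper29.QuotUnpack Groth.Agent.Lib.Helper29.QuotMain
  Groth.Agent.Lib.Helper29.QuotSecA Groth.Agent.Lib.Helper29

noncomputable section

variable (K : Precoverage Scheme.{u}) {S : Scheme.{u}}

section Yoneda

theorem app_sec_comp {V V' W : Over S} {F : QuotSh.Sh K S} (f : QuotSh.rep K W ⟶ F) (h : V' ⟶ V)
    (x : V ⟶ W) :
    f.hom.app (op V') (sec K (h ≫ x)) = F.obj.map h.op (f.hom.app (op V) (sec K x)) := by
  have e := NatTrans.naturality_apply f.hom h.op (sec K x)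
  rw [sec_map] at e
  exact e

theorem rep_hom_ext {V : Over S} {F : QuotSh.Sh K S} (f g : QuotSh.rep K V ⟶ F)
    (h : f.hom.app (op V) (sec K (𝟙 V)) = g.hom.app (op V) (sec K (𝟙 V))) : f = g := by
  apply Sheaf.hom_ext
  refine sheafify_hom_ext (QuotSh.J K S) (P := P V) f.hom g.hom F.property ?_
  ext T' x
  obtain ⟨x⟩ := x
  have e1 := app_sec_comp K f x (𝟙 V)
  have e2 := app_sec_comp K g x (𝟙 V)
  rw [Category.comp_id] at e1 e2
  exact e1.trans ((congrArg _ h).trans e2.symm)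

end Yoneda

section Sections

variable {R U : Over S} (s t : R ⟶ U) (T : Over S) (σ : QuotSh.rep K T ⟶ QuotSh.quot K s t)

/-- the class of the point `a` of `U` is the pull back of the section `σ` along `τ` -/
def GoodP {V : Over S} (a : V ⟶ U) (τ : V ⟶ T) : Prop :=
  (QuotSh.quotπ K s t).hom.app (op V) (sec K a) = σ.hom.app (op V) (sec K τ)

theorem goodP_comp {V V' : Over S} (h : V' ⟶ V) {a : V ⟶ U} {τ : V ⟶ T}
    (hG : GoodP K s t T σ a τ) : GoodP K s t T σ (h ≫ a) (h ≫ τ) := by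
  unfold GoodP at hG ⊢
  rw [app_sec_comp K, app_sec_comp K, hG]

theorem goodP_of_sieve {V : Over S} (a : V ⟶ U) (τ : V ⟶ T) (R' : Sieve V)
    (hR' : R' ∈ QuotSh.J K S V)
    (h : ∀ ⦃V' : Over S⦄ (g : V' ⟶ V), R' g → GoodP K s t T σ (g ≫ a) (g ≫ τ)) :
    GoodP K s t T σ a τ := by
  have hsh : Presieve.IsSheaf (QuotSh.J K S) (QuotSh.quot K s t).obj :=
    (isSheaf_iff_isSheaf_of_type _ _).1 (QuotSh.quot K s t).property
  unfold GoodP
  apply (hsh R' hR').isSeparatedFor.ext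
  intro V' g hg
  have e := h g hg
  unfold GoodP at e
  rw [app_sec_comp K, app_sec_comp K] at e
  exact e

variable [(QuotSh.J K S).Subcanonical]

theorem exists_local_lift : ∃ R' ∈ QuotSh.J K S T, ∀ ⦃T' : Over S⦄ (g : T' ⟶ T), R' g →
    ∃ u : T' ⟶ U, GoodP K s t T σ u g := by
  haveI : Epi (QuotSh.quotπ K s t) :=
    show Epi (coequalizer.π (QuotSh.repMap K s) (QuotSh.repMap K t)) from inferInstance
  haveI : Sheaf.IsLocallySurjective (QuotSh.quotπ K s t) :=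
    (Sheaf.isLocallySurjective_iff_epi _).2 inferInstance
  refine ⟨_, Presheaf.imageSieve_mem (QuotSh.J K S) (QuotSh.quotπ K s t).hom
    (σ.hom.app (op T) (sec K (𝟙 T))), ?_⟩
  intro T' g hg
  obtain ⟨y, hy⟩ := hg
  obtain ⟨u, rfl⟩ := (sec_bijective K T' U).2 y
  refine ⟨u, ?_⟩
  have e := app_sec_comp K σ g (𝟙 T)
  rw [Category.comp_id] at e
  exact hy.trans e.symm

theorem quotπ_eq_of_ptRel {V : Over S} {a b : V ⟶ U} (h : PtRel s t V a b) :
    (QuotSh.quotπ K s t).hom.app (op V) (sec K a) =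
      (QuotSh.quotπ K s t).hom.app (op V) (sec K b) := by
  obtain ⟨r, rfl, rfl⟩ := h
  have e := congrArg (fun φ : QuotSh.rep K R ⟶ QuotSh.quot K s t => φ.hom.app (op V) (sec K r))
    (QuotSh.quot_condition K s t)
  rw [← sec_repMap, ← sec_repMap]
  exact e

variable [hst : IsEquivalenceRelation s t]

include hst in
theorem hmono_of : ∀ ⦃W : Over S⦄ (f g : W ⟶ R), f ≫ s = g ≫ s → f ≫ t = g ≫ t → f = g := by
  obtain ⟨e⟩ := hst.nonempty_equivalenceRelation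
  exact e.right_cancellation

theorem ptRel_of_quotπ_eq {V : Over S} (a b : V ⟶ U)
    (hab : (QuotSh.quotπ K s t).hom.app (op V) (sec K a) =
      (QuotSh.quotπ K s t).hom.app (op V) (sec K b)) : PtRel s t V a b := by
  obtain ⟨R', hR', h⟩ := exists_rel_of_quotπ_eq K s t (ptRel_equivalence s t) a b hab
  exact glue_of_jointlyMono K (hmono_of s t) R' hR' a b h

theorem goodP_iff_ptRel {V : Over S} {u : V ⟶ U} {τ : V ⟶ T} (hu : GoodP K s t T σ u τ)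
    (a : V ⟶ U) : GoodP K s t T σ a τ ↔ PtRel s t V u a := by
  unfold GoodP at hu ⊢
  constructor
  · intro ha
    exact ptRel_of_quotπ_eq K s t u a (hu.trans ha.symm)
  · intro h
    exact (quotπ_eq_of_ptRel K s t h).symm.trans hu

/-- the monomorphism `i` represents the subfunctor of `U ×_S T` defined by `σ` -/
def Represents {Z : Over S} (i : Z ⟶ U ⊗ T) : Prop :=
  ∀ ⦃V : Over S⦄ (x : V ⟶ U ⊗ T),
    (∃ z : V ⟶ Z, z ≫ i = x) ↔ GoodP K s t T σ (x ≫ fst U T) (x ≫ snd U T)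

omit hst in
theorem goodP_self_iff {Z : Over S} (i : Z ⟶ U ⊗ T) :
    GoodP K s t T σ (i ≫ fst U T) (i ≫ snd U T) ↔
      QuotSh.repMap K (i ≫ fst U T) ≫ QuotSh.quotπ K s t = QuotSh.repMap K (i ≫ snd U T) ≫ σ := by
  constructor
  · intro h
    apply rep_hom_ext
    show (QuotSh.quotπ K s t).hom.app (op Z)
        ((QuotSh.repMap K (i ≫ fst U T)).hom.app (op Z) (sec K (𝟙 Z))) =
      σ.hom.app (op Z) ((QuotSh.repMap K (i ≫ snd U T)).hom.app (op Z) (sec K (𝟙 Z)))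
    rw [sec_repMap, sec_repMap, Category.id_comp, Category.id_comp]
    exact h
  · intro h
    have e := congrArg
      (fun φ : QuotSh.rep K Z ⟶ QuotSh.quot K s t => φ.hom.app (op Z) (sec K (𝟙 Z))) h
    have e' : (QuotSh.quotπ K s t).hom.app (op Z)
        ((QuotSh.repMap K (i ≫ fst U T)).hom.app (op Z) (sec K (𝟙 Z))) =
      σ.hom.app (op Z) ((QuotSh.repMap K (i ≫ snd U T)).hom.app (op Z) (sec K (𝟙 Z))) := e
    rw [sec_repMap, sec_repMap, Category.id_comp, Category.id_comp] at e'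
    exact e'

omit hst in
theorem stable_of_represents {Z : Over S} {i : Z ⟶ U ⊗ T} (hrep : Represents K s t T σ i)
    (T' : Over S) (r : T' ⟶ R ⊗ T) :
    (∃ z : T' ⟶ Z, z ≫ i = r ≫ (s ▷ T)) ↔ (∃ z : T' ⟶ Z, z ≫ i = r ≫ (t ▷ T)) := by
  refine (hrep _).trans (Iff.trans ?_ (hrep _).symm)
  have e1 : (r ≫ s ▷ T) ≫ fst U T = (r ≫ fst R T) ≫ s := by
    rw [Category.assoc, whiskerRight_fst, Category.assoc]
  have e2 : (r ≫ s ▷ T) ≫ snd U T = r ≫ snd R T := by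
    rw [Category.assoc, whiskerRight_snd]
  have e3 : (r ≫ t ▷ T) ≫ fst U T = (r ≫ fst R T) ≫ t := by
    rw [Category.assoc, whiskerRight_fst, Category.assoc]
  have e4 : (r ≫ t ▷ T) ≫ snd U T = r ≫ snd R T := by
    rw [Category.assoc, whiskerRight_snd]
  rw [e1, e2, e3, e4]
  unfold GoodP
  rw [quotπ_eq_of_ptRel K s t ⟨r ≫ fst R T, rfl, rfl⟩]

theorem related_of_represents {Z : Over S} {i : Z ⟶ U ⊗ T} (hrep : Represents K s t T σ i)
    (T' : Over S) (z₁ z₂ : T' ⟶ Z) (h : z₁ ≫ i ≫ snd U T = z₂ ≫ i ≫ snd U T) :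
    ∃ r : T' ⟶ R, r ≫ s = z₁ ≫ i ≫ fst U T ∧ r ≫ t = z₂ ≫ i ≫ fst U T := by
  have h1 : GoodP K s t T σ ((z₁ ≫ i) ≫ fst U T) ((z₁ ≫ i) ≫ snd U T) :=
    (hrep (z₁ ≫ i)).1 ⟨z₁, rfl⟩
  have h2 : GoodP K s t T σ ((z₂ ≫ i) ≫ fst U T) ((z₂ ≫ i) ≫ snd U T) :=
    (hrep (z₂ ≫ i)).1 ⟨z₂, rfl⟩
  rw [Category.assoc, Category.assoc] at h1 h2
  rw [← h] at h2
  exact (goodP_iff_ptRel K s t T σ h1 _).1 h2

/-- the base change of `Z ⟶ T` along a morphism over which `σ` lifts to `U` is a base change of `s` -/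
theorem isPullback_of_represents {Z : Over S} {i : Z ⟶ U ⊗ T} [Mono i]
    (hrep : Represents K s t T σ i) {Tl : Over S} (gl : Tl ⟶ T) (u : Tl ⟶ U)
    (hu : GoodP K s t T σ u gl) {Zl : Over S} (p₁ : Zl ⟶ Z) (p₂ : Zl ⟶ Tl)
    (hZl : IsPullback p₁ p₂ (i ≫ snd U T) gl) :
    ∃ r : Zl ⟶ R, IsPullback r p₂ s u := by
  have hmono := hmono_of s t
  have hcond : p₁ ≫ i ≫ snd U T = p₂ ≫ gl := hZl.w
  have hu' : GoodP K s t T σ (p₂ ≫ u) ((p₁ ≫ i) ≫ snd U T) := by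
    have h0 := goodP_comp K s t T σ p₂ hu
    rw [← hcond, ← Category.assoc] at h0
    exact h0
  have hG1 : GoodP K s t T σ ((p₁ ≫ i) ≫ fst U T) ((p₁ ≫ i) ≫ snd U T) :=
    (hrep (p₁ ≫ i)).1 ⟨p₁, rfl⟩
  obtain ⟨r, hr1, hr2⟩ := (goodP_iff_ptRel K s t T σ hu' _).1 hG1
  have huniq : ∀ {A : Over S} (m m' : A ⟶ Zl), m ≫ r = m' ≫ r → m ≫ p₂ = m' ≫ p₂ →
      m = m' := by
    intro A m m' h1 h2
    apply hZl.hom_ext
    · rw [← cancel_mono i]
      apply CartesianMonoidalCategory.hom_ext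
      · calc ((m ≫ p₁) ≫ i) ≫ fst U T = m ≫ ((p₁ ≫ i) ≫ fst U T) := by
              simp only [Category.assoc]
          _ = m ≫ r ≫ t := by rw [hr2]
          _ = (m ≫ r) ≫ t := (Category.assoc _ _ _).symm
          _ = (m' ≫ r) ≫ t := by rw [h1]
          _ = m' ≫ r ≫ t := Category.assoc _ _ _
          _ = m' ≫ ((p₁ ≫ i) ≫ fst U T) := by rw [hr2]
          _ = ((m' ≫ p₁) ≫ i) ≫ fst U T := by simp only [Category.assoc]
      · calc ((m ≫ p₁) ≫ i) ≫ snd U T = m ≫ (p₁ ≫ i ≫ snd U T) := by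
              simp only [Category.assoc]
          _ = m ≫ p₂ ≫ gl := by rw [hcond]
          _ = (m ≫ p₂) ≫ gl := (Category.assoc _ _ _).symm
          _ = (m' ≫ p₂) ≫ gl := by rw [h2]
          _ = m' ≫ p₂ ≫ gl := Category.assoc _ _ _
          _ = m' ≫ (p₁ ≫ i ≫ snd U T) := by rw [hcond]
          _ = ((m' ≫ p₁) ≫ i) ≫ snd U T := by simp only [Category.assoc]
    · exact h2
  have hex : ∀ {A : Over S} (α : A ⟶ R) (β : A ⟶ Tl), α ≫ s = β ≫ u →
      ∃ m : A ⟶ Zl, m ≫ r = α ∧ m ≫ p₂ = β := by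
    intro A α β hαβ
    have hβ : GoodP K s t T σ (β ≫ u) (β ≫ gl) := goodP_comp K s t T σ β hu
    have hG2 : GoodP K s t T σ (lift (α ≫ t) (β ≫ gl) ≫ fst U T)
        (lift (α ≫ t) (β ≫ gl) ≫ snd U T) := by
      rw [lift_fst, lift_snd]
      exact (goodP_iff_ptRel K s t T σ hβ _).2 ⟨α, hαβ, rfl⟩
    obtain ⟨z, hz⟩ := (hrep (lift (α ≫ t) (β ≫ gl))).2 hG2
    have hz2 : z ≫ i ≫ snd U T = β ≫ gl := by
      rw [← Category.assoc, hz, lift_snd]
    have hz1 : z ≫ i ≫ fst U T = α ≫ t := by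
      rw [← Category.assoc, hz, lift_fst]
    refine ⟨hZl.lift z β hz2, ?_, hZl.lift_snd _ _ _⟩
    apply hmono
    · calc (hZl.lift z β hz2 ≫ r) ≫ s = hZl.lift z β hz2 ≫ (r ≫ s) := Category.assoc _ _ _
        _ = hZl.lift z β hz2 ≫ p₂ ≫ u := by rw [hr1]
        _ = (hZl.lift z β hz2 ≫ p₂) ≫ u := (Category.assoc _ _ _).symm
        _ = β ≫ u := by rw [hZl.lift_snd]
        _ = α ≫ s := hαβ.symm
    · calc (hZl.lift z β hz2 ≫ r) ≫ t = hZl.lift z β hz2 ≫ (r ≫ t) := Category.assoc _ _ _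
        _ = hZl.lift z β hz2 ≫ ((p₁ ≫ i) ≫ fst U T) := by rw [hr2]
        _ = (hZl.lift z β hz2 ≫ p₁) ≫ i ≫ fst U T := by simp only [Category.assoc]
        _ = z ≫ i ≫ fst U T := by rw [hZl.lift_fst]
        _ = α ≫ t := hz1
  exact ⟨r, ⟨⟨hr1⟩, ⟨PullbackCone.IsLimit.mk hr1
    (fun c => Classical.choose (hex c.fst c.snd c.condition))
    (fun c => (Classical.choose_spec (hex c.fst c.snd c.condition)).1)
    (fun c => (Classical.choose_spec (hex c.fst c.snd c.condition)).2)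
    (fun c m h1 h2 => huniq _ _
      (h1.trans (Classical.choose_spec (hex c.fst c.snd c.condition)).1.symm)
      (h2.trans (Classical.choose_spec (hex c.fst c.snd c.condition)).2.symm))⟩⟩⟩

theorem prop_snd_of_lift (P : MorphismProperty Scheme.{u}) [P.IsStableUnderBaseChange]
    (hs : P s.left) {Z : Over S} {i : Z ⟶ U ⊗ T} [Mono i] (hrep : Represents K s t T σ i)
    {Tl : Over S} (gl : Tl ⟶ T) (u : Tl ⟶ U) (hu : GoodP K s t T σ u gl) :
    P (pullback.snd (i ≫ snd U T).left gl.left) := by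
  have hZl := IsPullback.of_hasPullback (i ≫ snd U T) gl
  obtain ⟨r, hpb⟩ := isPullback_of_represents K s t T σ hrep gl u hu _ _ hZl
  have hpbS : IsPullback r.left (pullback.snd (i ≫ snd U T) gl).left s.left u.left :=
    hpb.map (Over.forget S)
  have hP2 : P (pullback.snd (i ≫ snd U T) gl).left := MorphismProperty.of_isPullback hpbS hs
  have hpbZ : IsPullback (pullback.fst (i ≫ snd U T) gl).left (pullback.snd (i ≫ snd U T) gl).left
      (i ≫ snd U T).left gl.left := hZl.map (Over.forget S)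
  rw [← P.cancel_left_of_respectsIso hpbZ.isoPullback.hom
    (pullback.snd (i ≫ snd U T).left gl.left), hpbZ.isoPullback_hom_snd]
  exact hP2

variable [K.IsStableUnderComposition] [K.IsStableUnderBaseChange] [K.HasPullbacks] [K.HasIsos]

theorem prop_of_represents (hK : K ≤ Scheme.fpqcPrecoverage)
    (P : MorphismProperty Scheme.{u}) [P.IsStableUnderBaseChange] [IsZariskiLocalAtTarget P]
    [P.DescendsAlong (@Surjective ⊓ @Flat ⊓ @QuasiCompact : MorphismProperty Scheme.{u})]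
    (hs : P s.left) {Z : Over S} {i : Z ⟶ U ⊗ T} [Mono i] (hrep : Represents K s t T σ i) :
    P (i ≫ snd U T).left := by
  obtain ⟨R₁, hR₁, hlift⟩ := exists_local_lift K s t T σ
  obtain ⟨ι, Y, c, hc, hmem⟩ := exists_cover_of_mem K R₁ hR₁
  refine TorsorDesc.of_fpqc P (i ≫ snd U T).left (hK _ hc) (fun {V} g hg => ?_)
  obtain ⟨l⟩ := hg
  obtain ⟨u, hu⟩ := hlift _ (hmem l)
  exact prop_snd_of_lift K s t T σ P hs hrep
    (Over.homMk (c l) rfl : Over.mk (c l ≫ T.hom) ⟶ T) u hu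

omit [K.IsStableUnderComposition] [K.HasPullbacks] [K.HasIsos] in
theorem factor_of_props (hK : K ≤ Scheme.fpqcPrecoverage) {Z Z' : Over S} (i : Z ⟶ U ⊗ T)
    (i' : Z' ⟶ U ⊗ T) [Mono i'.left]
    (hstab' : ∀ (T' : Over S) (r : T' ⟶ R ⊗ T),
      (∃ z : T' ⟶ Z', z ≫ i' = r ≫ (s ▷ T)) → (∃ z : T' ⟶ Z', z ≫ i' = r ≫ (t ▷ T)))
    (hcov' : Presieve.ofArrows (fun _ : PUnit.{1} => Z'.left)
      (fun _ => (i' ≫ snd U T).left) ∈ K.coverings T.left)
    (hG : GoodP K s t T σ (i ≫ fst U T) (i ≫ snd U T))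
    (hG' : GoodP K s t T σ (i' ≫ fst U T) (i' ≫ snd U T)) :
    ∃ f : Z ⟶ Z', f ≫ i' = i := by
  obtain ⟨W, pr₁, pr₂, hW⟩ : ∃ (W : Over S) (pr₁ : W ⟶ Z) (pr₂ : W ⟶ Z'),
      IsPullback pr₁ pr₂ (i ≫ snd U T) (i' ≫ snd U T) :=
    ⟨_, _, _, IsPullback.of_hasPullback _ _⟩
  have hcond : pr₁ ≫ i ≫ snd U T = pr₂ ≫ i' ≫ snd U T := hW.w
  have h1 : GoodP K s t T σ (pr₁ ≫ i ≫ fst U T) (pr₁ ≫ i ≫ snd U T) :=
    goodP_comp K s t T σ pr₁ hG
  have h2 : GoodP K s t T σ (pr₂ ≫ i' ≫ fst U T) (pr₂ ≫ i' ≫ snd U T) :=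
    goodP_comp K s t T σ pr₂ hG'
  rw [hcond] at h1
  obtain ⟨r, hr1, hr2⟩ := (goodP_iff_ptRel K s t T σ h2 _).1 h1
  have e1 : lift r (pr₁ ≫ i ≫ snd U T) ≫ (s ▷ T) = pr₂ ≫ i' := by
    apply CartesianMonoidalCategory.hom_ext
    · rw [Category.assoc, whiskerRight_fst, ← Category.assoc, lift_fst, hr1, Category.assoc]
    · rw [Category.assoc, whiskerRight_snd, lift_snd, hcond, Category.assoc]
  have e2 : lift r (pr₁ ≫ i ≫ snd U T) ≫ (t ▷ T) = pr₁ ≫ i := by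
    apply CartesianMonoidalCategory.hom_ext
    · rw [Category.assoc, whiskerRight_fst, ← Category.assoc, lift_fst, hr2, Category.assoc]
    · rw [Category.assoc, whiskerRight_snd, lift_snd, Category.assoc]
  obtain ⟨z, hz⟩ := hstab' _ _ ⟨pr₂, e1.symm⟩
  rw [e2] at hz
  have hpb : IsPullback pr₁.left pr₂.left (i ≫ snd U T).left (i' ≫ snd U T).left :=
    hW.map (Over.forget S)
  have hcovW : Presieve.ofArrows (fun _ : PUnit.{1} => W.left) (fun _ => pr₁.left) ∈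
      K.coverings Z.left :=
    Precoverage.mem_coverings_of_isPullback (fun _ : PUnit.{1} => (i' ≫ snd U T).left) hcov'
      (i ≫ snd U T).left (fun _ => pr₁.left) (fun _ => pr₂.left) (fun _ => hpb)
  obtain ⟨f₀, hf₀⟩ := factor_of_cover i'.left i.left (fun _ : PUnit.{1} => pr₁.left)
    (hK _ hcovW) (fun _ => ⟨z.left, congrArg (fun k => k.left) hz⟩)
  have hw : f₀ ≫ Z'.hom = Z.hom := by
    rw [← Over.w i', ← Category.assoc, hf₀, Over.w i]
  exact ⟨Over.homMk f₀ hw, Over.OverMorphism.ext hf₀⟩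

/-! ### the scheme-level predicate and the construction -/

/-- the predicate `GoodP` on morphisms of schemes into `U ×_S T` -/
def Gs ⦃V : Scheme.{u}⦄ (x : V ⟶ (U ⊗ T).left) : Prop :=
  GoodP K s t T σ ((Over.homMk x rfl : Over.mk (x ≫ (U ⊗ T).hom) ⟶ U ⊗ T) ≫ fst U T)
    ((Over.homMk x rfl : Over.mk (x ≫ (U ⊗ T).hom) ⟶ U ⊗ T) ≫ snd U T)

omit hst [(QuotSh.J K S).Subcanonical] [K.IsStableUnderComposition] [K.IsStableUnderBaseChange]
  [K.HasPullbacks] [K.HasIsos] in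
theorem goodP_iff_Gs {V : Over S} (x : V ⟶ U ⊗ T) :
    GoodP K s t T σ (x ≫ fst U T) (x ≫ snd U T) ↔ Gs K s t T σ x.left := by
  have hw : 𝟙 V.left ≫ (Over.mk (x.left ≫ (U ⊗ T).hom)).hom = V.hom := by
    rw [Category.id_comp]
    exact Over.w x
  have hw' : 𝟙 V.left ≫ V.hom = (Over.mk (x.left ≫ (U ⊗ T).hom)).hom := by
    rw [Category.id_comp]
    exact (Over.w x).symm
  have ha : (Over.homMk (𝟙 V.left) hw : V ⟶ Over.mk (x.left ≫ (U ⊗ T).hom)) ≫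
      (Over.homMk x.left rfl : Over.mk (x.left ≫ (U ⊗ T).hom) ⟶ U ⊗ T) = x :=
    Over.OverMorphism.ext (Category.id_comp _)
  have hb : (Over.homMk (𝟙 V.left) hw' : Over.mk (x.left ≫ (U ⊗ T).hom) ⟶ V) ≫ x =
      (Over.homMk x.left rfl : Over.mk (x.left ≫ (U ⊗ T).hom) ⟶ U ⊗ T) :=
    Over.OverMorphism.ext (Category.id_comp _)
  constructor
  · intro h
    have h' := goodP_comp K s t T σ
      (Over.homMk (𝟙 V.left) hw' : Over.mk (x.left ≫ (U ⊗ T).hom) ⟶ V) h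
    rw [← Category.assoc, ← Category.assoc _ x (snd U T), hb] at h'
    exact h'
  · intro h
    have h' := goodP_comp K s t T σ
      (Over.homMk (𝟙 V.left) hw : V ⟶ Over.mk (x.left ≫ (U ⊗ T).hom)) h
    rw [← Category.assoc, ← Category.assoc _ _ (snd U T), ha] at h'
    exact h'

omit hst [(QuotSh.J K S).Subcanonical] [K.IsStableUnderComposition] [K.IsStableUnderBaseChange]
  [K.HasPullbacks] [K.HasIsos] in
theorem Gs_comp ⦃V' V : Scheme.{u}⦄ (h : V' ⟶ V) (x : V ⟶ (U ⊗ T).left)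
    (hx : Gs K s t T σ x) : Gs K s t T σ (h ≫ x) := by
  have h1 := goodP_comp K s t T σ
    (Over.homMk h (Category.assoc _ _ _).symm :
      Over.mk ((h ≫ x) ≫ (U ⊗ T).hom) ⟶ Over.mk (x ≫ (U ⊗ T).hom)) hx
  rw [← Category.assoc, ← Category.assoc _ _ (snd U T)] at h1
  exact (goodP_iff_Gs K s t T σ ((Over.homMk h (Category.assoc _ _ _).symm :
      Over.mk ((h ≫ x) ≫ (U ⊗ T).hom) ⟶ Over.mk (x ≫ (U ⊗ T).hom)) ≫
    (Over.homMk x rfl : Over.mk (x ≫ (U ⊗ T).hom) ⟶ U ⊗ T))).1 h1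

omit hst [(QuotSh.J K S).Subcanonical] [K.IsStableUnderComposition] [K.IsStableUnderBaseChange]
  [K.HasPullbacks] [K.HasIsos] in
theorem Gs_local ⦃V : Scheme.{u}⦄ (x : V ⟶ (U ⊗ T).left) (R' : Presieve V)
    (hR' : R' ∈ K.coverings V)
    (h : ∀ ⦃W : Scheme.{u}⦄ (d : W ⟶ V), R' d → Gs K s t T σ (d ≫ x)) : Gs K s t T σ x := by
  show GoodP K s t T σ
    ((Over.homMk x rfl : Over.mk (x ≫ (U ⊗ T).hom) ⟶ U ⊗ T) ≫ fst U T)
    ((Over.homMk x rfl : Over.mk (x ≫ (U ⊗ T).hom) ⟶ U ⊗ T) ≫ snd U T)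
  refine goodP_of_sieve K s t T σ _ _
    ((Sieve.overEquiv (Over.mk (x ≫ (U ⊗ T).hom))).symm (Sieve.generate R')) ?_ ?_
  · exact (K.toGrothendieck).overEquiv_symm_mem_over (Over.mk (x ≫ (U ⊗ T).hom)) _
      (Precoverage.generate_mem_toGrothendieck hR')
  · intro V'' g hg
    rw [Sieve.overEquiv_symm_iff] at hg
    obtain ⟨W, a, d, hd, had⟩ := hg
    have h2 : Gs K s t T σ (g.left ≫ x) := by
      rw [← had, Category.assoc]
      exact Gs_comp K s t T σ a _ (h d hd)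
    have h3 := (goodP_iff_Gs K s t T σ
      (g ≫ (Over.homMk x rfl : Over.mk (x ≫ (U ⊗ T).hom) ⟶ U ⊗ T))).2 h2
    rw [Category.assoc, Category.assoc] at h3
    exact h3

omit [K.IsStableUnderComposition] [K.IsStableUnderBaseChange] [K.HasPullbacks] [K.HasIsos] in
theorem local_piece {Tl : Over S} (gl : Tl ⟶ T) (u : Tl ⟶ U) (hu : GoodP K s t T σ u gl)
    {Pl : Over S} (pl : Pl ⟶ U ⊗ T) (ql : Pl ⟶ Tl) (hcond : pl ≫ snd U T = ql ≫ gl)
    {Zl : Over S} (jl : Zl ⟶ Pl) (kl : Zl ⟶ R)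
    (hZl : IsPullback jl kl (lift (pl ≫ fst U T) (ql ≫ u)) (lift t s))
    ⦃V : Scheme.{u}⦄ (h : V ⟶ Pl.left) :
    (∃ z : V ⟶ Zl.left, z ≫ jl.left = h) ↔ Gs K s t T σ (h ≫ pl.left) := by
  have w1 : jl ≫ pl ≫ fst U T = kl ≫ t := by
    have e := congrArg (fun k => k ≫ fst U U) hZl.w
    simpa only [Category.assoc, lift_fst] using e
  have w2 : jl ≫ ql ≫ u = kl ≫ s := by
    have e := congrArg (fun k => k ≫ snd U U) hZl.w
    simpa only [Category.assoc, lift_snd] using e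
  set Vo : Over S := Over.mk (h ≫ Pl.hom) with hVo
  set ho : Vo ⟶ Pl := Over.homMk h rfl with hho
  have key : GoodP K s t T σ ((ho ≫ pl) ≫ fst U T) ((ho ≫ pl) ≫ snd U T) ↔
      Gs K s t T σ (h ≫ pl.left) :=
    goodP_iff_Gs K s t T σ (ho ≫ pl)
  have hu' : GoodP K s t T σ ((ho ≫ ql) ≫ u) ((ho ≫ pl) ≫ snd U T) := by
    have h0 := goodP_comp K s t T σ (ho ≫ ql) hu
    have e : (ho ≫ ql) ≫ gl = (ho ≫ pl) ≫ snd U T := by
      rw [Category.assoc, ← hcond, Category.assoc]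
    rw [e] at h0
    exact h0
  rw [← key, goodP_iff_ptRel K s t T σ hu']
  constructor
  · rintro ⟨z, hz⟩
    have hzw : z ≫ Zl.hom = Vo.hom := by
      show z ≫ Zl.hom = h ≫ Pl.hom
      rw [← Over.w jl, ← Category.assoc, hz]
    obtain ⟨zo, hzo⟩ : ∃ zo : Vo ⟶ Zl, zo ≫ jl = ho :=
      ⟨Over.homMk z hzw, Over.OverMorphism.ext hz⟩
    refine ⟨zo ≫ kl, ?_, ?_⟩
    · calc (zo ≫ kl) ≫ s = zo ≫ (kl ≫ s) := Category.assoc _ _ _
        _ = zo ≫ (jl ≫ ql ≫ u) := by rw [w2]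
        _ = (zo ≫ jl) ≫ ql ≫ u := (Category.assoc _ _ _).symm
        _ = ho ≫ ql ≫ u := by rw [hzo]
        _ = (ho ≫ ql) ≫ u := (Category.assoc _ _ _).symm
    · calc (zo ≫ kl) ≫ t = zo ≫ (kl ≫ t) := Category.assoc _ _ _
        _ = zo ≫ (jl ≫ pl ≫ fst U T) := by rw [w1]
        _ = (zo ≫ jl) ≫ pl ≫ fst U T := (Category.assoc _ _ _).symm
        _ = ho ≫ pl ≫ fst U T := by rw [hzo]
        _ = (ho ≫ pl) ≫ fst U T := (Category.assoc _ _ _).symm
  · rintro ⟨r, hr1, hr2⟩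
    have hw : ho ≫ lift (pl ≫ fst U T) (ql ≫ u) = r ≫ lift t s := by
      apply CartesianMonoidalCategory.hom_ext
      · rw [Category.assoc, lift_fst, Category.assoc, lift_fst, hr2, Category.assoc]
      · rw [Category.assoc, lift_snd, Category.assoc, lift_snd, hr1, Category.assoc]
    exact ⟨(hZl.lift ho r hw).left, congrArg (fun k => k.left) (hZl.lift_fst ho r hw)⟩

omit [K.IsStableUnderComposition] [K.IsStableUnderBaseChange] [K.HasPullbacks] [K.HasIsos] in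
theorem exists_local_piece (Pm : MorphismProperty Scheme.{u}) [Pm.IsStableUnderBaseChange]
    (hc : Pm (lift t s).left) {Tl : Over S} (gl : Tl ⟶ T) (u : Tl ⟶ U)
    (hu : GoodP K s t T σ u gl) {Pl : Over S} (pl : Pl ⟶ U ⊗ T) (ql : Pl ⟶ Tl)
    (hcond : pl ≫ snd U T = ql ≫ gl) :
    ∃ (Zl : Scheme.{u}) (jl : Zl ⟶ Pl.left), Pm jl ∧
      ∀ ⦃V : Scheme.{u}⦄ (h : V ⟶ Pl.left),
        (∃ z : V ⟶ Zl, z ≫ jl = h) ↔ Gs K s t T σ (h ≫ pl.left) := by
  have hZl := IsPullback.of_hasPullback (lift (pl ≫ fst U T) (ql ≫ u)) (lift t s)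
  refine ⟨_, (pullback.fst (lift (pl ≫ fst U T) (ql ≫ u)) (lift t s)).left, ?_, ?_⟩
  · exact MorphismProperty.of_isPullback (hZl.map (Over.forget S)).flip hc
  · exact local_piece K s t T σ gl u hu pl ql hcond _ _ hZl

/-- the subfunctor of `U ×_S T` defined by `σ` is representable by an immersion of the same type as `(t, s)` -/
theorem exists_represents (Pm : MorphismProperty Scheme.{u}) [Pm.IsStableUnderBaseChange]
    (hD : DescPrinciple K Pm) (hc : Pm (lift t s).left) :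
    ∃ (Z : Over S) (i : Z ⟶ U ⊗ T), Pm i.left ∧ Represents K s t T σ i := by
  obtain ⟨R₁, hR₁, hlift⟩ := exists_local_lift K s t T σ
  obtain ⟨ι, Y, c, hcov, hmem⟩ := exists_cover_of_mem K R₁ hR₁
  choose u hu using fun l => hlift _ (hmem l)
  have hpb1 : ∀ l, IsPullback
      (pullback.fst (snd U T) (Over.homMk (c l) rfl : Over.mk (c l ≫ T.hom) ⟶ T)).left
      (pullback.snd (snd U T) (Over.homMk (c l) rfl : Over.mk (c l ≫ T.hom) ⟶ T)).left
      (snd U T).left (c l) :=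
    fun l => (IsPullback.of_hasPullback (snd U T)
      (Over.homMk (c l) rfl : Over.mk (c l ≫ T.hom) ⟶ T)).map (Over.forget S)
  have hcovX : Presieve.ofArrows
      (fun l => (pullback (snd U T) (Over.homMk (c l) rfl : Over.mk (c l ≫ T.hom) ⟶ T)).left)
      (fun l => (pullback.fst (snd U T)
        (Over.homMk (c l) rfl : Over.mk (c l ≫ T.hom) ⟶ T)).left) ∈
      K.coverings (U ⊗ T).left :=
    Precoverage.mem_coverings_of_isPullback c hcov (snd U T).left _ _ hpb1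
  choose Zl jl hjP hj using fun l => exists_local_piece K s t T σ Pm hc
    (Over.homMk (c l) rfl : Over.mk (c l ≫ T.hom) ⟶ T) (u l) (hu l)
    (pullback.fst (snd U T) (Over.homMk (c l) rfl : Over.mk (c l ≫ T.hom) ⟶ T))
    (pullback.snd (snd U T) (Over.homMk (c l) rfl : Over.mk (c l ≫ T.hom) ⟶ T))
    pullback.condition
  obtain ⟨Z₀, i₀, hi₀, hrep₀⟩ := hD (Gs K s t T σ) (Gs_comp K s t T σ) (Gs_local K s t T σ)
    _ hcovX jl hj hjP
  refine ⟨Over.mk (i₀ ≫ (U ⊗ T).hom), Over.homMk i₀ rfl, hi₀, fun V x => ?_⟩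
  rw [goodP_iff_Gs, ← hrep₀]
  constructor
  · rintro ⟨z, hz⟩
    exact ⟨z.left, congrArg (fun k => k.left) hz⟩
  · rintro ⟨z₀, hz₀⟩
    have hw : z₀ ≫ (Over.mk (i₀ ≫ (U ⊗ T).hom)).hom = V.hom := by
      show z₀ ≫ i₀ ≫ (U ⊗ T).hom = V.hom
      rw [← Category.assoc, hz₀]
      exact Over.w x
    exact ⟨Over.homMk z₀ hw, Over.OverMorphism.ext hz₀⟩

end Sections

/-! ### the main statement for a class of immersions -/

theorem main_generic (Pm : MorphismProperty Scheme.{u}) [Pm.IsStableUnderBaseChange]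
    (hD : DescPrinciple Scheme.fpqcPrecoverage.{u} Pm)
    (hmonoP : ∀ ⦃X Y : Scheme.{u}⦄ (f : X ⟶ Y), Pm f → Mono f)
    {S : Scheme.{u}} {R U : Over S} (s t : R ⟶ U)
    [IsEquivalenceRelation s t]
    [Flat s.left] [Surjective s.left] [QuasiCompact s.left]
    (hc : Pm (lift t s).left)
    (T : Over S) (σ : QuotSh.rep Scheme.fpqcPrecoverage T ⟶ QuotSh.quot Scheme.fpqcPrecoverage s t) :
    (∃ (Z : Over S) (i : Z ⟶ U ⊗ T), Pm i.left ∧
      (∀ (T' : Over S) (r : T' ⟶ R ⊗ T),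
        (∃ z : T' ⟶ Z, z ≫ i = r ≫ (s ▷ T)) ↔ (∃ z : T' ⟶ Z, z ≫ i = r ≫ (t ▷ T))) ∧
      Flat (i ≫ snd U T).left ∧ Surjective (i ≫ snd U T).left ∧
      QuasiCompact (i ≫ snd U T).left ∧
      (∀ (T' : Over S) (z₁ z₂ : T' ⟶ Z), z₁ ≫ i ≫ snd U T = z₂ ≫ i ≫ snd U T →
        ∃ r : T' ⟶ R, r ≫ s = z₁ ≫ i ≫ fst U T ∧ r ≫ t = z₂ ≫ i ≫ fst U T) ∧
      QuotSh.repMap Scheme.fpqcPrecoverage (i ≫ fst U T) ≫ QuotSh.quotπ Scheme.fpqcPrecoverage s t =
        QuotSh.repMap Scheme.fpqcPrecoverage (i ≫ snd U T) ≫ σ) ∧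
    (∀ (Z Z' : Over S) (i : Z ⟶ U ⊗ T) (i' : Z' ⟶ U ⊗ T),
      Pm i.left → Pm i'.left →
      (∀ (T' : Over S) (r : T' ⟶ R ⊗ T),
        (∃ z : T' ⟶ Z, z ≫ i = r ≫ (s ▷ T)) ↔ (∃ z : T' ⟶ Z, z ≫ i = r ≫ (t ▷ T))) →
      (∀ (T' : Over S) (r : T' ⟶ R ⊗ T),
        (∃ z : T' ⟶ Z', z ≫ i' = r ≫ (s ▷ T)) ↔ (∃ z : T' ⟶ Z', z ≫ i' = r ≫ (t ▷ T))) →
      Flat (i ≫ snd U T).left → Surjective (i ≫ snd U T).left →
      QuasiCompact (i ≫ snd U T).left →
      Flat (i' ≫ snd U T).left → Surjective (i' ≫ snd U T).left →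
      QuasiCompact (i' ≫ snd U T).left →
      (∀ (T' : Over S) (z₁ z₂ : T' ⟶ Z), z₁ ≫ i ≫ snd U T = z₂ ≫ i ≫ snd U T →
        ∃ r : T' ⟶ R, r ≫ s = z₁ ≫ i ≫ fst U T ∧ r ≫ t = z₂ ≫ i ≫ fst U T) →
      (∀ (T' : Over S) (z₁ z₂ : T' ⟶ Z'), z₁ ≫ i' ≫ snd U T = z₂ ≫ i' ≫ snd U T →
        ∃ r : T' ⟶ R, r ≫ s = z₁ ≫ i' ≫ fst U T ∧ r ≫ t = z₂ ≫ i' ≫ fst U T) →
      QuotSh.repMap Scheme.fpqcPrecoverage (i ≫ fst U T) ≫ QuotSh.quotπ Scheme.fpqcPrecoverage s t =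
        QuotSh.repMap Scheme.fpqcPrecoverage (i ≫ snd U T) ≫ σ →
      QuotSh.repMap Scheme.fpqcPrecoverage (i' ≫ fst U T) ≫ QuotSh.quotπ Scheme.fpqcPrecoverage s t =
        QuotSh.repMap Scheme.fpqcPrecoverage (i' ≫ snd U T) ≫ σ →
      ∃ e : Z ≅ Z', e.hom ≫ i' = i) := by
  haveI := fpqc_hasPullbacks.{u}
  constructor
  · obtain ⟨Z, i, hi, hrep⟩ := exists_represents Scheme.fpqcPrecoverage s t T σ Pm hD hc
    haveI : Mono i.left := hmonoP _ hi
    haveI : Mono i := (Over.forget S).mono_of_mono_map (show Mono ((Over.forget S).map i) from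
      ‹Mono i.left›)
    refine ⟨Z, i, hi, stable_of_represents Scheme.fpqcPrecoverage s t T σ hrep, ?_, ?_, ?_,
      related_of_represents Scheme.fpqcPrecoverage s t T σ hrep, ?_⟩
    · exact prop_of_represents Scheme.fpqcPrecoverage s t T σ le_rfl @Flat inferInstance hrep
    · exact prop_of_represents Scheme.fpqcPrecoverage s t T σ le_rfl @Surjective inferInstance hrep
    · exact prop_of_represents Scheme.fpqcPrecoverage s t T σ le_rfl @QuasiCompact inferInstance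
        hrep
    · exact (goodP_self_iff Scheme.fpqcPrecoverage s t T σ i).1
        ((hrep i).1 ⟨𝟙 Z, Category.id_comp i⟩)
  · intro Z Z' i i' hi hi' hst1 hst2 hf1 hs1 hq1 hf2 hs2 hq2 _ _ heq1 heq2
    haveI : Mono i.left := hmonoP _ hi
    haveI : Mono i'.left := hmonoP _ hi'
    haveI : Mono i := (Over.forget S).mono_of_mono_map (show Mono ((Over.forget S).map i) from
      ‹Mono i.left›)
    haveI : Mono i' := (Over.forget S).mono_of_mono_map (show Mono ((Over.forget S).map i') from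
      ‹Mono i'.left›)
    haveI := hf1
    haveI := hs1
    haveI := hq1
    haveI := hf2
    haveI := hs2
    haveI := hq2
    have hG := (goodP_self_iff Scheme.fpqcPrecoverage s t T σ i).2 heq1
    have hG' := (goodP_self_iff Scheme.fpqcPrecoverage s t T σ i').2 heq2
    have hcov1 : Presieve.ofArrows (fun _ : PUnit.{1} => Z.left)
        (fun _ => (i ≫ snd U T).left) ∈ Scheme.fpqcPrecoverage.coverings T.left := by
      rw [Presieve.ofArrows_pUnit]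
      exact Scheme.Hom.singleton_mem_fpqcPrecoverage (i ≫ snd U T).left
    have hcov2 : Presieve.ofArrows (fun _ : PUnit.{1} => Z'.left)
        (fun _ => (i' ≫ snd U T).left) ∈ Scheme.fpqcPrecoverage.coverings T.left := by
      rw [Presieve.ofArrows_pUnit]
      exact Scheme.Hom.singleton_mem_fpqcPrecoverage (i' ≫ snd U T).left
    obtain ⟨f, hf⟩ := factor_of_props Scheme.fpqcPrecoverage s t T σ le_rfl i i'
      (fun T' r => (hst2 T' r).1) hcov2 hG hG'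
    obtain ⟨f', hf'⟩ := factor_of_props Scheme.fpqcPrecoverage s t T σ le_rfl i' i
      (fun T' r => (hst1 T' r).1) hcov1 hG' hG
    refine ⟨⟨f, f', ?_, ?_⟩, hf⟩
    · rw [← cancel_mono i, Category.assoc, hf', hf, Category.id_comp]
    · rw [← cancel_mono i', Category.assoc, hf, hf', Category.id_comp]

theorem main6049 {S : Scheme.{u}} {R U : Over S} (s t : R ⟶ U)
    [IsEquivalenceRelation s t]
    [Flat s.left] [Surjective s.left] [QuasiCompact s.left]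
    (hc : IsOpenImmersion (lift t s).left)
    (T : Over S) (σ : QuotSh.rep Scheme.fpqcPrecoverage T ⟶ QuotSh.quot Scheme.fpqcPrecoverage s t) :
    (∃ (Z : Over S) (i : Z ⟶ U ⊗ T), IsOpenImmersion i.left ∧
      (∀ (T' : Over S) (r : T' ⟶ R ⊗ T),
        (∃ z : T' ⟶ Z, z ≫ i = r ≫ (s ▷ T)) ↔ (∃ z : T' ⟶ Z, z ≫ i = r ≫ (t ▷ T))) ∧
      Flat (i ≫ snd U T).left ∧ Surjective (i ≫ snd U T).left ∧
      QuasiCompact (i ≫ snd U T).left ∧
      (∀ (T' : Over S) (z₁ z₂ : T' ⟶ Z), z₁ ≫ i ≫ snd U T = z₂ ≫ i ≫ snd U T →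
        ∃ r : T' ⟶ R, r ≫ s = z₁ ≫ i ≫ fst U T ∧ r ≫ t = z₂ ≫ i ≫ fst U T) ∧
      QuotSh.repMap Scheme.fpqcPrecoverage (i ≫ fst U T) ≫ QuotSh.quotπ Scheme.fpqcPrecoverage s t =
        QuotSh.repMap Scheme.fpqcPrecoverage (i ≫ snd U T) ≫ σ) ∧
    (∀ (Z Z' : Over S) (i : Z ⟶ U ⊗ T) (i' : Z' ⟶ U ⊗ T),
      IsOpenImmersion i.left → IsOpenImmersion i'.left →
      (∀ (T' : Over S) (r : T' ⟶ R ⊗ T),
        (∃ z : T' ⟶ Z, z ≫ i = r ≫ (s ▷ T)) ↔ (∃ z : T' ⟶ Z, z ≫ i = r ≫ (t ▷ T))) →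
      (∀ (T' : Over S) (r : T' ⟶ R ⊗ T),
        (∃ z : T' ⟶ Z', z ≫ i' = r ≫ (s ▷ T)) ↔ (∃ z : T' ⟶ Z', z ≫ i' = r ≫ (t ▷ T))) →
      Flat (i ≫ snd U T).left → Surjective (i ≫ snd U T).left →
      QuasiCompact (i ≫ snd U T).left →
      Flat (i' ≫ snd U T).left → Surjective (i' ≫ snd U T).left →
      QuasiCompact (i' ≫ snd U T).left →
      (∀ (T' : Over S) (z₁ z₂ : T' ⟶ Z), z₁ ≫ i ≫ snd U T = z₂ ≫ i ≫ snd U T →
        ∃ r : T' ⟶ R, r ≫ s = z₁ ≫ i ≫ fst U T ∧ r ≫ t = z₂ ≫ i ≫ fst U T) →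
      (∀ (T' : Over S) (z₁ z₂ : T' ⟶ Z'), z₁ ≫ i' ≫ snd U T = z₂ ≫ i' ≫ snd U T →
        ∃ r : T' ⟶ R, r ≫ s = z₁ ≫ i' ≫ fst U T ∧ r ≫ t = z₂ ≫ i' ≫ fst U T) →
      QuotSh.repMap Scheme.fpqcPrecoverage (i ≫ fst U T) ≫ QuotSh.quotπ Scheme.fpqcPrecoverage s t =
        QuotSh.repMap Scheme.fpqcPrecoverage (i ≫ snd U T) ≫ σ →
      QuotSh.repMap Scheme.fpqcPrecoverage (i' ≫ fst U T) ≫ QuotSh.quotπ Scheme.fpqcPrecoverage s t =
        QuotSh.repMap Scheme.fpqcPrecoverage (i' ≫ snd U T) ≫ σ →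
      ∃ e : Z ≅ Z', e.hom ≫ i' = i) :=
  main_generic @IsOpenImmersion (descPrinciple_open Scheme.fpqcPrecoverage le_rfl)
    (fun _ _ f hf => by haveI : IsOpenImmersion f := hf; infer_instance) s t hc T σ

theorem main6042 {S : Scheme.{u}} {R U : Over S} (s t : R ⟶ U)
    [IsEquivalenceRelation s t]
    [Flat s.left] [Surjective s.left] [QuasiCompact s.left]
    (hc : IsClosedImmersion (lift t s).left)
    (T : Over S) (σ : QuotSh.rep Scheme.fpqcPrecoverage T ⟶ QuotSh.quot Scheme.fpqcPrecoverage s t) :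
    (∃ (Z : Over S) (i : Z ⟶ U ⊗ T), IsClosedImmersion i.left ∧
      (∀ (T' : Over S) (r : T' ⟶ R ⊗ T),
        (∃ z : T' ⟶ Z, z ≫ i = r ≫ (s ▷ T)) ↔ (∃ z : T' ⟶ Z, z ≫ i = r ≫ (t ▷ T))) ∧
      Flat (i ≫ snd U T).left ∧ Surjective (i ≫ snd U T).left ∧
      QuasiCompact (i ≫ snd U T).left ∧
      (∀ (T' : Over S) (z₁ z₂ : T' ⟶ Z), z₁ ≫ i ≫ snd U T = z₂ ≫ i ≫ snd U T →
        ∃ r : T' ⟶ R, r ≫ s = z₁ ≫ i ≫ fst U T ∧ r ≫ t = z₂ ≫ i ≫ fst U T) ∧
      QuotSh.repMap Scheme.fpqcPrecoverage (i ≫ fst U T) ≫ QuotSh.quotπ Scheme.fpqcPrecoverage s t =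
        QuotSh.repMap Scheme.fpqcPrecoverage (i ≫ snd U T) ≫ σ) ∧
    (∀ (Z Z' : Over S) (i : Z ⟶ U ⊗ T) (i' : Z' ⟶ U ⊗ T),
      IsClosedImmersion i.left → IsClosedImmersion i'.left →
      (∀ (T' : Over S) (r : T' ⟶ R ⊗ T),
        (∃ z : T' ⟶ Z, z ≫ i = r ≫ (s ▷ T)) ↔ (∃ z : T' ⟶ Z, z ≫ i = r ≫ (t ▷ T))) →
      (∀ (T' : Over S) (r : T' ⟶ R ⊗ T),
        (∃ z : T' ⟶ Z', z ≫ i' = r ≫ (s ▷ T)) ↔ (∃ z : T' ⟶ Z', z ≫ i' = r ≫ (t ▷ T))) →
      Flat (i ≫ snd U T).left → Surjective (i ≫ snd U T).left →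
      QuasiCompact (i ≫ snd U T).left →
      Flat (i' ≫ snd U T).left → Surjective (i' ≫ snd U T).left →
      QuasiCompact (i' ≫ snd U T).left →
      (∀ (T' : Over S) (z₁ z₂ : T' ⟶ Z), z₁ ≫ i ≫ snd U T = z₂ ≫ i ≫ snd U T →
        ∃ r : T' ⟶ R, r ≫ s = z₁ ≫ i ≫ fst U T ∧ r ≫ t = z₂ ≫ i ≫ fst U T) →
      (∀ (T' : Over S) (z₁ z₂ : T' ⟶ Z'), z₁ ≫ i' ≫ snd U T = z₂ ≫ i' ≫ snd U T →
        ∃ r : T' ⟶ R, r ≫ s = z₁ ≫ i' ≫ fst U T ∧ r ≫ t = z₂ ≫ i' ≫ fst U T) →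
      QuotSh.repMap Scheme.fpqcPrecoverage (i ≫ fst U T) ≫ QuotSh.quotπ Scheme.fpqcPrecoverage s t =
        QuotSh.repMap Scheme.fpqcPrecoverage (i ≫ snd U T) ≫ σ →
      QuotSh.repMap Scheme.fpqcPrecoverage (i' ≫ fst U T) ≫ QuotSh.quotπ Scheme.fpqcPrecoverage s t =
        QuotSh.repMap Scheme.fpqcPrecoverage (i' ≫ snd U T) ≫ σ →
      ∃ e : Z ≅ Z', e.hom ≫ i' = i) :=
  main_generic @IsClosedImmersion (descPrinciple_closed Scheme.fpqcPrecoverage le_rfl)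
    (fun _ _ f hf => by haveI : IsClosedImmersion f := hf; infer_instance) s t hc T σ

end

end Groth.Agent.Lib.Helper29.QuotSecB
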