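import Groth.Agent.Lib.Helper29.QuotSecB

/-!
# Helper library (helper29): the fppf quotient sheaf of an equivalence relation with closed graph is an fpqc sheaf

* `exists_hom_of_section`: sections of a sheaf over `T` are morphisms from `h_T`.
* `main6043`: for an fppf equivalence relation with closed graph, the canonical map from the fppf quotient sheaf to
  the fpqc quotient sheaf is bijective on sections.
-/

set_option autoImplicit false
set_option maxHeartbeats 1600000
universe u
open CategoryTheory CategoryTheory.Limits AlgebraicGeometry Opposite MonoidalCategory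
  CartesianMonoidalCategory

namespace Groth.Agent.Lib.Helper29.QuotSecC

open Groth.Agent.Lib.Helper29.QuotUnpack Groth.Agent.Lib.Helper29.QuotMain
  Groth.Agent.Lib.Helper29.QuotSecA Groth.Agent.Lib.Helper29.QuotSecB Groth.Agent.Lib.Helper29

noncomputable section

section

variable (K : Precoverage Scheme.{u}) {S : Scheme.{u}}

theorem exists_hom_of_section {T : Over S} (F : QuotSh.Sh K S) (y : F.obj.obj (op T)) :
    ∃ σ : QuotSh.rep K T ⟶ F, σ.hom.app (op T) (sec K (𝟙 T)) = y := by
  let η : P T ⟶ F.obj := (uliftYonedaEquiv.{u + 1} (X := T) (F := F.obj)).symm y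
  have h1 : toSheafify (QuotSh.J K S) (P T) ≫ sheafifyLift (QuotSh.J K S) η F.property = η :=
    toSheafify_sheafifyLift _ _ _
  refine ⟨ObjectProperty.homMk (sheafifyLift (QuotSh.J K S) η F.property), ?_⟩
  have h2 := congrArg (fun φ : P T ⟶ F.obj => φ.app (op T) (ULift.up (𝟙 T))) h1
  exact h2.trans ((uliftYonedaEquiv.{u + 1} (X := T) (F := F.obj)).apply_symm_apply y)

theorem app_sec_of_section {T V : Over S} {F : QuotSh.Sh K S} (σ : QuotSh.rep K T ⟶ F)
    (y : F.obj.obj (op T)) (hσ : σ.hom.app (op T) (sec K (𝟙 T)) = y) (g : V ⟶ T) :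
    σ.hom.app (op V) (sec K g) = F.obj.map g.op y := by
  have e := app_sec_comp K σ g (𝟙 T)
  rw [Category.comp_id, hσ] at e
  exact e

end

theorem main6043 {S : Scheme.{u}} {R U : Over S} (s t : R ⟶ U)
    [IsEquivalenceRelation s t]
    [Flat s.left] [Surjective s.left] [LocallyOfFinitePresentation s.left]
    (hc : IsClosedImmersion (lift t s).left) :
    Presheaf.IsSheaf (QuotSh.J Scheme.fpqcPrecoverage S)
      (QuotSh.quot Scheme.fppfPrecoverage s t).obj := by
  haveI := fpqc_hasPullbacks.{u}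
  haveI := fppf_hasPullbacks.{u}
  haveI := fppf_hasIsos.{u}
  have hle : QuotSh.J Scheme.fppfPrecoverage S ≤ QuotSh.J Scheme.fpqcPrecoverage S := by
    intro Y R' hR'
    exact Scheme.fppfTopology_le_fpqcTopology _ hR'
  have hQ'' : Presheaf.IsSheaf (QuotSh.J Scheme.fppfPrecoverage S)
      (QuotSh.quot Scheme.fpqcPrecoverage s t).obj :=
    (isSheaf_iff_isSheaf_of_type _ _).2 (Presieve.isSheaf_of_le _ hle
      ((isSheaf_iff_isSheaf_of_type _ _).1 (QuotSh.quot Scheme.fpqcPrecoverage s t).property))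
  let Q'' : QuotSh.Sh Scheme.fppfPrecoverage S :=
    ⟨(QuotSh.quot Scheme.fpqcPrecoverage s t).obj, hQ''⟩
  obtain ⟨ψ, hψ⟩ := exists_hom_of_section Scheme.fppfPrecoverage Q''
    ((QuotSh.quotπ Scheme.fpqcPrecoverage s t).hom.app (op U)
      (sec Scheme.fpqcPrecoverage (𝟙 U)))
  have hψa : ∀ {V : Over S} (a : V ⟶ U), ψ.hom.app (op V) (sec Scheme.fppfPrecoverage a) =
      (QuotSh.quotπ Scheme.fpqcPrecoverage s t).hom.app (op V)
        (sec Scheme.fpqcPrecoverage a) := by
    intro V a
    have e1 := app_sec_of_section Scheme.fppfPrecoverage ψ _ hψ a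
    have e2 := app_sec_comp Scheme.fpqcPrecoverage (QuotSh.quotπ Scheme.fpqcPrecoverage s t) a
      (𝟙 U)
    rw [Category.comp_id] at e2
    exact e1.trans e2.symm
  have hw : QuotSh.repMap Scheme.fppfPrecoverage s ≫ ψ =
      QuotSh.repMap Scheme.fppfPrecoverage t ≫ ψ := by
    apply rep_hom_ext Scheme.fppfPrecoverage
    show ψ.hom.app (op R) ((QuotSh.repMap Scheme.fppfPrecoverage s).hom.app (op R)
        (sec Scheme.fppfPrecoverage (𝟙 R))) =
      ψ.hom.app (op R) ((QuotSh.repMap Scheme.fppfPrecoverage t).hom.app (op R)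
        (sec Scheme.fppfPrecoverage (𝟙 R)))
    rw [sec_repMap, sec_repMap, hψa, hψa]
    exact quotπ_eq_of_ptRel Scheme.fpqcPrecoverage s t ⟨𝟙 R, rfl, rfl⟩
  let φ : QuotSh.quot Scheme.fppfPrecoverage s t ⟶ Q'' := coequalizer.desc ψ hw
  have hφ : QuotSh.quotπ Scheme.fppfPrecoverage s t ≫ φ = ψ := coequalizer.π_desc ψ hw
  have hφa : ∀ {V : Over S} (a : V ⟶ U), φ.hom.app (op V)
      ((QuotSh.quotπ Scheme.fppfPrecoverage s t).hom.app (op V)
        (sec Scheme.fppfPrecoverage a)) =
      (QuotSh.quotπ Scheme.fpqcPrecoverage s t).hom.app (op V)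
        (sec Scheme.fpqcPrecoverage a) := by
    intro V a
    have e := congrArg (fun χ : QuotSh.rep Scheme.fppfPrecoverage U ⟶ Q'' =>
      χ.hom.app (op V) (sec Scheme.fppfPrecoverage a)) hφ
    exact e.trans (hψa a)
  have hinj : ∀ V : Over S, Function.Injective (φ.hom.app (op V)) := by
    intro V y₁ y₂ hy
    obtain ⟨σ₁, hσ₁⟩ := exists_hom_of_section Scheme.fppfPrecoverage
      (QuotSh.quot Scheme.fppfPrecoverage s t) y₁
    obtain ⟨σ₂, hσ₂⟩ := exists_hom_of_section Scheme.fppfPrecoverage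
      (QuotSh.quot Scheme.fppfPrecoverage s t) y₂
    obtain ⟨R₁, hR₁, hl₁⟩ := exists_local_lift Scheme.fppfPrecoverage s t V σ₁
    obtain ⟨R₂, hR₂, hl₂⟩ := exists_local_lift Scheme.fppfPrecoverage s t V σ₂
    have hsh : Presieve.IsSheaf (QuotSh.J Scheme.fppfPrecoverage S)
        (QuotSh.quot Scheme.fppfPrecoverage s t).obj :=
      (isSheaf_iff_isSheaf_of_type _ _).1 (QuotSh.quot Scheme.fppfPrecoverage s t).property
    apply (hsh (R₁ ⊓ R₂)
      ((QuotSh.J Scheme.fppfPrecoverage S).intersection_covering hR₁ hR₂)).isSeparatedFor.ext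
    intro V' g hg
    obtain ⟨a₁, h₁⟩ := hl₁ g hg.1
    obtain ⟨a₂, h₂⟩ := hl₂ g hg.2
    have e₁ : (QuotSh.quotπ Scheme.fppfPrecoverage s t).hom.app (op V')
        (sec Scheme.fppfPrecoverage a₁) =
        (QuotSh.quot Scheme.fppfPrecoverage s t).obj.map g.op y₁ :=
      h₁.trans (app_sec_of_section Scheme.fppfPrecoverage σ₁ y₁ hσ₁ g)
    have e₂ : (QuotSh.quotπ Scheme.fppfPrecoverage s t).hom.app (op V')
        (sec Scheme.fppfPrecoverage a₂) =
        (QuotSh.quot Scheme.fppfPrecoverage s t).obj.map g.op y₂ :=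
      h₂.trans (app_sec_of_section Scheme.fppfPrecoverage σ₂ y₂ hσ₂ g)
    have n₁ := NatTrans.naturality_apply φ.hom g.op y₁
    have n₂ := NatTrans.naturality_apply φ.hom g.op y₂
    have e₃ : (QuotSh.quotπ Scheme.fpqcPrecoverage s t).hom.app (op V')
        (sec Scheme.fpqcPrecoverage a₁) =
        (QuotSh.quotπ Scheme.fpqcPrecoverage s t).hom.app (op V')
        (sec Scheme.fpqcPrecoverage a₂) :=
      (hφa a₁).symm.trans ((congrArg (fun z => φ.hom.app (op V') z) e₁).trans (n₁.trans
        ((congrArg (fun z => Q''.obj.map g.op z) hy).trans (n₂.symm.trans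
          ((congrArg (fun z => φ.hom.app (op V') z) e₂.symm).trans (hφa a₂))))))
    have hrel := ptRel_of_quotπ_eq Scheme.fpqcPrecoverage s t a₁ a₂ e₃
    rw [← e₁, ← e₂]
    exact quotπ_eq_of_ptRel Scheme.fppfPrecoverage s t hrel
  have hsurj : ∀ V : Over S, Function.Surjective (φ.hom.app (op V)) := by
    intro V y'
    obtain ⟨σ', hσ'⟩ := exists_hom_of_section Scheme.fpqcPrecoverage
      (QuotSh.quot Scheme.fpqcPrecoverage s t) y'
    obtain ⟨C, ι, hι, hrep⟩ := exists_represents Scheme.fpqcPrecoverage s t V σ'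
      @IsClosedImmersion (descPrinciple_closed Scheme.fpqcPrecoverage le_rfl) hc
    haveI : IsClosedImmersion ι.left := hι
    haveI : Mono ι := (Over.forget S).mono_of_mono_map
      (show Mono ((Over.forget S).map ι) from (inferInstance : Mono ι.left))
    haveI hfl : Flat (ι ≫ snd U V).left :=
      prop_of_represents Scheme.fpqcPrecoverage s t V σ' le_rfl @Flat inferInstance hrep
    haveI hsj : Surjective (ι ≫ snd U V).left :=
      prop_of_represents Scheme.fpqcPrecoverage s t V σ' le_rfl @Surjective inferInstance hrep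
    haveI hlfp : LocallyOfFinitePresentation (ι ≫ snd U V).left :=
      prop_of_represents Scheme.fpqcPrecoverage s t V σ' le_rfl @LocallyOfFinitePresentation
        inferInstance hrep
    have hcovf : Presieve.ofArrows (fun _ : PUnit.{1} => C.left)
        (fun _ => (ι ≫ snd U V).left) ∈ Scheme.fppfPrecoverage.coverings V.left := by
      rw [Presieve.ofArrows_pUnit]
      exact Scheme.Hom.singleton_mem_fppfPrecoverage (ι ≫ snd U V).left
    obtain ⟨σ, hσ, -⟩ := existsUnique_desc Scheme.fppfPrecoverage s t (ι ≫ snd U V)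
      (ι ≫ fst U V) hcovf (related_of_represents Scheme.fpqcPrecoverage s t V σ' hrep)
    refine ⟨σ.hom.app (op V) (sec Scheme.fppfPrecoverage (𝟙 V)), ?_⟩
    have hshq : Presieve.IsSheaf (QuotSh.J Scheme.fpqcPrecoverage S)
        (QuotSh.quot Scheme.fpqcPrecoverage s t).obj :=
      (isSheaf_iff_isSheaf_of_type _ _).1 (QuotSh.quot Scheme.fpqcPrecoverage s t).property
    have hmemq : Sieve.ofArrows (fun _ : PUnit.{1} => C) (fun _ => ι ≫ snd U V) ∈
        QuotSh.J Scheme.fpqcPrecoverage S V :=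
      mem_J_of_cover Scheme.fpqcPrecoverage (fun _ : PUnit.{1} => C) (fun _ => ι ≫ snd U V)
        (Scheme.fppfPrecoverage_le_fpqcPrecoverage _ hcovf)
    apply (hshq _ hmemq).isSeparatedFor.ext
    rintro W g ⟨W', h, k, ⟨_⟩, rfl⟩
    have n := NatTrans.naturality_apply φ.hom (h ≫ ι ≫ snd U V).op
      (σ.hom.app (op V) (sec Scheme.fppfPrecoverage (𝟙 V)))
    have e1 : (QuotSh.quot Scheme.fppfPrecoverage s t).obj.map (h ≫ ι ≫ snd U V).op
        (σ.hom.app (op V) (sec Scheme.fppfPrecoverage (𝟙 V))) =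
        σ.hom.app (op W) (sec Scheme.fppfPrecoverage (h ≫ ι ≫ snd U V)) :=
      (app_sec_of_section Scheme.fppfPrecoverage σ _ rfl _).symm
    have e2 : σ.hom.app (op W) (sec Scheme.fppfPrecoverage (h ≫ ι ≫ snd U V)) =
        (QuotSh.quotπ Scheme.fppfPrecoverage s t).hom.app (op W)
          (sec Scheme.fppfPrecoverage (h ≫ ι ≫ fst U V)) := by
      have e := congrArg (fun χ : QuotSh.rep Scheme.fppfPrecoverage C ⟶
        QuotSh.quot Scheme.fppfPrecoverage s t =>
          χ.hom.app (op W) (sec Scheme.fppfPrecoverage h)) hσ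
      have e' : (QuotSh.quotπ Scheme.fppfPrecoverage s t).hom.app (op W)
          ((QuotSh.repMap Scheme.fppfPrecoverage (ι ≫ fst U V)).hom.app (op W)
            (sec Scheme.fppfPrecoverage h)) =
          σ.hom.app (op W) ((QuotSh.repMap Scheme.fppfPrecoverage (ι ≫ snd U V)).hom.app (op W)
            (sec Scheme.fppfPrecoverage h)) := e
      rw [sec_repMap, sec_repMap] at e'
      exact e'.symm
    have e3 : (QuotSh.quot Scheme.fpqcPrecoverage s t).obj.map (h ≫ ι ≫ snd U V).op y' =
        σ'.hom.app (op W) (sec Scheme.fpqcPrecoverage (h ≫ ι ≫ snd U V)) :=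
      (app_sec_of_section Scheme.fpqcPrecoverage σ' y' hσ' _).symm
    have e4 : GoodP Scheme.fpqcPrecoverage s t V σ' ((h ≫ ι) ≫ fst U V)
        ((h ≫ ι) ≫ snd U V) := (hrep (h ≫ ι)).1 ⟨h, rfl⟩
    unfold GoodP at e4
    rw [Category.assoc, Category.assoc] at e4
    exact n.symm.trans ((congrArg (fun z => φ.hom.app (op W) z) (e1.trans e2)).trans
      ((hφa _).trans (e4.trans e3.symm)))
  haveI : ∀ V : (Over S)ᵒᵖ, IsIso (φ.hom.app V) :=
    fun V => (isIso_iff_bijective _).2 ⟨hinj V.unop, hsurj V.unop⟩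
  haveI : IsIso φ.hom := NatIso.isIso_of_isIso_app φ.hom
  exact (Presheaf.isSheaf_of_iso_iff (asIso φ.hom)).2
    (QuotSh.quot Scheme.fpqcPrecoverage s t).property

end

end Groth.Agent.Lib.Helper29.QuotSecC
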