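import Mathlib
import Groth.Agent.Lib.Helper29.FanCone

set_option autoImplicit false

/-! Rational maximizers of `ℓ·y / √q(y)` on the nonnegative orthant (S19138). -/

namespace Groth.Agent.Lib.Helper29.RatMax

open Groth.Agent.Lib.Helper29.FanCone

variable {n : ℕ}

/-- the linear form -/
def Lf (ℓ : Fin n → ℚ) (y : Fin n → ℝ) : ℝ := ∑ i, (ℓ i : ℝ) * y i

/-- the bilinear form -/
def bf (B : Fin n → Fin n → ℚ) (x y : Fin n → ℝ) : ℝ := ∑ i, x i * ∑ j, (B i j : ℝ) * y j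

/-- the quadratic form -/
def qf (B : Fin n → Fin n → ℚ) (y : Fin n → ℝ) : ℝ := bf B y y

/-- twice the symmetrized bilinear form -/
def cf (B : Fin n → Fin n → ℚ) (x y : Fin n → ℝ) : ℝ := bf B x y + bf B y x

/-- the gradient of the quadratic form -/
def Cz (B : Fin n → Fin n → ℚ) (z : Fin n → ℝ) (i : Fin n) : ℝ :=
  ∑ j, ((B i j : ℝ) + (B j i : ℝ)) * z j

theorem Lf_add (ℓ : Fin n → ℚ) (x y : Fin n → ℝ) : Lf ℓ (x + y) = Lf ℓ x + Lf ℓ y := by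
  simp only [Lf, Pi.add_apply, mul_add, Finset.sum_add_distrib]

theorem Lf_smul (ℓ : Fin n → ℚ) (t : ℝ) (y : Fin n → ℝ) : Lf ℓ (t • y) = t * Lf ℓ y := by
  simp only [Lf, Pi.smul_apply, smul_eq_mul, Finset.mul_sum]
  exact Finset.sum_congr rfl (fun i _ => by ring)

theorem Lf_zero (ℓ : Fin n → ℚ) : Lf ℓ 0 = 0 := by
  simp only [Lf, Pi.zero_apply, mul_zero, Finset.sum_const_zero]

theorem Lf_single (ℓ : Fin n → ℚ) (i : Fin n) (c : ℝ) : Lf ℓ (Pi.single i c) = (ℓ i : ℝ) * c := by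
  unfold Lf
  rw [Finset.sum_eq_single i]
  · rw [Pi.single_eq_same]
  · intro j _ hj
    rw [Pi.single_eq_of_ne hj, mul_zero]
  · intro h
    exact absurd (Finset.mem_univ i) h

theorem bf_add_right (B : Fin n → Fin n → ℚ) (x y z : Fin n → ℝ) :
    bf B x (y + z) = bf B x y + bf B x z := by
  simp only [bf, Pi.add_apply, mul_add, Finset.sum_add_distrib]

theorem bf_add_left (B : Fin n → Fin n → ℚ) (x y z : Fin n → ℝ) :
    bf B (x + y) z = bf B x z + bf B y z := by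
  simp only [bf, Pi.add_apply, add_mul, Finset.sum_add_distrib]

theorem bf_smul_right (B : Fin n → Fin n → ℚ) (x : Fin n → ℝ) (t : ℝ) (y : Fin n → ℝ) :
    bf B x (t • y) = t * bf B x y := by
  simp only [bf, Pi.smul_apply, smul_eq_mul, Finset.mul_sum]
  exact Finset.sum_congr rfl (fun i _ => Finset.sum_congr rfl (fun j _ => by ring))

theorem bf_smul_left (B : Fin n → Fin n → ℚ) (t : ℝ) (x y : Fin n → ℝ) :
    bf B (t • x) y = t * bf B x y := by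
  simp only [bf, Pi.smul_apply, smul_eq_mul, Finset.mul_sum]
  exact Finset.sum_congr rfl (fun i _ => Finset.sum_congr rfl (fun j _ => by ring))

theorem qf_add_smul (B : Fin n → Fin n → ℚ) (x y : Fin n → ℝ) (t : ℝ) :
    qf B (x + t • y) = qf B x + t * cf B x y + t ^ 2 * qf B y := by
  unfold qf cf
  simp only [bf_add_left, bf_add_right, bf_smul_left, bf_smul_right]
  ring

theorem qf_smul (B : Fin n → Fin n → ℚ) (t : ℝ) (y : Fin n → ℝ) :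
    qf B (t • y) = t ^ 2 * qf B y := by
  unfold qf
  rw [bf_smul_left, bf_smul_right]
  ring

theorem cf_eq_sum (B : Fin n → Fin n → ℚ) (z y : Fin n → ℝ) :
    cf B z y = ∑ i, Cz B z i * y i := by
  unfold cf bf Cz
  have h1 : ∑ i, z i * ∑ j, (B i j : ℝ) * y j = ∑ i, (∑ j, (B j i : ℝ) * z j) * y i := by
    simp only [Finset.mul_sum, Finset.sum_mul]
    rw [Finset.sum_comm]
    exact Finset.sum_congr rfl (fun i _ => Finset.sum_congr rfl (fun j _ => by ring))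
  have h2 : ∑ i, y i * ∑ j, (B i j : ℝ) * z j = ∑ i, (∑ j, (B i j : ℝ) * z j) * y i :=
    Finset.sum_congr rfl (fun i _ => mul_comm _ _)
  rw [h1, h2, ← Finset.sum_add_distrib]
  refine Finset.sum_congr rfl (fun i _ => ?_)
  rw [← add_mul, ← Finset.sum_add_distrib]
  congr 1
  exact Finset.sum_congr rfl (fun j _ => by ring)

theorem cf_single (B : Fin n → Fin n → ℚ) (z : Fin n → ℝ) (i : Fin n) (c : ℝ) :
    cf B z (Pi.single i c) = Cz B z i * c := by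
  rw [cf_eq_sum, Finset.sum_eq_single i]
  · rw [Pi.single_eq_same]
  · intro j _ hj
    rw [Pi.single_eq_of_ne hj, mul_zero]
  · intro h
    exact absurd (Finset.mem_univ i) h

theorem Cz_smul (B : Fin n → Fin n → ℚ) (t : ℝ) (z : Fin n → ℝ) (i : Fin n) :
    Cz B (t • z) i = t * Cz B z i := by
  simp only [Cz, Pi.smul_apply, smul_eq_mul, Finset.mul_sum]
  exact Finset.sum_congr rfl (fun j _ => by ring)

theorem nonneg_of_pos_mul (a b : ℝ) (ha : 0 < a) (h : 0 ≤ a * b) : 0 ≤ b := by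
  by_contra hneg
  push Not at hneg
  have := mul_neg_of_pos_of_neg ha hneg
  linarith

theorem small_eps (a b ε₁ : ℝ) (hε₁ : 0 < ε₁)
    (h : ∀ ε, 0 < ε → ε ≤ ε₁ → 0 ≤ a + ε * b) : 0 ≤ a := by
  by_contra ha
  push Not at ha
  have hb1 : 0 < 2 * (|b| + 1) := by positivity
  have hεpos : 0 < min ε₁ (-a / (2 * (|b| + 1))) :=
    lt_min hε₁ (div_pos (by linarith) hb1)
  have h1 := h _ hεpos (min_le_left _ _)
  have h2 : min ε₁ (-a / (2 * (|b| + 1))) ≤ -a / (2 * (|b| + 1)) := min_le_right _ _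
  rw [le_div_iff₀ hb1] at h2
  have h4 : min ε₁ (-a / (2 * (|b| + 1))) * b ≤ min ε₁ (-a / (2 * (|b| + 1))) * |b| :=
    mul_le_mul_of_nonneg_left (le_abs_self b) hεpos.le
  nlinarith [abs_nonneg b]

/-! ### a certificate implies optimality -/

theorem cert_opt (ℓ : Fin n → ℚ) (B : Fin n → Fin n → ℚ) (hnn : ∀ y, 0 ≤ qf B y)
    (hpos : ∀ y : Fin n → ℝ, (∀ i, 0 ≤ y i) → y ≠ 0 → 0 < qf B y)
    (z : Fin n → ℝ) (hz0 : ∀ i, 0 ≤ z i) (hzne : z ≠ 0)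
    (hC : ∀ i, 2 * (ℓ i : ℝ) ≤ Cz B z i) (hCeq : ∀ i, z i ≠ 0 → Cz B z i = 2 * (ℓ i : ℝ))
    (y : Fin n → ℝ) (hy0 : ∀ i, 0 ≤ y i) (hyne : y ≠ 0) :
    Lf ℓ y / Real.sqrt (qf B y) ≤ Lf ℓ z / Real.sqrt (qf B z) := by
  have hQz : 0 < qf B z := hpos z hz0 hzne
  have hQy : 0 < qf B y := hpos y hy0 hyne
  have h1 : 2 * Lf ℓ y ≤ cf B z y := by
    rw [cf_eq_sum]
    unfold Lf
    rw [Finset.mul_sum]
    refine Finset.sum_le_sum (fun i _ => ?_)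
    have := mul_le_mul_of_nonneg_right (hC i) (hy0 i)
    linarith
  have h2 : cf B z z = 2 * Lf ℓ z := by
    rw [cf_eq_sum]
    unfold Lf
    rw [Finset.mul_sum]
    refine Finset.sum_congr rfl (fun i _ => ?_)
    by_cases hzi : z i = 0
    · rw [hzi]
      ring
    · rw [hCeq i hzi]
      ring
  have h3 : qf B z = Lf ℓ z := by
    have h : cf B z z = 2 * qf B z := by
      unfold cf qf
      ring
    linarith
  have hCS : (cf B z y) ^ 2 ≤ 4 * qf B z * qf B y := by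
    have hdis : discrim (qf B y) (cf B z y) (qf B z) ≤ 0 := by
      apply discrim_le_zero
      intro t
      have h := hnn (z + t • y)
      rw [qf_add_smul] at h
      have e : qf B y * (t * t) + cf B z y * t + qf B z =
          qf B z + t * cf B z y + t ^ 2 * qf B y := by ring
      rw [e]
      exact h
    unfold discrim at hdis
    nlinarith [hdis]
  have hsq : Lf ℓ y ≤ Real.sqrt (qf B z) * Real.sqrt (qf B y) := by
    have h4 : cf B z y / 2 ≤ Real.sqrt (qf B z * qf B y) := by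
      refine (le_abs_self _).trans (Real.abs_le_sqrt ?_)
      have e : (cf B z y / 2) ^ 2 = (cf B z y) ^ 2 / 4 := by ring
      rw [e]
      linarith
    rw [Real.sqrt_mul hQz.le] at h4
    linarith
  rw [div_le_iff₀ (Real.sqrt_pos.mpr hQy)]
  have h5 : Lf ℓ z / Real.sqrt (qf B z) = Real.sqrt (qf B z) := by
    rw [← h3]
    exact Real.div_sqrt
  rw [h5]
  exact hsq

/-! ### existence of a real certificate -/

theorem sum_pos_of (y : Fin n → ℝ) (hy : ∀ i, 0 ≤ y i) (hne : y ≠ 0) : 0 < ∑ i, y i := by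
  obtain ⟨i, hi⟩ : ∃ i, y i ≠ 0 := by
    by_contra hcon
    push Not at hcon
    exact hne (funext hcon)
  exact Finset.sum_pos' (fun i _ => hy i)
    ⟨i, Finset.mem_univ i, lt_of_le_of_ne (hy i) (Ne.symm hi)⟩

theorem simplex_of (y : Fin n → ℝ) (hy : ∀ i, 0 ≤ y i) (hne : y ≠ 0) :
    (∑ i, y i)⁻¹ • y ∈ stdSimplex ℝ (Fin n) := by
  have hs := sum_pos_of y hy hne
  refine ⟨fun i => ?_, ?_⟩
  · show 0 ≤ (∑ i, y i)⁻¹ * y i
    exact mul_nonneg (inv_nonneg.mpr hs.le) (hy i)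
  · show ∑ i, ((∑ i, y i)⁻¹ • y) i = 1
    simp only [Pi.smul_apply, smul_eq_mul]
    rw [← Finset.mul_sum, inv_mul_cancel₀ hs.ne']

theorem continuous_Lf (ℓ : Fin n → ℚ) : Continuous (Lf ℓ) := by
  show Continuous fun y : Fin n → ℝ => ∑ i, (ℓ i : ℝ) * y i
  exact continuous_finsetSum _ (fun i _ => continuous_const.mul (continuous_apply i))

theorem continuous_qf (B : Fin n → Fin n → ℚ) : Continuous (qf B) := by
  show Continuous fun y : Fin n → ℝ => ∑ i, y i * ∑ j, (B i j : ℝ) * y j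
  exact continuous_finsetSum _ (fun i _ => (continuous_apply i).mul
    (continuous_finsetSum _ (fun j _ => continuous_const.mul (continuous_apply j))))

theorem exists_real_cert (ℓ : Fin n → ℚ) (B : Fin n → Fin n → ℚ)
    (hpos : ∀ y : Fin n → ℝ, (∀ i, 0 ≤ y i) → y ≠ 0 → 0 < qf B y)
    (hℓ : ∃ y : Fin n → ℝ, (∀ i, 0 ≤ y i) ∧ 0 < Lf ℓ y) :
    ∃ z : Fin n → ℝ, (∀ i, 0 ≤ z i) ∧ z ≠ 0 ∧ (∀ i, 2 * (ℓ i : ℝ) ≤ Cz B z i) ∧
      (∀ i, z i ≠ 0 → Cz B z i = 2 * (ℓ i : ℝ)) := by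
  obtain ⟨y₀, hy₀0, hy₀L⟩ := hℓ
  have hy₀ne : y₀ ≠ 0 := by
    intro h
    rw [h, Lf_zero] at hy₀L
    exact lt_irrefl _ hy₀L
  have hΔne0 : ∀ y ∈ stdSimplex ℝ (Fin n), y ≠ 0 := by
    intro y hy h0
    have h1 := hy.2
    rw [h0] at h1
    simp at h1
  have hfcont : ContinuousOn (fun y : Fin n → ℝ => Lf ℓ y / Real.sqrt (qf B y))
      (stdSimplex ℝ (Fin n)) :=
    (continuous_Lf ℓ).continuousOn.div
      (Real.continuous_sqrt.comp (continuous_qf B)).continuousOn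
      (fun y hy => (Real.sqrt_pos.mpr (hpos y hy.1 (hΔne0 y hy))).ne')
  obtain ⟨ys, hysΔ, hmax⟩ := (isCompact_stdSimplex (𝕜 := ℝ) (ι := Fin n)).exists_isMaxOn
    ⟨_, simplex_of y₀ hy₀0 hy₀ne⟩ hfcont
  have hys0 : ∀ i, 0 ≤ ys i := hysΔ.1
  have hysne : ys ≠ 0 := hΔne0 ys hysΔ
  have hQ : 0 < qf B ys := hpos ys hys0 hysne
  -- scale invariance
  have hfsc : ∀ (t : ℝ) (y : Fin n → ℝ), 0 < t →
      Lf ℓ (t • y) / Real.sqrt (qf B (t • y)) = Lf ℓ y / Real.sqrt (qf B y) := by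
    intro t y ht
    rw [Lf_smul, qf_smul, Real.sqrt_mul (sq_nonneg t), Real.sqrt_sq ht.le,
      mul_div_mul_left _ _ ht.ne']
  have hopt : ∀ y : Fin n → ℝ, (∀ i, 0 ≤ y i) → y ≠ 0 →
      Lf ℓ y / Real.sqrt (qf B y) ≤ Lf ℓ ys / Real.sqrt (qf B ys) := by
    intro y hy hyne
    have hs := sum_pos_of y hy hyne
    have h1 := hmax (simplex_of y hy hyne)
    have h2 := hfsc (∑ i, y i)⁻¹ y (inv_pos.mpr hs)
    have h3 : Lf ℓ ((∑ i, y i)⁻¹ • y) / Real.sqrt (qf B ((∑ i, y i)⁻¹ • y)) ≤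
        Lf ℓ ys / Real.sqrt (qf B ys) := h1
    rw [h2] at h3
    exact h3
  have hκ : 0 < Lf ℓ ys := by
    have h1 := hopt y₀ hy₀0 hy₀ne
    have h2 : 0 < Lf ℓ y₀ / Real.sqrt (qf B y₀) :=
      div_pos hy₀L (Real.sqrt_pos.mpr (hpos y₀ hy₀0 hy₀ne))
    have h3 : 0 < Lf ℓ ys / Real.sqrt (qf B ys) := lt_of_lt_of_le h2 h1
    exact (div_pos_iff_of_pos_right (Real.sqrt_pos.mpr hQ)).mp h3
  have hpoly : ∀ y : Fin n → ℝ, (∀ i, 0 ≤ y i) → y ≠ 0 → 0 ≤ Lf ℓ y →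
      (Lf ℓ y) ^ 2 * qf B ys ≤ (Lf ℓ ys) ^ 2 * qf B y := by
    intro y hy hyne hLy
    have hQy := hpos y hy hyne
    have h1 := hopt y hy hyne
    rw [div_le_div_iff₀ (Real.sqrt_pos.mpr hQy) (Real.sqrt_pos.mpr hQ)] at h1
    have h2 : (Lf ℓ y * Real.sqrt (qf B ys)) ^ 2 ≤ (Lf ℓ ys * Real.sqrt (qf B y)) ^ 2 :=
      pow_le_pow_left₀ (mul_nonneg hLy (Real.sqrt_nonneg _)) h1 2
    rw [mul_pow, mul_pow, Real.sq_sqrt hQ.le, Real.sq_sqrt hQy.le] at h2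
    exact h2
  have hdir : ∀ (d : Fin n → ℝ) (ε₀ : ℝ), 0 < ε₀ →
      (∀ ε, 0 < ε → ε ≤ ε₀ → ∀ i, 0 ≤ ys i + ε * d i) →
      0 ≤ Lf ℓ ys * cf B ys d - 2 * qf B ys * Lf ℓ d := by
    intro d ε₀ hε₀ hfeas
    have hε₁ : 0 < min ε₀ (Lf ℓ ys / (|Lf ℓ d| + 1)) :=
      lt_min hε₀ (div_pos hκ (by positivity))
    have ha : 0 ≤ Lf ℓ ys * (Lf ℓ ys * cf B ys d - 2 * qf B ys * Lf ℓ d) := by
      refine small_eps _ ((Lf ℓ ys) ^ 2 * qf B d - (Lf ℓ d) ^ 2 * qf B ys) _ hε₁ ?_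
      intro ε hε hεle
      have hε₀' : ε ≤ ε₀ := hεle.trans (min_le_left _ _)
      have hεκ : ε ≤ Lf ℓ ys / (|Lf ℓ d| + 1) := hεle.trans (min_le_right _ _)
      have hyε0 : ∀ i, 0 ≤ (ys + ε • d) i := fun i => hfeas ε hε hε₀' i
      have hLε : Lf ℓ (ys + ε • d) = Lf ℓ ys + ε * Lf ℓ d := by rw [Lf_add, Lf_smul]
      have hLpos : 0 < Lf ℓ ys + ε * Lf ℓ d := by
        have hb1 : 0 < |Lf ℓ d| + 1 := by positivity
        have h1 : ε * (|Lf ℓ d| + 1) ≤ Lf ℓ ys := by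
          rw [le_div_iff₀ hb1] at hεκ
          exact hεκ
        have h2 : ε * (-|Lf ℓ d|) ≤ ε * Lf ℓ d :=
          mul_le_mul_of_nonneg_left (neg_abs_le _) hε.le
        nlinarith
      have hyεne : ys + ε • d ≠ 0 := by
        intro h0
        rw [h0, Lf_zero] at hLε
        linarith
      have h3 := hpoly _ hyε0 hyεne (by rw [hLε]; exact hLpos.le)
      rw [hLε, qf_add_smul] at h3
      have h4 : ε * (Lf ℓ ys * (Lf ℓ ys * cf B ys d - 2 * qf B ys * Lf ℓ d) +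
          ε * ((Lf ℓ ys) ^ 2 * qf B d - (Lf ℓ d) ^ 2 * qf B ys)) =
          (Lf ℓ ys) ^ 2 * (qf B ys + ε * cf B ys d + ε ^ 2 * qf B d) -
            (Lf ℓ ys + ε * Lf ℓ d) ^ 2 * qf B ys := by ring
      have h5 : 0 ≤ ε * (Lf ℓ ys * (Lf ℓ ys * cf B ys d - 2 * qf B ys * Lf ℓ d) +
          ε * ((Lf ℓ ys) ^ 2 * qf B d - (Lf ℓ d) ^ 2 * qf B ys)) := by
        rw [h4]
        linarith
      exact nonneg_of_pos_mul _ _ hε h5
    exact nonneg_of_pos_mul _ _ hκ ha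
  have hge : ∀ i, 2 * qf B ys * (ℓ i : ℝ) ≤ Lf ℓ ys * Cz B ys i := by
    intro i
    have h := hdir (Pi.single i 1) 1 one_pos (fun ε hε _ j => by
      rw [Pi.single_apply]
      split_ifs
      · linarith [hys0 j]
      · linarith [hys0 j])
    rw [cf_single, Lf_single] at h
    linarith
  have hle : ∀ i, ys i ≠ 0 → Lf ℓ ys * Cz B ys i ≤ 2 * qf B ys * (ℓ i : ℝ) := by
    intro i hi
    have hpos_i : 0 < ys i := lt_of_le_of_ne (hys0 i) (Ne.symm hi)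
    have h := hdir (Pi.single i (-1)) (ys i) hpos_i (fun ε hε hle j => by
      rw [Pi.single_apply]
      split_ifs with hj
      · subst hj
        linarith
      · linarith [hys0 j])
    rw [cf_single, Lf_single] at h
    linarith
  have hr : 0 < Lf ℓ ys / qf B ys := div_pos hκ hQ
  have e : ∀ i, Lf ℓ ys / qf B ys * Cz B ys i = (Lf ℓ ys * Cz B ys i) / qf B ys := by
    intro i
    ring
  refine ⟨(Lf ℓ ys / qf B ys) • ys, fun i => ?_, smul_ne_zero hr.ne' hysne, fun i => ?_,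
    fun i hi => ?_⟩
  · show 0 ≤ Lf ℓ ys / qf B ys * ys i
    exact mul_nonneg hr.le (hys0 i)
  · rw [Cz_smul, e, le_div_iff₀ hQ]
    linarith [hge i]
  · have hi' : ys i ≠ 0 := by
      intro h0
      apply hi
      show Lf ℓ ys / qf B ys * ys i = 0
      rw [h0, mul_zero]
    rw [Cz_smul, e, div_eq_iff hQ.ne']
    linarith [hge i, hle i hi']

/-! ### a rational certificate -/

/-- the constraint matrix of the homogenized certificate polyhedron -/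
def Rm (g : (Fin n × Fin n) ⊕ Fin n → ℤ) (D : ℕ) (i : Fin n) : Fin n ⊕ (Fin n ⊕ Unit) → ℤ :=
  Sum.elim (fun j => g (Sum.inl (i, j)))
    (Sum.elim (fun i' => if i' = i then -(D : ℤ) else 0) (fun _ => - g (Sum.inr i)))

/-- the homogenized certificate point -/
def pv (ℓ : Fin n → ℚ) (B : Fin n → Fin n → ℚ) (z : Fin n → ℝ) : Fin n ⊕ (Fin n ⊕ Unit) → ℝ :=
  Sum.elim z (Sum.elim (fun i => Cz B z i - 2 * (ℓ i : ℝ)) (fun _ => 1))

theorem exists_rat_cert (ℓ : Fin n → ℚ) (B : Fin n → Fin n → ℚ) (z : Fin n → ℝ)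
    (hz0 : ∀ i, 0 ≤ z i) (hC : ∀ i, 2 * (ℓ i : ℝ) ≤ Cz B z i)
    (hCeq : ∀ i, z i ≠ 0 → Cz B z i = 2 * (ℓ i : ℝ)) :
    ∃ x : Fin n → ℚ, (∀ i, 0 ≤ x i) ∧
      (∀ i, 2 * (ℓ i : ℝ) ≤ Cz B (fun j => ((x j : ℚ) : ℝ)) i) ∧
      (∀ i, x i ≠ 0 → Cz B (fun j => ((x j : ℚ) : ℝ)) i = 2 * (ℓ i : ℝ)) := by
  classical
  obtain ⟨D, g, hD, hg⟩ := exists_int_of_rat (ι := (Fin n × Fin n) ⊕ Fin n)
    (Sum.elim (fun ij => B ij.1 ij.2 + B ij.2 ij.1) (fun i => 2 * ℓ i))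
  have hDr : (0 : ℝ) < (D : ℝ) := by exact_mod_cast hD
  have hgC : ∀ i j, ((g (Sum.inl (i, j)) : ℤ) : ℝ) = ((B i j : ℝ) + (B j i : ℝ)) * D := by
    intro i j
    have h : ((g (Sum.inl (i, j)) : ℤ) : ℚ) = (B i j + B j i) * D := hg (Sum.inl (i, j))
    exact_mod_cast h
  have hgℓ : ∀ i, ((g (Sum.inr i) : ℤ) : ℝ) = 2 * (ℓ i : ℝ) * D := by
    intro i
    have h : ((g (Sum.inr i) : ℤ) : ℚ) = 2 * ℓ i * D := hg (Sum.inr i)
    exact_mod_cast h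
  have hp0 : ∀ x, 0 ≤ pv ℓ B z x := by
    rintro (j | i | u)
    · exact hz0 j
    · exact sub_nonneg.mpr (hC i)
    · exact zero_le_one
  have hker : ∀ i, ∑ x, (Rm g D i x : ℝ) * pv ℓ B z x = 0 := by
    intro i
    rw [Fintype.sum_sum_type, Fintype.sum_sum_type]
    have e1 : ∑ j : Fin n, ((Rm g D i (Sum.inl j) : ℤ) : ℝ) * pv ℓ B z (Sum.inl j) =
        D * Cz B z i := by
      show ∑ j : Fin n, ((g (Sum.inl (i, j)) : ℤ) : ℝ) * z j = D * Cz B z i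
      unfold Cz
      rw [Finset.mul_sum]
      exact Finset.sum_congr rfl (fun j _ => by rw [hgC i j]; ring)
    have e2 : ∑ i' : Fin n, ((Rm g D i (Sum.inr (Sum.inl i')) : ℤ) : ℝ) *
        pv ℓ B z (Sum.inr (Sum.inl i')) = -(D : ℝ) * (Cz B z i - 2 * (ℓ i : ℝ)) := by
      show ∑ i' : Fin n, (((if i' = i then -(D : ℤ) else 0) : ℤ) : ℝ) *
        (Cz B z i' - 2 * (ℓ i' : ℝ)) = _
      rw [Finset.sum_eq_single i]
      · rw [if_pos rfl]
        push_cast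
        ring
      · intro j _ hj
        rw [if_neg hj]
        push_cast
        ring
      · intro h
        exact absurd (Finset.mem_univ i) h
    have e3 : ∑ u : Unit, ((Rm g D i (Sum.inr (Sum.inr u)) : ℤ) : ℝ) *
        pv ℓ B z (Sum.inr (Sum.inr u)) = -(2 * (ℓ i : ℝ) * D) := by
      rw [Fintype.sum_unique]
      show ((-(g (Sum.inr i)) : ℤ) : ℝ) * 1 = _
      rw [mul_one, Int.cast_neg, hgℓ i]
    rw [e1, e2, e3]
    ring
  obtain ⟨m, gg, zz, hggnn, hggker, hggsupp, -, hzz, hpzz⟩ :=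
    exists_decomp (Rm g D) (suppCard (pv ℓ B z)) (pv ℓ B z) le_rfl hp0 hker
  -- a generator with positive last coordinate
  obtain ⟨l, hl⟩ : ∃ l, gg l (Sum.inr (Sum.inr ())) ≠ 0 := by
    by_contra hcon
    push Not at hcon
    have h1 := hpzz (Sum.inr (Sum.inr ()))
    have h2 : pv ℓ B z (Sum.inr (Sum.inr ())) = 1 := rfl
    rw [h2] at h1
    have h3 : ∑ l, zz l * ((gg l (Sum.inr (Sum.inr ())) : ℤ) : ℝ) = 0 := by
      refine Finset.sum_eq_zero (fun l _ => ?_)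
      rw [hcon l, Int.cast_zero, mul_zero]
    rw [h3] at h1
    exact one_ne_zero h1
  have hτ : 0 < gg l (Sum.inr (Sum.inr ())) :=
    lt_of_le_of_ne (hggnn l _) (Ne.symm hl)
  obtain ⟨T, hTdef⟩ : ∃ T : ℝ, T = ((gg l (Sum.inr (Sum.inr ())) : ℤ) : ℝ) := ⟨_, rfl⟩
  have hT : 0 < T := by
    rw [hTdef]
    exact_mod_cast hτ
  have hint : ∀ i, ∑ j, g (Sum.inl (i, j)) * gg l (Sum.inl j) -
      (D : ℤ) * gg l (Sum.inr (Sum.inl i)) -
      g (Sum.inr i) * gg l (Sum.inr (Sum.inr ())) = 0 := by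
    intro i
    have h := hggker l i
    rw [Fintype.sum_sum_type, Fintype.sum_sum_type] at h
    have e2 : ∑ i' : Fin n, Rm g D i (Sum.inr (Sum.inl i')) * gg l (Sum.inr (Sum.inl i')) =
        -(D : ℤ) * gg l (Sum.inr (Sum.inl i)) := by
      show ∑ i' : Fin n, (if i' = i then -(D : ℤ) else 0) * gg l (Sum.inr (Sum.inl i')) = _
      rw [Finset.sum_eq_single i]
      · rw [if_pos rfl]
      · intro j _ hj
        rw [if_neg hj, zero_mul]
      · intro h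
        exact absurd (Finset.mem_univ i) h
    have e3 : ∑ u : Unit, Rm g D i (Sum.inr (Sum.inr u)) * gg l (Sum.inr (Sum.inr u)) =
        - g (Sum.inr i) * gg l (Sum.inr (Sum.inr ())) := by
      rw [Fintype.sum_unique]
      rfl
    have e1 : ∑ j : Fin n, Rm g D i (Sum.inl j) * gg l (Sum.inl j) =
        ∑ j, g (Sum.inl (i, j)) * gg l (Sum.inl j) := rfl
    rw [e1, e2, e3] at h
    linarith
  have hintR : ∀ i, ∑ j, ((g (Sum.inl (i, j)) : ℤ) : ℝ) * ((gg l (Sum.inl j) : ℤ) : ℝ) -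
      (D : ℝ) * ((gg l (Sum.inr (Sum.inl i)) : ℤ) : ℝ) - ((g (Sum.inr i) : ℤ) : ℝ) * T = 0 := by
    intro i
    have h := congrArg (Int.cast : ℤ → ℝ) (hint i)
    push_cast at h
    rw [hTdef]
    exact h
  have hxcast : ∀ j, (((gg l (Sum.inl j) : ℚ) / (gg l (Sum.inr (Sum.inr ())) : ℚ) : ℚ) : ℝ) =
      ((gg l (Sum.inl j) : ℤ) : ℝ) / T := by
    intro j
    rw [hTdef]
    push_cast
    rfl
  have hCx : ∀ i, Cz B (fun j =>
      (((gg l (Sum.inl j) : ℚ) / (gg l (Sum.inr (Sum.inr ())) : ℚ) : ℚ) : ℝ)) i =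
      2 * (ℓ i : ℝ) + ((gg l (Sum.inr (Sum.inl i)) : ℤ) : ℝ) / T := by
    intro i
    have h1 : Cz B (fun j =>
        (((gg l (Sum.inl j) : ℚ) / (gg l (Sum.inr (Sum.inr ())) : ℚ) : ℚ) : ℝ)) i =
        (∑ j, ((B i j : ℝ) + (B j i : ℝ)) * ((gg l (Sum.inl j) : ℤ) : ℝ)) / T := by
      unfold Cz
      rw [Finset.sum_div]
      refine Finset.sum_congr rfl (fun j _ => ?_)
      show ((B i j : ℝ) + (B j i : ℝ)) *
        (((gg l (Sum.inl j) : ℚ) / (gg l (Sum.inr (Sum.inr ())) : ℚ) : ℚ) : ℝ) = _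
      rw [hxcast j]
      ring
    have h2 : (D : ℝ) * ∑ j, ((B i j : ℝ) + (B j i : ℝ)) * ((gg l (Sum.inl j) : ℤ) : ℝ) =
        (D : ℝ) * (((gg l (Sum.inr (Sum.inl i)) : ℤ) : ℝ) + 2 * (ℓ i : ℝ) * T) := by
      have h3 := hintR i
      have h4 : ∑ j, ((g (Sum.inl (i, j)) : ℤ) : ℝ) * ((gg l (Sum.inl j) : ℤ) : ℝ) =
          (D : ℝ) * ∑ j, ((B i j : ℝ) + (B j i : ℝ)) * ((gg l (Sum.inl j) : ℤ) : ℝ) := by
        rw [Finset.mul_sum]
        exact Finset.sum_congr rfl (fun j _ => by rw [hgC i j]; ring)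
      rw [h4, hgℓ i] at h3
      linarith
    have h5 := mul_left_cancel₀ hDr.ne' h2
    rw [h1, h5, add_div, mul_div_assoc, div_self hT.ne', mul_one, add_comm]
  refine ⟨fun j => (gg l (Sum.inl j) : ℚ) / (gg l (Sum.inr (Sum.inr ())) : ℚ),
    fun i => ?_, fun i => ?_, fun i hi => ?_⟩
  · have h1 : (0 : ℚ) ≤ (gg l (Sum.inl i) : ℚ) := by exact_mod_cast hggnn l (Sum.inl i)
    have h2 : (0 : ℚ) ≤ (gg l (Sum.inr (Sum.inr ())) : ℚ) := by exact_mod_cast hτ.le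
    exact div_nonneg h1 h2
  · rw [hCx i]
    have h1 : (0 : ℝ) ≤ ((gg l (Sum.inr (Sum.inl i)) : ℤ) : ℝ) := by
      exact_mod_cast hggnn l (Sum.inr (Sum.inl i))
    have h2 := div_nonneg h1 hT.le
    linarith
  · rw [hCx i]
    have hgi : gg l (Sum.inl i) ≠ 0 := by
      intro h0
      apply hi
      show (gg l (Sum.inl i) : ℚ) / (gg l (Sum.inr (Sum.inr ())) : ℚ) = 0
      rw [h0, Int.cast_zero, zero_div]
    have hzi : z i ≠ 0 := by
      intro h0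
      exact hgi (hggsupp l (Sum.inl i) h0)
    have hs0 : gg l (Sum.inr (Sum.inl i)) = 0 := by
      apply hggsupp l (Sum.inr (Sum.inl i))
      show Cz B z i - 2 * (ℓ i : ℝ) = 0
      rw [hCeq i hzi, sub_self]
    rw [hs0, Int.cast_zero, zero_div, add_zero]

/-! ### the main theorem -/

theorem core (ℓ : Fin n → ℚ) (B : Fin n → Fin n → ℚ) (hnn : ∀ y, 0 ≤ qf B y)
    (hpos : ∀ y : Fin n → ℝ, (∀ i, 0 ≤ y i) → y ≠ 0 → 0 < qf B y)
    (hℓ : ∃ y : Fin n → ℝ, (∀ i, 0 ≤ y i) ∧ 0 < Lf ℓ y) :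
    ∃ x : Fin n → ℚ, (∀ i, 0 ≤ x i) ∧ x ≠ 0 ∧
      ∀ y : Fin n → ℝ, (∀ i, 0 ≤ y i) → y ≠ 0 →
        Lf ℓ y / Real.sqrt (qf B y) ≤
          Lf ℓ (fun i => ((x i : ℚ) : ℝ)) / Real.sqrt (qf B (fun i => ((x i : ℚ) : ℝ))) := by
  obtain ⟨z, hz0, -, hC, hCeq⟩ := exists_real_cert ℓ B hpos hℓ
  obtain ⟨x, hx0, hxC, hxCeq⟩ := exists_rat_cert ℓ B z hz0 hC hCeq
  have hxne : x ≠ 0 := by
    intro h0
    obtain ⟨y₀, hy₀0, hy₀L⟩ := hℓ
    have hle : ∀ i, (ℓ i : ℝ) ≤ 0 := by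
      intro i
      have h1 := hxC i
      have h2 : Cz B (fun j => ((x j : ℚ) : ℝ)) i = 0 := by
        unfold Cz
        refine Finset.sum_eq_zero (fun j _ => ?_)
        rw [h0]
        simp
      rw [h2] at h1
      linarith
    have h3 : Lf ℓ y₀ ≤ 0 := by
      unfold Lf
      refine Finset.sum_nonpos (fun i _ => ?_)
      have := mul_nonneg (neg_nonneg.mpr (hle i)) (hy₀0 i)
      linarith
    linarith
  have hxne' : (fun i => ((x i : ℚ) : ℝ)) ≠ 0 := by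
    intro h
    apply hxne
    funext i
    have h1 : ((x i : ℚ) : ℝ) = 0 := congrFun h i
    show x i = 0
    exact_mod_cast h1
  refine ⟨x, hx0, hxne, fun y hy hyne => ?_⟩
  exact cert_opt ℓ B hnn hpos (fun i => ((x i : ℚ) : ℝ)) (fun i => by exact_mod_cast hx0 i)
    hxne' hxC (fun i hi => hxCeq i (by
      intro h0
      apply hi
      rw [h0, Rat.cast_zero])) y hy hyne

open Matrix in
theorem main19138 (n : ℕ) (ℓ : Fin n → ℚ)
    (B : Matrix (Fin n) (Fin n) ℚ)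
    (hnn : ∀ y : Fin n → ℝ, 0 ≤ y ⬝ᵥ (B.map (fun r : ℚ => (r : ℝ))) *ᵥ y)
    (hpos : ∀ y : Fin n → ℝ, (∀ i, 0 ≤ y i) → y ≠ 0 →
      0 < y ⬝ᵥ (B.map (fun r : ℚ => (r : ℝ))) *ᵥ y)
    (hℓ : ∃ y : Fin n → ℝ, (∀ i, 0 ≤ y i) ∧ 0 < (fun i => (ℓ i : ℝ)) ⬝ᵥ y) :
    ∃ x : Fin n → ℚ, (∀ i, 0 ≤ x i) ∧ x ≠ 0 ∧
      ∀ y : Fin n → ℝ, (∀ i, 0 ≤ y i) → y ≠ 0 →
        (fun i => (ℓ i : ℝ)) ⬝ᵥ y / Real.sqrt (y ⬝ᵥ (B.map (fun r : ℚ => (r : ℝ))) *ᵥ y) ≤
          (fun i => (ℓ i : ℝ)) ⬝ᵥ (fun i => (x i : ℝ)) /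
            Real.sqrt ((fun i => (x i : ℝ)) ⬝ᵥ (B.map (fun r : ℚ => (r : ℝ))) *ᵥ
              (fun i => (x i : ℝ))) := by
  have hq : ∀ y : Fin n → ℝ, y ⬝ᵥ (B.map (fun r : ℚ => (r : ℝ))) *ᵥ y =
      qf (fun i j => B i j) y := fun y => rfl
  have hL : ∀ y : Fin n → ℝ, (fun i => (ℓ i : ℝ)) ⬝ᵥ y = Lf ℓ y := fun y => rfl
  simp only [hq, hL] at hnn hpos hℓ ⊢
  exact core ℓ (fun i j => B i j) hnn hpos hℓ

end Groth.Agent.Lib.Helper29.RatMax
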