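import Mathlib
import Groth.Prelude.Def_W4sga3iivvp2RelPsh

set_option autoImplicit false
universe v₁ u₁
open CategoryTheory Opposite

namespace Groth.Agent.Lib.Helper29.RelPshSheaf

open ShfCat

variable {C : Type u₁} [Category.{v₁} C] (J : GrothendieckTopology C)
  {S : C} {F : Cᵒᵖ ⥤ Type v₁} (φ : F ⟶ yoneda.obj S)

lemma sep_of_sep (hF : Presieve.IsSeparated J F) :
    Presieve.IsSeparated (J.over S) (relPsh φ) := by
  intro T R hR x t₁ t₂ h₁ h₂
  apply Subtype.ext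
  have hR' : Sieve.overEquiv T R ∈ J T.left := hR
  refine (hF _ hR').ext ?_
  intro U f hf
  rw [Sieve.overEquiv_iff] at hf
  have e₁ := h₁ _ hf
  have e₂ := h₂ _ hf
  exact congrArg Subtype.val (e₁.trans e₂.symm)

lemma sep_of_sep_rel (hS : Presieve.IsSheaf J (yoneda.obj S))
    (hG : Presieve.IsSeparated (J.over S) (relPsh φ)) : Presieve.IsSeparated J F := by
  intro U R hR x t₁ t₂ h₁ h₂
  have hφ : φ.app (op U) t₁ = φ.app (op U) t₂ := by
    refine (hS R hR).isSeparatedFor.ext ?_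
    intro V f hf
    rw [← NatTrans.naturality_apply φ f.op t₁, ← NatTrans.naturality_apply φ f.op t₂,
      h₁ f hf, h₂ f hf]
  let T : Over S := Over.mk (φ.app (op U) t₁)
  let z₁ : (relPsh φ).obj (op T) := ⟨t₁, rfl⟩
  let z₂ : (relPsh φ).obj (op T) := ⟨t₂, hφ.symm⟩
  have hR' : (Sieve.overEquiv T).symm R ∈ (J.over S) T := J.overEquiv_symm_mem_over T R hR
  have hz : z₁ = z₂ := by
    refine (hG _ hR').ext ?_
    intro T' g hg
    have hg' : R g.left := hg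
    apply Subtype.ext
    show F.map g.left.op t₁ = F.map g.left.op t₂
    rw [h₁ g.left hg', h₂ g.left hg']
  exact congrArg Subtype.val hz

lemma sheaf_rel_of_sheaf (hS : Presieve.IsSheaf J (yoneda.obj S)) (hF : Presieve.IsSheaf J F) :
    Presieve.IsSheaf (J.over S) (relPsh φ) := by
  refine (sep_of_sep J φ hF.isSeparated).isSheaf ?_
  intro T R hR x hx
  have hR' : Sieve.overEquiv T R ∈ J T.left := hR
  let y : Presieve.FamilyOfElements F (Sieve.overEquiv T R).arrows := fun U f hf =>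
    (x (Over.homMk f : Over.mk (f ≫ T.hom) ⟶ T) ((Sieve.overEquiv_iff _ _).mp hf)).1
  have hy : y.Compatible := by
    intro U₁ U₂ V g₁ g₂ f₁ f₂ h₁ h₂ e
    have h₁' := (Sieve.overEquiv_iff _ _).mp h₁
    have h₂' := (Sieve.overEquiv_iff _ _).mp h₂
    have hw : g₂ ≫ (Over.mk (f₂ ≫ T.hom)).hom = (Over.mk (g₁ ≫ f₁ ≫ T.hom)).hom := by
      show g₂ ≫ f₂ ≫ T.hom = g₁ ≫ f₁ ≫ T.hom
      rw [← Category.assoc, ← e, Category.assoc]
    have := hx (Over.homMk g₁ rfl : Over.mk (g₁ ≫ f₁ ≫ T.hom) ⟶ Over.mk (f₁ ≫ T.hom))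
      (Over.homMk g₂ hw : Over.mk (g₁ ≫ f₁ ≫ T.hom) ⟶ Over.mk (f₂ ≫ T.hom)) h₁' h₂'
      (Over.OverMorphism.ext e)
    exact congrArg Subtype.val this
  have ht := (hF _ hR').isAmalgamation hy
  have hφt : φ.app (op T.left) ((hF _ hR').amalgamate y hy) = T.hom := by
    refine (hS _ hR').isSeparatedFor.ext ?_
    intro U f hf
    rw [← NatTrans.naturality_apply φ f.op ((hF _ hR').amalgamate y hy), ht f hf]
    exact (x (Over.homMk f : Over.mk (f ≫ T.hom) ⟶ T) ((Sieve.overEquiv_iff _ _).mp hf)).2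
  refine ⟨⟨(hF _ hR').amalgamate y hy, hφt⟩, ?_⟩
  intro T' g hg
  have hw : 𝟙 (Over.mk (g.left ≫ T.hom)).left ≫ T'.hom = (Over.mk (g.left ≫ T.hom)).hom := by
    show 𝟙 _ ≫ T'.hom = g.left ≫ T.hom
    rw [Category.id_comp, Over.w g]
  let θ : Over.mk (g.left ≫ T.hom) ⟶ T' := Over.homMk (𝟙 _) hw
  have hθ : θ ≫ g = (Over.homMk g.left : Over.mk (g.left ≫ T.hom) ⟶ T) :=
    Over.OverMorphism.ext (Category.id_comp _)
  have hg' : R (Over.homMk g.left : Over.mk (g.left ≫ T.hom) ⟶ T) :=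
    hθ ▸ R.downward_closed hg θ
  have hf : Sieve.overEquiv T R g.left := (Sieve.overEquiv_iff _ _).mpr hg'
  have e1 := ht g.left hf
  have e2 := hx (𝟙 _) θ hg' hg (by rw [Category.id_comp, hθ])
  have e3 := congrArg Subtype.val e2
  apply Subtype.ext
  show F.map g.left.op ((hF _ hR').amalgamate y hy) = (x g hg).1
  rw [e1]
  show (x (Over.homMk g.left : Over.mk (g.left ≫ T.hom) ⟶ T) hg').1 = (x g hg).1
  simpa [relPsh_map_val, θ] using e3

lemma sheaf_of_sheaf_rel (hS : Presieve.IsSheaf J (yoneda.obj S))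
    (hG : Presieve.IsSheaf (J.over S) (relPsh φ)) : Presieve.IsSheaf J F := by
  refine (sep_of_sep_rel J φ hS hG.isSeparated).isSheaf ?_
  intro U R hR x hx
  let τ : Presieve.FamilyOfElements (yoneda.obj S) R.arrows :=
    fun V f hf => φ.app (op V) (x f hf)
  have hτ : τ.Compatible := by
    intro V₁ V₂ W g₁ g₂ f₁ f₂ h₁ h₂ e
    show (yoneda.obj S).map g₁.op (φ.app _ (x f₁ h₁)) = (yoneda.obj S).map g₂.op (φ.app _ (x f₂ h₂))
    rw [← NatTrans.naturality_apply φ g₁.op (x f₁ h₁), ← NatTrans.naturality_apply φ g₂.op (x f₂ h₂),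
      hx g₁ g₂ h₁ h₂ e]
  have ht : ∀ (V : C) (f : V ⟶ U) (hf : R f),
      f ≫ (hS R hR).amalgamate τ hτ = φ.app (op V) (x f hf) :=
    fun V f hf => (hS R hR).valid_glue hτ f hf
  let T : Over S := Over.mk ((hS R hR).amalgamate τ hτ)
  have hR' : (Sieve.overEquiv T).symm R ∈ (J.over S) T := J.overEquiv_symm_mem_over T R hR
  let z : Presieve.FamilyOfElements (relPsh φ) ((Sieve.overEquiv T).symm R).arrows :=
    fun T' g hg => ⟨x g.left hg, by rw [← ht _ g.left hg]; exact Over.w g⟩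
  have hz : z.Compatible := by
    intro T₁ T₂ W g₁ g₂ f₁ f₂ h₁ h₂ e
    apply Subtype.ext
    show F.map g₁.left.op (x f₁.left h₁) = F.map g₂.left.op (x f₂.left h₂)
    exact hx g₁.left g₂.left h₁ h₂ (congrArg CommaMorphism.left e)
  have hs := (hG _ hR').isAmalgamation hz
  refine ⟨((hG _ hR').amalgamate z hz).1, ?_⟩
  intro V f hf
  exact congrArg Subtype.val
    (hs (Over.homMk f : Over.mk (f ≫ (hS R hR).amalgamate τ hτ) ⟶ T) hf)

theorem main6057 {C : Type u₁} [Category.{v₁} C] (J : GrothendieckTopology C)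
    {S : C} (hS : Presieve.IsSheaf J (yoneda.obj S)) {F : Cᵒᵖ ⥤ Type v₁} (φ : F ⟶ yoneda.obj S) :
    (Presieve.IsSeparated (J.over S) (ShfCat.relPsh φ) ↔ Presieve.IsSeparated J F) ∧
    (Presieve.IsSheaf (J.over S) (ShfCat.relPsh φ) ↔ Presieve.IsSheaf J F) :=
  ⟨⟨sep_of_sep_rel J φ hS, sep_of_sep J φ⟩, ⟨sheaf_of_sheaf_rel J φ hS, sheaf_rel_of_sheaf J φ hS⟩⟩

end Groth.Agent.Lib.Helper29.RelPshSheaf
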