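import Mathlib

/-!
# Counting pairs (binary quadratic form, binary form of degree n) by resultant (helper29)
-/

set_option autoImplicit false
open Polynomial

namespace Groth.Agent.Lib.Helper29.ResCount

universe u

/-! ### counting toolkit -/

section Toolkit

theorem card_split {α : Type*} [Finite α] (C P : α → Prop) :
    Nat.card {x // P x} = Nat.card {x // C x ∧ P x} + Nat.card {x // ¬ C x ∧ P x} := by
  classical
  rw [← Nat.card_sum]
  apply Nat.card_congr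
  exact
    { toFun := fun x => if h : C x.1 then Sum.inl ⟨x.1, h, x.2⟩ else Sum.inr ⟨x.1, h, x.2⟩
      invFun := fun y => Sum.elim (fun z => ⟨z.1, z.2.2⟩) (fun z => ⟨z.1, z.2.2⟩) y
      left_inv := fun x => by
        by_cases h : C x.1
        · simp [h]
        · simp [h]
      right_inv := fun y => by
        rcases y with ⟨z, hz, hP⟩ | ⟨z, hz, hP⟩
        · simp [hz]
        · simp [hz] }

theorem card_prod_eq_sum {α β : Type*} [Fintype α] [Finite β] (D : α → β → Prop) :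
    Nat.card {p : α × β // D p.1 p.2} = ∑ a, Nat.card {b : β // D a b} := by
  rw [Nat.card_congr (Equiv.subtypeProdEquivSigmaSubtype D), Nat.card_sigma]

theorem card_and_prod {α β : Type*} (P : α → Prop) (Q : β → Prop) :
    Nat.card {p : α × β // P p.1 ∧ Q p.2} = Nat.card {a // P a} * Nat.card {b // Q b} := by
  rw [← Nat.card_prod]
  exact Nat.card_congr Equiv.subtypeProdEquivProd

theorem card_true (α : Type*) : Nat.card {x : α // True} = Nat.card α :=
  Nat.card_congr (Equiv.subtypeUnivEquiv (fun _ => trivial))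

theorem card_iff {α : Type*} {P Q : α → Prop} (h : ∀ x, P x ↔ Q x) :
    Nat.card {x // P x} = Nat.card {x // Q x} :=
  Nat.card_congr (Equiv.subtypeEquivRight h)

theorem card_fiber_mul {F V W : Type*} [Field F] [AddCommGroup V] [Module F V]
    [AddCommGroup W] [Module F W] [Finite V] [Finite W]
    (π : V →ₗ[F] W) (hπ : Function.Surjective π) (P : W → Prop) :
    Nat.card {v : V // P (π v)} * Nat.card W = Nat.card V * Nat.card {w : W // P w} := by
  obtain ⟨s, hs⟩ := π.exists_rightInverse_of_surjective (LinearMap.range_eq_top.2 hπ)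
  have hs' : ∀ w, π (s w) = w := fun w => LinearMap.congr_fun hs w
  obtain ⟨e, he⟩ : ∃ e : V ≃ W × LinearMap.ker π, ∀ v, (e v).1 = π v :=
    ⟨{ toFun := fun v => (π v, ⟨v - s (π v), by
          rw [LinearMap.mem_ker, map_sub, hs', sub_self]⟩)
       invFun := fun p => s p.1 + p.2.1
       left_inv := fun v => by
         show s (π v) + (v - s (π v)) = v
         abel
       right_inv := fun p => by
         have hk : π p.2.1 = 0 := LinearMap.mem_ker.1 p.2.2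
         have h1 : π (s p.1 + p.2.1) = p.1 := by rw [map_add, hs', hk, add_zero]
         apply Prod.ext
         · exact h1
         · apply Subtype.ext
           show s p.1 + p.2.1 - s (π (s p.1 + p.2.1)) = p.2.1
           rw [h1]; abel }, fun v => rfl⟩
  have h1 : Nat.card V = Nat.card W * Nat.card (LinearMap.ker π) := by
    rw [Nat.card_congr e, Nat.card_prod]
  have h2 : Nat.card {v : V // P (π v)} =
      Nat.card {w : W // P w} * Nat.card (LinearMap.ker π) := by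
    rw [← Nat.card_prod]
    have e1 : {v : V // P (π v)} ≃ {x : W × LinearMap.ker π // P x.1} :=
      e.subtypeEquiv (fun v => by
        show P (π v) ↔ P (e v).1
        rw [he])
    have e2 : {x : W × LinearMap.ker π // P x.1} ≃ {w : W // P w} × LinearMap.ker π :=
      Equiv.prodSubtypeFstEquivSubtypeProd
    exact Nat.card_congr (e1.trans e2)
  rw [h1, h2]; ring

theorem card_fiber_mul_param {F A V W : Type*} [Field F] [Fintype A] [AddCommGroup V] [Module F V]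
    [AddCommGroup W] [Module F W] [Finite V] [Finite W]
    (C : A → Prop) (π : A → V →ₗ[F] W) (hπ : ∀ a, C a → Function.Surjective (π a))
    (P : A → W → Prop) :
    Nat.card {p : A × V // C p.1 ∧ P p.1 (π p.1 p.2)} * Nat.card W =
      Nat.card V * Nat.card {p : A × W // C p.1 ∧ P p.1 p.2} := by
  have h1 : Nat.card {p : A × V // C p.1 ∧ P p.1 (π p.1 p.2)} =
      ∑ a, Nat.card {v : V // C a ∧ P a (π a v)} :=
    card_prod_eq_sum (fun a v => C a ∧ P a (π a v))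
  have h2 : Nat.card {p : A × W // C p.1 ∧ P p.1 p.2} = ∑ a, Nat.card {w : W // C a ∧ P a w} :=
    card_prod_eq_sum (fun a w => C a ∧ P a w)
  rw [h1, h2, Finset.sum_mul, Finset.mul_sum]
  apply Finset.sum_congr rfl
  intro a _
  by_cases hC : C a
  · exact card_fiber_mul (π a) (hπ a hC) (fun w => C a ∧ P a w)
  · have h1 : IsEmpty {v : V // C a ∧ P a (π a v)} := ⟨fun v => hC v.2.1⟩
    have h2 : IsEmpty {w : W // C a ∧ P a w} := ⟨fun w => hC w.2.1⟩
    rw [Nat.card_of_isEmpty (α := {v : V // C a ∧ P a (π a v)}),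
      Nat.card_of_isEmpty (α := {w : W // C a ∧ P a w}), zero_mul, mul_zero]

theorem nat_sub_aux (X A B C D : ℕ) (h : X + B + C = A + D) (hD : D ≤ X) :
    X = A - B - C + D := by omega

end Toolkit

section Fld
variable {F : Type u} [Field F]

theorem card_ne0 [Finite F] : Nat.card {x : F // x ≠ 0} + 1 = Nat.card F := by
  rw [← Nat.card_congr (unitsEquivNeZero : Fˣ ≃ {a : F // a ≠ 0})]
  exact (Nat.card_eq_card_units_add_one F).symm

theorem card_eq0 : Nat.card {x : F // x = 0} = 1 :=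
  Nat.card_eq_one_iff_unique.2 ⟨⟨fun x y => Subtype.ext (x.2.trans y.2.symm)⟩, ⟨⟨0, rfl⟩⟩⟩

/-- coordinates `(a 2, a 1, a 0)` -/
def e3 : (Fin 3 → F) ≃ F × F × F where
  toFun a := (a 2, a 1, a 0)
  invFun y := ![y.2.2, y.2.1, y.1]
  left_inv a := by
    funext i
    fin_cases i <;> rfl
  right_inv y := rfl

omit [Field F] in
theorem card_box3 (P2 P1 P0 : F → Prop) :
    Nat.card {a : Fin 3 → F // P2 (a 2) ∧ P1 (a 1) ∧ P0 (a 0)} =
      Nat.card {x // P2 x} * (Nat.card {x // P1 x} * Nat.card {x // P0 x}) := by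
  have h1 : Nat.card {a : Fin 3 → F // P2 (a 2) ∧ P1 (a 1) ∧ P0 (a 0)} =
      Nat.card {y : F × F × F // P2 y.1 ∧ (P1 y.2.1 ∧ P0 y.2.2)} :=
    Nat.card_congr (e3.subtypeEquiv (fun a => Iff.rfl))
  rw [h1, card_and_prod P2 (fun z : F × F => P1 z.1 ∧ P0 z.2), card_and_prod P1 P0]

/-! ### polynomials from coefficient vectors -/

/-- the polynomial with coefficient vector `b` -/
noncomputable def gp (n : ℕ) (b : Fin (n + 1) → F) : F[X] :=
  ∑ j : Fin (n + 1), C (b j) * X ^ (j : ℕ)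

/-- the quadratic with coefficient vector `a` -/
noncomputable def fp (a : Fin 3 → F) : F[X] := ∑ i : Fin 3, C (a i) * X ^ (i : ℕ)

theorem fp_eq_gp (a : Fin 3 → F) : fp a = gp 2 a := rfl

theorem gp_natDegree_le (n : ℕ) (b : Fin (n + 1) → F) : (gp n b).natDegree ≤ n := by
  unfold gp
  apply natDegree_sum_le_of_forall_le
  intro j _
  exact (natDegree_C_mul_X_pow_le _ _).trans (Nat.lt_succ_iff.1 j.2)

theorem gp_coeff (n : ℕ) (b : Fin (n + 1) → F) (j : Fin (n + 1)) :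
    (gp n b).coeff j = b j := by
  unfold gp
  rw [finsetSum_coeff, Finset.sum_eq_single j]
  · rw [coeff_C_mul_X_pow, if_pos rfl]
  · intro i _ hij
    rw [coeff_C_mul_X_pow, if_neg]
    intro h
    exact hij (Fin.ext h.symm)
  · intro h
    exact absurd (Finset.mem_univ _) h

theorem gp_add (n : ℕ) (b b' : Fin (n + 1) → F) : gp n (b + b') = gp n b + gp n b' := by
  unfold gp
  rw [← Finset.sum_add_distrib]
  apply Finset.sum_congr rfl
  intro j _
  rw [Pi.add_apply, C_add, add_mul]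

theorem gp_smul (n : ℕ) (c : F) (b : Fin (n + 1) → F) : gp n (c • b) = C c * gp n b := by
  unfold gp
  rw [Finset.mul_sum]
  apply Finset.sum_congr rfl
  intro j _
  rw [Pi.smul_apply, smul_eq_mul, C_mul, mul_assoc]

/-- `gp` as a linear map -/
noncomputable def gpL (n : ℕ) : (Fin (n + 1) → F) →ₗ[F] F[X] where
  toFun := gp n
  map_add' := gp_add n
  map_smul' := fun c b => by
    rw [gp_smul, RingHom.id_apply, smul_eq_C_mul]

theorem gp_surj (n : ℕ) (p : F[X]) (hp : p.natDegree ≤ n) : ∃ b, gp n b = p := by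
  refine ⟨fun j => p.coeff j, ?_⟩
  show ∑ j : Fin (n + 1), C (p.coeff (j : ℕ)) * X ^ (j : ℕ) = p
  rw [Fin.sum_univ_eq_sum_range (fun i => C (p.coeff i) * X ^ i) (n + 1)]
  exact (as_sum_range_C_mul_X_pow' p (Nat.lt_succ_of_le hp)).symm

theorem fp_eq (a : Fin 3 → F) : fp a = C (a 0) + C (a 1) * X + C (a 2) * X ^ 2 := by
  simp [fp, Fin.sum_univ_three]

theorem fp_coeff0 (a : Fin 3 → F) : (fp a).coeff 0 = a 0 := gp_coeff 2 a 0
theorem fp_coeff1 (a : Fin 3 → F) : (fp a).coeff 1 = a 1 := gp_coeff 2 a 1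
theorem fp_coeff2 (a : Fin 3 → F) : (fp a).coeff 2 = a 2 := gp_coeff 2 a 2

theorem fp_natDegree_le (a : Fin 3 → F) : (fp a).natDegree ≤ 2 := gp_natDegree_le 2 a

theorem natDegree_lin_le (c d : F) : (C c + C d * X : F[X]).natDegree ≤ 1 := by
  refine natDegree_add_le_of_degree_le ?_ ?_
  · rw [natDegree_C]; exact Nat.zero_le 1
  · exact (natDegree_C_mul_le _ _).trans natDegree_X_le

/-! ### the resultant in the three cases -/

theorem resultant_two_one (f g : F[X]) :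
    resultant f g 2 1 =
      f.coeff 2 * g.coeff 0 ^ 2 - f.coeff 1 * g.coeff 0 * g.coeff 1 + f.coeff 0 * g.coeff 1 ^ 2 := by
  have h : (sylvester f g 2 1 : Matrix (Fin 3) (Fin 3) F) =
      !![g.coeff 0, 0, f.coeff 0; g.coeff 1, g.coeff 0, f.coeff 1; 0, g.coeff 1, f.coeff 2] := by
    ext i j
    fin_cases i <;> fin_cases j <;> simp [sylvester, Fin.addCases]
  show (sylvester f g 2 1 : Matrix (Fin 3) (Fin 3) F).det = _
  rw [h, Matrix.det_fin_three]
  simp only [Matrix.of_apply, Matrix.cons_val', Matrix.cons_val_zero, Matrix.cons_val_fin_one,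
    Matrix.cons_val_one, Matrix.cons_val]
  ring

theorem monic_aux (a : Fin 3 → F) (h2 : a 2 ≠ 0) :
    (fp a * C (a 2)⁻¹).Monic ∧ (fp a * C (a 2)⁻¹).natDegree = 2 ∧ (fp a).natDegree = 2 := by
  have hfdeg : (fp a).natDegree ≤ 2 := fp_natDegree_le a
  have hc2 : (fp a).coeff 2 = a 2 := fp_coeff2 a
  have hnat : (fp a).natDegree = 2 :=
    natDegree_eq_of_le_of_coeff_ne_zero hfdeg (by rw [hc2]; exact h2)
  have hf0 : fp a ≠ 0 := by
    intro h
    rw [h, natDegree_zero] at hnat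
    exact absurd hnat (by norm_num)
  have hlc : (fp a).leadingCoeff = a 2 := by rw [leadingCoeff, hnat, hc2]
  refine ⟨?_, ?_, hnat⟩
  · have := monic_mul_leadingCoeff_inv hf0
    rwa [hlc] at this
  · rw [natDegree_mul_C (inv_ne_zero h2), hnat]

theorem res_case_BC (n : ℕ) (a : Fin 3 → F) (g : F[X]) (h2 : a 2 = 0) :
    resultant (fp a) g 2 n =
      (-1) ^ n * g.coeff n * resultant (C (a 0) + C (a 1) * X) g 1 n := by
  have hf : fp a = C (a 0) + C (a 1) * X := by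
    rw [fp_eq, h2, C_0, zero_mul, add_zero]
  rw [hf]
  exact resultant_succ_left_deg _ g 1 n (natDegree_lin_le _ _)

theorem res_case_C (n : ℕ) (a : Fin 3 → F) (g : F[X]) (h2 : a 2 = 0) (h1 : a 1 = 0) :
    resultant (fp a) g 2 n = g.coeff n ^ 2 * a 0 ^ n := by
  rw [res_case_BC n a g h2, h1, C_0, zero_mul, add_zero, resultant_C_left, one_mul, pow_one]
  have h : ((-1 : F) ^ n) * ((-1) ^ n) = 1 := by rw [← mul_pow]; norm_num
  linear_combination (g.coeff n ^ 2 * a 0 ^ n) * h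

theorem res_case_B (n : ℕ) (a : Fin 3 → F) (g : F[X]) (hg : g.natDegree ≤ n) (h2 : a 2 = 0)
    (h1 : a 1 ≠ 0) :
    resultant (fp a) g 2 n =
      (-1) ^ n * g.coeff n * (a 1 ^ n * eval (-(a 0 / a 1)) g) := by
  rw [res_case_BC n a g h2]
  have hlin : (C (a 0) + C (a 1) * X : F[X]) = C (a 1) * (X + C (a 0 / a 1)) := by
    have h : a 1 * (a 0 / a 1) = a 0 := by field_simp
    rw [mul_add, ← C_mul, h, add_comm]
  rw [hlin, resultant_C_mul_left, resultant_X_add_C_left g n _ hg]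

theorem res_case_A (n : ℕ) (hn : 2 ≤ n) (a : Fin 3 → F) (g : F[X]) (hg : g.natDegree ≤ n)
    (h2 : a 2 ≠ 0) :
    resultant (fp a) g 2 n = a 2 ^ (n - 1) *
      (a 2 * (g %ₘ (fp a * C (a 2)⁻¹)).coeff 0 ^ 2
        - a 1 * (g %ₘ (fp a * C (a 2)⁻¹)).coeff 0 * (g %ₘ (fp a * C (a 2)⁻¹)).coeff 1
        + a 0 * (g %ₘ (fp a * C (a 2)⁻¹)).coeff 1 ^ 2) := by
  have hfdeg : (fp a).natDegree ≤ 2 := fp_natDegree_le a
  have hc2 : (fp a).coeff 2 = a 2 := fp_coeff2 a
  obtain ⟨hmonic', hmdeg', -⟩ := monic_aux a h2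
  obtain ⟨m, hm⟩ : ∃ m, m = fp a * C (a 2)⁻¹ := ⟨_, rfl⟩
  have hmonic : m.Monic := by rw [hm]; exact hmonic'
  have hmdeg : m.natDegree = 2 := by rw [hm]; exact hmdeg'
  have hm1 : m ≠ 1 := by
    intro h
    rw [h, natDegree_one] at hmdeg
    exact absurd hmdeg (by norm_num)
  rw [← hm]
  obtain ⟨r, hr⟩ : ∃ r, r = g %ₘ m := ⟨_, rfl⟩
  obtain ⟨s, hs⟩ : ∃ s, s = g /ₘ m := ⟨_, rfl⟩
  rw [← hr]
  have hr1 : r.natDegree ≤ 1 := by
    have := natDegree_modByMonic_lt g hmonic hm1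
    rw [hmdeg, ← hr] at this
    omega
  have hsdeg : (C (a 2)⁻¹ * s).natDegree + 2 ≤ n := by
    have h1 : (C (a 2)⁻¹ * s).natDegree ≤ s.natDegree := natDegree_C_mul_le _ _
    have h2' : s.natDegree = g.natDegree - 2 := by
      rw [hs, natDegree_divByMonic g hmonic, hmdeg]
    omega
  have hgeq : r + fp a * (C (a 2)⁻¹ * s) = g := by
    rw [← mul_assoc, ← hm, hr, hs]
    exact modByMonic_add_div g m
  have e1 : resultant (fp a) g 2 n = resultant (fp a) r 2 n := by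
    rw [← hgeq]
    exact resultant_add_mul_right (fp a) r _ 2 n hsdeg hfdeg
  have hn1 : 1 + (n - 1) = n := by omega
  have e2 : resultant (fp a) r 2 n = (fp a).coeff 2 ^ (n - 1) * resultant (fp a) r 2 1 := by
    have := resultant_add_right_deg (fp a) r 2 1 (n - 1) hr1
    rwa [hn1] at this
  rw [e1, e2, resultant_two_one, hc2, fp_coeff1, fp_coeff0]

/-! ### the auxiliary linear maps -/

/-- the quadratic form `a₂h₀² - a₁h₀h₁ + a₀h₁²` -/
def Qf (a : Fin 3 → F) (w : F × F) : F := a 2 * w.1 ^ 2 - a 1 * w.1 * w.2 + a 0 * w.2 ^ 2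

/-- nonvanishing of the resultant -/
def Rne (n : ℕ) (a : Fin 3 → F) (b : Fin (n + 1) → F) : Prop :=
  resultant (fp a) (gp n b) 2 n ≠ 0

/-- coefficients of the remainder modulo the normalised quadratic -/
noncomputable def remL (n : ℕ) (a : Fin 3 → F) : (Fin (n + 1) → F) →ₗ[F] F × F :=
  ((lcoeff F 0).prod (lcoeff F 1)).comp ((modByMonicHom (fp a * C (a 2)⁻¹)).comp (gpL n))

theorem remL_apply (n : ℕ) (a : Fin 3 → F) (b : Fin (n + 1) → F) :
    remL n a b = ((gp n b %ₘ (fp a * C (a 2)⁻¹)).coeff 0,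
      (gp n b %ₘ (fp a * C (a 2)⁻¹)).coeff 1) := rfl

theorem iffA (n : ℕ) (hn : 2 ≤ n) (a : Fin 3 → F) (b : Fin (n + 1) → F) (h2 : a 2 ≠ 0) :
    Rne n a b ↔ Qf a (remL n a b) ≠ 0 := by
  unfold Rne
  rw [res_case_A n hn a (gp n b) (gp_natDegree_le n b) h2, remL_apply, mul_ne_zero_iff]
  exact ⟨fun h => h.2, fun h => ⟨pow_ne_zero _ h2, h⟩⟩

theorem remL_surj (n : ℕ) (hn : 1 ≤ n) (a : Fin 3 → F) (h2 : a 2 ≠ 0) :
    Function.Surjective (remL n a) := by
  obtain ⟨hmonic, hmdeg, -⟩ := monic_aux a h2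
  rintro ⟨h0, h1⟩
  have hpdeg : (C h0 + C h1 * X : F[X]).natDegree ≤ 1 := natDegree_lin_le h0 h1
  obtain ⟨b, hb⟩ := gp_surj n (C h0 + C h1 * X) (hpdeg.trans hn)
  refine ⟨b, ?_⟩
  rw [remL_apply, hb]
  have hmod : (C h0 + C h1 * X : F[X]) %ₘ (fp a * C (a 2)⁻¹) = C h0 + C h1 * X :=
    (modByMonic_eq_self_iff hmonic).2 (degree_lt_degree (by rw [hmdeg]; omega))
  rw [hmod]
  simp [coeff_C]

/-- last coefficient and value at the finite root -/
noncomputable def evL (n : ℕ) (a : Fin 3 → F) : (Fin (n + 1) → F) →ₗ[F] F × F :=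
  (LinearMap.proj (Fin.last n) : (Fin (n + 1) → F) →ₗ[F] F).prod
    ((leval (-(a 0 / a 1))).comp (gpL n))

theorem evL_apply (n : ℕ) (a : Fin 3 → F) (b : Fin (n + 1) → F) :
    evL n a b = (b (Fin.last n), eval (-(a 0 / a 1)) (gp n b)) := rfl

theorem gp_coeff_last (n : ℕ) (b : Fin (n + 1) → F) : (gp n b).coeff n = b (Fin.last n) := by
  have := gp_coeff n b (Fin.last n)
  rwa [Fin.val_last] at this

theorem iffB (n : ℕ) (a : Fin 3 → F) (b : Fin (n + 1) → F) (h2 : a 2 = 0) (h1 : a 1 ≠ 0) :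
    Rne n a b ↔ (evL n a b).1 ≠ 0 ∧ (evL n a b).2 ≠ 0 := by
  unfold Rne
  rw [res_case_B n a (gp n b) (gp_natDegree_le n b) h2 h1, evL_apply, gp_coeff_last]
  show _ ↔ b (Fin.last n) ≠ 0 ∧ eval (-(a 0 / a 1)) (gp n b) ≠ 0
  simp only [mul_ne_zero_iff]
  constructor
  · rintro ⟨⟨-, hb⟩, -, he⟩
    exact ⟨hb, he⟩
  · rintro ⟨hb, he⟩
    exact ⟨⟨pow_ne_zero _ (neg_ne_zero.2 one_ne_zero), hb⟩, pow_ne_zero _ h1, he⟩

theorem iffC (n : ℕ) (hn : 1 ≤ n) (a : Fin 3 → F) (b : Fin (n + 1) → F) (h2 : a 2 = 0)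
    (h1 : a 1 = 0) :
    Rne n a b ↔ a 0 ≠ 0 ∧ b (Fin.last n) ≠ 0 := by
  unfold Rne
  rw [res_case_C n a (gp n b) h2 h1, gp_coeff_last, mul_ne_zero_iff,
    pow_ne_zero_iff (show (2 : ℕ) ≠ 0 by norm_num), pow_ne_zero_iff (show n ≠ 0 by omega)]
  exact and_comm

theorem evL_surj (n : ℕ) (hn : 1 ≤ n) (a : Fin 3 → F) : Function.Surjective (evL n a) := by
  rintro ⟨s, t⟩
  obtain ⟨α, hα⟩ : ∃ α, α = -(a 0 / a 1) := ⟨_, rfl⟩
  have hpdeg : (C (t - s * α ^ n) + C s * X ^ n : F[X]).natDegree ≤ n := by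
    refine natDegree_add_le_of_degree_le ?_ (natDegree_C_mul_X_pow_le _ _)
    rw [natDegree_C]; exact Nat.zero_le n
  obtain ⟨b, hb⟩ := gp_surj n _ hpdeg
  refine ⟨b, ?_⟩
  rw [evL_apply, ← hα, hb]
  have hcoef : b (Fin.last n) = s := by
    rw [← gp_coeff_last n b, hb, coeff_add, coeff_C_mul, coeff_X_pow, if_pos rfl, mul_one, coeff_C,
      if_neg (show ¬ n = 0 by omega), zero_add]
  rw [hcoef, eval_add, eval_C, eval_mul, eval_C, eval_pow, eval_X]
  congr 1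
  ring

/-- `(a₂, Q_a(h))` as a linear function of `a` -/
noncomputable def qL (h : F × F) : (Fin 3 → F) →ₗ[F] F × F where
  toFun a := (a 2, Qf a h)
  map_add' a a' := by
    apply Prod.ext
    · rfl
    · show Qf (a + a') h = Qf a h + Qf a' h
      unfold Qf
      simp only [Pi.add_apply]
      ring
  map_smul' c a := by
    apply Prod.ext
    · rfl
    · show Qf (c • a) h = c * Qf a h
      unfold Qf
      simp only [Pi.smul_apply, smul_eq_mul]
      ring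

theorem qL_surj (h : F × F) (hh : h.2 ≠ 0) : Function.Surjective (qL h) := by
  rintro ⟨s, t⟩
  obtain ⟨a, ha2, ha1, ha0⟩ : ∃ a : Fin 3 → F, a 2 = s ∧ a 1 = 0 ∧
      a 0 = (t - s * h.1 ^ 2) / h.2 ^ 2 :=
    ⟨![(t - s * h.1 ^ 2) / h.2 ^ 2, 0, s], rfl, rfl, rfl⟩
  refine ⟨a, ?_⟩
  show (a 2, Qf a h) = (s, t)
  unfold Qf
  rw [ha2, ha1, ha0, div_mul_cancel₀ _ (pow_ne_zero 2 hh)]
  congr 1
  ring

theorem card_last_ne [Finite F] (n : ℕ) :
    Nat.card {b : Fin (n + 1) → F // b (Fin.last n) ≠ 0} * Nat.card F =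
      Nat.card (Fin (n + 1) → F) * Nat.card {x : F // x ≠ 0} :=
  card_fiber_mul (LinearMap.proj (Fin.last n) : (Fin (n + 1) → F) →ₗ[F] F)
    (fun x => ⟨fun _ => x, rfl⟩) (fun x => x ≠ 0)

/-! ### scaling action, for the count of resultant one -/

theorem Rval_act (n m : ℕ) (hnm : n = 2 * m + 1) (c : F) (hc : c ≠ 0) (a : Fin 3 → F)
    (b : Fin (n + 1) → F) :
    resultant (fp (c • a)) (gp n ((c⁻¹) ^ m • b)) 2 n = c * resultant (fp a) (gp n b) 2 n := by
  have h : c ^ n * ((c⁻¹ ^ m) ^ 2) = c := by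
    rw [hnm, ← pow_mul, inv_pow, pow_succ, mul_comm m 2, mul_right_comm,
      mul_inv_cancel₀ (pow_ne_zero _ hc), one_mul]
  rw [fp_eq_gp, gp_smul, gp_smul, ← fp_eq_gp, resultant_C_mul_left, resultant_C_mul_right,
    ← mul_assoc, h]

/-- the scaling action on pairs -/
def actE (n m : ℕ) (c : F) (hc : c ≠ 0) :
    ((Fin 3 → F) × (Fin (n + 1) → F)) ≃ ((Fin 3 → F) × (Fin (n + 1) → F)) where
  toFun p := (c • p.1, (c⁻¹) ^ m • p.2)
  invFun p := (c⁻¹ • p.1, c ^ m • p.2)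
  left_inv p := by
    apply Prod.ext
    · show c⁻¹ • c • p.1 = p.1
      rw [smul_smul, inv_mul_cancel₀ hc, one_smul]
    · show c ^ m • (c⁻¹) ^ m • p.2 = p.2
      rw [smul_smul, ← mul_pow, mul_inv_cancel₀ hc, one_pow, one_smul]
  right_inv p := by
    apply Prod.ext
    · show c • c⁻¹ • p.1 = p.1
      rw [smul_smul, mul_inv_cancel₀ hc, one_smul]
    · show (c⁻¹) ^ m • c ^ m • p.2 = p.2
      rw [smul_smul, ← mul_pow, inv_mul_cancel₀ hc, one_pow, one_smul]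

theorem fiber_eq (n m : ℕ) (hnm : n = 2 * m + 1) (c : F) (hc : c ≠ 0) :
    Nat.card {p : (Fin 3 → F) × (Fin (n + 1) → F) // resultant (fp p.1) (gp n p.2) 2 n = c} =
      Nat.card {p : (Fin 3 → F) × (Fin (n + 1) → F) // resultant (fp p.1) (gp n p.2) 2 n = 1} := by
  symm
  apply Nat.card_congr
  exact (actE n m c hc).subtypeEquiv (fun p => by
    show resultant (fp p.1) (gp n p.2) 2 n = 1 ↔
      resultant (fp (c • p.1)) (gp n ((c⁻¹) ^ m • p.2)) 2 n = c
    rw [Rval_act n m hnm c hc]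
    constructor
    · intro h
      rw [h, mul_one]
    · intro h
      exact mul_left_cancel₀ hc (h.trans (mul_one c).symm))

end Fld

section Count
variable {F : Type u} [Field F] [Fintype F]

theorem count_ne (n : ℕ) (hn : 2 ≤ n) :
    ∃ k : ℕ, k + 1 = Nat.card F ∧ 1 ≤ k ∧
      Nat.card {p : (Fin 3 → F) × (Fin (n + 1) → F) // Rne n p.1 p.2} =
        Nat.card F ^ (n + 1) * (k * k * (k + 2)) := by
  classical
  obtain ⟨k, hk⟩ : ∃ k, k = Nat.card {x : F // x ≠ 0} := ⟨_, rfl⟩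
  obtain ⟨q, hq⟩ : ∃ q, q = Nat.card F := ⟨_, rfl⟩
  have hqk : k + 1 = q := by rw [hk, hq]; exact card_ne0
  have hk1 : 1 ≤ k := by
    have h : 1 < Nat.card F := Finite.one_lt_card
    omega
  have hqpos : 0 < q := by omega
  have hV : Nat.card (Fin (n + 1) → F) = q ^ (n + 1) := by
    rw [Nat.card_fun, Nat.card_eq_fintype_card (α := Fin (n + 1)), Fintype.card_fin, hq]
  have hA : Nat.card (Fin 3 → F) = q ^ 3 := by
    rw [Nat.card_fun, Nat.card_eq_fintype_card (α := Fin 3), Fintype.card_fin, hq]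
  have hW : Nat.card (F × F) = q * q := by rw [Nat.card_prod, hq]
  have h0 : Nat.card {x : F // x = 0} = 1 := card_eq0
  have hT : Nat.card {x : F // True} = q := by rw [card_true, hq]
  refine ⟨k, by rw [hqk, hq], hk1, ?_⟩
  rw [← hq]
  -- case C : a 2 = 0, a 1 = 0
  have hNC : Nat.card {p : (Fin 3 → F) × (Fin (n + 1) → F) //
      ¬ p.1 1 ≠ 0 ∧ (¬ p.1 2 ≠ 0 ∧ Rne n p.1 p.2)} * q = k * k * q ^ (n + 1) := by
    have e1 : Nat.card {p : (Fin 3 → F) × (Fin (n + 1) → F) //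
        ¬ p.1 1 ≠ 0 ∧ (¬ p.1 2 ≠ 0 ∧ Rne n p.1 p.2)} =
        Nat.card {p : (Fin 3 → F) × (Fin (n + 1) → F) //
          (p.1 2 = 0 ∧ p.1 1 = 0 ∧ p.1 0 ≠ 0) ∧ p.2 (Fin.last n) ≠ 0} := by
      apply card_iff
      intro p
      constructor
      · rintro ⟨h1, h2, hR⟩
        have h1' : p.1 1 = 0 := not_not.1 h1
        have h2' : p.1 2 = 0 := not_not.1 h2
        have := (iffC n (by omega) p.1 p.2 h2' h1').1 hR
        exact ⟨⟨h2', h1', this.1⟩, this.2⟩
      · rintro ⟨⟨h2, h1, h0'⟩, hb⟩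
        exact ⟨not_not.2 h1, not_not.2 h2, (iffC n (by omega) p.1 p.2 h2 h1).2 ⟨h0', hb⟩⟩
    have e2 := card_last_ne (F := F) n
    rw [hV, ← hk, ← hq] at e2
    rw [e1, card_and_prod (fun a : Fin 3 → F => a 2 = 0 ∧ a 1 = 0 ∧ a 0 ≠ 0)
        (fun b : Fin (n + 1) → F => b (Fin.last n) ≠ 0),
      card_box3 (fun x : F => x = 0) (fun x : F => x = 0) (fun x : F => x ≠ 0), h0, ← hk,
      mul_assoc, e2]
    ring
  -- case B : a 2 = 0, a 1 ≠ 0
  have hNB : Nat.card {p : (Fin 3 → F) × (Fin (n + 1) → F) //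
      p.1 1 ≠ 0 ∧ (¬ p.1 2 ≠ 0 ∧ Rne n p.1 p.2)} * (q * q) =
      q ^ (n + 1) * (k * k * k * q) := by
    have e1 : Nat.card {p : (Fin 3 → F) × (Fin (n + 1) → F) //
        p.1 1 ≠ 0 ∧ (¬ p.1 2 ≠ 0 ∧ Rne n p.1 p.2)} =
        Nat.card {p : (Fin 3 → F) × (Fin (n + 1) → F) //
          (p.1 2 = 0 ∧ p.1 1 ≠ 0 ∧ True) ∧
            ((evL n p.1 p.2).1 ≠ 0 ∧ (evL n p.1 p.2).2 ≠ 0)} := by
      apply card_iff
      intro p
      constructor
      · rintro ⟨h1, h2, hR⟩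
        have h2' : p.1 2 = 0 := not_not.1 h2
        exact ⟨⟨h2', h1, trivial⟩, (iffB n p.1 p.2 h2' h1).1 hR⟩
      · rintro ⟨⟨h2, h1, -⟩, hR⟩
        exact ⟨h1, not_not.2 h2, (iffB n p.1 p.2 h2 h1).2 hR⟩
    have e2 := card_fiber_mul_param (F := F) (A := Fin 3 → F) (V := Fin (n + 1) → F)
      (W := F × F) (fun a => a 2 = 0 ∧ a 1 ≠ 0 ∧ True) (fun a => evL n a)
      (fun a _ => evL_surj n (by omega) a) (fun _ w => w.1 ≠ 0 ∧ w.2 ≠ 0)
    rw [e1, ← hW, e2, hV,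
      card_and_prod (fun a : Fin 3 → F => a 2 = 0 ∧ a 1 ≠ 0 ∧ True)
        (fun w : F × F => w.1 ≠ 0 ∧ w.2 ≠ 0),
      card_box3 (fun x : F => x = 0) (fun x : F => x ≠ 0) (fun _ : F => True),
      card_and_prod (fun x : F => x ≠ 0) (fun x : F => x ≠ 0), h0, hT, ← hk]
    ring
  -- case A : a 2 ≠ 0
  have hTA : Nat.card {p : (Fin 3 → F) × (F × F) // p.1 2 ≠ 0 ∧ Qf p.1 p.2 ≠ 0} =
      q ^ 3 * (k * k) := by
    have s1 : Nat.card {p : (Fin 3 → F) × (F × F) // p.1 2 ≠ 0 ∧ Qf p.1 p.2 ≠ 0} =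
        Nat.card {p : (F × F) × (Fin 3 → F) // p.2 2 ≠ 0 ∧ Qf p.2 p.1 ≠ 0} :=
      Nat.card_congr ((Equiv.prodComm _ _).subtypeEquiv (fun p => Iff.rfl))
    have s2 := card_split (fun p : (F × F) × (Fin 3 → F) => p.1.2 ≠ 0)
      (fun p => p.2 2 ≠ 0 ∧ Qf p.2 p.1 ≠ 0)
    have p2 : Nat.card {p : (F × F) × (Fin 3 → F) //
        p.1.2 ≠ 0 ∧ (p.2 2 ≠ 0 ∧ Qf p.2 p.1 ≠ 0)} = q * q * (k * k * k) := by
      have e3' : Nat.card {p : (F × F) × (Fin 3 → F) //
          p.1.2 ≠ 0 ∧ (p.2 2 ≠ 0 ∧ Qf p.2 p.1 ≠ 0)} =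
          Nat.card {p : (F × F) × (Fin 3 → F) //
            (True ∧ p.1.2 ≠ 0) ∧ ((qL p.1 p.2).1 ≠ 0 ∧ (qL p.1 p.2).2 ≠ 0)} := by
        apply card_iff
        intro p
        exact ⟨fun h => ⟨⟨trivial, h.1⟩, h.2⟩, fun h => ⟨h.1.2, h.2⟩⟩
      have e4 := card_fiber_mul_param (F := F) (A := F × F) (V := Fin 3 → F) (W := F × F)
        (fun h => True ∧ h.2 ≠ 0) (fun h => qL h) (fun h hh => qL_surj h hh.2)
        (fun _ w => w.1 ≠ 0 ∧ w.2 ≠ 0)
      have e5 : Nat.card {p : (F × F) × (Fin 3 → F) //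
          p.1.2 ≠ 0 ∧ (p.2 2 ≠ 0 ∧ Qf p.2 p.1 ≠ 0)} * (q * q) =
          q * q * (k * k * k) * (q * q) := by
        rw [e3', ← hW, e4, hA,
          card_and_prod (fun h : F × F => True ∧ h.2 ≠ 0) (fun w : F × F => w.1 ≠ 0 ∧ w.2 ≠ 0),
          card_and_prod (fun _ : F => True) (fun x : F => x ≠ 0),
          card_and_prod (fun x : F => x ≠ 0) (fun x : F => x ≠ 0), hT, ← hk, hW]
        ring
      exact Nat.eq_of_mul_eq_mul_right (Nat.mul_pos hqpos hqpos) e5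
    have p1 : Nat.card {p : (F × F) × (Fin 3 → F) //
        ¬ p.1.2 ≠ 0 ∧ (p.2 2 ≠ 0 ∧ Qf p.2 p.1 ≠ 0)} = k * 1 * (k * (q * q)) := by
      have e3' : Nat.card {p : (F × F) × (Fin 3 → F) //
          ¬ p.1.2 ≠ 0 ∧ (p.2 2 ≠ 0 ∧ Qf p.2 p.1 ≠ 0)} =
          Nat.card {p : (F × F) × (Fin 3 → F) //
            (p.1.1 ≠ 0 ∧ p.1.2 = 0) ∧ (p.2 2 ≠ 0 ∧ True ∧ True)} := by
        apply card_iff
        intro p
        constructor
        · rintro ⟨h1, h2, hQ⟩
          have h1' : p.1.2 = 0 := not_not.1 h1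
          refine ⟨⟨?_, h1'⟩, h2, trivial, trivial⟩
          intro h0'
          apply hQ
          unfold Qf
          rw [h1', h0']
          ring
        · rintro ⟨⟨h0', h1⟩, h2, -, -⟩
          refine ⟨not_not.2 h1, h2, ?_⟩
          have hne : p.2 2 * p.1.1 ^ 2 ≠ 0 := mul_ne_zero h2 (pow_ne_zero 2 h0')
          intro h
          apply hne
          unfold Qf at h
          rw [h1] at h
          linear_combination h
      rw [e3', card_and_prod (fun h : F × F => h.1 ≠ 0 ∧ h.2 = 0)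
          (fun a : Fin 3 → F => a 2 ≠ 0 ∧ True ∧ True),
        card_and_prod (fun x : F => x ≠ 0) (fun x : F => x = 0),
        card_box3 (fun x : F => x ≠ 0) (fun _ : F => True) (fun _ : F => True), h0, hT, ← hk]
    rw [s1, s2, p2, p1, ← hqk]
    ring
  have hNA : Nat.card {p : (Fin 3 → F) × (Fin (n + 1) → F) // p.1 2 ≠ 0 ∧ Rne n p.1 p.2} *
      (q * q) = q ^ (n + 1) * (q ^ 3 * (k * k)) := by
    have e1 : Nat.card {p : (Fin 3 → F) × (Fin (n + 1) → F) // p.1 2 ≠ 0 ∧ Rne n p.1 p.2} =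
        Nat.card {p : (Fin 3 → F) × (Fin (n + 1) → F) //
          p.1 2 ≠ 0 ∧ Qf p.1 (remL n p.1 p.2) ≠ 0} := by
      apply card_iff
      intro p
      constructor
      · rintro ⟨h2, hR⟩
        exact ⟨h2, (iffA n hn p.1 p.2 h2).1 hR⟩
      · rintro ⟨h2, hR⟩
        exact ⟨h2, (iffA n hn p.1 p.2 h2).2 hR⟩
    have e2 := card_fiber_mul_param (F := F) (A := Fin 3 → F) (V := Fin (n + 1) → F)
      (W := F × F) (fun a => a 2 ≠ 0) (fun a => remL n a)
      (fun a h => remL_surj n (by omega) a h) (fun a w => Qf a w ≠ 0)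
    rw [e1, ← hW, e2, hV, hTA]
  -- assemble
  have hsplit1 : Nat.card {p : (Fin 3 → F) × (Fin (n + 1) → F) // Rne n p.1 p.2} =
      Nat.card {p : (Fin 3 → F) × (Fin (n + 1) → F) // p.1 2 ≠ 0 ∧ Rne n p.1 p.2} +
      Nat.card {p : (Fin 3 → F) × (Fin (n + 1) → F) // ¬ p.1 2 ≠ 0 ∧ Rne n p.1 p.2} :=
    card_split (fun p : (Fin 3 → F) × (Fin (n + 1) → F) => p.1 2 ≠ 0)
      (fun p => Rne n p.1 p.2)
  have hsplit2 : Nat.card {p : (Fin 3 → F) × (Fin (n + 1) → F) //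
        ¬ p.1 2 ≠ 0 ∧ Rne n p.1 p.2} =
      Nat.card {p : (Fin 3 → F) × (Fin (n + 1) → F) //
        p.1 1 ≠ 0 ∧ (¬ p.1 2 ≠ 0 ∧ Rne n p.1 p.2)} +
      Nat.card {p : (Fin 3 → F) × (Fin (n + 1) → F) //
        ¬ p.1 1 ≠ 0 ∧ (¬ p.1 2 ≠ 0 ∧ Rne n p.1 p.2)} :=
    card_split (fun p : (Fin 3 → F) × (Fin (n + 1) → F) => p.1 1 ≠ 0)
      (fun p => ¬ p.1 2 ≠ 0 ∧ Rne n p.1 p.2)
  have hNC' : Nat.card {p : (Fin 3 → F) × (Fin (n + 1) → F) //
      ¬ p.1 1 ≠ 0 ∧ (¬ p.1 2 ≠ 0 ∧ Rne n p.1 p.2)} * (q * q) = k * k * q ^ (n + 1) * q := by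
    rw [← mul_assoc, hNC]
  have key : Nat.card {p : (Fin 3 → F) × (Fin (n + 1) → F) // Rne n p.1 p.2} * (q * q) =
      q ^ (n + 1) * (k * k * (k + 2)) * (q * q) := by
    rw [hsplit1, hsplit2, add_mul, add_mul, hNA, hNB, hNC', ← hqk]
    ring
  exact Nat.eq_of_mul_eq_mul_right (Nat.mul_pos hqpos hqpos) key

theorem count_one (n m : ℕ) (hnm : n = 2 * m + 1) :
    Nat.card {p : (Fin 3 → F) × (Fin (n + 1) → F) // Rne n p.1 p.2} =
      Nat.card {x : F // x ≠ 0} *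
        Nat.card {p : (Fin 3 → F) × (Fin (n + 1) → F) //
          resultant (fp p.1) (gp n p.2) 2 n = 1} := by
  classical
  have s1 : Nat.card {p : (Fin 3 → F) × (Fin (n + 1) → F) // Rne n p.1 p.2} =
      Nat.card {x : {c : F // c ≠ 0} × ((Fin 3 → F) × (Fin (n + 1) → F)) //
        resultant (fp x.2.1) (gp n x.2.2) 2 n = x.1.1} := by
    apply Nat.card_congr
    exact
      { toFun := fun p => ⟨(⟨resultant (fp p.1.1) (gp n p.1.2) 2 n, p.2⟩, p.1), rfl⟩
        invFun := fun x => ⟨x.1.2, by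
          show resultant (fp x.1.2.1) (gp n x.1.2.2) 2 n ≠ 0
          rw [x.2]
          exact x.1.1.2⟩
        left_inv := fun p => rfl
        right_inv := fun x => Subtype.ext (Prod.ext (Subtype.ext x.2) rfl) }
  rw [s1, card_prod_eq_sum (fun (c : {c : F // c ≠ 0}) (p : (Fin 3 → F) × (Fin (n + 1) → F)) =>
    resultant (fp p.1) (gp n p.2) 2 n = c.1),
    Finset.sum_congr rfl (fun c _ => fiber_eq n m hnm c.1 c.2), Finset.sum_const,
    Finset.card_univ, smul_eq_mul, ← Nat.card_eq_fintype_card]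

end Count

/-! ### the two statements -/

theorem main18925 (F : Type u) [Field F] [Fintype F] (n : ℕ) (h2 : 2 ≤ n) :
    Nat.card {p : (Fin 3 → F) × (Fin (n + 1) → F) //
      Polynomial.resultant (∑ i : Fin 3, Polynomial.C (p.1 i) * Polynomial.X ^ (i : ℕ))
        (∑ j : Fin (n + 1), Polynomial.C (p.2 j) * Polynomial.X ^ (j : ℕ)) 2 n ≠ 0} =
      Fintype.card F ^ (n + 4) - Fintype.card F ^ (n + 3) - Fintype.card F ^ (n + 2) + Fintype.card F ^ (n + 1) := by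
  obtain ⟨k, hk, hk1, hN⟩ := count_ne (F := F) n h2
  have hN' : Nat.card {p : (Fin 3 → F) × (Fin (n + 1) → F) //
      Polynomial.resultant (∑ i : Fin 3, Polynomial.C (p.1 i) * Polynomial.X ^ (i : ℕ))
        (∑ j : Fin (n + 1), Polynomial.C (p.2 j) * Polynomial.X ^ (j : ℕ)) 2 n ≠ 0} =
      Nat.card F ^ (n + 1) * (k * k * (k + 2)) := hN
  rw [hN', ← Nat.card_eq_fintype_card, ← hk]
  apply nat_sub_aux
  · ring
  · exact Nat.le_mul_of_pos_right _ (Nat.mul_pos (Nat.mul_pos hk1 hk1) (by omega))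

theorem main18924 (F : Type u) [Field F] [Fintype F] (n : ℕ)
    (hn : Odd n) (h3 : 3 ≤ n) :
    Nat.card {p : (Fin 3 → F) × (Fin (n + 1) → F) //
      Polynomial.resultant (∑ i : Fin 3, Polynomial.C (p.1 i) * Polynomial.X ^ (i : ℕ))
        (∑ j : Fin (n + 1), Polynomial.C (p.2 j) * Polynomial.X ^ (j : ℕ)) 2 n = 1} =
      Fintype.card F ^ (n + 3) - Fintype.card F ^ (n + 1) := by
  obtain ⟨m, hm⟩ := hn
  obtain ⟨k, hk, hk1, hN⟩ := count_ne (F := F) n (by omega)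
  have h1 := count_one (F := F) n m hm
  have hkk : Nat.card {x : F // x ≠ 0} = k := by
    have := card_ne0 (F := F)
    omega
  rw [hN, hkk] at h1
  have hN1 : Nat.card {p : (Fin 3 → F) × (Fin (n + 1) → F) //
      resultant (fp p.1) (gp n p.2) 2 n = 1} = Nat.card F ^ (n + 1) * (k * (k + 2)) := by
    have h : k * (Nat.card F ^ (n + 1) * (k * (k + 2))) =
        k * Nat.card {p : (Fin 3 → F) × (Fin (n + 1) → F) //
          resultant (fp p.1) (gp n p.2) 2 n = 1} := by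
      rw [← h1]; ring
    exact (Nat.eq_of_mul_eq_mul_left (by omega) h).symm
  have hN1' : Nat.card {p : (Fin 3 → F) × (Fin (n + 1) → F) //
      Polynomial.resultant (∑ i : Fin 3, Polynomial.C (p.1 i) * Polynomial.X ^ (i : ℕ))
        (∑ j : Fin (n + 1), Polynomial.C (p.2 j) * Polynomial.X ^ (j : ℕ)) 2 n = 1} =
      Nat.card F ^ (n + 1) * (k * (k + 2)) := hN1
  rw [hN1', ← Nat.card_eq_fintype_card, ← hk]
  apply Nat.eq_sub_of_add_eq
  ring

end Groth.Agent.Lib.Helper29.ResCount
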