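import Mathlib
import Groth.Prelude.Def_W4c1hurwitzcptBd

/-!
# Submodules of `k⟦x⟧` over `k⟦x^p⟧`: bases with distinct valuations (helper29)
-/

set_option autoImplicit false
open Module Matrix W4c1hurwitzcpt

namespace Groth.Agent.Lib.Helper29.RootDiskLib

universe u

/-! ### determinant trick for full-rank submodules -/

section Det
variable {R St ι : Type*} [CommRing R] [IsDomain R] [AddCommGroup St] [Module R St]
  [Fintype ι] [DecidableEq ι]

theorem detQ_ne_zero_sub (bt : Basis ι R St) (N : Submodule R St) (bN : Basis ι R N) :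
    (LinearMap.toMatrix bN bt N.subtype).det ≠ 0 := by
  intro h0
  obtain ⟨v, hv, hQv⟩ := Matrix.exists_mulVec_eq_zero_iff.2 h0
  apply hv
  have h1 : LinearMap.toMatrix bN bt N.subtype *ᵥ (bN.repr (bN.equivFun.symm v)) =
      bt.repr (N.subtype (bN.equivFun.symm v)) :=
    LinearMap.toMatrix_mulVec_repr bN bt _ _
  have h2 : ⇑(bN.repr (bN.equivFun.symm v)) = v := bN.equivFun.apply_symm_apply v
  rw [h2] at h1
  have h1' : (0 : ι → R) = bt.repr (N.subtype (bN.equivFun.symm v)) := by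
    rw [← h1]; exact hQv.symm
  have h3 : N.subtype (bN.equivFun.symm v) = 0 := by
    have h4 : bt.repr (N.subtype (bN.equivFun.symm v)) = 0 := by
      ext i; exact (congrFun h1' i).symm
    exact bt.repr.map_eq_zero_iff.1 h4
  have h4 : bN.equivFun.symm v = 0 := Subtype.ext h3
  have h5 := congrArg bN.equivFun h4
  rwa [LinearEquiv.apply_symm_apply, map_zero] at h5

theorem det_smul_mem_sub (bt : Basis ι R St) (N : Submodule R St) (bN : Basis ι R N) (y : St) :
    (LinearMap.toMatrix bN bt N.subtype).det • y ∈ N := by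
  have h1 : Matrix.toLin bt bt (LinearMap.toMatrix bN bt N.subtype *
        (LinearMap.toMatrix bN bt N.subtype).adjugate) =
      N.subtype ∘ₗ Matrix.toLin bt bN (LinearMap.toMatrix bN bt N.subtype).adjugate := by
    rw [Matrix.toLin_mul bt bN bt, Matrix.toLin_toMatrix]
  rw [Matrix.mul_adjugate, map_smul, Matrix.toLin_one] at h1
  have h2 := LinearMap.congr_fun h1 y
  simp only [LinearMap.smul_apply, LinearMap.id_apply, LinearMap.comp_apply] at h2
  rw [h2]
  exact (Matrix.toLin bt bN (LinearMap.toMatrix bN bt N.subtype).adjugate y).2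

end Det

theorem exists_pow_smul_mem {k : Type u} [Field k] {St ι : Type*} [AddCommGroup St]
    [Module (PowerSeries k) St] [Fintype ι] [DecidableEq ι]
    (bt : Basis ι (PowerSeries k) St) (N : Submodule (PowerSeries k) St)
    (bN : Basis ι (PowerSeries k) N) :
    ∃ m : ℕ, ∀ y : St, ((PowerSeries.X : PowerSeries k) ^ m) • y ∈ N := by
  have hD := detQ_ne_zero_sub bt N bN
  obtain ⟨m, hm⟩ :=
    IsDiscreteValuationRing.associated_pow_irreducible hD PowerSeries.X_irreducible
  obtain ⟨u, hu⟩ := hm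
  refine ⟨m, fun y => ?_⟩
  rw [← hu, mul_comm, mul_smul]
  exact N.smul_mem _ (det_smul_mem_sub bt N bN y)

/-! ### the algebra `k⟦x⟧` over `k⟦x^p⟧` -/

section RD
variable {k : Type u} [Field k] {p : ℕ} [NeZero p]

/-- x-adic valuation -/
noncomputable def vv (f : RootDisk p k) : ℕ∞ := PowerSeries.order (RootDisk.val f)

theorem val_smul (r : PowerSeries k) (f : RootDisk p k) :
    RootDisk.val (r • f) = PowerSeries.expand p (NeZero.ne p) r * RootDisk.val f := by
  rw [Algebra.smul_def, map_mul]; rfl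

/-- `x^i` -/
noncomputable def xpow (i : ℕ) : RootDisk p k := RootDisk.val.symm (PowerSeries.X ^ i)

theorem val_xpow (i : ℕ) : RootDisk.val (xpow i : RootDisk p k) = PowerSeries.X ^ i :=
  RingEquiv.apply_symm_apply _ _

theorem exists_smul_of_le (m : ℕ) (f : RootDisk p k) (h : ((p * m : ℕ) : ℕ∞) ≤ vv f) :
    ∃ f' : RootDisk p k, f = ((PowerSeries.X : PowerSeries k) ^ m) • f' := by
  have hdvd : (PowerSeries.X : PowerSeries k) ^ (p * m) ∣ RootDisk.val f := by
    rw [PowerSeries.X_pow_dvd_iff]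
    intro i hi
    apply PowerSeries.coeff_of_lt_order
    exact lt_of_lt_of_le (by exact_mod_cast hi) h
  obtain ⟨g, hg⟩ := hdvd
  refine ⟨RootDisk.val.symm g, ?_⟩
  apply RootDisk.val.injective
  rw [val_smul, RingEquiv.apply_symm_apply, hg, map_pow, PowerSeries.expand_X, ← pow_mul]

theorem elim_step (f g : RootDisk p k) (n m j : ℕ) (hf : vv f = n) (hg : vv g = m)
    (hn : n = m + p * j) :
    ∃ c : PowerSeries k, ((n + 1 : ℕ) : ℕ∞) ≤ vv (f - c • g) := by
  have hgm : PowerSeries.coeff m (RootDisk.val g) ≠ 0 ∧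
      ∀ i, i < m → PowerSeries.coeff i (RootDisk.val g) = 0 := PowerSeries.order_eq_nat.1 hg
  have hfn : PowerSeries.coeff n (RootDisk.val f) ≠ 0 ∧
      ∀ i, i < n → PowerSeries.coeff i (RootDisk.val f) = 0 := PowerSeries.order_eq_nat.1 hf
  refine ⟨PowerSeries.C (PowerSeries.coeff n (RootDisk.val f) /
    PowerSeries.coeff m (RootDisk.val g)) * PowerSeries.X ^ j, ?_⟩
  apply PowerSeries.le_order
  intro i hi
  have hi' : i < n + 1 := by exact_mod_cast hi
  rw [map_sub, val_smul, map_mul, PowerSeries.expand_C, map_pow, PowerSeries.expand_X, ← pow_mul,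
    map_sub, mul_assoc, PowerSeries.coeff_C_mul, PowerSeries.coeff_X_pow_mul']
  by_cases hij : p * j ≤ i
  · rw [if_pos hij]
    rcases Nat.lt_or_ge i n with hlt | hge
    · rw [hfn.2 i hlt, hgm.2 (i - p * j) (by omega), mul_zero, sub_zero]
    · have hin : i = n := by omega
      have h3 : i - p * j = m := by omega
      rw [h3, hin, div_mul_cancel₀ _ hgm.1, sub_self]
  · rw [if_neg hij, mul_zero, sub_zero]
    exact hfn.2 i (by omega)

theorem big_case (M : Submodule (PowerSeries k) (RootDisk p k)) (m : ℕ)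
    (hm : ∀ y : RootDisk p k, ((PowerSeries.X : PowerSeries k) ^ m) • y ∈ M)
    (T : Submodule (PowerSeries k) (RootDisk p k))
    (f : RootDisk p k) (hle : ((p * (m + 1) : ℕ) : ℕ∞) ≤ vv f) :
    f ∈ T ⊔ Ideal.span {(PowerSeries.X : PowerSeries k)} • M := by
  obtain ⟨f', rfl⟩ := exists_smul_of_le (m + 1) f hle
  refine Submodule.mem_sup_right ?_
  rw [pow_succ', mul_smul]
  exact Submodule.smul_mem_smul (Ideal.mem_span_singleton_self _) (hm f')

theorem mem_sup_of (M : Submodule (PowerSeries k) (RootDisk p k)) (m : ℕ)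
    (hm : ∀ y : RootDisk p k, ((PowerSeries.X : PowerSeries k) ^ m) • y ∈ M)
    (g : Fin p → RootDisk p k) (hgM : ∀ r, g r ∈ M) (n : Fin p → ℕ)
    (hgn : ∀ r, vv (g r) = n r)
    (hnr : ∀ r : Fin p, n r % p = (r : ℕ))
    (hmin : ∀ (r : Fin p) (f : RootDisk p k), f ∈ M → ∀ e : ℕ, vv f = e →
      e % p = (r : ℕ) → n r ≤ e) :
    ∀ (s : ℕ) (f : RootDisk p k), f ∈ M → ((p * (m + 1) : ℕ) : ℕ∞) ≤ vv f + s →
      f ∈ Submodule.span (PowerSeries k) (Set.range g) ⊔
        Ideal.span {(PowerSeries.X : PowerSeries k)} • M := by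
  intro s
  induction s with
  | zero =>
    intro f _ hle
    rw [Nat.cast_zero, add_zero] at hle
    exact big_case M m hm _ f hle
  | succ s ih =>
    intro f hfM hle
    by_cases hbig : ((p * (m + 1) : ℕ) : ℕ∞) ≤ vv f
    · exact big_case M m hm _ f hbig
    · rw [not_le] at hbig
      have hne : vv f ≠ ⊤ := ne_top_of_lt hbig
      obtain ⟨e, he⟩ := ENat.ne_top_iff_exists.1 hne
      have hp := NeZero.pos p
      have hr := hmin ⟨e % p, Nat.mod_lt e hp⟩ f hfM e he.symm rfl
      have hmod : n ⟨e % p, Nat.mod_lt e hp⟩ ≡ e [MOD p] := hnr ⟨e % p, Nat.mod_lt e hp⟩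
      obtain ⟨j, hj⟩ := (Nat.modEq_iff_dvd' hr).1 hmod
      have hej : e = n ⟨e % p, Nat.mod_lt e hp⟩ + p * j := by omega
      obtain ⟨c, hc⟩ := elim_step f (g ⟨e % p, Nat.mod_lt e hp⟩) e _ j he.symm (hgn _) hej
      have hf'M : f - c • g ⟨e % p, Nat.mod_lt e hp⟩ ∈ M :=
        M.sub_mem hfM (M.smul_mem c (hgM _))
      have hle' : ((p * (m + 1) : ℕ) : ℕ∞) ≤ vv (f - c • g ⟨e % p, Nat.mod_lt e hp⟩) + s := by
        calc ((p * (m + 1) : ℕ) : ℕ∞) ≤ vv f + ((s + 1 : ℕ) : ℕ∞) := hle
          _ = ((e + 1 : ℕ) : ℕ∞) + s := by rw [← he]; push_cast; ring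
          _ ≤ vv (f - c • g ⟨e % p, Nat.mod_lt e hp⟩) + s := add_le_add_left hc _
      have h1 := ih _ hf'M hle'
      have h2 : f = (f - c • g ⟨e % p, Nat.mod_lt e hp⟩) + c • g ⟨e % p, Nat.mod_lt e hp⟩ :=
        (sub_add_cancel _ _).symm
      rw [h2]
      exact Submodule.add_mem _ h1
        (Submodule.mem_sup_left (Submodule.smul_mem _ c (Submodule.subset_span ⟨_, rfl⟩)))

theorem span_eq (M : Submodule (PowerSeries k) (RootDisk p k)) (hfg : M.FG) (m : ℕ)
    (hm : ∀ y : RootDisk p k, ((PowerSeries.X : PowerSeries k) ^ m) • y ∈ M)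
    (g : Fin p → RootDisk p k) (hgM : ∀ r, g r ∈ M) (n : Fin p → ℕ)
    (hgn : ∀ r, vv (g r) = n r)
    (hnr : ∀ r : Fin p, n r % p = (r : ℕ))
    (hmin : ∀ (r : Fin p) (f : RootDisk p k), f ∈ M → ∀ e : ℕ, vv f = e →
      e % p = (r : ℕ) → n r ≤ e) :
    Submodule.span (PowerSeries k) (Set.range g) = M := by
  apply le_antisymm
  · rw [Submodule.span_le]
    rintro _ ⟨r, rfl⟩
    exact hgM r
  · have hjac : Ideal.span {(PowerSeries.X : PowerSeries k)} ≤ Ideal.jacobson ⊥ := by
      rw [IsLocalRing.jacobson_eq_maximalIdeal ⊥ bot_ne_top, Ideal.span_singleton_le_iff_mem,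
        IsLocalRing.mem_maximalIdeal, mem_nonunits_iff]
      exact PowerSeries.X_irreducible.not_isUnit
    apply Submodule.le_of_le_smul_of_le_jacobson_bot hfg hjac
    intro f hfM
    exact mem_sup_of M m hm g hgM n hgn hnr hmin (p * (m + 1)) f hfM le_add_self

theorem exists_min (M : Submodule (PowerSeries k) (RootDisk p k)) (m : ℕ)
    (hm : ∀ y : RootDisk p k, ((PowerSeries.X : PowerSeries k) ^ m) • y ∈ M) :
    ∃ (g : Fin p → RootDisk p k) (n : Fin p → ℕ), (∀ r, g r ∈ M) ∧ (∀ r, vv (g r) = n r) ∧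
      (∀ r : Fin p, n r % p = (r : ℕ)) ∧
      (∀ (r : Fin p) (f : RootDisk p k), f ∈ M → ∀ e : ℕ, vv f = e →
        e % p = (r : ℕ) → n r ≤ e) := by
  classical
  have hex : ∀ r : Fin p, ∃ e : ℕ, e % p = (r : ℕ) ∧
      ∃ f : RootDisk p k, f ∈ M ∧ vv f = e := by
    intro r
    refine ⟨p * m + r, ?_, xpow (p * m + r), ?_, ?_⟩
    · rw [Nat.mul_add_mod, Nat.mod_eq_of_lt r.2]
    · have h1 : (xpow (p * m + r) : RootDisk p k) =
          ((PowerSeries.X : PowerSeries k) ^ m) • (xpow r : RootDisk p k) := by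
        apply RootDisk.val.injective
        rw [val_smul, val_xpow, val_xpow, map_pow, PowerSeries.expand_X, ← pow_mul, ← pow_add]
      rw [h1]; exact hm _
    · show PowerSeries.order (RootDisk.val (xpow (p * m + r) : RootDisk p k)) = _
      rw [val_xpow, PowerSeries.order_X_pow]
  refine ⟨fun r => Classical.choose (Nat.find_spec (hex r)).2, fun r => Nat.find (hex r),
    ?_, ?_, ?_, ?_⟩
  · intro r; exact (Classical.choose_spec (Nat.find_spec (hex r)).2).1
  · intro r; exact (Classical.choose_spec (Nat.find_spec (hex r)).2).2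
  · intro r; exact (Nat.find_spec (hex r)).1
  · intro r f hf e he her; exact Nat.find_min' (hex r) ⟨her, f, hf, he⟩

/-! ### the basis `1, x, …, x^(p-1)` -/

theorem coeff_term (a : PowerSeries k) (i n : ℕ) :
    PowerSeries.coeff n (RootDisk.val (a • (xpow i : RootDisk p k))) =
      if i ≤ n ∧ p ∣ (n - i) then PowerSeries.coeff ((n - i) / p) a else 0 := by
  rw [val_smul, val_xpow, mul_comm, PowerSeries.coeff_X_pow_mul', PowerSeries.coeff_expand]
  by_cases h1 : i ≤ n
  · by_cases h2 : p ∣ n - i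
    · rw [if_pos h1, if_pos h2, if_pos ⟨h1, h2⟩]
    · rw [if_pos h1, if_neg h2, if_neg (fun h => h2 h.2)]
  · rw [if_neg h1, if_neg (fun h => h1 h.1)]

theorem eq_of_dvd_sub {q i i₀ m : ℕ} (hi : i < q) (hi₀ : i₀ < q) (hle : i ≤ q * m + i₀)
    (hd : q ∣ q * m + i₀ - i) : i = i₀ := by
  have h1 : i ≡ q * m + i₀ [MOD q] := (Nat.modEq_iff_dvd' hle).2 hd
  have h2 : i % q = (q * m + i₀) % q := h1
  rw [Nat.mul_add_mod, Nat.mod_eq_of_lt hi, Nat.mod_eq_of_lt hi₀] at h2
  exact h2

theorem xpow_li :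
    LinearIndependent (PowerSeries k) (fun i : Fin p => (xpow (i : ℕ) : RootDisk p k)) := by
  rw [Fintype.linearIndependent_iff]
  intro a ha i₀
  ext m
  rw [map_zero]
  have h1 := congrArg (fun f => PowerSeries.coeff (p * m + i₀) (RootDisk.val f)) ha
  simp only [map_sum, map_zero] at h1
  rw [Finset.sum_eq_single i₀] at h1
  · rw [coeff_term, if_pos ⟨Nat.le_add_left _ _, by
      rw [Nat.add_sub_cancel]; exact dvd_mul_right p m⟩, Nat.add_sub_cancel,
      Nat.mul_div_cancel_left _ (NeZero.pos p)] at h1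
    exact h1
  · intro i _ hi
    rw [coeff_term, if_neg]
    rintro ⟨hle, hd⟩
    exact hi (Fin.ext (eq_of_dvd_sub i.2 i₀.2 hle hd))
  · intro h; exact absurd (Finset.mem_univ _) h

theorem xpow_span : ⊤ ≤ Submodule.span (PowerSeries k)
    (Set.range (fun i : Fin p => (xpow (i : ℕ) : RootDisk p k))) := by
  rw [Submodule.top_le_span_range_iff_forall_exists_fun]
  intro f
  refine ⟨fun i => PowerSeries.mk (fun m => PowerSeries.coeff (p * m + i) (RootDisk.val f)), ?_⟩
  apply RootDisk.val.injective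
  ext n
  rw [map_sum, map_sum]
  have hp := NeZero.pos p
  rw [Finset.sum_eq_single (⟨n % p, Nat.mod_lt n hp⟩ : Fin p)]
  · rw [coeff_term, if_pos ⟨Nat.mod_le n p, Nat.dvd_sub_mod n⟩, PowerSeries.coeff_mk]
    have hidx : p * ((n - n % p) / p) + n % p = n := by
      rw [Nat.mul_div_cancel' (Nat.dvd_sub_mod n)]
      exact Nat.sub_add_cancel (Nat.mod_le n p)
    show PowerSeries.coeff (p * ((n - n % p) / p) + n % p) _ = _
    rw [hidx]
  · intro i _ hi
    rw [coeff_term, if_neg]
    rintro ⟨hle, hd⟩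
    apply hi
    apply Fin.ext
    show (i : ℕ) = n % p
    exact eq_of_dvd_sub (m := n / p) i.2 (Nat.mod_lt n hp)
      (by rw [Nat.div_add_mod]; exact hle) (by rw [Nat.div_add_mod]; exact hd)
  · intro h; exact absurd (Finset.mem_univ _) h

/-- the basis `1, x, …, x^(p-1)` of `k⟦x⟧` over `k⟦x^p⟧` -/
noncomputable def btR : Basis (Fin p) (PowerSeries k) (RootDisk p k) :=
  Basis.mk xpow_li xpow_span

end RD

/-! ### S13884 -/

theorem main13884 {k : Type u} [Field k] [IsAlgClosed k] [CharZero k]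
    (M : Submodule (PowerSeries k) (W4c1hurwitzcpt.RootDisk 3 k))
    (bM : Module.Basis (Fin 3) (PowerSeries k) M) :
    ∃ g : Module.Basis (Fin 3) (PowerSeries k) M, ∀ i j : Fin 3, i ≠ j →
      ¬ Nat.ModEq 3 (PowerSeries.order (W4c1hurwitzcpt.RootDisk.val (((g i : M) : (W4c1hurwitzcpt.RootDisk 3 k)) : W4c1hurwitzcpt.RootDisk 3 k))).toNat
        (PowerSeries.order (W4c1hurwitzcpt.RootDisk.val (((g j : M) : (W4c1hurwitzcpt.RootDisk 3 k)) : W4c1hurwitzcpt.RootDisk 3 k))).toNat := by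
  obtain ⟨m, hm⟩ := exists_pow_smul_mem (btR (k := k) (p := 3)) M bM
  obtain ⟨g, n, hgM, hgn, hnr, hmin⟩ := exists_min M m hm
  have hfg : M.FG := by
    haveI : Module.Finite (PowerSeries k) M := Module.Finite.of_basis bM
    exact Module.Finite.iff_fg.1 inferInstance
  have hspan := span_eq M hfg m hm g hgM n hgn hnr hmin
  have htop : ⊤ ≤ Submodule.span (PowerSeries k)
      (Set.range (fun r : Fin 3 => (⟨g r, hgM r⟩ : M))) := by
    rw [Submodule.top_le_span_range_iff_forall_exists_fun]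
    intro x
    have hx : (x : RootDisk 3 k) ∈ Submodule.span (PowerSeries k) (Set.range g) := by
      rw [hspan]; exact x.2
    obtain ⟨c, hc⟩ := (Submodule.mem_span_range_iff_exists_fun _).1 hx
    refine ⟨c, Subtype.ext ?_⟩
    rw [← hc]
    simp only [Submodule.coe_sum, Submodule.coe_smul]
  have hcard : Fintype.card (Fin 3) = Module.finrank (PowerSeries k) M := by
    rw [Module.finrank_eq_card_basis bM]
  refine ⟨basisOfTopLeSpanOfCardEqFinrank _ htop hcard, ?_⟩
  intro i j hij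
  rw [coe_basisOfTopLeSpanOfCardEqFinrank]
  show ¬ Nat.ModEq 3 (vv (g i)).toNat (vv (g j)).toNat
  rw [hgn i, hgn j, ENat.toNat_natCast, ENat.toNat_natCast]
  intro h
  have h' : n i % 3 = n j % 3 := h
  rw [hnr i, hnr j] at h'
  exact hij (Fin.ext h')

/-! ### S13885 -/

theorem main13885 {k : Type u} [Field k] [IsAlgClosed k] [CharZero k]
    (M : Submodule (PowerSeries k) (W4c1hurwitzcpt.RootDisk 2 k × PowerSeries k))
    (h1 : (1 : (W4c1hurwitzcpt.RootDisk 2 k × PowerSeries k)) ∈ M)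
    (bM : Module.Basis (Fin 3) (PowerSeries k) M) :
    ∃ f₁ f₂ : W4c1hurwitzcpt.RootDisk 2 k,
      ¬ Nat.ModEq 2 (PowerSeries.order (W4c1hurwitzcpt.RootDisk.val (f₁ : W4c1hurwitzcpt.RootDisk 2 k))).toNat (PowerSeries.order (W4c1hurwitzcpt.RootDisk.val (f₂ : W4c1hurwitzcpt.RootDisk 2 k))).toNat ∧
      M = Submodule.span (PowerSeries k) {(1 : (W4c1hurwitzcpt.RootDisk 2 k × PowerSeries k)), (f₁, 0), (f₂, 0)} := by
  classical
  have bS : Basis (Fin 3) (PowerSeries k) (RootDisk 2 k × PowerSeries k) :=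
    ((btR (k := k) (p := 2)).prod (Basis.singleton (Fin 1) (PowerSeries k))).reindex
      finSumFinEquiv
  obtain ⟨m, hm⟩ := exists_pow_smul_mem bS M bM
  obtain ⟨N, hN⟩ : ∃ N : Submodule (PowerSeries k) (RootDisk 2 k),
      ∀ f, f ∈ N ↔ ((f, 0) : RootDisk 2 k × PowerSeries k) ∈ M :=
    ⟨M.comap (LinearMap.inl (PowerSeries k) (RootDisk 2 k) (PowerSeries k)), fun f => Iff.rfl⟩
  have hmN : ∀ y : RootDisk 2 k, ((PowerSeries.X : PowerSeries k) ^ m) • y ∈ N := by
    intro y
    rw [hN]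
    have h := hm ((y, 0) : RootDisk 2 k × PowerSeries k)
    rwa [Prod.smul_mk, smul_zero] at h
  have hNfg : N.FG := by
    have : Module.Finite (PowerSeries k) (RootDisk 2 k) :=
      Module.Finite.of_basis (btR (k := k) (p := 2))
    have : IsNoetherian (PowerSeries k) (RootDisk 2 k) :=
      isNoetherian_of_isNoetherianRing_of_finite _ _
    exact IsNoetherian.noetherian N
  obtain ⟨g, n, hgM, hgn, hnr, hmin⟩ := exists_min N m hmN
  have hspan := span_eq N hNfg m hmN g hgM n hgn hnr hmin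
  refine ⟨g 0, g 1, ?_, ?_⟩
  · show ¬ Nat.ModEq 2 (vv (g 0)).toNat (vv (g 1)).toNat
    rw [hgn 0, hgn 1, ENat.toNat_natCast, ENat.toNat_natCast]
    intro h
    have h' : n 0 % 2 = n 1 % 2 := h
    rw [hnr 0, hnr 1] at h'
    exact absurd h' (by decide)
  · apply le_antisymm
    · intro y hy
      have hy1 : y.1 - y.2 • (1 : RootDisk 2 k) ∈ N := by
        rw [hN]
        have h2 : y - y.2 • (1 : RootDisk 2 k × PowerSeries k) ∈ M :=
          M.sub_mem hy (M.smul_mem _ h1)
        have h3 : y - y.2 • (1 : RootDisk 2 k × PowerSeries k) =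
            ((y.1 - y.2 • (1 : RootDisk 2 k), 0) : RootDisk 2 k × PowerSeries k) := by
          apply Prod.ext
          · simp
          · simp
        rwa [h3] at h2
      rw [← hspan] at hy1
      obtain ⟨c, hc⟩ := (Submodule.mem_span_range_iff_exists_fun _).1 hy1
      rw [Fin.sum_univ_two] at hc
      have hy2 : y = y.2 • (1 : RootDisk 2 k × PowerSeries k) +
          c 0 • ((g 0, 0) : RootDisk 2 k × PowerSeries k) +
          c 1 • ((g 1, 0) : RootDisk 2 k × PowerSeries k) := by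
        apply Prod.ext
        · simp only [Prod.fst_add, Prod.smul_fst, Prod.fst_one]
          rw [add_assoc, hc]; abel
        · simp
      rw [hy2]
      refine Submodule.add_mem _ (Submodule.add_mem _
        (Submodule.smul_mem _ _ (Submodule.subset_span ?_))
        (Submodule.smul_mem _ _ (Submodule.subset_span ?_)))
        (Submodule.smul_mem _ _ (Submodule.subset_span ?_))
      · exact Set.mem_insert _ _
      · exact Set.mem_insert_of_mem _ (Set.mem_insert _ _)
      · exact Set.mem_insert_of_mem _ (Set.mem_insert_of_mem _ rfl)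
    · rw [Submodule.span_le]
      intro z hz
      rcases hz with rfl | rfl | rfl
      · exact h1
      · exact (hN _).1 (hgM 0)
      · exact (hN _).1 (hgM 1)

end Groth.Agent.Lib.Helper29.RootDiskLib
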