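import Groth.Agent.Lib.Helper29.AssocBundle
import Groth.Agent.Lib.Helper29.QuotGrp
import Groth.Agent.Lib.Helper29.ClosedDesc
import Groth.Agent.Lib.Helper3.FlatDescent

/-!
# Helper library (helper29): fpqc quotients `G/G'` (SGA3 VI_B 9.2)

* `singleton_mem_fpqc_of_cover`, `ocovOf`: an fpqc covering morphism factoring through `p` gives `OCov p`.
* `OCov.desc`, `OCov.epi`, `OCov.whiskerRight`, `OCov.whiskerLeft`, `OCov.tensor`,
  `OCov.prop_of_base_change`.
* `isClosedImmersion_descendsAlong_fpqc`, `mono_descendsAlong_fpqc`.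
* `diag_square`, `isPullback_shear_inv`, `kernel_square`.
* `main5373`, `main5369`, `main5370`, `main5372`.
-/

set_option autoImplicit false
set_option maxHeartbeats 1600000
universe u
open CategoryTheory CategoryTheory.Limits AlgebraicGeometry MonoidalCategory CartesianMonoidalCategory
  MonObj GrpObj

namespace Groth.Agent.Lib.Helper29.AssocBundle.OCov

open Groth.Agent.Lib.Helper29.InvFun Groth.Agent.Lib.Helper22 Groth.Agent.Lib.Helper29.TorsorPush
  Groth.Agent.Lib.Helper29.TorsorComp Groth.Agent.Lib.Helper29 Groth.Agent.Lib.Helper29.TorsorMisc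

noncomputable section

variable {S : Scheme.{u}} {E Q : Over S} {q : E ⟶ Q} (c : OCov q)

include c

theorem epi : Epi q := by
  refine ⟨fun {C} f g h => ?_⟩
  refine c.sep (𝟙 Q) f g (fun l => ?_)
  have e : c.zz (𝟙 Q) l = c.pp (𝟙 Q) l ≫ q := by
    rw [c.pp_q, Category.comp_id]
  rw [e, Category.assoc, Category.assoc, h]

theorem desc {C : Over S} (ψ : E ⟶ C)
    (h : ∀ (T : Over S) (e₁ e₂ : T ⟶ E), e₁ ≫ q = e₂ ≫ q → e₁ ≫ ψ = e₂ ≫ ψ) :
    ∃ m : Q ⟶ C, q ≫ m = ψ := by
  have hcompat : ∀ (l l' : c.κ) (Z' : Scheme.{u}) (α : Z' ⟶ (c.Vo l).left)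
      (β : Z' ⟶ (c.Vo l').left), α ≫ (c.vι l).left = β ≫ (c.vι l').left →
      α ≫ (c.vσ l ≫ ψ).left = β ≫ (c.vσ l' ≫ ψ).left := by
    intro l l' Z' α β hαβ
    have hw : β ≫ (c.Vo l').hom = α ≫ (c.Vo l).hom := by
      calc β ≫ (c.Vo l').hom = (β ≫ (c.vι l').left) ≫ Q.hom := by rw [Category.assoc, Over.w]
        _ = (α ≫ (c.vι l).left) ≫ Q.hom := by rw [hαβ]
        _ = α ≫ (c.Vo l).hom := by rw [Category.assoc, Over.w]
    let Zo : Over S := Over.mk (α ≫ (c.Vo l).hom)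
    let αo : Zo ⟶ c.Vo l := Over.homMk α rfl
    let βo : Zo ⟶ c.Vo l' := Over.homMk β hw
    have h1 : αo ≫ c.vι l = βo ≫ c.vι l' := Over.OverMorphism.ext hαβ
    have h2 : (αo ≫ c.vσ l) ≫ q = (βo ≫ c.vσ l') ≫ q := by
      rw [Category.assoc, Category.assoc, c.w, c.w, h1]
    have h3 := h Zo _ _ h2
    rw [Category.assoc, Category.assoc] at h3
    exact congrArg (fun k => k.left) h3
  obtain ⟨m₀, hm₀'⟩ := fpqc_glue' C.left (fun l => (c.vι l).left) c.mem
    (fun l => (c.vσ l ≫ ψ).left) hcompat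
  have hm₀ : ∀ l, (c.vι l).left ≫ m₀ = (c.vσ l ≫ ψ).left := hm₀'
  have hw : m₀ ≫ C.hom = Q.hom := by
    refine fpqc_sep' S (fun l => (c.vι l).left) c.mem _ _ (fun l => ?_)
    show (c.vι l).left ≫ m₀ ≫ C.hom = (c.vι l).left ≫ Q.hom
    rw [← Category.assoc, hm₀ l, Over.w, Over.w]
  refine ⟨Over.homMk m₀ hw, ?_⟩
  have e : ∀ l, c.vι l ≫ Over.homMk m₀ hw = c.vσ l ≫ ψ := fun l =>
    Over.OverMorphism.ext (hm₀ l)
  refine c.sep q _ _ (fun l => ?_)
  calc c.zz q l ≫ q ≫ Over.homMk m₀ hw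
      = (c.zz q l ≫ q) ≫ Over.homMk m₀ hw := by rw [Category.assoc]
    _ = c.vv q l ≫ c.vι l ≫ Over.homMk m₀ hw := by rw [c.zz_z, Category.assoc]
    _ = c.pp q l ≫ ψ := by rw [e, pp, Category.assoc]
    _ = c.zz q l ≫ ψ := h _ _ _ (c.pp_q q l)

def whiskerRight (A : Over S) : OCov (q ▷ A) where
  κ := c.κ
  Vo := fun l => c.Vo l ⊗ A
  vι := fun l => c.vι l ▷ A
  vσ := fun l => c.vσ l ▷ A
  mem := Precoverage.mem_coverings_of_isPullback (fun l => (c.vι l).left) c.mem (fst Q A).left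
    (fun l => (c.vι l ▷ A).left) (fun l => (fst (c.Vo l) A).left)
    (fun l => (isPullback_whiskerRight_fst (c.vι l) A).map (Over.forget S))
  w := fun l => by rw [← comp_whiskerRight, c.w]

def whiskerLeft (A : Over S) : OCov (A ◁ q) where
  κ := c.κ
  Vo := fun l => A ⊗ c.Vo l
  vι := fun l => A ◁ c.vι l
  vσ := fun l => A ◁ c.vσ l
  mem := Precoverage.mem_coverings_of_isPullback (fun l => (c.vι l).left) c.mem (snd A Q).left
    (fun l => (A ◁ c.vι l).left) (fun l => (snd A (c.Vo l)).left)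
    (fun l => (isPullback_whiskerLeft_snd A (c.vι l)).map (Over.forget S))
  w := fun l => by rw [← MonoidalCategory.whiskerLeft_comp, c.w]

def tensor {E₂ Q₂ : Over S} {q₂ : E₂ ⟶ Q₂} (c₂ : OCov q₂) : OCov (q ⊗ₘ q₂) where
  κ := Σ _ : c.κ, c₂.κ
  Vo := fun x => c.Vo x.1 ⊗ c₂.Vo x.2
  vι := fun x => (c.Vo x.1 ◁ c₂.vι x.2) ≫ (c.vι x.1 ▷ Q₂)
  vσ := fun x => c.vσ x.1 ⊗ₘ c₂.vσ x.2
  mem := Precoverage.comp_mem_coverings (f := fun l => (c.vι l ▷ Q₂).left)
    (c.whiskerRight Q₂).mem (g := fun l l' => (c.Vo l ◁ c₂.vι l').left)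
    (fun l => (c₂.whiskerLeft (c.Vo l)).mem)
  w := fun x => by rw [tensorHom_comp_tensorHom, c.w, c₂.w, tensorHom_def']

theorem prop_of_base_change (P : MorphismProperty Scheme.{u}) [P.IsStableUnderBaseChange]
    [IsZariskiLocalAtTarget P]
    [P.DescendsAlong (@Surjective ⊓ @Flat ⊓ @QuasiCompact : MorphismProperty Scheme.{u})]
    {A A' : Scheme.{u}} (f : A ⟶ Q.left) (a : A' ⟶ A) (f' : A' ⟶ E.left)
    (sq : IsPullback a f' f q.left) (hf' : P f') : P f := by
  have hq : P (pullback.snd f q.left) :=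
    (P.cancel_left_of_respectsIso sq.isoPullback.hom _).1
      (by rw [sq.isoPullback_hom_snd]; exact hf')
  refine TorsorDesc.of_fpqc P f c.mem (fun {U} g hg => ?_)
  obtain ⟨l⟩ := hg
  have key : P (pullback.snd f ((c.vσ l).left ≫ q.left)) :=
    TorsorDesc.snd_comp P f q.left (c.vσ l).left hq
  have e : (c.vσ l).left ≫ q.left = (c.vι l).left := congrArg (fun k => k.left) (c.w l)
  rw [e] at key
  exact key

end

end Groth.Agent.Lib.Helper29.AssocBundle.OCov

namespace Groth.Agent.Lib.Helper29.SGA3Quot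

open Groth.Agent.Lib.Helper29.InvFun Groth.Agent.Lib.Helper22 Groth.Agent.Lib.Helper29.TorsorPush
  Groth.Agent.Lib.Helper29.TorsorComp Groth.Agent.Lib.Helper29 Groth.Agent.Lib.Helper29.AssocBundle

noncomputable section

variable {S : Scheme.{u}}

theorem singleton_mem_fpqc_of_cover {Z Y : Scheme.{u}} (q : Z ⟶ Y) (hs : Surjective q)
    (hf : Flat q)
    (hqc : ∀ V : Y.Opens, IsAffineOpen V → ∃ W : Z.Opens, IsCompact (W : Set Z) ∧
      q.base '' (W : Set Z) = (V : Set Y)) :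
    Presieve.singleton q ∈ Scheme.fpqcPrecoverage Y := by
  show Presieve.singleton q ∈ Scheme.propQCPrecoverage @Flat Y
  refine ⟨?_, ?_⟩
  · have e : (PreZeroHypercover.singleton q : PreZeroHypercover.{0} Y).presieve₀ =
        Presieve.singleton q := PreZeroHypercover.presieve₀_singleton q
    rw [← e, Scheme.presieve₀_mem_qcPrecoverage_iff]
    refine ⟨fun {U} hU => ?_⟩
    obtain ⟨W, hW1, hW2⟩ := hqc U hU
    have h := IsCompactOpenCovered.image
      (f := fun i : (PreZeroHypercover.singleton q : PreZeroHypercover.{0} Y).I₀ =>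
        (((PreZeroHypercover.singleton q : PreZeroHypercover.{0} Y).f i : _ ⟶ _) : _ → _))
      (i := PUnit.unit) W hW1
    rw [← hW2]
    exact h
  · exact (Scheme.singleton_mem_precoverage_iff (P := @Flat) q).2 ⟨hs.surj, hf⟩

def ocovOf {X Y : Over S} (p : X ⟶ Y) {Z : Scheme.{u}} (q : Z ⟶ Y.left) (r : Z ⟶ X.left)
    (hrq : r ≫ p.left = q) (hmem : Presieve.singleton q ∈ Scheme.fpqcPrecoverage Y.left) :
    OCov p where
  κ := PUnit.{u+1}
  Vo := fun _ => Over.mk (q ≫ Y.hom)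
  vι := fun _ => Over.homMk q rfl
  vσ := fun _ => Over.homMk r (by
    show r ≫ X.hom = q ≫ Y.hom
    rw [← hrq, Category.assoc, Over.w])
  mem := by
    show Presieve.ofArrows (fun _ : PUnit.{u+1} => Z) (fun _ => q) ∈ _
    rw [Presieve.ofArrows_pUnit]
    exact hmem
  w := fun _ => Over.OverMorphism.ext hrq

/-- the covering given by a single fppf morphism -/
def ocovFppf {E Q : Over S} (q : E ⟶ Q) (h1 : Surjective q.left) (h2 : Flat q.left)
    (h3 : LocallyOfFinitePresentation q.left) : OCov q where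
  κ := PUnit.{u+1}
  Vo := fun _ => E
  vι := fun _ => q
  vσ := fun _ => 𝟙 E
  mem := by
    rw [Presieve.ofArrows_pUnit]
    haveI := h1
    haveI := h2
    haveI := h3
    exact Scheme.fppfPrecoverage_le_fpqcPrecoverage _ q.left.singleton_mem_fppfPrecoverage
  w := fun _ => Category.id_comp q

theorem mono_descendsAlong_fpqc :
    MorphismProperty.DescendsAlong (MorphismProperty.monomorphisms Scheme.{u})
      (@Surjective ⊓ @Flat ⊓ @QuasiCompact : MorphismProperty Scheme.{u}) := by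
  rw [← MorphismProperty.diagonal_isomorphisms]
  infer_instance

theorem isClosedImmersion_descendsAlong_fpqc :
    MorphismProperty.DescendsAlong @IsClosedImmersion
      (@Surjective ⊓ @Flat ⊓ @QuasiCompact : MorphismProperty Scheme.{u}) := by
  rw [IsClosedImmersion.eq_proper_inf_monomorphisms]
  haveI := isProper_descendsAlong_fpqc.{u}
  haveI := mono_descendsAlong_fpqc.{u}
  infer_instance

theorem diag_square {X Y K : Over S} (p : X ⟶ Y) (a b : K ⟶ X) (hK : IsPullback a b p p) :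
    IsPullback (lift a b) (a ≫ p) (p ⊗ₘ p) (lift (𝟙 Y) (𝟙 Y)) := by
  have w : lift a b ≫ (p ⊗ₘ p) = (a ≫ p) ≫ lift (𝟙 Y) (𝟙 Y) := by
    rw [lift_map, comp_lift, Category.comp_id, hK.w]
  refine isPullback_of_existsUnique w (fun T t y hty => ?_)
  have h1 : (t ≫ fst X X) ≫ p = y := by
    have := congrArg (fun k => k ≫ fst Y Y) hty
    simpa only [Category.assoc, tensorHom_fst, lift_fst, Category.comp_id] using this
  have h2 : (t ≫ snd X X) ≫ p = y := by
    have := congrArg (fun k => k ≫ snd Y Y) hty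
    simpa only [Category.assoc, tensorHom_snd, lift_snd, Category.comp_id] using this
  have h12 : (t ≫ fst X X) ≫ p = (t ≫ snd X X) ≫ p := h1.trans h2.symm
  refine ⟨hK.lift _ _ h12, ⟨?_, ?_⟩, fun m' hm' => ?_⟩
  · rw [comp_lift, hK.lift_fst, hK.lift_snd, lift_comp_fst_snd]
  · rw [← Category.assoc, hK.lift_fst, h1]
  · apply hK.hom_ext
    · rw [hK.lift_fst, ← hm'.1, comp_lift, lift_fst]
    · rw [hK.lift_snd, ← hm'.1, comp_lift, lift_snd]

theorem isSeparated_of_isClosedImmersion_lift {X Y K : Over S} (p : X ⟶ Y) (a b : K ⟶ X)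
    (hK : IsPullback a b p p) (c : OCov p) (hv : IsClosedImmersion (lift a b).left) :
    IsSeparated Y.hom := by
  have sq' := (diag_square p a b hK).flip.map (Over.forget S)
  haveI := isClosedImmersion_descendsAlong_fpqc.{u}
  have hd : IsClosedImmersion (lift (𝟙 Y) (𝟙 Y)).left :=
    (c.tensor c).prop_of_base_change @IsClosedImmersion (lift (𝟙 Y) (𝟙 Y)).left _ _ sq' hv
  exact ⟨hd⟩

theorem isPullback_shear_inv {G G' : Over S} [GrpObj G] [GrpObj G'] (u : G' ⟶ G) :
    IsPullback (lift ((G ◁ u) ≫ μ[G]) (fst G G')) (snd G G') ((snd G G)⁻¹ * fst G G) u := by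
  have hact : ∀ {T : Over S} (m : T ⟶ G ⊗ G'),
      m ≫ ((G ◁ u) ≫ μ[G]) = (m ≫ fst G G') * ((m ≫ snd G G') ≫ u) := by
    intro T m
    rw [QuotGrp.act_eq, MonObj.comp_mul, Category.assoc]
  have hR : ∀ {T : Over S} (t : T ⟶ G ⊗ G),
      t ≫ ((snd G G)⁻¹ * fst G G) = (t ≫ snd G G)⁻¹ * (t ≫ fst G G) := by
    intro T t
    rw [MonObj.comp_mul, GrpObj.comp_inv]
  have w : lift ((G ◁ u) ≫ μ[G]) (fst G G') ≫ ((snd G G)⁻¹ * fst G G) = snd G G' ≫ u := by
    rw [hR, lift_snd, lift_fst, QuotGrp.act_eq, _root_.inv_mul_cancel_left]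
  refine isPullback_of_existsUnique w (fun T t n htn => ?_)
  rw [hR] at htn
  have hx : t ≫ fst G G = (t ≫ snd G G) * (n ≫ u) := by
    rw [← htn, _root_.mul_inv_cancel_left]
  refine ⟨lift (t ≫ snd G G) n, ⟨?_, lift_snd _ _⟩, fun m hm => ?_⟩
  · apply CartesianMonoidalCategory.hom_ext
    · rw [Category.assoc, lift_fst, hact, lift_fst, lift_snd, hx]
    · rw [Category.assoc, lift_snd, lift_fst]
  · apply CartesianMonoidalCategory.hom_ext
    · rw [lift_fst, ← hm.1, Category.assoc, lift_snd]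
    · rw [lift_snd, hm.2]

theorem kernel_square {G G' G'' : Over S} [GrpObj G] [GrpObj G'] (u : G' ⟶ G) [Mono u]
    (p : G ⟶ G'') (hsq : IsPullback ((G ◁ u) ≫ μ[G]) (fst G G') p p) :
    IsPullback u (toUnit G') p (η[G] ≫ p) := by
  have sq := hsq.flip
  have w : u ≫ p = toUnit G' ≫ η[G] ≫ p := by
    have h := QuotGrp.comp_eq_of_eq_mul u p sq (1 : G' ⟶ G) (𝟙 G')
    rw [Category.id_comp, _root_.one_mul, Hom.one_def, Category.assoc] at h
    exact h
  refine isPullback_of_existsUnique w (fun T x y hxy => ?_)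
  have hy : y = toUnit T := toUnit_unique _ _
  have h1 : (1 : T ⟶ G) ≫ p = x ≫ p := by
    rw [hxy, hy, Hom.one_def, Category.assoc]
  obtain ⟨n, hn⟩ := QuotGrp.exists_of_comp_eq u p sq (1 : T ⟶ G) x h1
  rw [_root_.one_mul] at hn
  refine ⟨n, ⟨hn.symm, toUnit_unique _ _⟩, fun m hm => ?_⟩
  rw [← cancel_mono u, hm.1, hn]

theorem main5373 (S : Scheme.{u}) (X Y : Over S) (p : X ⟶ Y) :
    letI v : (pullback p p) ⟶ X ⊗ X := lift (pullback.fst p p) (pullback.snd p p)
    IsImmersion v.left ∧ (IsSeparated Y.hom → IsClosedImmersion v.left) ∧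
    ((∃ (Z : Scheme.{u}) (q : Z ⟶ Y.left) (r : Z ⟶ X.left), r ≫ p.left = q ∧ Surjective q ∧ Flat q ∧
        ∀ V : Y.left.Opens, IsAffineOpen V → ∃ W : Z.Opens, IsCompact (W : Set Z) ∧ q.base '' (W : Set Z) = (V : Set Y.left)) →
      IsClosedImmersion v.left → IsSeparated Y.hom) := by
  have sq := diag_square p (pullback.fst p p) (pullback.snd p p) (IsPullback.of_hasPullback p p)
  have sq' := sq.flip.map (Over.forget S)
  refine ⟨?_, ?_, ?_⟩
  · have hd : IsImmersion (lift (𝟙 Y) (𝟙 Y)).left := by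
      show IsImmersion (pullback.diagonal Y.hom)
      infer_instance
    exact MorphismProperty.of_isPullback (P := @IsImmersion) sq' hd
  · intro hs
    have hd : IsClosedImmersion (lift (𝟙 Y) (𝟙 Y)).left := by
      show IsClosedImmersion (pullback.diagonal Y.hom)
      infer_instance
    exact MorphismProperty.of_isPullback (P := @IsClosedImmersion) sq' hd
  · rintro ⟨Z, q, r, hrq, hs, hf, hqc⟩ hv
    have c := ocovOf p q r hrq (singleton_mem_fpqc_of_cover q hs hf hqc)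
    exact isSeparated_of_isClosedImmersion_lift p _ _ (IsPullback.of_hasPullback p p) c hv

theorem main5369 (S : Scheme.{u}) (G G' G'' : Over S) [GrpObj G] [GrpObj G']
    (u : G' ⟶ G) [IsMonHom u] [Mono u] (p : G ⟶ G'')
    (hcov : (∃ (Z : Scheme.{u}) (q : Z ⟶ G''.left) (r : Z ⟶ G.left), r ≫ p.left = q ∧ Surjective q ∧ Flat q ∧
        ∀ V : G''.left.Opens, IsAffineOpen V → ∃ W : Z.Opens, IsCompact (W : Set Z) ∧ q.base '' (W : Set Z) = (V : Set G''.left)))
    (hsq : IsPullback ((G ◁ u) ≫ μ[G]) (fst G G') p p) :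
    IsPullback u (toUnit G') p (η[G] ≫ p) ∧ IsImmersion u.left ∧
    (IsSeparated G''.hom ↔ IsClosedImmersion u.left) ∧ (IsClosedImmersion u.left ↔ IsClosedImmersion (η[G] ≫ p).left) := by
  obtain ⟨Z, q, r, hrq, hs, hf, hqc⟩ := hcov
  have c := ocovOf p q r hrq (singleton_mem_fpqc_of_cover q hs hf hqc)
  have ker := kernel_square u p hsq
  have ker' := ker.flip.map (Over.forget S)
  haveI := isClosedImmersion_descendsAlong_fpqc.{u}
  have eε : (η[G] ≫ p).left ≫ G''.hom = 𝟙 S := Over.w (η[G] ≫ p)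
  haveI hε : IsImmersion (η[G] ≫ p).left := by
    haveI : IsImmersion ((η[G] ≫ p).left ≫ G''.hom) := by
      rw [eε]
      show IsImmersion (𝟙 S)
      infer_instance
    exact IsImmersion.of_comp _ G''.hom
  have h2 : IsClosedImmersion (η[G] ≫ p).left → IsClosedImmersion u.left := fun h =>
    MorphismProperty.of_isPullback (P := @IsClosedImmersion) ker' h
  have h3 : IsClosedImmersion u.left → IsClosedImmersion (η[G] ≫ p).left := fun h =>
    c.prop_of_base_change @IsClosedImmersion (η[G] ≫ p).left _ _ ker' h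
  have h1 : IsSeparated G''.hom → IsClosedImmersion (η[G] ≫ p).left := by
    intro hsep
    haveI : IsClosedImmersion ((η[G] ≫ p).left ≫ G''.hom) := by
      rw [eε]
      show IsClosedImmersion (𝟙 S)
      infer_instance
    exact IsClosedImmersion.of_comp _ G''.hom
  have h4 : IsClosedImmersion u.left → IsSeparated G''.hom := by
    intro h
    have sh := (isPullback_shear_inv u).flip.map (Over.forget S)
    have hv : IsClosedImmersion (lift ((G ◁ u) ≫ μ[G]) (fst G G')).left :=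
      MorphismProperty.of_isPullback (P := @IsClosedImmersion) sh h
    exact isSeparated_of_isClosedImmersion_lift p _ _ hsq c hv
  exact ⟨ker, MorphismProperty.of_isPullback (P := @IsImmersion) ker' hε,
    ⟨fun h => h2 (h1 h), h4⟩, ⟨h3, h2⟩⟩

theorem main5370 (S : Scheme.{u}) (G G' G'' : Over S) [GrpObj G] [GrpObj G']
    (u : G' ⟶ G) [IsMonHom u] [Mono u] (p : G ⟶ G'')
    (hcov : (∃ (Z : Scheme.{u}) (q : Z ⟶ G''.left) (r : Z ⟶ G.left), r ≫ p.left = q ∧ Surjective q ∧ Flat q ∧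
        ∀ V : G''.left.Opens, IsAffineOpen V → ∃ W : Z.Opens, IsCompact (W : Set Z) ∧ q.base '' (W : Set Z) = (V : Set G''.left)))
    (hsq : IsPullback ((G ◁ u) ≫ μ[G]) (fst G G') p p) :
    (IsReduced G.left → IsReduced G''.left) ∧
    (Flat G'.hom ↔ Flat p.left) ∧ (Flat p.left → (Flat G''.hom ↔ Flat G.hom)) := by
  obtain ⟨Z, q, r, rfl, hs, hf, hqc⟩ := hcov
  have c := ocovOf p (r ≫ p.left) r rfl (singleton_mem_fpqc_of_cover (r ≫ p.left) hs hf hqc)
  have ker := kernel_square u p hsq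
  have ker' := ker.map (Over.forget S)
  haveI := hs
  haveI := hf
  haveI hsurj : Surjective p.left := Surjective.of_comp r p.left
  refine ⟨?_, ⟨?_, ?_⟩, ?_⟩
  · intro hred
    haveI := hred
    refine ⟨fun U => ?_⟩
    have hinj := ClosedDesc.app_injective_of_flat_of_surjective (r ≫ p.left) U
    have hinj2 : Function.Injective (p.left.app U).hom := by
      intro a b hab
      apply hinj
      have e : (r ≫ p.left).app U = p.left.app U ≫ r.app (p.left ⁻¹ᵁ U) :=
        Scheme.Hom.comp_app r p.left U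
      rw [e]
      show (r.app _).hom ((p.left.app U).hom a) = (r.app _).hom ((p.left.app U).hom b)
      rw [hab]
    exact isReduced_of_injective (p.left.app U).hom hinj2
  · intro hfl
    haveI := hfl
    have h1 : Flat (fst G G').left := by
      show Flat (pullback.fst G.hom G'.hom)
      infer_instance
    exact c.prop_of_base_change @Flat p.left _ _ (hsq.map (Over.forget S)) h1
  · intro hfl
    show Flat (toUnit G').left
    exact MorphismProperty.of_isPullback (P := @Flat) ker' hfl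
  · intro hfl
    haveI := hfl
    constructor
    · intro h
      haveI := h
      rw [← Over.w p]
      infer_instance
    · intro h
      haveI : Flat (p.left ≫ G''.hom) := by
        rw [Over.w p]
        exact h
      exact Groth.Agent.Lib.Helper3.flat_of_flat_comp_of_surjective p.left G''.hom

theorem main5372 (S : Scheme.{u}) (G G' G'' : Over S) [GrpObj G] [GrpObj G']
    (u : G' ⟶ G) [IsMonHom u] [Mono u] (p : G ⟶ G'')
    (hcov : (∃ (Z : Scheme.{u}) (q : Z ⟶ G''.left) (r : Z ⟶ G.left), r ≫ p.left = q ∧ Surjective q ∧ Flat q ∧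
        ∀ V : G''.left.Opens, IsAffineOpen V → ∃ W : Z.Opens, IsCompact (W : Set Z) ∧ q.base '' (W : Set Z) = (V : Set G''.left)))
    (hsq : IsPullback ((G ◁ u) ≫ μ[G]) (fst G G') p p) (hN : AlgGrp.IsNormalHom u) :
    ∃ _ : GrpObj G'', IsMonHom p ∧ ∀ m : G'' ⊗ G'' ⟶ G'', (p ⊗ₘ p) ≫ m = μ[G] ≫ p → m = μ[G''] := by
  obtain ⟨Z, q, r, hrq, hs, hf, hqc⟩ := hcov
  have c := ocovOf p q r hrq (singleton_mem_fpqc_of_cover q hs hf hqc)
  have sq := hsq.flip
  haveI : Epi p := c.epi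
  haveI hepi2 : Epi (p ⊗ₘ p) := (c.tensor c).epi
  haveI hepi3 : Epi ((p ⊗ₘ p) ⊗ₘ p) := ((c.tensor c).tensor c).epi
  have hμ : ∀ (T : Over S) (e₁ e₂ : T ⟶ G ⊗ G), e₁ ≫ (p ⊗ₘ p) = e₂ ≫ (p ⊗ₘ p) →
      e₁ ≫ μ[G] ≫ p = e₂ ≫ μ[G] ≫ p := by
    intro T e₁ e₂ hP
    have h1 : (e₁ ≫ fst G G) ≫ p = (e₂ ≫ fst G G) ≫ p := by
      have := congrArg (fun k => k ≫ fst G'' G'') hP
      simpa only [Category.assoc, tensorHom_fst] using this
    have h2 : (e₁ ≫ snd G G) ≫ p = (e₂ ≫ snd G G) ≫ p := by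
      have := congrArg (fun k => k ≫ snd G'' G'') hP
      simpa only [Category.assoc, tensorHom_snd] using this
    have h3 := QuotGrp.mul_comp_eq u hN p sq _ _ _ _ h1 h2
    have e : ∀ (R : T ⟶ G ⊗ G), (R ≫ fst G G) * (R ≫ snd G G) = R ≫ μ[G] := by
      intro R
      rw [← MonObj.comp_mul, ← MonObj.mul_eq_mul]
    rw [e, e, Category.assoc, Category.assoc] at h3
    exact h3
  have hι : ∀ (T : Over S) (e₁ e₂ : T ⟶ G), e₁ ≫ p = e₂ ≫ p →
      e₁ ≫ ι[G] ≫ p = e₂ ≫ ι[G] ≫ p := by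
    intro T e₁ e₂ hP
    have h3 := QuotGrp.inv_comp_eq u hN p sq e₁ e₂ hP
    rw [Hom.inv_def, Hom.inv_def, Category.assoc, Category.assoc] at h3
    exact h3
  obtain ⟨μ', R1⟩ := (c.tensor c).desc (μ[G] ≫ p) hμ
  obtain ⟨ι', R3⟩ := c.desc (ι[G] ≫ p) hι
  let s : GrpObj G'' :=
    { one := η[G] ≫ p
      mul := μ'
      one_mul := QuotGrp.one_mul' p μ' R1
      mul_one := QuotGrp.mul_one' p μ' R1
      mul_assoc := QuotGrp.mul_assoc' p μ' R1
      inv := ι'
      left_inv := QuotGrp.left_inv' p μ' ι' R1 R3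
      right_inv := QuotGrp.right_inv' p μ' ι' R1 R3 }
  refine ⟨s, ?_, ?_⟩
  · exact { one_hom := rfl, mul_hom := R1.symm }
  · intro m hm
    rw [← cancel_epi (p ⊗ₘ p)]
    exact hm.trans R1.symm

end

end Groth.Agent.Lib.Helper29.SGA3Quot
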