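import Groth.Agent.Lib.Helper29.SGA3Quot
import Groth.Agent.Lib.Helper9.FppfSource
import Groth.Agent.Lib.Helper25.SmoothDescent

/-!
# Helper library (helper29): fpqc quotients `G/G'` (SGA3 VI_B 9.2 (xii), (xiii))

* `formallyUnramified_of_comp`, `etale_of_comp`, `locallyQuasiFinite_of_comp`: these properties are
  fppf-local on the source (the cases lfp, lft, smooth are in `Helper9.FppfSource`,
  `Helper25.SmoothDescent`).
* `main5371`.
-/

set_option autoImplicit false
set_option maxHeartbeats 1600000
universe u
open CategoryTheory CategoryTheory.Limits AlgebraicGeometry MonoidalCategory CartesianMonoidalCategory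
  MonObj GrpObj TensorProduct

namespace Groth.Agent.Lib.Helper29.SGA3Quot2

open Groth.Agent.Lib.Helper29 Groth.Agent.Lib.Helper29.AssocBundle
  Groth.Agent.Lib.Helper29.SGA3Quot Groth.Agent.Lib.Helper9 Groth.Agent.Lib.Helper25

theorem unram_desc {R A B : Type u} [CommRing R] [CommRing A] [CommRing B] (φ : R →+* A)
    (ψ : A →+* B) (h1 : ψ.Flat) (h2 : ψ.FinitePresentation)
    (h3 : Function.Surjective (PrimeSpectrum.comap ψ))
    (h4 : (ψ.comp φ).FormallyUnramified) : φ.FormallyUnramified := by
  letI := φ.toAlgebra
  letI := ψ.toAlgebra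
  letI := (ψ.comp φ).toAlgebra
  haveI : IsScalarTower R A B := IsScalarTower.of_algebraMap_eq (fun _ => rfl)
  haveI : Module.Flat A B := h1
  haveI : Module.FaithfullyFlat A B := Module.FaithfullyFlat.of_comap_surjective h3
  haveI : Algebra.FinitePresentation A B := h2
  haveI : Algebra.FormallyUnramified R B := h4
  haveI : Algebra.FormallyUnramified A B :=
    Algebra.FormallyUnramified.of_restrictScalars (R := R) (A := A) (B := B)
  haveI : Algebra.Etale A B := Algebra.Etale.of_formallyUnramified_of_flat
  haveI : Subsingleton (B ⊗[A] KaehlerDifferential R A) :=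
    (KaehlerDifferential.tensorKaehlerEquivOfFormallyEtale R A B).toEquiv.subsingleton
  haveI : Subsingleton (KaehlerDifferential R A) :=
    Module.FaithfullyFlat.lTensor_reflects_triviality A B (KaehlerDifferential R A)
  show Algebra.FormallyUnramified R A
  exact ⟨inferInstance⟩

theorem unram_source : RingHom.StableUnderCompositionWithLocalizationAwaySource
    @RingHom.FormallyUnramified := by
  intro R S T _ _ _ _ r _ f hf
  exact RingHom.FormallyUnramified.stableUnderComposition _ _
    (RingHom.FormallyUnramified.holdsForLocalizationAway S r) hf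

/-- formally unramified is fppf-local on the source -/
theorem formallyUnramified_of_comp {X Y S : Scheme.{u}} (f : X ⟶ Y) (q : Y ⟶ S) [Surjective f]
    [Flat f] [LocallyOfFinitePresentation f] [h : FormallyUnramified (f ≫ q)] :
    FormallyUnramified q :=
  FppfSource.core (P := @FormallyUnramified) unram_source (fun φ ψ => unram_desc φ ψ) f q h

/-- étale is fppf-local on the source -/
theorem etale_of_comp {X Y S : Scheme.{u}} (f : X ⟶ Y) (q : Y ⟶ S) [Surjective f]
    [Flat f] [LocallyOfFinitePresentation f] [h : Etale (f ≫ q)] : Etale q := by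
  haveI : Flat (f ≫ q) := inferInstance
  haveI : Flat q := Groth.Agent.Lib.Helper3.flat_of_flat_comp_of_surjective f q
  haveI : LocallyOfFinitePresentation q := FppfSource.lfp_of_comp f q
  haveI : FormallyUnramified q := formallyUnramified_of_comp f q
  exact Etale.of_formallyUnramified_of_flat q

/-- locally quasi-finite (+ locally of finite type) is fppf-local on the source -/
theorem locallyQuasiFinite_of_comp {X Y S : Scheme.{u}} (f : X ⟶ Y) (q : Y ⟶ S) [Surjective f]
    [Flat f] [LocallyOfFinitePresentation f] [LocallyOfFiniteType (f ≫ q)]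
    [h : LocallyQuasiFinite (f ≫ q)] : LocallyQuasiFinite q := by
  haveI : LocallyOfFiniteType q := FppfSource.lft_of_comp f q
  rw [locallyQuasiFinite_iff_isDiscrete_preimage_singleton]
  intro s
  have h1 : _root_.IsDiscrete ((f ≫ q) ⁻¹' {s}) := (f ≫ q).isDiscrete_preimage_singleton s
  rw [isDiscrete_iff_forall_mem_exists_isOpen] at h1 ⊢
  intro y hy
  obtain ⟨x, rfl⟩ := f.surjective y
  have hx : x ∈ (f ≫ q) ⁻¹' {s} := by
    show (f ≫ q) x ∈ ({s} : Set S)
    rw [Scheme.Hom.comp_apply]
    exact hy
  obtain ⟨V, hV, hVx⟩ := h1 x hx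
  refine ⟨f '' V, f.isOpenMap V hV, ?_⟩
  ext y'
  constructor
  · rintro ⟨⟨x', hx'V, rfl⟩, hy'⟩
    have hx'' : x' ∈ V ∩ (f ≫ q) ⁻¹' {s} := by
      refine ⟨hx'V, ?_⟩
      show (f ≫ q) x' ∈ ({s} : Set S)
      rw [Scheme.Hom.comp_apply]
      exact hy'
    rw [hVx, Set.mem_singleton_iff] at hx''
    rw [Set.mem_singleton_iff, hx'']
  · intro hy'
    rw [Set.mem_singleton_iff] at hy'
    subst hy'
    have hxV : x ∈ V ∩ (f ≫ q) ⁻¹' {s} := by
      rw [hVx]
      exact Set.mem_singleton x
    exact ⟨⟨x, hxV.1, rfl⟩, hy⟩

theorem quasiSeparated_descendsAlong_fpqc :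
    MorphismProperty.DescendsAlong @QuasiSeparated
      (@Surjective ⊓ @Flat ⊓ @QuasiCompact : MorphismProperty Scheme.{u}) := by
  rw [quasiSeparated_eq_diagonal_is_quasiCompact]
  infer_instance

theorem main5371 (S : Scheme.{u}) (G G' G'' : Over S) [GrpObj G] [GrpObj G']
    (u : G' ⟶ G) [IsMonHom u] [Mono u] (p : G ⟶ G'')
    (hcov : (∃ (Z : Scheme.{u}) (q : Z ⟶ G''.left) (r : Z ⟶ G.left), r ≫ p.left = q ∧ Surjective q ∧ Flat q ∧
        ∀ V : G''.left.Opens, IsAffineOpen V → ∃ W : Z.Opens, IsCompact (W : Set Z) ∧ q.base '' (W : Set Z) = (V : Set G''.left)))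
    (hsq : IsPullback ((G ◁ u) ≫ μ[G]) (fst G G') p p) :
    ((Flat G'.hom ∧ LocallyOfFinitePresentation G'.hom) ↔
      (Surjective p.left ∧ Flat p.left ∧ LocallyOfFinitePresentation p.left)) ∧
    (Flat p.left → LocallyOfFinitePresentation p.left →
      (LocallyOfFinitePresentation G.hom → LocallyOfFinitePresentation G''.hom) ∧
      (LocallyOfFiniteType G.hom → LocallyOfFiniteType G''.hom) ∧
      (LocallyOfFiniteType G.hom → QuasiCompact G.hom → QuasiCompact G''.hom) ∧
      (Smooth G.hom → Smooth G''.hom) ∧ (Etale G.hom → Etale G''.hom) ∧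
      (FormallyUnramified G.hom → LocallyOfFinitePresentation G.hom → FormallyUnramified G''.hom) ∧
      (LocallyQuasiFinite G.hom → LocallyOfFiniteType G.hom → LocallyQuasiFinite G''.hom)) ∧
    (Flat G'.hom → LocallyOfFinitePresentation G'.hom → QuasiCompact G'.hom → QuasiSeparated G'.hom →
      QuasiCompact p.left ∧ QuasiSeparated p.left ∧ LocallyOfFinitePresentation p.left ∧
      ((LocallyOfFinitePresentation G.hom ∧ QuasiCompact G.hom ∧ QuasiSeparated G.hom) ↔
        (LocallyOfFinitePresentation G''.hom ∧ QuasiCompact G''.hom ∧ QuasiSeparated G''.hom))) := by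
  obtain ⟨Z, q, r, rfl, hs, hf, hqc⟩ := hcov
  have c := ocovOf p (r ≫ p.left) r rfl (singleton_mem_fpqc_of_cover (r ≫ p.left) hs hf hqc)
  have ker := kernel_square u p hsq
  have ker' := ker.map (Over.forget S)
  have hsq' := hsq.map (Over.forget S)
  haveI := hs
  haveI hsurj : Surjective p.left := Surjective.of_comp r p.left
  haveI := quasiSeparated_descendsAlong_fpqc.{u}
  have up : ∀ (P : MorphismProperty Scheme.{u}) [P.IsStableUnderBaseChange]
      [IsZariskiLocalAtTarget P]
      [P.DescendsAlong (@Surjective ⊓ @Flat ⊓ @QuasiCompact : MorphismProperty Scheme.{u})],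
      P G'.hom → P p.left := by
    intro P _ _ _ h
    have h1 : P (fst G G').left := by
      show P (pullback.fst G.hom G'.hom)
      exact P.pullback_fst _ _ h
    exact c.prop_of_base_change P p.left _ _ hsq' h1
  have down : ∀ (P : MorphismProperty Scheme.{u}) [P.IsStableUnderBaseChange],
      P p.left → P G'.hom := by
    intro P _ h
    show P (toUnit G').left
    exact MorphismProperty.of_isPullback (P := P) ker' h
  have src : ∀ (P : MorphismProperty Scheme.{u}),
      (∀ (q : G''.left ⟶ S), P (p.left ≫ q) → P q) → P G.hom → P G''.hom := by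
    intro P hP h
    apply hP
    rw [Over.w p]
    exact h
  refine ⟨⟨?_, ?_⟩, ?_, ?_⟩
  · rintro ⟨h1, h2⟩
    exact ⟨hsurj, up @Flat h1, up @LocallyOfFinitePresentation h2⟩
  · rintro ⟨-, h1, h2⟩
    exact ⟨down @Flat h1, down @LocallyOfFinitePresentation h2⟩
  · intro hfl hfp
    haveI := hfl
    haveI := hfp
    refine ⟨?_, ?_, ?_, ?_, ?_, ?_, ?_⟩
    · exact src @LocallyOfFinitePresentation (fun q h => by
        haveI := h
        exact FppfSource.lfp_of_comp p.left q)
    · exact src @LocallyOfFiniteType (fun q h => by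
        haveI := h
        exact FppfSource.lft_of_comp p.left q)
    · intro _ hc
      exact src @QuasiCompact (fun q h => by
        haveI := h
        exact FppfSource.quasiCompact_of_comp p.left q) hc
    · exact src @Smooth (fun q h => by
        haveI := h
        exact SmoothDescent.smooth_of_comp p.left q)
    · exact src @Etale (fun q h => by
        haveI := h
        exact etale_of_comp p.left q)
    · intro hu _
      exact src @FormallyUnramified (fun q h => by
        haveI := h
        exact formallyUnramified_of_comp p.left q) hu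
    · intro hq ht
      haveI : LocallyOfFiniteType (p.left ≫ G''.hom) := by
        rw [Over.w p]
        exact ht
      haveI : LocallyQuasiFinite (p.left ≫ G''.hom) := by
        rw [Over.w p]
        exact hq
      exact locallyQuasiFinite_of_comp p.left G''.hom
  · intro hfl hfp hc hsep
    haveI hpfl : Flat p.left := up @Flat hfl
    haveI hpfp : LocallyOfFinitePresentation p.left := up @LocallyOfFinitePresentation hfp
    haveI hpc : QuasiCompact p.left := up @QuasiCompact hc
    haveI hps : QuasiSeparated p.left := up @QuasiSeparated hsep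
    refine ⟨hpc, hps, hpfp, ⟨?_, ?_⟩⟩
    · rintro ⟨h1, h2, h3⟩
      refine ⟨?_, ?_, ?_⟩
      · exact src @LocallyOfFinitePresentation (fun q h => by
          haveI := h
          exact FppfSource.lfp_of_comp p.left q) h1
      · exact src @QuasiCompact (fun q h => by
          haveI := h
          exact FppfSource.quasiCompact_of_comp p.left q) h2
      · exact src @QuasiSeparated (fun q h => by
          haveI := h
          exact FppfSource.quasiSeparated_of_comp p.left q) h3
    · rintro ⟨h1, h2, h3⟩
      haveI := h1
      haveI := h2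
      haveI := h3
      refine ⟨?_, ?_, ?_⟩
      · rw [← Over.w p]
        infer_instance
      · rw [← Over.w p]
        infer_instance
      · rw [← Over.w p]
        infer_instance

end Groth.Agent.Lib.Helper29.SGA3Quot2
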