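import Mathlib

set_option autoImplicit false
universe u

namespace Groth.Agent.Lib.Helper29.SLPath

open Matrix Matrix.SpecialLinearGroup Polynomial

variable {ι : Type*} [Fintype ι] [DecidableEq ι]

lemma map_transvection {R S : Type*} [CommRing R] [CommRing S] (f : R →+* S) {i j : ι}
    (hij : i ≠ j) (b : R) :
    SpecialLinearGroup.map f (transvection hij b) = transvection hij (f b) := by
  apply Subtype.ext
  ext a c
  simp only [map_apply_coe, RingHom.mapMatrix_apply, transvection_coe, Matrix.map_apply,
    Matrix.add_apply, Matrix.one_apply, Matrix.single_apply]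
  split_ifs <;> simp

lemma tmul {K : Type*} [Field K] (i j : ι) (x : K) (M : Matrix ι ι K) (a b : ι) :
    (Matrix.transvection i j x * M) a b = if a = i then M i b + x * M j b else M a b := by
  split_ifs with h
  · rw [h]; exact Matrix.transvection_mul_apply_same i j b x M
  · exact Matrix.transvection_mul_apply_of_ne i j a b h x M

omit [Fintype ι] in
lemma tv_apply {K : Type*} [Field K] (i j : ι) (x : K) (a b : ι) :
    Matrix.transvection i j x a b =
      (if b = a then 1 else 0) + (if a = i ∧ b = j then x else 0) := by
  simp only [Matrix.transvection, Matrix.add_apply, Matrix.one_apply, Matrix.single_apply]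
  congr 1
  · simp only [eq_comm]
  · simp only [eq_comm]

lemma diag2n_decompose {K : Type*} [Field K] {i j : ι} (hij : i ≠ j) (c : K) (hc : c ≠ 0) :
    diag2n hij c hc = transvection hij c * (transvection hij.symm (-c⁻¹) * (transvection hij c *
      (transvection hij (-1) * (transvection hij.symm 1 * transvection hij (-1))))) := by
  apply Subtype.ext
  ext a b
  change (diag2n hij c hc).1 a b = ((Matrix.transvection i j c * (Matrix.transvection j i (-c⁻¹) *
    (Matrix.transvection i j c * (Matrix.transvection i j (-1) * (Matrix.transvection j i 1 *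
      Matrix.transvection i j (-1))))) : Matrix ι ι K)) a b
  rw [diag2n_coe, diagonal_apply]
  have hji : j ≠ i := hij.symm
  simp only [tmul, tv_apply, hij, hji, if_true, if_false, true_and, false_and]
  by_cases hai : a = i <;> by_cases haj : a = j <;> by_cases hbi : b = i <;> by_cases hbj : b = j
  all_goals first
    | (exfalso; exact hij (hai.symm.trans haj))
    | (exfalso; exact hij (hbi.symm.trans hbj))
    | skip
  all_goals
    simp [hai, haj, hbi, hbj, hij, hji]
  all_goals (try field_simp)
  all_goals (try ring)
  all_goals first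
    | exact Or.inr trivial
    | (intro h; exact absurd h.symm hbi)
    | (intro h; exact absurd h.symm hbj)
    | exact fun h => hai h.symm
    | exact fun h => haj h.symm
    | simp only [eq_comm]

theorem main15083 (K : Type u) [Field K] (r : ℕ) (hr : 1 ≤ r)
    (A : Matrix.SpecialLinearGroup (Fin (r + 1)) K) :
    ∃ M : Matrix.SpecialLinearGroup (Fin (r + 1)) (Polynomial K),
      Matrix.SpecialLinearGroup.map (Polynomial.evalRingHom (0 : K)) M = 1 ∧
      Matrix.SpecialLinearGroup.map (Polynomial.evalRingHom (1 : K)) M = A := by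
  obtain ⟨s, rfl⟩ := Nat.exists_eq_add_of_le' hr
  have htv : ∀ (i j : Fin (s + 1 + 1)) (hij : i ≠ j) (a : K),
      ∃ M : SpecialLinearGroup (Fin (s + 1 + 1)) K[X],
      SpecialLinearGroup.map (evalRingHom (0 : K)) M = 1 ∧
      SpecialLinearGroup.map (evalRingHom (1 : K)) M = transvection hij a := by
    intro i j hij a
    refine ⟨transvection hij (C a * X), ?_, ?_⟩
    · rw [map_transvection]; simp
    · rw [map_transvection]; simp
  have hmul : ∀ A B : SpecialLinearGroup (Fin (s + 1 + 1)) K,
      (∃ M : SpecialLinearGroup (Fin (s + 1 + 1)) K[X],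
        SpecialLinearGroup.map (evalRingHom (0 : K)) M = 1 ∧
        SpecialLinearGroup.map (evalRingHom (1 : K)) M = A) →
      (∃ M : SpecialLinearGroup (Fin (s + 1 + 1)) K[X],
        SpecialLinearGroup.map (evalRingHom (0 : K)) M = 1 ∧
        SpecialLinearGroup.map (evalRingHom (1 : K)) M = B) →
      ∃ M : SpecialLinearGroup (Fin (s + 1 + 1)) K[X],
        SpecialLinearGroup.map (evalRingHom (0 : K)) M = 1 ∧
        SpecialLinearGroup.map (evalRingHom (1 : K)) M = A * B := by
    rintro A B ⟨MA, hA0, hA1⟩ ⟨MB, hB0, hB1⟩
    exact ⟨MA * MB, by rw [map_mul, hA0, hB0, mul_one], by rw [map_mul, hA1, hB1]⟩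
  refine diagonal_transvection_induction' (fun A =>
    ∃ M : SpecialLinearGroup (Fin (s + 1 + 1)) K[X],
        SpecialLinearGroup.map (evalRingHom (0 : K)) M = 1 ∧
        SpecialLinearGroup.map (evalRingHom (1 : K)) M = A) A ?_ htv hmul
  intro i j hij c hc
  rw [diag2n_decompose hij c hc]
  exact hmul _ _ (htv _ _ _ _) (hmul _ _ (htv _ _ _ _) (hmul _ _ (htv _ _ _ _)
    (hmul _ _ (htv _ _ _ _) (hmul _ _ (htv _ _ _ _) (htv _ _ _ _)))))

end Groth.Agent.Lib.Helper29.SLPath
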