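import Mathlib
import Groth.Agent.Lib.Helper11.KPts2

/-!
# Rational points of geometrically reduced schemes over separably closed fields (helper29)
-/

set_option autoImplicit false
set_option maxHeartbeats 1600000
set_option linter.style.haveILetI false
universe u

open CategoryTheory CategoryTheory.Limits AlgebraicGeometry

namespace Groth.Agent.Lib.Helper29.SepClosedPt

theorem main18366 (k : Type u) [Field k] [IsSepClosed k]
    {X : Scheme.{u}} (f : X ⟶ Spec (CommRingCat.of k)) [LocallyOfFiniteType f] [QuasiCompact f] [GeometricallyReduced f]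
    [Nonempty X] :
    ∃ s : Spec (CommRingCat.of k) ⟶ X, s ≫ f = 𝟙 (Spec (CommRingCat.of k)) := by
  haveI : IsReduced X := Groth.Agent.Lib.Helper11.KPts.isReduced_of_geometricallyReduced k f
  have hd := Groth.Agent.Lib.Helper11.KPts.dense_pts_of_geometricallyReduced k k f
  obtain ⟨w, p, hp, -⟩ := hd.nonempty
  have hid : Spec.map (CommRingCat.ofHom (algebraMap k k)) = 𝟙 (Spec (CommRingCat.of k)) := by
    simp
  exact ⟨p, hp.trans hid⟩

end Groth.Agent.Lib.Helper29.SepClosedPt
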