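import Mathlib

set_option autoImplicit false
universe v u w
open CategoryTheory CategoryTheory.Limits

namespace Groth.Agent.Lib.Helper29.SigmaConstProd

section
variable {C : Type u} [Category.{v} C] [HasFiniteProducts C] [HasCoproducts.{w} C]

/-- the discrete-object functor -/
noncomputable abbrev Fc : Type w ⥤ C := sigmaConst.{w}.obj (⊤_ C)

lemma F_map_ι {X Y : Type w} (f : X → Y) (x : X) :
    Sigma.ι (fun _ : X => ⊤_ C) x ≫ (Fc (C := C)).map (TypeCat.ofHom f) =
      Sigma.ι (fun _ : Y => ⊤_ C) (f x) := by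
  refine (Sigma.ι_comp_map' _ _ x).trans ?_
  exact Category.id_comp _

lemma isTerminal_F_punit : Nonempty (IsTerminal ((Fc (C := C)).obj PUnit.{w+1})) := by
  refine ⟨IsTerminal.ofIso terminalIsTerminal
    ⟨Sigma.ι (fun _ : PUnit.{w+1} => ⊤_ C) PUnit.unit, Sigma.desc (fun _ => 𝟙 _), ?_, ?_⟩⟩
  · exact Sigma.ι_desc _ _
  · apply Sigma.hom_ext
    intro b
    cases b
    rw [← Category.assoc, Sigma.ι_desc, Category.id_comp]
    exact (Category.comp_id _).symm

variable (I J : Type w)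

/-- `∐_{I×J} pt ⟶ ∐_I ∐_J pt` -/
noncomputable def α : (Fc (C := C)).obj (I × J) ⟶ ∐ (fun _ : I => (Fc (C := C)).obj J) :=
  Sigma.desc (fun p : I × J => Sigma.ι (fun _ : J => ⊤_ C) p.2 ≫
    Sigma.ι (fun _ : I => (Fc (C := C)).obj J) p.1)

/-- inverse of `α` -/
noncomputable def α' : ∐ (fun _ : I => (Fc (C := C)).obj J) ⟶ (Fc (C := C)).obj (I × J) :=
  Sigma.desc (fun i => Sigma.desc (fun j => Sigma.ι (fun _ : I × J => ⊤_ C) (i, j)))

lemma α_α' : α (C := C) I J ≫ α' I J = 𝟙 _ := by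
  apply Sigma.hom_ext
  intro p
  simp only [α, α', Category.assoc, Sigma.ι_desc_assoc, Sigma.ι_desc]
  exact (Category.comp_id _).symm

lemma α'_α : α' (C := C) I J ≫ α I J = 𝟙 _ := by
  apply Sigma.hom_ext
  intro i
  apply Sigma.hom_ext
  intro j
  simp only [α, α', Category.assoc, Sigma.ι_desc_assoc, Sigma.ι_desc, Category.comp_id]

lemma key_fst :
    (α (C := C) I J ≫ Sigma.desc (fun i : I =>
      prod.lift (terminal.from ((Fc (C := C)).obj J) ≫ Sigma.ι (fun _ : I => ⊤_ C) i)
        (𝟙 ((Fc (C := C)).obj J)))) ≫ prod.fst =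
      (Fc (C := C)).map (TypeCat.ofHom (Prod.fst : I × J → I)) := by
  apply Sigma.hom_ext
  intro p
  rw [F_map_ι]
  have e : Sigma.ι (fun _ : J => ⊤_ C) p.2 ≫ terminal.from ((Fc (C := C)).obj J) = 𝟙 _ :=
    Subsingleton.elim _ _
  simp only [α, Category.assoc, Sigma.ι_desc_assoc, Sigma.ι_desc, prod.lift_fst]
  exact (Category.assoc _ _ _).symm.trans
    ((congrArg (· ≫ Sigma.ι (fun _ : I => ⊤_ C) p.1) e).trans (Category.id_comp _))

lemma key_snd :
    (α (C := C) I J ≫ Sigma.desc (fun i : I =>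
      prod.lift (terminal.from ((Fc (C := C)).obj J) ≫ Sigma.ι (fun _ : I => ⊤_ C) i)
        (𝟙 ((Fc (C := C)).obj J)))) ≫ prod.snd =
      (Fc (C := C)).map (TypeCat.ofHom (Prod.snd : I × J → J)) := by
  apply Sigma.hom_ext
  intro p
  rw [F_map_ι]
  simp only [α, Category.assoc, Sigma.ι_desc_assoc, Sigma.ι_desc, prod.lift_snd]
  exact Category.comp_id _

lemma isLimitFan (h : ∀ (I : Type w) (U : C), IsIso (Sigma.desc fun i : I =>
      prod.lift (terminal.from U ≫ Sigma.ι (fun _ : I => ⊤_ C) i) (𝟙 U))) :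
    Nonempty (IsLimit (BinaryFan.mk ((Fc (C := C)).map (TypeCat.ofHom (Prod.fst : I × J → I)))
      ((Fc (C := C)).map (TypeCat.ofHom (Prod.snd : I × J → J))))) := by
  let β := Sigma.desc (fun i : I =>
      prod.lift (terminal.from ((Fc (C := C)).obj J) ≫ Sigma.ι (fun _ : I => ⊤_ C) i)
        (𝟙 ((Fc (C := C)).obj J)))
  have : IsIso β := h I _
  have : IsIso (α (C := C) I J) := ⟨⟨α' I J, α_α' I J, α'_α I J⟩⟩
  let c := α (C := C) I J ≫ β
  have : IsIso c := inferInstance
  have h1 : c ≫ prod.fst = _ := key_fst I J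
  have h2 : c ≫ prod.snd = _ := key_snd I J
  have hi1 : inv c ≫ (Fc (C := C)).map (TypeCat.ofHom (Prod.fst : I × J → I)) = prod.fst := by
    rw [IsIso.inv_comp_eq]; exact h1.symm
  have hi2 : inv c ≫ (Fc (C := C)).map (TypeCat.ofHom (Prod.snd : I × J → J)) = prod.snd := by
    rw [IsIso.inv_comp_eq]; exact h2.symm
  refine ⟨BinaryFan.IsLimit.mk _ (fun f g => prod.lift f g ≫ inv c) ?_ ?_ ?_⟩
  · intro T f g
    exact (Category.assoc _ _ _).trans
      ((congrArg (prod.lift f g ≫ ·) hi1).trans (prod.lift_fst f g))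
  · intro T f g
    exact (Category.assoc _ _ _).trans
      ((congrArg (prod.lift f g ≫ ·) hi2).trans (prod.lift_snd f g))
  · intro T f g m hm1 hm2
    rw [IsIso.eq_comp_inv]
    apply prod.hom_ext
    · exact (Category.assoc _ _ _).trans
        ((congrArg (m ≫ ·) h1).trans (hm1.trans (prod.lift_fst f g).symm))
    · exact (Category.assoc _ _ _).trans
        ((congrArg (m ≫ ·) h2).trans (hm2.trans (prod.lift_snd f g).symm))

lemma preserves_pair (h : ∀ (I : Type w) (U : C), IsIso (Sigma.desc fun i : I =>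
      prod.lift (terminal.from U ≫ Sigma.ι (fun _ : I => ⊤_ C) i) (𝟙 U))) :
    PreservesLimit (pair I J) (Fc (C := C)) := by
  obtain ⟨hl⟩ := isLimitFan I J h
  apply preservesLimit_of_preserves_limit_cone (Types.binaryProductLimit I J)
  exact (isLimitMapConeBinaryFanEquiv (Fc (C := C)) (TypeCat.ofHom (Prod.fst : I × J → I))
    (TypeCat.ofHom (Prod.snd : I × J → J))).symm hl

end

theorem main14447 {C : Type u} [Category.{v} C]
    [HasFiniteProducts C] [HasCoproducts.{w} C]
    (h : ∀ (I : Type w) (U : C), IsIso (Sigma.desc fun i : I =>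
      prod.lift (terminal.from U ≫ Sigma.ι (fun _ : I => ⊤_ C) i) (𝟙 U))) :
    PreservesFiniteProducts (sigmaConst.{w}.obj (⊤_ C)) := by
  have hT : PreservesLimit (Functor.empty.{0} (Type w)) (Fc (C := C)) := by
    obtain ⟨ht⟩ := isTerminal_F_punit (C := C)
    exact preservesLimit_of_preserves_limit_cone Types.isTerminalPUnit
      ((isLimitMapConeEmptyConeEquiv (Fc (C := C)) PUnit.{w+1}).symm ht)
  have hT' : PreservesLimitsOfShape (Discrete PEmpty.{1}) (Fc (C := C)) :=
    preservesLimitsOfShape_pempty_of_preservesTerminal _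
  have hB : PreservesLimitsOfShape (Discrete WalkingPair) (Fc (C := C)) := by
    constructor
    intro K
    have : PreservesLimit (pair (K.obj ⟨WalkingPair.left⟩) (K.obj ⟨WalkingPair.right⟩))
        (Fc (C := C)) := preserves_pair _ _ h
    exact preservesLimit_of_iso_diagram _ (diagramIsoPair K).symm
  exact PreservesFiniteProducts.of_preserves_binary_and_terminal _

end Groth.Agent.Lib.Helper29.SigmaConstProd
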