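import Mathlib

set_option autoImplicit false
universe u

namespace Groth.Agent.Lib.Helper29.SmoothCotangent

open KaehlerDifferential TensorProduct

variable (A : Type u) [CommRing A] (B : Type u) [CommRing B] [Algebra A B]
  (C : Type u) [CommRing C] [Algebra B C] [Algebra A C] [IsScalarTower A B C]

/-- kernel of `A → C` -/
abbrev kI : Ideal A := RingHom.ker (algebraMap A C)
/-- kernel of `B → C` -/
abbrev kJ : Ideal B := RingHom.ker (algebraMap B C)

/-- `A/I² → C` -/
noncomputable def gmap : A ⧸ (kI A C) ^ 2 →ₐ[A] C :=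
  Ideal.Quotient.liftₐ ((kI A C) ^ 2) (Algebra.ofId A C)
    (fun _ ha => RingHom.mem_ker.mp (Ideal.pow_le_self two_ne_zero ha))

lemma gmap_mk (a : A) : gmap A C (Ideal.Quotient.mk _ a) = algebraMap A C a := rfl

lemma gmap_mul_eq_zero (x y : A ⧸ (kI A C) ^ 2) (hx : gmap A C x = 0) (hy : gmap A C y = 0) :
    x * y = 0 := by
  obtain ⟨a, rfl⟩ := Ideal.Quotient.mk_surjective x
  obtain ⟨b, rfl⟩ := Ideal.Quotient.mk_surjective y
  rw [gmap_mk] at hx hy
  rw [← map_mul, Ideal.Quotient.eq_zero_iff_mem, pow_two]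
  exact Ideal.mul_mem_mul (RingHom.mem_ker.mpr hx) (RingHom.mem_ker.mpr hy)

variable {A B C}

/-- the linear map `J → I/I²` induced by a lift `σ` -/
noncomputable def rAux (σ : B →ₐ[A] A ⧸ (kI A C) ^ 2)
    (hσJ : ∀ j : B, j ∈ kJ B C → σ j ∈ (kI A C).cotangentIdeal) :
    (kJ B C) →ₗ[A] (kI A C).Cotangent where
  toFun j := (kI A C).cotangentEquivIdeal.symm ⟨σ j.1, hσJ j.1 j.2⟩
  map_add' x y := by
    rw [← map_add]
    congr 1
    exact Subtype.ext (map_add σ _ _)
  map_smul' a x := by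
    rw [RingHom.id_apply, ← map_smul]
    congr 1
    exact Subtype.ext (map_smul σ a _)

lemma rAux_mul (σ : B →ₐ[A] A ⧸ (kI A C) ^ 2)
    (hσJ : ∀ j : B, j ∈ kJ B C → σ j ∈ (kI A C).cotangentIdeal) (x y : kJ B C) :
    rAux σ hσJ (x * y) = 0 := by
  have h1 : σ x.1 * σ y.1 ∈ (kI A C).cotangentIdeal ^ 2 := by
    rw [pow_two ((kI A C).cotangentIdeal)]; exact Ideal.mul_mem_mul (hσJ _ x.2) (hσJ _ y.2)
  rw [Ideal.cotangentIdeal_square, Ideal.mem_bot] at h1
  show (kI A C).cotangentEquivIdeal.symm ⟨σ (x * y).1, _⟩ = 0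
  rw [LinearEquiv.map_eq_zero_iff]
  apply Subtype.ext
  show σ (x.1 * y.1) = 0
  rw [map_mul]; exact h1

theorem main9450 [Algebra.FormallySmooth A B] (hC : Function.Surjective (algebraMap A C)) :
    Function.Injective (Ideal.mapCotangent (RingHom.ker (algebraMap A C))
        (RingHom.ker (algebraMap B C)) (Algebra.ofId A B)
        (le_of_eq (congrArg RingHom.ker (IsScalarTower.algebraMap_eq A B C)))) ∧
      (∃ r : (RingHom.ker (algebraMap B C)).Cotangent →ₗ[A] (RingHom.ker (algebraMap A C)).Cotangent,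
        r ∘ₗ (Ideal.mapCotangent (RingHom.ker (algebraMap A C)) (RingHom.ker (algebraMap B C))
          (Algebra.ofId A B)
          (le_of_eq (congrArg RingHom.ker (IsScalarTower.algebraMap_eq A B C)))) = LinearMap.id) ∧
      LinearMap.range (Ideal.mapCotangent (RingHom.ker (algebraMap A C))
          (RingHom.ker (algebraMap B C)) (Algebra.ofId A B)
          (le_of_eq (congrArg RingHom.ker (IsScalarTower.algebraMap_eq A B C)))) =
        LinearMap.ker ((KaehlerDifferential.kerCotangentToTensor A B C).restrictScalars A) ∧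
      Function.Surjective (KaehlerDifferential.kerCotangentToTensor A B C) := by
  have hIJ : kI A C ≤ (kJ B C).comap (Algebra.ofId A B) :=
    le_of_eq (congrArg RingHom.ker (IsScalarTower.algebraMap_eq A B C))
  obtain ⟨α, hα⟩ : ∃ α : (kI A C).Cotangent →ₗ[A] (kJ B C).Cotangent,
      α = Ideal.mapCotangent (RingHom.ker (algebraMap A C))
        (RingHom.ker (algebraMap B C)) (Algebra.ofId A B)
        (le_of_eq (congrArg RingHom.ker (IsScalarTower.algebraMap_eq A B C))) := ⟨_, rfl⟩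
  rw [← hα]
  have hαt : ∀ i : kI A C, α ((kI A C).toCotangent i)
      = (kJ B C).toCotangent ⟨algebraMap A B i.1, hIJ i.2⟩ := by
    intro i; rw [hα]; rfl
  have hBC : Function.Surjective (algebraMap B C) := by
    intro c
    obtain ⟨a, ha⟩ := hC c
    exact ⟨algebraMap A B a, (IsScalarTower.algebraMap_apply A B C a).symm.trans ha⟩
  -- the lift σ
  have hgsurj : Function.Surjective (gmap A C) := by
    intro c
    obtain ⟨a, ha⟩ := hC c
    exact ⟨Ideal.Quotient.mk _ a, (gmap_mk A C a).trans ha⟩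
  have hgnil : IsNilpotent (RingHom.ker ((gmap A C : A ⧸ (kI A C) ^ 2 →ₐ[A] C) :
      A ⧸ (kI A C) ^ 2 →+* C)) := by
    refine ⟨2, ?_⟩
    rw [Ideal.zero_eq_bot, eq_bot_iff, pow_two (RingHom.ker ((gmap A C : A ⧸ (kI A C) ^ 2 →ₐ[A] C) :
      A ⧸ (kI A C) ^ 2 →+* C)), Ideal.mul_le]
    intro x hx y hy
    rw [Ideal.mem_bot]
    exact gmap_mul_eq_zero A C x y (RingHom.mem_ker.mp hx) (RingHom.mem_ker.mp hy)
  obtain ⟨σ, hσ⟩ : ∃ σ : B →ₐ[A] A ⧸ (kI A C) ^ 2, ∀ b, gmap A C (σ b) = algebraMap B C b :=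
    ⟨Algebra.FormallySmooth.liftOfSurjective (IsScalarTower.toAlgHom A B C) (gmap A C) hgsurj hgnil,
      fun b => Algebra.FormallySmooth.liftOfSurjective_apply _ _ hgsurj hgnil b⟩
  have hσA : ∀ a : A, σ (algebraMap A B a) = Ideal.Quotient.mk _ a := fun a => σ.commutes a
  have hσJ : ∀ j : B, j ∈ kJ B C → σ j ∈ (kI A C).cotangentIdeal := by
    intro j hj
    obtain ⟨a, ha⟩ := Ideal.Quotient.mk_surjective (σ j)
    have h1 : algebraMap A C a = 0 := by
      rw [← gmap_mk, ha, hσ]; exact RingHom.mem_ker.mp hj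
    rw [← ha]
    exact Ideal.mk_mem_cotangentIdeal.mpr (RingHom.mem_ker.mpr h1)
  -- the retraction
  obtain ⟨r, hr⟩ : ∃ r : (kJ B C).Cotangent →ₗ[A] (kI A C).Cotangent,
      ∀ x : kJ B C, (kI A C).cotangentToQuotientSquare (r ((kJ B C).toCotangent x)) = σ x.1 := by
    refine ⟨Ideal.Cotangent.lift (rAux σ hσJ) (rAux_mul σ hσJ), fun x => ?_⟩
    rw [Ideal.Cotangent.lift_toCotangent]
    show (kI A C).cotangentToQuotientSquare
      ((kI A C).cotangentEquivIdeal.symm ⟨σ x.1, hσJ x.1 x.2⟩) = σ x.1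
    rw [← Ideal.cotangentEquivIdeal_apply, LinearEquiv.apply_symm_apply]
  have h2 : r ∘ₗ α = LinearMap.id := by
    apply LinearMap.ext
    intro y
    obtain ⟨i, rfl⟩ := Ideal.toCotangent_surjective _ y
    apply Ideal.cotangentToQuotientSquare_injective
    rw [LinearMap.comp_apply, LinearMap.id_apply, hαt, hr, Ideal.toCotangent_to_quotient_square]
    exact hσA i.1
  have h1 : Function.Injective α :=
    Function.LeftInverse.injective (g := r) (fun y => LinearMap.congr_fun h2 y)
  refine ⟨h1, ⟨r, h2⟩, ?_, ?_⟩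
  · -- middle exactness
    -- the second lift
    have hle : (kI A C) ^ 2 ≤ ((kJ B C) ^ 2).comap (Algebra.ofId A B) :=
      (Ideal.pow_right_mono hIJ 2).trans (Ideal.le_comap_pow _ 2)
    obtain ⟨φb, hφb⟩ : ∃ φb : A ⧸ (kI A C) ^ 2 →ₐ[A] B ⧸ (kJ B C) ^ 2,
        ∀ a : A, φb (Ideal.Quotient.mk _ a) = Ideal.Quotient.mk _ (algebraMap A B a) :=
      ⟨Ideal.quotientMapₐ ((kJ B C) ^ 2) (Algebra.ofId A B) hle, fun a => rfl⟩
    -- naturality
    have hnat : ∀ y : (kI A C).Cotangent,
        (kJ B C).cotangentToQuotientSquare (α y) = φb ((kI A C).cotangentToQuotientSquare y) := by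
      intro y
      obtain ⟨i, rfl⟩ := Ideal.toCotangent_surjective _ y
      rw [hαt, Ideal.toCotangent_to_quotient_square, Ideal.toCotangent_to_quotient_square]
      exact (hφb i.1).symm
    -- f b - mk b ∈ cotangentIdeal
    have hmem : ∀ b : B, φb (σ b) - Ideal.Quotient.mk ((kJ B C) ^ 2) b ∈ (kJ B C).cotangentIdeal := by
      intro b
      obtain ⟨a, ha⟩ := Ideal.Quotient.mk_surjective (σ b)
      rw [← ha, hφb, ← map_sub]
      apply Ideal.mk_mem_cotangentIdeal.mpr
      rw [RingHom.mem_ker, map_sub, ← IsScalarTower.algebraMap_apply, ← gmap_mk, ha, hσ, sub_self]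
    have he : (Ideal.Quotient.mkₐ A (kJ B C).cotangentIdeal).comp (φb.comp σ)
        = IsScalarTower.toAlgHom A B ((B ⧸ (kJ B C) ^ 2) ⧸ (kJ B C).cotangentIdeal) := by
      apply AlgHom.ext
      intro b
      show Ideal.Quotient.mk (kJ B C).cotangentIdeal (φb (σ b))
        = Ideal.Quotient.mk (kJ B C).cotangentIdeal (Ideal.Quotient.mk ((kJ B C) ^ 2) b)
      rw [Ideal.Quotient.eq]
      exact hmem b
    obtain ⟨δ, hδ⟩ : ∃ δ : Derivation A B (kJ B C).cotangentIdeal,
        ∀ b : B, ((δ b : (kJ B C).cotangentIdeal) : B ⧸ (kJ B C) ^ 2)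
          = φb (σ b) - Ideal.Quotient.mk ((kJ B C) ^ 2) b :=
      ⟨derivationToSquareZeroOfLift (kJ B C).cotangentIdeal (Ideal.cotangentIdeal_square _)
        (φb.comp σ) he, fun b => rfl⟩
    obtain ⟨δ', hδ'⟩ : ∃ δ' : Derivation A B (kJ B C).Cotangent,
        ∀ b : B, δ' b = (kJ B C).cotangentEquivIdeal.symm (δ b) :=
      ⟨((kJ B C).cotangentEquivIdeal.symm.toLinearMap).compDer δ, fun b => rfl⟩
    have hK2 : ∀ x : kJ B C, δ' x.1 = α (r ((kJ B C).toCotangent x)) - (kJ B C).toCotangent x := by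
      intro x
      apply Ideal.cotangentToQuotientSquare_injective
      rw [hδ', map_sub, hnat, hr, Ideal.toCotangent_to_quotient_square,
        ← Ideal.cotangentEquivIdeal_apply, LinearEquiv.apply_symm_apply, hδ]
      rfl
    -- the map ℓ : C → B/J
    obtain ⟨ℓ, hℓ⟩ : ∃ ℓ : C →ₗ[B] B ⧸ kJ B C, ℓ 1 = 1 := by
      let e := RingHom.quotientKerEquivOfSurjective hBC
      refine ⟨{ toFun := e.symm
                map_add' := map_add e.symm
                map_smul' := fun b c => ?_ }, map_one e.symm⟩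
      rw [RingHom.id_apply, Algebra.smul_def, map_mul, Algebra.smul_def]
      congr 1
      exact RingHom.quotientKerEquivOfSurjective_symm_apply hBC b
    ext x
    constructor
    · rintro ⟨y, rfl⟩
      obtain ⟨i, rfl⟩ := Ideal.toCotangent_surjective _ y
      rw [LinearMap.mem_ker, LinearMap.restrictScalars_apply, hαt,
        KaehlerDifferential.kerCotangentToTensor_toCotangent]
      show (1 : C) ⊗ₜ[B] (KaehlerDifferential.D A B) (algebraMap A B i.1) = 0
      rw [Derivation.map_algebraMap, TensorProduct.tmul_zero]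
    · intro hx
      obtain ⟨j, rfl⟩ := Ideal.toCotangent_surjective _ x
      rw [LinearMap.mem_ker, LinearMap.restrictScalars_apply,
        KaehlerDifferential.kerCotangentToTensor_toCotangent] at hx
      have h3 := congrArg (fun z => (LinearMap.liftBaseChange (B ⧸ kJ B C)
        δ'.liftKaehlerDifferential) (LinearMap.rTensor _ ℓ z)) hx
      simp only [LinearMap.rTensor_tmul, hℓ, LinearMap.liftBaseChange_tmul, one_smul, map_zero,
        Derivation.liftKaehlerDifferential_comp_D] at h3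
      rw [hK2, sub_eq_zero] at h3
      exact ⟨r ((kJ B C).toCotangent j), h3⟩
  · -- surjectivity
    have hex := KaehlerDifferential.exact_kerCotangentToTensor_mapBaseChange A B C hBC
    have := KaehlerDifferential.subsingleton_of_surjective A C hC
    exact fun z => (hex z).mp (Subsingleton.elim _ _)

end Groth.Agent.Lib.Helper29.SmoothCotangent
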