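import Mathlib
import Groth.Prelude.Def_Curv2
import Groth.Agent.Lib.Helper14.DenseSmooth
import Groth.Agent.Lib.Helper12.RatPoint
import Groth.Agent.Lib.Helper11.FX1
import Groth.Agent.Lib.Helper29.IdCompDim

/-!
# A variety with a smooth rational point is geometrically integral (S7613)
-/

set_option autoImplicit false
set_option maxHeartbeats 1600000
set_option linter.style.haveILetI false
universe u

open CategoryTheory CategoryTheory.Limits AlgebraicGeometry

namespace Groth.Agent.Lib.Helper29.SmoothRatInt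

theorem aux (k : Type u) [Field k] (X : Scheme.{u}) (f : X ⟶ Spec (CommRingCat.of k))
    [IsIntegral X] [LocallyOfFiniteType f]
    (x : ↥X) [IsIso (X.fromSpecResidueField x ≫ f)]
    (hsm : x ∈ f.smoothLocus) :
    GeometricallyIntegral f := by
  haveI : Subsingleton ↥(Spec (CommRingCat.of k)) :=
    inferInstanceAs (Subsingleton (PrimeSpectrum k))
  obtain ⟨U, hU⟩ : ∃ U : X.Opens, U = f.smoothLocus := ⟨_, rfl⟩
  have hxU : x ∈ U := hU ▸ hsm
  haveI hUs : Smooth (U.ι ≫ f) := by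
    rw [hU]
    exact Groth.Agent.Lib.Helper14.DenseSmooth.smooth_smoothLocus_ι f
  have hUd : Dense (U : Set X) := U.isOpen.dense ⟨x, hxU⟩
  haveI : GeometricallyReduced f :=
    (Groth.Agent.Lib.Helper14.DenseSmooth.geomReduced_iff_dense_smooth k f).mpr ⟨U, hUd, hUs⟩
  -- the rational point as a section of `U`
  let σ₀ : Spec (CommRingCat.of k) ⟶ X :=
    inv (X.fromSpecResidueField x ≫ f) ≫ X.fromSpecResidueField x
  have hσ₀ : σ₀ ≫ f = 𝟙 _ := by
    rw [Category.assoc, IsIso.inv_hom_id]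
  have hrange : Set.range σ₀ ⊆ Set.range U.ι := by
    rw [Scheme.Opens.range_ι]
    rintro _ ⟨z, rfl⟩
    have hz : σ₀ z ∈ Set.range (X.fromSpecResidueField x) := by
      rw [Scheme.Hom.comp_apply]
      exact ⟨_, rfl⟩
    rw [Scheme.range_fromSpecResidueField] at hz
    rw [Set.mem_singleton_iff] at hz
    rw [hz]
    exact hxU
  let σ : Spec (CommRingCat.of k) ⟶ U.toScheme := IsOpenImmersion.lift U.ι σ₀ hrange
  have hσ : σ ≫ (U.ι ≫ f) = 𝟙 _ := by
    rw [← Category.assoc, IsOpenImmersion.lift_fac, hσ₀]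
  haveI : Nonempty ↥U.toScheme := ⟨⟨x, hxU⟩⟩
  haveI : IsIntegral U.toScheme := isIntegral_of_isOpenImmersion U.ι
  haveI : ConnectedSpace ↥U.toScheme := inferInstance
  have hgc : GeometricallyConnected (U.ι ≫ f) :=
    Groth.Agent.Lib.Helper11.FX1.geometricallyConnected_of_section k (U.ι ≫ f) σ hσ
  have hgen : genericPoint X ∈ U :=
    (genericPoint_specializes x).mem_open U.isOpen hxU
  haveI : GeometricallyIrreducible f := by
    refine ⟨fun K _ y Z p₁ p₂ h => ?_⟩
    show IrreducibleSpace ↥Z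
    obtain ⟨W, hW⟩ : ∃ W : Z.Opens, W = p₁ ⁻¹ᵁ U := ⟨_, rfl⟩
    have h1 : IsPullback (p₁ ∣_ U) (p₁ ⁻¹ᵁ U).ι U.ι p₁ := isPullback_morphismRestrict p₁ U
    have h2 : IsPullback (p₁ ∣_ U) ((p₁ ⁻¹ᵁ U).ι ≫ p₂) (U.ι ≫ f) y := h1.paste_vert h
    haveI : ConnectedSpace ↥(p₁ ⁻¹ᵁ U).toScheme := hgc.geometrically_connectedSpace y _ _ h2
    haveI : Smooth ((p₁ ⁻¹ᵁ U).ι ≫ p₂) :=
      MorphismProperty.of_isPullback (P := @Smooth) h2 inferInstance
    obtain ⟨z⟩ := (inferInstance : Nonempty ↥(p₁ ⁻¹ᵁ U).toScheme)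
    have hirr := Groth.Agent.Lib.Helper29.IdCompDim.isIrreducible_connectedComponent K
      ((p₁ ⁻¹ᵁ U).ι ≫ p₂) z
    have hWirr : IsIrreducible (Set.univ : Set ↥(p₁ ⁻¹ᵁ U).toScheme) := by
      rw [← PreconnectedSpace.connectedComponent_eq_univ z]
      exact hirr
    have hWirr' : IsIrreducible ((p₁ ⁻¹ᵁ U : Z.Opens) : Set Z) := by
      have h3 := hWirr.image (p₁ ⁻¹ᵁ U).ι (p₁ ⁻¹ᵁ U).ι.continuous.continuousOn
      rwa [Set.image_univ, Scheme.Opens.range_ι] at h3
    haveI : Flat y := inferInstance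
    haveI : Flat p₁ := MorphismProperty.of_isPullback (P := @Flat) h.flip inferInstance
    have hWd : Dense ((p₁ ⁻¹ᵁ U : Z.Opens) : Set Z) := by
      rw [dense_iff_inter_open]
      rintro V hV ⟨z, hz⟩
      have hsp : genericPoint X ⤳ p₁ z := genericPoint_specializes _
      obtain ⟨z', hz', hz'η⟩ := (Flat.generalizingMap p₁) hsp
      refine ⟨z', hz'.mem_open hV hz, ?_⟩
      show p₁ z' ∈ U
      rw [hz'η]
      exact hgen
    rw [irreducibleSpace_def]
    have h4 := hWirr'.closure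
    rwa [hWd.closure_eq] at h4
  exact GeometricallyIntegral.of_geometricallyReduced_of_geometricallyIrreducible _

theorem main7613 (k : Type u) [Field k] (X : Scheme.{u}) [X.Over (Spec (CommRingCat.of k))]
    [IsIntegral X] [IsSeparated (X ↘ (Spec (CommRingCat.of k)))]
    [LocallyOfFiniteType (X ↘ (Spec (CommRingCat.of k)))]
    [QuasiCompact (X ↘ (Spec (CommRingCat.of k)))]
    (x : ↥X) (hx : Function.Surjective (Curv2.resMap k X x))
    (hsm : x ∈ (X ↘ (Spec (CommRingCat.of k))).smoothLocus) :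
    GeometricallyIntegral (X ↘ (Spec (CommRingCat.of k))) := by
  haveI : IsIso (X.fromSpecResidueField x ≫ (X ↘ (Spec (CommRingCat.of k)))) :=
    Groth.Agent.Lib.Helper12.isIso_fromSpecResidueField_comp_of_surjective k X x hx
  exact aux k X (X ↘ (Spec (CommRingCat.of k))) x hsm

end Groth.Agent.Lib.Helper29.SmoothRatInt
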