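import Mathlib
import Groth.Agent.Lib.Helper29.SpecProd

/-!
# Clopen refinements in spectral spaces (helper29): statement S0179
-/

set_option autoImplicit false
universe u

namespace Groth.Agent.Lib.Helper29.SpecClopen

open Topology Set TopologicalSpace Groth.Agent.Lib.Helper29.SpecProd

theorem main0179 (X : Type u) [TopologicalSpace X] [SpectralSpace X] :
    (∀ (ι : Type u) (U : ι → Set X), (∀ i, IsOpen (U i)) → (⋃ i, U i) = Set.univ →
      ∃ (n : ℕ) (V : Fin n → Set X), (∀ k, IsClopen (V k)) ∧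
        Pairwise (fun k l => Disjoint (V k) (V l)) ∧ (⋃ k, V k) = Set.univ ∧
          ∀ k, ∃ i, V k ⊆ U i) ↔
    Function.Bijective
      (fun x : {x : X // IsClosed ({x} : Set X)} => ConnectedComponents.mk x.1) := by
  constructor
  · intro h
    constructor
    · rintro ⟨x, hx⟩ ⟨y, hy⟩ hxy
      by_contra hne
      have hne' : x ≠ y := fun e => hne (Subtype.ext e)
      have hxy' : ConnectedComponents.mk x = ConnectedComponents.mk y := hxy
      let U : ULift.{u} Bool → Set X := fun b => if b.down then {x}ᶜ else {y}ᶜ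
      have hUo : ∀ b, IsOpen (U b) := by
        rintro ⟨b⟩
        cases b
        · exact hy.isOpen_compl
        · exact hx.isOpen_compl
      have hUc : (⋃ b, U b) = Set.univ := by
        rw [Set.eq_univ_iff_forall]
        intro p
        by_cases hp : p = x
        · refine Set.mem_iUnion.2 ⟨⟨false⟩, ?_⟩
          show p ∈ ({y}ᶜ : Set X)
          rw [hp]
          exact hne'
        · exact Set.mem_iUnion.2 ⟨⟨true⟩, hp⟩
      obtain ⟨n, V, hV, -, hVc, hVU⟩ := h _ U hUo hUc
      have hxV : x ∈ ⋃ k, V k := by rw [hVc]; trivial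
      obtain ⟨k, hk⟩ := Set.mem_iUnion.1 hxV
      have hyk : y ∈ V k := by
        apply (hV k).connectedComponent_subset hk
        exact ConnectedComponents.coe_eq_coe'.1 hxy'.symm
      obtain ⟨⟨b⟩, hb⟩ := hVU k
      cases b
      · exact hb hyk rfl
      · exact hb hk rfl
    · intro c
      obtain ⟨x, rfl⟩ := ConnectedComponents.surjective_coe c
      obtain ⟨x₀, hx₀, hx₀c⟩ := (isClosed_connectedComponent (x := x)).exists_closed_singleton
        ⟨x, mem_connectedComponent⟩
      exact ⟨⟨x₀, hx₀c⟩, ConnectedComponents.coe_eq_coe'.2 hx₀⟩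
  · rintro ⟨hinj, hsurj⟩ ι U hUo hUc
    -- each connected component lies in some `U i`
    have hcomp : ∀ x : X, ∃ i, connectedComponent x ⊆ U i := by
      intro x
      obtain ⟨⟨x₀, hx₀c⟩, hx₀⟩ := hsurj (ConnectedComponents.mk x)
      have hx₀' : ConnectedComponents.mk x₀ = ConnectedComponents.mk x := hx₀
      have hx₀U : x₀ ∈ ⋃ i, U i := by rw [hUc]; trivial
      obtain ⟨i, hi⟩ := Set.mem_iUnion.1 hx₀U
      refine ⟨i, fun y hy => ?_⟩
      obtain ⟨y₀, hy₀, hy₀c⟩ := (isClosed_closure (s := ({y} : Set X))).exists_closed_singleton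
        ⟨y, subset_closure rfl⟩
      have hpre : IsPreconnected (closure ({y} : Set X)) := isPreconnected_singleton.closure
      have hy₀y : y₀ ∈ connectedComponent y :=
        hpre.subset_connectedComponent (subset_closure rfl) hy₀
      have e1 : ConnectedComponents.mk y₀ = ConnectedComponents.mk y :=
        ConnectedComponents.coe_eq_coe'.2 hy₀y
      have e2 : ConnectedComponents.mk y = ConnectedComponents.mk x :=
        ConnectedComponents.coe_eq_coe'.2 hy
      have e3 : (⟨y₀, hy₀c⟩ : {x : X // IsClosed ({x} : Set X)}) = ⟨x₀, hx₀c⟩ :=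
        hinj (show ConnectedComponents.mk y₀ = ConnectedComponents.mk x₀ by
          rw [e1, e2, hx₀'])
      have e4 : y₀ = x₀ := congrArg Subtype.val e3
      have hspec : y ⤳ x₀ := by
        rw [← e4]
        exact specializes_iff_mem_closure.2 hy₀
      exact hspec.mem_open (hUo i) hi
    have hZ : ∀ x : X, ∃ Z : Set X, IsClopen Z ∧ x ∈ Z ∧ ∃ i, Z ⊆ U i := by
      intro x
      obtain ⟨i, hi⟩ := hcomp x
      have hempty : (U i)ᶜ ∩ ⋂ s : { s : Set X // IsClopen s ∧ x ∈ s }, (s : Set X) = ∅ := by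
        rw [← connectedComponent_eq_iInter_isClopen' x, Set.eq_empty_iff_forall_notMem]
        rintro p ⟨hp1, hp2⟩
        exact hp1 (hi hp2)
      obtain ⟨Z, hZc, hxZ, hZe⟩ :=
        exists_clopen_disjoint x (hUo i).isClosed_compl.isCompact hempty
      refine ⟨Z, hZc, hxZ, i, fun p hp => ?_⟩
      by_contra hn
      have hmem : p ∈ (U i)ᶜ ∩ Z := ⟨hn, hp⟩
      rw [hZe] at hmem
      exact hmem
    choose Z hZc hxZ i hZi using hZ
    obtain ⟨t, ht⟩ := isCompact_univ.elim_finite_subcover Z (fun x => (hZc x).isOpen)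
      (fun x _ => Set.mem_iUnion.2 ⟨x, hxZ x⟩)
    let f : Fin t.card → X := fun k => (t.equivFin.symm k).1
    have hfcov : ∀ p : X, ∃ k, p ∈ Z (f k) := by
      intro p
      obtain ⟨x, hx, hpx⟩ := Set.mem_iUnion₂.1 (ht (Set.mem_univ p))
      refine ⟨t.equivFin ⟨x, hx⟩, ?_⟩
      show p ∈ Z ((t.equivFin.symm (t.equivFin ⟨x, hx⟩)).1)
      rw [Equiv.symm_apply_apply]
      exact hpx
    let V : Fin t.card → Set X := fun k =>
      Z (f k) \ ⋃ j : {j : Fin t.card // j < k}, Z (f j.1)
    refine ⟨t.card, V, fun k => ?_, ?_, ?_, fun k => ⟨i (f k), fun p hp => hZi _ hp.1⟩⟩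
    · exact (hZc (f k)).diff (isClopen_iUnion_of_finite fun j => hZc (f j.1))
    · intro k l hkl
      rcases lt_or_gt_of_ne hkl with hlt | hgt
      · rw [Set.disjoint_left]
        rintro p ⟨hpk, _⟩ ⟨_, hpl⟩
        exact hpl (Set.mem_iUnion.2 ⟨⟨k, hlt⟩, hpk⟩)
      · rw [Set.disjoint_left]
        rintro p ⟨_, hpk⟩ ⟨hpl, _⟩
        exact hpk (Set.mem_iUnion.2 ⟨⟨l, hgt⟩, hpl⟩)
    · rw [Set.eq_univ_iff_forall]
      intro p
      have key : ∀ m : ℕ, ∀ k : Fin t.card, (k : ℕ) = m → p ∈ Z (f k) → p ∈ ⋃ k, V k := by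
        intro m
        induction m using Nat.strong_induction_on with
        | _ m ih =>
          intro k hk hp
          by_cases hex : ∃ j : Fin t.card, j < k ∧ p ∈ Z (f j)
          · obtain ⟨j, hjk, hj⟩ := hex
            exact ih j (by rw [← hk]; exact hjk) j rfl hj
          · refine Set.mem_iUnion.2 ⟨k, hp, fun hmem => hex ?_⟩
            obtain ⟨⟨j, hj⟩, hpj⟩ := Set.mem_iUnion.1 hmem
            exact ⟨j, hj, hpj⟩
      obtain ⟨k, hk⟩ := hfcov p
      exact key k k rfl hk

end Groth.Agent.Lib.Helper29.SpecClopen
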