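import Mathlib

/-!
# The square-zero algebra extension attached to an extension of `Ω[B⁄A]` by a module (helper29)

Given `B`-linear maps `i : M → N`, `q : N → Ω[B⁄A]` with `i` injective, `q` surjective and exact in the
middle, the fibre product `E = {(b, n) : d b = q n}` with the multiplication
`(b, n)(b', n') = (b b', b n' + b' n)` is an `A`-algebra surjecting onto `B` with square-zero kernel `≅ M`,
and `B ⊗_E Ω[E⁄A] ≅ N` compatibly with the conormal sequence.
-/

set_option autoImplicit false
universe u

namespace Groth.Agent.Lib.Helper29.SqZeroExt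

open TensorProduct

section Ring

variable {A B : Type u} [CommRing A] [CommRing B] [Algebra A B]
variable {N : Type u} [AddCommGroup N] [Module B N]

/-- the fibre product `B ×_{Ω} N` -/
@[ext] structure E (q : N →ₗ[B] Ω[B⁄A]) : Type u where
  /-- first component -/
  fst : B
  /-- second component -/
  snd : N
  cond : KaehlerDifferential.D A B fst = q snd

variable {q : N →ₗ[B] Ω[B⁄A]}

namespace E

instance : Zero (E q) := ⟨⟨0, 0, by rw [map_zero, map_zero]⟩⟩
instance : One (E q) := ⟨⟨1, 0, by rw [map_zero]; exact Derivation.map_one_eq_zero _⟩⟩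
instance : Add (E q) :=
  ⟨fun x y => ⟨x.fst + y.fst, x.snd + y.snd, by rw [map_add, map_add, x.cond, y.cond]⟩⟩
instance : Neg (E q) := ⟨fun x => ⟨-x.fst, -x.snd, by rw [map_neg, map_neg, x.cond]⟩⟩
instance : Mul (E q) := ⟨fun x y => ⟨x.fst * y.fst, x.fst • y.snd + y.fst • x.snd, by
  rw [Derivation.leibniz, map_add, map_smul, map_smul, x.cond, y.cond]⟩⟩

instance instCommRing : CommRing (E q) where
  add := Add.add
  zero := 0
  mul := Mul.mul
  one := 1
  neg := Neg.neg
  nsmul := nsmulRec
  zsmul := zsmulRec
  add_assoc x y z := E.ext (add_assoc x.fst y.fst z.fst) (add_assoc x.snd y.snd z.snd)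
  zero_add x := E.ext (zero_add x.fst) (zero_add x.snd)
  add_zero x := E.ext (add_zero x.fst) (add_zero x.snd)
  add_comm x y := E.ext (add_comm x.fst y.fst) (add_comm x.snd y.snd)
  neg_add_cancel x := E.ext (neg_add_cancel x.fst) (neg_add_cancel x.snd)
  left_distrib x y z := E.ext (mul_add x.fst y.fst z.fst) (by
    show x.fst • (y.snd + z.snd) + (y.fst + z.fst) • x.snd =
      (x.fst • y.snd + y.fst • x.snd) + (x.fst • z.snd + z.fst • x.snd)
    module)
  right_distrib x y z := E.ext (add_mul x.fst y.fst z.fst) (by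
    show (x.fst + y.fst) • z.snd + z.fst • (x.snd + y.snd) =
      (x.fst • z.snd + z.fst • x.snd) + (y.fst • z.snd + z.fst • y.snd)
    module)
  zero_mul x := E.ext (zero_mul x.fst) (by
    show (0 : B) • x.snd + x.fst • (0 : N) = 0
    rw [zero_smul, smul_zero, add_zero])
  mul_zero x := E.ext (mul_zero x.fst) (by
    show x.fst • (0 : N) + (0 : B) • x.snd = 0
    rw [zero_smul, smul_zero, add_zero])
  mul_assoc x y z := E.ext (mul_assoc x.fst y.fst z.fst) (by
    show (x.fst * y.fst) • z.snd + z.fst • (x.fst • y.snd + y.fst • x.snd) =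
      x.fst • (y.fst • z.snd + z.fst • y.snd) + (y.fst * z.fst) • x.snd
    module)
  one_mul x := E.ext (one_mul x.fst) (by
    show (1 : B) • x.snd + x.fst • (0 : N) = x.snd
    rw [one_smul, smul_zero, add_zero])
  mul_one x := E.ext (mul_one x.fst) (by
    show x.fst • (0 : N) + (1 : B) • x.snd = x.snd
    rw [one_smul, smul_zero, zero_add])
  mul_comm x y := E.ext (mul_comm x.fst y.fst) (by
    show x.fst • y.snd + y.fst • x.snd = y.fst • x.snd + x.fst • y.snd
    exact add_comm _ _)

end E

/-- the projection to `B` -/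
def fstHom (q : N →ₗ[B] Ω[B⁄A]) : E q →+* B where
  toFun := E.fst
  map_one' := rfl
  map_mul' _ _ := rfl
  map_zero' := rfl
  map_add' _ _ := rfl

/-- the structure map -/
def ofA (q : N →ₗ[B] Ω[B⁄A]) : A →+* E q where
  toFun a := ⟨algebraMap A B a, 0, by rw [map_zero]; exact Derivation.map_algebraMap _ a⟩
  map_one' := E.ext (map_one _) rfl
  map_mul' a a' := E.ext (map_mul _ a a') (by
    show (0 : N) = algebraMap A B a • (0 : N) + algebraMap A B a' • (0 : N)
    rw [smul_zero, smul_zero, add_zero])
  map_zero' := E.ext (map_zero _) rfl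
  map_add' a a' := E.ext (map_add _ a a') (by show (0 : N) = 0 + 0; rw [add_zero])

instance : Algebra A (E q) := (ofA q).toAlgebra
instance : Algebra (E q) B := (fstHom q).toAlgebra
instance : IsScalarTower A (E q) B := IsScalarTower.of_algebraMap_eq (fun _ => rfl)

lemma algebraMap_apply (e : E q) : algebraMap (E q) B e = e.fst := rfl

instance : Module (E q) N := Module.compHom N (fstHom q)

lemma smul_def (e : E q) (n : N) : e • n = e.fst • n := rfl

instance : IsScalarTower (E q) B N := ⟨fun e b n => by
  show (e.fst * b) • n = e.fst • (b • n)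
  rw [mul_smul]⟩

variable [Module A N] [IsScalarTower A B N]

instance : IsScalarTower A (E q) N := ⟨fun a e n => by
  show ((algebraMap A B a) * e.fst) • n = a • (e.fst • n)
  rw [mul_smul, algebraMap_smul]⟩

/-- the second projection as a derivation -/
def δ (q : N →ₗ[B] Ω[B⁄A]) : Derivation A (E q) N where
  toFun := E.snd
  map_add' _ _ := rfl
  map_smul' a e := by
    show algebraMap A B a • e.snd + e.fst • (0 : N) = a • e.snd
    rw [smul_zero, add_zero, algebraMap_smul]
  map_one_eq_zero' := rfl
  leibniz' x y := rfl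

/-- the comparison map `B ⊗_E Ω[E⁄A] → N` -/
noncomputable def fN (q : N →ₗ[B] Ω[B⁄A]) : B ⊗[E q] Ω[E q⁄A] →ₗ[B] N :=
  LinearMap.liftBaseChange B (δ q).liftKaehlerDifferential

lemma fN_tmul (b : B) (e : E q) :
    fN q (b ⊗ₜ[E q] KaehlerDifferential.D A (E q) e) = b • e.snd := by
  unfold fN
  rw [LinearMap.liftBaseChange_tmul, Derivation.liftKaehlerDifferential_comp_D]
  rfl

end Ring

section Ext

open Algebra.Extension

variable {A B : Type u} [CommRing A] [CommRing B] [Algebra A B]
variable {M N : Type u} [AddCommGroup M] [Module B M] [AddCommGroup N] [Module B N]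
variable (q : N →ₗ[B] Ω[B⁄A]) (i : M →ₗ[B] N) (hq : Function.Surjective q)
  (hex : Function.Exact i q)

/-- the extension `E → B` -/
@[reducible] noncomputable def ext : Algebra.Extension.{u} A B where
  Ring := E q
  σ b := ⟨b, (hq (KaehlerDifferential.D A B b)).choose,
    (hq (KaehlerDifferential.D A B b)).choose_spec.symm⟩
  algebraMap_σ _ := rfl

lemma mem_ker_iff (x : E q) : x ∈ (ext q hq).ker ↔ x.fst = 0 := by
  rw [RingHom.mem_ker]
  rfl

lemma ker_sq : (ext q hq).ker ^ 2 = ⊥ := by
  rw [pow_two, eq_bot_iff, Ideal.mul_le]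
  intro x hx y hy
  rw [mem_ker_iff] at hx hy
  rw [Ideal.mem_bot]
  apply E.ext
  · show x.fst * y.fst = 0
    rw [hx, zero_mul]
  · show x.fst • y.snd + y.fst • x.snd = 0
    rw [hx, hy, zero_smul, zero_smul, add_zero]

/-- the element `(0, i m)` of the kernel -/
def kerElt (m : M) : (ext q hq).ker :=
  ⟨⟨0, i m, by rw [map_zero]; exact (hex.apply_apply_eq_zero m).symm⟩,
    (mem_ker_iff q hq _).mpr rfl⟩

/-- `M → ker/ker²` -/
noncomputable def e1inv : M →ₗ[B] (ext q hq).Cotangent where
  toFun m := Algebra.Extension.Cotangent.mk (kerElt q i hq hex m)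
  map_add' m m' := by
    rw [← map_add]
    congr 1
    apply Subtype.ext
    apply E.ext
    · show (0 : B) = 0 + 0
      rw [add_zero]
    · show i (m + m') = i m + i m'
      rw [map_add]
  map_smul' b m := by
    rw [RingHom.id_apply]
    have h1 : b • Algebra.Extension.Cotangent.mk (kerElt q i hq hex m) =
        ((ext q hq).σ b) • Algebra.Extension.Cotangent.mk (kerElt q i hq hex m) := by
      rw [← algebraMap_smul B ((ext q hq).σ b)
        (Algebra.Extension.Cotangent.mk (kerElt q i hq hex m)), (ext q hq).algebraMap_σ]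
    rw [h1, ← map_smul]
    congr 1
    apply Subtype.ext
    apply E.ext
    · show (0 : B) = b * 0
      rw [mul_zero]
    · show i (b • m) = b • i m + (0 : B) • _
      rw [map_smul, zero_smul, add_zero]

lemma e1inv_apply (m : M) :
    e1inv q i hq hex m = Algebra.Extension.Cotangent.mk (kerElt q i hq hex m) := rfl

include hq hex in
lemma e1inv_injective (hi : Function.Injective i) : Function.Injective (e1inv q i hq hex) := by
  rw [← LinearMap.ker_eq_bot, LinearMap.ker_eq_bot']
  intro m hm
  rw [e1inv_apply, Algebra.Extension.Cotangent.mk_eq_zero_iff, ker_sq, Ideal.mem_bot] at hm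
  have h2 : i m = 0 := congrArg E.snd hm
  exact hi (by rw [h2, map_zero])

lemma e1inv_surjective : Function.Surjective (e1inv q i hq hex) := by
  intro x
  obtain ⟨⟨e, he⟩, rfl⟩ := Algebra.Extension.Cotangent.mk_surjective x
  have he' : e.fst = 0 := (mem_ker_iff q hq e).mp he
  have hq0 : q e.snd = 0 := by rw [← e.cond, he', map_zero]
  obtain ⟨m, hm⟩ := (hex e.snd).mp hq0
  refine ⟨m, ?_⟩
  rw [e1inv_apply]
  congr 1
  apply Subtype.ext
  apply E.ext
  · exact he'.symm
  · exact hm

variable [Module A N] [IsScalarTower A B N]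

lemma fN_cc (x : (ext q hq).ker) :
    fN q ((ext q hq).cotangentComplex (Algebra.Extension.Cotangent.mk x)) = (x : E q).snd := by
  rw [Algebra.Extension.cotangentComplex_mk, fN_tmul, one_smul]

lemma q_fN (y : B ⊗[E q] Ω[E q⁄A]) : q (fN q y) = (ext q hq).toKaehler y := by
  induction y using TensorProduct.induction_on with
  | zero => rw [map_zero, map_zero, map_zero]
  | add y y' h h' => rw [map_add, map_add, map_add, h, h']
  | tmul b ω =>
    have hω : ω ∈ Submodule.span (E q) (Set.range (KaehlerDifferential.D A (E q))) := by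
      rw [KaehlerDifferential.span_range_derivation]; trivial
    induction hω using Submodule.span_induction generalizing b with
    | mem ω hω =>
      obtain ⟨e, rfl⟩ := hω
      rw [fN_tmul, map_smul, ← e.cond]
      show b • KaehlerDifferential.D A B e.fst =
        KaehlerDifferential.mapBaseChange A (E q) B (b ⊗ₜ KaehlerDifferential.D A (E q) e)
      rw [KaehlerDifferential.mapBaseChange_tmul, KaehlerDifferential.map_D]
      rfl
    | zero => rw [TensorProduct.tmul_zero, map_zero, map_zero, map_zero]
    | add ω ω' _ _ h h' =>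
      rw [TensorProduct.tmul_add, map_add, map_add, map_add, h b, h' b]
    | smul e ω _ h =>
      rw [← TensorProduct.smul_tmul]
      exact h (e • b)

include hq hex in
lemma fN_injective (hi : Function.Injective i) : Function.Injective (fN q) := by
  rw [← LinearMap.ker_eq_bot, LinearMap.ker_eq_bot']
  intro y hy
  have h1 : (ext q hq).toKaehler y = 0 := by rw [← q_fN q hq y, hy, map_zero]
  obtain ⟨x, rfl⟩ := ((ext q hq).exact_cotangentComplex_toKaehler y).mp h1
  obtain ⟨m, rfl⟩ := e1inv_surjective q i hq hex x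
  rw [e1inv_apply, fN_cc] at hy
  have h2 : i m = 0 := hy
  have h3 : m = 0 := hi (by rw [h2, map_zero])
  rw [h3, map_zero, map_zero]

include hq hex in
lemma fN_surjective : Function.Surjective (fN q) := by
  intro n
  obtain ⟨y, hy⟩ := (ext q hq).toKaehler_surjective (q n)
  have h1 : q (n - fN q y) = 0 := by rw [map_sub, q_fN q hq y, hy, sub_self]
  obtain ⟨m, hm⟩ := (hex _).mp h1
  refine ⟨y + (ext q hq).cotangentComplex (e1inv q i hq hex m), ?_⟩
  rw [map_add]
  have h2 : fN q ((ext q hq).cotangentComplex (e1inv q i hq hex m)) = i m :=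
    fN_cc q hq (kerElt q i hq hex m)
  rw [h2, hm]
  abel

include hq hex in
theorem exists_ext (hi : Function.Injective i) :
    ∃ P : Algebra.Extension.{u} A B, P.ker ^ 2 = ⊥ ∧
      ∃ (e₁ : P.Cotangent ≃ₗ[B] M) (e₂ : P.CotangentSpace ≃ₗ[B] N),
        (∀ x, e₂ (P.cotangentComplex x) = i (e₁ x)) ∧ (∀ y, q (e₂ y) = P.toKaehler y) := by
  refine ⟨ext q hq, ker_sq q hq,
    (LinearEquiv.ofBijective (e1inv q i hq hex)
      ⟨e1inv_injective q i hq hex hi, e1inv_surjective q i hq hex⟩).symm,
    LinearEquiv.ofBijective (fN q) ⟨fN_injective q i hq hex hi, fN_surjective q i hq hex⟩,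
    ?_, ?_⟩
  · intro x
    obtain ⟨m, rfl⟩ := e1inv_surjective q i hq hex x
    rw [LinearEquiv.ofBijective_symm_apply_apply, LinearEquiv.ofBijective_apply]
    exact fN_cc q hq (kerElt q i hq hex m)
  · intro y
    rw [LinearEquiv.ofBijective_apply]
    exact q_fN q hq y

end Ext

end Groth.Agent.Lib.Helper29.SqZeroExt
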