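import Mathlib
import Groth.Prelude.Def_GLinSh
import Groth.Prelude.Def_W4bk4git07Quot
import Groth.Agent.Lib.Helper11.ActA
import Groth.Agent.Lib.Helper14.HomogDim
import Groth.Agent.Lib.Helper12.Chevalley
import Groth.Agent.Lib.Helper9.TopDim
import Groth.Agent.Lib.Helper16.QfLocus
import Groth.Agent.Lib.Helper12.ProductDim
import Groth.Agent.S9358

/-!
# Upper semicontinuity of the stabiliser dimension (helper29)

The fibre of the graph `Φ = (g, x) ↦ (g x, x)` of an action through `(g, x)` is a coset of the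
stabiliser of `x`; so `fibreDimAt Φ (g, x) = fibreDimAt Φ (e, x)`, the stabiliser of the point
`Spec κ(x) ⟶ X` has dimension `fibreDimAt Φ (e, x)`, and Chevalley's theorem gives the upper
semicontinuity.
-/

set_option autoImplicit false
set_option maxHeartbeats 1600000
set_option linter.style.haveILetI false
universe u

open CategoryTheory CategoryTheory.Limits MonoidalCategory CartesianMonoidalCategory MonObj
  AlgebraicGeometry

namespace Groth.Agent.Lib.Helper29.StabSemiA

open Groth.Agent.Lib.Helper11.ActA Groth.Agent.Lib.Helper11.GrpA Groth.Agent.Lib.Helper11.GrpG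

variable {S : Scheme.{u}} {G X : Over S} [GrpObj G] (a : AlgGrp.Action G X)

/-- the graph `(g, x) ↦ (g x, x)` of the action. -/
noncomputable def Phi : G ⊗ X ⟶ X ⊗ X := lift a.act (snd G X)

/-- the section `x ↦ (e, x)`. -/
noncomputable def eps (G X : Over S) [GrpObj G] : X ⟶ G ⊗ X := lift (toUnit X ≫ η[G]) (𝟙 X)

theorem psi_eq_orb {T : Over S} (f : T ⟶ X) : GIT.psi a f = orb a T f := by
  unfold GIT.psi orb actT
  congr 1

/-- the map `G ⊗ T ⟶ G ⊗ X`, `(g, t) ↦ (g, x(t))`. -/
noncomputable def toGX {T : Over S} (f : T ⟶ X) : G ⊗ T ⟶ G ⊗ X :=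
  lift (fst G T) (snd G T ≫ f)

theorem isPullback_orb' {T : Over S} (f : T ⟶ X) :
    IsPullback (toGX f) (orb a T f) (Phi a) (X ◁ f) :=
  (isPullback_orb a T f).flip

theorem tpt_lam_inv {T : Over S} (c b : T ⟶ G) :
    tpt T b ≫ (lamIso T c).inv = tpt T (c * b) := by
  apply CartesianMonoidalCategory.hom_ext
  · have h1 : (lamIso T c).inv ≫ fst G T = (snd G T ≫ c) * fst G T := lift_fst _ _
    rw [Category.assoc, h1, MonObj.comp_mul, tpt_fst, ← Category.assoc, tpt_snd, Category.id_comp,
      tpt_fst]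
  · have h2 : (lamIso T c).inv ≫ snd G T = snd G T := lift_snd _ _
    rw [Category.assoc, h2, tpt_snd, tpt_snd]

theorem tpt_toGX {T : Over S} (f : T ⟶ X) (b : T ⟶ G) : tpt T b ≫ toGX f = lift b f := by
  unfold toGX
  apply CartesianMonoidalCategory.hom_ext
  · rw [Category.assoc, lift_fst, tpt_fst, lift_fst]
  · rw [Category.assoc, lift_snd, ← Category.assoc, tpt_snd, Category.id_comp, lift_snd]

/-- pointwise base change of the fibre dimension, for cartesian squares in `Over S`. -/
theorem fibreDimAt_of_isPullback {A B A' B' : Over S} {f : A ⟶ B} {g : B' ⟶ B} {g' : A' ⟶ A}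
    {f' : A' ⟶ B'} [LocallyOfFiniteType f.left] (h : IsPullback g' f' f g) (w : A'.left) :
    FlatMor.fibreDimAt f'.left w = FlatMor.fibreDimAt f.left (g'.left w) :=
  (Groth.Agent.S9358.result f.left g.left g'.left f'.left (h.map (Over.forget _)) 0).1 w

theorem locallyOfFiniteType_orb [LocallyOfFiniteType (Phi a).left] {T : Over S} (f : T ⟶ X) :
    LocallyOfFiniteType (orb a T f).left :=
  MorphismProperty.of_isPullback (P := @LocallyOfFiniteType)
    ((isPullback_orb' a f).map (Over.forget _))
    (show LocallyOfFiniteType (Phi a).left from inferInstance)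

/-- **homogeneity**: the fibre of the graph through `(g, x)` is a coset of the stabiliser of
`x`, so its dimension is the one of the fibre through `(e, x)`. -/
theorem fibreDimAt_Phi_eq [LocallyOfFiniteType (Phi a).left] (z : (G ⊗ X).left) :
    FlatMor.fibreDimAt (Phi a).left z =
      FlatMor.fibreDimAt (Phi a).left ((eps G X).left ((snd G X).left z)) := by
  haveI : LocallyOfFiniteType (orb a (G ⊗ X) (snd G X)).left := locallyOfFiniteType_orb a _
  have hP := isPullback_orb' a (snd G X)
  have hLO : (lamIso (G ⊗ X) (fst G X)).inv ≫ orb a (G ⊗ X) (snd G X) =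
      orb a (G ⊗ X) (snd G X) ≫ (lamX a (G ⊗ X) (fst G X)).hom :=
    lam_orb a (G ⊗ X) (snd G X) (fst G X)
  have hsq : IsPullback (lamIso (G ⊗ X) (fst G X)).inv (orb a (G ⊗ X) (snd G X))
      (orb a (G ⊗ X) (snd G X)) (lamX a (G ⊗ X) (fst G X)).hom :=
    IsPullback.of_horiz_isIso ⟨hLO⟩
  have e1 : ∀ w : (G ⊗ (G ⊗ X)).left,
      FlatMor.fibreDimAt (orb a (G ⊗ X) (snd G X)).left w =
        FlatMor.fibreDimAt (orb a (G ⊗ X) (snd G X)).left
          ((lamIso (G ⊗ X) (fst G X)).inv.left w) :=
    fun w => fibreDimAt_of_isPullback hsq w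
  have e2 : ∀ w : (G ⊗ (G ⊗ X)).left,
      FlatMor.fibreDimAt (orb a (G ⊗ X) (snd G X)).left w =
        FlatMor.fibreDimAt (Phi a).left ((toGX (snd G X)).left w) :=
    fun w => fibreDimAt_of_isPullback hP w
  have c1 : tpt (G ⊗ X) (1 : G ⊗ X ⟶ G) ≫ (lamIso (G ⊗ X) (fst G X)).inv =
      tpt (G ⊗ X) (fst G X) := by
    rw [tpt_lam_inv, _root_.mul_one]
  have c2 : tpt (G ⊗ X) (fst G X) ≫ toGX (snd G X) = 𝟙 (G ⊗ X) := by
    rw [tpt_toGX, lift_fst_snd]
  have c3 : tpt (G ⊗ X) (1 : G ⊗ X ⟶ G) ≫ toGX (snd G X) = snd G X ≫ eps G X := by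
    rw [tpt_toGX]
    unfold eps
    apply CartesianMonoidalCategory.hom_ext
    · rw [lift_fst, Category.assoc, lift_fst, Hom.one_def, ← Category.assoc]
      congr 1
      exact toUnit_unique _ _
    · rw [lift_snd, Category.assoc, lift_snd, Category.comp_id]
  have p1 : (lamIso (G ⊗ X) (fst G X)).inv.left
      ((tpt (G ⊗ X) (1 : G ⊗ X ⟶ G)).left z) = (tpt (G ⊗ X) (fst G X)).left z := by
    rw [← Scheme.Hom.comp_apply, ← Over.comp_left, c1]
  have p2 : (toGX (snd G X)).left ((tpt (G ⊗ X) (fst G X)).left z) = z := by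
    rw [← Scheme.Hom.comp_apply, ← Over.comp_left, c2]
    rfl
  have p3 : (toGX (snd G X)).left ((tpt (G ⊗ X) (1 : G ⊗ X ⟶ G)).left z) =
      (eps G X).left ((snd G X).left z) := by
    rw [← Scheme.Hom.comp_apply, ← Over.comp_left, c3, Over.comp_left, Scheme.Hom.comp_apply]
  have h := (e2 ((lamIso (G ⊗ X) (fst G X)).inv.left
    ((tpt (G ⊗ X) (1 : G ⊗ X ⟶ G)).left z))).symm.trans ((e1 _).symm.trans (e2 _))
  rw [p1, p2, p3] at h
  exact h

/-- the stabiliser of a point `T ⟶ X` from a one-point scheme with image `x` has dimension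
`fibreDimAt Φ (e, x)`. -/
theorem dim_stab_eq' [LocallyOfFiniteType (Phi a).left] {T : Over S} [Subsingleton T.left]
    [Nonempty T.left] (f : T ⟶ X) (x : X.left) (hx : ∀ t : T.left, f.left t = x) :
    topologicalKrullDim (GLinSh.stab a f) =
      FlatMor.fibreDimAt (Phi a).left ((eps G X).left x) := by
  show topologicalKrullDim ↥(pullback (GIT.psi a f).left (lift f (𝟙 T)).left) = _
  have hψ' : GIT.psi a f = orb a T f := psi_eq_orb a f
  rw [hψ']
  obtain ⟨σ, hσ⟩ : ∃ σ : T ⟶ X ⊗ T, σ = lift f (𝟙 T) := ⟨_, rfl⟩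
  rw [← hσ]
  haveI : LocallyOfFiniteType (orb a T f).left := locallyOfFiniteType_orb a f
  have hP := isPullback_orb' a f
  have hsq : IsPullback (pullback.fst (orb a T f).left σ.left)
      (pullback.snd (orb a T f).left σ.left) (orb a T f).left σ.left :=
    IsPullback.of_hasPullback _ _
  have e1 : ∀ w : ↥(pullback (orb a T f).left σ.left),
      FlatMor.fibreDimAt (pullback.snd (orb a T f).left σ.left) w =
        FlatMor.fibreDimAt (orb a T f).left (pullback.fst (orb a T f).left σ.left w) :=
    fun w => (Groth.Agent.S9358.result (orb a T f).left σ.left _ _ hsq 0).1 w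
  have e2 : ∀ v : (G ⊗ T).left, FlatMor.fibreDimAt (orb a T f).left v =
      FlatMor.fibreDimAt (Phi a).left ((toGX f).left v) :=
    fun v => fibreDimAt_of_isPullback hP v
  have e3 : ∀ v : (G ⊗ T).left, (snd G X).left ((toGX f).left v) = x := by
    intro v
    have h : toGX f ≫ snd G X = snd G T ≫ f := lift_snd _ _
    rw [← Scheme.Hom.comp_apply, ← Over.comp_left, h, Over.comp_left, Scheme.Hom.comp_apply]
    exact hx _
  have hconst : ∀ w : ↥(pullback (orb a T f).left σ.left),
      FlatMor.localDim ↥(pullback (orb a T f).left σ.left) w =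
        FlatMor.fibreDimAt (Phi a).left ((eps G X).left x) := by
    intro w
    rw [← Groth.Agent.Lib.Helper14.HomogDim.fibreDimAt_eq_localDim_of_subsingleton
      (pullback.snd (orb a T f).left σ.left) w, e1, e2, fibreDimAt_Phi_eq, e3]
  have hcomm : tpt T (1 : T ⟶ G) ≫ orb a T f = σ := by
    rw [tpt_orb, one_actT, hσ]
    rfl
  haveI : Nonempty ↥(pullback (orb a T f).left σ.left) := by
    obtain ⟨t⟩ := ‹Nonempty T.left›
    exact ⟨(pullback.lift (tpt T (1 : T ⟶ G)).left (𝟙 T.left)
      (by rw [← Over.comp_left, hcomm, Category.id_comp])) t⟩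
  rw [Groth.Agent.Lib.Helper9.topologicalKrullDim_eq_iSup_localDim]
  simp_rw [hconst]
  exact ciSup_const

theorem main19426 (k : Type u) [Field k] [IsAlgClosed k]
    (G X : Over (Spec (CommRingCat.of k))) [GrpObj G] [IsAffine G.left] [LocallyOfFiniteType G.hom]
    [LocallyOfFiniteType X.hom]
    (a : AlgGrp.Action G X) (n : WithBot ℕ∞) :
    IsClosed {x : X.left | n ≤ topologicalKrullDim
      (GLinSh.stab a (Over.homMk (X.left.fromSpecResidueField x) rfl :
        Over.mk (X.left.fromSpecResidueField x ≫ X.hom) ⟶ X))} := by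
  haveI : LocallyOfFiniteType (G ⊗ X).hom := by
    rw [Over.tensorObj_hom]; infer_instance
  haveI : LocallyOfFiniteType (Phi a).left := by
    haveI : LocallyOfFiniteType ((Phi a).left ≫ (X ⊗ X).hom) := by
      rw [Over.w (Phi a)]; infer_instance
    exact locallyOfFiniteType_of_comp (Phi a).left (X ⊗ X).hom
  have hd : ∀ x : X.left, topologicalKrullDim
      (GLinSh.stab a (Over.homMk (X.left.fromSpecResidueField x) rfl :
        Over.mk (X.left.fromSpecResidueField x ≫ X.hom) ⟶ X)) =
      FlatMor.fibreDimAt (Phi a).left ((eps G X).left x) := by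
    intro x
    haveI : Subsingleton ↥(Over.mk (X.left.fromSpecResidueField x ≫ X.hom)).left :=
      inferInstanceAs (Subsingleton (PrimeSpectrum (X.left.residueField x)))
    haveI : Nonempty ↥(Over.mk (X.left.fromSpecResidueField x ≫ X.hom)).left :=
      ⟨(⊥ : PrimeSpectrum (X.left.residueField x))⟩
    exact dim_stab_eq' a _ x (fun t => Scheme.fromSpecResidueField_apply x t)
  simp_rw [hd]
  have husc : UpperSemicontinuous
      (fun x : X.left => FlatMor.fibreDimAt (Phi a).left ((eps G X).left x)) := by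
    intro s y hy
    change FlatMor.fibreDimAt (Phi a).left ((eps G X).left s) < y at hy
    rcases Groth.Agent.Lib.Helper12.ProductDim.withBot_enat_cases
      (FlatMor.fibreDimAt (Phi a).left ((eps G X).left s)) with h | h | ⟨m, h⟩
    · exact absurd (Groth.Agent.Lib.Helper16.QfAt.fibreDimAt_nonneg (Phi a).left
        ((eps G X).left s)) (by rw [h]; simp)
    · rw [h] at hy
      exact absurd hy (by simp)
    · have hopen := (Groth.Agent.Lib.Helper12.Chevalley.isOpen_setOf_fibreDimAt_le
        (Phi a).left m).preimage (eps G X).left.continuous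
      have hs : s ∈ (eps G X).left ⁻¹' {z | FlatMor.fibreDimAt (Phi a).left z ≤ m} := by
        show FlatMor.fibreDimAt (Phi a).left ((eps G X).left s) ≤ m
        rw [h]
      filter_upwards [hopen.mem_nhds hs] with t ht
      exact lt_of_le_of_lt ht (h ▸ hy)
  exact (upperSemicontinuous_iff_isClosed_preimage.mp husc) n

end Groth.Agent.Lib.Helper29.StabSemiA
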