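import Mathlib

/-!
# The staircase (Artin) basis of `R[t₁..tₙ]/(eᵢ(t) - aᵢ)` (helper29)
-/

set_option autoImplicit false
open Module Polynomial

namespace Groth.Agent.Lib.Helper29.Staircase

universe u

/-! ### index types -/

/-- staircase exponent vectors as a subtype -/
abbrev Idx (n : ℕ) : Type := {d : Fin n → ℕ // ∀ i, d i < n - (i : ℕ)}

/-- the dependent-function version used in the statements -/
abbrev PiIdx (n : ℕ) : Type := (i : Fin n) → Fin (n - (i : ℕ))

/-- the two index types agree -/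
def eqv (n : ℕ) : PiIdx n ≃ Idx n where
  toFun d := ⟨fun i => (d i : ℕ), fun i => (d i).2⟩
  invFun d := fun i => ⟨d.1 i, d.2 i⟩
  left_inv _ := rfl
  right_inv _ := rfl

instance : Unique (Idx 0) where
  default := ⟨fun i => i.elim0, fun i => i.elim0⟩
  uniq _ := Subtype.ext (funext fun i => i.elim0)

/-- splitting off the first exponent -/
def consEquiv (n : ℕ) : Fin (n + 1) × Idx n ≃ Idx (n + 1) where
  toFun p := ⟨(Fin.cons (p.1 : ℕ) p.2.1 : Fin (n + 1) → ℕ), by
    intro i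
    refine Fin.cases ?_ (fun j => ?_) i
    · have h := p.1.2
      simp only [Fin.cons_zero, Fin.val_zero]
      omega
    · have h := p.2.2 j
      simp only [Fin.cons_succ, Fin.val_succ]
      omega⟩
  invFun d := (⟨d.1 0, by have h := d.2 0; simp only [Fin.val_zero] at h; omega⟩,
    ⟨fun j => d.1 j.succ, fun j => by
      have h := d.2 j.succ
      simp only [Fin.val_succ] at h
      show d.1 j.succ < n - (j : ℕ)
      omega⟩)
  left_inv p := by
    refine Prod.ext (Fin.ext ?_) (Subtype.ext (funext fun j => ?_))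
    · simp
    · simp
  right_inv d := by
    refine Subtype.ext (funext fun i => ?_)
    refine Fin.cases ?_ (fun j => ?_) i
    · simp
    · simp

theorem consEquiv_symm_fst (n : ℕ) (d : Idx (n + 1)) :
    (((consEquiv n).symm d).1 : ℕ) = d.1 0 := rfl

theorem consEquiv_symm_snd (n : ℕ) (d : Idx (n + 1)) (j : Fin n) :
    ((consEquiv n).symm d).2.1 j = d.1 j.succ := rfl

/-! ### Vieta -/

section Vieta
variable {R Q : Type*} [CommRing R] [CommRing Q]

theorem E_eq (n : ℕ) (ρ : R →+* Q) (q : Fin n → Q) (k : ℕ) :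
    MvPolynomial.eval₂ ρ q (MvPolynomial.esymm (Fin n) R k) =
      (Finset.univ.val.map q).esymm k := by
  simp_rw [MvPolynomial.esymm, MvPolynomial.eval₂_sum, MvPolynomial.eval₂_prod,
    MvPolynomial.eval₂_X, Finset.esymm_map_val]

theorem prod_eq_sum (n : ℕ) (q : Fin n → Q) :
    ∏ i, (X - C (q i)) = X ^ n + ∑ i : Fin n,
      C ((-1) ^ (n - (i : ℕ)) * (Finset.univ.val.map q).esymm (n - (i : ℕ))) * X ^ (i : ℕ) := by
  have h := Multiset.prod_X_sub_X_eq_sum_esymm (Finset.univ.val.map q)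
  rw [Multiset.map_map, Multiset.card_map, Finset.card_val, Finset.card_univ,
    Fintype.card_fin] at h
  have h1 : ∏ i, (X - C (q i)) =
      (Multiset.map ((fun t => X - C t) ∘ q) Finset.univ.val).prod :=
    Finset.prod_eq_multiset_prod _ _
  rw [h1, h, ← Finset.sum_range_reflect, Finset.sum_range_succ, add_comm]
  congr 1
  · have h0 : n + 1 - 1 - n = 0 := by omega
    have he : (Finset.univ.val.map q).esymm 0 = 1 := by
      simp [Multiset.esymm, Multiset.powersetCard_zero_left]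
    rw [h0, pow_zero, one_mul, Nat.sub_zero, he, C_1, one_mul]
  · rw [Finset.sum_range]
    refine Finset.sum_congr rfl (fun i _ => ?_)
    have hi : n + 1 - 1 - (i : ℕ) = n - (i : ℕ) := by omega
    have hi2 : n - (n - (i : ℕ)) = (i : ℕ) := by have := i.2; omega
    rw [hi, hi2]
    simp only [C_mul, C_pow, C_neg, C_1, mul_assoc]

/-- the polynomial with prescribed "elementary symmetric" coefficients -/
noncomputable def Fpoly (n : ℕ) (a : Fin n → R) : R[X] :=
  X ^ n + ∑ i : Fin n, C ((-1) ^ (n - (i : ℕ)) * a (Fin.rev i)) * X ^ (i : ℕ)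

theorem Fpoly_monic (n : ℕ) (a : Fin n → R) : (Fpoly n a).Monic :=
  monic_X_pow_add (degree_sum_fin_lt _)

theorem Fpoly_natDegree [Nontrivial R] (n : ℕ) (a : Fin n → R) : (Fpoly n a).natDegree = n := by
  have h := degree_sum_fin_lt (fun i : Fin n => (-1) ^ (n - (i : ℕ)) * a (Fin.rev i))
  have h2 : degree (∑ i : Fin n, C ((-1) ^ (n - (i : ℕ)) * a (Fin.rev i)) * X ^ (i : ℕ)) <
      degree ((X : R[X]) ^ n) := by
    rw [degree_X_pow]; exact h
  rw [Fpoly, natDegree_add_eq_left_of_degree_lt h2, natDegree_X_pow]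

theorem Fpoly_map (ρ : R →+* Q) (n : ℕ) (a : Fin n → R) :
    (Fpoly n a).map ρ = X ^ n + ∑ i : Fin n,
      C ((-1) ^ (n - (i : ℕ)) * ρ (a (Fin.rev i))) * X ^ (i : ℕ) := by
  simp only [Fpoly, Polynomial.map_add, Polynomial.map_pow, Polynomial.map_X, Polynomial.map_sum,
    Polynomial.map_mul, Polynomial.map_C, Polynomial.map_neg, Polynomial.map_one, map_mul,
    map_pow, map_neg, map_one]

theorem vieta1 (n : ℕ) (ρ : R →+* Q) (q : Fin n → Q) (a : Fin n → R)
    (h : ∀ k : Fin n,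
      MvPolynomial.eval₂ ρ q (MvPolynomial.esymm (Fin n) R ((k : ℕ) + 1)) = ρ (a k)) :
    (Fpoly n a).map ρ = ∏ i, (X - C (q i)) := by
  rw [Fpoly_map, prod_eq_sum]
  congr 1
  refine Finset.sum_congr rfl (fun i _ => ?_)
  have hk := h (Fin.rev i)
  rw [E_eq] at hk
  have hi : ((Fin.rev i : Fin n) : ℕ) + 1 = n - (i : ℕ) := by
    rw [Fin.val_rev]; have := i.2; omega
  rw [hi] at hk
  rw [hk]

theorem coeff_sum_fin (n : ℕ) (c : Fin n → Q) (m : Fin n) :
    (X ^ n + ∑ i : Fin n, C (c i) * X ^ (i : ℕ)).coeff (m : ℕ) = c m := by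
  have hmn : ¬ ((m : ℕ) = n) := by have := m.2; omega
  rw [coeff_add, coeff_X_pow, if_neg hmn, zero_add, finsetSum_coeff]
  rw [Finset.sum_eq_single m]
  · rw [coeff_C_mul_X_pow, if_pos rfl]
  · intro i _ him
    rw [coeff_C_mul_X_pow, if_neg]
    intro h; exact him (Fin.ext h.symm)
  · intro h; exact absurd (Finset.mem_univ m) h

theorem vieta2 (n : ℕ) (ρ : R →+* Q) (q : Fin n → Q) (a : Fin n → R)
    (h : (Fpoly n a).map ρ = ∏ i, (X - C (q i))) (k : Fin n) :
    MvPolynomial.eval₂ ρ q (MvPolynomial.esymm (Fin n) R ((k : ℕ) + 1)) = ρ (a k) := by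
  rw [Fpoly_map, prod_eq_sum] at h
  have h1 := Polynomial.ext_iff.1 h ((Fin.rev k : Fin n) : ℕ)
  rw [coeff_sum_fin, coeff_sum_fin, Fin.rev_rev] at h1
  have hi : n - ((Fin.rev k : Fin n) : ℕ) = (k : ℕ) + 1 := by
    rw [Fin.val_rev]; have := k.2; omega
  rw [hi] at h1
  rw [E_eq]
  have hu : ((-1 : Q) ^ ((k : ℕ) + 1)) * ((-1) ^ ((k : ℕ) + 1)) = 1 := by
    rw [← mul_pow, neg_one_mul, neg_neg, one_pow]
  have h2 : (-1 : Q) ^ ((k : ℕ) + 1) * ((-1) ^ ((k : ℕ) + 1) * ρ (a k)) =
      (-1 : Q) ^ ((k : ℕ) + 1) *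
        ((-1) ^ ((k : ℕ) + 1) * (Finset.univ.val.map q).esymm ((k : ℕ) + 1)) := by
    rw [h1]
  rw [← mul_assoc, ← mul_assoc, hu, one_mul, one_mul] at h2
  exact h2.symm

end Vieta

/-! ### the tower -/

section Tower

/-- power basis of `AdjoinRoot f` indexed by `Fin (n+1)` -/
noncomputable def pbasis {R : Type u} [CommRing R] (f : R[X]) (hf : f.Monic) (n : ℕ)
    (hdeg : f.natDegree = n + 1) : Basis (Fin (n + 1)) R (AdjoinRoot f) :=
  (AdjoinRoot.powerBasis' hf).basis.reindex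
    (finCongr (by rw [AdjoinRoot.powerBasis'_dim, hdeg]))

theorem pbasis_apply {R : Type u} [CommRing R] (f : R[X]) (hf : f.Monic) (n : ℕ)
    (hdeg : f.natDegree = n + 1) (j : Fin (n + 1)) :
    pbasis f hf n hdeg j = AdjoinRoot.root f ^ (j : ℕ) := by
  rw [pbasis, Basis.reindex_apply, PowerBasis.basis_eq_pow, AdjoinRoot.powerBasis'_gen]
  simp

theorem step_data {R : Type u} [CommRing R] [Nontrivial R] (f : R[X]) (hf : f.Monic) (n : ℕ)
    (hdeg : f.natDegree = n + 1) :
    Nontrivial (AdjoinRoot f) ∧ ∃ g : (AdjoinRoot f)[X], g.Monic ∧ g.natDegree = n ∧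
      (X - C (AdjoinRoot.root f)) * g = f.map (AdjoinRoot.of f) := by
  have hnt : Nontrivial (AdjoinRoot f) := by
    have hdim : 0 < (AdjoinRoot.powerBasis' hf).dim := by
      rw [AdjoinRoot.powerBasis'_dim, hdeg]; exact Nat.succ_pos n
    exact nontrivial_of_ne _ _ ((AdjoinRoot.powerBasis' hf).basis.ne_zero ⟨0, hdim⟩)
  haveI := hnt
  refine ⟨hnt, (f.map (AdjoinRoot.of f)) /ₘ (X - C (AdjoinRoot.root f)), ?_⟩
  have hroot : IsRoot (f.map (AdjoinRoot.of f)) (AdjoinRoot.root f) := AdjoinRoot.isRoot_root f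
  have hfg : (X - C (AdjoinRoot.root f)) *
      ((f.map (AdjoinRoot.of f)) /ₘ (X - C (AdjoinRoot.root f))) = f.map (AdjoinRoot.of f) :=
    mul_divByMonic_eq_iff_isRoot.2 hroot
  have hfm : (f.map (AdjoinRoot.of f)).Monic := hf.map _
  have hg : ((f.map (AdjoinRoot.of f)) /ₘ (X - C (AdjoinRoot.root f))).Monic :=
    Monic.of_mul_monic_left (monic_X_sub_C _) (by rw [hfg]; exact hfm)
  refine ⟨hg, ?_, hfg⟩
  have h := congrArg natDegree hfg
  rw [Monic.natDegree_mul (monic_X_sub_C _) hg, natDegree_X_sub_C,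
    hf.natDegree_map (AdjoinRoot.of f), hdeg] at h
  omega

theorem tower (n : ℕ) : ∀ (R : Type u) [CommRing R] [Nontrivial R] (f : R[X]), f.Monic →
    f.natDegree = n →
    ∃ (B : Type u) (_ : CommRing B) (_ : Algebra R B) (τ : Fin n → B) (b : Basis (Idx n) R B),
      f.map (algebraMap R B) = ∏ i, (X - C (τ i)) ∧
      (∀ d : Idx n, b d = ∏ i, τ i ^ d.1 i) ∧
      ∀ (Q : Type u) [CommRing Q] (ρ : R →+* Q) (q : Fin n → Q),
        f.map ρ = ∏ i, (X - C (q i)) →
          ∃ φ : B →+* Q, φ.comp (algebraMap R B) = ρ ∧ ∀ i, φ (τ i) = q i := by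
  induction n with
  | zero =>
    intro R _ _ f hf hdeg
    have hf1 : f = 1 := (hf.natDegree_eq_zero).1 hdeg
    refine ⟨R, inferInstance, Algebra.id R, fun i => i.elim0, Basis.singleton (Idx 0) R,
      ?_, ?_, ?_⟩
    · rw [hf1, Polynomial.map_one, Fin.prod_univ_zero]
    · intro d
      rw [Basis.singleton_apply, Fin.prod_univ_zero]
    · intro Q _ ρ q _
      exact ⟨ρ, RingHom.ext (fun x => rfl), fun i => i.elim0⟩
  | succ n ih =>
    intro R _ _ f hf hdeg
    obtain ⟨hnt, g, hg, hgdeg, hfg⟩ := step_data f hf n hdeg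
    haveI := hnt
    obtain ⟨B, instB, algB, τ', b', h1, h2, h3⟩ := ih (AdjoinRoot f) g hg hgdeg
    letI algRB : Algebra R B :=
      ((algebraMap (AdjoinRoot f) B).comp (algebraMap R (AdjoinRoot f))).toAlgebra
    haveI : IsScalarTower R (AdjoinRoot f) B := IsScalarTower.of_algebraMap_eq (fun _ => rfl)
    refine ⟨B, instB, algRB, Fin.cons (algebraMap (AdjoinRoot f) B (AdjoinRoot.root f)) τ',
      ((pbasis f hf n hdeg).smulTower b').reindex (consEquiv n), ?_, ?_, ?_⟩
    · have e1 : f.map (algebraMap R B) =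
          (f.map (AdjoinRoot.of f)).map (algebraMap (AdjoinRoot f) B) := by
        rw [Polynomial.map_map]; rfl
      rw [e1, ← hfg, Polynomial.map_mul, Polynomial.map_sub, Polynomial.map_X, Polynomial.map_C,
        h1, Fin.prod_univ_succ, Fin.cons_zero]
      simp only [Fin.cons_succ]
    · intro d
      rw [Basis.reindex_apply, Basis.smulTower_apply, pbasis_apply, h2, Fin.prod_univ_succ,
        Fin.cons_zero, Algebra.smul_def, map_pow, consEquiv_symm_fst]
      congr 1
    · intro Q _ ρ q hq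
      have h0 : f.eval₂ ρ (q 0) = 0 := by
        rw [← Polynomial.eval_map, hq, Polynomial.eval_prod]
        exact Finset.prod_eq_zero (Finset.mem_univ 0) (by simp)
      have hψ : (AdjoinRoot.lift ρ (q 0) h0).comp (AdjoinRoot.of f) = ρ :=
        AdjoinRoot.lift_comp_of h0
      have hgQ : g.map (AdjoinRoot.lift ρ (q 0) h0) = ∏ i : Fin n, (X - C (q i.succ)) := by
        have hreg := (monic_X_sub_C (q 0)).isRegular.left
        apply hreg
        show (X - C (q 0)) * g.map (AdjoinRoot.lift ρ (q 0) h0) =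
          (X - C (q 0)) * ∏ i : Fin n, (X - C (q i.succ))
        have e2 : (X - C (q 0)) * g.map (AdjoinRoot.lift ρ (q 0) h0) =
            ((X - C (AdjoinRoot.root f)) * g).map (AdjoinRoot.lift ρ (q 0) h0) := by
          rw [Polynomial.map_mul, Polynomial.map_sub, Polynomial.map_X, Polynomial.map_C,
            AdjoinRoot.lift_root]
        rw [e2, hfg, Polynomial.map_map, hψ, hq, Fin.prod_univ_succ]
      obtain ⟨φ', hφ1, hφ2⟩ := h3 Q (AdjoinRoot.lift ρ (q 0) h0) (fun i => q i.succ) hgQ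
      refine ⟨φ', ?_, ?_⟩
      · have e3 : algebraMap R B = (algebraMap (AdjoinRoot f) B).comp (AdjoinRoot.of f) := rfl
        rw [e3, ← RingHom.comp_assoc, hφ1, hψ]
      · intro i
        refine Fin.cases ?_ (fun j => ?_) i
        · rw [Fin.cons_zero]
          have h5 := RingHom.congr_fun hφ1 (AdjoinRoot.root f)
          rw [RingHom.comp_apply, AdjoinRoot.lift_root] at h5
          exact h5
        · rw [Fin.cons_succ]; exact hφ2 j

end Tower

/-! ### the splitting algebra of `(R, a)` -/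

section Main
variable {R : Type u} [CommRing R]

/-- the ideal generated by `e_{i+1}(t) - a_i` -/
noncomputable def II (n : ℕ) (a : Fin n → R) : Ideal (MvPolynomial (Fin n) R) :=
  Ideal.span (Set.range fun i : Fin n =>
    MvPolynomial.esymm (Fin n) R ((i : ℕ) + 1) - MvPolynomial.C (a i))

/-- staircase monomial -/
noncomputable def mono (n : ℕ) (d : PiIdx n) : MvPolynomial (Fin n) R :=
  ∏ i : Fin n, MvPolynomial.X i ^ ((d i : ℕ))

theorem infra [Nontrivial R] (n : ℕ) (a : Fin n → R) :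
    ∃ (B : Type u) (_ : CommRing B) (_ : Algebra R B) (τ : Fin n → B)
      (b : Basis (PiIdx n) R B),
      (∀ d : PiIdx n, b d = ∏ i, τ i ^ (d i : ℕ)) ∧
      (∀ k : Fin n, MvPolynomial.eval₂ (algebraMap R B) τ
        (MvPolynomial.esymm (Fin n) R ((k : ℕ) + 1)) = algebraMap R B (a k)) ∧
      ∀ (Q : Type u) [CommRing Q] (ρ : R →+* Q) (q : Fin n → Q),
        (∀ k : Fin n, MvPolynomial.eval₂ ρ q
          (MvPolynomial.esymm (Fin n) R ((k : ℕ) + 1)) = ρ (a k)) →
          ∃ φ : B →+* Q, φ.comp (algebraMap R B) = ρ ∧ ∀ i, φ (τ i) = q i := by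
  obtain ⟨B, instB, algB, τ, b, h1, h2, h3⟩ :=
    tower n R (Fpoly n a) (Fpoly_monic n a) (Fpoly_natDegree n a)
  refine ⟨B, instB, algB, τ, b.reindex (eqv n).symm, ?_, ?_, ?_⟩
  · intro d
    rw [Basis.reindex_apply, Equiv.symm_symm, h2]
    rfl
  · intro k
    exact vieta2 n (algebraMap R B) τ a h1 k
  · intro Q _ ρ q hq
    exact h3 Q ρ q (vieta1 n ρ q a hq)

theorem core [Nontrivial R] (n : ℕ) (a : Fin n → R) :
    ∃ L : MvPolynomial (Fin n) R →ₗ[R] (PiIdx n → R),
      (∀ y ∈ II n a, L y = 0) ∧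
      (∀ x, x - ∑ d : PiIdx n, MvPolynomial.C (L x d) * mono n d ∈ II n a) ∧
      (∀ α : PiIdx n → R, L (∑ d : PiIdx n, MvPolynomial.C (α d) * mono n d) = α) ∧
      (∀ (J : Ideal R) (z : MvPolynomial (Fin n) R),
        z ∈ Ideal.map (MvPolynomial.C : R →+* MvPolynomial (Fin n) R) J → ∀ d, L z d ∈ J) := by
  obtain ⟨B, instB, algB, τ, b, hb, he, huniv⟩ := infra n a
  obtain ⟨ψ, hψdef⟩ : ∃ ψ : MvPolynomial (Fin n) R →ₐ[R] B, ψ = MvPolynomial.aeval τ := ⟨_, rfl⟩
  have hψX : ∀ i, ψ (MvPolynomial.X i) = τ i := by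
    intro i; rw [hψdef]; exact MvPolynomial.aeval_X τ i
  have hψC : ∀ r, ψ (MvPolynomial.C r) = algebraMap R B r := by
    intro r; rw [hψdef]; exact MvPolynomial.aeval_C τ r
  have hψe : ∀ p, ψ p = MvPolynomial.eval₂ (algebraMap R B) τ p := by
    intro p; rw [hψdef]; rfl
  have hψmono : ∀ d : PiIdx n, ψ (mono n d) = b d := by
    intro d
    rw [hb d, mono, map_prod]
    refine Finset.prod_congr rfl (fun i _ => ?_)
    rw [map_pow, hψX]
  have hψI : ∀ y ∈ II n a, ψ y = 0 := by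
    intro y hy
    have hle : II n a ≤ RingHom.ker (ψ : MvPolynomial (Fin n) R →+* B) := by
      unfold II
      rw [Ideal.span_le]
      rintro _ ⟨k, rfl⟩
      show ψ (MvPolynomial.esymm (Fin n) R ((k : ℕ) + 1) - MvPolynomial.C (a k)) = 0
      rw [map_sub, sub_eq_zero, hψe, he k, hψC]
    exact RingHom.mem_ker.1 (hle hy)
  have hq : ∀ k : Fin n,
      MvPolynomial.eval₂ ((Ideal.Quotient.mk (II n a)).comp MvPolynomial.C)
        ((Ideal.Quotient.mk (II n a)) ∘ MvPolynomial.X)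
        (MvPolynomial.esymm (Fin n) R ((k : ℕ) + 1)) =
      ((Ideal.Quotient.mk (II n a)).comp MvPolynomial.C) (a k) := by
    intro k
    rw [← MvPolynomial.eval₂_comp_left, MvPolynomial.eval₂_eta, RingHom.comp_apply]
    exact Ideal.Quotient.eq.2 (Ideal.subset_span ⟨k, rfl⟩)
  obtain ⟨φ, hφ1, hφ2⟩ := huniv (MvPolynomial (Fin n) R ⧸ II n a) _ _ hq
  have hφC : ∀ r : R, φ (algebraMap R B r) = Ideal.Quotient.mk (II n a) (MvPolynomial.C r) := by
    intro r
    have h5 := RingHom.congr_fun hφ1 r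
    rw [RingHom.comp_apply, RingHom.comp_apply] at h5
    exact h5
  have hφψ : ∀ x, φ (ψ x) = Ideal.Quotient.mk (II n a) x := by
    have hh : φ.comp (ψ : MvPolynomial (Fin n) R →+* B) = Ideal.Quotient.mk (II n a) := by
      apply MvPolynomial.ringHom_ext
      · intro r
        show φ (ψ (MvPolynomial.C r)) = _
        rw [hψC, hφC]
      · intro i
        show φ (ψ (MvPolynomial.X i)) = _
        rw [hψX]
        exact hφ2 i
    intro x
    exact RingHom.congr_fun hh x
  refine ⟨b.equivFun.toLinearMap ∘ₗ ψ.toLinearMap, ?_, ?_, ?_, ?_⟩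
  · intro y hy
    show b.equivFun (ψ y) = 0
    rw [hψI y hy, map_zero]
  · intro x
    apply Ideal.Quotient.eq.1
    rw [← hφψ x, map_sum]
    conv_lhs => rw [← b.sum_repr (ψ x)]
    rw [map_sum]
    refine Finset.sum_congr rfl (fun d _ => ?_)
    rw [Algebra.smul_def, map_mul, map_mul, ← hψmono d, hφψ, hφC]
    rfl
  · intro α
    have h6 : ψ (∑ d : PiIdx n, MvPolynomial.C (α d) * mono n d) =
        ∑ d : PiIdx n, α d • b d := by
      rw [map_sum]
      refine Finset.sum_congr rfl (fun d _ => ?_)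
      rw [map_mul, hψmono, Algebra.smul_def, hψC]
    show b.equivFun (ψ (∑ d : PiIdx n, MvPolynomial.C (α d) * mono n d)) = α
    rw [h6, Basis.equivFun_apply, Basis.repr_sum_self]
  · intro J z hz d
    rw [MvPolynomial.mem_map_C_iff] at hz
    have hz2 : (b.equivFun.toLinearMap ∘ₗ ψ.toLinearMap) z =
        ∑ m ∈ z.support, z.coeff m •
          (b.equivFun.toLinearMap ∘ₗ ψ.toLinearMap) (MvPolynomial.monomial m 1) := by
      conv_lhs => rw [← MvPolynomial.support_sum_monomial_coeff z]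
      rw [map_sum]
      refine Finset.sum_congr rfl (fun m _ => ?_)
      have h7 : MvPolynomial.monomial m (z.coeff m) =
          z.coeff m • MvPolynomial.monomial m (1 : R) := by
        rw [MvPolynomial.smul_monomial, smul_eq_mul, mul_one]
      rw [h7, map_smul]
    rw [hz2, Finset.sum_apply]
    refine Ideal.sum_mem _ (fun m _ => ?_)
    rw [Pi.smul_apply, smul_eq_mul]
    exact Ideal.mul_mem_right _ _ (hz m)

theorem mem_of_subsingleton [Subsingleton R] (n : ℕ) (I : Ideal (MvPolynomial (Fin n) R))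
    (w : MvPolynomial (Fin n) R) : w ∈ I := by
  have h01 : (0 : MvPolynomial (Fin n) R) = 1 := by
    rw [← MvPolynomial.C_0, ← MvPolynomial.C_1, Subsingleton.elim (0 : R) 1]
  haveI := subsingleton_of_zero_eq_one h01
  rw [Subsingleton.elim w 0]
  exact I.zero_mem

theorem main16404 (n : ℕ) (_hn : 2 ≤ n)
    (a : Fin n → R) (J : Ideal R) (x : MvPolynomial (Fin n) R) :
    x ∈ Ideal.span (Set.range fun i : Fin n =>
          MvPolynomial.esymm (Fin n) R ((i : ℕ) + 1) - MvPolynomial.C (a i))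
        ⊔ Ideal.map (MvPolynomial.C : R →+* MvPolynomial (Fin n) R) J
    ↔ ∃ j : (Π i : Fin n, Fin (n - (i : ℕ))) → R,
        (∀ d : (Π i : Fin n, Fin (n - (i : ℕ))), j d ∈ J) ∧
        x - (∑ d : (Π i : Fin n, Fin (n - (i : ℕ))),
            MvPolynomial.C (j d) * ∏ i : Fin n, MvPolynomial.X i ^ ((d i : ℕ)))
          ∈ Ideal.span (Set.range fun i : Fin n =>
            MvPolynomial.esymm (Fin n) R ((i : ℕ) + 1) - MvPolynomial.C (a i)) := by
  show x ∈ II n a ⊔ Ideal.map (MvPolynomial.C : R →+* MvPolynomial (Fin n) R) J ↔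
    ∃ j : PiIdx n → R, (∀ d, j d ∈ J) ∧
      x - (∑ d : PiIdx n, MvPolynomial.C (j d) * mono n d) ∈ II n a
  constructor
  · intro hx
    rcases subsingleton_or_nontrivial R with hs | hnt
    · exact ⟨fun _ => 0, fun _ => J.zero_mem, mem_of_subsingleton n _ _⟩
    · obtain ⟨L, hL0, hL1, hL2, hL3⟩ := core n a
      obtain ⟨y, hy, z, hz, rfl⟩ := Submodule.mem_sup.1 hx
      refine ⟨fun d => L z d, fun d => hL3 J z hz d, ?_⟩
      have h8 : y + z - ∑ d : PiIdx n, MvPolynomial.C (L z d) * mono n d =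
          y + (z - ∑ d : PiIdx n, MvPolynomial.C (L z d) * mono n d) := by ring
      rw [h8]
      exact (II n a).add_mem hy (hL1 z)
  · rintro ⟨j, hj, hx⟩
    have h9 : x = (x - ∑ d : PiIdx n, MvPolynomial.C (j d) * mono n d) +
        ∑ d : PiIdx n, MvPolynomial.C (j d) * mono n d := by ring
    rw [h9]
    refine Submodule.add_mem_sup hx ?_
    refine Ideal.sum_mem _ (fun d _ => ?_)
    exact Ideal.mul_mem_right _ _ (Ideal.mem_map_of_mem _ (hj d))

theorem main16403 (n : ℕ) (_hn : 2 ≤ n)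
    (a : Fin n → R) (J : Ideal R) (α β : (Π i : Fin n, Fin (n - (i : ℕ))) → R) :
    (∑ d : (Π i : Fin n, Fin (n - (i : ℕ))),
        MvPolynomial.C (α d) * ∏ i : Fin n, MvPolynomial.X i ^ ((d i : ℕ))) -
        (∑ d : (Π i : Fin n, Fin (n - (i : ℕ))),
          MvPolynomial.C (β d) * ∏ i : Fin n, MvPolynomial.X i ^ ((d i : ℕ)))
      ∈ Ideal.span (Set.range fun i : Fin n =>
          MvPolynomial.esymm (Fin n) R ((i : ℕ) + 1) - MvPolynomial.C (a i))
        ⊔ Ideal.map (MvPolynomial.C : R →+* MvPolynomial (Fin n) R) J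
    ↔ ∀ d : (Π i : Fin n, Fin (n - (i : ℕ))), α d - β d ∈ J := by
  show (∑ d : PiIdx n, MvPolynomial.C (α d) * mono n d) -
      (∑ d : PiIdx n, MvPolynomial.C (β d) * mono n d)
      ∈ II n a ⊔ Ideal.map (MvPolynomial.C : R →+* MvPolynomial (Fin n) R) J ↔
    ∀ d : PiIdx n, α d - β d ∈ J
  constructor
  · intro hw d
    rcases subsingleton_or_nontrivial R with hs | hnt
    · rw [Subsingleton.elim (α d - β d) 0]; exact J.zero_mem
    · obtain ⟨L, hL0, hL1, hL2, hL3⟩ := core n a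
      obtain ⟨y, hy, z, hz, hyz⟩ := Submodule.mem_sup.1 hw
      have h11 : L (y + z) = L z := by rw [map_add, hL0 y hy, zero_add]
      rw [hyz, map_sub, hL2, hL2] at h11
      have h12 := congrFun h11 d
      rw [Pi.sub_apply] at h12
      rw [h12]
      exact hL3 J z hz d
  · intro h
    have h13 : (∑ d : PiIdx n, MvPolynomial.C (α d) * mono n d) -
        (∑ d : PiIdx n, MvPolynomial.C (β d) * mono n d) =
        ∑ d : PiIdx n, MvPolynomial.C (α d - β d) * mono n d := by
      rw [← Finset.sum_sub_distrib]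
      refine Finset.sum_congr rfl (fun d _ => ?_)
      rw [map_sub, sub_mul]
    rw [h13]
    refine Submodule.mem_sup_right ?_
    refine Ideal.sum_mem _ (fun d _ => ?_)
    exact Ideal.mul_mem_right _ _ (Ideal.mem_map_of_mem _ (h d))

end Main

end Groth.Agent.Lib.Helper29.Staircase
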