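import Mathlib
import Groth.Agent.Lib.Helper29.Staircase

/-!
# `ℤ[t]` is free over `ℤ[e]` on the staircase monomials (helper29)
-/

set_option autoImplicit false
open Module

namespace Groth.Agent.Lib.Helper29.Staircase

/-- the substitution `c_i ↦ e_i(t)` as a ring hom -/
noncomputable def fhom (n : ℕ) : MvPolynomial (Fin n) ℤ →+* MvPolynomial (Fin n) ℤ :=
  ((MvPolynomial.aeval fun i : Fin n => MvPolynomial.esymm (Fin n) ℤ ((i : ℕ) + 1)) :
    MvPolynomial (Fin n) ℤ →ₐ[ℤ] MvPolynomial (Fin n) ℤ).toRingHom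

theorem fhom_apply (n : ℕ) (p : MvPolynomial (Fin n) ℤ) :
    fhom n p = (MvPolynomial.aeval fun i : Fin n =>
      MvPolynomial.esymm (Fin n) ℤ ((i : ℕ) + 1)) p := rfl

theorem fhom_X (n : ℕ) (k : Fin n) :
    fhom n (MvPolynomial.X k) = MvPolynomial.esymm (Fin n) ℤ ((k : ℕ) + 1) :=
  MvPolynomial.aeval_X _ k

theorem fhom_C (n : ℕ) (z : ℤ) : fhom n (MvPolynomial.C z) = MvPolynomial.C z := by
  rw [fhom_apply, MvPolynomial.aeval_C, MvPolynomial.algebraMap_eq]

theorem main16402 (n : ℕ) (_hn : 2 ≤ n) :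
    Function.Bijective (fun p : (Π i : Fin n, Fin (n - (i : ℕ))) → MvPolynomial (Fin n) ℤ =>
      ∑ d : (Π i : Fin n, Fin (n - (i : ℕ))),
        (MvPolynomial.aeval (fun i : Fin n => MvPolynomial.esymm (Fin n) ℤ ((i : ℕ) + 1))) (p d) *
          ∏ i : Fin n, MvPolynomial.X i ^ ((d i : ℕ))) := by
  obtain ⟨B, instB, algB, τ, b, hb, he, huniv⟩ :=
    infra (R := MvPolynomial (Fin n) ℤ) n (fun k => MvPolynomial.X k)
  have hq : ∀ k : Fin n, MvPolynomial.eval₂ (fhom n) MvPolynomial.X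
      (MvPolynomial.esymm (Fin n) (MvPolynomial (Fin n) ℤ) ((k : ℕ) + 1)) =
      fhom n (MvPolynomial.X k) := by
    intro k
    rw [E_eq, fhom_X]
    conv_rhs => rw [← MvPolynomial.eval₂_eta (MvPolynomial.esymm (Fin n) ℤ ((k : ℕ) + 1)), E_eq]
  obtain ⟨φ, hφ1, hφ2⟩ := huniv (MvPolynomial (Fin n) ℤ) (fhom n) MvPolynomial.X hq
  have hφC : ∀ r : MvPolynomial (Fin n) ℤ, φ (algebraMap _ B r) = fhom n r := by
    intro r
    have h5 := RingHom.congr_fun hφ1 r
    rw [RingHom.comp_apply] at h5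
    exact h5
  -- the map of the statement is `φ ∘ b.equivFun.symm`
  have hΦ : ∀ p : PiIdx n → MvPolynomial (Fin n) ℤ,
      (∑ d : PiIdx n,
        (MvPolynomial.aeval (fun i : Fin n => MvPolynomial.esymm (Fin n) ℤ ((i : ℕ) + 1))) (p d) *
          ∏ i : Fin n, MvPolynomial.X i ^ ((d i : ℕ))) = φ (b.equivFun.symm p) := by
    intro p
    rw [Basis.equivFun_symm_apply, map_sum]
    refine Finset.sum_congr rfl (fun d _ => ?_)
    have h16 : ∏ i, φ (τ i ^ (d i : ℕ)) = ∏ i : Fin n, MvPolynomial.X i ^ (d i : ℕ) :=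
      Finset.prod_congr rfl (fun i _ => by rw [map_pow, hφ2])
    rw [Algebra.smul_def, map_mul, hb d, map_prod, hφC, h16]
    rfl
  -- surjectivity of φ
  have hsurj : Function.Surjective φ := by
    intro y
    induction y using MvPolynomial.induction_on with
    | C z =>
      refine ⟨algebraMap (MvPolynomial (Fin n) ℤ) B (MvPolynomial.C z), ?_⟩
      rw [hφC, fhom_C]
    | add p q hp hq =>
      obtain ⟨u, rfl⟩ := hp
      obtain ⟨v, rfl⟩ := hq
      exact ⟨u + v, map_add φ u v⟩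
    | mul_X p i hp =>
      obtain ⟨u, rfl⟩ := hp
      exact ⟨u * τ i, by rw [map_mul, hφ2]⟩
  -- a left inverse
  obtain ⟨χ, hχdef⟩ : ∃ χ : MvPolynomial (Fin n) ℤ →+* B,
      χ = MvPolynomial.eval₂Hom (Int.castRingHom B) τ := ⟨_, rfl⟩
  have hχX : ∀ i, χ (MvPolynomial.X i) = τ i := by
    intro i; rw [hχdef]; exact MvPolynomial.eval₂Hom_X' _ _ i
  have hχC : ∀ z : ℤ, χ (MvPolynomial.C z) = (z : B) := by
    intro z; rw [hχdef, MvPolynomial.eval₂Hom_C]; rfl
  have hχe : ∀ p, χ p = MvPolynomial.eval₂ (Int.castRingHom B) τ p := by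
    intro p; rw [hχdef]; rfl
  have hχR : χ.comp (fhom n) = algebraMap (MvPolynomial (Fin n) ℤ) B := by
    apply MvPolynomial.ringHom_ext
    · intro z
      rw [RingHom.comp_apply, fhom_C, hχC,
        eq_intCast (MvPolynomial.C : ℤ →+* MvPolynomial (Fin n) ℤ) z, map_intCast]
    · intro k
      rw [RingHom.comp_apply, fhom_X, hχe, E_eq, ← he k, E_eq]
  have hleft : ∀ β : B, χ (φ β) = β := by
    intro β
    rw [← b.sum_repr β, map_sum, map_sum]
    refine Finset.sum_congr rfl (fun d _ => ?_)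
    have h17 : χ (φ (algebraMap _ B (b.repr β d))) = algebraMap _ B (b.repr β d) := by
      rw [hφC]
      exact RingHom.congr_fun hχR (b.repr β d)
    have h19 : ∏ i, χ (φ (τ i ^ (d i : ℕ))) = ∏ i, τ i ^ (d i : ℕ) :=
      Finset.prod_congr rfl (fun i _ => by rw [map_pow, map_pow, hφ2, hχX])
    rw [Algebra.smul_def, map_mul, map_mul, hb d, map_prod, map_prod, h17, h19]
  have hinj : Function.Injective φ := Function.LeftInverse.injective hleft
  have hΦeq : (fun p : PiIdx n → MvPolynomial (Fin n) ℤ =>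
      ∑ d : PiIdx n,
        (MvPolynomial.aeval (fun i : Fin n => MvPolynomial.esymm (Fin n) ℤ ((i : ℕ) + 1))) (p d) *
          ∏ i : Fin n, MvPolynomial.X i ^ ((d i : ℕ))) =
      fun p => φ (b.equivFun.symm p) := funext hΦ
  show Function.Bijective (fun p : PiIdx n → MvPolynomial (Fin n) ℤ =>
      ∑ d : PiIdx n,
        (MvPolynomial.aeval (fun i : Fin n => MvPolynomial.esymm (Fin n) ℤ ((i : ℕ) + 1))) (p d) *
          ∏ i : Fin n, MvPolynomial.X i ^ ((d i : ℕ)))
  rw [hΦeq]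
  exact ⟨hinj.comp b.equivFun.symm.injective, hsurj.comp b.equivFun.symm.surjective⟩

end Groth.Agent.Lib.Helper29.Staircase
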