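import Mathlib

/-!
# The conormal module of the standard presentation of a symmetric algebra (helper29)

For generators `x : Fin m → M` of an `A`-module `M` with relation module `K ⊆ A^m`, the kernel `J` of
`A[y_1..y_m] → Sym_A M` is generated by the linear forms `∑ k_j y_j`, `k ∈ K`; hence
`Sym M ⊗ K → J/J²` is surjective, and it is bijective if `M` is projective.
-/

set_option autoImplicit false
set_option linter.style.haveILetI false
set_option linter.unusedSectionVars false

universe u

open TensorProduct MvPolynomial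

namespace Groth.Agent.Lib.Helper29.SymCotangent

section

variable (A : Type u) [CommRing A] (m : ℕ)

/-- The linear form attached to a vector of coefficients. -/
noncomputable def L : (Fin m → A) →ₗ[A] MvPolynomial (Fin m) A where
  toFun v := ∑ j, C (v j) * X j
  map_add' v w := by simp [add_mul, Finset.sum_add_distrib]
  map_smul' a v := by simp [Finset.smul_sum, smul_eq_C_mul, mul_assoc]

lemma L_apply (v : Fin m → A) : L A m v = ∑ j, C (v j) * X j := rfl

lemma L_single (j : Fin m) : L A m (Pi.single j 1) = X j := by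
  rw [L_apply, Finset.sum_eq_single j]
  · simp
  · intro i _ hij
    simp [Pi.single_apply, hij]
  · intro h; exact absurd (Finset.mem_univ j) h

lemma pderiv_L (v : Fin m → A) (j : Fin m) : pderiv j (L A m v) = C (v j) := by
  rw [L_apply, map_sum, Finset.sum_eq_single j]
  · simp
  · intro i _ hij
    simp [pderiv_X, Pi.single_apply, hij]
  · intro h; exact absurd (Finset.mem_univ j) h

end

section Main

variable {A : Type u} [CommRing A] {M : Type u} [AddCommGroup M] [Module A M] {m : ℕ}
  (x : Fin m → M) (hx : Function.Surjective (Fintype.linearCombination A x))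
  (G : Algebra.Generators A (SymmetricAlgebra A M) (Fin m))
  (hG : ∀ j, G.val j = SymmetricAlgebra.ι A M (x j))

include hG in
lemma aeval_L (v : Fin m → A) :
    aeval G.val (L A m v) = SymmetricAlgebra.ι A M (Fintype.linearCombination A x v) := by
  rw [L_apply, map_sum, Fintype.linearCombination_apply, map_sum]
  refine Finset.sum_congr rfl (fun j _ => ?_)
  rw [map_mul, aeval_C, aeval_X, hG, map_smul, Algebra.smul_def]

include hG in
lemma L_mem_ker (k : LinearMap.ker (Fintype.linearCombination A x)) :
    L A m k.1 ∈ G.toExtension.ker := by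
  change L A m k.1 ∈ G.ker
  rw [G.ker_eq_ker_aeval_val, RingHom.mem_ker, aeval_L x G hG, LinearMap.mem_ker.mp k.2, map_zero]

/-- The `A`-linear map `K → J/J²`. -/
noncomputable def fK : LinearMap.ker (Fintype.linearCombination A x) →ₗ[A] G.toExtension.Cotangent where
  toFun k := Algebra.Extension.Cotangent.mk ⟨L A m k.1, L_mem_ker x G hG k⟩
  map_add' k k' := by
    have h1 : (⟨L A m (k + k').1, L_mem_ker x G hG (k + k')⟩ : G.toExtension.ker) =
        ⟨L A m k.1, L_mem_ker x G hG k⟩ + ⟨L A m k'.1, L_mem_ker x G hG k'⟩ :=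
      Subtype.ext (map_add (L A m) k.1 k'.1)
    rw [h1, map_add]
  map_smul' a k := by
    obtain ⟨ca, hca⟩ : ∃ ca : G.toExtension.Ring, ca = (C a : MvPolynomial (Fin m) A) := ⟨_, rfl⟩
    have h1 : (⟨L A m (a • k).1, L_mem_ker x G hG (a • k)⟩ : G.toExtension.ker) =
        ca • (⟨L A m k.1, L_mem_ker x G hG k⟩ : G.toExtension.ker) := by
      apply Subtype.ext
      subst hca
      exact (map_smul (L A m) a k.1).trans (smul_eq_C_mul _ _)
    rw [h1, map_smul, RingHom.id_apply]
    have h2 : ca = algebraMap A G.toExtension.Ring a := by subst hca; rfl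
    rw [h2, algebraMap_smul]

/-- The comparison map `Sym M ⊗ K → J/J²`. -/
noncomputable def eMap :
    SymmetricAlgebra A M ⊗[A] (LinearMap.ker (Fintype.linearCombination A x)) →ₗ[SymmetricAlgebra A M]
      G.toExtension.Cotangent :=
  (fK x G hG).liftBaseChange (SymmetricAlgebra A M)

lemma eMap_tmul (c : SymmetricAlgebra A M) (k : LinearMap.ker (Fintype.linearCombination A x)) :
    eMap x G hG (c ⊗ₜ k) = c • Algebra.Extension.Cotangent.mk ⟨L A m k.1, L_mem_ker x G hG k⟩ :=
  rfl

/-! ### surjectivity -/

/-- the ideal generated by the linear relations -/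
noncomputable def I₀ : Ideal (MvPolynomial (Fin m) A) :=
  Ideal.span (Set.range fun k : LinearMap.ker (Fintype.linearCombination A x) => L A m k.1)

/-- `A^m → A[y]/I₀`. -/
noncomputable def psi : (Fin m → A) →ₗ[A] MvPolynomial (Fin m) A ⧸ I₀ x :=
  (Ideal.Quotient.mkₐ A (I₀ x)).toLinearMap ∘ₗ L A m

lemma psi_apply (v : Fin m → A) : psi x v = Ideal.Quotient.mk (I₀ x) (L A m v) := rfl

lemma ker_le_ker_psi : LinearMap.ker (Fintype.linearCombination A x) ≤ LinearMap.ker (psi x) := by
  intro k hk
  rw [LinearMap.mem_ker, psi_apply, Ideal.Quotient.eq_zero_iff_mem]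
  exact Ideal.subset_span ⟨⟨k, hk⟩, rfl⟩

/-- `M → A[y]/I₀`. -/
noncomputable def phi : M →ₗ[A] MvPolynomial (Fin m) A ⧸ I₀ x :=
  ((LinearMap.ker (Fintype.linearCombination A x)).liftQ (psi x) (ker_le_ker_psi x)) ∘ₗ
    ((Fintype.linearCombination A x).quotKerEquivOfSurjective hx).symm.toLinearMap

lemma phi_apply (v : Fin m → A) :
    phi x hx (Fintype.linearCombination A x v) = Ideal.Quotient.mk (I₀ x) (L A m v) := by
  unfold phi
  rw [LinearMap.comp_apply, LinearEquiv.coe_coe, LinearMap.quotKerEquivOfSurjective_symm_apply,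
    Submodule.liftQ_apply, psi_apply]

include hG in
lemma beta_aeval (p : MvPolynomial (Fin m) A) :
    SymmetricAlgebra.lift (phi x hx) (aeval G.val p) = Ideal.Quotient.mk (I₀ x) p := by
  have h : (SymmetricAlgebra.lift (phi x hx)).comp (aeval G.val) = Ideal.Quotient.mkₐ A (I₀ x) := by
    apply MvPolynomial.algHom_ext
    intro j
    rw [AlgHom.comp_apply, aeval_X, hG, SymmetricAlgebra.lift_ι_apply, Ideal.Quotient.mkₐ_eq_mk]
    have h2 : x j = Fintype.linearCombination A x (Pi.single j 1) := by
      rw [Fintype.linearCombination_apply_single, one_smul]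
    rw [h2, phi_apply, L_single]
  have := congrArg (fun f => f p) h
  simpa using this

include hx hG in
lemma ker_eq_I₀ : I₀ x = G.toExtension.ker := by
  apply le_antisymm
  · unfold I₀
    rw [Ideal.span_le]
    rintro _ ⟨k, rfl⟩
    exact L_mem_ker x G hG k
  · intro p hp
    change p ∈ G.ker at hp
    rw [G.ker_eq_ker_aeval_val, RingHom.mem_ker] at hp
    have h := beta_aeval x hx G hG p
    rw [hp, map_zero] at h
    exact Ideal.Quotient.eq_zero_iff_mem.mp h.symm

include hx hG in
lemma eMap_surjective : Function.Surjective (eMap x G hG) := by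
  have hs := Algebra.Extension.Cotangent.span_eq_top_of_span_eq_ker (P := G.toExtension)
    (fun k : LinearMap.ker (Fintype.linearCombination A x) => L A m k.1) (ker_eq_I₀ x hx G hG)
  rw [← LinearMap.range_eq_top, eq_top_iff, ← hs, Submodule.span_le]
  rintro _ ⟨k, rfl⟩
  refine ⟨1 ⊗ₜ k, ?_⟩
  rw [eMap_tmul, one_smul]

/-! ### injectivity in the projective case -/

include hx hG in
lemma eMap_injective [Module.Projective A M] : Function.Injective (eMap x G hG) := by
  classical
  obtain ⟨s, hs⟩ := Module.projective_lifting_property (Fintype.linearCombination A x)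
    (LinearMap.id : M →ₗ[A] M) hx
  have hs' : ∀ y : M, Fintype.linearCombination A x (s y) = y := fun y => by
    have := congrArg (fun f => f y) hs
    simpa using this
  -- the retraction onto `K`
  let r : (Fin m → A) →ₗ[A] LinearMap.ker (Fintype.linearCombination A x) :=
    LinearMap.codRestrict _ (LinearMap.id - s ∘ₗ Fintype.linearCombination A x) (fun v => by
      rw [LinearMap.mem_ker, LinearMap.sub_apply, map_sub, LinearMap.id_apply,
        LinearMap.comp_apply, hs', sub_self])
  have hr : ∀ k : LinearMap.ker (Fintype.linearCombination A x), r k.1 = k := by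
    intro k
    apply Subtype.ext
    change k.1 - s (Fintype.linearCombination A x k.1) = k.1
    rw [LinearMap.mem_ker.mp k.2, map_zero, sub_zero]
  let b := G.cotangentSpaceBasis
  let Ψ : G.toExtension.CotangentSpace →ₗ[SymmetricAlgebra A M]
      SymmetricAlgebra A M ⊗[A] (LinearMap.ker (Fintype.linearCombination A x)) :=
    ∑ j, (b.coord j).smulRight ((1 : SymmetricAlgebra A M) ⊗ₜ[A] r (Pi.single j 1))
  have hΨ : ∀ w, Ψ w = ∑ j, (b.repr w j) • ((1 : SymmetricAlgebra A M) ⊗ₜ[A] r (Pi.single j 1)) := by
    intro w
    simp only [Ψ, LinearMap.sum_apply, LinearMap.smulRight_apply, Module.Basis.coord_apply]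
  have key : ∀ z, Ψ (G.toExtension.cotangentComplex (eMap x G hG z)) = z := by
    intro z
    induction z using TensorProduct.induction_on with
    | zero => simp
    | add z w hz hw => rw [map_add, map_add, map_add, hz, hw]
    | tmul c k =>
      rw [eMap_tmul, map_smul, map_smul, Algebra.Extension.cotangentComplex_mk, hΨ]
      have h1 : ∀ j, b.repr ((1 : SymmetricAlgebra A M) ⊗ₜ[G.toExtension.Ring]
          (KaehlerDifferential.D A G.toExtension.Ring (L A m k.1))) j =
          algebraMap A (SymmetricAlgebra A M) (k.1 j) := by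
        intro j
        rw [Algebra.Generators.cotangentSpaceBasis_repr_one_tmul, pderiv_L, aeval_C]
      have h2 : ∑ j, (algebraMap A (SymmetricAlgebra A M) (k.1 j)) •
          ((1 : SymmetricAlgebra A M) ⊗ₜ[A] r (Pi.single j 1)) =
          (1 : SymmetricAlgebra A M) ⊗ₜ[A] k := by
        have h3 : ∀ j, (algebraMap A (SymmetricAlgebra A M) (k.1 j)) •
            ((1 : SymmetricAlgebra A M) ⊗ₜ[A] r (Pi.single j 1)) =
            (1 : SymmetricAlgebra A M) ⊗ₜ[A] r (Pi.single j (k.1 j)) := by
          intro j
          rw [algebraMap_smul, ← TensorProduct.tmul_smul, ← map_smul]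
          congr 2
          ext i
          simp [Pi.single_apply]
        simp_rw [h3]
        rw [← TensorProduct.tmul_sum, ← map_sum, Finset.univ_sum_single, hr]
      simp_rw [h1]
      rw [h2, TensorProduct.smul_tmul', smul_eq_mul, mul_one]
  exact Function.LeftInverse.injective
    (g := fun w => Ψ (G.toExtension.cotangentComplex w)) key

end Main

theorem main12091 (A : Type u) [CommRing A] (M : Type u)
    [AddCommGroup M] [Module A M] (m : ℕ) (x : Fin m → M)
    (hx : Function.Surjective (Fintype.linearCombination A x))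
    (G : Algebra.Generators A (SymmetricAlgebra A M) (Fin m))
    (hG : ∀ j, G.val j = SymmetricAlgebra.ι A M (x j)) :
    ∃ e : SymmetricAlgebra A M ⊗[A] (LinearMap.ker (Fintype.linearCombination A x)) →ₗ[SymmetricAlgebra A M]
        G.toExtension.Cotangent,
      (∀ (k : LinearMap.ker (Fintype.linearCombination A x))
        (hk : (∑ j, C ((k : Fin m → A) j) * X j : MvPolynomial (Fin m) A) ∈ G.toExtension.ker),
        e (1 ⊗ₜ k) = Algebra.Extension.Cotangent.mk ⟨_, hk⟩) ∧
      Function.Surjective e ∧ (Module.Projective A M → Function.Bijective e) := by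
  refine ⟨eMap x G hG, ?_, eMap_surjective x hx G hG, fun hP => ?_⟩
  · intro k hk
    rw [eMap_tmul, one_smul]
    rfl
  · haveI := hP
    exact ⟨eMap_injective x hx G hG, eMap_surjective x hx G hG⟩

end Groth.Agent.Lib.Helper29.SymCotangent
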