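import Mathlib

/-!
# Prop-level cokernels and right exactness of bifunctors

* `IsCok f g`: `g` is a cokernel of `f`, as a proposition.
* `IsCok.map`: preserved by functors preserving cokernels.
* `IsCok.bi`: if `T` is right exact in each variable then `T(A'',B'')` is the cokernel of
  `T(A',B) ⊕ T(A,B') ⟶ T(A,B)`, in test-morphism form.
-/

set_option autoImplicit false
set_option maxHeartbeats 1600000

open CategoryTheory CategoryTheory.Limits

namespace Groth.Agent.Lib.Helper29.TensPermA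

universe v w
variable {𝒜 : Type w} [Category.{v} 𝒜] [HasZeroMorphisms 𝒜]

/-- `g` is a cokernel of `f`. -/
def IsCok {A B Q : 𝒜} (f : A ⟶ B) (g : B ⟶ Q) : Prop :=
  f ≫ g = 0 ∧ Epi g ∧ ∀ ⦃Z : 𝒜⦄ (φ : B ⟶ Z), f ≫ φ = 0 → ∃ χ : Q ⟶ Z, g ≫ χ = φ

theorem IsCok.of_isColimit {A B Q : 𝒜} {f : A ⟶ B} {g : B ⟶ Q} (w : f ≫ g = 0)
    (hc : IsColimit (CokernelCofork.ofπ g w)) : IsCok f g := by
  refine ⟨w, ?_, fun Z φ hφ => ⟨hc.desc (CokernelCofork.ofπ φ hφ), ?_⟩⟩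
  · exact epi_of_isColimit_cofork hc
  · exact Cofork.IsColimit.π_desc hc

/-- the colimit cofork of a Prop-level cokernel. -/
noncomputable def IsCok.isColimit {A B Q : 𝒜} {f : A ⟶ B} {g : B ⟶ Q} (h : IsCok f g) :
    IsColimit (CokernelCofork.ofπ g h.1) :=
  haveI := h.2.1
  CokernelCofork.IsColimit.ofπ' g h.1
    (fun k hk => ⟨(h.2.2 k hk).choose, (h.2.2 k hk).choose_spec⟩)

theorem IsCok.map {ℬ : Type*} [Category ℬ] [HasZeroMorphisms ℬ] {A B Q : 𝒜} {f : A ⟶ B}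
    {g : B ⟶ Q} (h : IsCok f g) (G : 𝒜 ⥤ ℬ) [G.PreservesZeroMorphisms]
    [PreservesColimit (parallelPair f 0) G] : IsCok (G.map f) (G.map g) := by
  have hc := CokernelCofork.mapIsColimit _ h.isColimit G
  exact IsCok.of_isColimit (by rw [← G.map_comp, h.1, G.map_zero]) hc

/-- Right exactness of a bifunctor in both variables, in test-morphism form. -/
theorem IsCok.bi (T : 𝒜 ⥤ 𝒜 ⥤ 𝒜)
    (hL : ∀ (B : 𝒜) ⦃A A' Q : 𝒜⦄ (f : A ⟶ A') (g : A' ⟶ Q), IsCok f g →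
      IsCok ((T.map f).app B) ((T.map g).app B))
    (hR : ∀ (A : 𝒜) ⦃B B' Q : 𝒜⦄ (f : B ⟶ B') (g : B' ⟶ Q), IsCok f g →
      IsCok ((T.obj A).map f) ((T.obj A).map g))
    {A' A A'' : 𝒜} {f : A' ⟶ A} {g : A ⟶ A''} (h : IsCok f g)
    {B' B B'' : 𝒜} {f' : B' ⟶ B} {g' : B ⟶ B''} (h' : IsCok f' g')
    {E S : 𝒜} (e : (T.obj A).obj B ≅ E) (s : S ⟶ E)
    (hs : ∀ ⦃Z : 𝒜⦄ (φ : E ⟶ Z), s ≫ φ = 0 ↔
      ((T.map f).app B ≫ e.hom ≫ φ = 0 ∧ (T.obj A).map f' ≫ e.hom ≫ φ = 0)) :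
    IsCok s (e.inv ≫ (T.map g).app B ≫ (T.obj A'').map g') := by
  have h1 := hL B f g h
  have h1' := hL B' f g h
  have h2 := hR A'' f' g' h'
  have nat : (T.obj A).map f' ≫ (T.map g).app B = (T.map g).app B' ≫ (T.obj A'').map f' :=
    (T.map g).naturality f'
  refine ⟨?_, ?_, ?_⟩
  · rw [hs]
    constructor
    · rw [e.hom_inv_id_assoc, ← Category.assoc, h1.1, zero_comp]
    · rw [e.hom_inv_id_assoc, ← Category.assoc, nat, Category.assoc, h2.1, comp_zero]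
  · haveI := h1.2.1
    haveI := h2.2.1
    infer_instance
  · intro Z φ hφ
    obtain ⟨ha, hb⟩ := (hs φ).1 hφ
    obtain ⟨ψ, hψ⟩ := h1.2.2 (e.hom ≫ φ) ha
    have hz : (T.obj A'').map f' ≫ ψ = 0 := by
      haveI := h1'.2.1
      rw [← cancel_epi ((T.map g).app B'), comp_zero, ← Category.assoc, ← nat, Category.assoc,
        hψ, hb]
    obtain ⟨χ, hχ⟩ := h2.2.2 ψ hz
    refine ⟨χ, ?_⟩
    rw [Category.assoc, Category.assoc, hχ, hψ, e.inv_hom_id_assoc]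

/-- test-morphism criterion for a map out of a coproduct, precomposed with an isomorphism. -/
theorem desc_comp_eq_zero_iff [HasBinaryCoproducts 𝒜] {A₁ A₂ E S Z : 𝒜} (i : S ≅ A₁ ⨿ A₂)
    (a : A₁ ⟶ E) (b : A₂ ⟶ E) (φ : E ⟶ Z) :
    (i.hom ≫ coprod.desc a b) ≫ φ = 0 ↔ (a ≫ φ = 0 ∧ b ≫ φ = 0) := by
  constructor
  · intro h
    have h' : coprod.desc a b ≫ φ = 0 := by
      rw [← cancel_epi i.hom, comp_zero, ← Category.assoc, h]
    constructor
    · have := congrArg (fun t => coprod.inl ≫ t) h'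

      rwa [coprod.inl_desc_assoc, comp_zero] at this
    · have := congrArg (fun t => coprod.inr ≫ t) h'

      rwa [coprod.inr_desc_assoc, comp_zero] at this
  · rintro ⟨h1, h2⟩
    rw [Category.assoc]
    have : coprod.desc a b ≫ φ = 0 := by
      apply coprod.hom_ext
      · rw [coprod.inl_desc_assoc, comp_zero, h1]
      · rw [coprod.inr_desc_assoc, comp_zero, h2]
    rw [this, comp_zero]

end Groth.Agent.Lib.Helper29.TensPermA
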