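import Mathlib
import Groth.Prelude.Def_ModSite
import Groth.Agent.Lib.Helper13.ModSiteTensor
import Groth.Agent.Lib.Helper13.ModSiteFlat
import Groth.Agent.Lib.Helper13.ModSiteUnitor
import Groth.Agent.Lib.Helper29.TensPermA

/-!
# Tensor products of generating sections and presentations on a small ringed site
-/

set_option autoImplicit false
set_option maxHeartbeats 1600000
universe u

open CategoryTheory CategoryTheory.Limits SheafOfModules
open Groth.Agent.Lib.Helper13 Groth.Agent.Lib.Helper13.ModSiteTensor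
open Groth.Agent.Lib.Helper13.ModSiteFlat Groth.Agent.Lib.Helper13.ModSiteUnitor
open Groth.Agent.Lib.Helper29.TensPermA

noncomputable section

namespace Groth.Agent.Lib.Helper29.TensPermB

variable {C : Type u} [SmallCategory C] {J : GrothendieckTopology C} (O : Sheaf J CommRingCat.{u})

/-- the tensor product. -/
abbrev tens (M N : ModSite.Mod O) : ModSite.Mod O := ((ModSite.tensorBi O).obj M).obj N

/-- the tensor product of two morphisms. -/
def tensMap {M M' N N' : ModSite.Mod O} (f : M ⟶ M') (g : N ⟶ N') : tens O M N ⟶ tens O M' N' :=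
  ((ModSite.tensorBi O).map f).app N ≫ ((ModSite.tensorBi O).obj M').map g

instance epi_left {M M' : ModSite.Mod O} (f : M ⟶ M') [Epi f] (N : ModSite.Mod O) :
    Epi (((ModSite.tensorBi O).map f).app N) := by
  change Epi (((ModSite.tensorBi O).flip.obj N).map f)
  infer_instance

instance epi_right (M : ModSite.Mod O) {N N' : ModSite.Mod O} (g : N ⟶ N') [Epi g] :
    Epi (((ModSite.tensorBi O).obj M).map g) := by
  infer_instance

instance epi_tensMap {M M' N N' : ModSite.Mod O} (f : M ⟶ M') (g : N ⟶ N') [Epi f] [Epi g] :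
    Epi (tensMap O f g) := by
  unfold tensMap
  infer_instance

instance isIso_tensMap {M M' N N' : ModSite.Mod O} (f : M ⟶ M') (g : N ⟶ N') [IsIso f] [IsIso g] :
    IsIso (tensMap O f g) := by
  unfold tensMap
  infer_instance

theorem hL (B : ModSite.Mod O) ⦃A A' Q : ModSite.Mod O⦄ (f : A ⟶ A') (g : A' ⟶ Q)
    (h : IsCok f g) :
    IsCok (((ModSite.tensorBi O).map f).app B) (((ModSite.tensorBi O).map g).app B) :=
  h.map ((ModSite.tensorBi O).flip.obj B)

theorem hR (A : ModSite.Mod O) ⦃B B' Q : ModSite.Mod O⦄ (f : B ⟶ B') (g : B' ⟶ Q)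
    (h : IsCok f g) :
    IsCok (((ModSite.tensorBi O).obj A).map f) (((ModSite.tensorBi O).obj A).map g) :=
  h.map ((ModSite.tensorBi O).obj A)

/-- `free I ⊗ N ≅ ∐_I N`. -/
def freeTens (I : Type u) (N : ModSite.Mod O) :
    tens O (free I) N ≅ ∐ (fun _ : I => N) :=
  (PreservesCoproduct.iso ((ModSite.tensorBi O).flip.obj N) (fun _ : I => ModSite.unit O)) ≪≫
    Sigma.mapIso (fun _ => (leftUnitorIso O).app N)

/-- `∐_I free K ≅ free (I × K)`. -/
def sigmaFree (I K : Type u) :
    (∐ fun _ : I => (free K : ModSite.Mod O)) ≅ (free (I × K) : ModSite.Mod O) :=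
  (PreservesCoproduct.iso (freeFunctor (R := ModSite.ringSh O)) (fun _ : I => K)).symm ≪≫
    (freeFunctor (R := ModSite.ringSh O)).mapIso
      ((Types.coproductIso (fun _ : I => K)) ≪≫ (Equiv.sigmaEquivProd I K).toIso)

/-- `free I ⊗ free K ≅ free (I × K)`. -/
def freeTensFree (I K : Type u) :
    tens O (free I) (free K) ≅ (free (I × K) : ModSite.Mod O) :=
  freeTens O I (free K) ≪≫ sigmaFree O I K

variable {O}

/-- generating sections of a tensor product. -/
def tensGen {M N : ModSite.Mod O} (σ : M.GeneratingSections) (τ : N.GeneratingSections) :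
    (tens O M N).GeneratingSections where
  I := σ.I × τ.I
  s := (tens O M N).freeHomEquiv ((freeTensFree O σ.I τ.I).inv ≫ tensMap O σ.π τ.π)
  epi := by
    rw [Equiv.symm_apply_apply]
    infer_instance

theorem tensGen_π {M N : ModSite.Mod O} (σ : M.GeneratingSections) (τ : N.GeneratingSections) :
    (tensGen σ τ).π = (freeTensFree O σ.I τ.I).inv ≫ tensMap O σ.π τ.π :=
  Equiv.symm_apply_apply _ _

instance tensGen_finite {M N : ModSite.Mod O} (σ : M.GeneratingSections)
    (τ : N.GeneratingSections) [σ.IsFiniteType] [τ.IsFiniteType] : (tensGen σ τ).IsFiniteType where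
  finite := inferInstanceAs (Finite (σ.I × τ.I))

instance tensGen_isIso {M N : ModSite.Mod O} (σ : M.GeneratingSections)
    (τ : N.GeneratingSections) [IsIso σ.π] [IsIso τ.π] : IsIso (tensGen σ τ).π := by
  rw [tensGen_π]
  haveI : IsIso (tensMap O σ.π τ.π) := isIso_tensMap O σ.π τ.π
  exact IsIso.comp_isIso

theorem desc_comp_eq_zero_iff' {𝒜 : Type*} [Category 𝒜] [HasZeroMorphisms 𝒜]
    [HasBinaryCoproducts 𝒜] {A₁ A₂ A₁' A₂' E S Z : 𝒜} (i : S ≅ A₁ ⨿ A₂)
    (e₁ : A₁ ≅ A₁') (e₂ : A₂ ≅ A₂') (a : A₁' ⟶ E) (b : A₂' ⟶ E) (φ : E ⟶ Z) :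
    (i.hom ≫ coprod.desc (e₁.hom ≫ a) (e₂.hom ≫ b)) ≫ φ = 0 ↔ (a ≫ φ = 0 ∧ b ≫ φ = 0) := by
  rw [desc_comp_eq_zero_iff, Category.assoc, Category.assoc]
  constructor
  · rintro ⟨h1, h2⟩
    exact ⟨by rw [← cancel_epi e₁.hom, h1, comp_zero], by rw [← cancel_epi e₂.hom, h2, comp_zero]⟩
  · rintro ⟨h1, h2⟩
    exact ⟨by rw [h1, comp_zero], by rw [h2, comp_zero]⟩

/-- the relations morphism of a presentation. -/
abbrev relMap {M : ModSite.Mod O} (P : M.Presentation) :
    (free P.relations.I : ModSite.Mod O) ⟶ free P.generators.I :=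
  (freeHomEquiv _).symm P.relations.s ≫ kernel.ι P.generators.π

theorem isCok_pres {M : ModSite.Mod O} (P : M.Presentation) : IsCok (relMap P) P.generators.π :=
  IsCok.of_isColimit _ P.isColimit

/-- the relations morphism of the tensor product presentation. -/
def tensRel {M N : ModSite.Mod O} (P : M.Presentation) (Q : N.Presentation) :
    (free ((P.relations.I × Q.generators.I) ⊕ (P.generators.I × Q.relations.I)) : ModSite.Mod O) ⟶
      free (P.generators.I × Q.generators.I) :=
  (freeSumIso _ _).symm.hom ≫ coprod.desc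
    ((freeTensFree O P.relations.I Q.generators.I).symm.hom ≫
      (((ModSite.tensorBi O).map (relMap P)).app _ ≫
        (freeTensFree O P.generators.I Q.generators.I).hom))
    ((freeTensFree O P.generators.I Q.relations.I).symm.hom ≫
      (((ModSite.tensorBi O).obj _).map (relMap Q) ≫
        (freeTensFree O P.generators.I Q.generators.I).hom))

theorem isCok_tens {M N : ModSite.Mod O} (P : M.Presentation) (Q : N.Presentation) :
    IsCok (tensRel P Q) ((freeTensFree O P.generators.I Q.generators.I).inv ≫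
      tensMap O P.generators.π Q.generators.π) := by
  refine IsCok.bi (ModSite.tensorBi O) (hL O) (hR O) (isCok_pres P) (isCok_pres Q)
    (freeTensFree O P.generators.I Q.generators.I) (tensRel P Q) ?_
  intro Z φ
  unfold tensRel
  rw [desc_comp_eq_zero_iff', Category.assoc, Category.assoc]

/-- presentation of a tensor product. -/
def tensPres {M N : ModSite.Mod O} (P : M.Presentation) (Q : N.Presentation) :
    (tens O M N).Presentation :=
  presentationOfIsCokernelFree (tensRel P Q) _ (isCok_tens P Q).1 (isCok_tens P Q).isColimit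

instance tensPres_finite {M N : ModSite.Mod O} (P : M.Presentation) (Q : N.Presentation)
    [P.IsFinite] [Q.IsFinite] : (tensPres P Q).IsFinite where
  isFiniteType_generators := ⟨inferInstanceAs (Finite (P.generators.I × Q.generators.I))⟩
  isFiniteType_relations :=
    ⟨inferInstanceAs (Finite ((P.relations.I × Q.generators.I) ⊕ (P.generators.I × Q.relations.I)))⟩

end Groth.Agent.Lib.Helper29.TensPermB
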