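import Mathlib
import Groth.Prelude.Def_ModSite
import Groth.Agent.Lib.Helper13.ModSiteRestr
import Groth.Agent.Lib.Helper29.TensPermB

/-!
# Permanence of local properties under tensor products on a ringed space
-/

set_option autoImplicit false
set_option maxHeartbeats 1600000
universe u

open CategoryTheory CategoryTheory.Limits SheafOfModules TopologicalSpace
open Groth.Agent.Lib.Helper13 Groth.Agent.Lib.Helper13.ModSiteTensor
open Groth.Agent.Lib.Helper13.ModSiteRestr
open Groth.Agent.Lib.Helper29.TensPermA Groth.Agent.Lib.Helper29.TensPermB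

noncomputable section

namespace Groth.Agent.Lib.Helper29.TensPermC

section Restr

variable {C : Type u} [SmallCategory C] [HasPullbacks C] {J : GrothendieckTopology C}
  {R : Sheaf J RingCat.{u}}

instance preservesColimits_overMap {U W : C} (h : W ⟶ U) :
    PreservesColimitsOfSize.{u, u} (overMap.{u} R h) :=
  (overMapPushforwardAdj R h).leftAdjoint_preservesColimits

/-- restriction of generating sections to a smaller object. -/
def restrGen {M : SheafOfModules.{u} R} {U W : C} (h : W ⟶ U)
    (σ : (M.over U).GeneratingSections) : (M.over W).GeneratingSections :=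
  (σ.map (overMap.{u} R h) (overMapUnitIso h).symm).ofEpi ((overFunctorMap.{u} R h).hom.app M)

instance restrGen_finite {M : SheafOfModules.{u} R} {U W : C} (h : W ⟶ U)
    (σ : (M.over U).GeneratingSections) [σ.IsFiniteType] : (restrGen h σ).IsFiniteType where
  finite := inferInstanceAs (Finite σ.I)

instance restrGen_isIso {M : SheafOfModules.{u} R} {U W : C} (h : W ⟶ U)
    (σ : (M.over U).GeneratingSections) [IsIso σ.π] : IsIso (restrGen h σ).π := by
  unfold restrGen
  rw [GeneratingSections.ofEpi_π]
  rw [GeneratingSections.map_π_eq]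
  exact Iso.isIso_hom (((mapFreeIso (overMap.{u} R h) σ.I (overMapUnitIso h).symm) ≪≫
    (overMap.{u} R h).mapIso (asIso σ.π)) ≪≫ ((overFunctorMap.{u} R h).app M))

/-- restriction of a presentation to a smaller object. -/
def restrPres {M : SheafOfModules.{u} R} {U W : C} (h : W ⟶ U)
    (P : (M.over U).Presentation) : (M.over W).Presentation :=
  (P.map (overMap.{u} R h) (overMapUnitIso h).symm).ofIsIso ((overFunctorMap.{u} R h).hom.app M)

instance restrPres_finite {M : SheafOfModules.{u} R} {U W : C} (h : W ⟶ U)
    (P : (M.over U).Presentation) [P.IsFinite] : (restrPres h P).IsFinite where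
  isFiniteType_generators := ⟨inferInstanceAs (Finite P.generators.I)⟩
  isFiniteType_relations := ⟨inferInstanceAs (Finite P.relations.I)⟩

end Restr

variable {X : TopCat.{u}} (O : TopCat.Sheaf CommRingCat.{u} X) (F G : ModSite.Mod O)

theorem coversTop_inf {I I' : Type u} (U : I → Opens X) (V : I' → Opens X)
    (hU : (Opens.grothendieckTopology X).CoversTop U)
    (hV : (Opens.grothendieckTopology X).CoversTop V) :
    (Opens.grothendieckTopology X).CoversTop (fun p : I × I' => U p.1 ⊓ V p.2) := by
  rw [Opens.coversTop_iff] at hU hV ⊢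
  refine IsOpenCover.mk (eq_top_iff.2 fun x _ => ?_)
  obtain ⟨i, hi⟩ := hU.exists_mem x
  obtain ⟨j, hj⟩ := hV.exists_mem x
  exact Opens.mem_iSup.2 ⟨(i, j), ⟨hi, hj⟩⟩

/-- generating sections of `(F ⊗ G)|_W` from those of `F|_W` and `G|_W`. -/
def genAt (W : Opens X)
    (σ : GeneratingSections (R := ModSite.ringSh (O.over W)) ((ModSite.restr O W).obj F))
    (τ : GeneratingSections (R := ModSite.ringSh (O.over W)) ((ModSite.restr O W).obj G)) :
    GeneratingSections (R := ModSite.ringSh (O.over W))
      ((ModSite.restr O W).obj (((ModSite.tensorBi O).obj F).obj G)) :=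
  (tensGen σ τ).ofEpi (restrTensorApp O W F G).inv

/-- presentation of `(F ⊗ G)|_W` from those of `F|_W` and `G|_W`. -/
def presAt (W : Opens X)
    (P : Presentation (R := ModSite.ringSh (O.over W)) ((ModSite.restr O W).obj F))
    (Q : Presentation (R := ModSite.ringSh (O.over W)) ((ModSite.restr O W).obj G)) :
    Presentation (R := ModSite.ringSh (O.over W))
      ((ModSite.restr O W).obj (((ModSite.tensorBi O).obj F).obj G)) :=
  (tensPres P Q).ofIsIso (restrTensorApp O W F G).inv

variable {O F G}

/-- local generators of a tensor product. -/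
def lgd (p : LocalGeneratorsData.{u} (R := ModSite.ringSh O) F)
    (q : LocalGeneratorsData.{u} (R := ModSite.ringSh O) G) :
    LocalGeneratorsData.{u} (R := ModSite.ringSh O) (((ModSite.tensorBi O).obj F).obj G) where
  I := p.I × q.I
  X := fun ij => p.X ij.1 ⊓ q.X ij.2
  coversTop := coversTop_inf _ _ p.coversTop q.coversTop
  generators := fun ij => genAt O F G _
    (restrGen (homOfLE inf_le_left) (p.generators ij.1))
    (restrGen (homOfLE inf_le_right) (q.generators ij.2))

instance lgd_finite (p : LocalGeneratorsData.{u} (R := ModSite.ringSh O) F)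
    (q : LocalGeneratorsData.{u} (R := ModSite.ringSh O) G) [p.IsFiniteType] [q.IsFiniteType] :
    (lgd p q).IsFiniteType where
  isFiniteType ij := by
    haveI : (p.generators ij.1).IsFiniteType := LocalGeneratorsData.IsFiniteType.isFiniteType _
    haveI : (q.generators ij.2).IsFiniteType := LocalGeneratorsData.IsFiniteType.isFiniteType _
    exact ⟨inferInstanceAs (Finite ((p.generators ij.1).I × (q.generators ij.2).I))⟩

instance lgd_free (p : LocalGeneratorsData.{u} (R := ModSite.ringSh O) F)
    (q : LocalGeneratorsData.{u} (R := ModSite.ringSh O) G) [p.IsLocallyFreeData]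
    [q.IsLocallyFreeData] : (lgd p q).IsLocallyFreeData where
  isIso ij := by
    haveI : IsIso (p.generators ij.1).π := LocalGeneratorsData.IsLocallyFreeData.isIso _
    haveI : IsIso (q.generators ij.2).π := LocalGeneratorsData.IsLocallyFreeData.isIso _
    change IsIso (genAt O F G _ (restrGen (homOfLE inf_le_left) (p.generators ij.1))
      (restrGen (homOfLE inf_le_right) (q.generators ij.2))).π
    unfold genAt
    rw [GeneratingSections.ofEpi_π]
    haveI h1 : IsIso (restrGen (homOfLE (inf_le_left : p.X ij.1 ⊓ q.X ij.2 ≤ p.X ij.1))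
      (p.generators ij.1)).π := restrGen_isIso _ _
    haveI h2 : IsIso (restrGen (homOfLE (inf_le_right : p.X ij.1 ⊓ q.X ij.2 ≤ q.X ij.2))
      (q.generators ij.2)).π := restrGen_isIso _ _
    have h3 := @tensGen_isIso _ _ _ (O.over (p.X ij.1 ⊓ q.X ij.2)) _ _ _ _ h1 h2
    exact @IsIso.comp_isIso _ _ _ _ _ _ _ h3 (Iso.isIso_inv _)

/-- quasi-coherent data of a tensor product. -/
def qcd (p : QuasicoherentData.{u} (R := ModSite.ringSh O) F)
    (q : QuasicoherentData.{u} (R := ModSite.ringSh O) G) :
    QuasicoherentData.{u} (R := ModSite.ringSh O) (((ModSite.tensorBi O).obj F).obj G) where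
  I := p.I × q.I
  X := fun ij => p.X ij.1 ⊓ q.X ij.2
  coversTop := coversTop_inf _ _ p.coversTop q.coversTop
  presentation := fun ij => presAt O F G _
    (restrPres (homOfLE inf_le_left) (p.presentation ij.1))
    (restrPres (homOfLE inf_le_right) (q.presentation ij.2))

instance qcd_finite (p : QuasicoherentData.{u} (R := ModSite.ringSh O) F)
    (q : QuasicoherentData.{u} (R := ModSite.ringSh O) G) [p.IsFinitePresentation]
    [q.IsFinitePresentation] : (qcd p q).IsFinitePresentation where
  isFinite_presentation ij := by
    haveI : (p.presentation ij.1).IsFinite :=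
      QuasicoherentData.IsFinitePresentation.isFinite_presentation _
    haveI : (q.presentation ij.2).IsFinite :=
      QuasicoherentData.IsFinitePresentation.isFinite_presentation _
    exact ⟨⟨inferInstanceAs (Finite ((p.presentation ij.1).generators.I ×
        (q.presentation ij.2).generators.I))⟩,
      ⟨inferInstanceAs (Finite (((p.presentation ij.1).relations.I ×
        (q.presentation ij.2).generators.I) ⊕ ((p.presentation ij.1).generators.I ×
        (q.presentation ij.2).relations.I)))⟩⟩

end Groth.Agent.Lib.Helper29.TensPermC
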