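import Mathlib
import Groth.Prelude.Def_ModSite
import Groth.Agent.Lib.Helper29.TensPermC

/-!
# Permanence of local properties under tensor products on a ringed space: main statement
-/

set_option autoImplicit false
set_option maxHeartbeats 1600000
universe u

open CategoryTheory CategoryTheory.Limits SheafOfModules TopologicalSpace
open Groth.Agent.Lib.Helper29.TensPermC

namespace Groth.Agent.Lib.Helper29.TensPermD

variable {X : TopCat.{u}} (O : TopCat.Sheaf CommRingCat.{u} X) (F G : ModSite.Mod O)

theorem main6850 :
    (Nonempty (SheafOfModules.LocalGeneratorsData.{u} (R := ModSite.ringSh O) F) →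
        Nonempty (SheafOfModules.LocalGeneratorsData.{u} (R := ModSite.ringSh O) G) →
          Nonempty (SheafOfModules.LocalGeneratorsData.{u} (R := ModSite.ringSh O) (((ModSite.tensorBi O).obj F).obj G))) ∧
      (SheafOfModules.IsFiniteType (R := ModSite.ringSh O) F → SheafOfModules.IsFiniteType (R := ModSite.ringSh O) G →
        SheafOfModules.IsFiniteType (R := ModSite.ringSh O) (((ModSite.tensorBi O).obj F).obj G)) ∧
      (SheafOfModules.IsQuasicoherent (R := ModSite.ringSh O) F →
        SheafOfModules.IsQuasicoherent (R := ModSite.ringSh O) G →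
          SheafOfModules.IsQuasicoherent (R := ModSite.ringSh O) (((ModSite.tensorBi O).obj F).obj G)) ∧
      (SheafOfModules.IsFinitePresentation (R := ModSite.ringSh O) F →
        SheafOfModules.IsFinitePresentation (R := ModSite.ringSh O) G →
          SheafOfModules.IsFinitePresentation (R := ModSite.ringSh O) (((ModSite.tensorBi O).obj F).obj G)) ∧
      (SheafOfModules.IsLocallyFree (R := ModSite.ringSh O) F → SheafOfModules.IsLocallyFree (R := ModSite.ringSh O) G →
        SheafOfModules.IsLocallyFree (R := ModSite.ringSh O) (((ModSite.tensorBi O).obj F).obj G)) := by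
  refine ⟨?_, ?_, ?_, ?_, ?_⟩
  · rintro ⟨p⟩ ⟨q⟩
    exact ⟨lgd p q⟩
  · rintro ⟨p, hp⟩ ⟨q, hq⟩
    have := lgd_finite p q
    constructor
    exact Exists.intro (lgd p q) this
  · rintro ⟨⟨p⟩⟩ ⟨⟨q⟩⟩
    exact (qcd p q).isQuasicoherent
  · rintro ⟨p, hp⟩ ⟨q, hq⟩
    have := qcd_finite p q
    constructor
    exact Exists.intro (qcd p q) this
  · rintro ⟨p, hp⟩ ⟨q, hq⟩
    have := lgd_free p q
    constructor
    exact Exists.intro (lgd p q) this

end Groth.Agent.Lib.Helper29.TensPermD
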