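import Mathlib

set_option autoImplicit false
universe u

namespace Groth.Agent.Lib.Helper29.TernForm

open MvPolynomial

section
variable {R : Type u} [CommRing R]

theorem eq_single (j : Fin 3) (a : Fin 3 →₀ ℕ) (hdeg : a.degree = 2) (haj : a j = 2) :
    a = Finsupp.single j 2 := by
  ext i
  by_cases hij : i = j
  · rw [hij, Finsupp.single_eq_same, haj]
  · have hdeg' : a.degree = ∑ i, a i := Finsupp.degree_eq_sum a
    have h1 : a j + ∑ i ∈ Finset.univ.erase j, a i = ∑ i, a i :=
      Finset.add_sum_erase _ _ (Finset.mem_univ j)
    have h2 : ∑ i ∈ Finset.univ.erase j, a i = 0 := by omega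
    have h3 := (Finset.sum_eq_zero_iff.mp h2) i (Finset.mem_erase.mpr ⟨hij, Finset.mem_univ i⟩)
    rw [Finsupp.single_apply, if_neg (Ne.symm hij)]
    exact h3

/-- Core lemma: if all monomials of `q * P` have `j`-exponent `< 2` then `P = 0`. -/
theorem core (j : Fin 3) (q : MvPolynomial (Fin 3) R) (hq : q.IsHomogeneous 2)
    (hqj : IsUnit (q.coeff (Finsupp.single j 2))) (P : MvPolynomial (Fin 3) R)
    (h : ∀ m : Fin 3 →₀ ℕ, 2 ≤ m j → coeff m (q * P) = 0) : P = 0 := by
  classical
  by_contra hP
  have hne : P.support.Nonempty :=
    Finset.nonempty_iff_ne_empty.mpr (fun h0 => hP (support_eq_empty.mp h0))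
  obtain ⟨m', hm', hmax⟩ := Finset.exists_max_image P.support (fun m => m j) hne
  have hcoef : coeff (Finsupp.single j 2 + m') (q * P) =
      coeff (Finsupp.single j 2) q * coeff m' P := by
    rw [coeff_mul]
    refine Finset.sum_eq_single_of_mem (Finsupp.single j 2, m') (by simp) ?_
    rintro ⟨a, b⟩ hab hne'
    replace hab : a + b = Finsupp.single j 2 + m' := by simpa using hab
    change coeff a q * coeff b P = 0
    by_contra hprod
    have hqa : coeff a q ≠ 0 := fun h0 => hprod (by rw [h0, zero_mul])
    have hPb : coeff b P ≠ 0 := fun h0 => hprod (by rw [h0, mul_zero])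
    have hb : b ∈ P.support := mem_support_iff.mpr hPb
    have hbj : b j ≤ m' j := hmax b hb
    have hdeg : a.degree = 2 := by
      by_contra hd
      exact hqa (hq.coeff_eq_zero hd)
    have haj : a j ≤ 2 := by
      have := Finsupp.le_degree j a
      omega
    have hsum : a j + b j = 2 + m' j := by
      have := DFunLike.congr_fun hab j
      simpa [Finsupp.add_apply] using this
    have haj2 : a j = 2 := by omega
    have ha : a = Finsupp.single j 2 := eq_single j a hdeg haj2
    have hb' : b = m' := by
      rw [ha] at hab
      exact add_left_cancel hab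
    exact hne' (by rw [ha, hb'])
  have hzero := h (Finsupp.single j 2 + m')
    (by rw [Finsupp.add_apply, Finsupp.single_eq_same]; omega)
  rw [hcoef] at hzero
  exact (mem_support_iff.mp hm') ((hqj.mul_right_eq_zero).mp hzero)

/-- The family of the statement. -/
noncomputable abbrev fam (j : Fin 3) (q : MvPolynomial (Fin 3) R) (n : ℕ) :
    ({m : Fin 3 →₀ ℕ // m.degree = n ∧ m j < 2} ⊕ {m : Fin 3 →₀ ℕ // m.degree + 2 = n}) →
      MvPolynomial (Fin 3) R :=
  Sum.elim (fun m => MvPolynomial.monomial m.1 (1 : R))
    (fun m => q * MvPolynomial.monomial m.1 (1 : R))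

theorem mono_mem (j : Fin 3) (q : MvPolynomial (Fin 3) R) (hq : q.IsHomogeneous 2)
    (hqj : IsUnit (q.coeff (Finsupp.single j 2))) (n : ℕ) :
    ∀ k : ℕ, ∀ m : Fin 3 →₀ ℕ, m.degree = n → m j = k →
      monomial m (1 : R) ∈ Submodule.span R (Set.range (fam j q n)) := by
  classical
  intro k
  induction k using Nat.strong_induction_on with
  | _ k ih =>
    intro m hdeg hk
    rcases subsingleton_or_nontrivial R with hR | hR
    · have : monomial m (1 : R) = 0 := by
        rw [Subsingleton.elim (1 : R) 0, map_zero]
      rw [this]; exact Submodule.zero_mem _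
    by_cases hlt : m j < 2
    · exact Submodule.subset_span ⟨Sum.inl ⟨m, hdeg, hlt⟩, rfl⟩
    · have h2 : 2 ≤ m j := not_lt.mp hlt
      have hle : Finsupp.single j 2 ≤ m := Finsupp.single_le_iff.mpr h2
      obtain ⟨m'', hm''⟩ : ∃ m'' : Fin 3 →₀ ℕ, Finsupp.single j 2 + m'' = m :=
        ⟨m - Finsupp.single j 2, add_tsub_cancel_of_le hle⟩
      have hdeg'' : m''.degree + 2 = n := by
        rw [← hdeg, ← hm'', map_add, Finsupp.degree_single, add_comm]
      have hmj : m j = 2 + m'' j := by
        rw [← hm'', Finsupp.add_apply, Finsupp.single_eq_same]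
      have hmem : q * monomial m'' (1 : R) ∈ Submodule.span R (Set.range (fam j q n)) :=
        Submodule.subset_span ⟨Sum.inr ⟨m'', hdeg''⟩, rfl⟩
      have key : q * monomial m'' (1 : R) =
          ∑ a ∈ q.support, monomial (a + m'') (coeff a q) := by
        conv_lhs => rw [q.as_sum]
        rw [Finset.sum_mul]
        exact Finset.sum_congr rfl fun a _ => by rw [monomial_mul, mul_one]
      have hmemsupp : Finsupp.single j 2 ∈ q.support := mem_support_iff.mpr hqj.ne_zero
      rw [← Finset.add_sum_erase _ _ hmemsupp] at key
      have hrest : ∑ a ∈ q.support.erase (Finsupp.single j 2), monomial (a + m'') (coeff a q) ∈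
          Submodule.span R (Set.range (fam j q n)) := by
        refine Submodule.sum_mem _ fun a ha => ?_
        obtain ⟨hane, hasupp⟩ := Finset.mem_erase.mp ha
        have hadeg : a.degree = 2 := by
          by_contra hd
          exact (mem_support_iff.mp hasupp) (hq.coeff_eq_zero hd)
        have haj : a j ≤ 1 := by
          have h1 := Finsupp.le_degree j a
          have h2 : a j ≠ 2 := fun h => hane (eq_single j a hadeg h)
          omega
        have hterm : monomial (a + m'') (coeff a q) =
            coeff a q • monomial (a + m'') (1 : R) := by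
          rw [smul_monomial, smul_eq_mul, mul_one]
        rw [hterm]
        refine Submodule.smul_mem _ _ (ih ((a + m'') j) ?_ (a + m'') ?_ rfl)
        · rw [Finsupp.add_apply]; omega
        · rw [map_add, hadeg]; omega
      have hu : coeff (Finsupp.single j 2) q • monomial m (1 : R) ∈
          Submodule.span R (Set.range (fam j q n)) := by
        have : coeff (Finsupp.single j 2) q • monomial m (1 : R) =
            q * monomial m'' (1 : R) -
              ∑ a ∈ q.support.erase (Finsupp.single j 2), monomial (a + m'') (coeff a q) := by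
          rw [key, hm'', smul_monomial, smul_eq_mul, mul_one, add_sub_cancel_right]
        rw [this]
        exact Submodule.sub_mem _ hmem hrest
      obtain ⟨u, hu'⟩ := hqj
      have : monomial m (1 : R) =
          (↑u⁻¹ : R) • (coeff (Finsupp.single j 2) q • monomial m (1 : R)) := by
        rw [smul_smul, ← hu', Units.inv_mul, one_smul]
      rw [this]
      exact Submodule.smul_mem _ _ hu

end

theorem main18994
    (R : Type u) [CommRing R] (j : Fin 3) (q : MvPolynomial (Fin 3) R)
    (hq : q.IsHomogeneous 2) (hqj : IsUnit (q.coeff (Finsupp.single j 2))) (n : ℕ) :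
    LinearIndependent R (Sum.elim (fun m : {m : Fin 3 →₀ ℕ // m.degree = n ∧ m j < 2} => MvPolynomial.monomial m.1 (1 : R)) (fun m : {m : Fin 3 →₀ ℕ // m.degree + 2 = n} => q * MvPolynomial.monomial m.1 (1 : R))) ∧
      Submodule.span R (Set.range (Sum.elim (fun m : {m : Fin 3 →₀ ℕ // m.degree = n ∧ m j < 2} => MvPolynomial.monomial m.1 (1 : R)) (fun m : {m : Fin 3 →₀ ℕ // m.degree + 2 = n} => q * MvPolynomial.monomial m.1 (1 : R)))) = MvPolynomial.homogeneousSubmodule (Fin 3) R n := by
  classical
  constructor
  · -- linear independence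
    have hA : LinearIndependent R
        (fun m : {m : Fin 3 →₀ ℕ // m.degree = n ∧ m j < 2} => monomial m.1 (1 : R)) := by
      have := (basisMonomials (Fin 3) R).linearIndependent.comp
        (fun m : {m : Fin 3 →₀ ℕ // m.degree = n ∧ m j < 2} => m.1) Subtype.val_injective
      rw [coe_basisMonomials] at this
      exact this
    have hB0 : LinearIndependent R
        (fun m : {m : Fin 3 →₀ ℕ // m.degree + 2 = n} => monomial m.1 (1 : R)) := by
      have := (basisMonomials (Fin 3) R).linearIndependent.comp
        (fun m : {m : Fin 3 →₀ ℕ // m.degree + 2 = n} => m.1) Subtype.val_injective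
      rw [coe_basisMonomials] at this
      exact this
    have hker : LinearMap.ker (LinearMap.mulLeft R q) = ⊥ := by
      rw [LinearMap.ker_eq_bot']
      intro P hP
      have hP' : q * P = 0 := by simpa using hP
      exact core j q hq hqj P (fun m _ => by rw [hP', coeff_zero])
    have hB : LinearIndependent R
        (fun m : {m : Fin 3 →₀ ℕ // m.degree + 2 = n} => q * monomial m.1 (1 : R)) := by
      have h1 := hB0.map' (LinearMap.mulLeft R q) hker
      have h2 : (⇑(LinearMap.mulLeft R q) ∘
          fun m : {m : Fin 3 →₀ ℕ // m.degree + 2 = n} => monomial m.1 (1 : R)) =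
          fun m => q * monomial m.1 (1 : R) := by
        funext m
        simp only [Function.comp_apply, LinearMap.mulLeft_apply]
      rwa [h2] at h1
    refine LinearIndependent.sum_type hA hB ?_
    rw [Submodule.disjoint_def]
    have h1 : ∀ x ∈ Submodule.span R (Set.range
        fun m : {m : Fin 3 →₀ ℕ // m.degree = n ∧ m j < 2} => monomial m.1 (1 : R)),
        ∀ m : Fin 3 →₀ ℕ, 2 ≤ m j → coeff m x = 0 := by
      intro x hx m hm
      induction hx using Submodule.span_induction with
      | mem y hy =>
        obtain ⟨m0, rfl⟩ := hy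
        change coeff m (monomial m0.1 (1 : R)) = 0
        rw [coeff_monomial, if_neg]
        rintro rfl
        have := m0.2.2
        omega
      | zero => exact coeff_zero m
      | add y z _ _ ihy ihz => rw [coeff_add, ihy, ihz, add_zero]
      | smul a y _ ih => rw [coeff_smul, ih, smul_zero]
    have h2 : ∀ x ∈ Submodule.span R (Set.range
        fun m : {m : Fin 3 →₀ ℕ // m.degree + 2 = n} => q * monomial m.1 (1 : R)),
        ∃ P, x = q * P := by
      intro x hx
      induction hx using Submodule.span_induction with
      | mem y hy =>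
        obtain ⟨m0, rfl⟩ := hy
        exact ⟨monomial m0.1 1, rfl⟩
      | zero => exact ⟨0, (mul_zero q).symm⟩
      | add y z _ _ ihy ihz =>
        obtain ⟨P1, rfl⟩ := ihy
        obtain ⟨P2, rfl⟩ := ihz
        exact ⟨P1 + P2, (mul_add q P1 P2).symm⟩
      | smul a y _ ih =>
        obtain ⟨P1, rfl⟩ := ih
        exact ⟨a • P1, (mul_smul_comm a q P1).symm⟩
    intro x hx1 hx2
    obtain ⟨P, rfl⟩ := h2 x hx2
    have := core j q hq hqj P (h1 _ hx1)
    rw [this, mul_zero]
  · -- span
    apply le_antisymm
    · rw [Submodule.span_le]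
      rintro _ ⟨i, rfl⟩
      rcases i with m | m
      · exact isHomogeneous_monomial (1 : R) m.2.1
      · have := hq.mul (isHomogeneous_monomial (1 : R) (rfl : m.1.degree = m.1.degree))
        rw [add_comm, m.2] at this
        exact this
    · intro f hf
      have hf' : f.IsHomogeneous n := (mem_homogeneousSubmodule n f).mp hf
      rw [f.as_sum]
      refine Submodule.sum_mem _ fun m hm => ?_
      have hd : m.degree = n := by
        by_contra hd
        exact (mem_support_iff.mp hm) (hf'.coeff_eq_zero hd)
      have : monomial m (coeff m f) = coeff m f • monomial m (1 : R) := by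
        rw [smul_monomial, smul_eq_mul, mul_one]
      rw [this]
      exact Submodule.smul_mem _ _ (mono_mem j q hq hqj n (m j) m hd rfl)

end Groth.Agent.Lib.Helper29.TernForm
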