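import Mathlib
import Groth.Prelude.Def_W4c1hilbpnTgt
import Groth.Agent.Lib.Helper29.BddComp

set_option autoImplicit false
universe u
open MvPolynomial W4c1hilbpn
open Groth.Agent.Lib.Helper29.BddComp

namespace Groth.Agent.Lib.Helper29.TgtGraded

variable {k : Type u} [Field k] {n : ℕ} (I : Ideal (MvPolynomial (Fin n) k))

/-! ### S-linearity on monomials -/

theorem phi_X (φ : Tgt I) (i : Fin n) (β : Fin n →₀ ℕ) (hβ : β ∈ exps I)
    (hβ' : Finsupp.single i 1 + β ∈ exps I) :
    φ ⟨monomial (Finsupp.single i 1 + β) 1, hβ'⟩ =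
      (X i : MvPolynomial (Fin n) k) • φ ⟨monomial β 1, hβ⟩ := by
  have e : (⟨monomial (Finsupp.single i 1 + β) 1, hβ'⟩ : ↥I) =
      (X i : MvPolynomial (Fin n) k) • (⟨monomial β 1, hβ⟩ : ↥I) :=
    Subtype.ext (X_mul_mono i β).symm
  rw [e, map_smul]

theorem phi_mono (φ : Tgt I) (δ β : Fin n →₀ ℕ) (hβ : β ∈ exps I)
    (hβ' : δ + β ∈ exps I) :
    φ ⟨monomial (δ + β) 1, hβ'⟩ =
      (monomial δ (1 : k) : MvPolynomial (Fin n) k) • φ ⟨monomial β 1, hβ⟩ := by
  have e : (⟨monomial (δ + β) 1, hβ'⟩ : ↥I) =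
      (monomial δ (1 : k) : MvPolynomial (Fin n) k) • (⟨monomial β 1, hβ⟩ : ↥I) :=
    Subtype.ext (by
      show monomial (δ + β) (1 : k) = monomial δ 1 * monomial β 1
      rw [MvPolynomial.monomial_mul, one_mul])
  rw [e, map_smul]

/-! ### Part 1 -/

theorem tPiece_nonneg (hI : IsMonomial I) (α : Fin n → ℤ) (hα : ∀ i, 0 ≤ α i) :
    tPiece I α = ⊥ := by
  rw [eq_bot_iff]
  intro φ hφ
  rw [Submodule.mem_bot]
  apply hom_ext_mono I hI
  intro β hβ
  rw [LinearMap.zero_apply]
  have hnn : ∀ l, 0 ≤ toZ β α l := fun l => by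
    show (0 : ℤ) ≤ (β l : ℤ) + α l
    have := hα l
    omega
  rw [phi_eq_co I α hφ β hβ hnn]
  have hs : shift β α = toN α + β := by
    apply Finsupp.ext
    intro l
    show ((β l : ℤ) + α l).toNat = (toN α + β) l
    rw [Finsupp.add_apply, toN_apply]
    have := hα l
    omega
  rw [hs, cls_eq_zero I (exps_add I hβ _), smul_zero]

theorem exists_add_mem (hI : IsMonomial I) [Module.Finite k (MvPolynomial (Fin n) k ⧸ I)]
    (γ : Fin n →₀ ℕ) (i : Fin n) : ∃ N : ℕ, Finsupp.single i N + γ ∈ exps I := by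
  by_contra hcon
  push Not at hcon
  have hinf : ((exps I)ᶜ : Set (Fin n →₀ ℕ)).Infinite := by
    refine Set.infinite_of_injective_forall_mem
      (f := fun N : ℕ => Finsupp.single i N + γ) ?_ (fun N => hcon N)
    intro N N' hNN
    have h := DFunLike.congr_fun hNN i
    simp only [Finsupp.add_apply, Finsupp.single_eq_same] at h
    omega
  exact hinf (compl_exps_finite I hI)

theorem phi_zero_neg (hn : 2 ≤ n) (hI : IsMonomial I)
    [Module.Finite k (MvPolynomial (Fin n) k ⧸ I)]
    (α : Fin n → ℤ) (hα : ∀ i, α i < 0) {φ : Tgt I} (hφ : φ ∈ tPiece I α) :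
    ∀ (β : Fin n →₀ ℕ) (hβ : β ∈ exps I), φ ⟨monomial β 1, hβ⟩ = 0 := by
  obtain ⟨i0, i1, h01⟩ : ∃ i0 i1 : Fin n, i0 ≠ i1 :=
    ⟨⟨0, by omega⟩, ⟨1, by omega⟩, fun e => by
      have := congrArg Fin.val e
      simp at this⟩
  have P : ∀ p : ℕ, ∀ (β : Fin n →₀ ℕ) (hβ : β ∈ exps I), (∀ l, 0 ≤ toZ β α l) →
      toZ β α i0 = (p : ℤ) → φ ⟨monomial β 1, hβ⟩ = 0 := by
    intro p
    induction p using Nat.strong_induction_on with
    | _ p IH =>
      have Q : ∀ m : ℕ, ∀ (β : Fin n →₀ ℕ) (hβ : β ∈ exps I), (∀ l, 0 ≤ toZ β α l) →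
          toZ β α i0 = (p : ℤ) → Finsupp.single i1 m + shift β α ∈ exps I →
          φ ⟨monomial β 1, hβ⟩ = 0 := by
        intro m
        induction m with
        | zero =>
          intro β hβ hnn hp hmem
          rw [Finsupp.single_zero, zero_add] at hmem
          rw [phi_eq_co I α hφ β hβ hnn, cls_eq_zero I hmem, smul_zero]
        | succ m ihm =>
          intro β hβ hnn hp hmem
          by_cases h0 : shift β α ∈ exps I
          · rw [phi_eq_co I α hφ β hβ hnn, cls_eq_zero I h0, smul_zero]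
          · have hβ1 : Finsupp.single i1 1 + β ∈ exps I := exps_add I hβ _
            have hnn1 : ∀ l, 0 ≤ toZ (Finsupp.single i1 1 + β) α l := by
              rw [toZ_single_add]
              exact bump_nonneg _ _ hnn
            have hp1 : toZ (Finsupp.single i1 1 + β) α i0 = (p : ℤ) := by
              rw [toZ_single_add]
              show toZ β α i0 + (if i1 = i0 then (1 : ℤ) else 0) = p
              rw [if_neg (Ne.symm h01), add_zero, hp]
            have hs1 : shift (Finsupp.single i1 1 + β) α = Finsupp.single i1 1 + shift β α := by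
              rw [shift_eq, shift_eq, toZ_single_add, toN_bump _ _ hnn]
            have hmem1 : Finsupp.single i1 m + shift (Finsupp.single i1 1 + β) α ∈ exps I := by
              rw [hs1, ← add_assoc, ← Finsupp.single_add]
              exact hmem
            have hz := ihm _ hβ1 hnn1 hp1 hmem1
            rw [phi_X I φ i1 β hβ hβ1, phi_eq_co I α hφ β hβ hnn, smul_comm, X_smul_cls] at hz
            by_cases h1 : Finsupp.single i1 1 + shift β α ∈ exps I
            · -- move left
              have hαi0 := hα i0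
              have hβi0 : 1 ≤ β i0 := by
                have h := hnn i0
                have h' : toZ β α i0 = (β i0 : ℤ) + α i0 := rfl
                omega
              obtain ⟨β', hβ'def⟩ : ∃ β' : Fin n →₀ ℕ, β' = β - Finsupp.single i0 1 := ⟨_, rfl⟩
              have hββ' : Finsupp.single i0 1 + β' = β := by
                rw [hβ'def, add_comm]
                apply tsub_add_cancel_of_le
                rw [Finsupp.single_le_iff]
                exact hβi0
              have hle : Finsupp.single i1 1 + shift β α ≤ β' := by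
                rw [Finsupp.le_def]
                intro l
                rw [Finsupp.add_apply, Finsupp.single_apply, hβ'def, Finsupp.tsub_apply,
                  Finsupp.single_apply]
                have hs : (shift β α) l = ((β l : ℤ) + α l).toNat := rfl
                have hnl : 0 ≤ (β l : ℤ) + α l := hnn l
                have hαl := hα l
                rw [hs]
                by_cases e1 : i1 = l
                · have e0 : ¬ i0 = l := fun e0 => h01 (e0.trans e1.symm)
                  rw [if_pos e1, if_neg e0]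
                  omega
                · by_cases e0 : i0 = l
                  · rw [if_neg e1, if_pos e0]
                    omega
                  · rw [if_neg e1, if_neg e0]
                    omega
              have hβ'mem : β' ∈ exps I := by
                have h := exps_add I h1 (β' - (Finsupp.single i1 1 + shift β α))
                rwa [tsub_add_cancel_of_le hle] at h
              have hZ0 : toZ β' α i0 = toZ β α i0 - 1 := by
                show ((β' i0 : ℕ) : ℤ) + α i0 = ((β i0 : ℤ) + α i0) - 1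
                rw [hβ'def, Finsupp.tsub_apply, Finsupp.single_eq_same]
                omega
              have hZl : ∀ l, l ≠ i0 → toZ β' α l = toZ β α l := by
                intro l hl
                show ((β' l : ℕ) : ℤ) + α l = (β l : ℤ) + α l
                rw [hβ'def, Finsupp.tsub_apply, Finsupp.single_apply, if_neg (Ne.symm hl),
                  Nat.sub_zero]
              have hzero' : φ ⟨monomial β' 1, hβ'mem⟩ = 0 := by
                by_cases hp0 : p = 0
                · apply phi_eq_zero I α hφ β' hβ'mem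
                  refine ⟨i0, ?_⟩
                  rw [hZ0, hp]
                  omega
                · have hnn' : ∀ l, 0 ≤ toZ β' α l := by
                    intro l
                    by_cases hl : l = i0
                    · rw [hl, hZ0, hp]
                      omega
                    · rw [hZl l hl]
                      exact hnn l
                  exact IH (p - 1) (by omega) β' hβ'mem hnn' (by rw [hZ0, hp]; omega)
              have hmem'' : Finsupp.single i0 1 + β' ∈ exps I := by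
                rw [hββ']
                exact hβ
              have e : (⟨monomial β 1, hβ⟩ : ↥I) =
                  ⟨monomial (Finsupp.single i0 1 + β') 1, hmem''⟩ :=
                Subtype.ext (congrArg (fun b : Fin n →₀ ℕ =>
                  (monomial b (1 : k) : MvPolynomial (Fin n) k)) hββ'.symm)
              rw [e, phi_X I φ i0 β' hβ'mem hmem'', hzero', smul_zero]
            · rcases smul_eq_zero.mp hz with hc | hc
              · rw [phi_eq_co I α hφ β hβ hnn, hc, zero_smul]
              · exact absurd hc (cls_ne_zero I h1)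
      intro β hβ hnn hp
      obtain ⟨N, hN⟩ := exists_add_mem I hI (shift β α) i1
      exact Q N β hβ hnn hp hN
  intro β hβ
  by_cases hnn : ∀ l, 0 ≤ toZ β α l
  · exact P (toZ β α i0).toNat β hβ hnn (by have := hnn i0; omega)
  · obtain ⟨l, hl⟩ := not_forall.mp hnn
    exact phi_eq_zero I α hφ β hβ ⟨l, not_le.mp hl⟩

theorem tPiece_neg (hn : 2 ≤ n) (hI : IsMonomial I)
    [Module.Finite k (MvPolynomial (Fin n) k ⧸ I)]
    (α : Fin n → ℤ) (hα : ∀ i, α i < 0) : tPiece I α = ⊥ := by
  rw [eq_bot_iff]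
  intro φ hφ
  rw [Submodule.mem_bot]
  apply hom_ext_mono I hI
  intro β hβ
  rw [LinearMap.zero_apply]
  exact phi_zero_neg I hn hI α hα hφ β hβ

/-! ### Part 2: graded decomposition -/

/-- coefficient of a class at a standard monomial -/
noncomputable def cq (γ : Fin n →₀ ℕ) (q : MvPolynomial (Fin n) k ⧸ I) : k :=
  coeff γ (Quotient.out q)

theorem cq_mk (hI : IsMonomial I) {γ : Fin n →₀ ℕ} (hγ : γ ∉ exps I)
    (p : MvPolynomial (Fin n) k) : cq I γ (Ideal.Quotient.mk I p) = coeff γ p := by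
  unfold cq
  have hmem : Quotient.out (Ideal.Quotient.mk I p) - p ∈ I := by
    rw [← Ideal.Quotient.eq]
    exact Ideal.Quotient.mk_out _
  by_contra hne
  apply hγ
  apply hI _ hmem γ
  rw [MvPolynomial.mem_support_iff, coeff_sub]
  exact sub_ne_zero.mpr hne

theorem quot_decomp (hI : IsMonomial I) [Module.Finite k (MvPolynomial (Fin n) k ⧸ I)]
    (q : MvPolynomial (Fin n) k ⧸ I) :
    q = ∑ γ ∈ (compl_exps_finite I hI).toFinset, cq I γ q • cls I γ := by
  classical
  obtain ⟨p, rfl⟩ := Ideal.Quotient.mk_surjective q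
  have h1 : Ideal.Quotient.mk I p = ∑ γ ∈ p.support, coeff γ p • cls I γ := by
    conv_lhs => rw [p.as_sum]
    rw [map_sum]
    refine Finset.sum_congr rfl (fun γ _ => ?_)
    have h : monomial γ (coeff γ p) = coeff γ p • monomial γ (1 : k) := by
      rw [MvPolynomial.smul_monomial, smul_eq_mul, mul_one]
    rw [h]
    exact mk_smul I _ _
  have hA : ∑ γ ∈ p.support, coeff γ p • cls I γ =
      ∑ γ ∈ p.support ∪ (compl_exps_finite I hI).toFinset, coeff γ p • cls I γ :=
    Finset.sum_subset Finset.subset_union_left (fun γ _ hγ => by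
      have h0 : coeff γ p = 0 := by
        by_contra hne
        exact hγ (MvPolynomial.mem_support_iff.mpr hne)
      rw [h0, zero_smul])
  have hB : ∑ γ ∈ (compl_exps_finite I hI).toFinset,
        cq I γ (Ideal.Quotient.mk I p) • cls I γ =
      ∑ γ ∈ p.support ∪ (compl_exps_finite I hI).toFinset,
        cq I γ (Ideal.Quotient.mk I p) • cls I γ :=
    Finset.sum_subset Finset.subset_union_right (fun γ _ hγ => by
      have hin : γ ∈ exps I := by
        by_contra hc
        exact hγ ((compl_exps_finite I hI).mem_toFinset.mpr hc)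
      rw [cls_eq_zero I hin, smul_zero])
  refine h1.trans (hA.trans (Eq.trans ?_ hB.symm))
  refine Finset.sum_congr rfl (fun γ _ => ?_)
  by_cases hγ : γ ∈ exps I
  · rw [cls_eq_zero I hγ, smul_zero, smul_zero]
  · rw [cq_mk I hI hγ]

theorem cq_X_smul (hI : IsMonomial I) (i : Fin n) (γ : Fin n →₀ ℕ)
    (hγ : Finsupp.single i 1 + γ ∉ exps I) (q : MvPolynomial (Fin n) k ⧸ I) :
    cq I (Finsupp.single i 1 + γ) ((X i : MvPolynomial (Fin n) k) • q) = cq I γ q := by
  obtain ⟨p, rfl⟩ := Ideal.Quotient.mk_surjective q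
  have hγ' : γ ∉ exps I := fun h => hγ (exps_add I h _)
  rw [smul_mk, cq_mk I hI hγ, cq_mk I hI hγ', coeff_X_mul]

theorem cq_X_smul_zero (hI : IsMonomial I) (i : Fin n) (γ : Fin n →₀ ℕ)
    (hγ : γ ∉ exps I) (h0 : γ i = 0) (q : MvPolynomial (Fin n) k ⧸ I) :
    cq I γ ((X i : MvPolynomial (Fin n) k) • q) = 0 := by
  obtain ⟨p, rfl⟩ := Ideal.Quotient.mk_surjective q
  rw [smul_mk, cq_mk I hI hγ, coeff_X_mul', if_neg]
  rw [Finsupp.mem_support_iff, h0]
  exact fun h => h rfl

open Classical in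
/-- value of the degree-`α` component on the monomial `x^β` -/
noncomputable def Dval (φ : Tgt I) (α : Fin n → ℤ) (β : Fin n →₀ ℕ) :
    MvPolynomial (Fin n) k ⧸ I :=
  if (∀ l, 0 ≤ toZ β α l) then
    cq I (shift β α) (phiT I φ (monomial β 1)) • cls I (shift β α) else 0

theorem Dval_pos (φ : Tgt I) (α : Fin n → ℤ) (β : Fin n →₀ ℕ) (h : ∀ l, 0 ≤ toZ β α l) :
    Dval I φ α β = cq I (shift β α) (phiT I φ (monomial β 1)) • cls I (shift β α) :=
  if_pos h

theorem Dval_neg (φ : Tgt I) (α : Fin n → ℤ) (β : Fin n →₀ ℕ) (h : ¬ ∀ l, 0 ≤ toZ β α l) :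
    Dval I φ α β = 0 :=
  if_neg h

noncomputable def Dmap (φ : Tgt I) (α : Fin n → ℤ) :
    MvPolynomial (Fin n) k →ₗ[k] (MvPolynomial (Fin n) k ⧸ I) :=
  (MvPolynomial.basisMonomials (Fin n) k).constr k (Dval I φ α)

theorem Dmap_monomial (φ : Tgt I) (α : Fin n → ℤ) (β : Fin n →₀ ℕ) :
    Dmap I φ α (monomial β 1) = Dval I φ α β := by
  have h := (MvPolynomial.basisMonomials (Fin n) k).constr_basis k (Dval I φ α) β
  rw [MvPolynomial.coe_basisMonomials] at h
  exact h

theorem Dmap_X_mono (hI : IsMonomial I) (φ : Tgt I) (α : Fin n → ℤ) (i : Fin n)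
    (β : Fin n →₀ ℕ) (hβ : β ∈ exps I) :
    Dmap I φ α (X i * monomial β 1) =
      (X i : MvPolynomial (Fin n) k) • Dmap I φ α (monomial β 1) := by
  rw [X_mul_mono, Dmap_monomial, Dmap_monomial]
  have hβ' : Finsupp.single i 1 + β ∈ exps I := exps_add I hβ _
  have hφ : phiT I φ (monomial (Finsupp.single i 1 + β) 1) =
      (X i : MvPolynomial (Fin n) k) • phiT I φ (monomial β 1) := by
    rw [phiT_of_mem I φ _ hβ', phiT_of_mem I φ _ hβ]
    exact phi_X I φ i β hβ hβ'
  by_cases hnn : ∀ l, 0 ≤ toZ β α l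
  · have hnn' : ∀ l, 0 ≤ toZ (Finsupp.single i 1 + β) α l := by
      rw [toZ_single_add]
      exact bump_nonneg _ _ hnn
    have hs : shift (Finsupp.single i 1 + β) α = Finsupp.single i 1 + shift β α := by
      rw [shift_eq, shift_eq, toZ_single_add, toN_bump _ _ hnn]
    rw [Dval_pos I φ α β hnn, Dval_pos I φ α _ hnn', hs, hφ, smul_comm, X_smul_cls]
    by_cases hin : Finsupp.single i 1 + shift β α ∈ exps I
    · rw [cls_eq_zero I hin, smul_zero, smul_zero]
    · rw [cq_X_smul I hI i _ hin]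
  · rw [Dval_neg I φ α β hnn, smul_zero]
    by_cases hnn' : ∀ l, 0 ≤ toZ (Finsupp.single i 1 + β) α l
    · rw [Dval_pos I φ α _ hnn']
      by_cases hin : shift (Finsupp.single i 1 + β) α ∈ exps I
      · rw [cls_eq_zero I hin, smul_zero]
      · have h0 : shift (Finsupp.single i 1 + β) α i = 0 := by
          obtain ⟨l, hl⟩ := not_forall.mp hnn
          have hl' : toZ β α l < 0 := not_le.mp hl
          have hb := hnn' l
          rw [toZ_single_add] at hb
          have hb' : 0 ≤ toZ β α l + (if i = l then (1 : ℤ) else 0) := hb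
          have hil : i = l := by
            by_contra hne
            rw [if_neg hne] at hb'
            omega
          subst hil
          show (toZ (Finsupp.single i 1 + β) α i).toNat = 0
          rw [toZ_single_add]
          show (toZ β α i + (if i = i then (1 : ℤ) else 0)).toNat = 0
          rw [if_pos rfl]
          rw [if_pos rfl] at hb'
          omega
        rw [hφ, cq_X_smul_zero I hI i _ hin h0, zero_smul]
    · rw [Dval_neg I φ α _ hnn']

theorem lin_X_mul (hI : IsMonomial I)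
    (L : MvPolynomial (Fin n) k →ₗ[k] (MvPolynomial (Fin n) k ⧸ I))
    (hL : ∀ (i : Fin n) (β : Fin n →₀ ℕ), β ∈ exps I →
      L (X i * monomial β 1) = (X i : MvPolynomial (Fin n) k) • L (monomial β 1))
    (i : Fin n) (p : MvPolynomial (Fin n) k) (hp : p ∈ I) :
    L (X i * p) = (X i : MvPolynomial (Fin n) k) • L p := by
  have key : ∀ (s : Finset (Fin n →₀ ℕ)) (c : (Fin n →₀ ℕ) → k), (∀ β ∈ s, β ∈ exps I) →
      L (X i * ∑ β ∈ s, c β • monomial β (1 : k)) =
        (X i : MvPolynomial (Fin n) k) • L (∑ β ∈ s, c β • monomial β (1 : k)) := by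
    intro s c hs
    rw [Finset.mul_sum, map_sum, map_sum, Finset.smul_sum]
    refine Finset.sum_congr rfl (fun β hβ => ?_)
    calc L (X i * (c β • monomial β 1))
        = L (c β • (X i * monomial β 1)) := by rw [mul_smul_comm]
      _ = c β • L (X i * monomial β 1) := by rw [map_smul]
      _ = c β • ((X i : MvPolynomial (Fin n) k) • L (monomial β 1)) := by
          rw [hL i β (hs β hβ)]
      _ = (X i : MvPolynomial (Fin n) k) • (c β • L (monomial β 1)) :=
          smul_comm _ _ _
      _ = (X i : MvPolynomial (Fin n) k) • L (c β • monomial β 1) := by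
          rw [map_smul]
  have hp_eq : p = ∑ β ∈ p.support, coeff β p • monomial β (1 : k) :=
    p.as_sum.trans (Finset.sum_congr rfl (fun β _ => by
      rw [MvPolynomial.smul_monomial, smul_eq_mul, mul_one]))
  have h := key p.support (fun β => coeff β p) (fun β hβ => hI p hp β hβ)
  rw [← hp_eq] at h
  exact h

theorem lin_mul (hI : IsMonomial I)
    (L : MvPolynomial (Fin n) k →ₗ[k] (MvPolynomial (Fin n) k ⧸ I))
    (hL : ∀ (i : Fin n) (β : Fin n →₀ ℕ), β ∈ exps I →
      L (X i * monomial β 1) = (X i : MvPolynomial (Fin n) k) • L (monomial β 1))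
    (q : MvPolynomial (Fin n) k) :
    ∀ p ∈ I, L (q * p) = q • L p := by
  induction q using MvPolynomial.induction_on with
  | C a =>
    intro p hp
    have h : (C a : MvPolynomial (Fin n) k) • L p = a • L p := by
      rw [← MvPolynomial.algebraMap_eq]
      exact algebraMap_smul _ a _
    rw [MvPolynomial.C_mul', map_smul, h]
  | add q1 q2 h1 h2 =>
    intro p hp
    rw [add_mul, map_add, h1 p hp, h2 p hp, add_smul]
  | mul_X q i h =>
    intro p hp
    rw [mul_assoc, h (X i * p) (I.mul_mem_left _ hp), lin_X_mul I hI L hL i p hp, mul_smul]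

/-- an `S`-linear map `I → S/I` from a `k`-linear map compatible with the variables -/
noncomputable def mkHom (hI : IsMonomial I)
    (L : MvPolynomial (Fin n) k →ₗ[k] (MvPolynomial (Fin n) k ⧸ I))
    (hL : ∀ (i : Fin n) (β : Fin n →₀ ℕ), β ∈ exps I →
      L (X i * monomial β 1) = (X i : MvPolynomial (Fin n) k) • L (monomial β 1)) : Tgt I where
  toFun p := L p.1
  map_add' p q := by
    show L (p.1 + q.1) = _
    rw [map_add]
  map_smul' q p := by
    show L (q * p.1) = q • L p.1
    exact lin_mul I hI L hL q p.1 p.2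

/-- the degree-`α` component of `φ` -/
noncomputable def comp (hI : IsMonomial I) (φ : Tgt I) (α : Fin n → ℤ) : Tgt I :=
  mkHom I hI (Dmap I φ α) (fun i β hβ => Dmap_X_mono I hI φ α i β hβ)

theorem comp_monomial (hI : IsMonomial I) (φ : Tgt I) (α : Fin n → ℤ) (β : Fin n →₀ ℕ)
    (hβ : β ∈ exps I) : comp I hI φ α ⟨monomial β 1, hβ⟩ = Dval I φ α β :=
  Dmap_monomial I φ α β

theorem comp_mem (hI : IsMonomial I) (φ : Tgt I) (α : Fin n → ℤ) :
    comp I hI φ α ∈ tPiece I α := by
  rw [mem_tPiece_iff]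
  intro β hβ
  have h : comp I hI φ α ⟨monomial β 1, hβ⟩ = Dval I φ α β := Dmap_monomial I φ α β
  refine ⟨fun hnn => ?_, fun hneg => ?_⟩
  · have hnn' : ∀ l, 0 ≤ toZ β α l := hnn
    rw [h, Dval_pos I φ α β hnn']
    exact Submodule.smul_mem _ _ (Submodule.mem_span_singleton_self _)
  · rw [h, Dval_neg I φ α β]
    intro hnn
    obtain ⟨l, hl⟩ := hneg
    have h1 := hnn l
    have hl' : toZ β α l < 0 := hl
    omega

theorem exists_bound (hI : IsMonomial I) [Module.Finite k (MvPolynomial (Fin n) k ⧸ I)] :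
    ∃ M : ℕ, ∀ γ : Fin n →₀ ℕ, γ ∉ exps I → ∀ l, γ l < M := by
  classical
  have hfin := compl_exps_finite I hI
  refine ⟨(hfin.toFinset.sup fun γ : Fin n →₀ ℕ => Finset.univ.sup fun l => γ l) + 1, ?_⟩
  intro γ hγ l
  have h1 : γ l ≤ Finset.univ.sup fun l => γ l :=
    Finset.le_sup (f := fun l => γ l) (Finset.mem_univ l)
  have h2 : (Finset.univ.sup fun l => γ l) ≤
      hfin.toFinset.sup fun γ : Fin n →₀ ℕ => Finset.univ.sup fun l => γ l :=
    Finset.le_sup (f := fun γ : Fin n →₀ ℕ => Finset.univ.sup fun l => γ l)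
      (hfin.mem_toFinset.mpr hγ)
  exact Nat.lt_succ_of_le (h1.trans h2)

/-- truncation of an exponent vector -/
noncomputable def trunc (M : ℕ) (β : Fin n →₀ ℕ) : Fin n →₀ ℕ :=
  Finsupp.equivFunOnFinite.symm fun l => min (β l) M

theorem trunc_apply (M : ℕ) (β : Fin n →₀ ℕ) (l : Fin n) : trunc M β l = min (β l) M := rfl

theorem trunc_le (M : ℕ) (β : Fin n →₀ ℕ) : trunc M β ≤ β := by
  rw [Finsupp.le_def]
  intro l
  rw [trunc_apply]
  exact min_le_left _ _

theorem trunc_mem {M : ℕ} (hM : ∀ γ : Fin n →₀ ℕ, γ ∉ exps I → ∀ l, γ l < M)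
    (β : Fin n →₀ ℕ) (hβ : β ∈ exps I) : trunc M β ∈ exps I := by
  by_contra hc
  have hlt := hM _ hc
  have h : trunc M β = β := by
    apply Finsupp.ext
    intro l
    have h1 := hlt l
    rw [trunc_apply] at h1 ⊢
    omega
  rw [h] at hc
  exact hc hβ

theorem hom_ext_trunc (hI : IsMonomial I) {M : ℕ}
    (hM : ∀ γ : Fin n →₀ ℕ, γ ∉ exps I → ∀ l, γ l < M) (ψ1 ψ2 : Tgt I)
    (h : ∀ (β : Fin n →₀ ℕ) (hβ : β ∈ exps I), (∀ l, β l ≤ M) →
      ψ1 ⟨monomial β 1, hβ⟩ = ψ2 ⟨monomial β 1, hβ⟩) : ψ1 = ψ2 := by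
  apply hom_ext_mono I hI
  intro β hβ
  have hle := trunc_le M β
  have hmem := trunc_mem I hM β hβ
  have hsum : (β - trunc M β) + trunc M β = β := tsub_add_cancel_of_le hle
  have hmem' : (β - trunc M β) + trunc M β ∈ exps I := by
    rw [hsum]
    exact hβ
  have e : (⟨monomial β 1, hβ⟩ : ↥I) =
      ⟨monomial ((β - trunc M β) + trunc M β) 1, hmem'⟩ :=
    Subtype.ext (congrArg (fun b : Fin n →₀ ℕ =>
      (monomial b (1 : k) : MvPolynomial (Fin n) k)) hsum.symm)
  rw [e, phi_mono I ψ1 _ _ hmem hmem', phi_mono I ψ2 _ _ hmem hmem',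
    h _ hmem (fun l => by rw [trunc_apply]; exact min_le_right _ _)]

/-- the multidegree taking `β` to `γ` -/
def alphaOf (β γ : Fin n →₀ ℕ) : Fin n → ℤ := fun l => (γ l : ℤ) - (β l : ℤ)

theorem shift_alphaOf (β γ : Fin n →₀ ℕ) : shift β (alphaOf β γ) = γ := by
  apply Finsupp.ext
  intro l
  show ((β l : ℤ) + ((γ l : ℤ) - (β l : ℤ))).toNat = γ l
  omega

theorem Dval_alphaOf (φ : Tgt I) (β γ : Fin n →₀ ℕ) :
    Dval I φ (alphaOf β γ) β = cq I γ (phiT I φ (monomial β 1)) • cls I γ := by
  have hnn : ∀ l, 0 ≤ toZ β (alphaOf β γ) l := by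
    intro l
    show (0 : ℤ) ≤ (β l : ℤ) + ((γ l : ℤ) - (β l : ℤ))
    omega
  rw [Dval_pos I φ _ β hnn, shift_alphaOf]

theorem Dval_eq_zero_of (φ : Tgt I) (α : Fin n → ℤ) (β : Fin n →₀ ℕ)
    (h : ∀ γ : Fin n →₀ ℕ, γ ∉ exps I → α ≠ alphaOf β γ) : Dval I φ α β = 0 := by
  by_cases hnn : ∀ l, 0 ≤ toZ β α l
  · rw [Dval_pos I φ α β hnn]
    by_cases hin : shift β α ∈ exps I
    · rw [cls_eq_zero I hin, smul_zero]
    · exfalso
      apply h _ hin
      funext l
      show α l = (((shift β α) l : ℕ) : ℤ) - (β l : ℤ)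
      have h1 : (shift β α) l = ((β l : ℤ) + α l).toNat := rfl
      have h2 : 0 ≤ (β l : ℤ) + α l := hnn l
      rw [h1]
      omega
  · exact Dval_neg I φ α β hnn

/-- the box of multidegrees -/
noncomputable def box (M : ℕ) : Finset (Fin n → ℤ) :=
  Fintype.piFinset fun _ => Finset.Icc (-(M : ℤ)) (M : ℤ)

theorem sum_comp_eq (hI : IsMonomial I) [Module.Finite k (MvPolynomial (Fin n) k ⧸ I)]
    {M : ℕ} (hM : ∀ γ : Fin n →₀ ℕ, γ ∉ exps I → ∀ l, γ l < M) (φ : Tgt I)
    (β : Fin n →₀ ℕ) (hβ : β ∈ exps I) (hβM : ∀ l, β l ≤ M) :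
    ∑ α ∈ box M, Dval I φ α β = φ ⟨monomial β 1, hβ⟩ := by
  classical
  have hinj : Function.Injective (alphaOf β) := by
    intro γ γ' he
    apply Finsupp.ext
    intro l
    have h' : (γ l : ℤ) - (β l : ℤ) = (γ' l : ℤ) - (β l : ℤ) := congrFun he l
    omega
  have hsub : (compl_exps_finite I hI).toFinset.image (alphaOf β) ⊆ box M := by
    intro α hα
    rw [Finset.mem_image] at hα
    obtain ⟨γ, hγ, rfl⟩ := hα
    rw [Set.Finite.mem_toFinset] at hγ
    unfold box
    rw [Fintype.mem_piFinset]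
    intro l
    rw [Finset.mem_Icc]
    have h1 := hM γ hγ l
    have h2 := hβM l
    show -(M : ℤ) ≤ (γ l : ℤ) - (β l : ℤ) ∧ (γ l : ℤ) - (β l : ℤ) ≤ M
    omega
  rw [← Finset.sum_subset hsub (fun α _ hα => Dval_eq_zero_of I φ α β (fun γ hγ he => hα (by
      rw [Finset.mem_image]
      exact ⟨γ, (compl_exps_finite I hI).mem_toFinset.mpr hγ, he.symm⟩))),
    Finset.sum_image (fun γ _ γ' _ he => hinj he)]
  have hq := quot_decomp I hI (φ ⟨monomial β 1, hβ⟩)
  refine Eq.trans ?_ hq.symm
  refine Finset.sum_congr rfl (fun γ _ => ?_)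
  rw [Dval_alphaOf, phiT_of_mem I φ _ hβ]

theorem eq_sum_comp (hI : IsMonomial I) [Module.Finite k (MvPolynomial (Fin n) k ⧸ I)]
    (φ : Tgt I) : ∃ A : Finset (Fin n → ℤ), φ = ∑ α ∈ A, comp I hI φ α := by
  obtain ⟨M, hM⟩ := exists_bound I hI
  refine ⟨box M, ?_⟩
  apply hom_ext_trunc I hI hM
  intro β hβ hβM
  rw [LinearMap.sum_apply, ← sum_comp_eq I hI hM φ β hβ hβM]
  refine Finset.sum_congr rfl (fun α _ => ?_)
  exact (comp_monomial I hI φ α β hβ).symm

theorem main13434 (k : Type u) [Field k] [Infinite k]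
    (n : ℕ) (hn : 2 ≤ n) (I : Ideal (MvPolynomial (Fin n) k)) (hI : IsMonomial I)
    [Module.Finite k (MvPolynomial (Fin n) k ⧸ I)] :
    (∀ α : Fin n → ℤ, ((∀ i, 0 ≤ α i) ∨ (∀ i, α i < 0)) → tPiece I α = ⊥) ∧
      (⨆ N : {N : Set (Fin n) // N.Nonempty ∧ N ≠ Set.univ}, sigPiece I N.1) = ⊤ := by
  have part1 : ∀ α : Fin n → ℤ, ((∀ i, 0 ≤ α i) ∨ (∀ i, α i < 0)) → tPiece I α = ⊥ := by
    intro α hα
    rcases hα with h | h
    · exact tPiece_nonneg I hI α h
    · exact tPiece_neg I hn hI α h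
  refine ⟨part1, ?_⟩
  rw [eq_top_iff]
  intro φ _
  obtain ⟨A, hA⟩ := eq_sum_comp I hI φ
  rw [hA]
  refine Submodule.sum_mem _ (fun α _ => ?_)
  by_cases hsign : (∀ i, 0 ≤ α i) ∨ (∀ i, α i < 0)
  · have h0 : comp I hI φ α = 0 := by
      have h := comp_mem I hI φ α
      rw [part1 α hsign, Submodule.mem_bot] at h
      exact h
    rw [h0]
    exact Submodule.zero_mem _
  · push Not at hsign
    obtain ⟨⟨i, hi⟩, ⟨j, hj⟩⟩ := hsign
    have hN : ({l | α l < 0} : Set (Fin n)).Nonempty ∧ ({l | α l < 0} : Set (Fin n)) ≠ Set.univ := by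
      refine ⟨⟨i, hi⟩, ?_⟩
      intro e
      have hj1 : j ∈ ({l | α l < 0} : Set (Fin n)) := by
        rw [e]
        exact Set.mem_univ j
      have hj' : α j < 0 := hj1
      omega
    have h1 : tPiece I α ≤ sigPiece I {l | α l < 0} :=
      le_iSup (fun a : {a : Fin n → ℤ // ∀ i, a i < 0 ↔ i ∈ ({l | α l < 0} : Set (Fin n))} =>
        tPiece I a.1) ⟨α, fun _ => Iff.rfl⟩
    have h2 : sigPiece I {l | α l < 0} ≤
        ⨆ N : {N : Set (Fin n) // N.Nonempty ∧ N ≠ Set.univ}, sigPiece I N.1 :=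
      le_iSup (fun N : {N : Set (Fin n) // N.Nonempty ∧ N ≠ Set.univ} => sigPiece I N.1)
        ⟨{l | α l < 0}, hN⟩
    exact h2 (h1 (comp_mem I hI φ α))

end Groth.Agent.Lib.Helper29.TgtGraded
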