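import Mathlib
import Groth.Prelude.Def_W4c1hilbpnTgt
import Groth.Agent.Lib.Helper29.BddComp
import Groth.Agent.Lib.Helper29.TgtGraded

set_option autoImplicit false
universe u
open MvPolynomial W4c1hilbpn
open Groth.Agent.Lib.Helper29.BddComp Groth.Agent.Lib.Helper29.TgtGraded

namespace Groth.Agent.Lib.Helper29.TgtPow

/-- the ideal `m^r` -/
noncomputable abbrev mr (k : Type u) [Field k] (n r : ℕ) : Ideal (MvPolynomial (Fin n) k) :=
  (Ideal.span (Set.range (X : Fin n → MvPolynomial (Fin n) k))) ^ r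

variable {k : Type u} [Field k] {n : ℕ} (r : ℕ)

theorem exps_iff (β : Fin n →₀ ℕ) : β ∈ exps (mr k n r) ↔ r ≤ β.degree :=
  monomial_mem_pow_idealOfVars_iff r β one_ne_zero

theorem isMono : IsMonomial (mr k n r) := by
  intro p hp β hβ
  exact (exps_iff r β).mpr ((mem_pow_idealOfVars_iff r p).mp hp β hβ)

theorem degree_single_add (i : Fin n) (β : Fin n →₀ ℕ) :
    (Finsupp.single i 1 + β).degree = β.degree + 1 := by
  rw [map_add, Finsupp.degree_single, add_comm]

theorem degree_shift (α : Fin n → ℤ) (β : Fin n →₀ ℕ) (hnn : ∀ l, 0 ≤ toZ β α l) :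
    ((shift β α).degree : ℤ) = (β.degree : ℤ) + ∑ i, α i := by
  rw [Finsupp.degree_eq_sum, Finsupp.degree_eq_sum, Nat.cast_sum, Nat.cast_sum,
    ← Finset.sum_add_distrib]
  refine Finset.sum_congr rfl (fun l _ => ?_)
  have h1 : (shift β α) l = ((β l : ℤ) + α l).toNat := rfl
  have h2 : 0 ≤ (β l : ℤ) + α l := hnn l
  rw [h1]
  omega

theorem exists_le_degree : ∀ (r : ℕ) (β : Fin n →₀ ℕ), r ≤ β.degree →
    ∃ β₀ : Fin n →₀ ℕ, β₀ ≤ β ∧ β₀.degree = r := by
  intro r
  induction r with
  | zero =>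
    intro β _
    exact ⟨0, zero_le, map_zero _⟩
  | succ r ih =>
    intro β hβ
    have hne : β ≠ 0 := by
      intro e
      rw [e, map_zero] at hβ
      omega
    obtain ⟨i, hi⟩ : ∃ i, β i ≠ 0 := by
      by_contra hcon
      push Not at hcon
      exact hne (Finsupp.ext hcon)
    have hle : Finsupp.single i 1 ≤ β := by
      rw [Finsupp.single_le_iff]
      omega
    have hsum : Finsupp.single i 1 + (β - Finsupp.single i 1) = β := add_tsub_cancel_of_le hle
    have hdeg : (β - Finsupp.single i 1).degree + 1 = β.degree := by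
      rw [← degree_single_add i, hsum]
    obtain ⟨β₀, h1, h2⟩ := ih (β - Finsupp.single i 1) (by omega)
    refine ⟨Finsupp.single i 1 + β₀, le_of_le_of_eq (add_le_add (le_refl _) h1) hsum, ?_⟩
    rw [degree_single_add, h2]

theorem hom_ext_deg (ψ1 ψ2 : Tgt (mr k n r))
    (h : ∀ (β : Fin n →₀ ℕ) (hβ : β ∈ exps (mr k n r)), β.degree = r →
      ψ1 ⟨monomial β 1, hβ⟩ = ψ2 ⟨monomial β 1, hβ⟩) : ψ1 = ψ2 := by
  apply hom_ext_mono (mr k n r) (isMono r)
  intro β hβ
  obtain ⟨β₀, hle, hdeg⟩ := exists_le_degree r β ((exps_iff r β).mp hβ)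
  have hmem : β₀ ∈ exps (mr k n r) := (exps_iff r β₀).mpr (le_of_eq hdeg.symm)
  have hsum : (β - β₀) + β₀ = β := tsub_add_cancel_of_le hle
  have hmem' : (β - β₀) + β₀ ∈ exps (mr k n r) := by
    rw [hsum]
    exact hβ
  have e : (⟨monomial β 1, hβ⟩ : ↥(mr k n r)) = ⟨monomial ((β - β₀) + β₀) 1, hmem'⟩ :=
    Subtype.ext (congrArg (fun b : Fin n →₀ ℕ =>
      (monomial b (1 : k) : MvPolynomial (Fin n) k)) hsum.symm)
  rw [e, phi_mono (mr k n r) ψ1 _ _ hmem hmem', phi_mono (mr k n r) ψ2 _ _ hmem hmem',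
    h _ hmem hdeg]

/-! ### total degree of `α` nonnegative -/

theorem tPiece_sum_nonneg (α : Fin n → ℤ) (hd : 0 ≤ ∑ i, α i) : tPiece (mr k n r) α = ⊥ := by
  rw [eq_bot_iff]
  intro φ hφ
  rw [Submodule.mem_bot]
  apply hom_ext_mono (mr k n r) (isMono r)
  intro β hβ
  rw [LinearMap.zero_apply]
  by_cases hnn : ∀ l, 0 ≤ toZ β α l
  · have hdeg := degree_shift α β hnn
    have hr := (exps_iff r β).mp hβ
    have hin : shift β α ∈ exps (mr k n r) := (exps_iff r _).mpr (by omega)
    rw [phi_eq_co (mr k n r) α hφ β hβ hnn, cls_eq_zero (mr k n r) hin, smul_zero]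
  · obtain ⟨l, hl⟩ := not_forall.mp hnn
    exact phi_eq_zero (mr k n r) α hφ β hβ ⟨l, not_le.mp hl⟩

/-! ### total degree of `α` at most `-2` -/

theorem move_spec (α : Fin n → ℤ) (i j : Fin n) (hij : i ≠ j) (β : Fin n →₀ ℕ)
    (hβj : 1 ≤ β j) :
    (Finsupp.single i 1 + (β - Finsupp.single j 1)).degree = β.degree ∧
    ∀ l, toZ (Finsupp.single i 1 + (β - Finsupp.single j 1)) α l =
      toZ β α l + (if i = l then (1 : ℤ) else 0) - (if j = l then (1 : ℤ) else 0) := by
  have hle : Finsupp.single j 1 ≤ β := by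
    rw [Finsupp.single_le_iff]
    exact hβj
  have hsum : Finsupp.single j 1 + (β - Finsupp.single j 1) = β := add_tsub_cancel_of_le hle
  refine ⟨?_, ?_⟩
  · rw [degree_single_add, ← degree_single_add j, hsum]
  · intro l
    show (((Finsupp.single i 1 + (β - Finsupp.single j 1) : Fin n →₀ ℕ) l : ℕ) : ℤ) + α l =
      ((β l : ℤ) + α l) + (if i = l then (1 : ℤ) else 0) - (if j = l then (1 : ℤ) else 0)
    rw [Finsupp.add_apply, Finsupp.tsub_apply, Finsupp.single_apply, Finsupp.single_apply]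
    by_cases e1 : i = l
    · have e2 : ¬ j = l := fun e2 => hij (e1.trans e2.symm)
      simp only [if_pos e1, if_neg e2]
      omega
    · by_cases e2 : j = l
      · simp only [if_neg e1, if_pos e2]
        have h1 : 1 ≤ β l := by
          rw [← e2]
          exact hβj
        omega
      · simp only [if_neg e1, if_neg e2]
        omega

theorem tPiece_sum_lt (hn : 2 ≤ n) (α : Fin n → ℤ) (hd : ∑ i, α i ≤ -2) :
    tPiece (mr k n r) α = ⊥ := by
  rw [eq_bot_iff]
  intro φ hφ
  rw [Submodule.mem_bot]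
  obtain ⟨j, hj⟩ : ∃ j, α j < 0 := by
    by_contra hcon
    push Not at hcon
    have h := Finset.sum_nonneg (fun i (_ : i ∈ Finset.univ) => hcon i)
    omega
  haveI : Nontrivial (Fin n) := Fin.nontrivial_iff_two_le.mpr hn
  obtain ⟨i, hij⟩ := exists_ne j
  have step : ∀ (β : Fin n →₀ ℕ) (hβ : β ∈ exps (mr k n r)), β.degree = r →
      (∀ l, 0 ≤ toZ β α l) →
      ∀ (hβ' : Finsupp.single i 1 + (β - Finsupp.single j 1) ∈ exps (mr k n r)),
      φ ⟨monomial (Finsupp.single i 1 + (β - Finsupp.single j 1)) 1, hβ'⟩ = 0 →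
      φ ⟨monomial β 1, hβ⟩ = 0 := by
    intro β hβ hdeg hnn hβ' hz
    have hβj : 1 ≤ β j := by
      have h := hnn j
      have h' : toZ β α j = (β j : ℤ) + α j := rfl
      omega
    have hle : Finsupp.single j 1 ≤ β := by
      rw [Finsupp.single_le_iff]
      exact hβj
    have hsum : Finsupp.single j 1 + (β - Finsupp.single j 1) = β := add_tsub_cancel_of_le hle
    have hcomm : Finsupp.single j 1 + (Finsupp.single i 1 + (β - Finsupp.single j 1)) =
        Finsupp.single i 1 + β := by
      rw [← add_assoc, add_comm (Finsupp.single j 1) (Finsupp.single i 1), add_assoc, hsum]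
    have hm1 : Finsupp.single i 1 + β ∈ exps (mr k n r) := exps_add (mr k n r) hβ _
    have hm2 : Finsupp.single j 1 + (Finsupp.single i 1 + (β - Finsupp.single j 1)) ∈
        exps (mr k n r) := exps_add (mr k n r) hβ' _
    have e1 := phi_X (mr k n r) φ i β hβ hm1
    have e2 := phi_X (mr k n r) φ j _ hβ' hm2
    rw [hz, smul_zero] at e2
    have e3 : φ ⟨monomial (Finsupp.single i 1 + β) 1, hm1⟩ = 0 := by
      have e : (⟨monomial (Finsupp.single i 1 + β) 1, hm1⟩ : ↥(mr k n r)) =
          ⟨monomial (Finsupp.single j 1 + (Finsupp.single i 1 + (β - Finsupp.single j 1))) 1,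
            hm2⟩ :=
        Subtype.ext (congrArg (fun b : Fin n →₀ ℕ =>
          (monomial b (1 : k) : MvPolynomial (Fin n) k)) hcomm.symm)
      rw [e, e2]
    rw [e3] at e1
    rw [phi_eq_co (mr k n r) α hφ β hβ hnn, smul_comm, X_smul_cls] at e1
    have hne : cls (mr k n r) (Finsupp.single i 1 + shift β α) ≠ 0 := by
      apply cls_ne_zero
      intro hin
      have h1 := (exps_iff r _).mp hin
      rw [degree_single_add] at h1
      have h2 := degree_shift α β hnn
      omega
    rcases smul_eq_zero.mp e1.symm with hc | hc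
    · rw [phi_eq_co (mr k n r) α hφ β hβ hnn, hc, zero_smul]
    · exact absurd hc hne
  have claim : ∀ t : ℕ, ∀ (β : Fin n →₀ ℕ) (hβ : β ∈ exps (mr k n r)), β.degree = r →
      (∀ l, 0 ≤ toZ β α l) → toZ β α j = (t : ℤ) → φ ⟨monomial β 1, hβ⟩ = 0 := by
    intro t
    induction t with
    | zero =>
      intro β hβ hdeg hnn ht
      have hβj : 1 ≤ β j := by
        have h := hnn j
        have h' : toZ β α j = (β j : ℤ) + α j := rfl
        omega
      obtain ⟨hdeg', hZ⟩ := move_spec α i j hij β hβj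
      have hβ' : Finsupp.single i 1 + (β - Finsupp.single j 1) ∈ exps (mr k n r) :=
        (exps_iff r _).mpr (by rw [hdeg', hdeg])
      apply step β hβ hdeg hnn hβ'
      apply phi_eq_zero (mr k n r) α hφ _ hβ'
      refine ⟨j, ?_⟩
      rw [hZ j, if_neg hij, if_pos rfl, ht]
      norm_num
    | succ t ih =>
      intro β hβ hdeg hnn ht
      have hβj : 1 ≤ β j := by
        have h := hnn j
        have h' : toZ β α j = (β j : ℤ) + α j := rfl
        omega
      obtain ⟨hdeg', hZ⟩ := move_spec α i j hij β hβj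
      have hβ' : Finsupp.single i 1 + (β - Finsupp.single j 1) ∈ exps (mr k n r) :=
        (exps_iff r _).mpr (by rw [hdeg', hdeg])
      apply step β hβ hdeg hnn hβ'
      have hZj : toZ (Finsupp.single i 1 + (β - Finsupp.single j 1)) α j = (t : ℤ) := by
        rw [hZ j, if_neg hij, if_pos rfl, ht]
        push_cast
        ring
      apply ih _ hβ' (hdeg'.trans hdeg) ?_ hZj
      intro l
      by_cases e2 : l = j
      · rw [e2, hZj]
        exact Int.natCast_nonneg t
      · have hjl : ¬ j = l := fun e => e2 e.symm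
        rw [hZ l, if_neg hjl]
        have h1 := hnn l
        split_ifs <;> omega
  apply hom_ext_deg r
  intro β hβ hdeg
  rw [LinearMap.zero_apply]
  by_cases hnn : ∀ l, 0 ≤ toZ β α l
  · exact claim (toZ β α j).toNat β hβ hdeg hnn (by have := hnn j; omega)
  · obtain ⟨l, hl⟩ := not_forall.mp hnn
    exact phi_eq_zero (mr k n r) α hφ β hβ ⟨l, not_le.mp hl⟩

/-! ### total degree of `α` equal to `-1` -/

section minusOne
variable (α : Fin n → ℤ)

open Classical in
/-- the index set: degree-`r` exponents `β` with `β + α ≥ 0` -/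
noncomputable def Bset : Finset (Fin n →₀ ℕ) :=
  (Finset.univ.finsuppAntidiag r).filter (fun β => ∀ l, 0 ≤ toZ β α l)

theorem mem_Bset (β : Fin n →₀ ℕ) :
    β ∈ Bset r α ↔ β.degree = r ∧ ∀ l, 0 ≤ toZ β α l := by
  unfold Bset
  rw [Finset.mem_filter, Finset.mem_finsuppAntidiag, Finsupp.degree_eq_sum]
  constructor
  · rintro ⟨⟨h1, _⟩, h2⟩
    exact ⟨h1, h2⟩
  · rintro ⟨h1, h2⟩
    exact ⟨⟨h1, Finset.subset_univ _⟩, h2⟩

open Classical in
/-- values of the homomorphism attached to `f` -/
noncomputable def val (f : ↥(Bset r α) → k) (β : Fin n →₀ ℕ) :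
    MvPolynomial (Fin n) k ⧸ mr k n r :=
  if h : β ∈ Bset r α then f ⟨β, h⟩ • cls (mr k n r) (shift β α) else 0

noncomputable def Lf (f : ↥(Bset r α) → k) :
    MvPolynomial (Fin n) k →ₗ[k] (MvPolynomial (Fin n) k ⧸ mr k n r) :=
  (MvPolynomial.basisMonomials (Fin n) k).constr k (val r α f)

theorem Lf_monomial (f : ↥(Bset r α) → k) (β : Fin n →₀ ℕ) :
    Lf r α f (monomial β 1) = val r α f β := by
  have h := (MvPolynomial.basisMonomials (Fin n) k).constr_basis k (val r α f) β
  rw [MvPolynomial.coe_basisMonomials] at h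
  exact h

theorem Lf_X (hd : ∑ i, α i = -1) (f : ↥(Bset r α) → k) (i : Fin n) (β : Fin n →₀ ℕ)
    (hβ : β ∈ exps (mr k n r)) :
    Lf r α f (X i * monomial β 1) =
      (X i : MvPolynomial (Fin n) k) • Lf r α f (monomial β 1) := by
  rw [X_mul_mono, Lf_monomial, Lf_monomial]
  have hr := (exps_iff r β).mp hβ
  have h1 : val r α f (Finsupp.single i 1 + β) = 0 := by
    unfold val
    rw [dif_neg]
    intro hmem
    have h2 := ((mem_Bset r α _).mp hmem).1
    rw [degree_single_add] at h2
    omega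
  rw [h1]
  unfold val
  by_cases hmem : β ∈ Bset r α
  · rw [dif_pos hmem, smul_comm, X_smul_cls]
    have hB := (mem_Bset r α β).mp hmem
    have hB1 := hB.1
    have hin : Finsupp.single i 1 + shift β α ∈ exps (mr k n r) := by
      rw [exps_iff, degree_single_add]
      have h2 := degree_shift α β hB.2
      omega
    rw [cls_eq_zero (mr k n r) hin, smul_zero]
  · rw [dif_neg hmem, smul_zero]

/-- the homomorphism attached to `f` -/
noncomputable def PhiB (hd : ∑ i, α i = -1) (f : ↥(Bset r α) → k) : Tgt (mr k n r) :=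
  mkHom (mr k n r) (isMono r) (Lf r α f) (fun i β hβ => Lf_X r α hd f i β hβ)

theorem PhiB_monomial (hd : ∑ i, α i = -1) (f : ↥(Bset r α) → k) (β : Fin n →₀ ℕ)
    (hβ : β ∈ exps (mr k n r)) : PhiB r α hd f ⟨monomial β 1, hβ⟩ = val r α f β :=
  Lf_monomial r α f β

theorem PhiB_mem (hd : ∑ i, α i = -1) (f : ↥(Bset r α) → k) :
    PhiB r α hd f ∈ tPiece (mr k n r) α := by
  rw [mem_tPiece_iff]
  intro β hβ
  have h : PhiB r α hd f ⟨monomial β 1, hβ⟩ = val r α f β := Lf_monomial r α f β
  refine ⟨fun _ => ?_, fun hneg => ?_⟩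
  · rw [h]
    unfold val
    by_cases hmem : β ∈ Bset r α
    · rw [dif_pos hmem]
      exact Submodule.smul_mem _ _ (Submodule.mem_span_singleton_self _)
    · rw [dif_neg hmem]
      exact Submodule.zero_mem _
  · rw [h]
    unfold val
    rw [dif_neg]
    intro hmem
    obtain ⟨l, hl⟩ := hneg
    have h1 := ((mem_Bset r α β).mp hmem).2 l
    have hl' : toZ β α l < 0 := hl
    omega

/-- the comparison map -/
noncomputable def PsiLin (hd : ∑ i, α i = -1) :
    (↥(Bset r α) → k) →ₗ[k] ↥(tPiece (mr k n r) α) where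
  toFun f := ⟨PhiB r α hd f, PhiB_mem r α hd f⟩
  map_add' f g := by
    apply Subtype.ext
    show PhiB r α hd (f + g) = PhiB r α hd f + PhiB r α hd g
    apply hom_ext_mono (mr k n r) (isMono r)
    intro β hβ
    rw [LinearMap.add_apply, PhiB_monomial, PhiB_monomial, PhiB_monomial]
    unfold val
    by_cases hmem : β ∈ Bset r α
    · rw [dif_pos hmem, dif_pos hmem, dif_pos hmem, Pi.add_apply, add_smul]
    · rw [dif_neg hmem, dif_neg hmem, dif_neg hmem, add_zero]
  map_smul' c f := by
    apply Subtype.ext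
    show PhiB r α hd (c • f) = c • PhiB r α hd f
    apply hom_ext_mono (mr k n r) (isMono r)
    intro β hβ
    rw [LinearMap.smul_apply, PhiB_monomial, PhiB_monomial]
    unfold val
    by_cases hmem : β ∈ Bset r α
    · rw [dif_pos hmem, dif_pos hmem, Pi.smul_apply, smul_eq_mul, mul_smul]
    · rw [dif_neg hmem, dif_neg hmem, smul_zero]

theorem PsiLin_injective (hd : ∑ i, α i = -1) :
    Function.Injective (PsiLin (k := k) r α hd) := by
  refine (injective_iff_map_eq_zero (PsiLin (k := k) r α hd)).mpr ?_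
  intro f hf
  funext b
  show f b = 0
  obtain ⟨β, hmem⟩ := b
  have hB := (mem_Bset r α β).mp hmem
  have hB1 := hB.1
  have hβ : β ∈ exps (mr k n r) := (exps_iff r β).mpr (le_of_eq hB.1.symm)
  have hval := congrArg (fun φ : ↥(tPiece (mr k n r) α) => φ.1 ⟨monomial β 1, hβ⟩) hf
  change Lf r α f (monomial β 1) = 0 at hval
  rw [Lf_monomial] at hval
  unfold val at hval
  rw [dif_pos hmem] at hval
  have hne : cls (mr k n r) (shift β α) ≠ 0 := by
    apply cls_ne_zero
    intro hin
    have h1 := (exps_iff r _).mp hin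
    have h2 := degree_shift α β hB.2
    omega
  rcases smul_eq_zero.mp hval with h | h
  · exact h
  · exact absurd h hne

theorem PsiLin_surjective (hd : ∑ i, α i = -1) :
    Function.Surjective (PsiLin (k := k) r α hd) := by
  rintro ⟨φ, hφ⟩
  refine ⟨fun b => co (mr k n r) α φ b.1, ?_⟩
  apply Subtype.ext
  show PhiB r α hd (fun b => co (mr k n r) α φ b.1) = φ
  apply hom_ext_deg r
  intro β hβ hdeg
  rw [PhiB_monomial]
  unfold val
  by_cases hmem : β ∈ Bset r α
  · rw [dif_pos hmem, phi_eq_co (mr k n r) α hφ β hβ ((mem_Bset r α β).mp hmem).2]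
  · rw [dif_neg hmem]
    have hneg : ∃ l, toZ β α l < 0 := by
      by_contra hcon
      push Not at hcon
      exact hmem ((mem_Bset r α β).mpr ⟨hdeg, hcon⟩)
    rw [phi_eq_zero (mr k n r) α hφ β hβ hneg]

theorem card_Bset (hn : 1 ≤ n) :
    (Bset r α).card = if (∑ i, (-α i).toNat ≤ r) then
      Nat.choose (n + r - (∑ i, (-α i).toNat) - 1) (n - 1) else 0 := by
  classical
  obtain ⟨a, ha⟩ : ∃ a : Fin n →₀ ℕ, ∀ l, a l = (-α l).toNat :=
    ⟨toN (fun l => -α l), fun l => rfl⟩
  have hadeg : a.degree = ∑ i, (-α i).toNat :=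
    (Finsupp.degree_eq_sum a).trans (Finset.sum_congr rfl (fun l _ => ha l))
  have hle_iff : ∀ β : Fin n →₀ ℕ, (∀ l, 0 ≤ toZ β α l) ↔ a ≤ β := by
    intro β
    rw [Finsupp.le_def]
    refine forall_congr' (fun l => ?_)
    have h1 : toZ β α l = (β l : ℤ) + α l := rfl
    rw [h1, ha l]
    omega
  by_cases hw : ∑ i, (-α i).toNat ≤ r
  · rw [if_pos hw]
    have hcard : (Bset r α).card =
        (Finset.univ.finsuppAntidiag (r - ∑ i, (-α i).toNat) : Finset (Fin n →₀ ℕ)).card := by
      refine Finset.card_bij' (fun β _ => β - a) (fun δ _ => δ + a) ?_ ?_ ?_ ?_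
      · intro β hβ
        have hB := (mem_Bset r α β).mp hβ
        have hab : a ≤ β := (hle_iff β).mp hB.2
        have hsum : (β - a) + a = β := tsub_add_cancel_of_le hab
        have hdeg : (β - a).degree + a.degree = β.degree := by
          rw [← map_add, hsum]
        rw [Finset.mem_finsuppAntidiag]
        refine ⟨?_, Finset.subset_univ _⟩
        rw [← Finsupp.degree_eq_sum]
        have hB1 := hB.1
        omega
      · intro δ hδ
        rw [Finset.mem_finsuppAntidiag, ← Finsupp.degree_eq_sum] at hδ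
        rw [mem_Bset]
        refine ⟨?_, (hle_iff _).mpr le_add_self⟩
        rw [map_add, hδ.1, hadeg]
        omega
      · intro β hβ
        have hB := (mem_Bset r α β).mp hβ
        exact tsub_add_cancel_of_le ((hle_iff β).mp hB.2)
      · intro δ _
        exact add_tsub_cancel_right δ a
    rw [hcard, Finset.card_finsuppAntidiag_nat_eq_choose, Finset.card_univ, Fintype.card_fin]
    have e1 : n + r - (∑ i, (-α i).toNat) - 1 = n + (r - ∑ i, (-α i).toNat) - 1 := by omega
    rw [e1]
    exact Nat.choose_symm_of_eq_add (by omega)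
  · rw [if_neg hw, Finset.card_eq_zero]
    apply Finset.eq_empty_of_forall_notMem
    intro β hβ
    have hB := (mem_Bset r α β).mp hβ
    have hab : a ≤ β := (hle_iff β).mp hB.2
    have h1 : a.degree ≤ β.degree := Finsupp.degree_mono hab
    have hB1 := hB.1
    omega

end minusOne

theorem main13435 (k : Type u) [Field k] [Infinite k]
    (n : ℕ) (hn : 2 ≤ n) (r : ℕ) (α : Fin n → ℤ) :
    Module.finrank k ↥(tPiece ((Ideal.span (Set.range (MvPolynomial.X : Fin n → MvPolynomial (Fin n) k))) ^ r) α) =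
      if (∑ i, α i = -1 ∧ ∑ i, (-α i).toNat ≤ r)
        then Nat.choose (n + r - (∑ i, (-α i).toNat) - 1) (n - 1) else 0 := by
  show Module.finrank k ↥(tPiece (mr k n r) α) = _
  by_cases hd : ∑ i, α i = -1
  · have e : (↥(Bset r α) → k) ≃ₗ[k] ↥(tPiece (mr k n r) α) :=
      LinearEquiv.ofBijective (PsiLin (k := k) r α hd)
        ⟨PsiLin_injective (k := k) r α hd, PsiLin_surjective (k := k) r α hd⟩
    rw [← e.finrank_eq, Module.finrank_fintype_fun_eq_card, Fintype.card_coe,
      card_Bset r α (by omega)]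
    by_cases hw : ∑ i, (-α i).toNat ≤ r
    · rw [if_pos hw, if_pos ⟨hd, hw⟩]
    · rw [if_neg hw, if_neg (fun h => hw h.2)]
  · have hbot : tPiece (mr k n r) α = ⊥ := by
      rcases lt_or_gt_of_ne hd with h | h
      · exact tPiece_sum_lt r hn α (by omega)
      · exact tPiece_sum_nonneg r α (by omega)
    rw [if_neg (fun h => hd h.1), hbot]
    simp

end Groth.Agent.Lib.Helper29.TgtPow
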