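import Mathlib
import Groth.Prelude.Def_W4c1hilbpnTgt
import Groth.Agent.Lib.Helper29.BddComp
import Groth.Agent.Lib.Helper29.TgtGraded
import Groth.Agent.Lib.Helper29.TgtPow

set_option autoImplicit false
universe u
open MvPolynomial W4c1hilbpn
open Groth.Agent.Lib.Helper29.BddComp Groth.Agent.Lib.Helper29.TgtGraded
open Groth.Agent.Lib.Helper29.TgtPow

namespace Groth.Agent.Lib.Helper29.TgtDim

/-! ### dimension of a finite independent sum -/

theorem finrank_biSup {K V ι : Type*} [Field K] [AddCommGroup V] [Module K V]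
    (p : ι → Submodule K V) (hind : iSupIndep p) (hfd : ∀ i, FiniteDimensional K ↥(p i))
    (s : Finset ι) :
    FiniteDimensional K ↥(⨆ i ∈ s, p i) ∧
      Module.finrank K ↥(⨆ i ∈ s, p i) = ∑ i ∈ s, Module.finrank K ↥(p i) := by
  classical
  induction s using Finset.induction_on with
  | empty =>
    have e : (⨆ i ∈ (∅ : Finset ι), p i) = ⊥ := by simp
    rw [e]
    exact ⟨inferInstance, by simp⟩
  | insert a s ha ih =>
    obtain ⟨ih1, ih2⟩ := ih
    have e : (⨆ i ∈ insert a s, p i) = p a ⊔ ⨆ i ∈ s, p i := Finset.iSup_insert a s p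
    rw [e]
    haveI := hfd a
    haveI := ih1
    refine ⟨inferInstance, ?_⟩
    have hdisj : Disjoint (p a) (⨆ i ∈ s, p i) := by
      have h := hind.disjoint_biSup (x := a) (y := (↑s : Set ι))
        (by rw [Finset.mem_coe]; exact ha)
      simpa only [Finset.mem_coe] using h
    have h := Submodule.finrank_sup_add_finrank_inf_eq (p a) (⨆ i ∈ s, p i)
    rw [hdisj.eq_bot, finrank_bot, add_zero] at h
    rw [h, ih2, Finset.sum_insert ha]

/-! ### independence of the graded pieces -/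

section indep
variable {k : Type u} [Field k] {n : ℕ} (I : Ideal (MvPolynomial (Fin n) k))

theorem indep (hI : IsMonomial I) : iSupIndep (fun α : Fin n → ℤ => tPiece I α) := by
  classical
  rw [iSupIndep_iff_finsetSum_eq_zero_imp_eq_zero]
  intro s v hv hsum α₀ hα₀
  apply hom_ext_mono I hI
  intro β hβ
  rw [LinearMap.zero_apply]
  by_cases hnn : ∀ l, 0 ≤ toZ β α₀ l
  · have e0 := phi_eq_co I α₀ (hv α₀ hα₀) β hβ hnn
    by_cases hin : shift β α₀ ∈ exps I
    · rw [e0, cls_eq_zero I hin, smul_zero]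
    · let P : (Fin n → ℤ) → MvPolynomial (Fin n) k := fun α =>
        if (∀ l, 0 ≤ toZ β α l) then co I α (v α) β • monomial (shift β α) (1 : k) else 0
      have hP : ∀ α ∈ s, (v α) ⟨monomial β 1, hβ⟩ = Ideal.Quotient.mk I (P α) := by
        intro α hα
        by_cases hg : ∀ l, 0 ≤ toZ β α l
        · have e1 : P α = co I α (v α) β • monomial (shift β α) (1 : k) := if_pos hg
          rw [e1, mk_smul I]
          exact phi_eq_co I α (hv α hα) β hβ hg
        · have e1 : P α = 0 := if_neg hg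
          rw [e1, map_zero]
          obtain ⟨l, hl⟩ := not_forall.mp hg
          exact phi_eq_zero I α (hv α hα) β hβ ⟨l, not_le.mp hl⟩
      have hmem : (∑ α ∈ s, P α) ∈ I := by
        apply Ideal.Quotient.eq_zero_iff_mem.mp
        rw [map_sum]
        have h1 : ∑ α ∈ s, Ideal.Quotient.mk I (P α) = ∑ α ∈ s, (v α) ⟨monomial β 1, hβ⟩ :=
          Finset.sum_congr rfl (fun α hα => (hP α hα).symm)
        have h2 : (∑ α ∈ s, v α) ⟨monomial β 1, hβ⟩ = ∑ α ∈ s, (v α) ⟨monomial β 1, hβ⟩ :=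
          LinearMap.sum_apply _ _ _
        rw [h1, ← h2, hsum, LinearMap.zero_apply]
      have hcoeff : coeff (shift β α₀) (∑ α ∈ s, P α) = co I α₀ (v α₀) β := by
        rw [MvPolynomial.coeff_sum, Finset.sum_eq_single α₀]
        · have e1 : P α₀ = co I α₀ (v α₀) β • monomial (shift β α₀) (1 : k) := if_pos hnn
          rw [e1, MvPolynomial.coeff_smul, MvPolynomial.coeff_monomial, if_pos rfl, smul_eq_mul,
            mul_one]
        · intro α _ hne
          by_cases hg : ∀ l, 0 ≤ toZ β α l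
          · have e1 : P α = co I α (v α) β • monomial (shift β α) (1 : k) := if_pos hg
            rw [e1, MvPolynomial.coeff_smul, MvPolynomial.coeff_monomial, if_neg, smul_zero]
            intro hsh
            apply hne
            have h2 : toZ β α = toZ β α₀ := toN_inj hg hnn hsh
            funext l
            have h3 : (β l : ℤ) + α l = (β l : ℤ) + α₀ l := congrFun h2 l
            omega
          · have e1 : P α = 0 := if_neg hg
            rw [e1, MvPolynomial.coeff_zero]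
        · intro h
          exact absurd hα₀ h
      have hco : co I α₀ (v α₀) β = 0 := by
        by_contra hne
        apply hin
        apply hI _ hmem
        rw [MvPolynomial.mem_support_iff, hcoeff]
        exact hne
      rw [e0, hco, zero_smul]
  · obtain ⟨l, hl⟩ := not_forall.mp hnn
    exact phi_eq_zero I α₀ (hv α₀ hα₀) β hβ ⟨l, not_le.mp hl⟩

end indep

/-! ### the powers of the maximal ideal -/

section pow
variable {k : Type u} [Field k] {n : ℕ} (r : ℕ)

theorem finite_quot : Module.Finite k (MvPolynomial (Fin n) k ⧸ mr k n r) := by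
  classical
  have hfin : ({f : Fin n →₀ ℕ | f.degree < r}).Finite := Finsupp.finite_of_degree_lt r
  refine ⟨Submodule.fg_def.mpr
    ⟨(cls (mr k n r)) '' {f : Fin n →₀ ℕ | f.degree < r}, hfin.image _, ?_⟩⟩
  rw [eq_top_iff]
  intro q _
  obtain ⟨p, rfl⟩ := Ideal.Quotient.mk_surjective q
  have h1 : Ideal.Quotient.mk (mr k n r) p =
      ∑ γ ∈ p.support, coeff γ p • cls (mr k n r) γ := by
    conv_lhs => rw [p.as_sum]
    rw [map_sum]
    refine Finset.sum_congr rfl (fun γ _ => ?_)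
    have h : monomial γ (coeff γ p) = coeff γ p • monomial γ (1 : k) := by
      rw [MvPolynomial.smul_monomial, smul_eq_mul, mul_one]
    rw [h]
    exact mk_smul (mr k n r) _ _
  rw [h1]
  refine Submodule.sum_mem _ (fun γ _ => ?_)
  by_cases hγ : γ.degree < r
  · exact Submodule.smul_mem _ _ (Submodule.subset_span ⟨γ, hγ, rfl⟩)
  · rw [cls_eq_zero (mr k n r) ((exps_iff r γ).mpr (not_lt.mp hγ)), smul_zero]
    exact Submodule.zero_mem _

theorem fd_tPiece (hn : 2 ≤ n) (α : Fin n → ℤ) :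
    FiniteDimensional k ↥(tPiece (mr k n r) α) := by
  by_cases hd : ∑ i, α i = -1
  · have e : (↥(Bset r α) → k) ≃ₗ[k] ↥(tPiece (mr k n r) α) :=
      LinearEquiv.ofBijective (PsiLin (k := k) r α hd)
        ⟨PsiLin_injective (k := k) r α hd, PsiLin_surjective (k := k) r α hd⟩
    exact Module.Finite.equiv e
  · have hbot : tPiece (mr k n r) α = ⊥ := by
      rcases lt_or_gt_of_ne hd with h | h
      · exact tPiece_sum_lt r hn α (by omega)
      · exact tPiece_sum_nonneg r α (by omega)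
    rw [hbot]
    infer_instance

theorem finrank_eq_card (α : Fin n → ℤ) (hd : ∑ i, α i = -1) :
    Module.finrank k ↥(tPiece (mr k n r) α) = (Bset r α).card := by
  have e : (↥(Bset r α) → k) ≃ₗ[k] ↥(tPiece (mr k n r) α) :=
    LinearEquiv.ofBijective (PsiLin (k := k) r α hd)
      ⟨PsiLin_injective (k := k) r α hd, PsiLin_surjective (k := k) r α hd⟩
  rw [← e.finrank_eq, Module.finrank_fintype_fun_eq_card, Fintype.card_coe]

theorem exists_of_ne_bot (hn : 2 ≤ n) (α : Fin n → ℤ) (h : tPiece (mr k n r) α ≠ ⊥) :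
    ∑ i, α i = -1 ∧ (Bset r α).Nonempty := by
  have hd : ∑ i, α i = -1 := by
    by_contra hd
    apply h
    rcases lt_or_gt_of_ne hd with h' | h'
    · exact tPiece_sum_lt r hn α (by omega)
    · exact tPiece_sum_nonneg r α (by omega)
  refine ⟨hd, ?_⟩
  by_contra hemp
  rw [Finset.not_nonempty_iff_eq_empty] at hemp
  apply h
  rw [eq_bot_iff]
  intro φ hφ
  rw [Submodule.mem_bot]
  obtain ⟨f, hf⟩ := PsiLin_surjective (k := k) r α hd ⟨φ, hφ⟩
  have hf0 : f = 0 := by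
    funext b
    exact absurd b.2 (Finset.eq_empty_iff_forall_notMem.mp hemp b.1)
  rw [hf0, map_zero] at hf
  exact (congrArg Subtype.val hf).symm

theorem alphaOf_shift (α : Fin n → ℤ) (β : Fin n →₀ ℕ) (hnn : ∀ l, 0 ≤ toZ β α l) :
    alphaOf β (shift β α) = α := by
  funext l
  have h1 : (shift β α) l = ((β l : ℤ) + α l).toNat := rfl
  have h2 : 0 ≤ (β l : ℤ) + α l := hnn l
  show (((shift β α) l : ℕ) : ℤ) - (β l : ℤ) = α l
  rw [h1]
  omega

theorem sum_alphaOf (β γ : Fin n →₀ ℕ) :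
    ∑ l, alphaOf β γ l = (γ.degree : ℤ) - (β.degree : ℤ) := by
  rw [Finsupp.degree_eq_sum, Finsupp.degree_eq_sum, Nat.cast_sum, Nat.cast_sum,
    ← Finset.sum_sub_distrib]
  exact Finset.sum_congr rfl (fun l _ => rfl)

/-- exponent vectors of degree `d` -/
noncomputable def Bd (n d : ℕ) : Finset (Fin n →₀ ℕ) :=
  (Finset.univ : Finset (Fin n)).finsuppAntidiag d

theorem mem_Bd (d : ℕ) (β : Fin n →₀ ℕ) : β ∈ Bd n d ↔ β.degree = d := by
  unfold Bd
  rw [Finset.mem_finsuppAntidiag, Finsupp.degree_eq_sum]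
  exact ⟨fun h => h.1, fun h => ⟨h, Finset.subset_univ _⟩⟩

theorem card_Bd3 (d : ℕ) : (Bd 3 d).card = Nat.choose (d + 2) 2 := by
  unfold Bd
  rw [Finset.card_finsuppAntidiag_nat_eq_choose, Finset.card_univ, Fintype.card_fin]
  have e : 3 + d - 1 = d + 2 := by omega
  rw [e]
  exact Nat.choose_symm_of_eq_add (by omega)

end pow

/-! ### combinatorics of `Fin 3` -/

theorem fin3_ne1 (i : Fin 3) : i + 1 ≠ i := by revert i; decide
theorem fin3_ne2 (i : Fin 3) : i + 2 ≠ i := by revert i; decide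
theorem fin3_ne12 (i : Fin 3) : i + 2 ≠ i + 1 := by revert i; decide
theorem fin3_cases (i l : Fin 3) : l = i ∨ l = i + 1 ∨ l = i + 2 := by revert i l; decide

theorem sum3 {M : Type*} [AddCommMonoid M] (i : Fin 3) (f : Fin 3 → M) :
    ∑ l, f l = f i + f (i + 1) + f (i + 2) := by
  rw [Fin.sum_univ_three]
  have h : i = 0 ∨ i = 1 ∨ i = 2 := by revert i; decide
  rcases h with rfl | rfl | rfl
  · have e1 : ((0 : Fin 3) + 1) = 1 := by decide
    have e2 : ((0 : Fin 3) + 2) = 2 := by decide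
    rw [e1, e2]
  · have e1 : ((1 : Fin 3) + 1) = 2 := by decide
    have e2 : ((1 : Fin 3) + 2) = 0 := by decide
    rw [e1, e2]
    abel
  · have e1 : ((2 : Fin 3) + 1) = 0 := by decide
    have e2 : ((2 : Fin 3) + 2) = 1 := by decide
    rw [e1, e2]
    abel

/-- the vector with entries `a, b, c` at `i, i+1, i+2` -/
def mk3 (i : Fin 3) (a b c : ℤ) : Fin 3 → ℤ :=
  fun l => if l = i then a else if l = i + 1 then b else c

theorem mk3_0 (i : Fin 3) (a b c : ℤ) : mk3 i a b c i = a := if_pos rfl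

theorem mk3_1 (i : Fin 3) (a b c : ℤ) : mk3 i a b c (i + 1) = b := by
  show (if i + 1 = i then a else if i + 1 = i + 1 then b else c) = b
  rw [if_neg (fin3_ne1 i), if_pos rfl]

theorem mk3_2 (i : Fin 3) (a b c : ℤ) : mk3 i a b c (i + 2) = c := by
  show (if i + 2 = i then a else if i + 2 = i + 1 then b else c) = c
  rw [if_neg (fin3_ne2 i), if_neg (fin3_ne12 i)]

/-- multidegrees negative exactly at `i` -/
def Pp (r : ℕ) (i : Fin 3) (x : (Σ _ : ℕ, ℕ)) : Fin 3 → ℤ :=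
  mk3 i (-((r : ℤ) - (x.1 : ℤ))) (x.2 : ℤ) ((r : ℤ) - (x.1 : ℤ) - 1 - (x.2 : ℤ))

/-- multidegrees negative exactly off `i` -/
def Qq (r : ℕ) (i : Fin 3) (x : (Σ _ : ℕ, ℕ)) : Fin 3 → ℤ :=
  mk3 i ((r : ℤ) - (x.1 : ℤ) - 1) (-((x.2 : ℤ) + 1))
    (-((r : ℤ) - (x.1 : ℤ) - (x.2 : ℤ) - 1))

theorem Pp_0 (r : ℕ) (i : Fin 3) (u a : ℕ) :
    Pp r i ⟨u, a⟩ i = -((r : ℤ) - (u : ℤ)) := mk3_0 _ _ _ _
theorem Pp_1 (r : ℕ) (i : Fin 3) (u a : ℕ) :
    Pp r i ⟨u, a⟩ (i + 1) = (a : ℤ) := mk3_1 _ _ _ _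
theorem Pp_2 (r : ℕ) (i : Fin 3) (u a : ℕ) :
    Pp r i ⟨u, a⟩ (i + 2) = (r : ℤ) - (u : ℤ) - 1 - (a : ℤ) := mk3_2 _ _ _ _

theorem Qq_0 (r : ℕ) (i : Fin 3) (u a : ℕ) :
    Qq r i ⟨u, a⟩ i = (r : ℤ) - (u : ℤ) - 1 := mk3_0 _ _ _ _
theorem Qq_1 (r : ℕ) (i : Fin 3) (u a : ℕ) :
    Qq r i ⟨u, a⟩ (i + 1) = -((a : ℤ) + 1) := mk3_1 _ _ _ _
theorem Qq_2 (r : ℕ) (i : Fin 3) (u a : ℕ) :
    Qq r i ⟨u, a⟩ (i + 2) = -((r : ℤ) - (u : ℤ) - (a : ℤ) - 1) := mk3_2 _ _ _ _

theorem Pp_inj (r : ℕ) (i : Fin 3) : Function.Injective (Pp r i) := by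
  rintro ⟨u, a⟩ ⟨u', a'⟩ h
  have h0 := congrFun h i
  have h1 := congrFun h (i + 1)
  rw [Pp_0, Pp_0] at h0
  rw [Pp_1, Pp_1] at h1
  have hu : u = u' := by omega
  have ha : a = a' := by omega
  rw [hu, ha]

theorem Qq_inj (r : ℕ) (i : Fin 3) : Function.Injective (Qq r i) := by
  rintro ⟨u, a⟩ ⟨u', a'⟩ h
  have h0 := congrFun h i
  have h1 := congrFun h (i + 1)
  rw [Qq_0, Qq_0] at h0
  rw [Qq_1, Qq_1] at h1
  have hu : u = u' := by omega
  have ha : a = a' := by omega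
  rw [hu, ha]

theorem Pp_sign (r : ℕ) (i : Fin 3) (u a : ℕ) (hu : u < r) (ha : a < r - u) (l : Fin 3) :
    Pp r i ⟨u, a⟩ l < 0 ↔ l ∈ ({i} : Set (Fin 3)) := by
  rw [Set.mem_singleton_iff]
  rcases fin3_cases i l with rfl | rfl | rfl
  · rw [Pp_0]
    constructor
    · intro _
      rfl
    · intro _
      omega
  · rw [Pp_1]
    constructor
    · intro h
      exfalso
      omega
    · intro h
      exact absurd h (fin3_ne1 i)
  · rw [Pp_2]
    constructor
    · intro h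
      exfalso
      omega
    · intro h
      exact absurd h (fin3_ne2 i)

theorem Qq_sign (r : ℕ) (i : Fin 3) (u a : ℕ) (hu : u < r - 1) (ha : a < r - 1 - u)
    (l : Fin 3) :
    Qq r i ⟨u, a⟩ l < 0 ↔ l ∈ ({i}ᶜ : Set (Fin 3)) := by
  rw [Set.mem_compl_iff, Set.mem_singleton_iff]
  rcases fin3_cases i l with rfl | rfl | rfl
  · rw [Qq_0]
    constructor
    · intro h
      exfalso
      omega
    · intro h
      exact absurd rfl h
  · rw [Qq_1]
    constructor
    · intro _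
      exact fin3_ne1 i
    · intro _
      omega
  · rw [Qq_2]
    constructor
    · intro _
      exact fin3_ne2 i
    · intro _
      omega

/-- index set for the pieces negative exactly at `i` -/
def idx1 (r : ℕ) : Finset (Σ _ : ℕ, ℕ) :=
  (Finset.range r).sigma (fun u => Finset.range (r - u))

/-- index set for the pieces negative exactly off `i` -/
def idx2 (r : ℕ) : Finset (Σ _ : ℕ, ℕ) :=
  (Finset.range (r - 1)).sigma (fun u => Finset.range (r - 1 - u))

/-! ### binomial sums -/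

theorem hockey (m : ℕ) :
    ∑ u ∈ Finset.range m, Nat.choose (u + 2) 2 = Nat.choose (m + 2) 3 := by
  induction m with
  | zero => first | rfl | decide | simp
  | succ m ih =>
    rw [Finset.sum_range_succ, ih]
    have h : Nat.choose (m + 1 + 2) 3 = Nat.choose (m + 2) 2 + Nat.choose (m + 2) 3 :=
      Nat.choose_succ_succ' (m + 2) 2
    omega

theorem Ssum_eq (m : ℕ) :
    ∑ u ∈ Finset.range m, (m - u) * Nat.choose (u + 2) 2 = Nat.choose (m + 3) 4 := by
  induction m with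
  | zero => first | rfl | decide | simp
  | succ m ih =>
    have h1 : ∑ u ∈ Finset.range (m + 1), (m + 1 - u) * Nat.choose (u + 2) 2 =
        ∑ u ∈ Finset.range (m + 1),
          ((m - u) * Nat.choose (u + 2) 2 + Nat.choose (u + 2) 2) := by
      refine Finset.sum_congr rfl (fun u hu => ?_)
      rw [Finset.mem_range] at hu
      have e : m + 1 - u = (m - u) + 1 := by omega
      rw [e, add_mul, one_mul]
    rw [h1, Finset.sum_add_distrib, Finset.sum_range_succ, ih, Nat.sub_self, zero_mul,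
      add_zero, hockey (m + 1)]
    have h : Nat.choose (m + 1 + 3) 4 = Nat.choose (m + 3) 3 + Nat.choose (m + 3) 4 :=
      Nat.choose_succ_succ' (m + 3) 3
    have e : m + 1 + 2 = m + 3 := by omega
    rw [e, h]
    ring

theorem choose_fix (r : ℕ) : Nat.choose (r - 1 + 3) 4 = Nat.choose (r + 2) 4 := by
  cases r with
  | zero => decide
  | succ m =>
    have e : m + 1 - 1 + 3 = m + 1 + 2 := by omega
    rw [e]

/-! ### the pieces in three variables -/

theorem finrank_Pp (k : Type u) [Field k] [Infinite k] (r : ℕ) (i : Fin 3) (u a : ℕ)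
    (hu : u < r) (ha : a < r - u) :
    Module.finrank k ↥(tPiece (mr k 3 r) (Pp r i ⟨u, a⟩)) = Nat.choose (u + 2) 2 := by
  have hsum : ∑ l, Pp r i ⟨u, a⟩ l = -1 := by
    rw [sum3 i, Pp_0, Pp_1, Pp_2]
    ring
  have hw : ∑ l, (-(Pp r i ⟨u, a⟩ l)).toNat = r - u := by
    refine (sum3 i _).trans ?_
    show (-(Pp r i ⟨u, a⟩ i)).toNat + (-(Pp r i ⟨u, a⟩ (i + 1))).toNat +
      (-(Pp r i ⟨u, a⟩ (i + 2))).toNat = r - u
    rw [Pp_0, Pp_1, Pp_2]
    omega
  have hc : (∑ l, Pp r i ⟨u, a⟩ l = -1 ∧ ∑ l, (-(Pp r i ⟨u, a⟩ l)).toNat ≤ r) :=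
    ⟨hsum, by rw [hw]; omega⟩
  refine (main13435 k 3 (by norm_num) r (Pp r i ⟨u, a⟩)).trans ?_
  rw [if_pos hc, hw]
  have e : 3 + r - (r - u) - 1 = u + 2 := by omega
  have e2 : (3 : ℕ) - 1 = 2 := rfl
  rw [e, e2]

theorem finrank_Qq (k : Type u) [Field k] [Infinite k] (r : ℕ) (i : Fin 3) (u a : ℕ)
    (hu : u < r - 1) (ha : a < r - 1 - u) :
    Module.finrank k ↥(tPiece (mr k 3 r) (Qq r i ⟨u, a⟩)) = Nat.choose (u + 2) 2 := by
  have hsum : ∑ l, Qq r i ⟨u, a⟩ l = -1 := by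
    rw [sum3 i, Qq_0, Qq_1, Qq_2]
    ring
  have hw : ∑ l, (-(Qq r i ⟨u, a⟩ l)).toNat = r - u := by
    refine (sum3 i _).trans ?_
    show (-(Qq r i ⟨u, a⟩ i)).toNat + (-(Qq r i ⟨u, a⟩ (i + 1))).toNat +
      (-(Qq r i ⟨u, a⟩ (i + 2))).toNat = r - u
    rw [Qq_0, Qq_1, Qq_2]
    omega
  have hc : (∑ l, Qq r i ⟨u, a⟩ l = -1 ∧ ∑ l, (-(Qq r i ⟨u, a⟩ l)).toNat ≤ r) :=
    ⟨hsum, by rw [hw]; omega⟩
  refine (main13435 k 3 (by norm_num) r (Qq r i ⟨u, a⟩)).trans ?_
  rw [if_pos hc, hw]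
  have e : 3 + r - (r - u) - 1 = u + 2 := by omega
  have e2 : (3 : ℕ) - 1 = 2 := rfl
  rw [e, e2]

theorem sig1 (k : Type u) [Field k] (r : ℕ) (i : Fin 3) :
    sigPiece (mr k 3 r) {i} = ⨆ x ∈ idx1 r, tPiece (mr k 3 r) (Pp r i x) := by
  apply le_antisymm
  · unfold sigPiece
    apply iSup_le
    rintro ⟨α, hα⟩
    show tPiece (mr k 3 r) α ≤ _
    by_cases hbot : tPiece (mr k 3 r) α = ⊥
    · rw [hbot]
      exact bot_le
    · obtain ⟨hd, β, hβ⟩ := exists_of_ne_bot r (by norm_num) α hbot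
      have hB := (mem_Bset r α β).mp hβ
      have h0 : α i < 0 := (hα i).mpr (Set.mem_singleton i)
      have h1 : 0 ≤ α (i + 1) := by
        by_contra hc
        exact fin3_ne1 i (Set.mem_singleton_iff.mp ((hα (i + 1)).mp (not_le.mp hc)))
      have h2 : 0 ≤ α (i + 2) := by
        by_contra hc
        exact fin3_ne2 i (Set.mem_singleton_iff.mp ((hα (i + 2)).mp (not_le.mp hc)))
      have hs : α i + α (i + 1) + α (i + 2) = -1 := (sum3 i α).symm.trans hd
      have hdeg : β i + β (i + 1) + β (i + 2) = r :=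
        ((sum3 i (fun l => β l)).symm.trans (Finsupp.degree_eq_sum β).symm).trans hB.1
      have hb0 : 0 ≤ (β i : ℤ) + α i := hB.2 i
      have hx : (⟨r - (-α i).toNat, (α (i + 1)).toNat⟩ : (Σ _ : ℕ, ℕ)) ∈ idx1 r := by
        simp only [idx1, Finset.mem_sigma, Finset.mem_range]
        refine ⟨?_, ?_⟩ <;> omega
      have heq : α = Pp r i ⟨r - (-α i).toNat, (α (i + 1)).toNat⟩ := by
        funext l
        rcases fin3_cases i l with rfl | rfl | rfl
        · rw [Pp_0]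
          omega
        · rw [Pp_1]
          omega
        · rw [Pp_2]
          omega
      exact le_iSup₂_of_le _ hx (le_of_eq (congrArg (tPiece (mr k 3 r)) heq))
  · apply iSup₂_le
    rintro ⟨u, a⟩ hx
    simp only [idx1, Finset.mem_sigma, Finset.mem_range] at hx
    exact le_iSup (fun b : {α : Fin 3 → ℤ // ∀ l, α l < 0 ↔ l ∈ ({i} : Set (Fin 3))} =>
      tPiece (mr k 3 r) b.1) ⟨Pp r i ⟨u, a⟩, Pp_sign r i u a hx.1 hx.2⟩

theorem sig2 (k : Type u) [Field k] (r : ℕ) (i : Fin 3) :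
    sigPiece (mr k 3 r) ({i}ᶜ : Set (Fin 3)) =
      ⨆ x ∈ idx2 r, tPiece (mr k 3 r) (Qq r i x) := by
  apply le_antisymm
  · unfold sigPiece
    apply iSup_le
    rintro ⟨α, hα⟩
    show tPiece (mr k 3 r) α ≤ _
    by_cases hbot : tPiece (mr k 3 r) α = ⊥
    · rw [hbot]
      exact bot_le
    · obtain ⟨hd, β, hβ⟩ := exists_of_ne_bot r (by norm_num) α hbot
      have hB := (mem_Bset r α β).mp hβ
      have h0 : 0 ≤ α i := by
        by_contra hc
        exact (Set.mem_compl_iff _ _).mp ((hα i).mp (not_le.mp hc)) (Set.mem_singleton i)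
      have h1 : α (i + 1) < 0 :=
        (hα (i + 1)).mpr ((Set.mem_compl_iff _ _).mpr
          (fun h => fin3_ne1 i (Set.mem_singleton_iff.mp h)))
      have h2 : α (i + 2) < 0 :=
        (hα (i + 2)).mpr ((Set.mem_compl_iff _ _).mpr
          (fun h => fin3_ne2 i (Set.mem_singleton_iff.mp h)))
      have hs : α i + α (i + 1) + α (i + 2) = -1 := (sum3 i α).symm.trans hd
      have hdeg : β i + β (i + 1) + β (i + 2) = r :=
        ((sum3 i (fun l => β l)).symm.trans (Finsupp.degree_eq_sum β).symm).trans hB.1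
      have hb1 : 0 ≤ (β (i + 1) : ℤ) + α (i + 1) := hB.2 (i + 1)
      have hb2 : 0 ≤ (β (i + 2) : ℤ) + α (i + 2) := hB.2 (i + 2)
      have hx : (⟨r - ((-α (i + 1)).toNat + (-α (i + 2)).toNat),
          (-α (i + 1)).toNat - 1⟩ : (Σ _ : ℕ, ℕ)) ∈ idx2 r := by
        simp only [idx2, Finset.mem_sigma, Finset.mem_range]
        refine ⟨?_, ?_⟩ <;> omega
      have heq : α = Qq r i ⟨r - ((-α (i + 1)).toNat + (-α (i + 2)).toNat),
          (-α (i + 1)).toNat - 1⟩ := by
        funext l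
        rcases fin3_cases i l with rfl | rfl | rfl
        · rw [Qq_0]
          omega
        · rw [Qq_1]
          omega
        · rw [Qq_2]
          omega
      exact le_iSup₂_of_le _ hx (le_of_eq (congrArg (tPiece (mr k 3 r)) heq))
  · apply iSup₂_le
    rintro ⟨u, a⟩ hx
    simp only [idx2, Finset.mem_sigma, Finset.mem_range] at hx
    exact le_iSup (fun b : {α : Fin 3 → ℤ // ∀ l, α l < 0 ↔ l ∈ ({i}ᶜ : Set (Fin 3))} =>
      tPiece (mr k 3 r) b.1) ⟨Qq r i ⟨u, a⟩, Qq_sign r i u a hx.1 hx.2⟩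

theorem claim1 (k : Type u) [Field k] [Infinite k] (r : ℕ) (i : Fin 3) :
    Module.finrank k ↥(sigPiece (mr k 3 r) {i}) = Nat.choose (r + 3) 4 := by
  rw [sig1 k r i]
  have hind : iSupIndep (fun x : (Σ _ : ℕ, ℕ) => tPiece (mr k 3 r) (Pp r i x)) :=
    (indep (mr k 3 r) (isMono r)).comp (Pp_inj r i)
  have hfd : ∀ x : (Σ _ : ℕ, ℕ), FiniteDimensional k ↥(tPiece (mr k 3 r) (Pp r i x)) :=
    fun x => fd_tPiece r (by norm_num) _
  rw [(finrank_biSup _ hind hfd (idx1 r)).2]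
  have h1 : ∑ x ∈ idx1 r, Module.finrank k ↥(tPiece (mr k 3 r) (Pp r i x)) =
      ∑ x ∈ idx1 r, Nat.choose (x.1 + 2) 2 := by
    refine Finset.sum_congr rfl ?_
    rintro ⟨u, a⟩ hx
    simp only [idx1, Finset.mem_sigma, Finset.mem_range] at hx
    exact finrank_Pp k r i u a hx.1 hx.2
  rw [h1]
  unfold idx1
  rw [Finset.sum_sigma, ← Ssum_eq r]
  refine Finset.sum_congr rfl (fun u _ => ?_)
  show ∑ _b ∈ Finset.range (r - u), Nat.choose (u + 2) 2 = (r - u) * Nat.choose (u + 2) 2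
  rw [Finset.sum_const, Finset.card_range, smul_eq_mul]

theorem claim2 (k : Type u) [Field k] [Infinite k] (r : ℕ) (i : Fin 3) :
    Module.finrank k ↥(sigPiece (mr k 3 r) ({i}ᶜ : Set (Fin 3))) = Nat.choose (r + 2) 4 := by
  rw [sig2 k r i]
  have hind : iSupIndep (fun x : (Σ _ : ℕ, ℕ) => tPiece (mr k 3 r) (Qq r i x)) :=
    (indep (mr k 3 r) (isMono r)).comp (Qq_inj r i)
  have hfd : ∀ x : (Σ _ : ℕ, ℕ), FiniteDimensional k ↥(tPiece (mr k 3 r) (Qq r i x)) :=
    fun x => fd_tPiece r (by norm_num) _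
  rw [(finrank_biSup _ hind hfd (idx2 r)).2]
  have h1 : ∑ x ∈ idx2 r, Module.finrank k ↥(tPiece (mr k 3 r) (Qq r i x)) =
      ∑ x ∈ idx2 r, Nat.choose (x.1 + 2) 2 := by
    refine Finset.sum_congr rfl ?_
    rintro ⟨u, a⟩ hx
    simp only [idx2, Finset.mem_sigma, Finset.mem_range] at hx
    exact finrank_Qq k r i u a hx.1 hx.2
  rw [h1]
  unfold idx2
  rw [Finset.sum_sigma, ← choose_fix r, ← Ssum_eq (r - 1)]
  refine Finset.sum_congr rfl (fun u _ => ?_)
  show ∑ _b ∈ Finset.range (r - 1 - u), Nat.choose (u + 2) 2 =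
    (r - 1 - u) * Nat.choose (u + 2) 2
  rw [Finset.sum_const, Finset.card_range, smul_eq_mul]

/-! ### the whole tangent space -/

/-- pairs (source exponent, target exponent) -/
noncomputable def Pairs (m : ℕ) : Finset ((Fin 3 →₀ ℕ) × (Fin 3 →₀ ℕ)) :=
  Bd 3 (m + 1) ×ˢ Bd 3 m

/-- the multidegree of a pair -/
def Dm (p : (Fin 3 →₀ ℕ) × (Fin 3 →₀ ℕ)) : Fin 3 → ℤ := alphaOf p.1 p.2

theorem top_eq (k : Type u) [Field k] [DecidableEq (Fin 3 → ℤ)] (m : ℕ) :
    (⊤ : Submodule k (Tgt (mr k 3 (m + 1)))) =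
      ⨆ α ∈ (Pairs m).image Dm, tPiece (mr k 3 (m + 1)) α := by
  haveI : Module.Finite k (MvPolynomial (Fin 3) k ⧸ mr k 3 (m + 1)) := finite_quot (m + 1)
  symm
  rw [eq_top_iff]
  intro φ _
  obtain ⟨A, hA⟩ := eq_sum_comp (mr k 3 (m + 1)) (isMono (m + 1)) φ
  rw [hA]
  refine Submodule.sum_mem _ (fun α _ => ?_)
  by_cases hbot : tPiece (mr k 3 (m + 1)) α = ⊥
  · have h0 : comp (mr k 3 (m + 1)) (isMono (m + 1)) φ α = 0 := by
      have h := comp_mem (mr k 3 (m + 1)) (isMono (m + 1)) φ α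
      rw [hbot, Submodule.mem_bot] at h
      exact h
    rw [h0]
    exact Submodule.zero_mem _
  · obtain ⟨hd, β, hβ⟩ := exists_of_ne_bot (m + 1) (by norm_num) α hbot
    have hB := (mem_Bset (m + 1) α β).mp hβ
    have hmem : α ∈ (Pairs m).image Dm := by
      rw [Finset.mem_image]
      refine ⟨(β, shift β α), ?_, alphaOf_shift α β hB.2⟩
      unfold Pairs
      rw [Finset.mem_product]
      refine ⟨(mem_Bd _ _).mpr hB.1, (mem_Bd _ _).mpr ?_⟩
      have h := degree_shift α β hB.2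
      rw [hd, hB.1] at h
      show (shift β α).degree = m
      omega
    exact Submodule.mem_iSup_of_mem α (Submodule.mem_iSup_of_mem hmem
      (comp_mem (mr k 3 (m + 1)) (isMono (m + 1)) φ α))

theorem claim3 (k : Type u) [Field k] [Infinite k] (m : ℕ) :
    Module.finrank k (Tgt (mr k 3 (m + 1))) =
      Nat.choose (m + 1 + 2) 2 * Nat.choose (m + 1 + 1) 2 := by
  classical
  have h1 : Module.finrank k (Tgt (mr k 3 (m + 1))) =
      Module.finrank k ↥(⊤ : Submodule k (Tgt (mr k 3 (m + 1)))) :=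
    (finrank_top k (Tgt (mr k 3 (m + 1)))).symm
  rw [h1, top_eq k m]
  have hfd : ∀ α : Fin 3 → ℤ, FiniteDimensional k ↥(tPiece (mr k 3 (m + 1)) α) :=
    fun α => fd_tPiece (m + 1) (by norm_num) α
  rw [(finrank_biSup _ (indep (mr k 3 (m + 1)) (isMono (m + 1))) hfd
    ((Pairs m).image Dm)).2]
  have hcard := Finset.card_eq_sum_card_image Dm (Pairs m)
  have hP : (Pairs m).card = Nat.choose (m + 1 + 2) 2 * Nat.choose (m + 1 + 1) 2 := by
    unfold Pairs
    rw [Finset.card_product, card_Bd3, card_Bd3]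
  rw [← hP, hcard]
  refine Finset.sum_congr rfl ?_
  intro α hα
  rw [Finset.mem_image] at hα
  obtain ⟨⟨β0, γ0⟩, hp, rfl⟩ := hα
  unfold Pairs at hp
  rw [Finset.mem_product, mem_Bd, mem_Bd] at hp
  have hd : ∑ l, Dm (β0, γ0) l = -1 := by
    show ∑ l, alphaOf β0 γ0 l = -1
    rw [sum_alphaOf, hp.1, hp.2]
    push_cast
    ring
  rw [finrank_eq_card (m + 1) _ hd]
  refine Finset.card_bij' (fun β _ => (β, shift β (Dm (β0, γ0)))) (fun p _ => p.1)
    ?_ ?_ ?_ ?_
  · intro β hβ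
    have hB := (mem_Bset (m + 1) _ β).mp hβ
    rw [Finset.mem_filter]
    refine ⟨?_, alphaOf_shift (Dm (β0, γ0)) β hB.2⟩
    unfold Pairs
    rw [Finset.mem_product]
    refine ⟨(mem_Bd _ _).mpr hB.1, (mem_Bd _ _).mpr ?_⟩
    have h := degree_shift (Dm (β0, γ0)) β hB.2
    rw [hd, hB.1] at h
    show (shift β (Dm (β0, γ0))).degree = m
    omega
  · intro p hp'
    rw [Finset.mem_filter] at hp'
    obtain ⟨hp1, hp2⟩ := hp'
    unfold Pairs at hp1
    rw [Finset.mem_product, mem_Bd, mem_Bd] at hp1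
    rw [mem_Bset]
    refine ⟨hp1.1, ?_⟩
    intro l
    rw [← hp2]
    show (0 : ℤ) ≤ (p.1 l : ℤ) + ((p.2 l : ℤ) - (p.1 l : ℤ))
    omega
  · intro β _
    rfl
  · intro p hp'
    rw [Finset.mem_filter] at hp'
    have h2 : shift p.1 (Dm (β0, γ0)) = p.2 := by
      rw [← hp'.2]
      exact shift_alphaOf p.1 p.2
    exact Prod.ext rfl h2

theorem main13442 (k : Type u) [Field k] [Infinite k] (r : ℕ)
    (i : Fin 3) :
    Module.finrank k ↥(sigPiece ((Ideal.span (Set.range (MvPolynomial.X : Fin 3 → MvPolynomial (Fin 3) k))) ^ r) {i}) = Nat.choose (r + 3) 4 ∧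
      Module.finrank k ↥(sigPiece ((Ideal.span (Set.range (MvPolynomial.X : Fin 3 → MvPolynomial (Fin 3) k))) ^ r) ({i}ᶜ : Set (Fin 3))) = Nat.choose (r + 2) 4 ∧
        Module.finrank k (Tgt ((Ideal.span (Set.range (MvPolynomial.X : Fin 3 → MvPolynomial (Fin 3) k))) ^ r)) = Nat.choose (r + 2) 2 * Nat.choose (r + 1) 2 := by
  refine ⟨claim1 k r i, claim2 k r i, ?_⟩
  cases r with
  | zero =>
    have hI : mr k 3 0 = ⊤ := by
      show (Ideal.span (Set.range (X : Fin 3 → MvPolynomial (Fin 3) k))) ^ 0 = ⊤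
      rw [pow_zero, Ideal.one_eq_top]
    haveI : Subsingleton (MvPolynomial (Fin 3) k ⧸ mr k 3 0) :=
      Ideal.Quotient.subsingleton_iff.mpr hI
    haveI : Subsingleton (Tgt (mr k 3 0)) :=
      ⟨fun f g => LinearMap.ext (fun x => Subsingleton.elim _ _)⟩
    have h0 : Module.finrank k (Tgt (mr k 3 0)) = 0 := Module.finrank_zero_of_subsingleton
    exact h0.trans (by decide)
  | succ m => exact claim3 k m

end Groth.Agent.Lib.Helper29.TgtDim
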