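import Groth.Agent.Lib.Helper29.SGA3Quot
import Groth.Agent.Lib.Helper9.FppfSource

/-!
# Helper library (helper29): `(G/H)/(K/H) = G/K` for fppf quotients

* `ocovFppf`, `OCov.sep'`
* `main6056`
-/

set_option autoImplicit false
set_option maxHeartbeats 1600000
universe u
open CategoryTheory CategoryTheory.Limits AlgebraicGeometry MonoidalCategory CartesianMonoidalCategory
  MonObj GrpObj

namespace Groth.Agent.Lib.Helper29.ThirdIso

open Groth.Agent.Lib.Helper29 Groth.Agent.Lib.Helper29.AssocBundle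
  Groth.Agent.Lib.Helper29.SGA3Quot Groth.Agent.Lib.Helper9 Groth.Agent.Lib.Helper29.TorsorComp

noncomputable section

variable {S : Scheme.{u}}

theorem sep' {E Q : Over S} {q : E ⟶ Q} (c : OCov q) {Z C : Over S} (z : Z ⟶ Q) (f g : Z ⟶ C)
    (H : ∀ (T' : Over S) (t : T' ⟶ Z) (e : T' ⟶ E), e ≫ q = t ≫ z → t ≫ f = t ≫ g) : f = g :=
  c.sep z f g (fun l => H _ (c.zz z l) (c.pp z l) (c.pp_q z l))

theorem main6056 {S : Scheme.{u}} {H K G QH Kb : Over S}
    [hH : GrpObj H] [hK : GrpObj K] [hG : GrpObj G] [hKb : GrpObj Kb]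
    (h : H ⟶ K) (k : K ⟶ G) [Mono h] [Mono k] [IsMonHom h] [IsMonHom k]
    (hn : AlgGrp.IsNormalHom h)
    (qH : G ⟶ QH) (hqH : RedSub.IsQuotient (h ≫ k) qH)
    (qKb : K ⟶ Kb) [IsMonHom qKb] (hqKb : RedSub.IsQuotient h qKb)
    (act : QH ⊗ Kb ⟶ QH) (hact : (qH ⊗ₘ qKb) ≫ act = (G ◁ k) ≫ μ[G] ≫ qH) :
    (∀ (QK : Over S) (qK : G ⟶ QK), RedSub.IsQuotient k qK →
      ∀ qbar : QH ⟶ QK, qH ≫ qbar = qK →
        Surjective qbar.left ∧ Flat qbar.left ∧ LocallyOfFinitePresentation qbar.left ∧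
          IsPullback (fst QH Kb) act qbar qbar) ∧
    (∀ (Y : Over S) (p : QH ⟶ Y),
      Surjective p.left → Flat p.left → LocallyOfFinitePresentation p.left →
      IsPullback (fst QH Kb) act p p → RedSub.IsQuotient k (qH ≫ p)) := by
  obtain ⟨hH1, hH2, hH3, sqH⟩ := hqH
  obtain ⟨hK1, hK2, hK3, sqK⟩ := hqKb
  haveI := hH1
  haveI := hH2
  haveI := hH3
  haveI := hK1
  haveI := hK2
  haveI := hK3
  have cH := ocovFppf qH hH1 hH2 hH3
  have cK := ocovFppf qKb hK1 hK2 hK3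
  have hB : ∀ {T : Over S} (a : T ⟶ G) (κ : T ⟶ K),
      lift a κ ≫ ((G ◁ k) ≫ μ[G]) = a * (κ ≫ k) := by
    intro T a κ
    rw [QuotGrp.act_eq, MonObj.comp_mul, lift_fst, ← Category.assoc, lift_snd]
  have hA : ∀ {T : Over S} (a : T ⟶ G) (κ : T ⟶ K),
      lift (a ≫ qH) (κ ≫ qKb) ≫ act = (a * (κ ≫ k)) ≫ qH := by
    intro T a κ
    rw [← lift_map, Category.assoc, hact, ← hB]
    simp only [Category.assoc]
  have F1 : ∀ {T : Over S} (a : T ⟶ G) (κ₁ κ₂ : T ⟶ K),
      (a * (κ₁ ≫ k)) ≫ qH = (a * (κ₂ ≫ k)) ≫ qH → κ₁ ≫ qKb = κ₂ ≫ qKb := by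
    intro T a κ₁ κ₂ e
    obtain ⟨n, hn'⟩ := QuotGrp.exists_of_comp_eq (h ≫ k) qH sqH _ _ e
    have e2 : κ₂ ≫ k = (κ₁ * (n ≫ h)) ≫ k := by
      rw [MonObj.mul_comp, Category.assoc]
      rw [_root_.mul_assoc] at hn'
      exact _root_.mul_left_cancel hn'
    have e3 : κ₂ = κ₁ * (n ≫ h) := (cancel_mono k).1 e2
    rw [e3, QuotGrp.comp_eq_of_eq_mul h qKb sqK]
  -- uniqueness of the `Kb`-point
  have hU0 : ∀ (T : Over S) (a : T ⟶ G) (κ₁ κ₂ : T ⟶ K),
      lift (a ≫ qH) (κ₁ ≫ qKb) ≫ act = lift (a ≫ qH) (κ₂ ≫ qKb) ≫ act →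
      κ₁ ≫ qKb = κ₂ ≫ qKb := by
    intro T a κ₁ κ₂ e
    rw [hA, hA] at e
    exact F1 a κ₁ κ₂ e
  have hU1 : ∀ (T : Over S) (x : T ⟶ QH) (κ₁ κ₂ : T ⟶ K),
      lift x (κ₁ ≫ qKb) ≫ act = lift x (κ₂ ≫ qKb) ≫ act → κ₁ ≫ qKb = κ₂ ≫ qKb := by
    intro T x κ₁ κ₂ e
    refine sep' cH x _ _ (fun T' t a ha => ?_)
    have e' := congrArg (fun f => t ≫ f) e
    simp only [← Category.assoc, comp_lift] at e'
    rw [← ha] at e'
    simp only [Category.assoc] at e'
    have := hU0 T' a (t ≫ κ₁) (t ≫ κ₂) (by simpa only [Category.assoc] using e')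
    simpa only [Category.assoc] using this
  have hU2 : ∀ (T : Over S) (x : T ⟶ QH) (kb₁ : T ⟶ Kb) (κ₂ : T ⟶ K),
      lift x kb₁ ≫ act = lift x (κ₂ ≫ qKb) ≫ act → kb₁ = κ₂ ≫ qKb := by
    intro T x kb₁ κ₂ e
    refine sep' cK kb₁ _ _ (fun T' t κ₁ hκ₁ => ?_)
    have e' := congrArg (fun f => t ≫ f) e
    simp only [← Category.assoc, comp_lift] at e'
    rw [← hκ₁] at e'
    simp only [Category.assoc] at e'
    have := hU1 T' (t ≫ x) κ₁ (t ≫ κ₂) (by simpa only [Category.assoc] using e')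
    rw [← hκ₁, this, Category.assoc]
  have hU : ∀ (T : Over S) (x : T ⟶ QH) (kb₁ kb₂ : T ⟶ Kb),
      lift x kb₁ ≫ act = lift x kb₂ ≫ act → kb₁ = kb₂ := by
    intro T x kb₁ kb₂ e
    refine sep' cK kb₂ _ _ (fun T' t κ₂ hκ₂ => ?_)
    have e' := congrArg (fun f => t ≫ f) e
    simp only [← Category.assoc, comp_lift] at e'
    rw [← hκ₂] at e'
    rw [← hκ₂]
    exact hU2 T' (t ≫ x) (t ≫ kb₁) κ₂ e'
  refine ⟨?_, ?_⟩
  · intro QK qK hqK qbar hbar
    obtain ⟨hQ1, hQ2, hQ3, sqQ⟩ := hqK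
    have hbar' : qH.left ≫ qbar.left = qK.left := congrArg (fun f => f.left) hbar
    haveI : Surjective (qH.left ≫ qbar.left) := by rw [hbar']; exact hQ1
    haveI : Flat (qH.left ≫ qbar.left) := by rw [hbar']; exact hQ2
    haveI : LocallyOfFinitePresentation (qH.left ≫ qbar.left) := by rw [hbar']; exact hQ3
    refine ⟨Surjective.of_comp qH.left qbar.left,
      Groth.Agent.Lib.Helper3.flat_of_flat_comp_of_surjective qH.left qbar.left,
      FppfSource.lfp_of_comp qH.left qbar.left, ?_⟩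
    haveI hepi : Epi (qH ⊗ₘ qKb) := (cH.tensor cK).epi
    have w : fst QH Kb ≫ qbar = act ≫ qbar := by
      rw [← cancel_epi (qH ⊗ₘ qKb)]
      calc (qH ⊗ₘ qKb) ≫ fst QH Kb ≫ qbar = fst G K ≫ qK := by
            rw [← Category.assoc, tensorHom_fst, Category.assoc, hbar]
        _ = ((G ◁ k) ≫ μ[G]) ≫ qK := sqQ.w
        _ = (qH ⊗ₘ qKb) ≫ act ≫ qbar := by
            rw [← Category.assoc (qH ⊗ₘ qKb), hact, ← hbar]
            simp only [Category.assoc]
    refine isPullback_of_existsUnique w (fun T x y hxy => ?_)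
    obtain ⟨kb, hkb⟩ := (cH.tensor cH).exists_of_local (lift x y) (C := Kb)
      (fun T' t kb => lift (t ≫ x) kb ≫ act = t ≫ y)
      (fun T' T'' s t kb hkb => by
        have := congrArg (fun f => s ≫ f) hkb
        simp only [← Category.assoc, comp_lift] at this
        exact this)
      (fun T' t kb₁ kb₂ h1 h2 => hU T' _ kb₁ kb₂ (h1.trans h2.symm))
      (fun l => by
        have hPq : (cH.tensor cH).pp (lift x y) l ≫ (qH ⊗ₘ qH) =
            (cH.tensor cH).zz (lift x y) l ≫ lift x y := (cH.tensor cH).pp_q (lift x y) l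
        generalize (cH.tensor cH).pp (lift x y) l = P at hPq
        generalize (cH.tensor cH).zz (lift x y) l = t at hPq
        have ha : (P ≫ fst G G) ≫ qH = t ≫ x := by
          have := congrArg (fun f => f ≫ fst QH QH) hPq
          simpa only [Category.assoc, tensorHom_fst, lift_fst] using this
        have hb : (P ≫ snd G G) ≫ qH = t ≫ y := by
          have := congrArg (fun f => f ≫ snd QH QH) hPq
          simpa only [Category.assoc, tensorHom_snd, lift_snd] using this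
        have hab : (P ≫ fst G G) ≫ qK = (P ≫ snd G G) ≫ qK := by
          rw [← hbar, ← Category.assoc, ← Category.assoc, ha, hb, Category.assoc, Category.assoc,
            hxy]
        obtain ⟨κ, hκ⟩ := QuotGrp.exists_of_comp_eq k qK sqQ _ _ hab
        refine ⟨κ ≫ qKb, ?_⟩
        show lift (t ≫ x) (κ ≫ qKb) ≫ act = t ≫ y
        rw [← ha, ← hb, hA, hκ])
    have hglob : lift x kb ≫ act = y := by
      refine (cH.tensor cH).sep (lift x y) _ _ (fun l => ?_)
      rw [← Category.assoc, comp_lift]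
      exact hkb l
    refine ⟨lift x kb, ⟨lift_fst _ _, hglob⟩, fun m' hm' => ?_⟩
    have e1 : m' = lift x (m' ≫ snd QH Kb) := by
      apply CartesianMonoidalCategory.hom_ext
      · rw [lift_fst, hm'.1]
      · rw [lift_snd]
    have e2 : m' ≫ snd QH Kb = kb := by
      apply hU T x
      rw [← e1, hm'.2, hglob]
    rw [e1, e2]
  · intro Y p hp1 hp2 hp3 sqY
    haveI := hp1
    haveI := hp2
    haveI := hp3
    refine ⟨?_, ?_, ?_, ?_⟩
    · show Surjective (qH.left ≫ p.left)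
      infer_instance
    · show Flat (qH.left ≫ p.left)
      infer_instance
    · show LocallyOfFinitePresentation (qH.left ≫ p.left)
      infer_instance
    · have w : fst G K ≫ qH ≫ p = ((G ◁ k) ≫ μ[G]) ≫ qH ≫ p := by
        calc fst G K ≫ qH ≫ p = (qH ⊗ₘ qKb) ≫ fst QH Kb ≫ p := by
              rw [← Category.assoc (qH ⊗ₘ qKb), tensorHom_fst, Category.assoc]
          _ = (qH ⊗ₘ qKb) ≫ act ≫ p := by rw [sqY.w]
          _ = ((G ◁ k) ≫ μ[G]) ≫ qH ≫ p := by
              rw [← Category.assoc (qH ⊗ₘ qKb), hact]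
              simp only [Category.assoc]
      refine isPullback_of_existsUnique w (fun T a b hab => ?_)
      have hUk : ∀ (T' : Over S) (a' : T' ⟶ G) (κ κ' : T' ⟶ K),
          a' * (κ ≫ k) = a' * (κ' ≫ k) → κ = κ' := by
        intro T' a' κ κ' e
        exact (cancel_mono k).1 (_root_.mul_left_cancel e)
      have hab' : (a ≫ qH) ≫ p = (b ≫ qH) ≫ p := by
        simpa only [Category.assoc] using hab
      have e1 : sqY.lift _ _ hab' ≫ fst QH Kb = a ≫ qH := sqY.lift_fst _ _ _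
      have e2 : sqY.lift _ _ hab' ≫ act = b ≫ qH := sqY.lift_snd _ _ _
      have e3 : lift (a ≫ qH) (sqY.lift _ _ hab' ≫ snd QH Kb) = sqY.lift _ _ hab' := by
        apply CartesianMonoidalCategory.hom_ext
        · rw [lift_fst, e1]
        · rw [lift_snd]
      have hkb : lift (a ≫ qH) (sqY.lift _ _ hab' ≫ snd QH Kb) ≫ act = b ≫ qH := by
        rw [e3, e2]
      obtain ⟨κ, hκ⟩ := cK.exists_of_local (sqY.lift _ _ hab' ≫ snd QH Kb) (C := K)
        (fun T' t κ => (t ≫ a) * (κ ≫ k) = t ≫ b)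
        (fun T' T'' s t κ hκ => by
          simp only [Category.assoc]
          rw [← MonObj.comp_mul, hκ])
        (fun T' t κ κ' h1 h2 => hUk T' (t ≫ a) κ κ' (h1.trans h2.symm))
        (fun l => by
          set t := cK.zz (sqY.lift _ _ hab' ≫ snd QH Kb) l with ht
          set κ₀ := cK.pp (sqY.lift _ _ hab' ≫ snd QH Kb) l with hκ₀
          have hpq : κ₀ ≫ qKb = t ≫ sqY.lift _ _ hab' ≫ snd QH Kb :=
            cK.pp_q (sqY.lift _ _ hab' ≫ snd QH Kb) l
          have e4 := congrArg (fun f => t ≫ f) hkb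
          simp only [← Category.assoc, comp_lift] at e4
          simp only [Category.assoc] at e4
          rw [← hpq, ← Category.assoc t a qH, hA, ← Category.assoc t b qH] at e4
          obtain ⟨n, hn'⟩ := QuotGrp.exists_of_comp_eq (h ≫ k) qH sqH _ _ e4
          refine ⟨κ₀ * (n ≫ h), ?_⟩
          show (t ≫ a) * ((κ₀ * (n ≫ h)) ≫ k) = t ≫ b
          rw [hn', MonObj.mul_comp, Category.assoc, _root_.mul_assoc])
      have hglob : a * (κ ≫ k) = b := by
        refine cK.sep (sqY.lift _ _ hab' ≫ snd QH Kb) _ _ (fun l => ?_)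
        rw [MonObj.comp_mul, ← Category.assoc]
        exact hκ l
      refine ⟨lift a κ, ⟨lift_fst _ _, (hB a κ).trans hglob⟩, fun m' hm' => ?_⟩
      have e5 : m' = lift a (m' ≫ snd G K) := by
        apply CartesianMonoidalCategory.hom_ext
        · rw [lift_fst, hm'.1]
        · rw [lift_snd]
      have e6 : m' ≫ snd G K = κ := by
        apply hUk T a
        rw [← hB, ← e5, hm'.2, hglob]
      rw [e5, e6]

end

end Groth.Agent.Lib.Helper29.ThirdIso
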