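import Groth.Agent.Lib.Helper29.TorsorPush
import Groth.Prelude.Def_ChGrp
import Groth.Prelude.Def_AlgGrp

/-!
# Helper library (helper29): composition of torsors

* `isPullback_of_existsUnique`: pullback squares from the universal property on points.
* `exists_of_isPullback`, `inj_of_isPullback`: a cartesian action square means the group acts simply transitively on
  the fibres.
* `comp_torsor`: an `N`-torsor followed by a `G/N`-torsor is a `G`-torsor when `G → G/N` is split on points.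
* `locTriv_comp`: composition of fpqc-locally trivial morphisms.
-/

set_option autoImplicit false
set_option maxHeartbeats 1600000
universe u
open CategoryTheory CategoryTheory.Limits AlgebraicGeometry MonoidalCategory CartesianMonoidalCategory
  MonObj GrpObj

namespace Groth.Agent.Lib.Helper29.TorsorComp

open Groth.Agent.Lib.Helper29.InvFun Groth.Agent.Lib.Helper22 Groth.Agent.Lib.Helper29.TorsorPush

noncomputable section

theorem isPullback_of_existsUnique {C : Type*} [Category C] {W X Y Z : C} {fst' : W ⟶ X}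
    {snd' : W ⟶ Y} {f : X ⟶ Z} {g : Y ⟶ Z} (w : fst' ≫ f = snd' ≫ g)
    (h : ∀ (T : C) (x : T ⟶ X) (y : T ⟶ Y), x ≫ f = y ≫ g →
      ∃! m : T ⟶ W, m ≫ fst' = x ∧ m ≫ snd' = y) :
    IsPullback fst' snd' f g := by
  refine ⟨⟨w⟩, ⟨PullbackCone.IsLimit.mk w
    (fun s => (h s.pt s.fst s.snd s.condition).exists.choose) ?_ ?_ ?_⟩⟩
  · intro s
    exact (h s.pt s.fst s.snd s.condition).exists.choose_spec.1
  · intro s
    exact (h s.pt s.fst s.snd s.condition).exists.choose_spec.2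
  · intro s m h1 h2
    exact (h s.pt s.fst s.snd s.condition).unique ⟨h1, h2⟩
      (h s.pt s.fst s.snd s.condition).exists.choose_spec

variable {S : Scheme.{u}}

section Sq

variable {G X Y : Over S} [GrpObj G] (a : AlgGrp.Action G X) (φ : X ⟶ Y)
  (h : IsPullback a.act (snd G X) φ φ)

include h in
theorem exists_of_isPullback {T : Over S} (x₁ x₂ : T ⟶ X) (hx : x₁ ≫ φ = x₂ ≫ φ) :
    ∃ g : T ⟶ G, smul a g x₂ = x₁ := by
  refine ⟨h.lift x₁ x₂ hx ≫ fst G X, ?_⟩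
  have e : lift (h.lift x₁ x₂ hx ≫ fst G X) x₂ = h.lift x₁ x₂ hx := by
    apply CartesianMonoidalCategory.hom_ext
    · rw [lift_fst]
    · rw [lift_snd, h.lift_snd]
  rw [smul_def, e, h.lift_fst]

include h in
theorem inj_of_isPullback {T : Over S} (g g' : T ⟶ G) (x : T ⟶ X)
    (hg : smul a g x = smul a g' x) : g = g' := by
  have e : lift g x = lift g' x := by
    apply h.hom_ext
    · exact hg
    · rw [lift_snd, lift_snd]
  calc g = lift g x ≫ fst G X := (lift_fst _ _).symm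
    _ = lift g' x ≫ fst G X := by rw [e]
    _ = g' := lift_fst _ _

end Sq

theorem comp_torsor {G N Q H X Y Z : Over S} [GrpObj G] [GrpObj N] [GrpObj Q]
    (iN : N ⟶ G) [IsMonHom iN] (q : G ⟶ Q) [IsMonHom q] (hker : AlgGrp.IsKernel iN q)
    (iH : H ⟶ G) [IsIso (iH ≫ q)]
    (a : AlgGrp.Action G X) (φ₁ : X ⟶ Y)
    (h₁ : IsPullback (a.restrict iN).act (snd N X) φ₁ φ₁)
    (aY : AlgGrp.Action Q Y) (hequiv : (q ⊗ₘ φ₁) ≫ aY.act = a.act ≫ φ₁)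
    (φ₂ : Y ⟶ Z) (h₂ : IsPullback aY.act (snd Q Y) φ₂ φ₂) :
    IsPullback a.act (snd G X) (φ₁ ≫ φ₂) (φ₁ ≫ φ₂) := by
  have hker' : IsPullback iN (toUnit N) q η[Q] := hker
  have hE : ∀ {T : Over S} (g : T ⟶ G) (x : T ⟶ X),
      smul a g x ≫ φ₁ = smul aY (g ≫ q) (x ≫ φ₁) := by
    intro T g x
    rw [smul_def, smul_def, Category.assoc, ← hequiv, lift_map_assoc]
  have hres : ∀ {T : Over S} (n : T ⟶ N) (x : T ⟶ X),
      smul (a.restrict iN) n x = smul a (n ≫ iN) x :=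
    fun n x => AlgGrp.Action.lift_restrict_act iN a n x
  have hfree : ∀ {T : Over S} (g g' : T ⟶ G) (x : T ⟶ X),
      smul a g x = smul a g' x → g = g' := by
    intro T g g' x hgx
    have e1 : g ≫ q = g' ≫ q :=
      inj_of_isPullback aY φ₂ h₂ _ _ (x ≫ φ₁) (by rw [← hE, ← hE, hgx])
    have hd : (g' * g⁻¹) ≫ q = 1 := by
      rw [MonObj.mul_comp, GrpObj.inv_comp, e1, mul_inv_cancel]
    obtain ⟨m₀, hm₀⟩ : ∃ m₀ : T ⟶ N, m₀ ≫ iN = g' * g⁻¹ :=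
      ⟨hker'.lift (g' * g⁻¹) (toUnit T) (hd.trans Hom.one_def), hker'.lift_fst _ _ _⟩
    have e2 : smul (a.restrict iN) m₀ (smul a g x) = smul (a.restrict iN) 1 (smul a g x) := by
      rw [hres, hres, hm₀, MonObj.one_comp, pt_one_smul, ← pt_mul_smul, inv_mul_cancel_right, hgx]
    have e3 : m₀ = 1 := inj_of_isPullback (a.restrict iN) φ₁ h₁ _ _ _ e2
    have e4 : g' * g⁻¹ = 1 := by rw [← hm₀, e3, MonObj.one_comp]
    exact (mul_inv_eq_one.mp e4).symm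
  have hw : a.act ≫ φ₁ ≫ φ₂ = snd G X ≫ φ₁ ≫ φ₂ :=
    calc a.act ≫ φ₁ ≫ φ₂ = (a.act ≫ φ₁) ≫ φ₂ := (Category.assoc _ _ _).symm
      _ = ((q ⊗ₘ φ₁) ≫ aY.act) ≫ φ₂ := by rw [hequiv]
      _ = (q ⊗ₘ φ₁) ≫ snd Q Y ≫ φ₂ := by rw [Category.assoc, h₂.w]
      _ = snd G X ≫ φ₁ ≫ φ₂ := by rw [← Category.assoc, tensorHom_snd, Category.assoc]
  refine isPullback_of_existsUnique hw (fun T x₁ x₂ hx => ?_)
  obtain ⟨c, hc⟩ := exists_of_isPullback aY φ₂ h₂ (x₁ ≫ φ₁) (x₂ ≫ φ₁)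
    (by rw [Category.assoc, Category.assoc]; exact hx)
  obtain ⟨g₀, hs⟩ : ∃ g₀ : T ⟶ G, g₀ ≫ q = c :=
    ⟨c ≫ inv (iH ≫ q) ≫ iH, by
      rw [Category.assoc, Category.assoc, IsIso.inv_hom_id, Category.comp_id]⟩
  have h3 : smul a g₀ x₂ ≫ φ₁ = x₁ ≫ φ₁ := by rw [hE, hs, hc]
  obtain ⟨n, hn⟩ := exists_of_isPullback (a.restrict iN) φ₁ h₁ x₁ (smul a g₀ x₂) h3.symm
  have h4 : smul a ((n ≫ iN) * g₀) x₂ = x₁ := by rw [pt_mul_smul, ← hres, hn]
  refine ⟨lift ((n ≫ iN) * g₀) x₂, ⟨h4, lift_snd _ _⟩, fun m hm => ?_⟩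
  obtain ⟨hm1, hm2⟩ := hm
  have e : m = lift (m ≫ fst G X) x₂ := by
    apply CartesianMonoidalCategory.hom_ext
    · rw [lift_fst]
    · rw [lift_snd, hm2]
  have h5 : smul a (m ≫ fst G X) x₂ = x₁ := by rw [smul_def, ← e, hm1]
  exact e.trans (by rw [hfree (m ≫ fst G X) ((n ≫ iN) * g₀) x₂ (h5.trans h4.symm)])

theorem locTriv_comp {X Y Z : Over S} (φ₁ : X ⟶ Y) (φ₂ : Y ⟶ Z)
    (h₁ : NonAbH1.IsLocallyTrivialFor Scheme.fpqcPrecoverage (Over.mk φ₁.left : Over Y.left))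
    (h₂ : NonAbH1.IsLocallyTrivialFor Scheme.fpqcPrecoverage (Over.mk φ₂.left : Over Z.left)) :
    NonAbH1.IsLocallyTrivialFor Scheme.fpqcPrecoverage
      (Over.mk (φ₁ ≫ φ₂).left : Over Z.left) := by
  obtain ⟨c₁⟩ := exists_covSec h₁
  obtain ⟨c₂⟩ := exists_covSec h₂
  refine ⟨_, Precoverage.comp_mem_coverings c₂.π c₂.mem
    (fun l m => pullback.fst (c₂.σ l) (c₁.π m))
    (fun l => Precoverage.mem_coverings_of_isPullback c₁.π c₁.mem (c₂.σ l)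
      (fun m => pullback.fst (c₂.σ l) (c₁.π m)) (fun m => pullback.snd (c₂.σ l) (c₁.π m))
      (fun m => IsPullback.of_hasPullback (c₂.σ l) (c₁.π m))), ?_⟩
  rintro S' f ⟨⟨l, m⟩⟩
  unfold NonAbH1.HasSectionOver
  refine ⟨pullback.snd (c₂.σ l) (c₁.π m) ≫ c₁.σ m, ?_⟩
  have w1 : c₁.σ m ≫ φ₁.left = c₁.π m := c₁.w m
  have w2 : c₂.σ l ≫ φ₂.left = c₂.π l := c₂.w l
  show (pullback.snd (c₂.σ l) (c₁.π m) ≫ c₁.σ m) ≫ (φ₁.left ≫ φ₂.left) =
    pullback.fst (c₂.σ l) (c₁.π m) ≫ c₂.π l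
  calc (pullback.snd (c₂.σ l) (c₁.π m) ≫ c₁.σ m) ≫ (φ₁.left ≫ φ₂.left)
      = pullback.snd (c₂.σ l) (c₁.π m) ≫ (c₁.σ m ≫ φ₁.left) ≫ φ₂.left := by
        simp only [Category.assoc]
    _ = (pullback.snd (c₂.σ l) (c₁.π m) ≫ c₁.π m) ≫ φ₂.left := by rw [w1, Category.assoc]
    _ = (pullback.fst (c₂.σ l) (c₁.π m) ≫ c₂.σ l) ≫ φ₂.left := by rw [pullback.condition]
    _ = pullback.fst (c₂.σ l) (c₁.π m) ≫ c₂.π l := by rw [Category.assoc, w2]

theorem main18977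
    (k : Type u) [Field k] [IsAlgClosed k] [CharZero k]
    (G N Q H X Y Z : Over (Spec (CommRingCat.of k))) [GrpObj G] [GrpObj N] [GrpObj Q] [GrpObj H]
    [IsAffine G.left] [LocallyOfFiniteType G.hom]
    (iN : N ⟶ G) [IsMonHom iN] [IsClosedImmersion iN.left] (hnorm : AlgGrp.IsNormalHom iN)
    (q : G ⟶ Q) [IsMonHom q] (hker : AlgGrp.IsKernel iN q)
    (iH : H ⟶ G) [IsMonHom iH] [IsClosedImmersion iH.left] [IsIso (iH ≫ q)]
    (a : AlgGrp.Action G X) (φ₁ : X ⟶ Y)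
    (h₁ : IsPullback (a.restrict iN).act (snd N X) φ₁ φ₁)
    (h₁loc : NonAbH1.IsLocallyTrivialFor Scheme.fpqcPrecoverage (Over.mk φ₁.left : Over Y.left))
    (aY : AlgGrp.Action Q Y) (hequiv : (q ⊗ₘ φ₁) ≫ aY.act = a.act ≫ φ₁)
    (φ₂ : Y ⟶ Z) (h₂ : IsPullback aY.act (snd Q Y) φ₂ φ₂)
    (h₂loc : NonAbH1.IsLocallyTrivialFor Scheme.fpqcPrecoverage (Over.mk φ₂.left : Over Z.left)) :
    IsPullback a.act (snd G X) (φ₁ ≫ φ₂) (φ₁ ≫ φ₂) ∧
      NonAbH1.IsLocallyTrivialFor Scheme.fpqcPrecoverage (Over.mk (φ₁ ≫ φ₂).left : Over Z.left) :=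
  ⟨comp_torsor iN q hker iH a φ₁ h₁ aY hequiv φ₂ h₂, locTriv_comp φ₁ φ₂ h₁loc h₂loc⟩

end

end Groth.Agent.Lib.Helper29.TorsorComp
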