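import Mathlib

set_option autoImplicit false
universe u v

namespace Groth.Agent.Lib.Helper29.TwistLC

open Polynomial

section
variable {k : Type u} [Field k] {K : Type v} [Field K] [Algebra k K] {r : ℕ}

/-- weight of an exponent vector -/
def wt (m : Fin r →₀ ℕ) : ℕ := ∑ i, m i

variable (g : Fin r → K) (N : ℕ)

/-- the linear factor -/
noncomputable def L (i : Fin r) : Polynomial (MvPolynomial (Fin r) K) :=
  Polynomial.C (MvPolynomial.X i) + Polynomial.C (MvPolynomial.C (g i)) * Polynomial.X ^ N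

noncomputable def Φ : MvPolynomial (Fin r) k →ₐ[k] Polynomial (MvPolynomial (Fin r) K) :=
  MvPolynomial.aeval (fun i : Fin r => L g N i)

lemma L_natDegree_le (i : Fin r) : (L g N i).natDegree ≤ N := by
  unfold L
  refine (natDegree_add_le _ _).trans (max_le ?_ ?_)
  · rw [natDegree_C]; exact Nat.zero_le _
  · exact natDegree_C_mul_X_pow_le _ _

lemma L_coeff (hN : 1 ≤ N) (i : Fin r) : (L g N i).coeff N = MvPolynomial.C (g i) := by
  unfold L
  rw [coeff_add, coeff_C, if_neg (by omega), zero_add, coeff_C_mul, coeff_X_pow, if_pos rfl,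
    mul_one]

lemma prod_top (hN : 1 ≤ N) (m : Fin r →₀ ℕ) (s : Finset (Fin r)) :
    (∏ i ∈ s, L g N i ^ m i).natDegree ≤ (∑ i ∈ s, m i) * N ∧
    (∏ i ∈ s, L g N i ^ m i).coeff ((∑ i ∈ s, m i) * N)
      = MvPolynomial.C (∏ i ∈ s, g i ^ m i) := by
  classical
  induction s using Finset.induction_on with
  | empty => simp
  | insert a s ha ih =>
    rw [Finset.prod_insert ha, Finset.sum_insert ha, Finset.prod_insert ha, add_mul]
    have h1 : (L g N a ^ m a).natDegree ≤ m a * N :=
      natDegree_pow_le_of_le _ (L_natDegree_le g N a)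
    have h2 : (L g N a ^ m a).coeff (m a * N) = MvPolynomial.C (g a ^ m a) := by
      rw [coeff_pow_of_natDegree_le (L_natDegree_le g N a), L_coeff g N hN, map_pow]
    refine ⟨(natDegree_mul_le).trans (add_le_add h1 ih.1), ?_⟩
    rw [coeff_mul_add_eq_of_natDegree_le h1 ih.1, h2, ih.2, map_mul]

lemma Φ_monomial (m : Fin r →₀ ℕ) (a : k) :
    Φ g N (MvPolynomial.monomial m a)
      = Polynomial.C (MvPolynomial.C (algebraMap k K a)) * ∏ i, L g N i ^ m i := by
  unfold Φ
  rw [MvPolynomial.aeval_monomial, Finsupp.prod_fintype _ _ (fun i => pow_zero _)]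
  congr 1

lemma Φ_monomial_top (hN : 1 ≤ N) (m : Fin r →₀ ℕ) (a : k) :
    (Φ g N (MvPolynomial.monomial m a)).natDegree ≤ wt m * N ∧
    (Φ g N (MvPolynomial.monomial m a)).coeff (wt m * N)
      = MvPolynomial.C (algebraMap k K a * ∏ i, g i ^ m i) := by
  rw [Φ_monomial]
  obtain ⟨h1, h2⟩ := prod_top g N hN m Finset.univ
  refine ⟨(natDegree_C_mul_le _ _).trans h1, ?_⟩
  rw [coeff_C_mul, show wt m * N = (∑ i, m i) * N from rfl, h2, map_mul]

lemma Φ_top (hN : 1 ≤ N) (p : MvPolynomial (Fin r) k) (d : ℕ)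
    (hd : ∀ m ∈ p.support, wt m ≤ d) :
    (Φ g N p).natDegree ≤ d * N ∧
    (Φ g N p).coeff (d * N) = MvPolynomial.C (∑ m ∈ p.support.filter (fun m => wt m = d),
        algebraMap k K (p.coeff m) * ∏ i, g i ^ m i) := by
  classical
  have hp : Φ g N p = ∑ m ∈ p.support, Φ g N (MvPolynomial.monomial m (p.coeff m)) := by
    conv_lhs => rw [← MvPolynomial.support_sum_monomial_coeff p]
    rw [map_sum]
  constructor
  · rw [hp]
    refine natDegree_sum_le_of_forall_le _ _ (fun m hm => ?_)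
    exact ((Φ_monomial_top g N hN m _).1).trans (Nat.mul_le_mul_right N (hd m hm))
  · rw [hp, finset_sum_coeff, map_sum, Finset.sum_filter]
    refine Finset.sum_congr rfl fun m hm => ?_
    split_ifs with h
    · rw [← h]; exact (Φ_monomial_top g N hN m _).2
    · apply coeff_eq_zero_of_natDegree_lt
      refine lt_of_le_of_lt (Φ_monomial_top g N hN m _).1 ?_
      have : wt m < d := lt_of_le_of_ne (hd m hm) h
      exact Nat.mul_lt_mul_of_pos_right this (by omega)

end

section
variable {k : Type u} [Field k] {r : ℕ}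

noncomputable def topPart (p : MvPolynomial (Fin r) k) (d : ℕ) : MvPolynomial (Fin r) k :=
  ∑ m ∈ p.support.filter (fun m => wt m = d), MvPolynomial.monomial m (p.coeff m)

lemma aeval_topPart {K : Type v} [Field K] [Algebra k K] (g : Fin r → K)
    (p : MvPolynomial (Fin r) k) (d : ℕ) :
    MvPolynomial.aeval g (topPart p d) = ∑ m ∈ p.support.filter (fun m => wt m = d),
        algebraMap k K (p.coeff m) * ∏ i, g i ^ m i := by
  unfold topPart
  rw [map_sum]
  refine Finset.sum_congr rfl fun m _ => ?_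
  rw [MvPolynomial.aeval_monomial, Finsupp.prod_fintype _ _ (fun i => pow_zero _)]

lemma topPart_ne_zero (p : MvPolynomial (Fin r) k) (d : ℕ) (m : Fin r →₀ ℕ)
    (hm : m ∈ p.support) (hmd : wt m = d) : topPart p d ≠ 0 := by
  classical
  intro h
  have h1 : (topPart p d).coeff m = p.coeff m := by
    unfold topPart
    rw [MvPolynomial.coeff_sum]
    simp only [MvPolynomial.coeff_monomial]
    rw [Finset.sum_ite_eq', if_pos (Finset.mem_filter.mpr ⟨hm, hmd⟩)]
  rw [h, MvPolynomial.coeff_zero] at h1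
  exact (MvPolynomial.mem_support_iff.mp hm) h1.symm

end

section
variable {k : Type u} [Field k] {K : Type v} [Field K] [Algebra k K] {r : ℕ}
variable (g : Fin r → K) (N : ℕ)

lemma main_aux (hN : 1 ≤ N) (f : Polynomial (MvPolynomial (Fin r) k)) (hNf : f.natDegree < N)
    (dg : ℕ → ℕ) (hdg : ∀ j, ∀ m ∈ (f.coeff j).support, wt m ≤ dg j)
    (D J : ℕ) (hJ : J ≤ f.natDegree)
    (hD : ∀ j, f.coeff j ≠ 0 → dg j ≤ D)
    (hJD : dg J = D)
    (hJmax : ∀ j, f.coeff j ≠ 0 → dg j = D → j ≤ J)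
    (hc : MvPolynomial.aeval g (topPart (f.coeff J) D) ≠ 0) :
    (Polynomial.eval₂ (Φ g N).toRingHom Polynomial.X f).leadingCoeff
      = MvPolynomial.C (MvPolynomial.aeval g (topPart (f.coeff J) D)) := by
  classical
  have hF : Polynomial.eval₂ (Φ g N).toRingHom Polynomial.X f
      = ∑ j ∈ Finset.range (f.natDegree + 1), Φ g N (f.coeff j) * Polynomial.X ^ j := by
    rw [eval₂_eq_sum_range]; rfl
  have hcoef : ∀ M, J + D * N ≤ M →
      (Polynomial.eval₂ (Φ g N).toRingHom Polynomial.X f).coeff M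
        = if M = J + D * N then MvPolynomial.C (MvPolynomial.aeval g (topPart (f.coeff J) D))
          else 0 := by
    intro M hM
    rw [hF, finset_sum_coeff, Finset.sum_eq_single J]
    · rw [coeff_mul_X_pow', if_pos (by omega : J ≤ M)]
      obtain ⟨h1, h2⟩ := Φ_top g N hN (f.coeff J) D (fun m hm => hJD ▸ hdg J m hm)
      split_ifs with hMeq
      · rw [hMeq, Nat.add_sub_cancel_left, h2, aeval_topPart]
      · apply coeff_eq_zero_of_natDegree_lt; omega
    · intro j hj hjJ
      rw [coeff_mul_X_pow']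
      split_ifs with hjM
      · by_cases hfj : f.coeff j = 0
        · rw [hfj, map_zero, coeff_zero]
        · have hjn : j ≤ f.natDegree := by have := Finset.mem_range.mp hj; omega
          obtain ⟨h1, -⟩ := Φ_top g N hN (f.coeff j) (dg j) (hdg j)
          apply coeff_eq_zero_of_natDegree_lt
          refine lt_of_le_of_lt h1 ?_
          rcases lt_or_eq_of_le (hD j hfj) with hlt | heq
          · have : dg j * N + N ≤ D * N := by
              have := Nat.mul_le_mul_right N (show dg j + 1 ≤ D from hlt)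
              rw [add_mul, one_mul] at this; exact this
            omega
          · have := hJmax j hfj heq
            rw [heq]; omega
      · rfl
    · intro hJ'; exact absurd (Finset.mem_range.mpr (by omega)) hJ'
  have hle : (Polynomial.eval₂ (Φ g N).toRingHom Polynomial.X f).natDegree ≤ J + D * N :=
    natDegree_le_iff_coeff_eq_zero.mpr
      (fun M hM => by rw [hcoef M hM.le, if_neg (by omega)])
  have hne : (Polynomial.eval₂ (Φ g N).toRingHom Polynomial.X f).coeff (J + D * N) ≠ 0 := by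
    rw [hcoef _ le_rfl, if_pos rfl]
    exact (map_ne_zero_iff _ (MvPolynomial.C_injective _ _)).mpr hc
  have hdeg := natDegree_eq_of_le_of_coeff_ne_zero hle hne
  rw [leadingCoeff, hdeg, hcoef _ le_rfl, if_pos rfl]

end

theorem main15078
    {k : Type u} [Field k] [Infinite k] [PerfectField k] (r m : ℕ) (hr : 1 ≤ r) (hm : 1 ≤ m)
    (f : Polynomial (MvPolynomial (Fin r) k)) (hf : f ≠ 0) :
    ∃ h : MvPolynomial (Fin r) k, h ≠ 0 ∧ ∃ s₀ : ℕ, ∀ s : ℕ, s₀ ≤ s →
      ∀ (K : Type v) [Field K] [Algebra k K] (g : Fin r → K), MvPolynomial.aeval g h ≠ 0 →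
        ∃ c : K, c ≠ 0 ∧
          (Polynomial.eval₂ (MvPolynomial.aeval (fun i : Fin r => Polynomial.C (MvPolynomial.X i) + Polynomial.C (MvPolynomial.C (g i)) * Polynomial.X ^ (s * (m + 1))) : MvPolynomial (Fin r) k →ₐ[k] Polynomial (MvPolynomial (Fin r) K)).toRingHom Polynomial.X f).leadingCoeff = MvPolynomial.C c := by
  classical
  obtain ⟨dg, hdgdef⟩ : ∃ dg : ℕ → ℕ, dg = fun j => (f.coeff j).support.sup wt := ⟨_, rfl⟩
  have hdg : ∀ j, ∀ m ∈ (f.coeff j).support, wt m ≤ dg j := by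
    intro j m hm; rw [hdgdef]; exact Finset.le_sup (f := wt) hm
  obtain ⟨S, hSdef⟩ : ∃ S : Finset ℕ,
      S = (Finset.range (f.natDegree + 1)).filter (fun j => f.coeff j ≠ 0) := ⟨_, rfl⟩
  have hmemS : ∀ j, j ∈ S ↔ f.coeff j ≠ 0 := by
    intro j
    rw [hSdef, Finset.mem_filter, Finset.mem_range]
    constructor
    · exact fun h => h.2
    · exact fun h => ⟨Nat.lt_succ_of_le (le_natDegree_of_ne_zero h), h⟩
  have hSne : S.Nonempty :=
    ⟨f.natDegree, (hmemS _).mpr (by rw [coeff_natDegree]; exact leadingCoeff_ne_zero.mpr hf)⟩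
  obtain ⟨j0, hj0S, hj0⟩ := Finset.exists_mem_eq_sup S hSne dg
  obtain ⟨D, hDdef⟩ : ∃ D, D = S.sup dg := ⟨_, rfl⟩
  obtain ⟨S', hS'def⟩ : ∃ S' : Finset ℕ, S' = S.filter (fun j => dg j = D) := ⟨_, rfl⟩
  have hS'ne : S'.Nonempty := ⟨j0, by rw [hS'def, Finset.mem_filter, hDdef]; exact ⟨hj0S, hj0.symm⟩⟩
  obtain ⟨J, hJdef⟩ : ∃ J, J = S'.max' hS'ne := ⟨_, rfl⟩
  have hJS' : J ∈ S' := by rw [hJdef]; exact Finset.max'_mem _ _
  rw [hS'def, Finset.mem_filter] at hJS'
  have hfJ : f.coeff J ≠ 0 := (hmemS J).mp hJS'.1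
  have hJD : dg J = D := hJS'.2
  have hD : ∀ j, f.coeff j ≠ 0 → dg j ≤ D := by
    intro j hj; rw [hDdef]; exact Finset.le_sup (f := dg) ((hmemS j).mpr hj)
  have hJmax : ∀ j, f.coeff j ≠ 0 → dg j = D → j ≤ J := by
    intro j hj hjD
    rw [hJdef]
    apply Finset.le_max'
    rw [hS'def, Finset.mem_filter]
    exact ⟨(hmemS j).mpr hj, hjD⟩
  have hJn : J ≤ f.natDegree := le_natDegree_of_ne_zero hfJ
  have hsuppne : (f.coeff J).support.Nonempty := by
    rw [Finset.nonempty_iff_ne_empty, Ne, MvPolynomial.support_eq_empty]; exact hfJ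
  obtain ⟨m0, hm0, hm0sup⟩ := Finset.exists_mem_eq_sup _ hsuppne wt
  have hm0D : wt m0 = D := by rw [← hJD, hdgdef]; exact hm0sup.symm
  refine ⟨topPart (f.coeff J) D, topPart_ne_zero _ _ m0 hm0 hm0D, f.natDegree + 1, ?_⟩
  intro s hs K _ _ g hgh
  have hN1 : f.natDegree + 1 ≤ s * (m + 1) :=
    hs.trans (Nat.le_mul_of_pos_right s (by omega))
  refine ⟨MvPolynomial.aeval g (topPart (f.coeff J) D), hgh, ?_⟩
  exact main_aux g (s * (m + 1)) (by omega) f (by omega) dg hdg D J hJn hD hJD hJmax hgh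

end Groth.Agent.Lib.Helper29.TwistLC
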