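import Mathlib
import Groth.Agent.Lib.Helper29.TwistLC

set_option autoImplicit false
universe u v

namespace Groth.Agent.Lib.Helper29.TwistLC2

open Polynomial
open Groth.Agent.Lib.Helper29.TwistLC

section
variable {k : Type u} [Field k] {K : Type v} [Field K] [Algebra k K] {r : ℕ}
variable (g : Fin r → K) (N : ℕ)

lemma main_aux_deg (hN : 1 ≤ N) (f : Polynomial (MvPolynomial (Fin r) k)) (hNf : f.natDegree < N)
    (dg : ℕ → ℕ) (hdg : ∀ j, ∀ m ∈ (f.coeff j).support, wt m ≤ dg j)
    (D J : ℕ) (hJ : J ≤ f.natDegree)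
    (hD : ∀ j, f.coeff j ≠ 0 → dg j ≤ D)
    (hJD : dg J = D)
    (hJmax : ∀ j, f.coeff j ≠ 0 → dg j = D → j ≤ J)
    (hc : MvPolynomial.aeval g (topPart (f.coeff J) D) ≠ 0) :
    (Polynomial.eval₂ (Φ g N).toRingHom Polynomial.X f).natDegree = J + D * N := by
  classical
  have hF : Polynomial.eval₂ (Φ g N).toRingHom Polynomial.X f
      = ∑ j ∈ Finset.range (f.natDegree + 1), Φ g N (f.coeff j) * Polynomial.X ^ j := by
    rw [eval₂_eq_sum_range]; rfl
  have hcoef : ∀ M, J + D * N ≤ M →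
      (Polynomial.eval₂ (Φ g N).toRingHom Polynomial.X f).coeff M
        = if M = J + D * N then MvPolynomial.C (MvPolynomial.aeval g (topPart (f.coeff J) D))
          else 0 := by
    intro M hM
    rw [hF, finset_sum_coeff, Finset.sum_eq_single J]
    · rw [coeff_mul_X_pow', if_pos (by omega : J ≤ M)]
      obtain ⟨h1, h2⟩ := Φ_top g N hN (f.coeff J) D (fun m hm => hJD ▸ hdg J m hm)
      split_ifs with hMeq
      · rw [hMeq, Nat.add_sub_cancel_left, h2, aeval_topPart]
      · apply coeff_eq_zero_of_natDegree_lt; omega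
    · intro j hj hjJ
      rw [coeff_mul_X_pow']
      split_ifs with hjM
      · by_cases hfj : f.coeff j = 0
        · rw [hfj, map_zero, coeff_zero]
        · have hjn : j ≤ f.natDegree := by have := Finset.mem_range.mp hj; omega
          obtain ⟨h1, -⟩ := Φ_top g N hN (f.coeff j) (dg j) (hdg j)
          apply coeff_eq_zero_of_natDegree_lt
          refine lt_of_le_of_lt h1 ?_
          rcases lt_or_eq_of_le (hD j hfj) with hlt | heq
          · have : dg j * N + N ≤ D * N := by
              have := Nat.mul_le_mul_right N (show dg j + 1 ≤ D from hlt)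
              rw [add_mul, one_mul] at this; exact this
            omega
          · have := hJmax j hfj heq
            rw [heq]; omega
      · rfl
    · intro hJ'; exact absurd (Finset.mem_range.mpr (by omega)) hJ'
  have hle : (Polynomial.eval₂ (Φ g N).toRingHom Polynomial.X f).natDegree ≤ J + D * N :=
    natDegree_le_iff_coeff_eq_zero.mpr
      (fun M hM => by rw [hcoef M hM.le, if_neg (by omega)])
  have hne : (Polynomial.eval₂ (Φ g N).toRingHom Polynomial.X f).coeff (J + D * N) ≠ 0 := by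
    rw [hcoef _ le_rfl, if_pos rfl]
    exact (map_ne_zero_iff _ (MvPolynomial.C_injective _ _)).mpr hc
  exact natDegree_eq_of_le_of_coeff_ne_zero hle hne

end

lemma finite_inj {R : Type*} [CommRing R] [IsDomain R] (F : Polynomial R) (c : R) (hc : IsUnit c)
    (hlc : F.leadingCoeff = c) (hdeg : 1 ≤ F.natDegree) :
    Module.Finite R (Polynomial R ⧸ Ideal.span {F}) ∧
    Function.Injective
      ((Ideal.Quotient.mk (Ideal.span {F})).comp (algebraMap R (Polynomial R))) := by
  constructor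
  · obtain ⟨u, hu⟩ := hc
    have hmonic : (Polynomial.C (↑u⁻¹ : R) * F).Monic := by
      apply Polynomial.monic_C_mul_of_mul_leadingCoeff_eq_one
      rw [hlc, ← hu]; exact Units.inv_mul u
    have hI : Ideal.span {Polynomial.C (↑u⁻¹ : R) * F} = Ideal.span {F} :=
      Ideal.span_singleton_mul_left_unit (Polynomial.isUnit_C.mpr (Units.isUnit _)) F
    have := hmonic.finite_quotient
    exact hI ▸ this
  · have hFne : F ≠ 0 := by rintro rfl; simp at hdeg
    have hF0 : F.degree ≠ 0 := by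
      rw [Polynomial.degree_eq_natDegree hFne]
      exact_mod_cast (by omega : F.natDegree ≠ 0)
    exact AdjoinRoot.of.injective_of_degree_ne_zero hF0

theorem main15079
    {k : Type u} [Field k] [Infinite k] [PerfectField k] (r m : ℕ) (hr : 1 ≤ r) (hm : 1 ≤ m)
    (f : Polynomial (MvPolynomial (Fin r) k)) (hirr : Irreducible f) (h0 : IsUnit (f.coeff 0)) :
    ∃ h : MvPolynomial (Fin r) k, h ≠ 0 ∧ ∃ s₀ : ℕ, ∀ s : ℕ, s₀ ≤ s →
      ∀ (K : Type v) [Field K] [Algebra k K] (g : Fin r → K), MvPolynomial.aeval g h ≠ 0 →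
        ∀ F : Polynomial (MvPolynomial (Fin r) K),
          F = Polynomial.eval₂ (MvPolynomial.aeval (fun i : Fin r => Polynomial.C (MvPolynomial.X i) + Polynomial.C (MvPolynomial.C (g i)) * Polynomial.X ^ (s * (m + 1))) : MvPolynomial (Fin r) k →ₐ[k] Polynomial (MvPolynomial (Fin r) K)).toRingHom Polynomial.X f →
          Module.Finite (MvPolynomial (Fin r) K) (Polynomial (MvPolynomial (Fin r) K) ⧸ Ideal.span {F}) ∧
          Function.Injective ((Ideal.Quotient.mk (Ideal.span {F})).comp (algebraMap (MvPolynomial (Fin r) K) (Polynomial (MvPolynomial (Fin r) K)))) := by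
  classical
  have hf : f ≠ 0 := hirr.ne_zero
  have hfdeg : 1 ≤ f.natDegree := by
    by_contra hcon
    have h0' : f.natDegree = 0 := by omega
    have : f = Polynomial.C (f.coeff 0) := Polynomial.eq_C_of_natDegree_eq_zero h0'
    apply hirr.not_isUnit
    rw [this]; exact Polynomial.isUnit_C.mpr h0
  obtain ⟨dg, hdgdef⟩ : ∃ dg : ℕ → ℕ, dg = fun j => (f.coeff j).support.sup wt := ⟨_, rfl⟩
  have hdg : ∀ j, ∀ m ∈ (f.coeff j).support, wt m ≤ dg j := by
    intro j m hm; rw [hdgdef]; exact Finset.le_sup (f := wt) hm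
  obtain ⟨S, hSdef⟩ : ∃ S : Finset ℕ,
      S = (Finset.range (f.natDegree + 1)).filter (fun j => f.coeff j ≠ 0) := ⟨_, rfl⟩
  have hmemS : ∀ j, j ∈ S ↔ f.coeff j ≠ 0 := by
    intro j
    rw [hSdef, Finset.mem_filter, Finset.mem_range]
    constructor
    · exact fun h => h.2
    · exact fun h => ⟨Nat.lt_succ_of_le (le_natDegree_of_ne_zero h), h⟩
  have hlcne : f.coeff f.natDegree ≠ 0 := by
    rw [coeff_natDegree]; exact leadingCoeff_ne_zero.mpr hf
  have hSne : S.Nonempty := ⟨f.natDegree, (hmemS _).mpr hlcne⟩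
  obtain ⟨j0, hj0S, hj0⟩ := Finset.exists_mem_eq_sup S hSne dg
  obtain ⟨D, hDdef⟩ : ∃ D, D = S.sup dg := ⟨_, rfl⟩
  obtain ⟨S', hS'def⟩ : ∃ S' : Finset ℕ, S' = S.filter (fun j => dg j = D) := ⟨_, rfl⟩
  have hS'ne : S'.Nonempty :=
    ⟨j0, by rw [hS'def, Finset.mem_filter, hDdef]; exact ⟨hj0S, hj0.symm⟩⟩
  obtain ⟨J, hJdef⟩ : ∃ J, J = S'.max' hS'ne := ⟨_, rfl⟩
  have hJS' : J ∈ S' := by rw [hJdef]; exact Finset.max'_mem _ _
  rw [hS'def, Finset.mem_filter] at hJS'
  have hfJ : f.coeff J ≠ 0 := (hmemS J).mp hJS'.1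
  have hJD : dg J = D := hJS'.2
  have hD : ∀ j, f.coeff j ≠ 0 → dg j ≤ D := by
    intro j hj; rw [hDdef]; exact Finset.le_sup (f := dg) ((hmemS j).mpr hj)
  have hJmax : ∀ j, f.coeff j ≠ 0 → dg j = D → j ≤ J := by
    intro j hj hjD
    rw [hJdef]
    apply Finset.le_max'
    rw [hS'def, Finset.mem_filter]
    exact ⟨(hmemS j).mpr hj, hjD⟩
  have hJn : J ≤ f.natDegree := le_natDegree_of_ne_zero hfJ
  have hsuppne : (f.coeff J).support.Nonempty := by
    rw [Finset.nonempty_iff_ne_empty, Ne, MvPolynomial.support_eq_empty]; exact hfJ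
  obtain ⟨m0, hm0, hm0sup⟩ := Finset.exists_mem_eq_sup _ hsuppne wt
  have hm0D : wt m0 = D := by rw [← hJD, hdgdef]; exact hm0sup.symm
  refine ⟨topPart (f.coeff J) D, topPart_ne_zero _ _ m0 hm0 hm0D, f.natDegree + 1, ?_⟩
  intro s hs K _ _ g hgh F hF
  have hN1 : f.natDegree + 1 ≤ s * (m + 1) :=
    hs.trans (Nat.le_mul_of_pos_right s (by omega))
  have hlc := main_aux g (s * (m + 1)) (by omega) f (by omega) dg hdg D J hJn hD hJD hJmax hgh
  have hdeg := main_aux_deg g (s * (m + 1)) (by omega) f (by omega) dg hdg D J hJn hD hJD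
    hJmax hgh
  subst hF
  refine finite_inj _ (MvPolynomial.C (MvPolynomial.aeval g (topPart (f.coeff J) D)))
    ((IsUnit.mk0 _ hgh).map MvPolynomial.C) hlc ?_
  refine le_of_le_of_eq ?_ hdeg.symm
  rcases Nat.eq_zero_or_pos D with hD0 | hDpos
  · have h1 : dg f.natDegree = D := by have := hD f.natDegree hlcne; omega
    have := hJmax f.natDegree hlcne h1
    omega
  · have : s * (m + 1) ≤ D * (s * (m + 1)) := Nat.le_mul_of_pos_left _ hDpos
    omega

end Groth.Agent.Lib.Helper29.TwistLC2
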