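import Mathlib
import Groth.Prelude.Def_AlgGrp

/-!
# The unit group of an algebraic monoid is of finite type (S18830)
-/

set_option autoImplicit false
set_option maxHeartbeats 1600000
set_option linter.style.haveILetI false
universe u

open CategoryTheory MonoidalCategory CartesianMonoidalCategory MonObj AlgebraicGeometry

noncomputable section

namespace Groth.Agent.Lib.Helper29.UnitGrpFT

variable {S : Scheme.{u}} (M : Over S) [MonObj M]

/-- `(a, b) ↦ (ab, ba)` -/
def uMap : M ⊗ M ⟶ M ⊗ M :=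
  lift (CartesianMonoidalCategory.fst M M * CartesianMonoidalCategory.snd M M)
    (CartesianMonoidalCategory.snd M M * CartesianMonoidalCategory.fst M M)

/-- the point `(1, 1)` -/
def eMap : 𝟙_ (Over S) ⟶ M ⊗ M := lift 1 1

theorem hu {T : Over S} (q : T ⟶ M ⊗ M) :
    q ≫ uMap M = toUnit T ≫ eMap M ↔
      (q ≫ CartesianMonoidalCategory.fst M M) * (q ≫ CartesianMonoidalCategory.snd M M) = 1 ∧
      (q ≫ CartesianMonoidalCategory.snd M M) * (q ≫ CartesianMonoidalCategory.fst M M) = 1 := by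
  have e1 : q ≫ uMap M = lift ((q ≫ CartesianMonoidalCategory.fst M M) *
      (q ≫ CartesianMonoidalCategory.snd M M))
      ((q ≫ CartesianMonoidalCategory.snd M M) * (q ≫ CartesianMonoidalCategory.fst M M)) := by
    simp only [uMap, comp_lift, MonObj.comp_mul]
  have e2 : toUnit T ≫ eMap M = lift 1 1 := by
    simp only [eMap, comp_lift, MonObj.comp_one]
  rw [e1, e2]
  constructor
  · intro h
    have h1 := congrArg (fun f => f ≫ CartesianMonoidalCategory.fst M M) h
    have h2 := congrArg (fun f => f ≫ CartesianMonoidalCategory.snd M M) h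
    simp only [lift_fst, lift_snd] at h1 h2
    exact ⟨h1, h2⟩
  · rintro ⟨h1, h2⟩
    rw [h1, h2]

theorem cond {T : Over S} (g : T ⟶ Limits.pullback (uMap M) (eMap M)) :
    (g ≫ Limits.pullback.fst (uMap M) (eMap M)) ≫ uMap M = toUnit T ≫ eMap M := by
  rw [Category.assoc, Limits.pullback.condition, ← Category.assoc]
  congr 1
  exact toUnit_unique _ _

instance mono_p : Mono (Limits.pullback.fst (uMap M) (eMap M) ≫
    CartesianMonoidalCategory.fst M M) := by
  constructor
  intro T g₁ g₂ h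
  have c₁ := (hu M (g₁ ≫ Limits.pullback.fst (uMap M) (eMap M))).mp (cond M g₁)
  have c₂ := (hu M (g₂ ≫ Limits.pullback.fst (uMap M) (eMap M))).mp (cond M g₂)
  simp only [Category.assoc] at h c₁ c₂
  apply Limits.pullback.hom_ext
  · apply CartesianMonoidalCategory.hom_ext
    · simpa only [Category.assoc] using h
    · simp only [Category.assoc]
      set a₁ := g₁ ≫ Limits.pullback.fst (uMap M) (eMap M) ≫ CartesianMonoidalCategory.fst M M
      set a₂ := g₂ ≫ Limits.pullback.fst (uMap M) (eMap M) ≫ CartesianMonoidalCategory.fst M M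
      set b₁ := g₁ ≫ Limits.pullback.fst (uMap M) (eMap M) ≫ CartesianMonoidalCategory.snd M M
      set b₂ := g₂ ≫ Limits.pullback.fst (uMap M) (eMap M) ≫ CartesianMonoidalCategory.snd M M
      have ha : a₁ = a₂ := h
      calc b₁ = b₁ * (a₂ * b₂) := by rw [c₂.1, _root_.mul_one]
        _ = (b₁ * a₁) * b₂ := by rw [ha, _root_.mul_assoc]
        _ = b₂ := by rw [c₁.2, _root_.one_mul]
  · exact toUnit_unique _ _

theorem exists_iso {G : Over S} (i : G ⟶ M) [Mono i]
    (hi : ∀ (T : Over S) (m : T ⟶ M), (∃ g : T ⟶ G, g ≫ i = m) ↔ IsUnit m) :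
    ∃ c : G ⟶ Limits.pullback (uMap M) (eMap M), IsIso c := by
  obtain ⟨p, hp⟩ : ∃ p : Limits.pullback (uMap M) (eMap M) ⟶ M,
      p = Limits.pullback.fst (uMap M) (eMap M) ≫ CartesianMonoidalCategory.fst M M := ⟨_, rfl⟩
  haveI : Mono p := hp ▸ mono_p M
  have hc := (hu M (𝟙 _ ≫ Limits.pullback.fst (uMap M) (eMap M))).mp (cond M (𝟙 _))
  rw [Category.id_comp] at hc
  obtain ⟨g, hg⟩ := (hi _ p).mpr ⟨⟨p, _, hp ▸ hc.1, hp ▸ hc.2⟩, rfl⟩
  obtain ⟨w, hw⟩ := (hi G i).mp ⟨𝟙 G, Category.id_comp i⟩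
  have hq : lift (w : G ⟶ M) ((w⁻¹ : (G ⟶ M)ˣ) : G ⟶ M) ≫ uMap M = toUnit G ≫ eMap M := by
    rw [hu]
    simp only [lift_fst, lift_snd]
    exact ⟨w.mul_inv, w.inv_mul⟩
  obtain ⟨c, hcdef⟩ : ∃ c : G ⟶ Limits.pullback (uMap M) (eMap M),
      c = Limits.pullback.lift _ _ hq := ⟨_, rfl⟩
  have hcp : c ≫ p = i := by
    rw [hcdef, hp, Limits.pullback.lift_fst_assoc, lift_fst, hw]
  have hcg : c ≫ g = 𝟙 G := by
    rw [← cancel_mono i, Category.assoc, hg, hcp, Category.id_comp]
  have hgc : g ≫ c = 𝟙 _ := by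
    rw [← cancel_mono p, Category.assoc, hcp, hg, Category.id_comp]
  exact ⟨c, ⟨g, hcg, hgc⟩⟩

theorem main18830 (k : Type u) [Field k]
    (M G : Over (Spec (CommRingCat.of k))) [MonObj M] [LocallyOfFiniteType M.hom]
    [QuasiCompact M.hom]
    (i : G ⟶ M) [Mono i]
    (hi : ∀ (T : Over (Spec (CommRingCat.of k))) (m : T ⟶ M),
      (∃ g : T ⟶ G, g ≫ i = m) ↔ IsUnit m) :
    LocallyOfFiniteType G.hom ∧ QuasiCompact G.hom := by
  obtain ⟨c, hc⟩ := exists_iso M i hi
  haveI : IsIso c.left := (Over.forget _).map_isIso c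
  haveI : LocallyOfFiniteType (M ⊗ M).hom := by rw [Over.tensorObj_hom]; infer_instance
  haveI : QuasiCompact (M ⊗ M).hom := by rw [Over.tensorObj_hom]; infer_instance
  have hpb : IsPullback (Limits.pullback.fst (uMap M) (eMap M)).left
      (Limits.pullback.snd (uMap M) (eMap M)).left (uMap M).left (eMap M).left :=
    (IsPullback.of_hasPullback (uMap M) (eMap M)).map (Over.forget _)
  have heS : (eMap M).left ≫ (M ⊗ M).hom = 𝟙 _ := by
    rw [Over.w (eMap M)]
    rfl
  haveI : LocallyOfFiniteType (eMap M).left := by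
    haveI : LocallyOfFiniteType ((eMap M).left ≫ (M ⊗ M).hom) := by rw [heS]; infer_instance
    exact locallyOfFiniteType_of_comp (eMap M).left (M ⊗ M).hom
  haveI : QuasiCompact (eMap M).left :=
    @quasiCompact_of_noetherianSpace_source _ _
      (show TopologicalSpace.NoetherianSpace ↥(Spec (CommRingCat.of k)) from inferInstance)
      (eMap M).left
  haveI : LocallyOfFiniteType (Limits.pullback.fst (uMap M) (eMap M)).left :=
    MorphismProperty.of_isPullback (P := @LocallyOfFiniteType) hpb.flip inferInstance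
  haveI : QuasiCompact (Limits.pullback.fst (uMap M) (eMap M)).left :=
    MorphismProperty.of_isPullback (P := @QuasiCompact) hpb.flip inferInstance
  have hP : (Limits.pullback (uMap M) (eMap M)).hom =
      (Limits.pullback.fst (uMap M) (eMap M)).left ≫ (M ⊗ M).hom :=
    (Over.w (Limits.pullback.fst (uMap M) (eMap M))).symm
  have hG : G.hom = c.left ≫ (Limits.pullback (uMap M) (eMap M)).hom := (Over.w c).symm
  rw [hG, hP]
  exact ⟨inferInstance, inferInstance⟩

end Groth.Agent.Lib.Helper29.UnitGrpFT
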