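import Mathlib
import Groth.Prelude.Def_W4bk4git07Quot
import Groth.Agent.Lib.Helper28.GIT2.GeomQuotDescent3
import Groth.Agent.Lib.Helper28.CatQuot.Orbit

/-!
# Helper library (helper29): universal categorical quotients

A universal categorical quotient `φ : X ⟶ Y` is surjective, `O_Y` is the sheaf of invariant
functions, and it is a universal geometric quotient iff it is universally submersive and
`(σ, p₂)` is surjective onto `X ×_Y X`.

* `exists_action_baseChange`: the induced action on a base change.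
* `univCatQuot_baseChange`: a base change of a universal categorical quotient is one.
* `surjective_of_univCatQuot`: base change to a point and two maps to a disjoint union.
* `sections_of_univCatQuot`: base change to an open and maps to the affine line.
* `surjective_psiY_baseChange`: `(σ, p₂)` surjective is stable under base change.
-/

set_option autoImplicit false
set_option maxHeartbeats 1600000
universe u
open CategoryTheory CategoryTheory.Limits AlgebraicGeometry MonoidalCategory CartesianMonoidalCategory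
  MonObj TopologicalSpace

namespace Groth.Agent.Lib.Helper29.UnivCatQuot

open Groth.Agent.Lib.Helper28.CatQuot Groth.Agent.Lib.Helper28.BalProdClosed

noncomputable section

variable {S : Scheme.{u}} {G : Over S} [GrpObj G]

/-- the induced action on a base change -/
theorem exists_action_baseChange {X Y X' Y' : Over S} (a : AlgGrp.Action G X) (φ : X ⟶ Y)
    (hinv : GIT.IsInvariant a φ) (pr : X' ⟶ X) (φ' : X' ⟶ Y') (g : Y' ⟶ Y)
    (hpb : IsPullback pr φ' φ g) :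
    ∃ a' : AlgGrp.Action G X', a'.act ≫ pr = (G ◁ pr) ≫ a.act ∧ GIT.IsInvariant a' φ' := by
  have hc : ((G ◁ pr) ≫ a.act) ≫ φ = (snd G X' ≫ φ') ≫ g := by
    rw [Category.assoc, hinv, whiskerLeft_snd_assoc, Category.assoc, hpb.w]
  obtain ⟨act, hact1, hact2⟩ : ∃ act : G ⊗ X' ⟶ X', act ≫ pr = (G ◁ pr) ≫ a.act ∧
      act ≫ φ' = snd G X' ≫ φ' := ⟨hpb.lift _ _ hc, hpb.lift_fst _ _ _, hpb.lift_snd _ _ _⟩
  have hact2' : act ≫ φ' = (G ◁ φ') ≫ (AlgGrp.Action.trivial G Y').act := by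
    rw [hact2]
    exact (whiskerLeft_snd _ _).symm
  refine ⟨actionOfJointlyMono pr φ' (fun u v h1 h2 => hpb.hom_ext h1 h2) a
    (AlgGrp.Action.trivial G Y') act hact1 hact2', hact1, ?_⟩
  show act ≫ φ' = snd G X' ≫ φ'
  exact hact2

/-- base change of a universal categorical quotient -/
theorem univCatQuot_baseChange {X Y X' Y' : Over S} {a : AlgGrp.Action G X} {φ : X ⟶ Y}
    (h : GIT.IsUnivCatQuot a φ) (pr : X' ⟶ X) (φ' : X' ⟶ Y') (g : Y' ⟶ Y)
    (hpb : IsPullback pr φ' φ g) (a' : AlgGrp.Action G X')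
    (ha' : a'.act ≫ pr = (G ◁ pr) ≫ a.act) (hinv' : GIT.IsInvariant a' φ') :
    GIT.IsUnivCatQuot a' φ' := by
  refine ⟨h.2 pr φ' g trivial hpb a' ha' hinv', ?_⟩
  intro X'' Y'' pr' φ'' g' _ hpb' a'' ha'' hinv''
  refine h.2 (pr' ≫ pr) φ'' (g' ≫ g) trivial (hpb'.paste_horiz hpb) a'' ?_ hinv''
  rw [← Category.assoc, ha'', Category.assoc, ha', MonoidalCategory.whiskerLeft_comp,
    Category.assoc]

theorem over_hom_ext_of_isEmpty {A B : Over S} (hA : IsEmpty A.left) (f g : A ⟶ B) : f = g := by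
  haveI := hA
  exact Over.OverMorphism.ext ((isInitialOfIsEmpty (X := A.left)).hom_ext _ _)

theorem exists_two_maps (Y' : Over S) (hne : Nonempty Y'.left) :
    ∃ (Z : Over S) (χ₁ χ₂ : Y' ⟶ Z), χ₁ ≠ χ₂ := by
  obtain ⟨y'⟩ := hne
  refine ⟨Over.mk (coprod.desc (Y'.hom : Y'.left ⟶ S) (Y'.hom : Y'.left ⟶ S)),
    Over.homMk coprod.inl (coprod.inl_desc _ _), Over.homMk coprod.inr (coprod.inr_desc _ _), ?_⟩
  intro e
  have e3 : (coprod.inl : Y'.left ⟶ Y'.left ⨿ Y'.left) = coprod.inr :=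
    congrArg CommaMorphism.left e
  exact inl_ne_inr _ _ y' y' (by rw [e3])

/-- every nonempty `Y'` over `Y` meets the image of a universal categorical quotient -/
theorem exists_point_of_univCatQuot {X Y Y' : Over S} {a : AlgGrp.Action G X} {φ : X ⟶ Y}
    (h : GIT.IsUnivCatQuot a φ) (g : Y' ⟶ Y) (hne : Nonempty Y'.left) :
    ∃ (x : X.left) (y' : Y'.left), φ.left.base x = g.left.base y' := by
  by_contra hcon
  push Not at hcon
  have hpb := IsPullback.of_hasPullback φ g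
  have hpbL : IsPullback (pullback.fst φ g).left (pullback.snd φ g).left φ.left g.left :=
    hpb.map (Over.forget S)
  have hE : IsEmpty (pullback φ g).left := ⟨fun z =>
    hcon ((pullback.fst φ g).left.base z) ((pullback.snd φ g).left.base z) (by
      have := congrArg (fun t : (pullback φ g).left ⟶ Y.left => t.base z) hpbL.w
      exact this)⟩
  have hE2 : IsEmpty (G ⊗ pullback φ g).left :=
    ⟨fun z => hE.false ((snd G (pullback φ g)).left.base z)⟩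
  obtain ⟨a', ha', hinv'⟩ := exists_action_baseChange a φ h.1.1 _ _ g hpb
  have hc := h.2 _ _ g trivial hpb a' ha' hinv'
  obtain ⟨Z, χ₁, χ₂, hχ⟩ := exists_two_maps Y' hne
  have hψ : GIT.IsInvariant a' (pullback.snd φ g ≫ χ₁) := over_hom_ext_of_isEmpty hE2 _ _
  obtain ⟨χ, -, huniq⟩ := hc.2 Z _ hψ
  have e1 : χ₁ = χ := huniq χ₁ rfl
  have e2 : χ₂ = χ := huniq χ₂ (over_hom_ext_of_isEmpty hE _ _)
  exact hχ (e1.trans e2.symm)

theorem surjective_of_univCatQuot {X Y : Over S} {a : AlgGrp.Action G X} {φ : X ⟶ Y}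
    (h : GIT.IsUnivCatQuot a φ) : Function.Surjective φ.left.base := by
  intro y
  obtain ⟨x, y', hxy⟩ := exists_point_of_univCatQuot h
    (Y' := Over.mk (Y.left.fromSpecResidueField y ≫ Y.hom))
    (Over.homMk (Y.left.fromSpecResidueField y) rfl)
    ⟨(IsLocalRing.closedPoint (Y.left.residueField y) : PrimeSpectrum (Y.left.residueField y))⟩
  refine ⟨x, hxy.trans ?_⟩
  exact Scheme.fromSpecResidueField_apply y y'

/-! ### the affine line -/

/-- the affine line over `S` -/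
def A1 (S : Scheme.{u}) : Over S := Over.mk (𝔸(PUnit.{u+1}; S) ↘ S)

def mor {T : Over S} (s : Γ(T.left, ⊤)) : T ⟶ A1 S :=
  Over.homMk (AffineSpace.homOfVector T.hom (fun _ => s)) (AffineSpace.homOfVector_over _ _)

def sec {T : Over S} (χ : T ⟶ A1 S) : Γ(T.left, ⊤) :=
  χ.left.appTop (AffineSpace.coord S PUnit.unit)

theorem sec_mor {T : Over S} (s : Γ(T.left, ⊤)) : sec (mor s) = s :=
  AffineSpace.homOfVector_appTop_coord _ _ _

theorem sec_comp {T' T : Over S} (f : T' ⟶ T) (χ : T ⟶ A1 S) :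
    sec (f ≫ χ) = f.left.appTop (sec χ) := rfl

theorem sec_injective {T : Over S} (χ₁ χ₂ : T ⟶ A1 S) (h : sec χ₁ = sec χ₂) : χ₁ = χ₂ := by
  apply Over.OverMorphism.ext
  apply AffineSpace.hom_ext
  · exact (Over.w χ₁).trans (Over.w χ₂).symm
  · intro i
    cases i
    exact h

/-- functions on the base of a base change of a universal categorical quotient -/
theorem functions_of_univCatQuot {X Y X' Y' : Over S} {a : AlgGrp.Action G X} {φ : X ⟶ Y}
    (h : GIT.IsUnivCatQuot a φ) (pr : X' ⟶ X) (φ' : X' ⟶ Y') (g : Y' ⟶ Y)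
    (hpb : IsPullback pr φ' φ g) :
    (∀ t₁ t₂ : Γ(Y'.left, ⊤), φ'.left.appTop t₁ = φ'.left.appTop t₂ → t₁ = t₂) ∧
    ∃ a' : AlgGrp.Action G X', a'.act ≫ pr = (G ◁ pr) ≫ a.act ∧
      ∀ f' : Γ(X'.left, ⊤), a'.act.left.appTop f' = (snd G X').left.appTop f' →
        ∃ t, φ'.left.appTop t = f' := by
  obtain ⟨a', ha', hinv'⟩ := exists_action_baseChange a φ h.1.1 pr φ' g hpb
  have hc := h.2 pr φ' g trivial hpb a' ha' hinv'
  have hinv'' : a'.act ≫ φ' = snd G X' ≫ φ' := hinv'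
  refine ⟨?_, a', ha', ?_⟩
  · intro t₁ t₂ ht
    have hψ : GIT.IsInvariant a' (φ' ≫ mor t₁) := by
      show a'.act ≫ φ' ≫ mor t₁ = snd G X' ≫ φ' ≫ mor t₁
      rw [← Category.assoc, hinv'', Category.assoc]
    obtain ⟨χ, -, huniq⟩ := hc.2 (A1 S) _ hψ
    have e1 := huniq (mor t₁) rfl
    have e2 := huniq (mor t₂) (sec_injective _ _ (by
      rw [sec_comp, sec_comp, sec_mor, sec_mor]
      exact ht.symm))
    have := congrArg sec (e1.trans e2.symm)
    rwa [sec_mor, sec_mor] at this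
  · intro f' hf'
    have hψ : GIT.IsInvariant a' (mor f') := sec_injective _ _ (by
      rw [sec_comp, sec_comp, sec_mor]
      exact hf')
    obtain ⟨χ, hχ, -⟩ := hc.2 (A1 S) _ hψ
    refine ⟨sec χ, ?_⟩
    rw [← sec_comp, hχ, sec_mor]

/-! ### restriction to an open -/

theorem appLE_hom_congr {A B : Scheme.{u}} {k₁ k₂ : A ⟶ B} (hk : k₁ = k₂) (V : B.Opens)
    (W : A.Opens) (e₁ : W ≤ k₁ ⁻¹ᵁ V) (e₂ : W ≤ k₂ ⁻¹ᵁ V) :
    k₁.appLE V W e₁ = k₂.appLE V W e₂ := by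
  subst hk
  rfl

theorem appLE_key {A B C D : Scheme.{u}} (σ : A ⟶ B) (j : C ⟶ A) (α : C ⟶ D) (i₀ : D ⟶ B)
    (hc : j ≫ σ = α ≫ i₀) (V : B.Opens) (W : A.Opens) (h₁ : W ≤ σ ⁻¹ᵁ V) (h₃ : ⊤ ≤ j ⁻¹ᵁ W)
    (h₄ : ⊤ ≤ i₀ ⁻¹ᵁ V) (f : Γ(B, V)) :
    j.appLE W ⊤ h₃ (σ.appLE V W h₁ f) = α.appTop (i₀.appLE V ⊤ h₄ f) := by
  have h₅ : (⊤ : C.Opens) ≤ α ⁻¹ᵁ ⊤ := le_rfl
  have e1 := Scheme.Hom.appLE_comp_appLE j σ V W ⊤ h₁ h₃
  have e2 := Scheme.Hom.appLE_comp_appLE α i₀ V ⊤ ⊤ h₄ h₅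
  have e3 : α.appLE ⊤ ⊤ h₅ = α.appTop := Scheme.Hom.appLE_eq_app α (U := ⊤)
  have e4 := appLE_hom_congr hc V ⊤ (h₃.trans ((Opens.map j.base).map (homOfLE h₁)).le)
    (h₅.trans ((Opens.map α.base).map (homOfLE h₄)).le)
  calc j.appLE W ⊤ h₃ (σ.appLE V W h₁ f)
      = (σ.appLE V W h₁ ≫ j.appLE W ⊤ h₃) f := rfl
    _ = (i₀.appLE V ⊤ h₄ ≫ α.appLE ⊤ ⊤ h₅) f := by rw [e1, e2, e4]
    _ = α.appTop (i₀.appLE V ⊤ h₄ f) := by rw [← e3]; rfl

theorem bijective_ι_appLE {X : Scheme.{u}} (V : X.Opens) (e : ⊤ ≤ V.ι ⁻¹ᵁ V) :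
    Function.Bijective (V.ι.appLE V ⊤ e) := by
  have hI : IsIso (V.ι.appLE V ⊤ e) := by
    rw [Scheme.Opens.ι_appLE]
    have h1 : V.ι ''ᵁ ⊤ = V := Scheme.Opens.ι_image_top V
    have : IsIso (homOfLE (x := V.ι ''ᵁ ⊤) (y := V) h1.le) :=
      ⟨⟨homOfLE h1.ge, Subsingleton.elim _ _, Subsingleton.elim _ _⟩⟩
    exact Functor.map_isIso X.presheaf (homOfLE (x := V.ι ''ᵁ ⊤) (y := V) h1.le).op
  exact ConcreteCategory.bijective_of_isIso _

/-- an open of `Y` as an object over `S` -/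
abbrev YU (Y : Over S) (U : Y.left.Opens) : Over S := Over.mk (U.ι ≫ Y.hom)

abbrev gU (Y : Over S) (U : Y.left.Opens) : YU Y U ⟶ Y := Over.homMk U.ι rfl

def φU {X Y : Over S} (φ : X ⟶ Y) (U : Y.left.Opens) : YU X (φ.left ⁻¹ᵁ U) ⟶ YU Y U :=
  Over.homMk (φ.left ∣_ U) (by
    show (φ.left ∣_ U) ≫ U.ι ≫ Y.hom = (φ.left ⁻¹ᵁ U).ι ≫ X.hom
    rw [← Category.assoc, morphismRestrict_ι, Category.assoc, Over.w φ])

theorem φU_left {X Y : Over S} (φ : X ⟶ Y) (U : Y.left.Opens) :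
    (φU φ U).left = φ.left ∣_ U := rfl

theorem isPullback_U {X Y : Over S} (φ : X ⟶ Y) (U : Y.left.Opens) :
    IsPullback (gU X (φ.left ⁻¹ᵁ U)) (φU φ U) φ (gU Y U) :=
  IsPullback.of_map (Over.forget S)
    (Over.OverMorphism.ext (morphismRestrict_ι φ.left U).symm)
    (isPullback_morphismRestrict φ.left U).flip

theorem sections_of_univCatQuot {X Y : Over S} {a : AlgGrp.Action G X} {φ : X ⟶ Y}
    (h : GIT.IsUnivCatQuot a φ) (U : Y.left.Opens) :
    Function.Injective (φ.left.app U) ∧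
      Set.range (φ.left.app U) = {f | GIT.IsInvSection a φ U f} := by
  have hinv : a.act.left ≫ φ.left = (snd G X).left ≫ φ.left := h.1.1.left
  obtain ⟨hA, a', ha', hB⟩ := functions_of_univCatQuot h (gU X (φ.left ⁻¹ᵁ U)) (φU φ U) (gU Y U)
    (isPullback_U φ U)
  have eY : ⊤ ≤ U.ι ⁻¹ᵁ U := (Scheme.Opens.ι_preimage_self U).ge
  have eX : ⊤ ≤ (φ.left ⁻¹ᵁ U).ι ⁻¹ᵁ (φ.left ⁻¹ᵁ U) :=
    (Scheme.Opens.ι_preimage_self (φ.left ⁻¹ᵁ U)).ge
  have hsq : ∀ s : Γ(Y.left, U), (φ.left ⁻¹ᵁ U).ι.appLE (φ.left ⁻¹ᵁ U) ⊤ eX (φ.left.app U s) =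
      (φU φ U).left.appTop (U.ι.appLE U ⊤ eY s) := by
    intro s
    rw [Scheme.Hom.app_eq_appLE]
    exact appLE_key φ.left (φ.left ⁻¹ᵁ U).ι (φU φ U).left U.ι (morphismRestrict_ι φ.left U).symm
      U (φ.left ⁻¹ᵁ U) le_rfl eX eY s
  have hσ : (G ◁ gU X (φ.left ⁻¹ᵁ U)).left ≫ a.act.left = a'.act.left ≫ (φ.left ⁻¹ᵁ U).ι := by
    have := congrArg CommaMorphism.left ha'
    exact this.symm
  have hp : (G ◁ gU X (φ.left ⁻¹ᵁ U)).left ≫ (snd G X).left =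
      (snd G (YU X (φ.left ⁻¹ᵁ U))).left ≫ (φ.left ⁻¹ᵁ U).ι :=
    whisk_snd_left G (gU X (φ.left ⁻¹ᵁ U))
  have hmemV : ∀ w : (YU X (φ.left ⁻¹ᵁ U)).left, (φ.left ⁻¹ᵁ U).ι.base w ∈ φ.left ⁻¹ᵁ U := by
    intro w
    have : (φ.left ⁻¹ᵁ U).ι.base w ∈ Set.range (φ.left ⁻¹ᵁ U).ι.base := ⟨w, rfl⟩
    rw [Scheme.Opens.range_ι] at this
    exact this
  have h₃ : ⊤ ≤ (G ◁ gU X (φ.left ⁻¹ᵁ U)).left ⁻¹ᵁ
      (a.act.left ⁻¹ᵁ (φ.left ⁻¹ᵁ U) ⊓ (snd G X).left ⁻¹ᵁ (φ.left ⁻¹ᵁ U)) := by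
    intro z _
    refine ⟨?_, ?_⟩
    · show a.act.left.base ((G ◁ gU X (φ.left ⁻¹ᵁ U)).left.base z) ∈ φ.left ⁻¹ᵁ U
      have e := congrArg (fun t : (G ⊗ YU X (φ.left ⁻¹ᵁ U)).left ⟶ X.left => t.base z) hσ
      have e' : a.act.left.base ((G ◁ gU X (φ.left ⁻¹ᵁ U)).left.base z) =
          (φ.left ⁻¹ᵁ U).ι.base (a'.act.left.base z) := e
      rw [e']
      exact hmemV _
    · show (snd G X).left.base ((G ◁ gU X (φ.left ⁻¹ᵁ U)).left.base z) ∈ φ.left ⁻¹ᵁ U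
      have e := congrArg (fun t : (G ⊗ YU X (φ.left ⁻¹ᵁ U)).left ⟶ X.left => t.base z) hp
      have e' : (snd G X).left.base ((G ◁ gU X (φ.left ⁻¹ᵁ U)).left.base z) =
          (φ.left ⁻¹ᵁ U).ι.base ((snd G (YU X (φ.left ⁻¹ᵁ U))).left.base z) := e
      rw [e']
      exact hmemV _
  refine ⟨?_, ?_⟩
  · intro s₁ s₂ hs
    apply (bijective_ι_appLE U eY).1
    apply hA
    rw [← hsq, ← hsq, hs]
  · apply Set.Subset.antisymm
    · rintro _ ⟨s, rfl⟩
      show GIT.IsInvSection a φ U (φ.left.app U s)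
      unfold GIT.IsInvSection
      rw [Scheme.Hom.app_eq_appLE]
      have e1 := Scheme.Hom.appLE_comp_appLE a.act.left φ.left U (φ.left ⁻¹ᵁ U)
        (a.act.left ⁻¹ᵁ (φ.left ⁻¹ᵁ U) ⊓ (snd G X).left ⁻¹ᵁ (φ.left ⁻¹ᵁ U)) le_rfl inf_le_left
      have e2 := Scheme.Hom.appLE_comp_appLE (snd G X).left φ.left U (φ.left ⁻¹ᵁ U)
        (a.act.left ⁻¹ᵁ (φ.left ⁻¹ᵁ U) ⊓ (snd G X).left ⁻¹ᵁ (φ.left ⁻¹ᵁ U)) le_rfl inf_le_right
      have e3 := appLE_hom_congr hinv U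
        (a.act.left ⁻¹ᵁ (φ.left ⁻¹ᵁ U) ⊓ (snd G X).left ⁻¹ᵁ (φ.left ⁻¹ᵁ U))
        (inf_le_left.trans ((Opens.map a.act.left.base).map (homOfLE le_rfl)).le)
        (inf_le_right.trans ((Opens.map (snd G X).left.base).map (homOfLE le_rfl)).le)
      calc a.act.left.appLE (φ.left ⁻¹ᵁ U) _ inf_le_left (φ.left.appLE U (φ.left ⁻¹ᵁ U) le_rfl s)
          = (φ.left.appLE U (φ.left ⁻¹ᵁ U) le_rfl ≫ a.act.left.appLE (φ.left ⁻¹ᵁ U) _ inf_le_left) s :=
            rfl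
        _ = (φ.left.appLE U (φ.left ⁻¹ᵁ U) le_rfl ≫
              (snd G X).left.appLE (φ.left ⁻¹ᵁ U) _ inf_le_right) s := by rw [e1, e2, e3]
        _ = _ := rfl
    · intro f hf
      have hf0 : a.act.left.appLE (φ.left ⁻¹ᵁ U)
          (a.act.left ⁻¹ᵁ (φ.left ⁻¹ᵁ U) ⊓ (snd G X).left ⁻¹ᵁ (φ.left ⁻¹ᵁ U)) inf_le_left f =
          (snd G X).left.appLE (φ.left ⁻¹ᵁ U)
          (a.act.left ⁻¹ᵁ (φ.left ⁻¹ᵁ U) ⊓ (snd G X).left ⁻¹ᵁ (φ.left ⁻¹ᵁ U)) inf_le_right f := hf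
      have k1 := appLE_key a.act.left (G ◁ gU X (φ.left ⁻¹ᵁ U)).left a'.act.left (φ.left ⁻¹ᵁ U).ι hσ
        (φ.left ⁻¹ᵁ U) _ inf_le_left h₃ eX f
      have k2 := appLE_key (snd G X).left (G ◁ gU X (φ.left ⁻¹ᵁ U)).left
        (snd G (YU X (φ.left ⁻¹ᵁ U))).left (φ.left ⁻¹ᵁ U).ι hp
        (φ.left ⁻¹ᵁ U) _ inf_le_right h₃ eX f
      have hf' : a'.act.left.appTop ((φ.left ⁻¹ᵁ U).ι.appLE (φ.left ⁻¹ᵁ U) ⊤ eX f) =
          (snd G (YU X (φ.left ⁻¹ᵁ U))).left.appTop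
            ((φ.left ⁻¹ᵁ U).ι.appLE (φ.left ⁻¹ᵁ U) ⊤ eX f) := by
        rw [← k1, ← k2, hf0]
      obtain ⟨t, ht⟩ := hB _ hf'
      obtain ⟨s, rfl⟩ := (bijective_ι_appLE U eY).2 t
      refine ⟨s, (bijective_ι_appLE (φ.left ⁻¹ᵁ U) eX).1 ?_⟩
      rw [hsq]
      exact ht

/-! ### the orbit map under base change -/

theorem surjective_psiY_baseChange {X Y X' Y' : Over S} (a : AlgGrp.Action G X) (φ : X ⟶ Y)
    (hinv : GIT.IsInvariant a φ) (pr : X' ⟶ X) (φ' : X' ⟶ Y') (g : Y' ⟶ Y)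
    (hpb : IsPullback pr φ' φ g) (a' : AlgGrp.Action G X')
    (ha' : a'.act ≫ pr = (G ◁ pr) ≫ a.act) (hinv' : GIT.IsInvariant a' φ')
    (ho : Function.Surjective (GIT.PsiY a φ hinv).base) :
    Function.Surjective (GIT.PsiY a' φ' hinv').base := by
  have hpbL : IsPullback pr.left φ'.left φ.left g.left := hpb.map (Over.forget S)
  have hbig : IsPullback (pullback.fst φ'.left φ'.left ≫ pr.left) (pullback.snd φ'.left φ'.left)
      φ.left (pr.left ≫ φ.left) := by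
    have h1 : IsPullback (pullback.fst φ'.left φ'.left) (pullback.snd φ'.left φ'.left)
        φ'.left φ'.left := IsPullback.of_hasPullback _ _
    have h2 := h1.paste_horiz hpbL
    rw [← hpbL.w] at h2
    exact h2
  have he1 : hbig.isoPullback.hom ≫ pullback.fst φ.left (pr.left ≫ φ.left) =
      pullback.fst φ'.left φ'.left ≫ pr.left := hbig.isoPullback_hom_fst
  have he2 : hbig.isoPullback.hom ≫ pullback.snd φ.left (pr.left ≫ φ.left) =
      pullback.snd φ'.left φ'.left := hbig.isoPullback_hom_snd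
  have hact : a'.act.left ≫ pr.left = (G ◁ pr).left ≫ a.act.left := by
    rw [← Over.comp_left, ← Over.comp_left, ha']
  have hcomp : GIT.PsiY a' φ' hinv' ≫ hbig.isoPullback.hom = psi' a φ hinv pr := by
    apply pullback.hom_ext
    · rw [Category.assoc, he1, psi'_fst, ← Category.assoc, psiY_fst, hact]
    · rw [Category.assoc, he2, psi'_snd, psiY_snd]
  have hs' := surjective_psi' a φ hinv pr ho
  have h5 : ∀ v, hbig.isoPullback.inv.base (hbig.isoPullback.hom.base v) = v := fun v => by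
    have := congrArg (fun t : pullback φ'.left φ'.left ⟶ pullback φ'.left φ'.left => t.base v)
      hbig.isoPullback.hom_inv_id
    exact this
  intro w
  obtain ⟨z, hz⟩ := hs' (hbig.isoPullback.hom.base w)
  refine ⟨z, ?_⟩
  have h3 : hbig.isoPullback.hom.base ((GIT.PsiY a' φ' hinv').base z) =
      hbig.isoPullback.hom.base w := by
    have := congrArg (fun t : (G ⊗ X').left ⟶ pullback φ.left (pr.left ≫ φ.left) => t.base z) hcomp
    exact this.trans hz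
  rw [← h5 ((GIT.PsiY a' φ' hinv').base z), ← h5 w, h3]

theorem main11446 (S : Scheme.{u}) (G X Y : Over S) [GrpObj G]
    (a : AlgGrp.Action G X) (φ : X ⟶ Y) (h : GIT.IsUnivCatQuot a φ) :
    Function.Surjective φ.left.base ∧
      (∀ U : Y.left.Opens,
        Function.Injective (φ.left.app U) ∧ Set.range (φ.left.app U) = {f | GIT.IsInvSection a φ U f}) ∧
      (GIT.IsUnivGeomQuot a φ ↔
        GIT.IsUnivSubmersive φ.left ∧ Function.Surjective (GIT.PsiY a φ h.1.1).base) := by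
  refine ⟨surjective_of_univCatQuot h, sections_of_univCatQuot h,
    ⟨fun hg => ⟨hg.1.subm, hg.1.orbit⟩, ?_⟩⟩
  rintro ⟨hs, ho⟩
  refine ⟨⟨h.1.1, surjective_of_univCatQuot h, ho, hs, sections_of_univCatQuot h⟩, ?_⟩
  intro X' Y' pr φ' g _ hpb a' ha' hinv'
  have h' := univCatQuot_baseChange h pr φ' g hpb a' ha' hinv'
  have hpbL : IsPullback pr.left φ'.left φ.left g.left := hpb.map (Over.forget S)
  exact ⟨hinv', surjective_of_univCatQuot h',
    surjective_psiY_baseChange a φ h.1.1 pr φ' g hpb a' ha' hinv' ho,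
    MorphismProperty.of_isPullback (P := (topologically @Topology.IsQuotientMap).universally)
      hpbL hs, sections_of_univCatQuot h'⟩

end

end Groth.Agent.Lib.Helper29.UnivCatQuot
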