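import Mathlib
import Groth.Prelude.Def_ProEtS
import Groth.Prelude.Def_PBC
import Groth.Prelude.Def_EtModW
import Groth.Prelude.Def_ARSys
import Groth.Agent.S14017
import Groth.Agent.Lib.Helper21.WCQuot
import Groth.Agent.Lib.Helper29.Main7286
import Groth.Agent.Lib.Helper29.ProEtWC
import Groth.Agent.Lib.Helper29.AdicShriek1
import Groth.Agent.Lib.Helper29.AdicLim1
import Groth.Agent.Lib.Helper29.AdicLim2

/-!
# `lim ε⁻¹` is right exact on short exact sequences whose kernel is adic up to translation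
(helper29, S14012)
-/

set_option autoImplicit false
set_option linter.style.haveILetI false
set_option linter.unusedSectionVars false
set_option maxHeartbeats 1600000

universe w u

open CategoryTheory CategoryTheory.Limits AlgebraicGeometry Opposite

namespace Groth.Agent.Lib.Helper29.WS14012

section Mod

variable {Λ : Type w} [CommRing Λ]

/-- transition maps of an inverse system of modules -/
abbrev tt (D : ℕᵒᵖ ⥤ ModuleCat.{w} Λ) {a b : ℕ} (h : a ≤ b) :
    ↑(D.obj (op b)) →ₗ[Λ] ↑(D.obj (op a)) := (D.map (homOfLE h).op).hom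

lemma tt_comp (D : ℕᵒᵖ ⥤ ModuleCat.{w} Λ) {a b c : ℕ} (h : a ≤ b) (h' : b ≤ c)
    (z : D.obj (op c)) : tt D h (tt D h' z) = tt D (h.trans h') z := by
  have e : D.map (homOfLE (h.trans h')).op = D.map (homOfLE h').op ≫ D.map (homOfLE h).op := by
    rw [← D.map_comp, ← op_comp, homOfLE_comp]
  show (D.map (homOfLE h).op).hom ((D.map (homOfLE h').op).hom z) =
    (D.map (homOfLE (h.trans h')).op).hom z
  rw [e]
  rfl

lemma tt_refl (D : ℕᵒᵖ ⥤ ModuleCat.{w} Λ) (a : ℕ) (z : D.obj (op a)) :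
    tt D (le_refl a) z = z := by
  have e : (homOfLE (le_refl a)).op = 𝟙 (op a) := rfl
  show (D.map (homOfLE (le_refl a)).op).hom z = z
  rw [e, D.map_id]
  rfl

lemma tt_nat {D₂ D₃ : ℕᵒᵖ ⥤ ModuleCat.{w} Λ} (g : D₂ ⟶ D₃) {a b : ℕ} (h : a ≤ b)
    (z : D₂.obj (op b)) :
    (g.app (op a)).hom (tt D₂ h z) = tt D₃ h ((g.app (op b)).hom z) := by
  have e := congrArg (fun φ => φ.hom z) (g.naturality (homOfLE h).op)
  exact e

theorem lim_surj (D₂ D₃ : ℕᵒᵖ ⥤ ModuleCat.{w} Λ) (g : D₂ ⟶ D₃)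
    (c₂ : Cone D₂) (hc₂ : IsLimit c₂) (c₃ : Cone D₃) (hc₃ : IsLimit c₃)
    (G : c₂.pt ⟶ c₃.pt)
    (hG : ∀ (n : ℕ) (x : c₂.pt), (c₃.π.app (op n)).hom (G.hom x) =
      (g.app (op n)).hom ((c₂.π.app (op n)).hom x))
    (hsurj : ∀ n : ℕ, Function.Surjective (g.app (op n)).hom)
    (A' : ∀ n : ℕ, Submodule Λ (D₂.obj (op n)))
    (hA' : ∀ (n : ℕ) (a : D₂.obj (op n)), a ∈ A' n → (g.app (op n)).hom a = 0)
    (r : ℕ)
    (hr : ∀ (n : ℕ) (z : D₂.obj (op (n + r))), (g.app (op (n + r))).hom z = 0 →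
      tt D₂ (Nat.le_add_right n r) z ∈ A' n)
    (hs : ∀ (n : ℕ) (a : D₂.obj (op n)), a ∈ A' n →
      ∃ a' : D₂.obj (op (n + 1)), a' ∈ A' (n + 1) ∧ tt D₂ (Nat.le_succ n) a' = a) :
    Function.Surjective G.hom := by
  classical
  intro y
  let c : ∀ n : ℕ, D₃.obj (op n) := fun n => (c₃.π.app (op n)).hom y
  have hc : ∀ (a b : ℕ) (h : a ≤ b), tt D₃ h (c b) = c a := by
    intro a b h
    have e := congrArg (fun φ => φ.hom y) (c₃.w (homOfLE h).op)
    exact e
  choose b0 hb0 using fun n => hsurj n (c n)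
  let b' : ∀ n : ℕ, D₂.obj (op n) := fun n => tt D₂ (Nat.le_add_right n r) (b0 (n + r))
  have hb' : ∀ n, (g.app (op n)).hom (b' n) = c n := by
    intro n
    show (g.app (op n)).hom (tt D₂ (Nat.le_add_right n r) (b0 (n + r))) = c n
    rw [tt_nat, hb0, hc]
  let d : ∀ n : ℕ, D₂.obj (op n) := fun n => tt D₂ (Nat.le_succ n) (b' (n + 1)) - b' n
  have hd : ∀ n, d n ∈ A' n := by
    intro n
    have h1 : n + r ≤ n + 1 + r := by omega
    let z : D₂.obj (op (n + r)) := tt D₂ h1 (b0 (n + 1 + r)) - b0 (n + r)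
    have hz : (g.app (op (n + r))).hom z = 0 := by
      show (g.app (op (n + r))).hom (tt D₂ h1 (b0 (n + 1 + r)) - b0 (n + r)) = 0
      rw [map_sub, tt_nat, hb0, hb0, hc, sub_self]
    have h2 := hr n z hz
    have h3 : tt D₂ (Nat.le_add_right n r) z = d n := by
      show tt D₂ (Nat.le_add_right n r) (tt D₂ h1 (b0 (n + 1 + r)) - b0 (n + r)) =
        tt D₂ (Nat.le_succ n) (tt D₂ (Nat.le_add_right (n + 1) r) (b0 (n + 1 + r))) -
          tt D₂ (Nat.le_add_right n r) (b0 (n + r))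
      rw [map_sub, tt_comp, tt_comp]
    rw [← h3]
    exact h2
  let e : ∀ n : ℕ, {x : D₂.obj (op n) // x ∈ A' n} := fun n =>
    Nat.rec (motive := fun n => {x : D₂.obj (op n) // x ∈ A' n}) ⟨0, (A' 0).zero_mem⟩
      (fun n en => ⟨Classical.choose (hs n (en.1 - d n) ((A' n).sub_mem en.2 (hd n))),
        (Classical.choose_spec (hs n (en.1 - d n) ((A' n).sub_mem en.2 (hd n)))).1⟩) n
  have he : ∀ n, tt D₂ (Nat.le_succ n) (e (n + 1)).1 = (e n).1 - d n := fun n =>
    (Classical.choose_spec (hs n ((e n).1 - d n) ((A' n).sub_mem (e n).2 (hd n)))).2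
  let b : ∀ n : ℕ, D₂.obj (op n) := fun n => b' n + (e n).1
  have hbs : ∀ n, tt D₂ (Nat.le_succ n) (b (n + 1)) = b n := by
    intro n
    show tt D₂ (Nat.le_succ n) (b' (n + 1) + (e (n + 1)).1) = b' n + (e n).1
    rw [map_add, he]
    show tt D₂ (Nat.le_succ n) (b' (n + 1)) +
      ((e n).1 - (tt D₂ (Nat.le_succ n) (b' (n + 1)) - b' n)) = b' n + (e n).1
    abel
  have hbk : ∀ (a k : ℕ), tt D₂ (Nat.le_add_right a k) (b (a + k)) = b a := by
    intro a k
    induction k with
    | zero => exact tt_refl D₂ a (b a)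
    | succ k ih =>
      have h1 : a + k ≤ a + (k + 1) := by omega
      have h2 : tt D₂ h1 (b (a + (k + 1))) = b (a + k) := hbs (a + k)
      calc tt D₂ (Nat.le_add_right a (k + 1)) (b (a + (k + 1)))
          = tt D₂ (Nat.le_add_right a k) (tt D₂ h1 (b (a + (k + 1)))) :=
            (tt_comp D₂ (Nat.le_add_right a k) h1 _).symm
        _ = tt D₂ (Nat.le_add_right a k) (b (a + k)) := by rw [h2]
        _ = b a := ih
  have hbg : ∀ (a m : ℕ) (h : a ≤ m), tt D₂ h (b m) = b a := by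
    intro a m h
    obtain ⟨k, rfl⟩ := Nat.exists_eq_add_of_le h
    exact hbk a k
  have hlim := isLimitOfPreserves (forget (ModuleCat.{w} Λ)) hc₂
  have hcompat : (fun j : ℕᵒᵖ => b j.unop) ∈ (D₂ ⋙ forget (ModuleCat.{w} Λ)).sections := by
    intro j j' φ
    have e' : φ = (homOfLE φ.unop.le).op := by
      apply Quiver.Hom.unop_inj
      apply Subsingleton.elim
    rw [e']
    exact hbg j'.unop j.unop φ.unop.le
  let sec : (D₂ ⋙ forget (ModuleCat.{w} Λ)).sections := ⟨fun j => b j.unop, hcompat⟩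
  let x : c₂.pt := (Types.isLimitEquivSections hlim).symm sec
  have hx : ∀ m : ℕ, (c₂.π.app (op m)).hom x = b m := fun m =>
    Types.isLimitEquivSections_symm_apply hlim sec (op m)
  refine ⟨x, ?_⟩
  apply Concrete.isLimit_ext D₃ hc₃ (G.hom x) y
  intro j
  induction j using Opposite.rec with
  | _ m =>
    show (c₃.π.app (op m)).hom (G.hom x) = (c₃.π.app (op m)).hom y
    rw [hG m x, hx m]
    show (g.app (op m)).hom (b' m + (e m).1) = c m
    rw [map_add, hb', hA' m _ (e m).2, add_zero]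

end Mod

section Sh

variable (Λ : Type (u + 1)) [CommRing Λ]

open Groth.Agent.Lib.Helper29.AdicShriek1 Groth.Agent.Lib.Helper29.AdicLim2

set_option backward.isDefEq.respectTransparency.types false in
theorem main14012 [IsNoetherianRing Λ] (I : Ideal Λ)
    (X : Scheme.{u}) [IsNoetherian X] [ProEtS.EpsCont X]
    (S : ShortComplex (ARSys.PS (EtModW.Mod Λ X))) (hS : S.ShortExact)
    (hA : ∃ (Y : ARSys.PS (EtModW.Mod Λ X)) (v : Y ⟶ S.X₁), ARSys.IsAdic I Y ∧ ARSys.IsARIso v) :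
    Epi (limMap (Functor.whiskerRight S.g (EtModW.epsPullMod Λ X))) := by
  obtain ⟨Y, v, hY, hv⟩ := hA
  obtain ⟨r, hr⟩ := hv.2
  have hIfg : ∀ k : ℕ, (I ^ k).FG := fun k => IsNoetherian.noetherian (I ^ k)
  let adj := (ProEtS.eps X).sheafAdjunctionContinuous (ModuleCat.{u + 1} Λ) X.smallEtaleTopology
    (Scheme.ProEt.topology X)
  let L : EtModW.Mod Λ X ⥤ EtModW.ModP Λ X := EtModW.epsPullMod Λ X
  haveI : L.IsLeftAdjoint := adj.isLeftAdjoint
  haveI : PreservesColimitsOfSize.{0, 0} L := adj.leftAdjoint_preservesColimits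
  apply epi_of_surjective_on_wc Λ
  intro V hVa hVw
  haveI := hVa
  have hWC : ProEtS.IsWC V := Groth.Agent.Lib.Helper29.ProEtWC.wc_forward V hVw
  let E : EtModW.ModP Λ X ⥤ ModuleCat.{u + 1} Λ :=
    sheafToPresheaf (Scheme.ProEt.topology X) (ModuleCat.{u + 1} Λ) ⋙
      (evaluation _ _).obj (op V)
  let B' : ℕᵒᵖ ⥤ EtModW.ModP Λ X := S.X₂ ⋙ L
  let C' : ℕᵒᵖ ⥤ EtModW.ModP Λ X := S.X₃ ⋙ L
  let γ : B' ⟶ C' := Functor.whiskerRight S.g L
  -- surjectivity of the components
  have hsurj : ∀ n : ℕ, Function.Surjective ((L.map (S.g.app (op n))).hom.app (op V)).hom := by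
    intro n
    haveI : Epi S.g := hS.epi_g
    haveI : Epi (S.g.app (op n)) := inferInstance
    exact Groth.Agent.Lib.Helper21.WCQuot.surjective_of_epi (Scheme.ProEt.topology X) Λ V hWC
      (L.map (S.g.app (op n))) inferInstance
  -- exactness of the sections of the pulled back sequence
  have hexS : ∀ (m : ℕ) (z : (L.obj (S.X₂.obj (op m))).obj.obj (op V)),
      ((L.map (S.g.app (op m))).hom.app (op V)).hom z = 0 →
      ∃ a : (L.obj (S.X₁.obj (op m))).obj.obj (op V),
        ((L.map (S.f.app (op m))).hom.app (op V)).hom a = z := by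
    intro m z hz
    let Sm : ShortComplex (EtModW.Mod Λ X) :=
      S.map ((evaluation ℕᵒᵖ (EtModW.Mod Λ X)).obj (op m))
    have hSm : Sm.ShortExact := hS.map_of_exact _
    have hL : (Sm.map L).Exact :=
      hSm.exact.map_of_epi_of_preservesCokernel L hSm.epi_g inferInstance
    exact Groth.Agent.Lib.Helper21.WCQuot.exact_sections (Scheme.ProEt.topology X) Λ V hWC
      (Sm.map L) hL z hz
  let φ : ∀ n : ℕ, ↑((L.obj (Y.obj (op n))).obj.obj (op V)) →ₗ[Λ] ↑((B' ⋙ E).obj (op n)) :=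
    fun n => ((L.map (v.app (op n) ≫ S.f.app (op n))).hom.app (op V)).hom
  let A' : ∀ n : ℕ, Submodule Λ ((B' ⋙ E).obj (op n)) := fun n => LinearMap.range (φ n)
  refine lim_surj (B' ⋙ E) (C' ⋙ E) (Functor.whiskerRight γ E)
    (E.mapCone (limit.cone B')) (isLimitOfPreserves E (limit.isLimit B'))
    (E.mapCone (limit.cone C')) (isLimitOfPreserves E (limit.isLimit C'))
    (E.map (limMap γ)) ?_ hsurj A' ?_ r ?_ ?_
  · -- compatibility of the map of limits with the projections
    intro n x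
    have e1 : limMap γ ≫ limit.π C' (op n) = limit.π B' (op n) ≫ γ.app (op n) :=
      limMap_π γ (op n)
    have e2 := congrArg (fun ψ => (ψ.hom.app (op V)).hom x) e1
    exact e2
  · -- `A'` is killed by `g`
    rintro n a ⟨y, rfl⟩
    have e1 : (v.app (op n) ≫ S.f.app (op n)) ≫ S.g.app (op n) = 0 := by
      rw [Category.assoc, ← NatTrans.comp_app, S.zero]
      simp
    have e2 : L.map (v.app (op n) ≫ S.f.app (op n)) ≫ L.map (S.g.app (op n)) = 0 := by
      rw [← L.map_comp, e1, L.map_zero]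
    have e3 := congrArg (fun ψ => (ψ.hom.app (op V)).hom y) e2
    exact e3
  · -- the images of `A` lie in `A'` after `r` steps
    intro n z hz
    obtain ⟨a, rfl⟩ := hexS (n + r) z hz
    let t : (op (n + r) : ℕᵒᵖ) ⟶ op n := (homOfLE (Nat.le_add_right n r)).op
    let q : S.X₁ ⟶ cokernel v := cokernel.π v
    have hq0 : (cokernel v).map t = 0 := hr n
    let T : ShortComplex (ARSys.PS (EtModW.Mod Λ X)) :=
      ShortComplex.mk v q (cokernel.condition v)
    have hT : T.Exact := ShortComplex.exact_cokernel v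
    let Tn : ShortComplex (EtModW.Mod Λ X) :=
      T.map ((evaluation ℕᵒᵖ (EtModW.Mod Λ X)).obj (op n))
    have hTn : Tn.Exact := hT.map _
    haveI : Epi Tn.g := by
      show Epi (q.app (op n))
      infer_instance
    have hLT : (Tn.map L).Exact :=
      hTn.map_of_epi_of_preservesCokernel L inferInstance inferInstance
    have hker : ((L.map (q.app (op n))).hom.app (op V)).hom
        (((L.map (S.X₁.map t)).hom.app (op V)).hom a) = 0 := by
      have e1 : S.X₁.map t ≫ q.app (op n) = q.app (op (n + r)) ≫ (cokernel v).map t :=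
        q.naturality t
      have e2 : L.map (S.X₁.map t) ≫ L.map (q.app (op n)) = 0 := by
        rw [← L.map_comp, e1, hq0, comp_zero, L.map_zero]
      have e3 := congrArg (fun ψ => (ψ.hom.app (op V)).hom a) e2
      exact e3
    obtain ⟨y0, hy0⟩ := Groth.Agent.Lib.Helper21.WCQuot.exact_sections (Scheme.ProEt.topology X)
      Λ V hWC (Tn.map L) hLT _ hker
    let y : ↑((L.obj (Y.obj (op n))).obj.obj (op V)) := y0
    have hy : ((L.map (v.app (op n))).hom.app (op V)).hom y =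
        ((L.map (S.X₁.map t)).hom.app (op V)).hom a := hy0
    refine ⟨y, ?_⟩
    have e4 : L.map (v.app (op n) ≫ S.f.app (op n)) =
        L.map (v.app (op n)) ≫ L.map (S.f.app (op n)) := L.map_comp _ _
    have e5 : L.map (S.f.app (op (n + r))) ≫ L.map (S.X₂.map t) =
        L.map (S.X₁.map t) ≫ L.map (S.f.app (op n)) := by
      rw [← L.map_comp, ← L.map_comp, S.f.naturality]
    have e6 := congrArg (fun ψ => (ψ.hom.app (op V)).hom a) e5
    show ((L.map (v.app (op n) ≫ S.f.app (op n))).hom.app (op V)).hom y = _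
    rw [e4]
    show ((L.map (S.f.app (op n))).hom.app (op V)).hom
      (((L.map (v.app (op n))).hom.app (op V)).hom y) = _
    rw [hy]
    exact e6.symm
  · -- the transition maps of `A'` are surjective
    rintro n a ⟨y, rfl⟩
    let t : (op (n + 1) : ℕᵒᵖ) ⟶ op n := (homOfLE (Nat.le_succ n)).op
    have hq : ARSys.IsQuot (I ^ (n + 1)) (L.map (Y.map t)) :=
      isQuot_map adj (fun a {_ _} f => epsPush_map_smul Λ X a f) (I ^ (n + 1)) (Y.map t)
        (hY.2 n (n + 1) (Nat.le_succ n))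
    obtain ⟨y', hy'⟩ := (Groth.Agent.S14017.result Λ (I ^ (n + 1)) (hIfg (n + 1)) X _ _
      (L.map (Y.map t)) hq V hWC).1 y
    refine ⟨φ (n + 1) y', ⟨y', rfl⟩, ?_⟩
    have e1 : (v.app (op (n + 1)) ≫ S.f.app (op (n + 1))) ≫ S.X₂.map t =
        Y.map t ≫ (v.app (op n) ≫ S.f.app (op n)) := by
      have n1 := S.f.naturality t
      have n2 := v.naturality t
      rw [Category.assoc, ← n1, ← Category.assoc, ← n2, Category.assoc]
    have e2 : L.map (v.app (op (n + 1)) ≫ S.f.app (op (n + 1))) ≫ L.map (S.X₂.map t) =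
        L.map (Y.map t) ≫ L.map (v.app (op n) ≫ S.f.app (op n)) := by
      rw [← L.map_comp, ← L.map_comp, e1]
    have e3 := congrArg (fun ψ => (ψ.hom.app (op V)).hom y') e2
    rw [← hy']
    exact e3

end Sh

end Groth.Agent.Lib.Helper29.WS14012
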