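import Mathlib
import Groth.Agent.Lib.Helper29.WittIso

set_option autoImplicit false

namespace Groth.Agent.Lib.Helper29.WittIso

open MvPolynomial WittVector

section RootClosed

theorem root_closed {A B : Type*} [CommRing A] [IsDomain A] [IsIntegrallyClosed A] [CommRing B]
    [Algebra A B] (s : A) (hs : s ≠ 0) [IsLocalization.Away s B] (z : B) (N : ℕ) (hN : N ≠ 0)
    (hz : z ^ N ∈ (algebraMap A B).range) : z ∈ (algebraMap A B).range := by
  obtain ⟨a₀, ha₀⟩ := hz
  obtain ⟨n, a, hna⟩ := IsLocalization.Away.surj s z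
  have hinj : Function.Injective (algebraMap A B) :=
    IsLocalization.injective B (powers_le_nonZeroDivisors_of_noZeroDivisors hs)
  have h1 : a ^ N = a₀ * (s ^ n) ^ N := by
    apply hinj
    rw [map_pow, ← hna, mul_pow, ← ha₀, map_mul, map_pow, map_pow]
  have h2 : (s ^ n) ^ N ∣ a ^ N := ⟨a₀, by rw [h1, mul_comm]⟩
  obtain ⟨a', ha'⟩ := (IsIntegrallyClosed.pow_dvd_pow_iff hN).mp h2
  refine ⟨a', ?_⟩
  have hunit : IsUnit (algebraMap A B s ^ n) := (IsLocalization.Away.algebraMap_isUnit s).pow n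
  have h3 : algebraMap A B a' * (algebraMap A B s) ^ n = z * (algebraMap A B s) ^ n := by
    rw [hna, ha', map_mul, map_pow, mul_comm]
  exact hunit.mul_left_injective h3

end RootClosed

section Fil

variable (p : ℕ) [hp : Fact p.Prime] {B : Type*} [CommRing B] [CharP B p] (A' : Subring B)
  (hroot : ∀ (z : B) (k : ℕ), z ^ p ^ k ∈ A' → z ∈ A')

include hroot in
theorem mono_mem (m j : ℕ) (hj : j < m) (μ : (Fin 2 × ℕ) →₀ ℕ) (X : Fin 2 × ℕ → B)
    (C : Fin 2 × ℕ → B) (ctot : B)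
    (hX : ∀ v ∈ μ.support, v.2 < m ∧ X v ^ p ^ (m - 1 - v.2) * C v ∈ A')
    (hC : ctot ^ p ^ j = ∏ v ∈ μ.support, C v ^ (p ^ v.2 * μ v)) :
    (∏ v ∈ μ.support, X v ^ μ v) ^ p ^ (m - 1 - j) * ctot ∈ A' := by
  apply hroot _ j
  have key : ((∏ v ∈ μ.support, X v ^ μ v) ^ p ^ (m - 1 - j) * ctot) ^ p ^ j =
      ∏ v ∈ μ.support, (X v ^ p ^ (m - 1 - v.2) * C v) ^ (p ^ v.2 * μ v) := by
    rw [mul_pow, hC, ← pow_mul, ← Finset.prod_pow, ← Finset.prod_mul_distrib]
    apply Finset.prod_congr rfl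
    intro v hv
    have hv2 := (hX v hv).1
    have e1 : p ^ (m - 1 - j) * p ^ j = p ^ (m - 1) := by
      rw [← pow_add]; congr 1; omega
    have e2 : p ^ (m - 1 - v.2) * p ^ v.2 = p ^ (m - 1) := by
      rw [← pow_add]; congr 1; omega
    rw [mul_pow, ← pow_mul, ← pow_mul]
    congr 2
    rw [e1, ← mul_assoc, e2, mul_comm]
  rw [key]
  exact Subring.prod_mem _ (fun v hv => Subring.pow_mem _ (hX v hv).2 _)

theorem aeval_pow_mul_mem (φ : MvPolynomial (Fin 2 × ℕ) ℤ) (X : Fin 2 × ℕ → B) (e : ℕ) (ctot : B)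
    (h : ∀ μ ∈ φ.support, (∏ v ∈ μ.support, X v ^ μ v) ^ p ^ e * ctot ∈ A') :
    (aeval X φ) ^ p ^ e * ctot ∈ A' := by
  rw [aeval_def, eval₂_eq, sum_pow_char_pow, Finset.sum_mul]
  apply Subring.sum_mem
  intro μ hμ
  rw [mul_pow, mul_assoc]
  apply Subring.mul_mem _ _ (h μ hμ)
  apply Subring.pow_mem
  rw [eq_intCast]
  exact intCast_mem _ _

theorem trunc_sub_coeff {m : ℕ} (a b : TruncatedWittVector p m B) (j : Fin m) :
    (a - b).coeff j = aeval (Function.uncurry ![a.out.coeff, b.out.coeff]) (wittSub p j) := by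
  have h1 : a - b = truncateFun m (a.out - b.out) := by
    rw [truncateFun_sub, TruncatedWittVector.truncateFun_out, TruncatedWittVector.truncateFun_out]
  rw [h1, coeff_truncateFun, sub_coeff]; rfl

theorem trunc_mul_coeff {m : ℕ} (a b : TruncatedWittVector p m B) (j : Fin m) :
    (a * b).coeff j = aeval (Function.uncurry ![a.out.coeff, b.out.coeff]) (wittMul p j) := by
  have h1 : a * b = truncateFun m (a.out * b.out) := by
    rw [truncateFun_mul, TruncatedWittVector.truncateFun_out, TruncatedWittVector.truncateFun_out]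
  rw [h1, coeff_truncateFun, mul_coeff]; rfl

include hroot in
theorem fil_sub_mem (m : ℕ) (c : B) (a b : TruncatedWittVector p m B)
    (ha : ∀ j : Fin m, a.coeff j ^ p ^ (m - 1 - (j : ℕ)) * c ∈ A')
    (hb : ∀ j : Fin m, b.coeff j ^ p ^ (m - 1 - (j : ℕ)) * c ∈ A') (j : Fin m) :
    (a - b).coeff j ^ p ^ (m - 1 - (j : ℕ)) * c ∈ A' := by
  rw [trunc_sub_coeff]
  apply aeval_pow_mul_mem p A'
  intro μ hμ
  apply mono_mem p A' hroot m j j.2 μ _ (fun _ => c) c
  · intro v hv
    have hvars : v ∈ (wittSub p j).vars := by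
      rw [mem_vars]; exact ⟨μ, hμ, hv⟩
    have hv' := wittSub_vars p j hvars
    rw [Finset.mem_product, Finset.mem_range] at hv'
    have hlt : v.2 < m := by have := j.2; omega
    refine ⟨hlt, ?_⟩
    obtain ⟨i, l⟩ := v
    fin_cases i
    · have h := ha ⟨l, hlt⟩
      rw [← TruncatedWittVector.coeff_out] at h
      exact h
    · have h := hb ⟨l, hlt⟩
      rw [← TruncatedWittVector.coeff_out] at h
      exact h
  · rw [Finset.prod_pow_eq_pow_sum]
    congr 1
    have hw := wittSub_isobaric p j (mem_support_iff.mp hμ)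
    rw [Finsupp.weight_apply, Finsupp.sum] at hw
    rw [← hw]
    apply Finset.sum_congr rfl
    intro v _
    simp [wt, mul_comm]

include hroot in
theorem fil_mul_mem (m : ℕ) (c₀ c₁ : B) (a b : TruncatedWittVector p m B)
    (ha : ∀ j : Fin m, a.coeff j ^ p ^ (m - 1 - (j : ℕ)) * c₀ ∈ A')
    (hb : ∀ j : Fin m, b.coeff j ^ p ^ (m - 1 - (j : ℕ)) * c₁ ∈ A') (j : Fin m) :
    (a * b).coeff j ^ p ^ (m - 1 - (j : ℕ)) * (c₀ * c₁) ∈ A' := by
  rw [trunc_mul_coeff]
  apply aeval_pow_mul_mem p A'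
  intro μ hμ
  apply mono_mem p A' hroot m j j.2 μ _ (fun v => if v.1 = 0 then c₀ else c₁) (c₀ * c₁)
  · intro v hv
    have hvars : v ∈ (wittMul p j).vars := by
      rw [mem_vars]; exact ⟨μ, hμ, hv⟩
    have hv' := wittMul_vars p j hvars
    rw [Finset.mem_product, Finset.mem_range] at hv'
    have hlt : v.2 < m := by have := j.2; omega
    refine ⟨hlt, ?_⟩
    obtain ⟨i, l⟩ := v
    fin_cases i
    · have h := ha ⟨l, hlt⟩
      rw [← TruncatedWittVector.coeff_out] at h
      exact h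
    · have h := hb ⟨l, hlt⟩
      rw [← TruncatedWittVector.coeff_out] at h
      exact h
  · have hw0 := wittMul_isobaric_left p j (mem_support_iff.mp hμ)
    have hw1 := wittMul_isobaric_right p j (mem_support_iff.mp hμ)
    rw [Finsupp.weight_apply, Finsupp.sum] at hw0 hw1
    have hterm : ∀ v ∈ μ.support, (if v.1 = 0 then c₀ else c₁) ^ (p ^ v.2 * μ v) =
        c₀ ^ (μ v • wt p (fun i : Fin 2 => if i = 0 then 1 else 0) v) *
          c₁ ^ (μ v • wt p (fun i : Fin 2 => if i = 1 then 1 else 0) v) := by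
      intro v _
      by_cases h0 : v.1 = 0
      · simp [wt, h0, mul_comm]
      · have h1 : v.1 = 1 := Fin.eq_one_of_ne_zero v.1 h0
        simp [wt, h1, mul_comm]
    rw [Finset.prod_congr rfl hterm, Finset.prod_mul_distrib, Finset.prod_pow_eq_pow_sum,
      Finset.prod_pow_eq_pow_sum, hw0, hw1, mul_pow]

end Fil

end Groth.Agent.Lib.Helper29.WittIso
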